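import Groth.Statements.S6328
import Mathlib

set_option autoImplicit false
universe u
open CAlg

namespace Groth.Agent.S6328


section

variable {R : Type u} [CommRing R] {M : Type u} [AddCommGroup M] [Module R M]
  {F : Type u} [AddCommGroup F] [Module R F] (b : Module.Basis M R F)

noncomputable abbrev piM : F →ₗ[R] M := b.constr R (id : M → M)

abbrev supp (S : Finset M) : Submodule R F :=
  Submodule.span R (Set.range (fun x : (S : Set M) => b x))

lemma supp_mono {S T : Finset M} (h : S ⊆ T) : supp b S ≤ supp b T := by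
  apply Submodule.span_mono
  rintro _ ⟨x, rfl⟩
  exact ⟨⟨x.1, Finset.coe_subset.mpr h x.2⟩, rfl⟩

def Idx : Type u :=
  {p : Finset M × Submodule R F // p.2.FG ∧ p.2 ≤ supp b p.1 ⊓ LinearMap.ker (piM b)}

instance : Preorder (Idx b) := inferInstanceAs (Preorder (Subtype _))

variable {b}

abbrev Idx.S (i : Idx b) : Submodule R F := supp b i.1.1
abbrev Idx.K (i : Idx b) : Submodule R ↥i.S := i.1.2.comap i.S.subtype
abbrev Gi (i : Idx b) : Type u := ↥i.S ⧸ i.K

lemma Idx.S_mono {i j : Idx b} (h : i ≤ j) : i.S ≤ j.S := supp_mono b h.1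

noncomputable def fij (i j : Idx b) (h : i ≤ j) : Gi i →ₗ[R] Gi j :=
  Submodule.mapQ _ _ (Submodule.inclusion (Idx.S_mono h)) (fun _ hx => h.2 hx)

lemma fij_mk (i j : Idx b) (h : i ≤ j) (x : i.S) :
    fij i j h (Submodule.Quotient.mk x) =
      Submodule.Quotient.mk (Submodule.inclusion (Idx.S_mono h) x) := rfl

instance : DirectedSystem (fun i : Idx b => Gi i) (fun i j h => fij i j h) where
  map_self i x := by
    obtain ⟨x, rfl⟩ := Submodule.Quotient.mk_surjective _ x
    rfl
  map_map k j i hij hjk x := by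
    obtain ⟨x, rfl⟩ := Submodule.Quotient.mk_surjective _ x
    rfl

instance : IsDirected (Idx b) (· ≤ ·) := ⟨fun i j => by
  classical
  exact ⟨⟨(i.1.1 ∪ j.1.1, i.1.2 ⊔ j.1.2), i.2.1.sup j.2.1,
      sup_le (le_trans i.2.2 (inf_le_inf_right _ (supp_mono b Finset.subset_union_left)))
        (le_trans j.2.2 (inf_le_inf_right _ (supp_mono b Finset.subset_union_right)))⟩,
    ⟨Finset.subset_union_left, le_sup_left⟩, ⟨Finset.subset_union_right, le_sup_right⟩⟩⟩

noncomputable def gi (i : Idx b) : Gi i →ₗ[R] M :=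
  Submodule.liftQ i.K ((piM b) ∘ₗ i.S.subtype) (fun _ hx => (i.2.2 hx).2)

lemma gi_mk (i : Idx b) (x : i.S) : gi i (Submodule.Quotient.mk x) = piM b (x : F) := rfl

lemma gi_fij (i j : Idx b) (h : i ≤ j) (x : Gi i) : gi j (fij i j h x) = gi i x := by
  obtain ⟨x, rfl⟩ := Submodule.Quotient.mk_surjective _ x
  rfl

lemma fp (i : Idx b) : Module.FinitePresentation R (Gi i) := by
  have hli : LinearIndependent R (fun x : (i.1.1 : Set M) => b x) :=
    b.linearIndependent.comp (Subtype.val : (i.1.1 : Set M) → M) Subtype.val_injective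
  haveI : Module.Free R ↥i.S := Module.Free.of_basis (Module.Basis.span hli)
  haveI : Module.Finite R ↥i.S := Module.Finite.span_of_finite R (Set.finite_range _)
  refine Module.finitePresentation_of_free_of_surjective (Submodule.mkQ i.K)
    (Submodule.mkQ_surjective _) ?_
  rw [Submodule.ker_mkQ]
  apply Submodule.fg_of_fg_map_injective i.S.subtype (Submodule.injective_subtype _)
  rw [Submodule.map_comap_subtype, inf_eq_right.mpr (le_trans i.2.2 inf_le_left)]
  exact i.2.1

variable (b)

include b in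
theorem mainF : ∃ (ι : Type u) (_ : Preorder ι) (_ : IsDirected ι (· ≤ ·)) (_ : Nonempty ι)
    (_ : DecidableEq ι) (G : ι → Type u) (_ : ∀ i, AddCommGroup (G i)) (_ : ∀ i, Module R (G i))
    (f : ∀ i j, i ≤ j → G i →ₗ[R] G j) (_ : DirectedSystem G fun i j h => f i j h),
    (∀ i, Module.FinitePresentation R (G i)) ∧ Nonempty (Module.DirectLimit G f ≃ₗ[R] M) := by
  classical
  haveI hne : Nonempty (Idx b) := ⟨⟨(∅, ⊥), Submodule.fg_bot, bot_le⟩⟩
  refine ⟨Idx b, inferInstance, inferInstance, hne, Classical.decEq _,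
    fun i => Gi i, fun i => inferInstance, fun i => inferInstance, fun i j h => fij i j h,
    inferInstance, fp, ⟨?_⟩⟩
  refine LinearEquiv.ofBijective
    (Module.DirectLimit.lift R (Idx b) (fun i => Gi i) (fun i j h => fij i j h) gi gi_fij)
    ⟨?_, ?_⟩
  · rw [injective_iff_map_eq_zero]
    intro z hz
    obtain ⟨i, x, rfl⟩ := Module.DirectLimit.exists_of z
    rw [Module.DirectLimit.lift_of] at hz
    obtain ⟨c, rfl⟩ := Submodule.Quotient.mk_surjective _ x
    rw [gi_mk] at hz
    let j : Idx b := ⟨(i.1.1, i.1.2 ⊔ Submodule.span R {(c : F)}),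
      i.2.1.sup (Submodule.fg_span_singleton _),
      sup_le i.2.2 (Submodule.span_le.mpr (Set.singleton_subset_iff.mpr ⟨c.2, hz⟩))⟩
    have hij : i ≤ j := ⟨le_rfl, le_sup_left⟩
    rw [← Module.DirectLimit.of_f (hij := hij), fij_mk]
    have : (Submodule.Quotient.mk (Submodule.inclusion (Idx.S_mono hij) c) : Gi j) = 0 := by
      rw [Submodule.Quotient.mk_eq_zero]
      exact Submodule.mem_sup_right (Submodule.subset_span (Set.mem_singleton _))
    rw [this, map_zero]
  · intro m
    let i : Idx b := ⟨({m}, ⊥), Submodule.fg_bot, bot_le⟩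
    let x : i.S := ⟨b m, Submodule.subset_span ⟨⟨m, by simp [i]⟩, rfl⟩⟩
    refine ⟨Module.DirectLimit.of R (Idx b) (fun i => Gi i) (fun i j h => fij i j h) i
      (Submodule.Quotient.mk x), ?_⟩
    rw [Module.DirectLimit.lift_of, gi_mk]
    simp [x, piM]

end

/-- Every module M over a ring R can be written as the direct limit of a directed system (Mᵢ, μᵢⱼ) of
finitely presented R-modules. -/
theorem result (R : Type u) [CommRing R] (M : Type u) [AddCommGroup M] [Module R M] : ∃ (ι : Type u) (_ : Preorder ι) (_ : IsDirected ι (· ≤ ·)) (_ : Nonempty ι) (_ : DecidableEq ι) (G : ι → Type u) (_ : ∀ i, AddCommGroup (G i)) (_ : ∀ i, Module R (G i)) (f : ∀ i j, i ≤ j → G i →ₗ[R] G j) (_ : DirectedSystem G fun i j h => f i j h), (∀ i, Module.FinitePresentation R (G i)) ∧ Nonempty (Module.DirectLimit G f ≃ₗ[R] M) := by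
  exact mainF (Finsupp.basisSingleOne (R := R) (ι := M))

end Groth.Agent.S6328
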