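import Groth.Statements.S6330
import Mathlib
import Groth.Agent.S6308

set_option autoImplicit false
universe u
open scoped TensorProduct
open CAlg

open scoped TensorProduct

namespace Groth.Agent.S6330

theorem ker_finite_projective {A : Type u} [CommRing A] {Q₁ Q₂ : Type u} [AddCommGroup Q₁]
    [Module A Q₁] [AddCommGroup Q₂] [Module A Q₂] [Module.Finite A Q₁] [Module.Projective A Q₁]
    [Module.Projective A Q₂] (ψ : Q₁ →ₗ[A] Q₂) (hψ : Function.Surjective ψ) :
    Module.Finite A (LinearMap.ker ψ) ∧ Module.Projective A (LinearMap.ker ψ) := by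
  obtain ⟨σ, hσ⟩ := Module.projective_lifting_property ψ LinearMap.id hψ
  let r : Q₁ →ₗ[A] LinearMap.ker ψ :=
    (LinearMap.id - σ ∘ₗ ψ).codRestrict (LinearMap.ker ψ) (fun x => by
      rw [LinearMap.mem_ker, LinearMap.sub_apply, map_sub, LinearMap.id_apply,
        LinearMap.comp_apply]
      have := LinearMap.congr_fun hσ (ψ x)
      rw [LinearMap.comp_apply, LinearMap.id_apply] at this
      rw [this, sub_self])
  have hr : r ∘ₗ (LinearMap.ker ψ).subtype = LinearMap.id := by
    apply LinearMap.ext
    intro x
    apply Subtype.ext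
    show (x : Q₁) - σ (ψ (x : Q₁)) = x
    rw [LinearMap.map_coe_ker, map_zero, sub_zero]
  exact ⟨Module.Finite.of_surjective r (fun k => ⟨k, LinearMap.congr_fun hr k⟩),
    Module.Projective.of_split _ r hr⟩

/-- Let R be a ring and φ : P₁ → P₂ a map of finite projective R-modules. The set W of primes p of R
such that φ ⊗ κ(p) is surjective is open, and for every f ∈ R with D(f) ⊆ W the map (P₁)_f → (P₂)_f
is surjective and Ker(φ)_f is a finite projective module over R_f. -/
theorem result {R : Type u} [CommRing R] {P₁ P₂ : Type u} [AddCommGroup P₁] [Module R P₁] [AddCommGroup P₂] [Module R P₂] [Module.Finite R P₁] [Module.Projective R P₁] [Module.Finite R P₂] [Module.Projective R P₂] (φ : P₁ →ₗ[R] P₂) : IsOpen {p : PrimeSpectrum R | Function.Surjective (φ.lTensor p.asIdeal.ResidueField)} ∧ ∀ f : R, (↑(PrimeSpectrum.basicOpen f) : Set (PrimeSpectrum R)) ⊆ {p : PrimeSpectrum R | Function.Surjective (φ.lTensor p.asIdeal.ResidueField)} → Function.Surjective (LocalizedModule.map (Submonoid.powers f) φ) ∧ Module.Finite (Localization.Away f) (LocalizedModule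 (Submonoid.powers f) (LinearMap.ker φ)) ∧ Module.Projective (Localization.Away f) (LocalizedModule (Submonoid.powers f) (LinearMap.ker φ)) := by
  obtain ⟨h1, h2, h3⟩ := Groth.Agent.S6308.result φ
  have hW : {p : PrimeSpectrum R | Function.Surjective (φ.lTensor p.asIdeal.ResidueField)} =
      {p : PrimeSpectrum R | Function.Surjective (LocalizedModule.map p.asIdeal.primeCompl φ)} :=
    Set.ext (fun p => (h1 p).symm)
  rw [hW]
  refine ⟨h2, fun f hf => ?_⟩
  have hsurj := h3 f hf
  refine ⟨hsurj, ?_⟩
  obtain ⟨hfin, hproj⟩ := ker_finite_projective (LocalizedModule.map (Submonoid.powers f) φ) hsurj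
  have hinj : Function.Injective
      (LocalizedModule.map (Submonoid.powers f) (LinearMap.ker φ).subtype) :=
    LocalizedModule.map_injective _ _ (Submodule.injective_subtype _)
  have hex : Function.Exact
      (LocalizedModule.map (Submonoid.powers f) (LinearMap.ker φ).subtype)
      (LocalizedModule.map (Submonoid.powers f) φ) :=
    LocalizedModule.map_exact _ _ _ (LinearMap.exact_subtype_ker_map φ)
  have hrange : LinearMap.range
      (LocalizedModule.map (Submonoid.powers f) (LinearMap.ker φ).subtype) =
      LinearMap.ker (LocalizedModule.map (Submonoid.powers f) φ) :=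
    (LinearMap.exact_iff.mp hex).symm
  let e := (LinearEquiv.ofInjective
    (LocalizedModule.map (Submonoid.powers f) (LinearMap.ker φ).subtype) hinj).trans
    (LinearEquiv.ofEq _ _ hrange)
  exact ⟨Module.Finite.equiv e.symm, Module.Projective.of_equiv e.symm⟩

end Groth.Agent.S6330
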