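import Groth.Statements.S6331
import Mathlib
-- import your own Groth.Agent.* helpers here

set_option autoImplicit false
universe u
open CAlg

open scoped TensorProduct

namespace Groth.Agent.S6331

open Polynomial

theorem isUnit_of_mk {R : Type u} [CommRing R] (I : Ideal R) (hI : ∀ x ∈ I, IsNilpotent x) (a : R)
    (h : IsUnit (Ideal.Quotient.mk I a)) : IsUnit a := by
  obtain ⟨b', hb'⟩ := h.exists_right_inv
  obtain ⟨b, rfl⟩ := Ideal.Quotient.mk_surjective b'
  have hz : a * b - 1 ∈ I := by
    rw [← Ideal.Quotient.eq_zero_iff_mem, map_sub, map_mul, hb', map_one, sub_self]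
  have h1 : IsUnit (a * b) := by
    have := (hI _ hz).isUnit_one_add
    rwa [add_sub_cancel] at this
  exact isUnit_of_mul_isUnit_left h1

theorem natCast_isUnit {R : Type u} [CommRing R] (I : Ideal R) (hI : ∀ x ∈ I, IsNilpotent x) (n : ℕ)
    (hinv : IsUnit ((n : ℕ) : R ⧸ I)) : IsUnit (n : R) := by
  apply isUnit_of_mk I hI
  rwa [map_natCast]

/-- Let R be a ring, I ⊆ R an ideal all of whose elements are nilpotent, and n ≥ 1 an integer whose
image in R/I is invertible. Then (1) raising to the n-th power is a bijection of the subset 1 + I of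
R onto itself: for every y ∈ I there is exactly one x ∈ I with (1 + x)ⁿ = 1 + y; (2) a unit u of R
has an n-th root in R exactly when the residue class of u has an n-th root in R/I. -/
theorem result {R : Type u} [CommRing R] (I : Ideal R) (hI : ∀ x ∈ I, IsNilpotent x) (n : ℕ) (hn : 1 ≤ n) (hinv : IsUnit ((n : ℕ) : R ⧸ I)) : (∀ y ∈ I, ∃! x : R, x ∈ I ∧ (1 + x) ^ n = 1 + y) ∧ (∀ u : Rˣ, (∃ v : R, v ^ n = (u : R)) ↔ ∃ w : R ⧸ I, w ^ n = Ideal.Quotient.mk I (u : R)) := by
  have hnR : IsUnit (n : R) := natCast_isUnit I hI n hinv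
  have hn0 : n ≠ 0 := by omega
  constructor
  · intro y hy
    set P : R[X] := X ^ n - C (1 + y) with hP
    have e1 : aeval (1 : R) P = -y := by simp [hP]
    have e2 : aeval (1 : R) (derivative P) = (n : R) := by simp [hP, derivative_X_pow]
    have h : IsNilpotent (aeval (1 : R) P) := by rw [e1]; exact (hI y hy).neg
    have h' : IsUnit (aeval (1 : R) (derivative P)) := by rw [e2]; exact hnR
    obtain ⟨r, ⟨hr1, hr2⟩, hru⟩ := existsUnique_nilpotent_sub_and_aeval_eq_zero h h'
    have hr3 : r ^ n = 1 + y := by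
      have : aeval r P = r ^ n - (1 + y) := by simp [hP]
      rw [this, sub_eq_zero] at hr2
      exact hr2
    have hrI : r - 1 ∈ I := by
      set Q : (R ⧸ I)[X] := X ^ n - C 1 with hQ
      have f1 : aeval (1 : R ⧸ I) Q = 0 := by simp [hQ]
      have f2 : aeval (1 : R ⧸ I) (derivative Q) = ((n : ℕ) : R ⧸ I) := by simp [hQ, derivative_X_pow]
      have g : IsNilpotent (aeval (1 : R ⧸ I) Q) := by rw [f1]; exact IsNilpotent.zero
      have g' : IsUnit (aeval (1 : R ⧸ I) (derivative Q)) := by rw [f2]; exact hinv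
      have hu := existsUnique_nilpotent_sub_and_aeval_eq_zero g g'
      have p1 : IsNilpotent ((1 : R ⧸ I) - Ideal.Quotient.mk I r) ∧
          aeval (Ideal.Quotient.mk I r) Q = 0 := by
        constructor
        · have := hr1.map (Ideal.Quotient.mk I)
          rwa [map_sub, map_one] at this
        · have : aeval (Ideal.Quotient.mk I r) Q = Ideal.Quotient.mk I (r ^ n) - 1 := by simp [hQ]
          rw [this, hr3, map_add, map_one, Ideal.Quotient.eq_zero_iff_mem.mpr hy, add_zero, sub_self]
      have p2 : IsNilpotent ((1 : R ⧸ I) - 1) ∧ aeval (1 : R ⧸ I) Q = 0 := by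
        refine ⟨by rw [sub_self]; exact IsNilpotent.zero, f1⟩
      have := hu.unique p1 p2
      rw [← Ideal.Quotient.eq_zero_iff_mem, map_sub, map_one, this, sub_self]
    refine ⟨r - 1, ⟨hrI, by rw [add_sub_cancel, hr3]⟩, ?_⟩
    rintro x' ⟨hx'I, hx'⟩
    have := hru (1 + x') ⟨by rw [sub_add_cancel_left]; exact (hI _ hx'I).neg, by
      have : aeval (1 + x') P = (1 + x') ^ n - (1 + y) := by simp [hP]
      rw [this, hx', sub_self]⟩
    rw [← this, add_sub_cancel_left]
  · intro u
    constructor
    · rintro ⟨v, hv⟩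
      exact ⟨Ideal.Quotient.mk I v, by rw [← map_pow, hv]⟩
    · rintro ⟨w, hw⟩
      obtain ⟨v₀, rfl⟩ := Ideal.Quotient.mk_surjective w
      have hv₀ : IsUnit v₀ := by
        apply isUnit_of_mk I hI
        rw [← isUnit_pow_iff hn0, hw]
        exact u.isUnit.map (Ideal.Quotient.mk I)
      set P : R[X] := X ^ n - C (u : R) with hP
      have e1 : aeval v₀ P = v₀ ^ n - u := by simp [hP]
      have e2 : aeval v₀ (derivative P) = (n : R) * v₀ ^ (n - 1) := by simp [hP, derivative_X_pow]
      have h : IsNilpotent (aeval v₀ P) := by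
        rw [e1]; apply hI
        rw [← Ideal.Quotient.eq_zero_iff_mem, map_sub, map_pow, hw, sub_self]
      have h' : IsUnit (aeval v₀ (derivative P)) := by
        rw [e2]; exact hnR.mul (hv₀.pow _)
      obtain ⟨r, ⟨-, hr2⟩, -⟩ := existsUnique_nilpotent_sub_and_aeval_eq_zero h h'
      refine ⟨r, ?_⟩
      have : aeval r P = r ^ n - u := by simp [hP]
      rw [this, sub_eq_zero] at hr2
      exact hr2

end Groth.Agent.S6331
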