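import Groth.Statements.S6332
import Mathlib
-- import your own Groth.Agent.* helpers here

set_option autoImplicit false
universe u
open Fields

open scoped TensorProduct

namespace Groth.Agent.S6332

open IntermediateField in
/-- Let L/K be a finite Galois extension of fields of characteristic p > 0 whose degree equals the prime
p (equivalently, the Galois group is cyclic of order p). Then there is an element z of L with z ^ p
- z in K which generates L over K. -/
theorem result {K L : Type u} [Field K] [Field L] [Algebra K L] (p : ℕ)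
    [Fact p.Prime] [CharP K p] [FiniteDimensional K L] [IsGalois K L]
    (hdeg : Module.finrank K L = p) :
    ∃ z : L, z ^ p - z ∈ Set.range (algebraMap K L) ∧ K⟮z⟯ = ⊤ := by
  classical
  haveI : CharP L p := charP_of_injective_algebraMap (algebraMap K L).injective p
  have hpp : p.Prime := Fact.out
  have hcard : Nat.card (L ≃ₐ[K] L) = p := by rw [IsGalois.card_aut_eq_finrank, hdeg]
  haveI : Nontrivial (L ≃ₐ[K] L) := by
    rw [← Finite.one_lt_card_iff_nontrivial, hcard]
    exact hpp.one_lt
  obtain ⟨σ, hσ1⟩ := exists_ne (1 : L ≃ₐ[K] L)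
  have hmem : ∀ τ : L ≃ₐ[K] L, τ ∈ Subgroup.zpowers σ := fun τ =>
    mem_zpowers_of_prime_card hcard hσ1
  have hord : orderOf σ = p := by rw [orderOf_eq_card_of_forall_mem_zpowers hmem, hcard]
  have hsum : ∀ f : (L ≃ₐ[K] L) → L, ∑ τ, f τ = ∑ i ∈ Finset.range p, f (σ ^ i) := by
    intro f
    have himg := IsCyclic.image_range_orderOf (a := σ) hmem
    rw [← himg, Finset.sum_image, hord]
    intro i hi j hj hij
    rw [hord] at hi hj
    exact pow_injOn_Iio_orderOf (by rw [hord]; simpa using hi) (by rw [hord]; simpa using hj) hij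
  obtain ⟨θ, hθ⟩ := Algebra.trace_surjective K L 1
  set s : ℕ → L := fun i => (σ ^ i) θ with hs
  have hs_succ : ∀ i, s (i + 1) = σ (s i) := fun i => by
    simp only [hs, pow_succ', AlgEquiv.mul_apply]
  have hs0 : s 0 = θ := by simp [hs]
  have hsp : s p = θ := by
    have h1 : σ ^ p = 1 := by rw [← hord]; exact pow_orderOf_eq_one σ
    show (σ ^ p) θ = θ
    rw [h1]
    rfl
  have hT : ∑ i ∈ Finset.range p, s i = 1 := by
    rw [← hsum (fun τ => τ θ), ← trace_eq_sum_automorphisms, hθ, map_one]
  set z : L := ∑ i ∈ Finset.range p, (i : L) * s i with hz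
  have e1 : ∑ i ∈ Finset.range p, ((i : L) + 1) * s (i + 1) = z := by
    have h1 := Finset.sum_range_succ' (fun j => ((j : ℕ) : L) * s j) p
    have h2 := Finset.sum_range_succ (fun j => ((j : ℕ) : L) * s j) p
    rw [h2] at h1
    simp only [Nat.cast_add, Nat.cast_one, Nat.cast_zero, zero_mul, add_zero,
      CharP.cast_eq_zero] at h1
    exact h1.symm
  have e2 : ∑ i ∈ Finset.range p, s (i + 1) = 1 := by
    have h1 := Finset.sum_range_succ' s p
    have h2 := Finset.sum_range_succ s p
    rw [h2, hsp, hs0, hT] at h1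
    exact add_right_cancel h1.symm
  have hσz : σ z = z - 1 := by
    have h3 : σ z = ∑ i ∈ Finset.range p, (i : L) * s (i + 1) := by
      rw [hz, map_sum]
      refine Finset.sum_congr rfl fun i _ => ?_
      rw [map_mul, map_natCast, hs_succ]
    have h4 : ∑ i ∈ Finset.range p, (i : L) * s (i + 1) =
        ∑ i ∈ Finset.range p, ((i : L) + 1) * s (i + 1) - ∑ i ∈ Finset.range p, s (i + 1) := by
      rw [← Finset.sum_sub_distrib]
      refine Finset.sum_congr rfl fun i _ => ?_
      ring
    rw [h3, h4, e1, e2]
  have hσw : σ (z ^ p - z) = z ^ p - z := by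
    rw [map_sub, map_pow, hσz, sub_pow_char, one_pow]
    ring
  refine ⟨z, ?_, ?_⟩
  · rw [IsGalois.mem_range_algebraMap_iff_fixed]
    intro τ
    have hst : σ ∈ MulAction.stabilizer (L ≃ₐ[K] L) (z ^ p - z) :=
      MulAction.mem_stabilizer_iff.mpr (by rw [AlgEquiv.smul_def]; exact hσw)
    have hτ : τ ∈ MulAction.stabilizer (L ≃ₐ[K] L) (z ^ p - z) :=
      (Subgroup.zpowers_le.mpr hst) (hmem τ)
    have := MulAction.mem_stabilizer_iff.mp hτ
    rwa [AlgEquiv.smul_def] at this
  · haveI : IsSimpleOrder (IntermediateField K L) :=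
      IntermediateField.isSimpleOrder_of_finrank_prime K L (by rw [hdeg]; exact hpp)
    rcases eq_bot_or_eq_top K⟮z⟯ with h | h
    · exfalso
      rw [IntermediateField.adjoin_simple_eq_bot_iff] at h
      obtain ⟨c, hc⟩ := IntermediateField.mem_bot.mp h
      have h5 : σ z = z := by rw [← hc, σ.commutes]
      rw [hσz] at h5
      have : (1 : L) = 0 := by linear_combination -h5
      exact one_ne_zero this
    · exact h

end Groth.Agent.S6332
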