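-- Statement S6333.
import Groth.Statements.S6333
import Mathlib

set_option autoImplicit false
universe u
open Fields

namespace Groth.Agent.S6333

/-- For a finitely generated field extension K/k, the algebraic closure of k inside K is a finite
extension of k. -/
theorem result {k K : Type u} [Field k] [Field K] [Algebra k K]
    (hfg : (⊤ : IntermediateField k K).FG) :
    FiniteDimensional k (algebraicClosure k K) := by
  classical
  have hE : Algebra.EssFiniteType k K := IntermediateField.fg_top_iff.1 hfg
  have hFT : FinTrdeg k K := inferInstance
  obtain ⟨s, hs⟩ := exists_finset_isTranscendenceBasis k K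
  -- F = k(s)
  have hrange : Set.range ((↑) : s → K) = (s : Set K) := Subtype.range_coe
  set F : IntermediateField k K := IntermediateField.adjoin k (s : Set K) with hF
  have halg : Algebra.IsAlgebraic F K := by
    have := hs.isAlgebraic_field
    rw [hrange] at this
    exact this
  have hEF : Algebra.EssFiniteType F K := Algebra.EssFiniteType.of_comp k F K
  have hfin : FiniteDimensional F K := by
    obtain ⟨t, ht⟩ := IntermediateField.fg_top F K
    have h1 : FiniteDimensional F (IntermediateField.adjoin F (t : Set K)) :=
      IntermediateField.finiteDimensional_adjoin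
        (fun x _ => (Algebra.IsAlgebraic.isAlgebraic x).isIntegral)
    rw [ht] at h1
    exact (IntermediateField.topEquiv (F := F) (E := K)).toLinearEquiv.finiteDimensional
  -- key: k-linearly independent families in L stay F-linearly independent in K
  set L := algebraicClosure k K with hL
  have hxL : AlgebraicIndependent L ((↑) : s → K) := hs.1.extendScalars L
  have key : ∀ t : Finset L, (LinearIndependent k fun i : t => (i : L)) →
      LinearIndependent F fun i : t => ((i : L) : K) := by
    intro t ht
    open scoped IntermediateField.algebraAdjoinAdjoin in
    rw [← LinearIndependent.iff_fractionRing (Algebra.adjoin k (s : Set K)) F]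
    rw [Fintype.linearIndependent_iff]
    intro g hg
    -- polynomials
    have hx := hs.1
    let e := hx.aevalEquiv
    have hrange' : Algebra.adjoin k (Set.range ((↑) : s → K)) = Algebra.adjoin k (s : Set K) := by
      rw [hrange]
    let p : t → MvPolynomial s k := fun i => e.symm ⟨(g i : K), by rw [hrange']; exact (g i).2⟩
    have hp : ∀ i, MvPolynomial.aeval ((↑) : s → K) (p i) = (g i : K) := by
      intro i
      have := hx.algebraMap_aevalEquiv (p i)
      rw [← this]
      simp [p, e]
    let Q : MvPolynomial s L := ∑ i : t, MvPolynomial.C (i.1) * MvPolynomial.map (algebraMap k L) (p i)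
    have hQ : MvPolynomial.aeval ((↑) : s → K) Q = 0 := by
      simp only [Q, map_sum, map_mul, MvPolynomial.aeval_C, MvPolynomial.aeval_map_algebraMap, hp]
      rw [← hg]
      refine Finset.sum_congr rfl fun i _ => ?_
      rw [mul_comm]
      rfl
    have hQ0 : Q = 0 := by
      have := hxL
      rw [AlgebraicIndependent] at this
      exact this (by rw [hQ, map_zero])
    have hcoeff : ∀ m (i : t), MvPolynomial.coeff m (p i) = 0 := by
      intro m
      have h1 : MvPolynomial.coeff m Q = 0 := by rw [hQ0]; simp
      simp only [Q, MvPolynomial.coeff_sum, MvPolynomial.coeff_C_mul, MvPolynomial.coeff_map] at h1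
      have h2 : ∑ i : t, (MvPolynomial.coeff m (p i)) • ((i : L)) = 0 := by
        rw [← h1]
        refine Finset.sum_congr rfl fun i _ => ?_
        rw [Algebra.smul_def, mul_comm]
      exact Fintype.linearIndependent_iff.1 ht _ h2
    intro i
    have hpi : p i = 0 := MvPolynomial.ext _ _ (fun m => by rw [hcoeff m i]; simp)
    have := hp i
    rw [hpi, map_zero] at this
    exact Subtype.ext this.symm
  -- rank bound
  have hrank : Module.rank k L ≤ (Module.finrank F K : ℕ) := by
    apply rank_le
    intro t ht
    have := (key t ht).fintype_card_le_finrank
    simpa using this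
  have : Module.rank k L < Cardinal.aleph0 := hrank.trans_lt Cardinal.natCast_lt_aleph0
  exact Module.rank_lt_aleph0_iff.1 this

end Groth.Agent.S6333
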