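import Groth.Statements.S6334
import Mathlib

set_option autoImplicit false
universe u
open Fields

namespace Groth.Agent.S6334

open IntermediateField Polynomial in
theorem finrank_adjoin_root {F E : Type u} [Field F] [Field E] [Algebra F E] (p : ℕ)
    [Fact p.Prime] [CharP F p]
    (a : E) (ha : a ^ p ∈ (algebraMap F E).range) (ha' : a ∉ (algebraMap F E).range) :
    Module.finrank F F⟮a⟯ = p := by
  have hp : p.Prime := Fact.out
  obtain ⟨c, hc⟩ := ha
  haveI : CharP E p := charP_of_injective_algebraMap (algebraMap F E).injective p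
  have hirr : Irreducible (X ^ p - C c : F[X]) := by
    apply X_pow_sub_C_irreducible_of_prime hp
    intro b hb
    apply ha'
    refine ⟨b, ?_⟩
    apply frobenius_inj E p
    show (algebraMap F E b) ^ p = a ^ p
    rw [← map_pow, hb, hc]
  have hroot : aeval a (X ^ p - C c : F[X]) = 0 := by
    simp [hc]
  have hmonic : (X ^ p - C c : F[X]).Monic := monic_X_pow_sub_C c hp.ne_zero
  have hint : IsIntegral F a := ⟨X ^ p - C c, hmonic, hroot⟩
  have hmin : minpoly F a = X ^ p - C c :=
    (minpoly.eq_of_irreducible_of_monic hirr hroot hmonic).symm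
  rw [IntermediateField.adjoin.finrank hint, hmin, natDegree_X_pow_sub_C]

open IntermediateField in
theorem aux (p : ℕ) [Fact p.Prime] : ∀ (d : ℕ) {F E : Type u} [Field F] [Field E] [Algebra F E]
    [CharP F p] [FiniteDimensional F E] [IsPurelyInseparable F E], Module.finrank F E = d →
    ∃ (n : ℕ) (a : Fin n → E), adjoin F (Set.range a) = ⊤ ∧
      (∀ i : Fin n, a i ^ p ∈ adjoin F (a '' {j | j < i}) ∧ a i ∉ adjoin F (a '' {j | j < i})) ∧
      Module.finrank F E = p ^ n := by
  intro d
  induction d using Nat.strong_induction_on with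
  | _ d ih =>
    intro F E _ _ _ _ _ _ hd
    have hp : p.Prime := Fact.out
    by_cases htop : (⊥ : IntermediateField F E) = ⊤
    · refine ⟨0, Fin.elim0, ?_, fun i => i.elim0, ?_⟩
      · rw [← htop]
        simp
      · rw [pow_zero]; exact IntermediateField.bot_eq_top_iff_finrank_eq_one.mp htop
    · obtain ⟨b, hb⟩ : ∃ b : E, b ∉ (algebraMap F E).range := by
        by_contra h
        push_neg at h
        apply htop
        rw [eq_comm, eq_bot_iff]
        intro x _
        rw [IntermediateField.mem_bot]
        exact h x
      haveI : ExpChar F p := ExpChar.prime hp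
      obtain ⟨k, hk⟩ := IsPurelyInseparable.pow_mem F p b
      classical
      have hex : ∃ k, b ^ p ^ k ∈ (algebraMap F E).range := ⟨k, hk⟩
      have hk0 : b ^ p ^ (Nat.find hex) ∈ (algebraMap F E).range := Nat.find_spec hex
      have hk0pos : Nat.find hex ≠ 0 := by
        intro h
        rw [h, pow_zero, pow_one] at hk0
        exact hb hk0
      obtain ⟨m, hm⟩ := Nat.exists_eq_succ_of_ne_zero hk0pos
      have ha1 : (b ^ p ^ m) ^ p ∈ (algebraMap F E).range := by
        rw [← pow_mul, ← pow_succ, ← Nat.succ_eq_add_one, ← hm]; exact hk0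
      have ha1' : b ^ p ^ m ∉ (algebraMap F E).range :=
        Nat.find_min hex (by omega : m < Nat.find hex)
      have hdeg := finrank_adjoin_root p (b ^ p ^ m) ha1 ha1'
      have hmul : Module.finrank F F⟮b ^ p ^ m⟯ * Module.finrank F⟮b ^ p ^ m⟯ E =
          Module.finrank F E := Module.finrank_mul_finrank F F⟮b ^ p ^ m⟯ E
      have hlt : Module.finrank F⟮b ^ p ^ m⟯ E < d := by
        have hp2 := hp.two_le
        have hpos : 0 < Module.finrank F⟮b ^ p ^ m⟯ E := Module.finrank_pos
        rw [hdeg, hd] at hmul
        nlinarith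
      haveI : IsPurelyInseparable F⟮b ^ p ^ m⟯ E := IsPurelyInseparable.tower_top F F⟮b ^ p ^ m⟯ E
      haveI : CharP F⟮b ^ p ^ m⟯ p :=
        charP_of_injective_algebraMap (algebraMap F F⟮b ^ p ^ m⟯).injective p
      obtain ⟨n', a', htop', hchain', hfr'⟩ := @ih _ hlt F⟮b ^ p ^ m⟯ E _ _ _ _ _ _ rfl
      have key : ∀ T : Set E, (adjoin F⟮b ^ p ^ m⟯ T).restrictScalars F =
          adjoin F ({b ^ p ^ m} ∪ T) := fun T => adjoin_adjoin_left F {b ^ p ^ m} T
      refine ⟨n' + 1, Fin.cons (b ^ p ^ m) a', ?_, ?_, ?_⟩
      · rw [Fin.range_cons, Set.insert_eq, ← key, htop', IntermediateField.restrictScalars_top]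
      · intro i
        refine Fin.cases ?_ (fun j => ?_) i
        · have he : (Fin.cons (b ^ p ^ m) a' : Fin (n' + 1) → E) '' {j | j < 0} = ∅ := by
            rw [Set.image_eq_empty]
            ext j
            simp
          rw [he, adjoin_empty, Fin.cons_zero, IntermediateField.mem_bot,
            IntermediateField.mem_bot]
          exact ⟨ha1, ha1'⟩
        · have he : (Fin.cons (b ^ p ^ m) a' : Fin (n' + 1) → E) '' {l | l < j.succ} =
              {b ^ p ^ m} ∪ a' '' {l | l < j} := by
            ext x
            constructor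
            · rintro ⟨l, hl, rfl⟩
              revert hl
              refine Fin.cases ?_ (fun l' => ?_) l
              · intro _
                left
                simp
              · intro hl
                right
                exact ⟨l', Fin.succ_lt_succ_iff.mp hl, by simp⟩
            · rintro (hx | ⟨l, hl, rfl⟩)
              · refine ⟨0, Fin.succ_pos j, ?_⟩
                rw [Fin.cons_zero]; exact hx.symm
              · exact ⟨l.succ, Fin.succ_lt_succ_iff.mpr hl, by simp⟩
          rw [he, ← key, Fin.cons_succ]
          exact hchain' j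
      · rw [← hmul, hdeg, hfr', pow_succ']

open IntermediateField in
/-- Let E/F be a finite purely inseparable extension of fields of characteristic p > 0. Then there are
elements a_1, ..., a_n of E generating E over F such that for each i the p-th power of a_i lies in
F(a_1, ..., a_{i-1}) while a_i itself does not (so each step adjoins a p-th root and has degree p);
in particular [E : F] = p ^ n. -/
theorem result {F E : Type u} [Field F] [Field E] [Algebra F E] (p : ℕ)
    [Fact p.Prime] [CharP F p] [FiniteDimensional F E] [IsPurelyInseparable F E] :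
    ∃ (n : ℕ) (a : Fin n → E), adjoin F (Set.range a) = ⊤ ∧
      (∀ i : Fin n, a i ^ p ∈ adjoin F (a '' {j | j < i}) ∧ a i ∉ adjoin F (a '' {j | j < i})) ∧
      Module.finrank F E = p ^ n := by
  exact aux p _ rfl

end Groth.Agent.S6334
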