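import Groth.Statements.S6335
import Mathlib
-- import your own Groth.Agent.* helpers here

set_option autoImplicit false
universe u
open Fields

open scoped TensorProduct

namespace Groth.Agent.S6335

open Polynomial

/-- Let K be a field of characteristic p > 0, L/K a separable algebraic extension and a an element of L.
If a is a root of a polynomial P over K which is separable (pairwise distinct roots in an algebraic
closure) and all of whose coefficients are p-th powers in K, then a is a p-th power in L. (Part (1),
the case where P is the minimal polynomial of a, is a special case.) -/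
theorem result {K L : Type u} [Field K] [Field L] [Algebra K L]
    (p : ℕ) [Fact p.Prime] [CharP K p] [Algebra.IsSeparable K L] (a : L) (P : Polynomial K)
    (hroot : Polynomial.aeval a P = 0) (hsep : P.Separable) (hcoeff : ∀ i : ℕ, ∃ b : K, b ^ p = P.coeff i) :
    ∃ c : L, c ^ p = a := by
  classical
  haveI : CharP L p := charP_of_injective_algebraMap (algebraMap K L).injective p
  haveI : CharP (AlgebraicClosure L) p :=
    charP_of_injective_algebraMap (algebraMap L (AlgebraicClosure L)).injective p
  have hp0 : p ≠ 0 := (Fact.out : p.Prime).ne_zero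
  choose b hb using hcoeff
  let Q : K[X] := ∑ i ∈ P.support, C (b i) * X ^ i
  have hQ : Q.map (frobenius K p) = P := by
    rw [Polynomial.map_sum]
    conv_rhs => rw [P.as_sum_support_C_mul_X_pow]
    refine Finset.sum_congr rfl fun i _ => ?_
    rw [Polynomial.map_mul, Polynomial.map_C, Polynomial.map_pow, Polynomial.map_X,
      frobenius_def, hb]
  have hQsep : Q.Separable := by
    rw [← Polynomial.separable_map (frobenius K p), hQ]; exact hsep
  have hexp : expand K p P = Q ^ p := by
    rw [← hQ, ← Polynomial.map_expand, Polynomial.map_frobenius_expand]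
  obtain ⟨c, hc⟩ := IsAlgClosed.exists_pow_nat_eq (algebraMap L (AlgebraicClosure L) a)
    (Nat.pos_of_ne_zero hp0)
  have hQc : aeval c Q = 0 := by
    have h1 : aeval c (Q ^ p) = 0 := by
      rw [← hexp, expand_aeval, hc, aeval_algebraMap_apply, hroot, map_zero]
    rw [map_pow] at h1
    exact (pow_eq_zero_iff hp0).mp h1
  have hint : IsIntegral L c := (Algebra.IsAlgebraic.isAlgebraic c).isIntegral
  have hdvd1 : minpoly L c ∣ Q.map (algebraMap K L) :=
    minpoly.dvd L c (by rw [aeval_map_algebraMap]; exact hQc)
  have hsepm : (minpoly L c).Separable := (hQsep.map (f := algebraMap K L)).of_dvd hdvd1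
  have hdvd2 : minpoly L c ∣ X ^ p - C a := minpoly.dvd L c (by simp [hc])
  have hdvd3 : (minpoly L c).map (algebraMap L (AlgebraicClosure L)) ∣ (X - C c) ^ p := by
    have h3 := Polynomial.map_dvd (algebraMap L (AlgebraicClosure L)) hdvd2
    rw [Polynomial.map_sub, Polynomial.map_pow, Polynomial.map_X, Polynomial.map_C, ← hc] at h3
    rw [sub_pow_char, ← C_pow]
    exact h3
  have hsq : Squarefree ((minpoly L c).map (algebraMap L (AlgebraicClosure L))) :=
    (hsepm.map).squarefree
  have hdvd4 := (hsq.dvd_pow_iff_dvd hp0).mp hdvd3
  have hdeg : (minpoly L c).natDegree ≤ 1 := by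
    have h4 := Polynomial.natDegree_le_of_dvd hdvd4 (X_sub_C_ne_zero c)
    rwa [natDegree_map, natDegree_X_sub_C] at h4
  have hdeg1 : (minpoly L c).degree = 1 := by
    have hpos := minpoly.natDegree_pos hint
    have h5 : (minpoly L c).natDegree = 1 := le_antisymm hdeg hpos
    rw [degree_eq_natDegree (minpoly.ne_zero hint), h5]
    rfl
  obtain ⟨c', hc'⟩ := minpoly.mem_range_of_degree_eq_one L c hdeg1
  refine ⟨c', ?_⟩
  apply (algebraMap L (AlgebraicClosure L)).injective
  rw [map_pow, hc', hc]

end Groth.Agent.S6335
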