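import Groth.Statements.S6336
import Mathlib
-- import your own Groth.Agent.* helpers here

set_option autoImplicit false
universe u
open Fields

open scoped TensorProduct

namespace Groth.Agent.S6336

open IntermediateField Polynomial in
/-- With an added hypothesis: let L/K be a finite extension of degree e generated by a single element a
whose e-th power lies in K, and assume that the polynomial X ^ e - 1 splits into linear factors over
K (so every e-th root of unity of any extension of K already lies in K; this holds when K contains a
primitive e-th root of unity, and when e is a power of the characteristic). Then every intermediate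
field of L/K is generated by a ^ d for some divisor d of e. (The published statement has no
hypothesis on roots of unity; for K the rationals and a a primitive 8-th root of unity, e = 4 and a
^ 4 = -1, the intermediate field generated by a + a⁻¹, a square root of 2, is none of K(a), K(a ^
2), K(a ^ 4); the published proof uses that the e-th roots of unity met are fixed by the
automorphisms it constructs, which the splitting hypothesis guarantees.) -/
theorem result {K L : Type u} [Field K] [Field L] [Algebra K L]
    [FiniteDimensional K L] (a : L) (ha : K⟮a⟯ = ⊤)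
    (hpow : a ^ Module.finrank K L ∈ Set.range (algebraMap K L))
    (hroots : (X ^ Module.finrank K L - 1 : K[X]).Splits) (L' : IntermediateField K L) :
    ∃ d : ℕ, d ∣ Module.finrank K L ∧ L' = K⟮a ^ d⟯ := by
  classical
  obtain ⟨b, hb⟩ := hpow
  by_cases ha0 : a = 0
  · refine ⟨1, one_dvd _, ?_⟩
    rw [pow_one, ha]
    have h1 : (⊥ : IntermediateField K L) = ⊤ := by
      rw [← ha, ha0]
      exact (IntermediateField.adjoin_zero).symm
    have h2 : (⊥ : IntermediateField K L) ≤ L' := bot_le
    rw [h1] at h2
    exact eq_top_iff.mpr h2
  · have hdpos : 0 < Module.finrank L' L := Module.finrank_pos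
    have hde : Module.finrank K L' * Module.finrank L' L = Module.finrank K L :=
      Module.finrank_mul_finrank K L' L
    refine ⟨Module.finrank L' L, Dvd.intro_left _ hde, ?_⟩
    set d := Module.finrank L' L with hd
    set e := Module.finrank K L with he
    have he0 : e ≠ 0 := (Module.finrank_pos).ne'
    have hN : (Algebra.norm L' a) ^ e = (algebraMap K L' b) ^ d := by
      rw [← map_pow, ← hb, IsScalarTower.algebraMap_apply K L' L, Algebra.norm_algebraMap]
    set Nv : L := algebraMap L' L (Algebra.norm L' a) with hNv
    have hNL : Nv ^ e = (a ^ d) ^ e := by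
      have h3 := congrArg (algebraMap L' L) hN
      rw [map_pow, map_pow, ← IsScalarTower.algebraMap_apply, hb] at h3
      rw [← pow_mul, mul_comm, pow_mul]
      exact h3
    have hadne : a ^ d ≠ 0 := pow_ne_zero _ ha0
    have hζe : (Nv / a ^ d) ^ e = 1 := by
      rw [div_pow, hNL, div_self (pow_ne_zero _ hadne)]
    have hroot : ((X ^ e - 1 : K[X]).map (algebraMap K L)).IsRoot (Nv / a ^ d) := by
      simp [Polynomial.IsRoot, hζe]
    have hf0 : (X ^ e - 1 : K[X]) ≠ 0 := by
      have h5 := monic_X_pow_sub_C (1 : K) he0
      rw [map_one] at h5
      exact h5.ne_zero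
    obtain ⟨z, hz⟩ := hroots.mem_range_of_isRoot hf0 hroot
    have hz0 : Nv / a ^ d ≠ 0 := by
      intro h
      rw [h, zero_pow he0] at hζe
      exact zero_ne_one hζe
    have hNv0 : Nv ≠ 0 := fun h => hz0 (by rw [h, zero_div])
    have had : a ^ d ∈ L' := by
      have h4 : a ^ d = Nv / (Nv / a ^ d) := by
        rw [div_div_eq_mul_div, mul_div_cancel_left₀ _ hNv0]
      rw [h4, ← hz]
      exact L'.div_mem (Algebra.norm L' a).2 (L'.algebraMap_mem z)
    have hle : K⟮a ^ d⟯ ≤ L' := IntermediateField.adjoin_simple_le_iff.mpr had
    have hEtop : (K⟮a ^ d⟯)⟮a⟯ = ⊤ := by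
      rw [← IntermediateField.restrictScalars_eq_top_iff (K := K), eq_top_iff, ← ha,
        IntermediateField.adjoin_simple_le_iff]
      exact IntermediateField.mem_adjoin_simple_self _ a
    have hdeg : Module.finrank K⟮a ^ d⟯ L ≤ d := by
      rw [← (Field.primitive_element_iff_minpoly_natDegree_eq (K⟮a ^ d⟯) a).mp hEtop]
      let P : Polynomial K⟮a ^ d⟯ :=
        X ^ d - C ⟨a ^ d, IntermediateField.mem_adjoin_simple_self K (a ^ d)⟩
      have hPm : P.Monic := monic_X_pow_sub_C _ hdpos.ne'
      have hPa : aeval a P = 0 := by
        simp only [P, map_sub, map_pow, aeval_X, aeval_C]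
        exact sub_self _
      calc (minpoly K⟮a ^ d⟯ a).natDegree ≤ P.natDegree :=
            natDegree_le_of_dvd (minpoly.dvd _ a hPa) hPm.ne_zero
        _ = d := natDegree_X_pow_sub_C
    exact (IntermediateField.eq_of_le_of_finrank_le' hle hdeg).symm

end Groth.Agent.S6336
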