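import Groth.Statements.S6341
import Mathlib
import Groth.Agent.Lib.Helper10.ML

set_option autoImplicit false
universe u
open CAlg

open scoped TensorProduct

namespace Groth.Agent.S6341

open Module Module.DirectLimit Groth.Agent.Lib.Helper10

section
variable (R : Type u) [CommRing R] {ι : Type u} [Preorder ι] [IsDirected ι (· ≤ ·)]
  [DecidableEq ι] (G : ι → Type u) [∀ i, AddCommGroup (G i)] [∀ i, Module R (G i)]
  (f : ∀ i j, i ≤ j → G i →ₗ[R] G j) [DirectedSystem G fun i j h => f i j h]

theorem of_rTensor_injective (hf : ∀ i j (h : i ≤ j), CAlgX.UniversallyInjective R (f i j h))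
    (Q : Type u) [AddCommGroup Q] [Module R Q] (i : ι) :
    Function.Injective ((of R ι G f i).rTensor Q) := by
  rw [injective_iff_map_eq_zero]
  intro y hy
  have h1 : of R ι (fun i => G i ⊗[R] Q) (fun i j h => (f i j h).rTensor Q) i y = 0 := by
    rw [← TensorProduct.directLimitLeft_rTensor_of f Q y, hy, map_zero]
  obtain ⟨j, hij, h2⟩ := Module.DirectLimit.of.zero_exact h1
  exact (injective_iff_map_eq_zero _).mp (hf i j hij Q) y h2

theorem exists_rep [Nonempty ι] (P : Type u) [AddCommGroup P] [Module R P]
    (x : Module.DirectLimit G f ⊗[R] P) :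
    ∃ (i : ι) (y : G i ⊗[R] P), (of R ι G f i).rTensor P y = x := by
  induction x using TensorProduct.induction_on with
  | zero => exact ⟨Classical.arbitrary ι, 0, map_zero _⟩
  | tmul m p =>
    obtain ⟨i, g, rfl⟩ := Module.DirectLimit.exists_of m
    exact ⟨i, g ⊗ₜ p, by simp⟩
  | add x y hx hy =>
    obtain ⟨i, x', rfl⟩ := hx
    obtain ⟨j, y', rfl⟩ := hy
    obtain ⟨k, hik, hjk⟩ := exists_ge_ge i j
    refine ⟨k, (f i k hik).rTensor P x' + (f j k hjk).rTensor P y', ?_⟩
    have e1 : (of R ι G f k) ∘ₗ (f i k hik) = of R ι G f i := LinearMap.ext fun g => of_f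
    have e2 : (of R ι G f k) ∘ₗ (f j k hjk) = of R ι G f j := LinearMap.ext fun g => of_f
    rw [map_add, ← LinearMap.rTensor_comp_apply, ← LinearMap.rTensor_comp_apply, e1, e2]

end

/-- The colimit of a directed system of Mittag-Leffler modules with universally injective transition
maps is Mittag-Leffler. -/
theorem result (R : Type u) [CommRing R] {ι : Type u}
    [Preorder ι] [IsDirected ι (· ≤ ·)] [DecidableEq ι] (G : ι → Type u) [∀ i, AddCommGroup (G i)]
    [∀ i, Module R (G i)] (f : ∀ i j, i ≤ j → G i →ₗ[R] G j) [DirectedSystem G fun i j h => f i j h]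
    (hf : ∀ i j (h : i ≤ j), CAlgX.UniversallyInjective R (f i j h))
    (hG : ∀ i, CAlg.IsMittagLeffler R (G i)) :
    CAlg.IsMittagLeffler R (Module.DirectLimit G f) := by
  intro κ Q _ _
  rw [injective_iff_map_eq_zero]
  intro x hx
  rcases isEmpty_or_nonempty ι with hι | hι
  · have hz : ∀ z : Module.DirectLimit G f ⊗[R] (∀ k, Q k), z = 0 := by
      intro z
      induction z using TensorProduct.induction_on with
      | zero => rfl
      | tmul m q => rw [Subsingleton.elim m 0, TensorProduct.zero_tmul]
      | add a b ha hb => rw [ha, hb, add_zero]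
    exact hz x
  · obtain ⟨i, y, rfl⟩ := exists_rep R G f (∀ k, Q k) x
    have hy : TensorProduct.piRightHom R R (G i) Q y = 0 := by
      ext k
      apply of_rTensor_injective R G f hf (Q k) i
      rw [← piRightHom_rTensor, hx]
      simp
    rw [(injective_iff_map_eq_zero _).mp (hG i κ Q) y hy, map_zero]

end Groth.Agent.S6341
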