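import Groth.Statements.S6343
import Mathlib
import Groth.Agent.Lib.Helper10.FPA
import Groth.Agent.Lib.Helper10.ML2

set_option autoImplicit false
universe u
open scoped TensorProduct
open CAlg

namespace Groth.Agent.S6343

open Groth.Agent.Lib.Helper10

section
variable (R : Type u) [CommRing R]

lemma lTensor_injective_of_bijective {A B : Type u} [AddCommGroup A] [Module R A] [AddCommGroup B]
    [Module R B] (N : Type u) [AddCommGroup N] [Module R N] (β : A →ₗ[R] B)
    (hβ : Function.Bijective β) : Function.Injective (β.lTensor N) := by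
  let e := LinearEquiv.ofBijective β hβ
  apply Function.LeftInverse.injective (g := LinearMap.lTensor N e.symm.toLinearMap)
  intro x
  rw [← LinearMap.lTensor_comp_apply]
  have h5 : e.symm.toLinearMap ∘ₗ β = LinearMap.id := by
    apply LinearMap.ext
    intro y
    exact e.symm_apply_apply y
  rw [h5, LinearMap.lTensor_id, LinearMap.id_apply]

/-- For finitely presented `P`, the map `(N ⊗ ∏ Q → ∏ N ⊗ Q) ⊗ P` is injective if `N` is
Mittag-Leffler. -/
lemma phi_rTensor_injective_of_fp {N : Type u} [AddCommGroup N] [Module R N]
    (hN : CAlg.IsMittagLeffler R N) {κ : Type u} (Q : κ → Type u) [∀ i, AddCommGroup (Q i)]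
    [∀ i, Module R (Q i)] (P : Type u) [AddCommGroup P] [Module R P]
    [Module.FinitePresentation R P] :
    Function.Injective ((TensorProduct.piRightHom R R N Q).rTensor P) := by
  rw [injective_iff_map_eq_zero]
  intro z hz
  let e : (N ⊗[R] (∀ i, Q i)) ⊗[R] P ≃ₗ[R] N ⊗[R] (P ⊗[R] (∀ i, Q i)) :=
    (TensorProduct.assoc R N (∀ i, Q i) P).trans
      (TensorProduct.congr (LinearEquiv.refl R N) (TensorProduct.comm R (∀ i, Q i) P))
  let β := TensorProduct.piRightHom R R P Q
  have hβ : Function.Bijective β := piRightHom_bijective_of_finitePresentation R P Q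
  have key : ∀ (z : (N ⊗[R] (∀ i, Q i)) ⊗[R] P) (α : κ),
      TensorProduct.piRightHom R R N (fun α => P ⊗[R] Q α) (β.lTensor N (e z)) α =
        TensorProduct.leftComm R P N (Q α)
          (TensorProduct.piRightHom R R P (fun α => N ⊗[R] Q α)
            (TensorProduct.comm R _ P ((TensorProduct.piRightHom R R N Q).rTensor P z)) α) := by
    intro z α
    induction z using TensorProduct.induction_on with
    | zero => simp
    | tmul a p =>
      induction a using TensorProduct.induction_on with
      | zero => simp
      | tmul n q => simp [e, β]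
      | add a b ha hb => simp only [TensorProduct.add_tmul, map_add, Pi.add_apply, ha, hb]
    | add a b ha hb => simp only [map_add, Pi.add_apply, ha, hb]
  have h1 : β.lTensor N (e z) = 0 := by
    apply hN κ (fun α => P ⊗[R] Q α)
    rw [map_zero]
    ext α
    rw [key, hz]
    simp
  have h2 : e z = 0 :=
    lTensor_injective_of_bijective R N β hβ (by rw [h1, map_zero])
  exact e.injective (by rw [h2, map_zero])

/-- If `N` is Mittag-Leffler then `N ⊗ ∏ Q → ∏ N ⊗ Q` is universally injective. -/
lemma phi_universally_injective {N : Type u} [AddCommGroup N] [Module R N]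
    (hN : CAlg.IsMittagLeffler R N) {κ : Type u} (Q : κ → Type u) [∀ i, AddCommGroup (Q i)]
    [∀ i, Module R (Q i)] (M : Type u) [AddCommGroup M] [Module R M] :
    Function.Injective ((TensorProduct.piRightHom R R N Q).lTensor M) := by
  rw [injective_iff_map_eq_zero]
  intro z hz
  have h1 : (TensorProduct.piRightHom R R N Q).rTensor M (TensorProduct.comm R M _ z) = 0 := by
    rw [comm_lTensor, hz, map_zero]
  obtain ⟨M₀, i1, i2, i3, h, z₀, hz₀, hz₀'⟩ := fpa R (TensorProduct.piRightHom R R N Q) _ h1
  have h3 : z₀ = 0 := phi_rTensor_injective_of_fp R hN Q M₀ (by rw [hz₀', map_zero])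
  have h2 : TensorProduct.comm R M _ z = 0 := by rw [← hz₀, h3, map_zero]
  exact (TensorProduct.comm R M _).injective (by rw [h2, map_zero])

end

/-- The tensor product of two Mittag-Leffler modules over a commutative ring is Mittag-Leffler. -/
theorem result (R : Type u) [CommRing R] (M N : Type u) [AddCommGroup M] [Module R M]
    [AddCommGroup N] [Module R N] (hM : CAlg.IsMittagLeffler R M) (hN : CAlg.IsMittagLeffler R N) :
    CAlg.IsMittagLeffler R (M ⊗[R] N) := by
  intro κ Q _ _
  rw [injective_iff_map_eq_zero]
  intro x hx
  let φ := TensorProduct.piRightHom R R N Q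
  have key : ∀ (x : (M ⊗[R] N) ⊗[R] (∀ i, Q i)) (α : κ),
      TensorProduct.piRightHom R R M (fun α => N ⊗[R] Q α)
          (φ.lTensor M (TensorProduct.assoc R M N (∀ i, Q i) x)) α =
        TensorProduct.assoc R M N (Q α) (TensorProduct.piRightHom R R (M ⊗[R] N) Q x α) := by
    intro x α
    induction x using TensorProduct.induction_on with
    | zero => simp
    | tmul a q =>
      induction a using TensorProduct.induction_on with
      | zero => simp
      | tmul m n => simp [φ]
      | add a b ha hb => simp only [TensorProduct.add_tmul, map_add, Pi.add_apply, ha, hb]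
    | add a b ha hb => simp only [map_add, Pi.add_apply, ha, hb]
  have h1 : φ.lTensor M (TensorProduct.assoc R M N (∀ i, Q i) x) = 0 := by
    apply hM κ (fun α => N ⊗[R] Q α)
    rw [map_zero]
    ext α
    rw [key, hx]
    simp
  have h2 : TensorProduct.assoc R M N (∀ i, Q i) x = 0 :=
    phi_universally_injective R hN Q M (by rw [h1, map_zero])
  exact (TensorProduct.assoc R M N (∀ i, Q i)).injective (by rw [h2, map_zero])

end Groth.Agent.S6343
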