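import Groth.Statements.S6345
import Mathlib
import Groth.Agent.Lib.Helper10.ML2

set_option autoImplicit false
universe u
open CAlg

open scoped TensorProduct

namespace Groth.Agent.S6345

lemma key (R : Type u) [CommRing R] (I : Ideal R) (M : Type u) [AddCommGroup M]
    [Module (R ⧸ I) M] [Module R M] [IsScalarTower R (R ⧸ I) M]
    (hR : CAlg.IsMittagLeffler R M) {ι : Type u} (Q : ι → Type u) [∀ i, AddCommGroup (Q i)]
    [∀ i, Module (R ⧸ I) (Q i)] [∀ i, Module R (Q i)] [∀ i, IsScalarTower R (R ⧸ I) (Q i)] :
    Function.Injective (TensorProduct.piRightHom (R ⧸ I) (R ⧸ I) M Q) := by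
  have hsurj : Function.Surjective (algebraMap R (R ⧸ I)) := Ideal.Quotient.mk_surjective
  haveI : TensorProduct.CompatibleSMul R (R ⧸ I) M (∀ i, Q i) :=
    TensorProduct.CompatibleSMul.of_algebraMap_surjective M _ hsurj
  haveI : ∀ i, TensorProduct.CompatibleSMul R (R ⧸ I) M (Q i) := fun i =>
    TensorProduct.CompatibleSMul.of_algebraMap_surjective M _ hsurj
  rw [injective_iff_map_eq_zero]
  intro z hz
  have nat : ∀ (w : M ⊗[R ⧸ I] (∀ i, Q i)) (i : ι),
      TensorProduct.piRightHom R R M Q
        (TensorProduct.equivOfCompatibleSMul R (R ⧸ I) R M (∀ i, Q i) w) i =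
      TensorProduct.equivOfCompatibleSMul R (R ⧸ I) R M (Q i)
        (TensorProduct.piRightHom (R ⧸ I) (R ⧸ I) M Q w i) := by
    intro w i
    induction w using TensorProduct.induction_on with
    | zero => simp
    | tmul m q => rfl
    | add x y hx hy => simp only [map_add, Pi.add_apply, hx, hy]
  have h1 : TensorProduct.piRightHom R R M Q
      (TensorProduct.equivOfCompatibleSMul R (R ⧸ I) R M (∀ i, Q i) z) = 0 := by
    funext i
    rw [nat, hz]
    simp
  have h2 := (injective_iff_map_eq_zero _).1 (hR ι Q) _ h1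
  exact (LinearEquiv.map_eq_zero_iff _).1 h2

/-- Let I be a finitely generated ideal of a commutative ring R and M an R/I-module. Then M is
Mittag-Leffler over R if and only if it is Mittag-Leffler over R/I. -/
theorem result (R : Type u) [CommRing R] (I : Ideal R) (hI : I.FG)
    (M : Type u) [AddCommGroup M] [Module (R ⧸ I) M] [Module R M] [IsScalarTower R (R ⧸ I) M] :
    CAlg.IsMittagLeffler R M ↔ CAlg.IsMittagLeffler (R ⧸ I) M := by
  haveI : Module.FinitePresentation R (R ⧸ I) :=
    Module.finitePresentation_of_surjective (Submodule.mkQ I) (Submodule.mkQ_surjective I)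
      (by rw [Submodule.ker_mkQ]; exact hI)
  constructor
  · intro hR ι Q _ _
    letI : ∀ i, Module R (Q i) := fun i => Module.compHom (Q i) (algebraMap R (R ⧸ I))
    haveI : ∀ i, IsScalarTower R (R ⧸ I) (Q i) := fun i => ⟨fun r s x => by
      show (r • s) • x = algebraMap R (R ⧸ I) r • (s • x)
      rw [Algebra.smul_def, mul_smul]⟩
    exact key R I M hR Q
  · intro hS
    exact Groth.Agent.Lib.Helper10.isML_restrictScalars_of_finitePresentation R (R ⧸ I) M hS

end Groth.Agent.S6345
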