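import Groth.Statements.S6379
import Mathlib
-- import your own Groth.Agent.* helpers here

set_option autoImplicit false
universe u
open scoped TensorProduct
open CAlg

namespace Groth.Agent.S6379

/-- Let M be a flat Mittag-Leffler module over a commutative ring R, F an R-module and x ∈ F ⊗_R M. Then
among the submodules F' of F with x in the image of F' ⊗ M → F ⊗ M there is a smallest one, and it
is a finitely generated module. -/
theorem result (R : Type u) [CommRing R] (M : Type u)
    [AddCommGroup M] [Module R M] [Module.Flat R M] (hM : CAlg.IsMittagLeffler R M)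
    (F : Type u) [AddCommGroup F] [Module R F] (x : F ⊗[R] M) :
    ∃ F' : Submodule R F, F'.FG ∧ x ∈ LinearMap.range (F'.subtype.rTensor M) ∧
      ∀ F'' : Submodule R F, x ∈ LinearMap.range (F''.subtype.rTensor M) → F' ≤ F'' := by
  classical
  let S := {F'' : Submodule R F // x ∈ LinearMap.range (F''.subtype.rTensor M)}
  let F' : Submodule R F := ⨅ s : S, s.1
  have hmin : ∀ F'' : Submodule R F, x ∈ LinearMap.range (F''.subtype.rTensor M) → F' ≤ F'' :=
    fun F'' h => iInf_le (fun s : S => s.1) ⟨F'', h⟩
  let D : F →ₗ[R] (∀ s : S, F ⧸ s.1) := LinearMap.pi (fun s => s.1.mkQ)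
  have hker : LinearMap.ker D = F' := by
    ext v
    simp only [LinearMap.mem_ker, F', Submodule.mem_iInf]
    constructor
    · intro h s
      have h1 := congrFun h s
      simp only [D, LinearMap.pi_apply, Submodule.mkQ_apply, Pi.zero_apply] at h1
      exact (Submodule.Quotient.mk_eq_zero _).mp h1
    · intro h
      funext s
      simp only [D, LinearMap.pi_apply, Submodule.mkQ_apply, Pi.zero_apply]
      exact (Submodule.Quotient.mk_eq_zero _).mpr (h s)
  have hex : Function.Exact F'.subtype D := by
    rw [LinearMap.exact_iff, Submodule.range_subtype, hker]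
  have hex' : Function.Exact (F'.subtype.rTensor M) (D.rTensor M) :=
    Module.Flat.rTensor_exact M hex
  have hDx : D.rTensor M x = 0 := by
    have hinj := hM S (fun s => F ⧸ s.1)
    apply (TensorProduct.comm R (∀ s : S, F ⧸ s.1) M).injective
    apply hinj
    rw [map_zero, map_zero]
    funext s
    have key : ∀ y : F ⊗[R] M, TensorProduct.piRightHom R R M (fun s : S => F ⧸ s.1)
        (TensorProduct.comm R _ M (D.rTensor M y)) s =
          TensorProduct.comm R _ M (s.1.mkQ.rTensor M y) := by
      intro y
      induction y using TensorProduct.induction_on with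
      | zero => simp
      | tmul a b => simp [D]
      | add a b ha hb => simp only [map_add, Pi.add_apply, ha, hb]
    have hzero : s.1.mkQ.rTensor M x = 0 := by
      obtain ⟨xs, hxs⟩ := s.2
      have h0 : s.1.mkQ ∘ₗ s.1.subtype = 0 := by
        ext v
        simp
      have h1 : s.1.mkQ.rTensor M (s.1.subtype.rTensor M xs) = 0 := by
        rw [← LinearMap.rTensor_comp_apply, h0, LinearMap.rTensor_zero, LinearMap.zero_apply]
      rw [hxs] at h1
      exact h1
    rw [key, hzero, map_zero]
    rfl
  have hxF' : x ∈ LinearMap.range (F'.subtype.rTensor M) := (hex' x).mp hDx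
  obtain ⟨x', hx'⟩ := hxF'
  obtain ⟨J, hJfg, hle, y, hy⟩ := Submodule.exists_fg_le_eq_rTensor_inclusion x'
  have hxJ : x ∈ LinearMap.range (J.subtype.rTensor M) := by
    refine ⟨y, ?_⟩
    rw [← hx', hy, ← LinearMap.rTensor_comp_apply]
    rfl
  have hEq : F' = J := le_antisymm (hmin J hxJ) hle
  exact ⟨F', hEq ▸ hJfg, ⟨x', hx'⟩, hmin⟩

end Groth.Agent.S6379
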