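import Groth.Statements.S6346
import Mathlib
import Groth.Agent.S6379

set_option autoImplicit false
universe u
open scoped TensorProduct
open CAlg

namespace Groth.Agent.S6346

/-- Let M be a flat module over a commutative ring R. Then M is Mittag-Leffler exactly when, for each
finite free module F = R^n and each element x of F ⊗ M there is a smallest submodule F' of F such
that x lies in the image of F' ⊗ M → F ⊗ M. -/
theorem result (R : Type u) [CommRing R] (M : Type u)
    [AddCommGroup M] [Module R M] [Module.Flat R M] :
    CAlg.IsMittagLeffler R M ↔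
      ∀ (n : ℕ) (x : (Fin n → R) ⊗[R] M), ∃ F' : Submodule R (Fin n → R),
        x ∈ LinearMap.range (F'.subtype.rTensor M) ∧
        ∀ F'' : Submodule R (Fin n → R), x ∈ LinearMap.range (F''.subtype.rTensor M) → F' ≤ F'' := by
  constructor
  · intro hM n x
    obtain ⟨F', -, h1, h2⟩ := Groth.Agent.S6379.result R M hM (Fin n → R) x
    exact ⟨F', h1, h2⟩
  · intro H κ Q _ _
    rw [injective_iff_map_eq_zero]
    intro x hx
    obtain ⟨P', hfin, hsub⟩ := TensorProduct.exists_finite_submodule_left_of_setFinite
      {TensorProduct.comm R M (∀ i, Q i) x} (Set.finite_singleton _)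
    obtain ⟨x₁, hx₁⟩ := hsub (Set.mem_singleton _)
    obtain ⟨n, π, hπ⟩ := Module.Finite.exists_fin' R P'
    obtain ⟨m, hm⟩ := LinearMap.rTensor_surjective M hπ x₁
    let q : (Fin n → R) →ₗ[R] (∀ i, Q i) := P'.subtype ∘ₗ π
    have hq : q.rTensor M m = TensorProduct.comm R M (∀ i, Q i) x := by
      rw [LinearMap.rTensor_comp_apply, hm, hx₁]
    obtain ⟨F', hF'1, hF'2⟩ := H n m
    have key : ∀ (y : M ⊗[R] (∀ i, Q i)) (α : κ),
        (LinearMap.proj α : (∀ i, Q i) →ₗ[R] Q α).rTensor M
          (TensorProduct.comm R M (∀ i, Q i) y) =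
        TensorProduct.comm R M (Q α) (TensorProduct.piRightHom R R M Q y α) := by
      intro y α
      induction y using TensorProduct.induction_on with
      | zero => simp
      | tmul a b => simp
      | add a b ha hb => simp only [map_add, Pi.add_apply, ha, hb]
    have hle : ∀ α : κ, F' ≤ LinearMap.ker ((LinearMap.proj α : (∀ i, Q i) →ₗ[R] Q α) ∘ₗ q) := by
      intro α
      apply hF'2
      have hex : Function.Exact
          (LinearMap.ker ((LinearMap.proj α : (∀ i, Q i) →ₗ[R] Q α) ∘ₗ q)).subtype
          ((LinearMap.proj α : (∀ i, Q i) →ₗ[R] Q α) ∘ₗ q) :=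
        LinearMap.exact_subtype_ker_map _
      have hex' := Module.Flat.rTensor_exact M hex
      apply (hex' m).mp
      rw [LinearMap.rTensor_comp_apply, hq, key, hx]
      simp
    obtain ⟨m', hm'⟩ := hF'1
    have hzero : q ∘ₗ F'.subtype = 0 := by
      ext v α
      have := hle α v.2
      rw [LinearMap.mem_ker] at this
      simpa using this
    have hcx : TensorProduct.comm R M (∀ i, Q i) x = 0 := by
      rw [← hq, ← hm', ← LinearMap.rTensor_comp_apply, hzero, LinearMap.rTensor_zero,
        LinearMap.zero_apply]
    exact (TensorProduct.comm R M (∀ i, Q i)).injective (by rw [hcx, map_zero])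

end Groth.Agent.S6346
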