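import Groth.Statements.S6347
import Mathlib
import Groth.Agent.Lib.Helper10.ML2

set_option autoImplicit false
universe u
open CAlg

open scoped TensorProduct

namespace Groth.Agent.S6347

open Groth.Agent.Lib.Helper10

section
variable (R : Type u) [CommRing R] (A : Type u)

/-- The natural map `(A → R) ⊗ Q → (A → Q)`. -/
noncomputable def theta (Q : Type u) [AddCommGroup Q] [Module R Q] :
    (A → R) ⊗[R] Q →ₗ[R] (A → Q) :=
  LinearMap.pi (fun a => TensorProduct.lift ((LinearMap.lsmul R Q).comp (LinearMap.proj a)))

lemma theta_tmul (Q : Type u) [AddCommGroup Q] [Module R Q] (m : A → R) (q : Q) (a : A) :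
    theta R A Q (m ⊗ₜ q) a = m a • q := by
  simp [theta]

lemma theta_natural {Q' Q : Type u} [AddCommGroup Q'] [Module R Q'] [AddCommGroup Q] [Module R Q]
    (g : Q' →ₗ[R] Q) (x : (A → R) ⊗[R] Q') (a : A) :
    theta R A Q (g.lTensor (A → R) x) a = g (theta R A Q' x a) := by
  induction x using TensorProduct.induction_on with
  | zero => simp
  | tmul m q => simp [theta_tmul]
  | add x y hx hy => simp only [map_add, Pi.add_apply, hx, hy]

lemma theta_bijective_of_fp (Q : Type u) [AddCommGroup Q] [Module R Q]
    [Module.FinitePresentation R Q] : Function.Bijective (theta R A Q) := by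
  have hb := piRightHom_bijective_of_finitePresentation R Q (fun _ : A => R)
  have heq : theta R A Q =
      (LinearEquiv.piCongrRight (fun _ : A => TensorProduct.rid R Q)).toLinearMap ∘ₗ
        (TensorProduct.piRightHom R R Q (fun _ : A => R)) ∘ₗ
          (TensorProduct.comm R (A → R) Q).toLinearMap := by
    apply TensorProduct.ext'
    intro m q
    ext a
    simp [theta_tmul]
  rw [heq]
  exact (LinearEquiv.piCongrRight (fun _ : A => TensorProduct.rid R Q)).bijective.comp
    (hb.comp (TensorProduct.comm R (A → R) Q).bijective)

lemma theta_injective [IsNoetherianRing R] (Q : Type u) [AddCommGroup Q] [Module R Q] :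
    Function.Injective (theta R A Q) := by
  rw [injective_iff_map_eq_zero]
  intro x hx
  obtain ⟨Q', hfin, hsub⟩ :=
    TensorProduct.exists_finite_submodule_right_of_setFinite {x} (Set.finite_singleton x)
  obtain ⟨x', rfl⟩ := hsub (Set.mem_singleton x)
  haveI : Module.FinitePresentation R Q' := Module.finitePresentation_of_finite R Q'
  have h0 : theta R A Q' x' = 0 := by
    ext a
    have := theta_natural R A Q'.subtype x' a
    rw [hx] at this
    exact this.symm
  have : x' = 0 := (theta_bijective_of_fp R A Q').1 (by rw [h0, map_zero])
  rw [this, map_zero]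

lemma flat_pi [IsNoetherianRing R] : Module.Flat R (A → R) := by
  rw [Module.Flat.iff_lTensor_injective]
  intro I hI
  rw [injective_iff_map_eq_zero]
  intro x hx
  apply theta_injective R A I
  rw [map_zero]
  ext a
  have := theta_natural R A I.subtype x a
  rw [hx, map_zero] at this
  exact this.symm

end

/-- Over a Noetherian ring R, the product module R^A (functions from any set A to R) is flat and
Mittag-Leffler. -/
theorem result (R : Type u) [CommRing R] [IsNoetherianRing R]
    (A : Type u) : Module.Flat R (A → R) ∧ CAlg.IsMittagLeffler R (A → R) := by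
  refine ⟨flat_pi R A, ?_⟩
  intro ι Q _ _
  rw [injective_iff_map_eq_zero]
  intro x hx
  apply theta_injective R A (∀ i, Q i)
  rw [map_zero]
  ext a i
  have key : ∀ x : (A → R) ⊗[R] (∀ i, Q i), theta R A (∀ i, Q i) x a i =
      theta R A (Q i) (TensorProduct.piRightHom R R (A → R) Q x i) a := by
    intro x
    induction x using TensorProduct.induction_on with
    | zero => simp
    | tmul m q => simp [theta_tmul]
    | add x y hx hy => simp only [map_add, Pi.add_apply, hx, hy]
  rw [key, hx]
  simp

end Groth.Agent.S6347
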