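import Groth.Statements.S6348
import Mathlib
-- import your own Groth.Agent.* helpers here

set_option autoImplicit false
universe u
open scoped TensorProduct
open CAlg

namespace Groth.Agent.S6348

section helpers

variable (R S : Type u) [CommRing R] [CommRing S] [Algebra R S] (M : Type u) [AddCommGroup M]
  [Module R M]

/-- `(S ⊗[R] M) ⊗[S] P ≃ M ⊗[R] P`. -/
noncomputable def phi (P : Type u) [AddCommGroup P] [Module S P] [Module R P]
    [IsScalarTower R S P] : (S ⊗[R] M) ⊗[S] P ≃ₗ[R] M ⊗[R] P :=
  ((TensorProduct.comm S (S ⊗[R] M) P).restrictScalars R).trans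
    (((TensorProduct.AlgebraTensorModule.cancelBaseChange R S S P M).restrictScalars R).trans
      (TensorProduct.comm R P M))

lemma phi_tmul (P : Type u) [AddCommGroup P] [Module S P] [Module R P]
    [IsScalarTower R S P] (s : S) (m : M) (x : P) :
    phi R S M P ((s ⊗ₜ[R] m) ⊗ₜ[S] x) = m ⊗ₜ[R] (s • x) := by
  simp [phi]

lemma phi_natural {ι : Type u} (Q : ι → Type u) [∀ i, AddCommGroup (Q i)] [∀ i, Module S (Q i)]
    [∀ i, Module R (Q i)] [∀ i, IsScalarTower R S (Q i)]
    (z : (S ⊗[R] M) ⊗[S] (∀ i, Q i)) (i : ι) :
    TensorProduct.piRightHom R R M Q (phi R S M (∀ i, Q i) z) i =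
      phi R S M (Q i) (TensorProduct.piRightHom S S (S ⊗[R] M) Q z i) := by
  induction z using TensorProduct.induction_on with
  | zero => simp
  | tmul t q =>
    induction t using TensorProduct.induction_on with
    | zero => simp
    | tmul s m => simp [phi_tmul]
    | add a b ha hb => simp only [TensorProduct.add_tmul, map_add, Pi.add_apply, ha, hb]
  | add x y hx hy => simp only [map_add, Pi.add_apply, hx, hy]

lemma key (hM : CAlg.IsMittagLeffler R M) {ι : Type u} (Q : ι → Type u)
    [∀ i, AddCommGroup (Q i)] [∀ i, Module S (Q i)] [∀ i, Module R (Q i)]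
    [∀ i, IsScalarTower R S (Q i)] :
    Function.Injective (TensorProduct.piRightHom S S (S ⊗[R] M) Q) := by
  rw [injective_iff_map_eq_zero]
  intro z hz
  have h1 : TensorProduct.piRightHom R R M Q (phi R S M (∀ i, Q i) z) = 0 := by
    funext i
    rw [phi_natural, hz]
    simp
  have h2 := (injective_iff_map_eq_zero _).1 (hM ι Q) _ h1
  exact (LinearEquiv.map_eq_zero_iff _).1 h2

end helpers

/-- For a ring map R → S and a Mittag-Leffler R-module M, the S-module S ⊗_R M is Mittag-Leffler. (The
companion parts on flat modules, projective modules and direct sums of countably generated modules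
are standard base-change facts.) -/
theorem result (R S : Type u) [CommRing R] [CommRing S] [Algebra R S] (M : Type u)
    [AddCommGroup M] [Module R M] (hM : CAlg.IsMittagLeffler R M) :
    CAlg.IsMittagLeffler S (S ⊗[R] M) := by
  intro ι Q _ _
  letI : ∀ i, Module R (Q i) := fun i => Module.compHom (Q i) (algebraMap R S)
  haveI : ∀ i, IsScalarTower R S (Q i) := fun i => ⟨fun r s x => by
    show (r • s) • x = algebraMap R S r • (s • x)
    rw [Algebra.smul_def, mul_smul]⟩
  exact key R S M hM Q

end Groth.Agent.S6348
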