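import Groth.Statements.S6351
import Mathlib
import Groth.Agent.Lib.Helper10.LiftProj
import Groth.Agent.S6267

set_option autoImplicit false
universe u
open scoped TensorProduct
open CAlg

namespace Groth.Agent.S6351

open Groth.Agent.Lib.Helper10

/-- A map which is bijective modulo a nilpotent ideal `I`, into a module `M` with
`Tor₁(R/I, M) = 0`, is bijective. -/
theorem bijective_of_baseChange_bijective' {R : Type u} [CommRing R] (I : Ideal R)
    (hI : IsNilpotent I) {P M : Type u} [AddCommGroup P] [Module R P] [AddCommGroup M] [Module R M]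
    (φ : P →ₗ[R] M) (htor : Function.Injective ((Submodule.subtype I).rTensor M))
    (hbij' : Function.Bijective (φ.baseChange (R ⧸ I))) :
    Function.Bijective φ := by
  classical
  have hφsurj : Function.Surjective φ := by
    rw [← LinearMap.range_eq_top]
    apply eq_top_of_sup_smul_top_of_isNilpotent I hI
    rw [eq_top_iff]
    rintro m -
    obtain ⟨t, ht⟩ := hbij'.2 ((1 : R ⧸ I) ⊗ₜ[R] m)
    obtain ⟨p, rfl⟩ := exists_one_tmul I t
    rw [LinearMap.baseChange_tmul] at ht
    have h0 : (1 : R ⧸ I) ⊗ₜ[R] (m - φ p) = 0 := by rw [TensorProduct.tmul_sub, ht, sub_self]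
    rw [one_tmul_eq_zero_iff] at h0
    have hm : m = φ p + (m - φ p) := by abel
    rw [hm]
    exact Submodule.add_mem_sup (LinearMap.mem_range_self φ p) h0
  refine ⟨?_, hφsurj⟩
  rw [injective_iff_map_eq_zero]
  have hexact : Function.Exact (LinearMap.ker φ).subtype φ := by
    rw [LinearMap.exact_iff]
    simp
  have hfF : Function.Injective ((LinearMap.ker φ).subtype.rTensor R) :=
    Module.Flat.rTensor_preserves_injective_linearMap _ (Submodule.injective_subtype _)
  have hιC : Function.Injective (I.subtype.lTensor M) :=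
    (LinearMap.lTensor_inj_iff_rTensor_inj _ _).mpr htor
  have hKinj : Function.Injective ((LinearMap.ker φ).subtype.rTensor (R ⧸ I)) :=
    Groth.Agent.S6267.chase (M := ↥(LinearMap.ker φ)) (M' := P) (N := ↥I) (F := R) (Q := R ⧸ I)
      (LinearMap.ker φ).subtype φ hexact hφsurj
      I.subtype I.mkQ (LinearMap.exact_subtype_mkQ I) (Submodule.mkQ_surjective I) hfF hιC
  have hKinj' : Function.Injective ((LinearMap.ker φ).subtype.lTensor (R ⧸ I)) :=
    (LinearMap.lTensor_inj_iff_rTensor_inj _ _).mpr hKinj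
  have hsub : Subsingleton (LinearMap.ker φ) := by
    apply subsingleton_of_le_smul_of_isNilpotent I hI
    rintro k -
    rw [← one_tmul_eq_zero_iff]
    apply hKinj'
    rw [map_zero, LinearMap.lTensor_tmul]
    apply hbij'.1
    rw [map_zero, LinearMap.baseChange_tmul]
    have hk : φ ((LinearMap.ker φ).subtype k) = 0 := k.2
    rw [hk, TensorProduct.tmul_zero]
  intro x hx
  have := Subsingleton.elim (⟨x, hx⟩ : LinearMap.ker φ) 0
  exact congrArg Subtype.val this

/-- Let I be a nilpotent ideal of a commutative ring R and M an R-module with Tor_1^R(R/I, M) = 0, i.e.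
I ⊗_R M → M injective. If a family of elements of M maps to a basis of the R/I-module M/IM = R/I ⊗
M, then it is a basis of M over R. -/
theorem result (R : Type u) [CommRing R] (I : Ideal R)
    (hI : IsNilpotent I) (M : Type u) [AddCommGroup M] [Module R M]
    (htor : Function.Injective ((Submodule.subtype I).rTensor M)) {A : Type u} (x : A → M)
    (hli : LinearIndependent (R ⧸ I) (fun a => (1 : R ⧸ I) ⊗ₜ[R] x a))
    (hsp : Submodule.span (R ⧸ I) (Set.range fun a => (1 : R ⧸ I) ⊗ₜ[R] x a) = ⊤) :
    LinearIndependent R x ∧ Submodule.span R (Set.range x) = ⊤ := by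
  classical
  let φ : (A →₀ R) →ₗ[R] M := Finsupp.linearCombination R x
  let b₁ : Module.Basis A (R ⧸ I) ((R ⧸ I) ⊗[R] (A →₀ R)) :=
    (Finsupp.basisSingleOne (R := R) (ι := A)).baseChange (R ⧸ I)
  let b₂ : Module.Basis A (R ⧸ I) ((R ⧸ I) ⊗[R] M) := Module.Basis.mk hli (by rw [hsp])
  have hbc : φ.baseChange (R ⧸ I) = (b₁.equiv b₂ (Equiv.refl A)).toLinearMap := by
    apply b₁.ext
    intro a
    have h1 : φ.baseChange (R ⧸ I) (b₁ a) = (1 : R ⧸ I) ⊗ₜ[R] x a := by
      simp [b₁, φ, Module.Basis.baseChange_apply]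
    have h2 : (b₁.equiv b₂ (Equiv.refl A)).toLinearMap (b₁ a) = (1 : R ⧸ I) ⊗ₜ[R] x a := by
      rw [LinearEquiv.coe_coe, Module.Basis.equiv_apply, Equiv.refl_apply, Module.Basis.mk_apply]
    rw [h1, h2]
  have hbij' : Function.Bijective (φ.baseChange (R ⧸ I)) := by
    rw [hbc]
    exact (b₁.equiv b₂ (Equiv.refl A)).bijective
  have hb := bijective_of_baseChange_bijective' I hI φ htor hbij'
  refine ⟨hb.1, ?_⟩
  rw [← Finsupp.range_linearCombination]
  exact LinearMap.range_eq_top.mpr hb.2

end Groth.Agent.S6351
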