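import Groth.Statements.S6352
import Mathlib
import Groth.Agent.Lib.Helper9.FlatSqZero
import Groth.Agent.S6384

set_option autoImplicit false
universe u
open scoped TensorProduct
open CAlg

namespace Groth.Agent.S6352


open TensorProduct

/-- The sequence `I₀ = I`, `Iₙ₊₁ = φ⁻¹(φ(Iₙ²) R')`. -/
def Jseq {R : Type u} (R' : Type u) [CommRing R] [CommRing R'] [Algebra R R'] (I : Ideal R) :
    ℕ → Ideal R
  | 0 => I
  | n + 1 => (((Jseq R' I n) ^ 2).map (algebraMap R R')).comap (algebraMap R R')

theorem flat_Jseq {R R' : Type u} [CommRing R] [CommRing R'] [Algebra R R'] (I : Ideal R)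
    (M : Type u) [AddCommGroup M] [Module R M] [Module.Flat (R ⧸ I) ((R ⧸ I) ⊗[R] M)]
    [Module.Flat R' (R' ⊗[R] M)] (n : ℕ) :
    Module.Flat (R ⧸ Jseq R' I n) ((R ⧸ Jseq R' I n) ⊗[R] M) := by
  induction n with
  | zero =>
    show Module.Flat (R ⧸ I) ((R ⧸ I) ⊗[R] M)
    infer_instance
  | succ n ih =>
    haveI := ih
    exact Groth.Agent.S6384.result R R' (Jseq R' I n) M

theorem Jseq_le {R R' : Type u} [CommRing R] [CommRing R'] [Algebra R R'] (I : Ideal R) (n : ℕ) :
    Jseq R' I n ≤ ((I ^ (2 ^ n)).map (algebraMap R R')).comap (algebraMap R R') := by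
  induction n with
  | zero =>
    show I ≤ _
    rw [pow_zero, pow_one]
    exact Ideal.le_comap_map
  | succ n ih =>
    show (((Jseq R' I n) ^ 2).map (algebraMap R R')).comap (algebraMap R R') ≤ _
    apply Ideal.comap_mono
    calc ((Jseq R' I n) ^ 2).map (algebraMap R R')
        = ((Jseq R' I n).map (algebraMap R R')) ^ 2 := Ideal.map_pow _ _ _
      _ ≤ ((((I ^ (2 ^ n)).map (algebraMap R R')).comap (algebraMap R R')).map
            (algebraMap R R')) ^ 2 := Ideal.pow_right_mono (Ideal.map_mono ih) 2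
      _ ≤ ((I ^ (2 ^ n)).map (algebraMap R R')) ^ 2 := Ideal.pow_right_mono Ideal.map_comap_le 2
      _ = (I ^ (2 ^ (n + 1))).map (algebraMap R R') := by
          rw [← Ideal.map_pow, ← pow_mul, pow_succ]

/-- Let R → R' be an injective ring map, I ⊆ R a nilpotent ideal and M an R-module. Then flatness of M
over R follows from flatness of M/IM over R/I together with flatness of R' ⊗_R M over R'. -/
theorem result (R R' : Type u) [CommRing R] [CommRing R']
    [Algebra R R'] (hinj : Function.Injective (algebraMap R R')) (I : Ideal R) (hI : IsNilpotent I)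
    (M : Type u) [AddCommGroup M] [Module R M] [Module.Flat (R ⧸ I) ((R ⧸ I) ⊗[R] M)]
    [Module.Flat R' (R' ⊗[R] M)] : Module.Flat R M := by
  obtain ⟨k, hk⟩ := hI
  have hJk : Jseq R' I k = ⊥ := by
    rw [eq_bot_iff]
    refine (Jseq_le (R' := R') I k).trans ?_
    have h0 : I ^ (2 ^ k) = ⊥ := by
      have h1 : k ≤ 2 ^ k := Nat.lt_two_pow_self.le
      have h2 := Ideal.pow_le_pow_right h1 (I := I)
      rw [hk, Ideal.zero_eq_bot] at h2
      exact le_bot_iff.mp h2
    rw [h0, Ideal.map_bot]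
    intro x hx
    rw [Ideal.mem_comap, Ideal.mem_bot] at hx
    rw [Ideal.mem_bot]
    exact hinj (by rw [hx, map_zero])
  haveI := flat_Jseq (R' := R') I M k
  let f : R ⧸ Jseq R' I k →ₐ[R] R := Ideal.Quotient.liftₐ (Jseq R' I k) (AlgHom.id R R)
    (fun a ha => by
      have h3 : a ∈ (⊥ : Ideal R) := hJk ▸ ha
      simpa using h3)
  haveI : Module.Flat R (R ⊗[R] M) := Groth.Agent.Lib.Helper9.FlatSqZero.flat_of_algHom f M
  exact Module.Flat.of_linearEquiv (TensorProduct.lid R M).symm

end Groth.Agent.S6352
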