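import Groth.Statements.S6353
import Mathlib
-- import your own Groth.Agent.* helpers here

set_option autoImplicit false
universe u
open CAlg

open scoped TensorProduct

namespace Groth.Agent.S6353

open PrimeSpectrum

theorem exists_pow_mul_eq_zero {R : Type u} [CommRing R] (Z : Set (PrimeSpectrum R))
    (hZg : StableUnderGeneralization Z) (J : Ideal R) (hJ : zeroLocus (J : Set R) = Z)
    (a : R) (ha : a ∈ J) : ∃ n : ℕ, ∃ j ∈ J, a ^ n * (1 + j) = 0 := by
  by_contra hcon
  push_neg at hcon
  let T : Submonoid R :=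
    { carrier := {t | ∃ n : ℕ, ∃ j ∈ J, t = a ^ n * (1 + j)}
      one_mem' := ⟨0, 0, J.zero_mem, by simp⟩
      mul_mem' := by
        rintro _ _ ⟨n, j, hj, rfl⟩ ⟨m, k, hk, rfl⟩
        refine ⟨n + m, j + k + j * k, J.add_mem (J.add_mem hj hk) (J.mul_mem_left j hk), by ring⟩ }
  have hdisj : Disjoint (((⊥ : Ideal R) : Set R)) (T : Set R) := by
    rw [Set.disjoint_left]
    rintro x hx ⟨n, j, hj, rfl⟩
    exact hcon n j hj (Ideal.mem_bot.mp hx)
  obtain ⟨q, hqp, -, hqT⟩ := Ideal.exists_le_prime_disjoint ⊥ T hdisj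
  have haq : a ∉ q := fun h => Set.disjoint_left.mp hqT h ⟨1, 0, J.zero_mem, by simp⟩
  have hne : q ⊔ J ≠ ⊤ := by
    intro htop
    have h1 : (1 : R) ∈ q ⊔ J := by rw [htop]; trivial
    obtain ⟨b, hb, j, hj, hbj⟩ := Submodule.mem_sup.mp h1
    refine Set.disjoint_left.mp hqT hb ⟨0, -j, J.neg_mem hj, ?_⟩
    rw [pow_zero, one_mul, ← hbj]; ring
  obtain ⟨m, hm, hle⟩ := Ideal.exists_le_maximal _ hne
  have hmp : m.IsPrime := hm.isPrime
  let P : PrimeSpectrum R := ⟨m, hmp⟩
  let Q : PrimeSpectrum R := ⟨q, hqp⟩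
  have hPZ : P ∈ Z := by
    rw [← hJ, mem_zeroLocus]
    exact fun x hx => hle (Ideal.mem_sup_right hx)
  have hQP : Q ⤳ P := (PrimeSpectrum.le_iff_specializes Q P).mp
    (show Q.asIdeal ≤ P.asIdeal from fun x hx => hle (Ideal.mem_sup_left hx))
  have hQZ : Q ∈ Z := hZg hQP hPZ
  rw [← hJ, mem_zeroLocus] at hQZ
  exact haq (hQZ ha)

theorem pure_of_forall {R : Type u} [CommRing R] (I : Ideal R)
    (h : ∀ x ∈ I, ∃ y ∈ I, x = x * y) : I.Pure := by
  refine Ideal.Pure.of_inf_eq_mul I (fun J' _ => le_antisymm ?_ Ideal.mul_le_inf)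
  rintro x ⟨hxI, hxJ⟩
  obtain ⟨y, hy, hxy⟩ := h x hxI
  rw [hxy, mul_comm x y]
  exact Ideal.mul_mem_mul hy hxJ

open PrimeSpectrum in
/-- For a commutative ring R, I ↦ V(I) is a bijection between pure ideals (R/I flat over R) and closed
subsets of Spec R stable under generalization. Stated here as: V(I) is stable under generalization
for I pure, and every closed generalization-stable subset is V(I) for some pure I (injectivity on
pure ideals being the standard fact that pure ideals with the same zero locus coincide). -/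
theorem result (R : Type u) [CommRing R] :
    (∀ I : Ideal R, I.Pure → StableUnderGeneralization (zeroLocus (I : Set R))) ∧
      ∀ Z : Set (PrimeSpectrum R), IsClosed Z → StableUnderGeneralization Z →
        ∃ I : Ideal R, I.Pure ∧ zeroLocus (I : Set R) = Z := by
  constructor
  · intro I hI p q hqp hp
    haveI : I.Pure := hI
    rw [mem_zeroLocus] at hp ⊢
    have hle : q.asIdeal ≤ p.asIdeal := (PrimeSpectrum.le_iff_specializes q p).mpr hqp
    intro x hx
    obtain ⟨y, hy, hxy⟩ := Ideal.exists_eq_mul_of_pure (I := I) hx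
    have h0 : x * (1 - y) = 0 := by rw [mul_sub, mul_one, ← hxy, sub_self]
    have h1 : (1 - y) ∉ q.asIdeal := by
      intro h
      apply p.2.ne_top
      rw [Ideal.eq_top_iff_one]
      have := p.asIdeal.add_mem (hle h) (hp hy)
      rwa [sub_add_cancel] at this
    have h2 : x * (1 - y) ∈ q.asIdeal := by rw [h0]; exact q.asIdeal.zero_mem
    exact (q.2.mem_or_mem h2).resolve_right h1
  · intro Z hZc hZg
    set J : Ideal R := vanishingIdeal Z with hJdef
    have hJ : zeroLocus (J : Set R) = Z := by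
      rw [hJdef, zeroLocus_vanishingIdeal_eq_closure, hZc.closure_eq]
    let I : Ideal R :=
      { carrier := {x | ∃ a ∈ J, x = x * a}
        zero_mem' := ⟨0, J.zero_mem, by simp⟩
        add_mem' := by
          rintro x y ⟨a, ha, hx⟩ ⟨b, hb, hy⟩
          refine ⟨a + b - a * b, J.sub_mem (J.add_mem ha hb) (J.mul_mem_left a hb), ?_⟩
          linear_combination (1 - b) * hx + (1 - a) * hy
        smul_mem' := by
          rintro c x ⟨a, ha, hx⟩
          exact ⟨a, ha, by rw [smul_eq_mul, mul_assoc, ← hx]⟩ }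
    have hIJ : I ≤ J := by
      rintro x ⟨a, ha, hx⟩
      rw [hx]
      exact J.mul_mem_left x ha
    have hpow : ∀ a ∈ J, ∃ n : ℕ, a ^ n ∈ I := by
      intro a ha
      obtain ⟨n, j, hj, h0⟩ := exists_pow_mul_eq_zero Z hZg J hJ a ha
      refine ⟨n, -j, J.neg_mem hj, ?_⟩
      linear_combination h0
    have hmulpow : ∀ (x a : R), x = x * a → ∀ n : ℕ, x = x * a ^ n := by
      intro x a hxa n
      induction n with
      | zero => simp
      | succ n ih =>
        rw [pow_succ, ← mul_assoc, ← ih, ← hxa]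
    refine ⟨I, ?_, ?_⟩
    · apply pure_of_forall
      rintro x ⟨a, ha, hx⟩
      obtain ⟨n, hn⟩ := hpow a ha
      exact ⟨a ^ n, hn, hmulpow x a hx n⟩
    · apply Set.Subset.antisymm
      · intro p hp
        rw [mem_zeroLocus] at hp
        rw [← hJ, mem_zeroLocus]
        intro a ha
        obtain ⟨n, hn⟩ := hpow a ha
        exact p.2.mem_of_pow_mem n (hp hn)
      · rw [← hJ]
        exact zeroLocus_anti_mono_ideal hIJ

end Groth.Agent.S6353
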