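import Groth.Statements.S6354
import Mathlib
-- import your own Groth.Agent.* helpers here

set_option autoImplicit false
universe u
open CAlg

open scoped TensorProduct

namespace Groth.Agent.S6354

open PrimeSpectrum

theorem pure_span_idem {R : Type u} [CommRing R] (e : R) (he : IsIdempotentElem e) :
    (Ideal.span {e}).Pure := by
  apply Ideal.Pure.of_isIdempotentElem (Submodule.fg_span_singleton e)
  rw [Ideal.isIdempotentElem_iff_of_fg _ (Submodule.fg_span_singleton e)]
  exact ⟨e, he, rfl⟩

theorem exists_idem_of_projective {R : Type u} [CommRing R] (I : Ideal R)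
    [Module.Projective R (R ⧸ I)] : ∃ e : R, IsIdempotentElem e ∧ I = Ideal.span {e} := by
  obtain ⟨σ, hσ⟩ := Module.projective_lifting_property (Submodule.mkQ I) LinearMap.id
    (Submodule.mkQ_surjective I)
  have hσ' : ∀ y, I.mkQ (σ y) = y := fun y => LinearMap.congr_fun hσ y
  have hmem : ∀ x, x ∈ I ↔ I.mkQ x = 0 := fun x => by
    rw [Submodule.mkQ_apply, Submodule.Quotient.mk_eq_zero]
  set e := 1 - σ (I.mkQ 1) with he
  have heI : e ∈ I := by rw [hmem, he, map_sub, hσ', sub_self]
  have hx : ∀ x ∈ I, x = x * e := by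
    intro x hxI
    have h1 : σ (I.mkQ x) = 0 := by rw [(hmem x).mp hxI, map_zero]
    have h2 : σ (I.mkQ x) = x * σ (I.mkQ 1) := by
      have : I.mkQ x = x • I.mkQ 1 := by rw [← map_smul, smul_eq_mul, mul_one]
      rw [this, map_smul, smul_eq_mul]
    rw [he, mul_sub, mul_one, ← h2, h1, sub_zero]
  refine ⟨e, (hx e heI).symm, le_antisymm ?_ ?_⟩
  · intro x hxI
    rw [hx x hxI]
    exact Ideal.mul_mem_left _ _ (Ideal.subset_span rfl)
  · rw [Ideal.span_le, Set.singleton_subset_iff]
    exact heI

theorem projective_of_idem {R : Type u} [CommRing R] (e : R) (he : IsIdempotentElem e) :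
    Module.Projective R (R ⧸ Ideal.span {e}) := by
  have hle : Ideal.span {e} ≤ LinearMap.ker (LinearMap.mulLeft R (1 - e)) := by
    rw [Ideal.span_le, Set.singleton_subset_iff]
    show (1 - e) * e = 0
    rw [sub_mul, one_mul, he.eq, sub_self]
  let i : R ⧸ Ideal.span {e} →ₗ[R] R :=
    Submodule.liftQ (Ideal.span {e}) (LinearMap.mulLeft R (1 - e)) hle
  have key : ∀ y, (Ideal.span {e}).mkQ (i y) = y := by
    intro y
    obtain ⟨x, rfl⟩ := Submodule.mkQ_surjective (Ideal.span {e}) y
    show (Ideal.span {e}).mkQ ((1 - e) * x) = (Ideal.span {e}).mkQ x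
    rw [← sub_eq_zero, ← map_sub, Submodule.mkQ_apply, Submodule.Quotient.mk_eq_zero]
    have : (1 - e) * x - x = -x * e := by ring
    rw [this]
    exact Ideal.mul_mem_left _ _ (Ideal.subset_span rfl)
  exact Module.Projective.of_split i (Ideal.span {e}).mkQ (LinearMap.ext key)

open PrimeSpectrum in
/-- For an ideal I of a commutative ring R these four conditions are equivalent: (1) I is finitely
generated and pure; (2) I = (e) for some idempotent e; (3) I is pure with V(I) open in Spec R; (4)
R/I is projective as an R-module. -/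
theorem result (R : Type u) [CommRing R] (I : Ideal R) :
    List.TFAE [I.Pure ∧ I.FG, ∃ e : R, IsIdempotentElem e ∧ I = Ideal.span {e},
      I.Pure ∧ IsOpen (zeroLocus (I : Set R)), Module.Projective R (R ⧸ I)] := by
  tfae_have 1 → 2 := by
    rintro ⟨hp, hfg⟩
    haveI : I.Pure := hp
    exact (Ideal.isIdempotentElem_iff_of_fg I hfg).mp (Ideal.isIdempotentElem_of_pure I)
  tfae_have 2 → 1 := by
    rintro ⟨e, he, rfl⟩
    exact ⟨pure_span_idem e he, Submodule.fg_span_singleton e⟩
  tfae_have 2 → 3 := by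
    rintro ⟨e, he, rfl⟩
    refine ⟨pure_span_idem e he, ?_⟩
    rw [zeroLocus_span, zeroLocus_eq_basicOpen_of_isIdempotentElem e he]
    exact (basicOpen (1 - e)).2
  tfae_have 3 → 2 := by
    rintro ⟨hp, ho⟩
    haveI : I.Pure := hp
    obtain ⟨e, he, hZ⟩ := isClopen_iff_zeroLocus.mp ⟨isClosed_zeroLocus _, ho⟩
    refine ⟨e, he, ?_⟩
    haveI : (Ideal.span {e}).Pure := pure_span_idem e he
    apply Ideal.zeroLocus_inj_of_pure.mp
    rw [hZ, zeroLocus_span]
  tfae_have 2 → 4 := by
    rintro ⟨e, he, rfl⟩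
    exact projective_of_idem e he
  tfae_have 4 → 2 := by
    intro h
    exact exists_idem_of_projective I
  tfae_finish

end Groth.Agent.S6354
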