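import Groth.Statements.S6355
import Mathlib
import Groth.Agent.S6353
import Groth.Agent.S6354

set_option autoImplicit false
universe u
open CAlg

open scoped TensorProduct

namespace Groth.Agent.S6355


attribute [local instance] Module.free_of_flat_of_isLocalRing

section

variable {R : Type u} [CommRing R] {M : Type u} [AddCommGroup M] [Module R M]
  [Module.Finite R M] [Module.Flat R M]

theorem nontrivial_of_prime (q : PrimeSpectrum R) : Nontrivial R := by
  by_contra hnt
  rw [not_nontrivial_iff_subsingleton] at hnt
  exact q.isPrime.ne_top ((Ideal.eq_top_iff_one _).mpr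
    (by rw [Subsingleton.elim (1 : R) 0]; exact zero_mem _))

theorem exists_phi (p : PrimeSpectrum R) :
    ∃ φ : (Fin (Module.rankAtStalk M p) →₀ R) →ₗ[R] M,
      Function.Surjective (LocalizedModule.map p.asIdeal.primeCompl φ) := by
  let Rₚ := Localization.AtPrime p.asIdeal
  let n := Module.rankAtStalk M p
  let f : (Fin n →₀ R) →ₗ[R] Fin n →₀ Rₚ := Finsupp.mapRange.linearMap (Algebra.linearMap R Rₚ)
  let g : M →ₗ[R] LocalizedModule.AtPrime p.asIdeal M :=
    LocalizedModule.mkLinearMap p.asIdeal.primeCompl M
  obtain ⟨φ, -, -, hφps⟩ :=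
    Module.exists_localizedMap_surjective_of_surjective p.asIdeal.primeCompl f g
      ((Module.finBasis Rₚ
        (LocalizedModule.AtPrime p.asIdeal M)).repr.restrictScalars R).symm.surjective
  refine ⟨φ, ?_⟩
  simpa [LocalizedModule.coe_map_eq f g]

theorem rank_le_of_surj {n : ℕ} (φ : (Fin n →₀ R) →ₗ[R] M) (q : PrimeSpectrum R)
    (h : Function.Surjective (LocalizedModule.map q.asIdeal.primeCompl φ)) :
    Module.rankAtStalk M q ≤ n := by
  haveI : Nontrivial R := nontrivial_of_prime q
  have h1 := LinearMap.finrank_le_finrank_of_surjective h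
  have h2 : Module.rankAtStalk (Fin n →₀ R) q = n := by simp
  calc Module.rankAtStalk M q ≤ Module.rankAtStalk (Fin n →₀ R) q := h1
    _ = n := h2

theorem exists_open_surj (p : PrimeSpectrum R) :
    ∃ (W : Set (PrimeSpectrum R)) (φ : (Fin (Module.rankAtStalk M p) →₀ R) →ₗ[R] M),
      IsOpen W ∧ p ∈ W ∧
      (∀ q ∈ W, Function.Surjective (LocalizedModule.map q.asIdeal.primeCompl φ)) ∧
      Wᶜ = Module.support R (M ⧸ LinearMap.range φ) := by
  obtain ⟨φ, hφ⟩ := exists_phi (M := M) p
  refine ⟨(Module.support R (M ⧸ LinearMap.range φ))ᶜ, φ, ?_, ?_, ?_, compl_compl _⟩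
  · rw [isOpen_compl_iff, Module.support_eq_zeroLocus]
    exact PrimeSpectrum.isClosed_zeroLocus _
  · rw [Set.mem_compl_iff, Module.notMem_support_iff]
    exact (LinearMap.localizedMap_surjective_iff_subsingleton_localized_coker _ φ).mp hφ
  · intro q hq
    rw [Set.mem_compl_iff, Module.notMem_support_iff] at hq
    exact (LinearMap.localizedMap_surjective_iff_subsingleton_localized_coker _ φ).mpr hq

theorem isOpen_le (d : ℕ) : IsOpen {q : PrimeSpectrum R | Module.rankAtStalk M q ≤ d} := by
  rw [isOpen_iff_forall_mem_open]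
  intro p hp
  obtain ⟨W, φ, hW, hpW, hsurj, -⟩ := exists_open_surj (M := M) p
  exact ⟨W, fun q hq => (rank_le_of_surj φ q (hsurj q hq)).trans hp, hW, hpW⟩

theorem isOpen_ge
    (h1 : ∀ Z : Set (PrimeSpectrum R), IsClosed Z → StableUnderGeneralization Z → IsOpen Z)
    (k : ℕ) : IsOpen {q : PrimeSpectrum R | k ≤ Module.rankAtStalk M q} := by
  apply h1
  · rcases Nat.eq_zero_or_pos k with rfl | hk
    · simp
    · have hset : {q : PrimeSpectrum R | k ≤ Module.rankAtStalk M q} =
          {q : PrimeSpectrum R | Module.rankAtStalk M q ≤ k - 1}ᶜ := by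
        ext q
        simp only [Set.mem_setOf_eq, Set.mem_compl_iff, not_le]
        omega
      rw [hset]
      exact (isOpen_le (M := M) (k - 1)).isClosed_compl
  · intro x y hyx hx
    have hle : y ≤ x := (PrimeSpectrum.le_iff_specializes y x).mpr hyx
    simp only [Set.mem_setOf_eq] at hx ⊢
    rw [Module.rankAtStalk_eq_of_le_of_finite_of_flat M hle]
    exact hx

theorem exists_free_away
    (h1 : ∀ Z : Set (PrimeSpectrum R), IsClosed Z → StableUnderGeneralization Z → IsOpen Z)
    (p : PrimeSpectrum R) :
    ∃ a : R, a ∉ p.asIdeal ∧ Module.Free (Localization.Away a) (LocalizedModule.Away a M) := by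
  haveI : Nontrivial R := nontrivial_of_prime p
  obtain ⟨W, φ, hW, hpW, hsurj, hWc⟩ := exists_open_surj (M := M) p
  have hU : IsOpen (W ∩ ({q | Module.rankAtStalk M p ≤ Module.rankAtStalk M q} ∩
      {q | Module.rankAtStalk M q ≤ Module.rankAtStalk M p})) :=
    hW.inter ((isOpen_ge h1 _).inter (isOpen_le _))
  have hpU : p ∈ W ∩ ({q | Module.rankAtStalk M p ≤ Module.rankAtStalk M q} ∩
      {q | Module.rankAtStalk M q ≤ Module.rankAtStalk M p}) :=
    ⟨hpW, show Module.rankAtStalk M p ≤ Module.rankAtStalk M p from le_rfl,
      show Module.rankAtStalk M p ≤ Module.rankAtStalk M p from le_rfl⟩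
  obtain ⟨_, ⟨a, rfl⟩, hpa, haU⟩ :=
    PrimeSpectrum.isTopologicalBasis_basic_opens.exists_subset_of_mem_open hpU hU
  have hap : a ∉ p.asIdeal := (PrimeSpectrum.mem_basicOpen a p).mp hpa
  refine ⟨a, hap, ?_⟩
  have hsupp : Module.support R (M ⧸ LinearMap.range φ) ⊆ PrimeSpectrum.zeroLocus {a} := by
    intro q hq
    rw [PrimeSpectrum.mem_zeroLocus, Set.singleton_subset_iff]
    by_contra hqa
    have hqW : q ∈ W :=
      (haU (show q ∈ (PrimeSpectrum.basicOpen a : Set (PrimeSpectrum R)) from hqa)).1
    have hqc : q ∈ Wᶜ := by rw [hWc]; exact hq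
    exact hqc hqW
  have hφas : Function.Surjective (LocalizedModule.map (Submonoid.powers a) φ) :=
    (LinearMap.localizedMap_surjective_iff_subsingleton_localized_coker _ φ).mpr
      (LocalizedModule.subsingleton_iff_support_subset.mpr hsupp)
  haveI : Module.Free (Localization.Away a)
      (LocalizedModule.Away a (Fin (Module.rankAtStalk M p) →₀ R)) :=
    Module.free_of_isLocalizedModule (Rₛ := Localization.Away a)
      (Mₛ := LocalizedModule.Away a (Fin (Module.rankAtStalk M p) →₀ R)) (Submonoid.powers a)
      (LocalizedModule.mkLinearMap (Submonoid.powers a) (Fin (Module.rankAtStalk M p) →₀ R))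
  have H : ∀ (m : Ideal (Localization.Away a)) [m.IsMaximal],
      Module.rankAtStalk (LocalizedModule.Away a (Fin (Module.rankAtStalk M p) →₀ R))
        ⟨m, inferInstance⟩ =
      Module.rankAtStalk (LocalizedModule.Away a M) ⟨m, inferInstance⟩ := by
    intro m _
    have hmem : PrimeSpectrum.comap (algebraMap R (Localization.Away a)) ⟨m, inferInstance⟩ ∈
        (PrimeSpectrum.basicOpen a : Set (PrimeSpectrum R)) := by
      show a ∉
        (PrimeSpectrum.comap (algebraMap R (Localization.Away a)) ⟨m, inferInstance⟩).asIdeal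
      intro ha
      have ha' : algebraMap R (Localization.Away a) a ∈ m := ha
      have hu : IsUnit (algebraMap R (Localization.Away a) a) :=
        IsLocalization.Away.algebraMap_isUnit a
      exact (inferInstance : m.IsPrime).ne_top (Ideal.eq_top_of_isUnit_mem _ ha' hu)
    have hrk := (haU hmem).2
    have hrk' : Module.rankAtStalk M
        (PrimeSpectrum.comap (algebraMap R (Localization.Away a)) ⟨m, inferInstance⟩) =
        Module.rankAtStalk M p := le_antisymm hrk.2 hrk.1
    rw [Module.rankAtStalk_isBaseChange (LocalizedModule.isBaseChange (Submonoid.powers a) _),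
      Module.rankAtStalk_isBaseChange (LocalizedModule.isBaseChange (Submonoid.powers a) _), hrk']
    simp
  have hbij : Function.Bijective (LocalizedModule.map (Submonoid.powers a) φ) :=
    Module.bijective_of_surjective_of_rankAtStalk_eq hφas H
  exact Module.Free.of_equiv (LinearEquiv.ofBijective _ hbij)

theorem projective_of_cond
    (h1 : ∀ Z : Set (PrimeSpectrum R), IsClosed Z → StableUnderGeneralization Z → IsOpen Z) :
    Module.Projective R M := by
  haveI : Module.FinitePresentation R M := by
    apply Module.FinitePresentation.of_localizationSpan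
      {a : R | Module.Free (Localization.Away a) (LocalizedModule.Away a M)}
    · by_contra hne
      obtain ⟨m, hm, hle⟩ := Ideal.exists_le_maximal _ hne
      obtain ⟨a, ha, hfree⟩ := exists_free_away (M := M) h1 ⟨m, hm.isPrime⟩
      exact ha (hle (Ideal.subset_span hfree))
    · rintro ⟨a, ha⟩
      haveI : Module.Free (Localization.Away a) (LocalizedModule.Away a M) := ha
      exact Module.finitePresentation_of_projective (Localization.Away a)
        (LocalizedModule.Away a M)
  exact Module.Flat.projective_of_finitePresentation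

end

/-- For a commutative ring R the following are equivalent: (1) every subset of Spec R which is closed
and stable under generalization is open; (2) every finite flat R-module is finite locally free, i.e.
(for finite modules) projective. -/
theorem result (R : Type u) [CommRing R] :
    (∀ Z : Set (PrimeSpectrum R), IsClosed Z → StableUnderGeneralization Z → IsOpen Z) ↔
      ∀ (M : Type u) [AddCommGroup M] [Module R M], Module.Finite R M → Module.Flat R M →
        Module.Projective R M := by
  constructor
  · intro h1 M _ _ hfin hflat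
    haveI := hfin
    haveI := hflat
    exact projective_of_cond h1
  · intro h2 Z hZ hZg
    obtain ⟨I, hI, rfl⟩ := (Groth.Agent.S6353.result R).2 Z hZ hZg
    haveI : Module.Flat R (R ⧸ I) := hI
    have hproj : Module.Projective R (R ⧸ I) := h2 (R ⧸ I) inferInstance inferInstance
    have hiff : Module.Projective R (R ⧸ I) ↔
        (I.Pure ∧ IsOpen (PrimeSpectrum.zeroLocus (I : Set R))) :=
      (Groth.Agent.S6354.result R I).out 3 2
    exact (hiff.mp hproj).2

end Groth.Agent.S6355
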