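import Groth.Statements.S6359
import Mathlib
import Groth.Agent.Lib.Helper10.FPA

set_option autoImplicit false
universe u
open CAlg

open scoped TensorProduct

namespace Groth.Agent.S6359


theorem key {R : Type u} [CommRing R] {M N M' F₀ F₁ : Type u}
    [AddCommGroup M] [Module R M] [AddCommGroup N] [Module R N] [AddCommGroup M'] [Module R M']
    [AddCommGroup F₀] [Module R F₀] [AddCommGroup F₁] [Module R F₁]
    [Module.Free R F₀] [Module.Finite R F₀] [Module.Free R F₁] [Module.Finite R F₁]
    (f : M →ₗ[R] N) (g : M →ₗ[R] M')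
    (hdomL : ∀ (D : Type u) [AddCommGroup D] [Module R D] (w : D ⊗[R] M),
        f.lTensor D w = 0 → g.lTensor D w = 0)
    (T : F₁ →ₗ[R] F₀) (ñ : F₀ →ₗ[R] N) (μ : F₁ →ₗ[R] M) (hμ : f ∘ₗ μ = ñ ∘ₗ T) :
    ∃ y : F₀ →ₗ[R] M', y ∘ₗ T = g ∘ₗ μ := by
  obtain ⟨ξ₀, hξ₀⟩ := (dualTensorHom_bijective (R := R) (M := F₁) (N := M)).2 μ
  obtain ⟨n₀, hn₀⟩ := (dualTensorHom_bijective (R := R) (M := F₀) (N := N)).2 ñ
  have h1 : f.lTensor (Module.Dual R F₁) ξ₀ = T.dualMap.rTensor N n₀ := by
    apply (dualTensorHom_bijective (R := R) (M := F₁) (N := N)).1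
    have e1 := LinearMap.congr_fun (dualTensorHom_comp_lTensor (R := R) (M := F₁) f) ξ₀
    have e2 := LinearMap.congr_fun (dualTensorHom_comp_rTensor_dualMap (R := R) (P := N) T) n₀
    simp only [LinearMap.comp_apply] at e1 e2
    rw [e1, e2, hξ₀, hn₀, LinearMap.compRight_apply, LinearMap.lcomp_apply']
    exact hμ
  have hexD : Function.Exact T.dualMap (LinearMap.range T.dualMap).mkQ :=
    LinearMap.exact_map_mkQ_range T.dualMap
  have hπs : Function.Surjective (LinearMap.range T.dualMap).mkQ := Submodule.mkQ_surjective _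
  have hzero : (LinearMap.range T.dualMap).mkQ ∘ₗ T.dualMap = 0 :=
    LinearMap.ext fun x => hexD.apply_apply_eq_zero x
  have h2 : f.lTensor (Module.Dual R F₁ ⧸ LinearMap.range T.dualMap)
      ((LinearMap.range T.dualMap).mkQ.rTensor M ξ₀) = 0 := by
    rw [← Groth.Agent.Lib.Helper10.rTensor_lTensor_apply R (LinearMap.range T.dualMap).mkQ f ξ₀,
      h1, ← LinearMap.rTensor_comp_apply, hzero, LinearMap.rTensor_zero, LinearMap.zero_apply]
  have h3 := hdomL (Module.Dual R F₁ ⧸ LinearMap.range T.dualMap) _ h2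
  rw [← Groth.Agent.Lib.Helper10.rTensor_lTensor_apply R (LinearMap.range T.dualMap).mkQ g ξ₀]
    at h3
  have hex' : Function.Exact (T.dualMap.rTensor M')
      ((LinearMap.range T.dualMap).mkQ.rTensor M') := rTensor_exact M' hexD hπs
  obtain ⟨y₀, hy₀⟩ := (hex' _).1 h3
  refine ⟨dualTensorHom R F₀ M' y₀, ?_⟩
  have e1 := LinearMap.congr_fun (dualTensorHom_comp_rTensor_dualMap (R := R) (P := M') T) y₀
  have e2 := LinearMap.congr_fun (dualTensorHom_comp_lTensor (R := R) (M := F₁) g) ξ₀
  simp only [LinearMap.comp_apply] at e1 e2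
  rw [hy₀, e2, hξ₀, LinearMap.compRight_apply, LinearMap.lcomp_apply'] at e1
  exact e1.symm

/-- Let f : M → N and g : M → M' be maps of R-modules such that the cokernel of f is finitely presented.
Then g dominates f (for every module Q the kernel of f ⊗ id_Q is contained in the kernel of g ⊗
id_Q) if and only if g factors through f. -/
theorem result (R : Type u) [CommRing R] {M N M' : Type u}
    [AddCommGroup M] [Module R M] [AddCommGroup N] [Module R N] [AddCommGroup M'] [Module R M']
    (f : M →ₗ[R] N) (g : M →ₗ[R] M') [Module.FinitePresentation R (N ⧸ LinearMap.range f)] :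
    (∀ (Q : Type u) [AddCommGroup Q] [Module R Q], LinearMap.ker (f.rTensor Q) ≤ LinearMap.ker (g.rTensor Q)) ↔
      ∃ h : N →ₗ[R] M', g = h ∘ₗ f := by
  constructor
  · intro hdom
    have hker : LinearMap.ker f ≤ LinearMap.ker g := by
      intro m0 hm
      rw [LinearMap.mem_ker] at hm ⊢
      have h1 : (m0 ⊗ₜ[R] (1:R)) ∈ LinearMap.ker (f.rTensor R) := by
        rw [LinearMap.mem_ker, LinearMap.rTensor_tmul, hm, TensorProduct.zero_tmul]
      have h2 := hdom R h1
      rw [LinearMap.mem_ker, LinearMap.rTensor_tmul] at h2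
      have h3 := congrArg (TensorProduct.rid R M') h2
      rw [TensorProduct.rid_tmul, one_smul, map_zero] at h3
      exact h3
    have hdomL : ∀ (D : Type u) [AddCommGroup D] [Module R D] (w : D ⊗[R] M),
        f.lTensor D w = 0 → g.lTensor D w = 0 := by
      intro D _ _ w hw
      have h1 : (TensorProduct.comm R D M w) ∈ LinearMap.ker (f.rTensor D) := by
        rw [LinearMap.mem_ker, Groth.Agent.Lib.Helper10.comm_lTensor, hw, map_zero]
      have h2 := hdom D h1
      rw [LinearMap.mem_ker, Groth.Agent.Lib.Helper10.comm_lTensor] at h2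
      exact (TensorProduct.comm R D M').injective (by rw [h2, map_zero])
    obtain ⟨n, m, p, T, hp, hex⟩ :=
      Module.FinitePresentation.exists_fin' R (N ⧸ LinearMap.range f)
    have hqs : Function.Surjective (LinearMap.range f).mkQ := Submodule.mkQ_surjective _
    obtain ⟨ñ, hñ⟩ := Module.projective_lifting_property (LinearMap.range f).mkQ p hqs
    have hñ' : ∀ a, (Submodule.Quotient.mk (ñ a) : N ⧸ LinearMap.range f) = p a :=
      fun a => LinearMap.congr_fun hñ a
    have hrange : ∀ x, (ñ ∘ₗ T) x ∈ LinearMap.range f := by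
      intro x
      rw [← Submodule.Quotient.mk_eq_zero (LinearMap.range f), LinearMap.comp_apply, hñ']
      exact hex.apply_apply_eq_zero x
    obtain ⟨μ, hμ'⟩ := Module.projective_lifting_property f.rangeRestrict
        ((ñ ∘ₗ T).codRestrict (LinearMap.range f) hrange) f.surjective_rangeRestrict
    have hμ : f ∘ₗ μ = ñ ∘ₗ T := by
      apply LinearMap.ext
      intro x
      have h2 := congrArg Subtype.val (LinearMap.congr_fun hμ' x)
      exact h2
    obtain ⟨y, hy⟩ := key f g hdomL T ñ μ hμ
    have hΦ : Function.Surjective (f.coprod ñ) := by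
      intro x
      obtain ⟨a, ha⟩ := hp (Submodule.Quotient.mk x)
      have hx : x - ñ a ∈ LinearMap.range f := by
        rw [← Submodule.Quotient.mk_eq_zero (LinearMap.range f), Submodule.Quotient.mk_sub, hñ',
          ha, sub_self]
      obtain ⟨m0, hm0⟩ := hx
      refine ⟨(m0, a), ?_⟩
      rw [LinearMap.coprod_apply]
      show f m0 + ñ a = x
      rw [hm0, sub_add_cancel]
    have hle : LinearMap.ker (f.coprod ñ) ≤ LinearMap.ker (g.coprod y) := by
      rintro ⟨m0, a⟩ hma
      rw [LinearMap.mem_ker, LinearMap.coprod_apply] at hma ⊢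
      change f m0 + ñ a = 0 at hma
      change g m0 + y a = 0
      have hpa : p a = 0 := by
        rw [← hñ' a]
        have h8 : ñ a = - f m0 := eq_neg_of_add_eq_zero_right hma
        rw [h8, Submodule.Quotient.mk_eq_zero (LinearMap.range f)]
        exact (LinearMap.range f).neg_mem ⟨m0, rfl⟩
      obtain ⟨b, hb⟩ := (hex a).1 hpa
      have h4 := LinearMap.congr_fun hμ b
      rw [LinearMap.comp_apply, LinearMap.comp_apply] at h4
      have h5 : f (m0 + μ b) = 0 := by
        rw [map_add, h4, hb, hma]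
      have h6 : g (m0 + μ b) = 0 := LinearMap.mem_ker.mp (hker (LinearMap.mem_ker.mpr h5))
      have h7 := LinearMap.congr_fun hy b
      rw [LinearMap.comp_apply, LinearMap.comp_apply] at h7
      rw [← hb, h7, ← map_add]
      exact h6
    refine ⟨(LinearMap.ker (f.coprod ñ)).liftQ (g.coprod y) hle ∘ₗ
        ((f.coprod ñ).quotKerEquivOfSurjective hΦ).symm.toLinearMap, ?_⟩
    apply LinearMap.ext
    intro m0
    have e1 : f m0 = (f.coprod ñ) (m0, 0) := by
      rw [LinearMap.coprod_apply]; simp
    rw [LinearMap.comp_apply, LinearMap.comp_apply, LinearEquiv.coe_coe, e1,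
      LinearMap.quotKerEquivOfSurjective_symm_apply, Submodule.liftQ_apply,
      LinearMap.coprod_apply]
    simp
  · rintro ⟨h, rfl⟩ Q _ _ x hx
    rw [LinearMap.mem_ker] at hx ⊢
    rw [LinearMap.rTensor_comp_apply, hx, map_zero]

end Groth.Agent.S6359
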