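import Groth.Statements.S6357
import Mathlib
import Groth.Agent.Lib.Helper10.Dom
import Groth.Agent.Lib.Helper10.DLim
import Groth.Agent.S6359

set_option autoImplicit false
universe u
open CAlg Groth.Agent.Lib.Helper10

open scoped TensorProduct

namespace Groth.Agent.S6357

/-- Given finitely presented R-modules G_i forming a directed system over a nonempty directed index set,
with transition maps f_ij and colimit M, the module M is Mittag-Leffler exactly when every index i
admits some j ≥ i for which f_ij factors through f_ik whenever k ≥ i. -/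
theorem result (R : Type u) [CommRing R] {ι : Type u}
    [Preorder ι] [IsDirected ι (· ≤ ·)] [Nonempty ι] [DecidableEq ι] (G : ι → Type u)
    [∀ i, AddCommGroup (G i)] [∀ i, Module R (G i)] [∀ i, Module.FinitePresentation R (G i)]
    (f : ∀ i j, i ≤ j → G i →ₗ[R] G j) [DirectedSystem G fun i j h => f i j h] :
    CAlg.IsMittagLeffler R (Module.DirectLimit G f) ↔
      ∀ i, ∃ (j : ι) (hij : i ≤ j), ∀ (k : ι) (hik : i ≤ k),
        ∃ h : G k →ₗ[R] G j, f i j hij = h ∘ₗ f i k hik := by
  constructor
  · intro hML i
    obtain ⟨A, hA⟩ := exists_dominating R hML (Module.DirectLimit.of R ι G f i)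
    obtain ⟨j₁, v, hv⟩ := exists_factor_of_finitePresentation R G f A.h
    obtain ⟨j₂, hij₂, hj₁j₂⟩ := exists_ge_ge i j₁
    have h0 : Module.DirectLimit.of R ι G f j₂ ∘ₗ (f i j₂ hij₂) =
        Module.DirectLimit.of R ι G f j₂ ∘ₗ (f j₁ j₂ hj₁j₂ ∘ₗ v ∘ₗ A.g) := by
      apply LinearMap.ext
      intro x
      simp only [LinearMap.comp_apply, Module.DirectLimit.of_f]
      have h3 := LinearMap.congr_fun hv (A.g x)
      rw [LinearMap.comp_apply] at h3
      rw [h3]
      exact (LinearMap.congr_fun A.h_comp_g x).symm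
    obtain ⟨j, hj₂j, hj⟩ := exists_comp_eq_of_of_comp_eq R G f _ _ h0
    refine ⟨j, hij₂.trans hj₂j, ?_⟩
    intro k hik
    have hfac : f i j (hij₂.trans hj₂j) = (f j₂ j hj₂j ∘ₗ f j₁ j₂ hj₁j₂ ∘ₗ v) ∘ₗ A.g := by
      apply LinearMap.ext
      intro x
      have h3 := LinearMap.congr_fun hj x
      simp only [LinearMap.comp_apply] at h3 ⊢
      rw [← h3, DirectedSystem.map_map' f]
    haveI : Module.FinitePresentation R (G k ⧸ LinearMap.range (f i k hik)) :=
      Module.finitePresentation_of_surjective (LinearMap.range (f i k hik)).mkQ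
        (Submodule.mkQ_surjective _)
        (by rw [Submodule.ker_mkQ, LinearMap.range_eq_map]; exact Module.Finite.fg_top.map _)
    apply (Groth.Agent.S6359.result R (f i k hik) (f i j (hij₂.trans hj₂j))).1
    intro Q' _ _ x hx
    rw [LinearMap.mem_ker] at hx ⊢
    have h1 : (Module.DirectLimit.of R ι G f i).rTensor Q' x = 0 := by
      have h4 : Module.DirectLimit.of R ι G f i = Module.DirectLimit.of R ι G f k ∘ₗ f i k hik := by
        apply LinearMap.ext
        intro z
        rw [LinearMap.comp_apply, Module.DirectLimit.of_f]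
      rw [h4, LinearMap.rTensor_comp_apply, hx, map_zero]
    have h2 := hA Q' (LinearMap.mem_ker.mpr h1)
    rw [LinearMap.mem_ker] at h2
    rw [hfac, LinearMap.rTensor_comp_apply, h2, map_zero]
  · intro H
    apply isML_of_dominated R
    intro n φ
    obtain ⟨i, u, hu⟩ := exists_factor_of_basis R G f (Pi.basisFun R (Fin n)) φ
    obtain ⟨j, hij, hj⟩ := H i
    refine ⟨G j, inferInstance, inferInstance, inferInstance, f i j hij ∘ₗ u, ?_⟩
    intro N _ _
    have hφ : φ = Module.DirectLimit.of R ι G f j ∘ₗ (f i j hij ∘ₗ u) := by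
      rw [← hu]
      apply LinearMap.ext
      intro x
      simp only [LinearMap.comp_apply, Module.DirectLimit.of_f]
    apply le_antisymm
    · intro x hx
      rw [LinearMap.mem_ker] at hx ⊢
      have h1 : (Module.DirectLimit.of R ι G f i).rTensor N (u.rTensor N x) = 0 := by
        rw [← LinearMap.rTensor_comp_apply, hu]
        exact hx
      obtain ⟨k, hik, hk⟩ := rTensor_of_zero_exact R G f N _ h1
      obtain ⟨h, hh⟩ := hj k hik
      rw [LinearMap.rTensor_comp_apply, hh, LinearMap.rTensor_comp_apply, hk, map_zero]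
    · intro x hx
      rw [LinearMap.mem_ker] at hx ⊢
      rw [hφ, LinearMap.rTensor_comp_apply, hx, map_zero]

end Groth.Agent.S6357
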