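import Groth.Statements.S6362
import Mathlib
-- import your own Groth.Agent.* helpers here

set_option autoImplicit false
universe u
open scoped TensorProduct
open Fields

namespace Groth.Agent.S6362

section
variable (F K L : Type u) [Field F] [Field K] [Field L] [Algebra F K] [Algebra F L]

/-- The `L`-linear map `L ⊗ K → ∏_σ L`. -/
noncomputable def Psi : L ⊗[F] K →ₗ[L] ((K →ₐ[F] L) → L) :=
  LinearMap.pi (fun σ => (Algebra.TensorProduct.lift (AlgHom.id L L) σ
    (fun _ _ => Commute.all _ _)).toLinearMap)

lemma Psi_tmul (l : L) (k : K) (σ : K →ₐ[F] L) : Psi F K L (l ⊗ₜ k) σ = l * σ k := by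
  simp [Psi]

variable [FiniteDimensional F K]

theorem Psi_surjective : Function.Surjective (Psi F K L) := by
  classical
  rw [← LinearMap.range_eq_top]
  by_contra hne
  obtain ⟨f, hf0, hle⟩ := Submodule.exists_le_ker_of_lt_top _ (lt_top_iff_ne_top.mpr hne)
  apply hf0
  set c : (K →ₐ[F] L) → L := fun σ => f (fun j => if σ = j then 1 else 0) with hc
  have hzero : ∀ k : K, ∑ σ : K →ₐ[F] L, c σ * σ k = 0 := by
    intro k
    have h1 : f (Psi F K L (1 ⊗ₜ k)) = 0 := hle ⟨_, rfl⟩
    rw [LinearMap.pi_apply_eq_sum_univ f] at h1
    rw [← h1]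
    refine Finset.sum_congr rfl fun σ _ => ?_
    rw [Psi_tmul, one_mul, smul_eq_mul, mul_comm]
  have hc0 : ∀ σ, c σ = 0 := by
    have hli := linearIndependent_toLinearMap F K L
    rw [Fintype.linearIndependent_iff] at hli
    apply hli c
    ext k
    simp only [LinearMap.coe_sum, Finset.sum_apply, LinearMap.smul_apply,
      AlgHom.toLinearMap_apply, smul_eq_mul, LinearMap.zero_apply]
    exact hzero k
  refine LinearMap.ext fun v => ?_
  rw [LinearMap.pi_apply_eq_sum_univ f v]
  simp only [LinearMap.zero_apply]
  refine Finset.sum_eq_zero fun σ _ => ?_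
  show v σ • c σ = 0
  rw [hc0 σ, smul_zero]

theorem Psi_bijective [Algebra.IsSeparable F K] [IsAlgClosed L] :
    Function.Bijective (Psi F K L) := by
  have hfr : Module.finrank L (L ⊗[F] K) = Module.finrank L ((K →ₐ[F] L) → L) := by
    rw [Module.finrank_baseChange, Module.finrank_fintype_fun_eq_card, AlgHom.card]
  exact ⟨(LinearMap.injective_iff_surjective_of_finrank_eq_finrank hfr).mpr
    (Psi_surjective F K L), Psi_surjective F K L⟩

end

/-- Let K/F be a finite separable extension and L/F an extension with L algebraically closed. Then the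
L-algebra map K ⊗_F L → ∏_σ L, indexed by the F-algebra maps σ : K → L and sending a ⊗ b to (σ(a)
b)_σ, is an isomorphism; stated as bijectivity of that map. -/
theorem result {F K L : Type u} [Field F] [Field K] [Field L]
    [Algebra F K] [Algebra F L] [FiniteDimensional F K] [Algebra.IsSeparable F K] [IsAlgClosed L] :
    Function.Bijective (fun x : K ⊗[F] L => fun σ : K →ₐ[F] L =>
      Algebra.TensorProduct.lift σ (AlgHom.id F L) (fun a b => Commute.all (σ a) b) x) := by
  have key : ∀ x : K ⊗[F] L, (fun σ : K →ₐ[F] L =>
      Algebra.TensorProduct.lift σ (AlgHom.id F L) (fun a b => Commute.all (σ a) b) x) =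
      Psi F K L (TensorProduct.comm F K L x) := by
    intro x
    funext σ
    induction x using TensorProduct.induction_on with
    | zero => simp
    | tmul a b => simp [Psi_tmul, mul_comm]
    | add x y hx hy => simp only [map_add, Pi.add_apply, hx, hy]
  have h2 : Function.Bijective (fun x : K ⊗[F] L => Psi F K L (TensorProduct.comm F K L x)) :=
    (Psi_bijective F K L).comp (TensorProduct.comm F K L).bijective
  convert h2 using 1
  funext x
  exact key x

end Groth.Agent.S6362
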