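import Groth.Statements.S6363
import Mathlib

set_option autoImplicit false
universe u
open scoped TensorProduct
open Fields

namespace Groth.Agent.S6363

/-- For a finite field extension L/K and a normal closure M of L/K, some K-algebra homomorphism from the
n-fold tensor power L ⊗_K ⋯ ⊗_K L to M is surjective, where n = [L : K]_s is the separable degree
(so n ≤ [L : K]). -/
theorem result {K L M : Type u} [Field K] [Field L] [Field M]
    [Algebra K L] [Algebra K M] [Algebra L M] [IsScalarTower K L M] [FiniteDimensional K L]
    [IsNormalClosure K L M] :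
    ∃ f : (⨂[K] _ : Fin (Field.finSepDegree K L), L) →ₐ[K] M, Function.Surjective f := by
  classical
  have hnc : IsNormalClosure K L M := inferInstance
  obtain ⟨hsplits, htop⟩ := (Algebra.IsAlgebraic.isNormalClosure_iff (F := K) (K := L) (L := M)).1 hnc
  haveI : Normal K M := IsNormalClosure.normal (F := K) (K := L) (L := M)
  haveI : Algebra.IsAlgebraic K M := inferInstance
  have hcard : Field.finSepDegree K L = Nat.card (L →ₐ[K] M) := by
    rw [Field.finSepDegree_eq_of_isAlgClosed K L (AlgebraicClosure M)]
    exact (Nat.card_congr (Algebra.IsAlgebraic.algHomEquivAlgHomOfSplits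
      (AlgebraicClosure M) M hsplits)).symm
  let e : Fin (Field.finSepDegree K L) ≃ (L →ₐ[K] M) :=
    (finCongr hcard).trans (Finite.equivFin (L →ₐ[K] M)).symm
  let φ : MultilinearMap K (fun _ : Fin (Field.finSepDegree K L) => L) M :=
    (MultilinearMap.mkPiAlgebra K (Fin (Field.finSepDegree K L)) M).compLinearMap
      (fun i => (e i).toLinearMap)
  have hφ : ∀ x, φ x = ∏ i, e i (x i) := by
    intro x
    simp [φ, MultilinearMap.compLinearMap_apply, MultilinearMap.mkPiAlgebra_apply]
  let f : (⨂[K] _ : Fin (Field.finSepDegree K L), L) →ₐ[K] M :=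
    PiTensorProduct.liftAlgHom φ (by rw [hφ]; simp)
      (by intro x y; simp only [hφ, Pi.mul_apply, map_mul, Finset.prod_mul_distrib])
  have hf : ∀ x, f (PiTensorProduct.tprod K x) = ∏ i, e i (x i) := by
    intro x
    rw [← hφ]
    simp [f]
  refine ⟨f, ?_⟩
  have hfield : IsField f.range := Subalgebra.isField_of_algebraic (A := f.range)
  let E : IntermediateField K M := f.range.toIntermediateField' hfield
  have hE : ∀ σ : L →ₐ[K] M, σ.fieldRange ≤ E := by
    intro σ y hy
    obtain ⟨x, rfl⟩ := hy
    show σ x ∈ f.range
    refine ⟨PiTensorProduct.tprod K (Function.update 1 (e.symm σ) x), ?_⟩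
    show f _ = _
    rw [hf, Fintype.prod_eq_single (e.symm σ)]
    · simp
    · intro j hj
      simp [Function.update_of_ne hj]
  have hEtop : E = ⊤ := by
    apply top_le_iff.1
    rw [← htop, normalClosure_def]
    exact iSup_le hE
  intro y
  have hy : y ∈ E := by rw [hEtop]; trivial
  exact (AlgHom.mem_range f).1 hy

end Groth.Agent.S6363
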