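import Groth.Statements.S6364
import Mathlib
-- import your own Groth.Agent.* helpers here

set_option autoImplicit false
universe u
open Fields

open scoped TensorProduct

namespace Groth.Agent.S6364

theorem charpoly_blockDiagonal {R : Type*} [CommRing R] {m o : Type*} [Fintype m] [DecidableEq m]
    [Fintype o] [DecidableEq o] (A : o → Matrix m m R) :
    (Matrix.blockDiagonal A).charpoly = ∏ k, (A k).charpoly := by
  unfold Matrix.charpoly
  rw [← Matrix.det_blockDiagonal]
  congr 1
  ext ⟨i, k⟩ ⟨j, k'⟩
  rw [Matrix.charmatrix_apply, Matrix.blockDiagonal_apply, Matrix.blockDiagonal_apply]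
  by_cases hk : k = k'
  · subst hk
    rw [if_pos rfl, if_pos rfl, Matrix.charmatrix_apply]
    by_cases hi : i = j
    · subst hi
      simp
    · simp [hi]
  · rw [if_neg hk, if_neg hk]
    simp [hk]

open IntermediateField in
/-- Let L/K be a finite extension and a ∈ L with minimal polynomial P over K. Then P ^ e, with e = [L :
K(a)], is the characteristic polynomial of multiplication by a (the K-linear map x ↦ a x on L), and
e · deg P = [L : K]. -/
theorem result {K L : Type u} [Field K] [Field L] [Algebra K L] [FiniteDimensional K L]
    (a : L) :
    (Algebra.lmul K L a).charpoly = minpoly K a ^ Module.finrank K⟮a⟯ L ∧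
      Module.finrank K⟮a⟯ L * (minpoly K a).natDegree = Module.finrank K L := by
  classical
  have hint : IsIntegral K a := IsIntegral.of_finite K a
  let pb := IntermediateField.adjoin.powerBasis hint
  let b := pb.basis
  let c := Module.Free.chooseBasis K⟮a⟯ L
  have hgen : algebraMap K⟮a⟯ L pb.gen = a := by
    simp [pb, IntermediateField.adjoin.powerBasis_gen]
  have hminpoly : minpoly K pb.gen = minpoly K a := by
    simp only [pb, IntermediateField.adjoin.powerBasis_gen]
    exact IntermediateField.minpoly_gen K a
  have h2 := Algebra.smulTower_leftMulMatrix_algebraMap b c pb.gen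
  rw [hgen] at h2
  constructor
  · rw [← LinearMap.charpoly_toMatrix (Algebra.lmul K L a) (b.smulTower c),
      ← Algebra.leftMulMatrix_apply, h2, charpoly_blockDiagonal, Finset.prod_const,
      Finset.card_univ, charpoly_leftMulMatrix pb, hminpoly,
      ← Module.finrank_eq_card_chooseBasisIndex]
  · rw [← IntermediateField.adjoin.finrank hint, mul_comm, Module.finrank_mul_finrank]

end Groth.Agent.S6364
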