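import Groth.Statements.S6367
import Mathlib
-- import your own Groth.Agent.* helpers here

set_option autoImplicit false
universe u
open CAlg

open scoped TensorProduct

namespace Groth.Agent.S6367

/-- Let 0 → M₁ → M₂ → M₃ → 0 be a short exact sequence of R-modules (f injective, g surjective, image of
f = kernel of g). If M₁ and M₃ are coherent — finitely generated with every finitely generated
submodule finitely presented — then so is M₂. -/
theorem result (R : Type u) [CommRing R] {M₁ M₂ M₃ : Type u}
    [AddCommGroup M₁] [Module R M₁] [AddCommGroup M₂] [Module R M₂] [AddCommGroup M₃] [Module R M₃]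
    (f : M₁ →ₗ[R] M₂) (g : M₂ →ₗ[R] M₃) (hf : Function.Injective f) (hg : Function.Surjective g)
    (hfg : LinearMap.range f = LinearMap.ker g)
    (h₁ : (Module.Finite R M₁ ∧ ∀ N : Submodule R M₁, N.FG → Module.FinitePresentation R N))
    (h₃ : (Module.Finite R M₃ ∧ ∀ N : Submodule R M₃, N.FG → Module.FinitePresentation R N)) :
    (Module.Finite R M₂ ∧ ∀ N : Submodule R M₂, N.FG → Module.FinitePresentation R N) := by
  obtain ⟨hfin₁, hc₁⟩ := h₁
  obtain ⟨hfin₃, hc₃⟩ := h₃
  have hexact : Function.Exact f g := LinearMap.exact_iff.mpr hfg.symm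
  constructor
  · rw [Module.finite_def]
    apply Submodule.fg_of_fg_map_of_fg_inf_ker g
    · rw [Submodule.map_top, LinearMap.range_eq_top.mpr hg]
      exact Module.finite_def.mp hfin₃
    · rw [top_inf_eq, ← hfg, ← Submodule.map_top]
      exact (Module.finite_def.mp hfin₁).map f
  · intro N hN
    haveI : Module.FinitePresentation R (N.map g) := hc₃ _ (hN.map g)
    haveI : Module.Finite R N := Module.Finite.iff_fg.mpr hN
    let l : N →ₗ[R] N.map g := g.submoduleMap N
    have hl : Function.Surjective l := g.submoduleMap_surjective N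
    have hker : (LinearMap.ker l).FG := Module.FinitePresentation.fg_ker l hl
    let φ₁ : N.comap f →ₗ[R] N := (f.domRestrict (N.comap f)).codRestrict N (fun x => x.2)
    have hφ₁ : ∀ x, l (φ₁ x) = 0 := by
      intro x
      apply Subtype.ext
      show g (f x) = 0
      exact hexact.apply_apply_eq_zero x
    let φ₂ : N.comap f →ₗ[R] LinearMap.ker l := φ₁.codRestrict (LinearMap.ker l) hφ₁
    have hφ₂ : Function.Bijective φ₂ := by
      constructor
      · intro x y hxy
        have : f x = f y := congrArg (fun z : LinearMap.ker l => ((z : N) : M₂)) hxy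
        exact Subtype.ext (hf this)
      · rintro ⟨⟨y, hyN⟩, hy⟩
        have hy' : g y = 0 := congrArg Subtype.val (LinearMap.mem_ker.mp hy)
        obtain ⟨x, rfl⟩ := (hexact y).mp hy'
        exact ⟨⟨x, hyN⟩, Subtype.ext (Subtype.ext rfl)⟩
    let e := LinearEquiv.ofBijective φ₂ hφ₂
    haveI : Module.Finite R (LinearMap.ker l) := Module.Finite.iff_fg.mpr hker
    haveI : Module.Finite R (N.comap f) := Module.Finite.equiv e.symm
    haveI : Module.FinitePresentation R (N.comap f) :=
      hc₁ _ (Module.Finite.iff_fg.mp inferInstance)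
    haveI : Module.FinitePresentation R (LinearMap.ker l) := Module.FinitePresentation.of_equiv e
    exact Module.finitePresentation_of_ker l hl

end Groth.Agent.S6367
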