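import Groth.Statements.S6366
import Mathlib
import Groth.Agent.S6367

set_option autoImplicit false
universe u
open CAlg

open scoped TensorProduct

namespace Groth.Agent.S6366

/-- Coherent module. -/
abbrev Coh (R : Type u) [CommRing R] (M : Type u) [AddCommGroup M] [Module R M] : Prop :=
  Module.Finite R M ∧ ∀ N : Submodule R M, N.FG → Module.FinitePresentation R N

theorem coh_of_equiv {R : Type u} [CommRing R] {M M' : Type u} [AddCommGroup M] [Module R M]
    [AddCommGroup M'] [Module R M'] (e : M ≃ₗ[R] M') (h : Coh R M) : Coh R M' := by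
  obtain ⟨hfin, hc⟩ := h
  refine ⟨Module.Finite.equiv e, fun N hN => ?_⟩
  haveI := hc _ (hN.map e.symm.toLinearMap)
  exact Module.FinitePresentation.of_equiv (e.symm.submoduleMap N).symm

theorem coh_prod {R : Type u} [CommRing R] {M₁ M₂ : Type u} [AddCommGroup M₁] [Module R M₁]
    [AddCommGroup M₂] [Module R M₂] (h₁ : Coh R M₁) (h₂ : Coh R M₂) : Coh R (M₁ × M₂) :=
  Groth.Agent.S6367.result R (LinearMap.inl R M₁ M₂) (LinearMap.snd R M₁ M₂)
    LinearMap.inl_injective LinearMap.snd_surjective (LinearMap.range_inl R M₁ M₂) h₁ h₂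

theorem coh_pi_fin {R : Type u} [CommRing R] (hR : Coh R R) : ∀ n : ℕ, Coh R (Fin n → R)
  | 0 => ⟨inferInstance, fun N _ => by
      haveI : Subsingleton N := ⟨fun a b => Subtype.ext (Subsingleton.elim _ _)⟩
      infer_instance⟩
  | n+1 => coh_of_equiv (Fin.consLinearEquiv R (fun _ : Fin (n+1) => R))
      (coh_prod hR (coh_pi_fin hR n))

theorem coh_quot {R : Type u} [CommRing R] {L : Type u} [AddCommGroup L] [Module R L]
    (h : Coh R L) (K : Submodule R L) (hK : K.FG) : Coh R (L ⧸ K) := by
  obtain ⟨hfin, hc⟩ := h
  refine ⟨inferInstance, fun N hN => ?_⟩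
  set N' := N.comap K.mkQ with hN'
  have hKN : K ≤ N' := by
    intro x hx
    show K.mkQ x ∈ N
    have : K.mkQ x = 0 := (Submodule.Quotient.mk_eq_zero K).mpr hx
    rw [this]
    exact N.zero_mem
  have hmap : N'.map K.mkQ = N := Submodule.map_comap_eq_of_surjective K.mkQ_surjective N
  have hN'fg : N'.FG := by
    apply Submodule.fg_of_fg_map_of_fg_inf_ker K.mkQ
    · rw [hmap]; exact hN
    · rw [Submodule.ker_mkQ, inf_eq_right.mpr hKN]; exact hK
  haveI := hc N' hN'fg
  let l : N' →ₗ[R] N := (K.mkQ.domRestrict N').codRestrict N (fun x => x.2)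
  have hl : Function.Surjective l := by
    rintro ⟨y, hy⟩
    obtain ⟨x, rfl⟩ := K.mkQ_surjective y
    exact ⟨⟨x, hy⟩, rfl⟩
  have hker : (LinearMap.ker l).FG := by
    apply Submodule.fg_of_fg_map_injective N'.subtype N'.injective_subtype
    have : (LinearMap.ker l).map N'.subtype = K := by
      ext x
      simp only [Submodule.mem_map, LinearMap.mem_ker, Submodule.subtype_apply]
      constructor
      · rintro ⟨⟨y, hy⟩, hly, rfl⟩
        have : K.mkQ y = 0 := congrArg Subtype.val hly
        exact (Submodule.Quotient.mk_eq_zero K).mp this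
      · intro hx
        refine ⟨⟨x, hKN hx⟩, Subtype.ext ?_, rfl⟩
        exact (Submodule.Quotient.mk_eq_zero K).mpr hx
    rw [this]; exact hK
  exact Module.finitePresentation_of_surjective l hl hker

/-- Let R be a coherent ring, i.e. every finitely generated ideal of R is finitely presented. Then an
R-module is coherent (finitely generated, and every finitely generated submodule is finitely
presented) if and only if it is finitely presented. -/
theorem result (R : Type u) [CommRing R]
    (hR : ∀ I : Ideal R, I.FG → Module.FinitePresentation R I) (M : Type u) [AddCommGroup M] [Module R M] :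
    (Module.Finite R M ∧ ∀ N : Submodule R M, N.FG → Module.FinitePresentation R N) ↔ Module.FinitePresentation R M := by
  constructor
  · rintro ⟨hfin, hc⟩
    haveI := hc ⊤ (Module.finite_def.mp hfin)
    exact Module.FinitePresentation.of_equiv (Submodule.topEquiv : (⊤ : Submodule R M) ≃ₗ[R] M)
  · intro hfp
    obtain ⟨n, K, e, hK⟩ := Module.FinitePresentation.exists_fin R M
    exact coh_of_equiv e.symm (coh_quot (coh_pi_fin ⟨inferInstance, hR⟩ n) K hK)

end Groth.Agent.S6366
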