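import Groth.Statements.S6368
import Mathlib
-- import your own Groth.Agent.* helpers here

set_option autoImplicit false
universe u
open scoped TensorProduct
open CAlg

namespace Groth.Agent.S6368

theorem exists_finset (R S : Type u) [CommRing R] [CommRing S] [Algebra R S]
    (M : Type u) [AddCommGroup M] [Module R M] (t : S ⊗[R] M) :
    ∃ F : Finset M, t ∈ Submodule.span S ((fun m => (1:S) ⊗ₜ[R] m) '' (F : Set M)) := by
  induction t using TensorProduct.induction_on with
  | zero => exact ⟨∅, Submodule.zero_mem _⟩
  | tmul s m =>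
    refine ⟨{m}, ?_⟩
    have : s ⊗ₜ[R] m = s • ((1:S) ⊗ₜ[R] m) := by
      rw [TensorProduct.smul_tmul', smul_eq_mul, mul_one]
    rw [this]
    exact Submodule.smul_mem _ _ (Submodule.subset_span ⟨m, by simp, rfl⟩)
  | add x y hx hy =>
    obtain ⟨F₁, h₁⟩ := hx
    obtain ⟨F₂, h₂⟩ := hy
    classical
    refine ⟨F₁ ∪ F₂, Submodule.add_mem _ ?_ ?_⟩
    · exact Submodule.span_mono (Set.image_mono (by rw [Finset.coe_union]; exact Set.subset_union_left)) h₁
    · exact Submodule.span_mono (Set.image_mono (by rw [Finset.coe_union]; exact Set.subset_union_right)) h₂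

/-- Let R → S be faithfully flat and M an R-module. If the S-module S ⊗_R M is countably generated then
M is countably generated. -/
theorem result (R S : Type u) [CommRing R] [CommRing S] [Algebra R S]
    [Module.FaithfullyFlat R S] (M : Type u) [AddCommGroup M] [Module R M]
    (h : CAlg.IsCountablyGenerated S (S ⊗[R] M)) : CAlg.IsCountablyGenerated R M := by
  obtain ⟨T, hTc, hT⟩ := h
  choose F hF using exists_finset R S M
  let W : Set M := ⋃ t ∈ T, (F t : Set M)
  refine ⟨W, hTc.biUnion (fun t _ => (F t).countable_toSet), ?_⟩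
  set N := Submodule.span R W with hN
  let q := N.mkQ
  have hker : Submodule.span S ((fun m => (1:S) ⊗ₜ[R] m) '' W) ≤
      LinearMap.ker (q.baseChange S) := by
    rw [Submodule.span_le]
    rintro _ ⟨m, hm, rfl⟩
    simp only [SetLike.mem_coe, LinearMap.mem_ker, LinearMap.baseChange_tmul]
    have : q m = 0 := by
      simp only [q, Submodule.mkQ_apply, Submodule.Quotient.mk_eq_zero]
      exact Submodule.subset_span hm
    rw [this, TensorProduct.tmul_zero]
  have hTsub : T ⊆ (Submodule.span S ((fun m => (1:S) ⊗ₜ[R] m) '' W) : Set (S ⊗[R] M)) := by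
    intro t ht
    exact Submodule.span_mono (Set.image_mono (Set.subset_biUnion_of_mem ht)) (hF t)
  have hzero : ∀ y, q.baseChange S y = 0 := by
    intro y
    have : y ∈ Submodule.span S T := by rw [hT]; trivial
    exact hker (Submodule.span_le.mpr hTsub this)
  have hsub : Subsingleton (S ⊗[R] (M ⧸ N)) := by
    refine ⟨fun a b => ?_⟩
    have hs : Function.Surjective (q.baseChange S) := by
      rw [LinearMap.baseChange_eq_ltensor]
      exact LinearMap.lTensor_surjective S (Submodule.mkQ_surjective N)
    obtain ⟨a', rfl⟩ := hs a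
    obtain ⟨b', rfl⟩ := hs b
    rw [hzero, hzero]
  have := Module.FaithfullyFlat.lTensor_reflects_triviality R S (M ⧸ N)
  exact Submodule.Quotient.subsingleton_iff.mp this

end Groth.Agent.S6368
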