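import Groth.Statements.S6369
import Mathlib
-- import your own Groth.Agent.* helpers here

set_option autoImplicit false
universe u
open CAlg

open scoped TensorProduct

namespace Groth.Agent.S6369


open nonZeroDivisors

/-- an ideal is invertible in the elementary sense -/
def Inv {R : Type u} [CommRing R] (I : Ideal R) : Prop :=
  ∃ (J : Ideal R) (c : R), c ≠ 0 ∧ I * J = Ideal.span {c}

theorem Inv.cancel_le {R : Type u} [CommRing R] [IsDomain R] {I A B : Ideal R} (h : Inv I)
    (hAB : I * A ≤ I * B) : A ≤ B := by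
  obtain ⟨J, c, hc, hJ⟩ := h
  have h1 : Ideal.span {c} * A ≤ Ideal.span {c} * B := by
    rw [← hJ, mul_comm I J, mul_assoc, mul_assoc]
    exact Ideal.mul_mono_right hAB
  exact (Ideal.span_singleton_mul_right_mono hc).mp h1

theorem Inv.cancel {R : Type u} [CommRing R] [IsDomain R] {I A B : Ideal R} (h : Inv I)
    (hAB : I * A = I * B) : A = B :=
  le_antisymm (h.cancel_le hAB.le) (h.cancel_le hAB.ge)

theorem Inv.of_mul {R : Type u} [CommRing R] {I I' : Ideal R} (h : Inv (I * I')) : Inv I := by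
  obtain ⟨J, c, hc, hJ⟩ := h
  exact ⟨I' * J, c, hc, by rw [← mul_assoc]; exact hJ⟩

theorem Inv.of_mem_prod {R : Type u} [CommRing R] {s : Multiset (Ideal R)} (h : Inv s.prod)
    {p : Ideal R} (hp : p ∈ s) : Inv p := by
  classical
  rw [← Multiset.prod_erase hp] at h
  exact h.of_mul

theorem inv_span_singleton {R : Type u} [CommRing R] {b : R} (hb : b ≠ 0) :
    Inv (Ideal.span {b}) :=
  ⟨⊤, b, hb, by rw [Ideal.mul_top]⟩

theorem Inv.mul {R : Type u} [CommRing R] [IsDomain R] {I I' : Ideal R} (h : Inv I)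
    (h' : Inv I') : Inv (I * I') := by
  obtain ⟨J, c, hc, hJ⟩ := h
  obtain ⟨J', c', hc', hJ'⟩ := h'
  refine ⟨J * J', c * c', mul_ne_zero hc hc', ?_⟩
  rw [mul_mul_mul_comm, hJ, hJ', Ideal.span_singleton_mul_span_singleton]

theorem inv_prod {R : Type u} [CommRing R] [IsDomain R] {s : Multiset (Ideal R)}
    (h : ∀ p ∈ s, Inv p) : Inv s.prod := by
  induction s using Multiset.induction_on with
  | empty =>
    rw [Multiset.prod_zero]
    exact ⟨⊤, 1, one_ne_zero, by rw [Ideal.one_eq_top, Ideal.mul_top, Ideal.span_singleton_one]⟩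
  | cons a s ih =>
    rw [Multiset.prod_cons]
    exact (h a (Multiset.mem_cons_self a s)).mul
      (ih fun p hp => h p (Multiset.mem_cons_of_mem hp))

theorem Inv.ne_bot {R : Type u} [CommRing R] {I : Ideal R} (h : Inv I) : I ≠ ⊥ := by
  rintro rfl
  obtain ⟨J, c, hc, hJ⟩ := h
  rw [Ideal.bot_mul] at hJ
  exact hc (Ideal.span_singleton_eq_bot.mp hJ.symm)

theorem prod_le_of_mem {R : Type u} [CommRing R] {s : Multiset (Ideal R)} {p : Ideal R}
    (hp : p ∈ s) : s.prod ≤ p := by
  classical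
  rw [← Multiset.prod_erase hp]
  exact Ideal.mul_le_left

theorem map_prod {R S : Type u} [CommRing R] [CommRing S] (f : R →+* S)
    (s : Multiset (Ideal R)) : Ideal.map f s.prod = (s.map (Ideal.map f)).prod := by
  induction s using Multiset.induction_on with
  | empty => simp [Ideal.one_eq_top, Ideal.map_top]
  | cons a s ih =>
    rw [Multiset.prod_cons, Ideal.map_mul, ih, Multiset.map_cons, Multiset.prod_cons]

theorem unique_fact {D : Type u} [CommRing D] [IsDomain D] : ∀ (n : ℕ) (s t : Multiset (Ideal D)),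
    Multiset.card s = n → (∀ p ∈ s, p.IsPrime ∧ Inv p) → (∀ q ∈ t, q.IsPrime) →
    s.prod = t.prod → s = t := by
  classical
  intro n
  induction n with
  | zero =>
    intro s t hs _ ht hprod
    rw [Multiset.card_eq_zero] at hs
    subst hs
    rw [Multiset.prod_zero] at hprod
    by_contra hne
    obtain ⟨q, hq⟩ := Multiset.exists_mem_of_ne_zero (Ne.symm hne)
    have h1 : t.prod ≤ q := prod_le_of_mem hq
    rw [← hprod, Ideal.one_eq_top, top_le_iff] at h1
    exact (ht q hq).ne_top h1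
  | succ n ih =>
    intro s t hs hsP htP hprod
    have hsne : s.toFinset.Nonempty := by
      rw [Multiset.toFinset_nonempty]
      intro h0
      rw [h0, Multiset.card_zero] at hs
      exact Nat.succ_ne_zero n hs.symm
    obtain ⟨p, hp⟩ := s.toFinset.exists_minimal hsne
    have hps : p ∈ s := Multiset.mem_toFinset.mp hp.1
    have hpP := hsP p hps
    have hle1 : t.prod ≤ p := by rw [← hprod]; exact prod_le_of_mem hps
    obtain ⟨q, hqt, hqp⟩ := (hpP.1.multiset_prod_le).mp hle1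
    have hle2 : s.prod ≤ q := by rw [hprod]; exact prod_le_of_mem hqt
    obtain ⟨p', hp's, hp'q⟩ := ((htP q hqt).multiset_prod_le).mp hle2
    have hpp' : p ≤ p' := hp.2 (Multiset.mem_toFinset.mpr hp's) (hp'q.trans hqp)
    have hqeq : q = p := le_antisymm hqp (hpp'.trans hp'q)
    rw [hqeq] at hqt
    have h1 : (s.erase p).prod = (t.erase p).prod := by
      apply hpP.2.cancel
      rw [Multiset.prod_erase hps, Multiset.prod_erase hqt, hprod]
    have h2 : s.erase p = t.erase p := by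
      apply ih (s.erase p) (t.erase p)
      · have h3 := Multiset.card_erase_of_mem hps
        rw [hs] at h3
        simpa using h3
      · intro p1 hp1
        exact hsP p1 (Multiset.mem_of_mem_erase hp1)
      · intro q1 hq1
        exact htP q1 (Multiset.mem_of_mem_erase hq1)
      · exact h1
    rw [← Multiset.cons_erase hps, ← Multiset.cons_erase hqt, h2]

theorem isMaximal_of_inv {R : Type u} [CommRing R] [IsDomain R]
    (H : ∀ I : Ideal R, I ≠ ⊥ →
      ∃ s : Multiset (Ideal R), (∀ p ∈ s, p.IsPrime ∧ p ≠ ⊥) ∧ s.prod = I)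
    (P : Ideal R) [hP : P.IsPrime] (hinv : Inv P) : P.IsMaximal := by
  classical
  have hPne : P ≠ ⊥ := hinv.ne_bot
  rw [Ideal.isMaximal_iff]
  refine ⟨fun h1 => hP.ne_top ((Ideal.eq_top_iff_one P).mpr h1), ?_⟩
  intro J a hPJ haP haJ
  suffices hkey : P ⊔ Ideal.span {a} = ⊤ by
    have h7 : P ⊔ Ideal.span {a} ≤ J := sup_le hPJ ((Ideal.span_singleton_le_iff_mem J).mpr haJ)
    rw [hkey, top_le_iff] at h7
    exact (Ideal.eq_top_iff_one J).mp h7
  obtain ⟨I₁, hI₁⟩ : ∃ I : Ideal R, I = P ⊔ Ideal.span {a} := ⟨_, rfl⟩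
  obtain ⟨I₂, hI₂⟩ : ∃ I : Ideal R, I = P ⊔ Ideal.span {a ^ 2} := ⟨_, rfl⟩
  have hPI₁ : P ≤ I₁ := by rw [hI₁]; exact le_sup_left
  have hPI₂ : P ≤ I₂ := by rw [hI₂]; exact le_sup_left
  have hI₁ne : I₁ ≠ ⊥ := fun h => hPne (le_bot_iff.mp (h ▸ hPI₁))
  have hI₂ne : I₂ ≠ ⊥ := fun h => hPne (le_bot_iff.mp (h ▸ hPI₂))
  obtain ⟨s₁, hs₁, hp₁⟩ := H I₁ hI₁ne
  obtain ⟨s₂, hs₂, hp₂⟩ := H I₂ hI₂ne
  have hge₁ : ∀ p ∈ s₁, P ≤ p := fun p hp =>
    hPI₁.trans (by rw [← hp₁]; exact prod_le_of_mem hp)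
  have hge₂ : ∀ p ∈ s₂, P ≤ p := fun p hp =>
    hPI₂.trans (by rw [← hp₂]; exact prod_le_of_mem hp)
  have hm₁ : Ideal.map (Ideal.Quotient.mk P) I₁ = Ideal.span {Ideal.Quotient.mk P a} := by
    rw [hI₁, Ideal.map_sup, Ideal.map_quotient_self, bot_sup_eq, Ideal.map_span,
      Set.image_singleton]
  have hm₂ : Ideal.map (Ideal.Quotient.mk P) I₂ = Ideal.span {Ideal.Quotient.mk P a ^ 2} := by
    rw [hI₂, Ideal.map_sup, Ideal.map_quotient_self, bot_sup_eq, Ideal.map_span,
      Set.image_singleton, map_pow]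
  have hπa : Ideal.Quotient.mk P a ≠ 0 := fun h => haP (Ideal.Quotient.eq_zero_iff_mem.mp h)
  have hprod₁ : (s₁.map (Ideal.map (Ideal.Quotient.mk P))).prod =
      Ideal.span {Ideal.Quotient.mk P a} := by
    rw [← map_prod, hp₁, hm₁]
  have hprod₂ : (s₂.map (Ideal.map (Ideal.Quotient.mk P))).prod =
      Ideal.span {Ideal.Quotient.mk P a ^ 2} := by
    rw [← map_prod, hp₂, hm₂]
  have hinv₁ : Inv (s₁.map (Ideal.map (Ideal.Quotient.mk P))).prod := by
    rw [hprod₁]; exact inv_span_singleton hπa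
  have hS₁ : ∀ pb ∈ s₁.map (Ideal.map (Ideal.Quotient.mk P)) +
      s₁.map (Ideal.map (Ideal.Quotient.mk P)), pb.IsPrime ∧ Inv pb := by
    intro pb hpb
    have hpb' : pb ∈ s₁.map (Ideal.map (Ideal.Quotient.mk P)) := by
      rcases Multiset.mem_add.mp hpb with h | h <;> exact h
    refine ⟨?_, hinv₁.of_mem_prod hpb'⟩
    obtain ⟨p, hp, rfl⟩ := Multiset.mem_map.mp hpb'
    haveI := (hs₁ p hp).1
    exact Ideal.map_isPrime_of_surjective Ideal.Quotient.mk_surjective
      (by rw [Ideal.mk_ker]; exact hge₁ p hp)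
  have hS₂ : ∀ qb ∈ s₂.map (Ideal.map (Ideal.Quotient.mk P)), qb.IsPrime := by
    intro qb hqb
    obtain ⟨q, hq, rfl⟩ := Multiset.mem_map.mp hqb
    haveI := (hs₂ q hq).1
    exact Ideal.map_isPrime_of_surjective Ideal.Quotient.mk_surjective
      (by rw [Ideal.mk_ker]; exact hge₂ q hq)
  have hprodeq : (s₁.map (Ideal.map (Ideal.Quotient.mk P)) +
      s₁.map (Ideal.map (Ideal.Quotient.mk P))).prod =
      (s₂.map (Ideal.map (Ideal.Quotient.mk P))).prod := by
    rw [Multiset.prod_add, hprod₁, hprod₂, Ideal.span_singleton_mul_span_singleton, pow_two]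
  have hSeq := unique_fact _ _ _ rfl hS₁ hS₂ hprodeq
  have hback : ∀ (s : Multiset (Ideal R)), (∀ p ∈ s, P ≤ p) →
      (s.map (Ideal.map (Ideal.Quotient.mk P))).map (Ideal.comap (Ideal.Quotient.mk P)) = s := by
    intro s hs
    rw [Multiset.map_map]
    conv_rhs => rw [← Multiset.map_id s]
    apply Multiset.map_congr rfl
    intro p hp
    simp only [Function.comp_apply, id]
    rw [Ideal.comap_map_of_surjective _ Ideal.Quotient.mk_surjective, ← RingHom.ker_eq_comap_bot,
      Ideal.mk_ker]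
    exact sup_eq_left.mpr (hs p hp)
  have hs₂eq : s₂ = s₁ + s₁ := by
    rw [← hback s₂ hge₂, ← hSeq, Multiset.map_add, hback s₁ hge₁]
  have hI₂eq : I₂ = I₁ * I₁ := by rw [← hp₂, hs₂eq, Multiset.prod_add, hp₁]
  have h3 : I₁ * I₁ ≤ P * P ⊔ Ideal.span {a} := by
    have e1 : I₁ * I₁ = P * I₁ ⊔ Ideal.span {a} * I₁ := by rw [← Ideal.sup_mul, ← hI₁]
    have e2 : P * I₁ = P * P ⊔ P * Ideal.span {a} := by rw [hI₁, Ideal.mul_sup]
    rw [e1, e2]
    exact sup_le (sup_le le_sup_left (Ideal.mul_le_right.trans le_sup_right))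
      (Ideal.mul_le_left.trans le_sup_right)
  have h4 : P ≤ P * I₁ := by
    intro x hx
    have hx2 : x ∈ P * P ⊔ Ideal.span {a} := h3 (by rw [← hI₂eq]; exact hPI₂ hx)
    rw [sup_comm, Ideal.mem_span_singleton_sup] at hx2
    obtain ⟨r, y, hy, hxe⟩ := hx2
    have hra : r * a ∈ P := by
      have h8 : r * a = x - y := by rw [← hxe]; ring
      rw [h8]
      exact P.sub_mem hx (Ideal.mul_le_left hy)
    have hr : r ∈ P := (hP.mem_or_mem hra).resolve_right haP
    rw [← hxe, hI₁, Ideal.mul_sup]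
    refine Ideal.add_mem _ (Ideal.mem_sup_right ?_) (Ideal.mem_sup_left hy)
    exact Ideal.mul_mem_mul hr (Ideal.mem_span_singleton_self a)
  have h5 : P * ⊤ ≤ P * I₁ := by rw [Ideal.mul_top]; exact h4
  have h6 : ⊤ ≤ I₁ := hinv.cancel_le h5
  rw [← hI₁]
  exact top_le_iff.mp h6

/-- (1) ⇒ (3): let R be a domain such that every nonzero ideal is a product of nonzero prime ideals,
uniquely up to permutation of the factors. Then R is Noetherian, integrally closed and of dimension
at most one, i.e. a Dedekind domain in the Noetherian sense. (The converse and the description by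
discrete valuation rings at maximal ideals are the standard equivalences.) -/
theorem result (R : Type u) [CommRing R] [IsDomain R]
    (h : ∀ I : Ideal R, I ≠ ⊥ → ∃! s : Multiset (Ideal R), (∀ p ∈ s, p.IsPrime ∧ p ≠ ⊥) ∧ s.prod = I) :
    IsDedekindDomain R := by
  classical
  have H : ∀ I : Ideal R, I ≠ ⊥ →
      ∃ s : Multiset (Ideal R), (∀ p ∈ s, p.IsPrime ∧ p ≠ ⊥) ∧ s.prod = I :=
    fun I hI => (h I hI).exists
  have hprime : ∀ P : Ideal R, P.IsPrime → P ≠ ⊥ → Inv P := by
    intro P hP hPne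
    obtain ⟨b, hbP, hb⟩ := Submodule.exists_mem_ne_zero_of_ne_bot hPne
    have hbne : Ideal.span {b} ≠ ⊥ := by
      rw [Ne, Ideal.span_singleton_eq_bot]; exact hb
    obtain ⟨s, hs, hprod⟩ := H _ hbne
    have hinvs : Inv s.prod := by rw [hprod]; exact inv_span_singleton hb
    have hle : s.prod ≤ P := by
      rw [hprod]; exact (Ideal.span_singleton_le_iff_mem P).mpr hbP
    obtain ⟨p, hps, hpP⟩ := hP.multiset_prod_le.mp hle
    haveI := (hs p hps).1
    have hmax : p.IsMaximal := isMaximal_of_inv H p (hinvs.of_mem_prod hps)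
    have hpeq : p = P := hmax.eq_of_le hP.ne_top hpP
    rw [← hpeq]
    exact hinvs.of_mem_prod hps
  have hall : ∀ I : Ideal R, I ≠ ⊥ → Inv I := by
    intro I hI
    obtain ⟨s, hs, hprod⟩ := H I hI
    rw [← hprod]
    exact inv_prod fun p hp => hprime p (hs p hp).1 (hs p hp).2
  rw [isDedekindDomain_iff_mul_inv_cancel (K := FractionRing R)]
  intro I hI
  rw [FractionalIdeal.mul_inv_cancel_iff]
  obtain ⟨a, I₀, ha, rfl⟩ := FractionalIdeal.exists_eq_spanSingleton_mul I
  have hI₀ : I₀ ≠ ⊥ := by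
    rintro rfl
    apply hI
    rw [FractionalIdeal.coeIdeal_bot, mul_zero, FractionalIdeal.bot_eq_zero]
  obtain ⟨J, c, hc, hJ⟩ := hall I₀ hI₀
  have ha' : algebraMap R (FractionRing R) a ≠ 0 :=
    fun h0 => ha (IsFractionRing.to_map_eq_zero_iff.mp h0)
  have hc' : algebraMap R (FractionRing R) c ≠ 0 :=
    fun h0 => hc (IsFractionRing.to_map_eq_zero_iff.mp h0)
  have e1 : (I₀ : FractionalIdeal R⁰ (FractionRing R)) * (J : FractionalIdeal R⁰ (FractionRing R)) =
      FractionalIdeal.spanSingleton R⁰ (algebraMap R (FractionRing R) c) := by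
    rw [← FractionalIdeal.coeIdeal_mul, hJ, FractionalIdeal.coeIdeal_span_singleton]
  refine ⟨FractionalIdeal.spanSingleton R⁰ (algebraMap R (FractionRing R) a) *
    (J : FractionalIdeal R⁰ (FractionRing R)) *
    FractionalIdeal.spanSingleton R⁰ (algebraMap R (FractionRing R) c)⁻¹, ?_⟩
  calc _ = (FractionalIdeal.spanSingleton R⁰ (algebraMap R (FractionRing R) a)⁻¹ *
        FractionalIdeal.spanSingleton R⁰ (algebraMap R (FractionRing R) a)) *
        (((I₀ : FractionalIdeal R⁰ (FractionRing R)) * (J : FractionalIdeal R⁰ (FractionRing R))) *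
        FractionalIdeal.spanSingleton R⁰ (algebraMap R (FractionRing R) c)⁻¹) := by ring
    _ = 1 := by
      rw [e1, FractionalIdeal.spanSingleton_mul_spanSingleton,
        FractionalIdeal.spanSingleton_mul_spanSingleton, inv_mul_cancel₀ ha', mul_inv_cancel₀ hc',
        FractionalIdeal.spanSingleton_one, mul_one]

end Groth.Agent.S6369
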