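import Groth.Statements.S6370
import Groth.Agent.Lib.Helper12.KAFin

set_option autoImplicit false
universe u
open CAlg

namespace Groth.Agent.S6370

open Groth.Agent.Lib.Helper12

/-- For a one-dimensional Noetherian domain A with fraction field K, a finite field extension L of K
(separable or not) and B the integral closure of A in L: B is a Dedekind domain, Spec B → Spec A is
surjective and has finite fibres, and at every maximal ideal Q of B the residue field B/Q is finite
over A/(Q ∩ A). -/
theorem result (A K L B : Type u) [CommRing A] [IsDomain A]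
    [IsNoetherianRing A] (hdim : ringKrullDim A = 1) [Field K] [Algebra A K] [IsFractionRing A K]
    [Field L] [Algebra K L] [FiniteDimensional K L] [Algebra A L] [IsScalarTower A K L]
    [CommRing B] [IsDomain B] [Algebra A B] [Algebra B L] [IsScalarTower A B L] [IsIntegralClosure B A L] :
    IsDedekindDomain B ∧ Function.Surjective (PrimeSpectrum.comap (algebraMap A B)) ∧
      (∀ p : PrimeSpectrum A, (PrimeSpectrum.comap (algebraMap A B) ⁻¹' {p}).Finite) ∧
      ∀ Q : Ideal B, Q.IsMaximal → Module.Finite (A ⧸ Q.comap (algebraMap A B)) (B ⧸ Q) := by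
  haveI : Ring.KrullDimLE 1 A := Ring.krullDimLE_iff.2 (by rw [hdim]; rfl)
  haveI : IsFractionRing B L := IsIntegralClosure.isFractionRing_of_finite_extension A K L B
  haveI : Algebra.IsIntegral A B := IsIntegralClosure.isIntegral_algebra A L
  haveI : IsIntegrallyClosed B := (isIntegrallyClosed_iff L).2 fun {x} hx =>
    IsIntegralClosure.isIntegral_iff.1 (isIntegral_trans (R := A) x hx)
  have hinj := KAFin.algebraMap_injective (R := A) (S := B) K L
  refine ⟨?_, ?_, fun p => KAFin.finite_fibre K L p, ?_⟩
  · haveI := KAFin.isNoetherianRing (R := A) (S := B) K L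
    haveI := KAFin.dimensionLEOne (R := A) (S := B) K L
    exact (isDedekindDomain_iff B (FractionRing B)).2
      ⟨inferInstance, inferInstance, inferInstance,
        fun hx => IsIntegrallyClosed.algebraMap_eq_of_integral hx⟩
  · intro p
    obtain ⟨Q, -, hQ, hQc⟩ := Ideal.exists_ideal_over_prime_of_isIntegral (S := B) p.asIdeal
      (⊥ : Ideal B) (by
        rw [← RingHom.ker_eq_comap_bot, (RingHom.injective_iff_ker_eq_bot _).mp hinj]
        exact bot_le)
    exact ⟨⟨Q, hQ⟩, PrimeSpectrum.ext hQc⟩
  · intro Q hQ
    by_cases hB : IsField B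
    · exfalso
      have hA : IsField A := isField_of_isIntegral_of_isField hinj hB
      rw [ringKrullDim_eq_zero_of_isField hA] at hdim
      exact zero_ne_one hdim
    · exact KAFin.residue_finite K L Q (Ring.ne_bot_of_isMaximal_of_not_isField hQ hB)

end Groth.Agent.S6370
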