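import Groth.Statements.S6371
import Mathlib
-- import your own Groth.Agent.* helpers here

set_option autoImplicit false
universe u
open CAlg

open scoped TensorProduct

namespace Groth.Agent.S6371

theorem isEpi_of_isLocalization {R : Type u} [CommRing R] (M : Submonoid R) (T : Type u)
    [CommRing T] [Algebra R T] [IsLocalization M T] : Algebra.IsEpi R T := by
  rw [Algebra.isEpi_iff_forall_one_tmul_eq]
  intro t
  obtain ⟨⟨a, m⟩, hm⟩ := IsLocalization.surj M t
  simp only at hm
  set u : T := IsLocalization.mk' T (1 : R) m with hu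
  have h1 : algebraMap R T m * u = 1 := by rw [hu, IsLocalization.mk'_spec', map_one]
  have hmu : (m : R) • u = 1 := by rw [Algebra.smul_def, h1]
  have htu : t = a • u := by
    calc t = t * (algebraMap R T m * u) := by rw [h1, mul_one]
      _ = (t * algebraMap R T m) * u := by ring
      _ = algebraMap R T a * u := by rw [hm]
      _ = a • u := (Algebra.smul_def a u).symm
  have hu1 : (1 : T) ⊗ₜ[R] u = u ⊗ₜ[R] 1 := by
    calc (1 : T) ⊗ₜ[R] u = ((m : R) • u) ⊗ₜ[R] u := by rw [hmu]
      _ = u ⊗ₜ[R] ((m : R) • u) := TensorProduct.smul_tmul _ _ _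
      _ = u ⊗ₜ[R] 1 := by rw [hmu]
  rw [htu, TensorProduct.tmul_smul, ← TensorProduct.smul_tmul', hu1]

theorem isEpi_trans (R S T : Type u) [CommRing R] [CommRing S] [CommRing T] [Algebra R S]
    [Algebra S T] [Algebra R T] [IsScalarTower R S T] [Algebra.IsEpi R S] [Algebra.IsEpi S T] :
    Algebra.IsEpi R T := by
  have hcompat : ∀ (s : S) (t t' : T), (s • t) ⊗ₜ[R] t' = t ⊗ₜ[R] (s • t') := by
    intro s t t'
    let ℓ : S ⊗[R] S →ₗ[R] T ⊗[R] T :=
      TensorProduct.map ((LinearMap.toSpanSingleton S T t).restrictScalars R)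
        ((LinearMap.toSpanSingleton S T t').restrictScalars R)
    have h1 := (Algebra.isEpi_iff_forall_one_tmul_eq R S).mp inferInstance s
    have h2 := congrArg ℓ h1
    simp only [ℓ, TensorProduct.map_tmul, LinearMap.coe_restrictScalars,
      LinearMap.toSpanSingleton_apply, one_smul] at h2
    exact h2.symm
  haveI : TensorProduct.CompatibleSMul R S T T := ⟨hcompat⟩
  rw [Algebra.isEpi_iff_forall_one_tmul_eq]
  intro t
  have h3 := (Algebra.isEpi_iff_forall_one_tmul_eq S T).mp inferInstance t
  exact congrArg (TensorProduct.mapOfCompatibleSMul R S R T T) h3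

theorem isEpi_of_tower (R S T : Type u) [CommRing R] [CommRing S] [CommRing T] [Algebra R S]
    [Algebra S T] [Algebra R T] [IsScalarTower R S T] [Algebra.IsEpi R T] :
    Algebra.IsEpi S T := by
  rw [Algebra.isEpi_iff_forall_one_tmul_eq]
  intro t
  have h := (Algebra.isEpi_iff_forall_one_tmul_eq R T).mp inferInstance t
  exact congrArg (TensorProduct.mapOfCompatibleSMul S R R T T) h

theorem eq_zero_of_forall_prime {R : Type u} [CommRing R] {N : Type u} [AddCommGroup N]
    [Module R N] (x : N) (h : ∀ (p : Ideal R) [p.IsPrime], ∃ r : R, r ∉ p ∧ r • x = 0) :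
    x = 0 := by
  by_contra hx
  let 𝔞 : Ideal R := LinearMap.ker (LinearMap.toSpanSingleton R N x)
  have hne : 𝔞 ≠ ⊤ := by
    intro htop
    have h1 : (1 : R) ∈ 𝔞 := by rw [htop]; trivial
    rw [LinearMap.mem_ker, LinearMap.toSpanSingleton_apply, one_smul] at h1
    exact hx h1
  obtain ⟨m, hm, hle⟩ := Ideal.exists_le_maximal 𝔞 hne
  haveI := hm.isPrime
  obtain ⟨r, hr, hrx⟩ := h m
  exact hr (hle (by rw [LinearMap.mem_ker, LinearMap.toSpanSingleton_apply]; exact hrx))

/-- A ring map R → S is an epimorphism of rings if and only if for every prime p of R the localized map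
R_p → S_p is an epimorphism, where S_p is S localized at the image of R ∖ p. -/
theorem result (R S : Type u) [CommRing R] [CommRing S] [Algebra R S] :
    Algebra.IsEpi R S ↔ ∀ (p : Ideal R) [p.IsPrime],
      Algebra.IsEpi (Localization.AtPrime p) (Localization (Algebra.algebraMapSubmonoid S p.primeCompl)) := by
  constructor
  · intro hepi p hp
    haveI h1 : Algebra.IsEpi S (Localization (Algebra.algebraMapSubmonoid S p.primeCompl)) :=
      isEpi_of_isLocalization (Algebra.algebraMapSubmonoid S p.primeCompl) _
    haveI h2 : Algebra.IsEpi R (Localization (Algebra.algebraMapSubmonoid S p.primeCompl)) :=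
      isEpi_trans R S _
    exact isEpi_of_tower R (Localization.AtPrime p) _
  · intro h
    rw [Algebra.isEpi_iff_forall_one_tmul_eq]
    intro s
    rw [← sub_eq_zero]
    apply eq_zero_of_forall_prime (R := R)
    intro p hp
    let ι : S →ₗ[R] Localization (Algebra.algebraMapSubmonoid S p.primeCompl) :=
      (IsScalarTower.toAlgHom R S
        (Localization (Algebra.algebraMapSubmonoid S p.primeCompl))).toLinearMap
    haveI : IsLocalizedModule p.primeCompl ι :=
      isLocalizedModule_iff_isLocalization.mpr inferInstance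
    have hg : TensorProduct.map ι ι ((1 : S) ⊗ₜ[R] s - s ⊗ₜ[R] 1) = 0 := by
      have hepi := (Algebra.isEpi_iff_forall_one_tmul_eq (Localization.AtPrime p)
        (Localization (Algebra.algebraMapSubmonoid S p.primeCompl))).mp (h p)
        (algebraMap S _ s)
      have h3 : (1 : Localization (Algebra.algebraMapSubmonoid S p.primeCompl)) ⊗ₜ[R]
          (algebraMap S (Localization (Algebra.algebraMapSubmonoid S p.primeCompl)) s) =
          (algebraMap S (Localization (Algebra.algebraMapSubmonoid S p.primeCompl)) s) ⊗ₜ[R] 1 :=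
        congrArg (IsLocalization.moduleTensorEquiv p.primeCompl (Localization.AtPrime p)
          (Localization (Algebra.algebraMapSubmonoid S p.primeCompl))
          (Localization (Algebra.algebraMapSubmonoid S p.primeCompl))) hepi
      rw [map_sub, TensorProduct.map_tmul, TensorProduct.map_tmul]
      simp only [ι, AlgHom.toLinearMap_apply, IsScalarTower.coe_toAlgHom', map_one]
      rw [h3, sub_self]
    obtain ⟨c, hc⟩ := (IsLocalizedModule.eq_zero_iff p.primeCompl (TensorProduct.map ι ι)).mp hg
    exact ⟨c.1, c.2, hc⟩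

end Groth.Agent.S6371
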