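import Groth.Statements.S6372
import Mathlib
-- import your own Groth.Agent.* helpers here

set_option autoImplicit false
universe u
open CAlg

open scoped TensorProduct

namespace Groth.Agent.S6372

/-- A faithfully flat epimorphism of rings is an isomorphism: if R → S is faithfully flat and an
epimorphism in the category of rings then it is bijective. -/
theorem result (R S : Type u) [CommRing R] [CommRing S] [Algebra R S]
    [Module.FaithfullyFlat R S] [Algebra.IsEpi R S] : Function.Bijective (algebraMap R S) := by
  have hm := Algebra.IsEpi.injective_lift_mul (R := R) (A := S)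
  set m := TensorProduct.lift (LinearMap.mul R S) with hmdef
  let g : S →ₗ[R] S ⊗[R] S := (TensorProduct.mk R S S).flip 1
  have hmg : ∀ s, m (g s) = s := fun s => by simp [m, g]
  have hg : Function.Bijective g := by
    constructor
    · intro a b hab
      rw [← hmg a, ← hmg b, hab]
    · intro t
      exact ⟨m t, hm (hmg (m t))⟩
  have hcomp : (Algebra.linearMap R S).lTensor S = g ∘ₗ (TensorProduct.rid R S).toLinearMap := by
    apply TensorProduct.ext'
    intro s r
    simp only [LinearMap.lTensor_tmul, Algebra.linearMap_apply, LinearMap.comp_apply,
      LinearEquiv.coe_coe, TensorProduct.rid_tmul, g, LinearMap.flip_apply, TensorProduct.mk_apply]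
    rw [Algebra.algebraMap_eq_smul_one, TensorProduct.tmul_smul, TensorProduct.smul_tmul']
  have hb : Function.Bijective ((Algebra.linearMap R S).lTensor S) := by
    rw [hcomp]
    exact hg.comp (TensorProduct.rid R S).bijective
  have := (Module.FaithfullyFlat.lTensor_bijective_iff_bijective R S _).mp hb
  exact this

end Groth.Agent.S6372
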