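import Groth.Statements.S6373
import Mathlib
import Groth.Agent.S6372

set_option autoImplicit false
universe u
open CAlg

open scoped TensorProduct

namespace Groth.Agent.S6373

/-- If k is a field and k → S is an epimorphism of rings, then S is the zero ring or k → S is an
isomorphism. -/
theorem result (k S : Type u) [Field k] [CommRing S] [Algebra k S] [Algebra.IsEpi k S] :
    Subsingleton S ∨ Function.Bijective (algebraMap k S) := by
  by_cases h : Subsingleton S
  · exact Or.inl h
  · right
    rw [not_subsingleton_iff_nontrivial] at h
    exact Groth.Agent.S6372.result k S

end Groth.Agent.S6373
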