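import Groth.Statements.S6374
import Mathlib
import Groth.Agent.S6373

set_option autoImplicit false
universe u
open CAlg

open scoped TensorProduct

namespace Groth.Agent.S6374

theorem isEpi_baseChange (R S A : Type u) [CommRing R] [CommRing S] [CommRing A] [Algebra R S]
    [Algebra R A] [Algebra.IsEpi R S] : Algebra.IsEpi A (A ⊗[R] S) := by
  rw [Algebra.isEpi_iff_forall_one_tmul_eq]
  intro x
  induction x using TensorProduct.induction_on with
  | zero => simp
  | tmul a s =>
    have h1 : (1 : A ⊗[R] S) ⊗ₜ[A] ((1 : A) ⊗ₜ[R] s) =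
        ((1 : A) ⊗ₜ[R] s) ⊗ₜ[A] (1 : A ⊗[R] S) := by
      let j : S →ₗ[R] A ⊗[R] S :=
        (Algebra.TensorProduct.includeRight : S →ₐ[R] A ⊗[R] S).toLinearMap
      let ψ : S ⊗[R] S →ₗ[R] (A ⊗[R] S) ⊗[A] (A ⊗[R] S) :=
        (TensorProduct.mapOfCompatibleSMul A R R (A ⊗[R] S) (A ⊗[R] S)) ∘ₗ (TensorProduct.map j j)
      have h0 := congrArg ψ ((Algebra.isEpi_iff_forall_one_tmul_eq R S).mp inferInstance s)
      simp only [ψ, j, LinearMap.comp_apply, TensorProduct.map_tmul,
        TensorProduct.mapOfCompatibleSMul_tmul, AlgHom.toLinearMap_apply,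
        Algebra.TensorProduct.includeRight_apply] at h0
      rwa [← Algebra.TensorProduct.one_def] at h0
    have h2 : a ⊗ₜ[R] s = a • ((1 : A) ⊗ₜ[R] s) := by
      rw [TensorProduct.smul_tmul', smul_eq_mul, mul_one]
    rw [h2, TensorProduct.tmul_smul, ← TensorProduct.smul_tmul', h1]
  | add x y hx hy => rw [TensorProduct.tmul_add, TensorProduct.add_tmul, hx, hy]

/-- For an epimorphism of rings R → S, the induced map Spec S → Spec R is injective and induces trivial
residue field extensions; stated in the form the proof gives: for every prime p of R the fibre ring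
S ⊗_R κ(p) is either zero or κ(p) → S ⊗_R κ(p) is bijective, together with injectivity of Spec S →
Spec R. -/
theorem result (R S : Type u) [CommRing R] [CommRing S] [Algebra R S]
    [Algebra.IsEpi R S] :
    Function.Injective (PrimeSpectrum.comap (algebraMap R S)) ∧
      ∀ (p : Ideal R) [p.IsPrime],
        Subsingleton (p.Fiber S) ∨ Function.Bijective (algebraMap p.ResidueField (p.Fiber S)) := by
  have part2 : ∀ (p : Ideal R) [p.IsPrime],
      Subsingleton (p.Fiber S) ∨ Function.Bijective (algebraMap p.ResidueField (p.Fiber S)) := by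
    intro p hp
    haveI : Algebra.IsEpi p.ResidueField (p.Fiber S) := isEpi_baseChange R S p.ResidueField
    exact Groth.Agent.S6373.result p.ResidueField (p.Fiber S)
  refine ⟨?_, part2⟩
  intro q₁ q₂ h
  set p := PrimeSpectrum.comap (algebraMap R S) q₁ with hp
  have hsub : Subsingleton (PrimeSpectrum (p.asIdeal.Fiber S)) := by
    rcases part2 p.asIdeal with h1 | h1
    · refine ⟨fun a b => ?_⟩
      exfalso
      apply a.2.ne_top
      rw [Ideal.eq_top_iff_one, Subsingleton.elim (1 : p.asIdeal.Fiber S) 0]
      exact a.asIdeal.zero_mem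
    · have hF : IsField (p.asIdeal.Fiber S) :=
        (RingEquiv.ofBijective (algebraMap p.asIdeal.ResidueField (p.asIdeal.Fiber S))
          h1).symm.toMulEquiv.isField (Field.toIsField _)
      letI := hF.toField
      refine ⟨fun a b => ?_⟩
      apply PrimeSpectrum.ext
      have ha := (Ideal.eq_bot_or_top a.asIdeal).resolve_right a.2.ne_top
      have hb := (Ideal.eq_bot_or_top b.asIdeal).resolve_right b.2.ne_top
      rw [ha, hb]
  let e := PrimeSpectrum.preimageEquivFiber R S p
  let x₁ : PrimeSpectrum.comap (algebraMap R S) ⁻¹' {p} := ⟨q₁, rfl⟩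
  let x₂ : PrimeSpectrum.comap (algebraMap R S) ⁻¹' {p} := ⟨q₂, h.symm⟩
  have h12 : x₁ = x₂ := e.injective (Subsingleton.elim _ _)
  exact congrArg Subtype.val h12

end Groth.Agent.S6374
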