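import Groth.Statements.S6375
import Mathlib
-- import your own Groth.Agent.* helpers here

set_option autoImplicit false
universe u
open CAlg

open scoped TensorProduct

namespace Groth.Agent.S6375


/-- `s` is represented by the `R`-data `(k, l, a, c, d)`. -/
def Rep {R S : Type u} [CommRing R] [CommRing S] [Algebra R S] (s : S) (k l : ℕ)
    (a : Fin k → Fin l → R) (c d : Fin k → R) : Prop :=
  ∃ (μ : Fin k → S) (y : Fin l → S), (∑ i, c i • μ i = s) ∧ (∑ i, d i • μ i = 1) ∧
    (∀ i, c i • (1 : S) - d i • s = ∑ j, a i j • y j) ∧ (∀ j, ∑ i, a i j • μ i = 0)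

theorem rep_unique {R S : Type u} [CommRing R] [CommRing S] [Algebra R S] {s s' : S} {k l : ℕ}
    {a : Fin k → Fin l → R} {c d : Fin k → R} (h : Rep s k l a c d) (h' : Rep s' k l a c d) :
    s = s' := by
  obtain ⟨μ, y, hc, hd, hn, hm⟩ := h
  obtain ⟨μ', y', hc', hd', hn', hm'⟩ := h'
  have h1 : ∑ i, μ i * (c i • (1 : S) - d i • s') = 0 := by
    calc ∑ i, μ i * (c i • (1 : S) - d i • s') = ∑ i, μ i * ∑ j, a i j • y' j := by
          refine Finset.sum_congr rfl fun i _ => by rw [hn' i]
      _ = ∑ i, ∑ j, (a i j • μ i) * y' j := by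
          refine Finset.sum_congr rfl fun i _ => ?_
          rw [Finset.mul_sum]
          refine Finset.sum_congr rfl fun j _ => ?_
          rw [mul_smul_comm, smul_mul_assoc]
      _ = ∑ j, ∑ i, (a i j • μ i) * y' j := Finset.sum_comm
      _ = ∑ j, (∑ i, a i j • μ i) * y' j := by
          refine Finset.sum_congr rfl fun j _ => by rw [Finset.sum_mul]
      _ = 0 := by
          refine Finset.sum_eq_zero fun j _ => by rw [hm j, zero_mul]
  have h2 : ∑ i, μ i * (c i • (1 : S) - d i • s') = s - s' := by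
    calc ∑ i, μ i * (c i • (1 : S) - d i • s') = ∑ i, (c i • μ i - (d i • μ i) * s') := by
          refine Finset.sum_congr rfl fun i _ => ?_
          rw [mul_sub, mul_smul_comm, mul_one, mul_smul_comm, smul_mul_assoc]
      _ = (∑ i, c i • μ i) - (∑ i, d i • μ i) * s' := by
          rw [Finset.sum_sub_distrib, Finset.sum_mul]
      _ = s - s' := by rw [hc, hd, one_mul]
  exact sub_eq_zero.mp (h2.symm.trans h1)

theorem exists_rep {R S : Type u} [CommRing R] [CommRing S] [Algebra R S] [Algebra.IsEpi R S]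
    (s : S) : ∃ (k l : ℕ) (a : Fin k → Fin l → R) (c d : Fin k → R), Rep s k l a c d := by
  classical
  have hP : (Submodule.span R ({s, 1} : Set S)).FG := Submodule.fg_span (Set.toFinite {s, 1})
  have hsP : s ∈ Submodule.span R ({s, 1} : Set S) := Submodule.subset_span (by simp)
  have h1P : (1 : S) ∈ Submodule.span R ({s, 1} : Set S) := Submodule.subset_span (by simp)
  have ht : (Submodule.span R ({s, 1} : Set S)).subtype.rTensor S
      ((⟨s, hsP⟩ : Submodule.span R ({s, 1} : Set S)) ⊗ₜ[R] (1 : S) -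
        (⟨1, h1P⟩ : Submodule.span R ({s, 1} : Set S)) ⊗ₜ[R] s) = 0 := by
    rw [map_sub, LinearMap.rTensor_tmul, LinearMap.rTensor_tmul, sub_eq_zero]
    exact ((Algebra.isEpi_iff_forall_one_tmul_eq R S).mp inferInstance s).symm
  obtain ⟨Q, hPQ, hQ, hQt⟩ := TensorProduct.eq_zero_of_fg_of_subtype_eq_zero hP ht
  rw [map_sub, LinearMap.rTensor_tmul, LinearMap.rTensor_tmul] at hQt
  haveI : Module.Finite R Q := Module.Finite.iff_fg.mpr hQ
  obtain ⟨k, m, hm⟩ := Module.Finite.exists_fin (R := R) (M := Q)
  obtain ⟨c, hc⟩ := (Submodule.mem_span_range_iff_exists_fun R).mp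
    (show (⟨s, hPQ hsP⟩ : Q) ∈ Submodule.span R (Set.range m) by rw [hm]; trivial)
  obtain ⟨d, hd⟩ := (Submodule.mem_span_range_iff_exists_fun R).mp
    (show (⟨1, hPQ h1P⟩ : Q) ∈ Submodule.span R (Set.range m) by rw [hm]; trivial)
  have hsum : ∑ i, m i ⊗ₜ[R] (c i • (1 : S) - d i • s) = (0 : Q ⊗[R] S) := by
    have h3 : ∑ i, m i ⊗ₜ[R] (c i • (1 : S) - d i • s) =
        (⟨s, hPQ hsP⟩ : Q) ⊗ₜ[R] (1 : S) - (⟨1, hPQ h1P⟩ : Q) ⊗ₜ[R] s := by
      rw [eq_sub_iff_add_eq, ← hc, ← hd, TensorProduct.sum_tmul, TensorProduct.sum_tmul,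
        ← Finset.sum_add_distrib]
      refine Finset.sum_congr rfl fun i _ => ?_
      rw [TensorProduct.smul_tmul, TensorProduct.smul_tmul, ← TensorProduct.tmul_add,
        sub_add_cancel]
    rw [h3]
    exact hQt
  obtain ⟨l, a, y, hay, ham⟩ := TensorProduct.vanishesTrivially_of_sum_tmul_eq_zero R hm hsum
  refine ⟨k, l, a, c, d, fun i => (m i : S), y, ?_, ?_, hay, ?_⟩
  · have h4 := congrArg Q.subtype hc
    simpa [map_sum] using h4
  · have h4 := congrArg Q.subtype hd
    simpa [map_sum] using h4
  · intro j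
    have h4 := congrArg Q.subtype (ham j)
    simpa [map_sum] using h4

/-- encoding of the data as a list of lists -/
def enc {R : Type u} (ι : ℕ ↪ R) (k l : ℕ) (a : Fin k → Fin l → R) (c d : Fin k → R) :
    List (List R) :=
  [ι k, ι l] :: List.ofFn c :: List.ofFn d :: List.ofFn (fun i => List.ofFn (a i))

theorem rep_unique' {R S : Type u} [CommRing R] [CommRing S] [Algebra R S] (ι : ℕ ↪ R)
    {s s' : S} {k l k' l' : ℕ} {a : Fin k → Fin l → R} {c d : Fin k → R}
    {a' : Fin k' → Fin l' → R} {c' d' : Fin k' → R}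
    (h : Rep s k l a c d) (h' : Rep s' k' l' a' c' d')
    (he : enc ι k l a c d = enc ι k' l' a' c' d') : s = s' := by
  unfold enc at he
  have h1 := List.cons_eq_cons.mp he
  have h2 := List.cons_eq_cons.mp h1.2
  have h3 := List.cons_eq_cons.mp h2.2
  have h4 := List.cons_eq_cons.mp h1.1
  have h5 := List.cons_eq_cons.mp h4.2
  have hk : k = k' := ι.injective h4.1
  have hl : l = l' := ι.injective h5.1
  subst hk hl
  have hc' : c = c' := List.ofFn_injective h2.1
  have hd' : d = d' := List.ofFn_injective h3.1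
  have ha' : a = a' := by
    funext i
    exact List.ofFn_injective (congrFun (List.ofFn_injective h3.2) i)
  subst hc' hd' ha'
  exact rep_unique h h'

/-- For an infinite source ring: if R → S is an epimorphism of rings with R infinite, then |S| ≤ |R| as
cardinals. (For finite R the published statement also asserts |S| ≤ |R|, but its proof only gives
that S is countable and omits the rest, so that case is not included.) -/
theorem result (R S : Type u) [CommRing R] [CommRing S] [Algebra R S] [Algebra.IsEpi R S]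
    [Infinite R] : Cardinal.mk S ≤ Cardinal.mk R := by
  classical
  choose k l a c d hrep using (exists_rep (R := R) (S := S))
  have hinj : Function.Injective
      (fun s : S => enc (Infinite.natEmbedding R) (k s) (l s) (a s) (c s) (d s)) := by
    intro s s' h
    exact rep_unique' (Infinite.natEmbedding R) (hrep s) (hrep s') h
  have hcard : Cardinal.mk (List (List R)) = Cardinal.mk R := by
    rw [Cardinal.mk_list_eq_mk, Cardinal.mk_list_eq_mk]
  calc Cardinal.mk S ≤ Cardinal.mk (List (List R)) := Cardinal.mk_le_of_injective hinj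
    _ = Cardinal.mk R := hcard

end Groth.Agent.S6375
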