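import Groth.Statements.S6381
import Mathlib

set_option autoImplicit false
universe u
open CAlg

namespace Groth.Agent.S6381


theorem common_denom {S L : Type*} [CommRing S] [Field L] (ψ : S →+* L) (T : Finset L)
    (hT : ∀ t ∈ T, t ∈ Subfield.closure (Set.range ψ)) :
    ∃ b : S, ψ b ≠ 0 ∧ ∀ t ∈ T, ∃ a : S, t * ψ b = ψ a := by
  classical
  induction T using Finset.induction_on with
  | empty => exact ⟨1, by simp, by simp⟩
  | insert t T' hnot ih =>
    obtain ⟨b', hb', h'⟩ := ih (fun t ht => hT t (Finset.mem_insert_of_mem ht))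
    have ht := hT t (Finset.mem_insert_self _ _)
    obtain ⟨y, hy, z, hz, hyz⟩ := Subfield.mem_closure_iff.1 ht
    rw [← RingHom.coe_range, Subring.closure_eq] at hy hz
    obtain ⟨a, rfl⟩ := RingHom.mem_range.1 hy
    obtain ⟨b₀, rfl⟩ := RingHom.mem_range.1 hz
    by_cases hb0 : ψ b₀ = 0
    · refine ⟨b', hb', ?_⟩
      intro t₁ ht₁
      rcases Finset.mem_insert.1 ht₁ with h1 | ht₁
      · exact ⟨0, by rw [h1, ← hyz, hb0, div_zero, zero_mul, map_zero]⟩
      · exact h' t₁ ht₁
    · refine ⟨b₀ * b', by rw [map_mul]; exact mul_ne_zero hb0 hb', ?_⟩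
      intro t₁ ht₁
      rcases Finset.mem_insert.1 ht₁ with h1 | ht₁
      · exact ⟨a * b', by rw [h1, ← hyz, map_mul, map_mul]; field_simp⟩
      · obtain ⟨a', ha'⟩ := h' t₁ ht₁
        exact ⟨a' * b₀, by rw [map_mul, map_mul, ← ha']; ring⟩

def Good (R : Type u) [CommRing R] (p : Ideal R) (L : Type u) [Field L] [Algebra R L]
    (E : Subfield L) : Prop :=
  ∃ (S : Type u) (_ : CommRing S) (_ : Algebra R S) (_ : Module.Finite R S) (_ : Module.Free R S)
    (ψ : S →+* L), (∀ r, ψ (algebraMap R S r) = algebraMap R L r) ∧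
      RingHom.ker ψ = p.map (algebraMap R S) ∧ Subfield.closure (Set.range ψ) = E

open Polynomial in
theorem good_step (R : Type u) [CommRing R] (p : Ideal R) (L : Type u) [Field L] [Algebra R L]
    (E : Subfield L) (h : Good R p L E) (x : L) (hx : IsIntegral E x) :
    Good R p L (Subfield.closure ((E : Set L) ∪ {x})) := by
  classical
  obtain ⟨S, _, _, _, _, ψ, hcompat, hker, hcl⟩ := h
  have : Nontrivial S := ψ.domain_nontrivial
  have hmemE : ∀ s, ψ s ∈ E := fun s => by rw [← hcl]; exact Subfield.subset_closure ⟨s, rfl⟩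
  let ψK : S →+* E := ψ.codRestrict E hmemE
  have hψ : ψ = (algebraMap E L).comp ψK := by ext s; rfl
  have hψK : ∀ s, algebraMap E L (ψK s) = ψ s := fun _ => rfl
  have hmonic : (minpoly E x).Monic := minpoly.monic hx
  obtain ⟨b, hb, hden⟩ := common_denom ψ
    ((Finset.range (minpoly E x).natDegree).image (fun i => (((minpoly E x).coeff i : E) : L)))
    (by
      intro t ht
      obtain ⟨i, _, rfl⟩ := Finset.mem_image.1 ht
      rw [hcl]; exact ((minpoly E x).coeff i).2)
  have hc : ψK b ≠ 0 := fun h0 => hb (by
    have := congrArg (algebraMap E L) h0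
    rwa [hψK, map_zero] at this)
  have hlift : (minpoly E x).scaleRoots (ψK b) ∈ Polynomial.lifts ψK := by
    rw [Polynomial.lifts_iff_coeff_lifts]
    intro n
    rw [Polynomial.coeff_scaleRoots]
    rcases lt_trichotomy n (minpoly E x).natDegree with hn | hn | hn
    · obtain ⟨a, ha⟩ := hden _ (Finset.mem_image.2 ⟨n, Finset.mem_range.2 hn, rfl⟩)
      obtain ⟨k, hk⟩ : ∃ k, (minpoly E x).natDegree - n = k + 1 :=
        ⟨(minpoly E x).natDegree - n - 1, by omega⟩
      rw [hk]
      refine ⟨a * b ^ k, Subtype.ext ?_⟩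
      have e1 : ((ψK (a * b ^ k) : E) : L) = ψ (a * b ^ k) := rfl
      have e2 : ((ψK b : E) : L) = ψ b := rfl
      rw [e1, Subfield.coe_mul, SubmonoidClass.coe_pow, e2, map_mul, map_pow, ← ha, pow_succ]; ring
    · rw [hn, Nat.sub_self, pow_zero, mul_one]
      exact ⟨1, by rw [map_one]; exact hmonic.coeff_natDegree.symm⟩
    · rw [Polynomial.coeff_eq_zero_of_natDegree_lt hn, zero_mul]
      exact ⟨0, map_zero _⟩
  obtain ⟨P, hPmap, hPdeg, hPmonic⟩ := Polynomial.lifts_and_natDegree_eq_and_monic hlift
    ((Polynomial.monic_scaleRoots_iff (ψK b)).2 hmonic)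
  rw [Polynomial.natDegree_scaleRoots] at hPdeg
  have hroot : Polynomial.eval₂ ψ (ψ b * x) P = 0 := by
    have h0 : Polynomial.eval₂ (algebraMap E L) x (minpoly E x) = 0 := by
      rw [← Polynomial.aeval_def]; exact minpoly.aeval E x
    have h1 := Polynomial.scaleRoots_eval₂_eq_zero (algebraMap E L) (s := ψK b) h0
    rw [← hPmap, Polynomial.eval₂_map, ← hψ, hψK] at h1
    exact h1
  have : Module.Free S (AdjoinRoot P) := hPmonic.free_adjoinRoot
  have : Module.Finite S (AdjoinRoot P) := hPmonic.finite_adjoinRoot
  have : Module.Free R (AdjoinRoot P) := Module.Free.of_basis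
    ((Module.Free.chooseBasis R S).smulTower (Module.Free.chooseBasis S (AdjoinRoot P)))
  have : Module.Finite R (AdjoinRoot P) := Module.Finite.trans S (AdjoinRoot P)
  let ψ' : AdjoinRoot P →+* L := AdjoinRoot.lift ψ (ψ b * x) hroot
  have hψ'of : ∀ s : S, ψ' (AdjoinRoot.of P s) = ψ s := fun s => AdjoinRoot.lift_of hroot
  have hψ'mk : ∀ g : S[X], ψ' (AdjoinRoot.mk P g) = Polynomial.eval₂ ψ (ψ b * x) g :=
    fun g => AdjoinRoot.lift_mk hroot g
  have halg : ∀ r : R, algebraMap R (AdjoinRoot P) r = AdjoinRoot.of P (algebraMap R S r) :=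
    fun r => rfl
  refine ⟨AdjoinRoot P, inferInstance, inferInstance, inferInstance, inferInstance, ψ', ?_, ?_, ?_⟩
  · intro r; rw [halg, hψ'of, hcompat]
  · apply le_antisymm
    · intro y hy
      obtain ⟨g, rfl⟩ := AdjoinRoot.mk_surjective y
      have hgr : AdjoinRoot.mk P g = AdjoinRoot.mk P (g %ₘ P) := by
        conv_lhs => rw [← Polynomial.modByMonic_add_div g P]
        rw [map_add, map_mul, AdjoinRoot.mk_self, zero_mul, add_zero]
      have hr0 : Polynomial.eval₂ ψ (ψ b * x) (g %ₘ P) = 0 := by
        rw [← hψ'mk, ← hgr]; exact hy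
      have hrdeg : ((g %ₘ P).map ψK).degree < (minpoly E x).degree := by
        calc ((g %ₘ P).map ψK).degree ≤ (g %ₘ P).degree := Polynomial.degree_map_le
          _ < P.degree := Polynomial.degree_modByMonic_lt g hPmonic
          _ = (minpoly E x).degree := by
              rw [Polynomial.degree_eq_natDegree hPmonic.ne_zero,
                Polynomial.degree_eq_natDegree hmonic.ne_zero, hPdeg]
      have hrK : (g %ₘ P).map ψK = 0 := by
        by_contra hne
        have h2 : Polynomial.aeval (ψ b * x) ((g %ₘ P).map ψK) = 0 := by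
          rw [Polynomial.aeval_def, Polynomial.eval₂_map, ← hψ]; exact hr0
        have h3 := Polynomial.scaleRoots_aeval_eq_zero (r := (ψK b)⁻¹) h2
        have h4 : algebraMap E L (ψK b)⁻¹ * (ψ b * x) = x := by
          have h5 : algebraMap E L (ψK b)⁻¹ * ψ b = 1 := by
            have h6 : (ψK b)⁻¹ * ψK b = 1 := inv_mul_cancel₀ hc
            have h7 := congrArg (algebraMap E L) h6
            rwa [map_mul, map_one, hψK] at h7
          rw [← mul_assoc, h5, one_mul]
        rw [h4] at h3
        have h5 := minpoly.degree_le_of_ne_zero E x (Polynomial.scaleRoots_ne_zero hne _) h3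
        rw [Polynomial.degree_scaleRoots] at h5
        exact absurd (lt_of_le_of_lt h5 hrdeg) (lt_irrefl _)
      have hcoef : ∀ n, (g %ₘ P).coeff n ∈ p.map (algebraMap R S) := by
        intro n
        rw [← hker, RingHom.mem_ker]
        have h6 : ψK ((g %ₘ P).coeff n) = 0 := by
          have := congrArg (fun q => Polynomial.coeff q n) hrK
          simpa only [Polynomial.coeff_map, Polynomial.coeff_zero] using this
        have h7 := congrArg (algebraMap E L) h6
        rwa [hψK, map_zero] at h7
      rw [hgr]
      have h7 : (g %ₘ P) ∈ (p.map (algebraMap R S)).map (Polynomial.C : S →+* S[X]) :=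
        Ideal.mem_map_C_iff.2 hcoef
      have h8 : AdjoinRoot.mk P (g %ₘ P) ∈
          ((p.map (algebraMap R S)).map (Polynomial.C : S →+* S[X])).map (AdjoinRoot.mk P) :=
        Ideal.mem_map_of_mem _ h7
      rw [Ideal.map_map, Ideal.map_map] at h8
      exact h8
    · rw [Ideal.map_le_iff_le_comap]
      intro r hr
      rw [Ideal.mem_comap, RingHom.mem_ker, halg, hψ'of]
      have : algebraMap R S r ∈ RingHom.ker ψ := by
        rw [hker]; exact Ideal.mem_map_of_mem _ hr
      exact this
  · apply le_antisymm
    · rw [Subfield.closure_le]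
      rintro _ ⟨y, rfl⟩
      obtain ⟨g, rfl⟩ := AdjoinRoot.mk_surjective y
      rw [SetLike.mem_coe, hψ'mk, Polynomial.eval₂_eq_sum_range]
      refine sum_mem fun i _ => mul_mem ?_ (pow_mem (mul_mem ?_ ?_) _)
      · exact Subfield.subset_closure (Or.inl (hmemE _))
      · exact Subfield.subset_closure (Or.inl (hmemE _))
      · exact Subfield.subset_closure (Or.inr rfl)
    · rw [Subfield.closure_le]
      rintro y (hy | hy)
      · have hy' : y ∈ Subfield.closure (Set.range ψ) := by rw [hcl]; exact hy
        refine Subfield.closure_mono ?_ hy'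
        rintro _ ⟨s, rfl⟩
        exact ⟨AdjoinRoot.of P s, hψ'of s⟩
      · have hyx : y = x := hy
        rw [hyx, SetLike.mem_coe]
        have h1 : ψ' (AdjoinRoot.root P) = ψ b * x := AdjoinRoot.lift_root hroot
        have h2 : x = ψ' (AdjoinRoot.root P) / ψ' (AdjoinRoot.of P b) := by
          rw [h1, hψ'of]; field_simp
        rw [h2]
        exact div_mem (Subfield.subset_closure ⟨_, rfl⟩) (Subfield.subset_closure ⟨_, rfl⟩)


/-- Let R be a ring, p ⊆ R a prime and L a finite extension of the residue field κ(p). Then one can find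
a ring map R → S, with S finite free over R, for which q = pS is a prime of S and the residue field
κ(q) is isomorphic to L over κ(p) (stated as a ring isomorphism κ(q) ≅ L compatible with the maps
from R, which determines compatibility with κ(p)). -/
theorem result (R : Type u) [CommRing R] (p : Ideal R) [p.IsPrime]
    (L : Type u) [Field L] [Algebra p.ResidueField L] [FiniteDimensional p.ResidueField L]
    [Algebra R L] [IsScalarTower R p.ResidueField L] :
    ∃ (S : Type u) (_ : CommRing S) (_ : Algebra R S) (_ : Module.Finite R S) (_ : Module.Free R S)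
      (_ : (p.map (algebraMap R S)).IsPrime)
      (e : (p.map (algebraMap R S)).ResidueField ≃+* L),
      ∀ r : R, e (algebraMap R (p.map (algebraMap R S)).ResidueField r) = algebraMap R L r := by
  classical
  have hbase : Good R p L (⊥ : IntermediateField p.ResidueField L).toSubfield := by
    refine ⟨R, inferInstance, inferInstance, inferInstance, inferInstance, algebraMap R L,
      fun r => rfl, ?_, ?_⟩
    · rw [Algebra.algebraMap_self, Ideal.map_id]
      ext r
      rw [RingHom.mem_ker, IsScalarTower.algebraMap_apply R p.ResidueField L, map_eq_zero,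
        Ideal.algebraMap_residueField_eq_zero]
    · apply le_antisymm
      · rw [Subfield.closure_le]
        rintro _ ⟨r, rfl⟩
        rw [SetLike.mem_coe, IntermediateField.mem_toSubfield, IntermediateField.mem_bot]
        exact ⟨algebraMap R p.ResidueField r,
          (IsScalarTower.algebraMap_apply R p.ResidueField L r).symm⟩
      · intro y hy
        obtain ⟨z, rfl⟩ := IntermediateField.mem_bot.1
          ((IntermediateField.mem_toSubfield _ _).1 hy)
        obtain ⟨a, c, hc, rfl⟩ := IsFractionRing.div_surjective (A := R ⧸ p) z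
        obtain ⟨a, rfl⟩ := Ideal.Quotient.mk_surjective a
        obtain ⟨c, rfl⟩ := Ideal.Quotient.mk_surjective c
        have e1 : ∀ r : R, algebraMap p.ResidueField L
            (algebraMap (R ⧸ p) p.ResidueField (Ideal.Quotient.mk p r)) = algebraMap R L r := by
          intro r
          rw [Ideal.algebraMap_quotient_residueField_mk, ← IsScalarTower.algebraMap_apply]
        rw [map_div₀, e1, e1]
        exact div_mem (Subfield.subset_closure ⟨a, rfl⟩) (Subfield.subset_closure ⟨c, rfl⟩)
  have hall : ∀ K : IntermediateField p.ResidueField L, Good R p L K.toSubfield := by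
    intro K
    refine IntermediateField.induction_on_adjoin (P := fun K => Good R p L K.toSubfield)
      hbase ?_ K
    intro K x hK
    have hx0 : IsIntegral p.ResidueField x := Algebra.IsIntegral.isIntegral x
    obtain ⟨q, hq, hq0⟩ := hx0
    let j : p.ResidueField →+* K.toSubfield :=
      (algebraMap p.ResidueField L).codRestrict K.toSubfield (fun z => K.algebraMap_mem z)
    have hj : (algebraMap K.toSubfield L).comp j = algebraMap p.ResidueField L := by
      ext z; rfl
    have hx : IsIntegral K.toSubfield x :=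
      ⟨q.map j, hq.map j, by rw [Polynomial.eval₂_map, hj]; exact hq0⟩
    have hstep := good_step R p L K.toSubfield hK x hx
    have heq : (IntermediateField.restrictScalars p.ResidueField
        (IntermediateField.adjoin K {x})).toSubfield
        = Subfield.closure ((K.toSubfield : Set L) ∪ {x}) := by
      show Subfield.closure (Set.range (algebraMap K L) ∪ {x}) = _
      congr 2
      ext y
      constructor
      · rintro ⟨⟨z, hz⟩, rfl⟩; exact hz
      · intro hy; exact ⟨⟨y, hy⟩, rfl⟩
    show Good R p L (IntermediateField.restrictScalars p.ResidueField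
        (IntermediateField.adjoin K {x})).toSubfield
    rw [heq]; exact hstep
  obtain ⟨S, i1, i2, i3, i4, ψ, hcompat, hker, hcl⟩ := hall ⊤
  have hcl' : ∀ y : L, y ∈ Subfield.closure (Set.range ψ) := by
    intro y; rw [hcl]; exact (IntermediateField.mem_toSubfield _ _).2 IntermediateField.mem_top
  have hprime : (p.map (algebraMap R S)).IsPrime := by rw [← hker]; exact RingHom.ker_isPrime ψ
  let f : (p.map (algebraMap R S)).ResidueField →+* L :=
    Ideal.ResidueField.lift (p.map (algebraMap R S)) ψ (by rw [hker]) (by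
      intro s hs
      have hne : ψ s ≠ 0 := fun h0 => hs (by rw [← hker]; exact h0)
      exact hne.isUnit)
  have hf : ∀ s, f (algebraMap S _ s) = ψ s :=
    fun s => Ideal.ResidueField.lift_algebraMap _ _ _ _ s
  have hfsurj : Function.Surjective f := by
    intro y
    obtain ⟨u, hu, v, hv, rfl⟩ := Subfield.mem_closure_iff.1 (hcl' y)
    rw [← RingHom.coe_range, Subring.closure_eq] at hu hv
    obtain ⟨a, rfl⟩ := RingHom.mem_range.1 hu
    obtain ⟨c, rfl⟩ := RingHom.mem_range.1 hv
    exact ⟨algebraMap S _ a / algebraMap S _ c, by rw [map_div₀, hf, hf]⟩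
  refine ⟨S, i1, i2, i3, i4, hprime, RingEquiv.ofBijective f ⟨f.injective, hfsurj⟩, ?_⟩
  intro r
  show f (algebraMap R _ r) = _
  rw [IsScalarTower.algebraMap_apply R S (p.map (algebraMap R S)).ResidueField, hf, hcompat]

end Groth.Agent.S6381
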