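import Groth.Statements.S6385
import Mathlib
import Groth.Agent.S5763

set_option autoImplicit false
universe u
open CAlg

namespace Groth.Agent.S6385

/-- Let k be a field, S a finite type k-algebra, q a prime of S and x the corresponding point of X =
Spec S. Then there is g ∈ S, g ∉ q, such that dim S_g equals dim_x X — the minimum of dim S_{g'}
over all g' ∉ q — and, writing d for this dimension, a finite injective k-algebra map from the
polynomial ring k[y_1, ..., y_d] to S_g. -/
theorem result (k S : Type u) [Field k] [CommRing S] [Algebra k S]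
    [Algebra.FiniteType k S] (q : Ideal S) [q.IsPrime] :
    ∃ (g : S) (d : ℕ), g ∉ q ∧ ringKrullDim (Localization.Away g) = d ∧
      (∀ g' : S, g' ∉ q → ringKrullDim (Localization.Away g) ≤ ringKrullDim (Localization.Away g')) ∧
      ∃ φ : MvPolynomial (Fin d) k →ₐ[k] Localization.Away g, Function.Injective φ ∧ φ.toRingHom.Finite := by
  classical
  have hne : (1 : S) ∉ q := (Ideal.ne_top_iff_one q).mp (Ideal.IsPrime.ne_top inferInstance)
  obtain ⟨g, hg, hmin⟩ : ∃ g : S, g ∉ q ∧ ∀ g' : S, g' ∉ q →
      ringKrullDim (Localization.Away g) ≤ ringKrullDim (Localization.Away g') := by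
    let f : {g : S // g ∉ q} → WithBot ℕ∞ := fun g => ringKrullDim (Localization.Away g.1)
    haveI : Nonempty {g : S // g ∉ q} := ⟨⟨1, hne⟩⟩
    obtain ⟨m, ⟨⟨g, hg⟩, rfl⟩, hm⟩ :=
      (wellFounded_lt (α := WithBot ℕ∞)).has_min (Set.range f) (Set.range_nonempty f)
    exact ⟨g, hg, fun g' hg' => not_lt.mp (hm _ ⟨⟨g', hg'⟩, rfl⟩)⟩
  haveI : Nontrivial (Localization.Away g) := by
    rw [← not_subsingleton_iff_nontrivial,
      IsLocalization.subsingleton_iff (M := Submonoid.powers g)]
    rintro ⟨n, hn⟩
    have hn' : g ^ n = 0 := hn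
    exact hg (Ideal.IsPrime.mem_of_pow_mem inferInstance n (hn' ▸ q.zero_mem))
  haveI : Algebra.FiniteType k (Localization.Away g) := inferInstance
  obtain ⟨d, φ, hφinj, hφfin⟩ := exists_finite_inj_algHom_of_fg k (Localization.Away g)
  refine ⟨g, d, hg, ?_, hmin, φ, hφinj, hφfin⟩
  letI : Algebra (MvPolynomial (Fin d) k) (Localization.Away g) := φ.toRingHom.toAlgebra
  haveI : Module.Finite (MvPolynomial (Fin d) k) (Localization.Away g) := hφfin
  haveI : Algebra.IsIntegral (MvPolynomial (Fin d) k) (Localization.Away g) :=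
    Algebra.IsIntegral.of_finite _ _
  have h1 : ringKrullDim (Localization.Away g) = ringKrullDim (MvPolynomial (Fin d) k) :=
    (Groth.Agent.S5763.result (MvPolynomial (Fin d) k) (Localization.Away g)).2 hφinj
  rw [h1, MvPolynomial.ringKrullDim_of_isNoetherianRing, ringKrullDim_eq_zero_of_field]
  simp

end Groth.Agent.S6385
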