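import Mathlib
import Groth.Statements.S6386


set_option autoImplicit false
universe u
open CAlg

namespace Aux6386

open Cardinal

variable {A B : Type u} [CommRing A] [CommRing B] [Algebra A B]

def Wit (wit : (Σ l : ℕ, (Fin l → A × B)) → Finset B) (S : Set B) : Set B :=
  ⋃ τ : (Σ l : ℕ, (Fin l → A × S)),
    (wit ⟨τ.1, fun i => ((τ.2 i).1, ((τ.2 i).2 : B))⟩ : Set B)

noncomputable def stage (wit : (Σ l : ℕ, (Fin l → A × B)) → Finset B) (E : Subalgebra A B) :
    ℕ → Subalgebra A B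
  | 0 => E
  | (n + 1) => Algebra.adjoin A ((stage wit E n : Set B) ∪ Wit wit (stage wit E n : Set B))

theorem stage_zero (wit : (Σ l : ℕ, (Fin l → A × B)) → Finset B) (E : Subalgebra A B) :
    stage wit E 0 = E := rfl

theorem stage_succ (wit : (Σ l : ℕ, (Fin l → A × B)) → Finset B) (E : Subalgebra A B) (n : ℕ) :
    stage wit E (n + 1)
      = Algebra.adjoin A ((stage wit E n : Set B) ∪ Wit wit (stage wit E n : Set B)) := rfl

theorem Wit_card (wit : (Σ l : ℕ, (Fin l → A × B)) → Finset B) {κ : Cardinal.{u}}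
    (hκ0 : ℵ₀ ≤ κ) (hκA : #A ≤ κ) (S : Set B) (hS : #S ≤ κ) : #(Wit wit S) ≤ κ := by
  have h1 : #(Σ l : ℕ, (Fin l → A × S)) ≤ κ := by
    rw [← Cardinal.mk_congr (List.equivSigmaTuple (α := A × S))]
    refine (Cardinal.mk_list_le_max _).trans (max_le hκ0 ?_)
    rw [Cardinal.mk_prod, Cardinal.lift_id, Cardinal.lift_id]
    exact Cardinal.mul_le_of_le hκ0 hκA hS
  refine (Cardinal.mk_iUnion_le _).trans ?_
  refine Cardinal.mul_le_of_le hκ0 h1 ?_
  refine (ciSup_le' fun τ => ?_).trans hκ0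
  exact (Cardinal.finset_card_lt_aleph0 _).le

theorem stage_mono (wit : (Σ l : ℕ, (Fin l → A × B)) → Finset B) (E : Subalgebra A B) :
    Monotone (stage wit E) := by
  refine monotone_nat_of_le_succ (fun n x hx => ?_)
  rw [stage_succ]
  exact Algebra.subset_adjoin (Or.inl hx)

theorem stage_card (wit : (Σ l : ℕ, (Fin l → A × B)) → Finset B) (E : Subalgebra A B)
    {κ : Cardinal.{u}} (hκ0 : ℵ₀ ≤ κ) (hκA : #A ≤ κ) (hE : #E ≤ κ) (n : ℕ) :
    #(stage wit E n) ≤ κ := by
  induction n with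
  | zero => exact hE
  | succ n ih =>
    rw [stage_succ]
    refine (Algebra.cardinalMk_adjoin_le A _).trans ?_
    refine sup_le (sup_le hκA ?_) hκ0
    refine (Cardinal.mk_union_le _ _).trans ?_
    exact Cardinal.add_le_of_le hκ0 ih (Wit_card wit hκ0 hκA _ ih)

theorem main (A B : Type u) [CommRing A] [CommRing B] [Algebra A B]
    [Module.Flat A B] (E : Subalgebra A B) (hE : Cardinal.mk E ≤ max (Cardinal.mk A) Cardinal.aleph0) :
    ∃ B' : Subalgebra A B, E ≤ B' ∧ Module.Flat A B' ∧ Cardinal.mk B' ≤ max (Cardinal.mk A) Cardinal.aleph0 := by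
  classical
  obtain ⟨κ, hκ⟩ : ∃ κ : Cardinal.{u}, κ = max #A ℵ₀ := ⟨_, rfl⟩
  rw [← hκ] at hE ⊢
  have hκ0 : ℵ₀ ≤ κ := hκ ▸ le_max_right _ _
  have hκA : #A ≤ κ := hκ ▸ le_max_left _ _
  -- witness function
  have hspec : ∀ σ : (Σ l : ℕ, (Fin l → A × B)), ∃ W : Finset B,
      (∑ i, (σ.2 i).1 • (σ.2 i).2 = 0 →
        ∃ (k : ℕ) (a : Fin σ.1 → Fin k → A) (y : Fin k → B),
          (∀ j, y j ∈ W) ∧ (∀ i, (σ.2 i).2 = ∑ j, a i j • y j) ∧
            ∀ j, ∑ i, (σ.2 i).1 * a i j = 0) := by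
    intro σ
    by_cases h : ∑ i, (σ.2 i).1 • (σ.2 i).2 = 0
    · obtain ⟨k, a, y, h1, h2⟩ := Module.Flat.isTrivialRelation_of_sum_smul_eq_zero
        (R := A) (M := B) (f := fun i => (σ.2 i).1) (x := fun i => (σ.2 i).2) h
      exact ⟨Finset.univ.image y, fun _ => ⟨k, a, y,
        fun j => Finset.mem_image_of_mem _ (Finset.mem_univ j), h1, h2⟩⟩
    · exact ⟨∅, fun h' => absurd h' h⟩
  choose wit hwit using hspec
  have hmono := stage_mono wit E
  have hdir : Directed (· ≤ ·) (stage wit E) := hmono.directed_le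
  have hmem : ∀ z : B, z ∈ (⨆ n, stage wit E n) ↔ ∃ n, z ∈ stage wit E n := by
    intro z
    rw [← SetLike.mem_coe, Subalgebra.coe_iSup_of_directed hdir, Set.mem_iUnion]
    rfl
  refine ⟨⨆ n, stage wit E n, ?_, ?_, ?_⟩
  · exact le_iSup (stage wit E) 0
  · apply Module.Flat.of_forall_isTrivialRelation
    intro l f x h
    have hx : ∀ i, ∃ n, (x i : B) ∈ stage wit E n := fun i =>
      (hmem _).1 (x i).2
    choose n hn using hx
    have hxN : ∀ i, (x i : B) ∈ stage wit E (Finset.univ.sup n) := fun i =>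
      hmono (Finset.le_sup (Finset.mem_univ i)) (hn i)
    have hsum : ∑ i, f i • (x i : B) = 0 := by
      have := congrArg (Subalgebra.val (⨆ n, stage wit E n)) h
      simpa [map_sum, map_smul] using this
    obtain ⟨k, a, y, hyW, h1, h2⟩ := hwit ⟨l, fun i => (f i, (x i : B))⟩ hsum
    have hy : ∀ j, y j ∈ ⨆ n, stage wit E n := by
      intro j
      refine (hmem _).2 ⟨Finset.univ.sup n + 1, ?_⟩
      rw [stage_succ]
      refine Algebra.subset_adjoin (Or.inr ?_)
      refine Set.mem_iUnion.2 ⟨⟨l, fun i => (f i, ⟨(x i : B), hxN i⟩)⟩, ?_⟩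
      exact Finset.mem_coe.2 (hyW j)
    refine ⟨k, a, fun j => ⟨y j, hy j⟩, fun i => ?_, h2⟩
    apply Subtype.ext
    have e : ((∑ j, a i j • (⟨y j, hy j⟩ : ↥(⨆ n, stage wit E n)) : ↥(⨆ n, stage wit E n)) : B)
        = ∑ j, a i j • y j := by
      simp
    rw [e]
    exact h1 i
  · show #((⨆ n, stage wit E n : Subalgebra A B) : Set B) ≤ κ
    rw [Subalgebra.coe_iSup_of_directed hdir]
    have h := Cardinal.mk_iUnion_le_lift (fun n => (stage wit E n : Set B))
    simp only [Cardinal.lift_uzero, Cardinal.mk_nat, Cardinal.lift_aleph0] at h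
    exact h.trans (Cardinal.mul_le_of_le hκ0 hκ0 (ciSup_le' fun n => stage_card wit E hκ0 hκA hE n))

end Aux6386

namespace Groth.Agent.S6386

/-- The key step of its proof: let A be a ring, κ = max(|A|, ℵ₀), and B a flat A-algebra. Then every
A-subalgebra E ⊆ B with at most κ elements lies inside a flat A-subalgebra B' ⊆ B with at most κ
elements. Consequently B is the filtered colimit (union) of its flat A-subalgebras of cardinality at
most κ. -/
theorem result (A B : Type u) [CommRing A] [CommRing B] [Algebra A B]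
    [Module.Flat A B] (E : Subalgebra A B) (hE : Cardinal.mk E ≤ max (Cardinal.mk A) Cardinal.aleph0) :
    ∃ B' : Subalgebra A B, E ≤ B' ∧ Module.Flat A B' ∧ Cardinal.mk B' ≤ max (Cardinal.mk A) Cardinal.aleph0 := by
  exact Aux6386.main A B E hE

end Groth.Agent.S6386
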