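import Groth.Statements.S6387
import Mathlib
import Groth.Agent.Lib.Helper9.ComplexFlat

set_option autoImplicit false
universe u
open CategoryTheory
open CAlg

namespace Groth.Agent.S6387


open TensorProduct
open Groth.Agent.Lib.Helper9.ComplexFlat Groth.Agent.Lib.Helper9.FlatCoker
open scoped ModuleCat.Algebra

lemma one_tmul_eq_zero_iff {S : Type u} [CommRing S] (I : Ideal S) (N : Type u) [AddCommGroup N]
    [Module S N] (x : N) :
    ((1 : S ⧸ I) ⊗ₜ[S] x : (S ⧸ I) ⊗[S] N) = 0 ↔ x ∈ I • (⊤ : Submodule S N) := by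
  rw [← (TensorProduct.quotTensorEquivQuotSMul N I).map_eq_zero_iff,
    TensorProduct.quotTensorEquivQuotSMul_mk_one_tmul, Submodule.Quotient.mk_eq_zero]

lemma exists_one_tmul {S : Type u} [CommRing S] (I : Ideal S) (N : Type u) [AddCommGroup N]
    [Module S N] (w : (S ⧸ I) ⊗[S] N) : ∃ z : N, w = (1 : S ⧸ I) ⊗ₜ[S] z := by
  obtain ⟨z, hz⟩ := Submodule.mkQ_surjective _ (TensorProduct.quotTensorEquivQuotSMul N I w)
  refine ⟨z, ?_⟩
  apply (TensorProduct.quotTensorEquivQuotSMul N I).injective
  rw [TensorProduct.quotTensorEquivQuotSMul_mk_one_tmul]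
  exact hz.symm

/-- Let R and S be Noetherian local rings, R → S a local ring map, and m the maximal ideal of R. Take a
bounded complex F_e → … → F_1 → F_0 of finitely generated S-modules, zero to the left of F_e (a
chain complex C with C_j = 0 for j > e) such that every F_j is flat over R and the complex 0 →
F_e/mF_e → … → F_0/mF_0 (C tensored over S with S/mS) is exact at F_e, …, F_1. Then 0 → F_e → … →
F_0 is exact at F_e, …, F_1 and the cokernel of F_1 → F_0 (the homology of C in degree 0) is flat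
over R. -/
theorem result {R S : Type u} [CommRing R] [CommRing S]
    [IsLocalRing R] [IsLocalRing S] [IsNoetherianRing R] [IsNoetherianRing S] [Algebra R S]
    [IsLocalHom (algebraMap R S)] (C : ChainComplex (ModuleCat.{u} S) ℕ) (e : ℕ)
    (hzero : ∀ j, e < j → Limits.IsZero (C.X j)) (hfin : ∀ j, Module.Finite S (C.X j))
    (hflat : ∀ j, Module.Flat R ((ModuleCat.restrictScalars (algebraMap R S)).obj (C.X j)))
    (hex : ∀ j, 1 ≤ j → j ≤ e →
      (((MonoidalCategory.tensorLeft
          (ModuleCat.of S (S ⧸ (IsLocalRing.maximalIdeal R).map (algebraMap R S)))).mapHomologicalComplex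
          (ComplexShape.down ℕ)).obj C).ExactAt j) :
    (∀ j, 1 ≤ j → j ≤ e → C.ExactAt j) ∧
      Module.Flat R ((ModuleCat.restrictScalars (algebraMap R S)).obj (C.homology 0)) := by
  have hflat' : ∀ j, Module.Flat R (C.X j) := fun j => hflat j
  have hd : ∀ j (x : C.X (j + 1 + 1)),
      (C.d (j + 1) j).hom ((C.d (j + 1 + 1) (j + 1)).hom x) = 0 := by
    intro j x
    have := C.d_comp_d (j + 1 + 1) (j + 1) j
    exact congrArg (fun f => f.hom x) this
  have hsub : ∀ j, e < j → Subsingleton (C.X j) := fun j hj =>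
    ModuleCat.subsingleton_of_isZero (hzero j hj)
  have main := complex_main (A := R) (B := S) (fun j => C.X j) (fun j => (C.d (j + 1) j).hom)
    hd e hsub ?_
  · constructor
    · intro j hj1 hje
      obtain ⟨k, rfl⟩ : ∃ k, j = k + 1 := ⟨j - 1, by omega⟩
      rw [HomologicalComplex.exactAt_iff' C (k + 1 + 1) (k + 1) k (by simp) (by simp),
        ShortComplex.moduleCat_exact_iff]
      intro x₂ hx₂
      obtain ⟨z, hz⟩ := main.1 k hje x₂ hx₂
      exact ⟨z, hz⟩
    · haveI := main.2
      have hr : ∀ i (hi : i = 0 + 1), LinearMap.range (C.d i 0).hom =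
          LinearMap.range (C.d (0 + 1) 0).hom := by
        intro i hi
        subst hi
        rfl
      let iso₀ : C.homology 0 ≅ ModuleCat.of S
          (C.X 0 ⧸ LinearMap.range (C.d ((ComplexShape.down ℕ).prev 0) 0).hom) :=
        C.isoHomologyι₀ ≪≫ (C.sc 0).moduleCatOpcyclesIso
      let e₂ := Submodule.quotEquivOfEq _ _ (hr ((ComplexShape.down ℕ).prev 0) (by simp))
      exact Module.Flat.of_linearEquiv ((iso₀.toLinearEquiv ≪≫ₗ e₂).restrictScalars R)
  · intro k hk y hy
    have hE := hex (k + 1) (by omega) hk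
    rw [HomologicalComplex.exactAt_iff' _ (k + 1 + 1) (k + 1) k (by simp) (by simp),
      ShortComplex.moduleCat_exact_iff] at hE
    have hy' : (C.d (k + 1) k).hom y ∈ ((IsLocalRing.maximalIdeal R).map (algebraMap R S)) •
        (⊤ : Submodule S (C.X k)) := (mem_map_smul_top_iff _).mpr hy
    have h0 : ((1 : S ⧸ (IsLocalRing.maximalIdeal R).map (algebraMap R S)) ⊗ₜ[S]
        ((C.d (k + 1) k).hom y) : (S ⧸ (IsLocalRing.maximalIdeal R).map (algebraMap R S)) ⊗[S]
          (C.X k)) = 0 := (one_tmul_eq_zero_iff _ _ _).mpr hy'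
    obtain ⟨x₁, hx₁⟩ := hE ((1 : S ⧸ (IsLocalRing.maximalIdeal R).map (algebraMap R S)) ⊗ₜ[S] y) h0
    obtain ⟨z, rfl⟩ := exists_one_tmul ((IsLocalRing.maximalIdeal R).map (algebraMap R S))
      (C.X (k + 1 + 1)) x₁
    refine ⟨z, ?_⟩
    refine (mem_map_smul_top_iff (B := S) (IsLocalRing.maximalIdeal R)).mp ?_
    rw [← one_tmul_eq_zero_iff, TensorProduct.tmul_sub, sub_eq_zero]
    exact hx₁.symm

end Groth.Agent.S6387
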