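import Groth.Statements.S6389
import Mathlib

set_option autoImplicit false
universe u
open CAlg

namespace Groth.Agent.S6389

/-- Let (M_s)_{s ∈ S} be a direct sum dévissage of an R-module M: an increasing family of submodules
indexed by a well-ordered set S with M_s = ⋃_{t<s} M_t at every index s that is not a successor (in
particular the first term is 0), ⋃_s M_s = M, and M_s a direct summand of M_t whenever t is the
successor of s. Then M is isomorphic to the direct sum, over the successor steps s ⋖ t, of the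
quotients M_t/M_s (existence of an isomorphism; the map in the source depends on chosen
complements). -/
theorem result (R : Type u) [CommRing R] (M : Type u)
    [AddCommGroup M] [Module R M] (S : Type u) [LinearOrder S] [WellFoundedLT S] (Mf : S → Submodule R M)
    (hmono : Monotone Mf) :
    (∀ s : S, Order.IsSuccPrelimit s → Mf s = ⨆ t : {t : S // t < s}, Mf t.1) →
      (⨆ s, Mf s) = ⊤ →
      (∀ s t : S, s ⋖ t → ∃ C : Submodule R M, Mf s ⊓ C = ⊥ ∧ Mf s ⊔ C = Mf t) →
      Nonempty (M ≃ₗ[R] DirectSum {p : S × S // p.1 ⋖ p.2}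
        fun p => ↥(Mf p.1.2) ⧸ Submodule.comap (Mf p.1.2).subtype (Mf p.1.1)) := by
  classical
  intro hlim hsup hcompl
  have hex : ∀ p : {p : S × S // p.1 ⋖ p.2}, ∃ C : Submodule R M,
      Mf p.1.1 ⊓ C = ⊥ ∧ Mf p.1.1 ⊔ C = Mf p.1.2 :=
    fun p => hcompl p.1.1 p.1.2 p.2
  choose C hC1 hC2 using hex
  have hCle : ∀ p : {p : S × S // p.1 ⋖ p.2}, C p ≤ Mf p.1.2 := fun p => by
    rw [← hC2 p]; exact le_sup_right
  -- Claim A
  have hA : ∀ s, Mf s ≤ ⨆ p : {p : S × S // p.1 ⋖ p.2}, C p := by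
    intro s
    refine WellFoundedLT.induction (motive := fun s => Mf s ≤ ⨆ p : {p : S × S // p.1 ⋖ p.2}, C p) s ?_
    intro s ih
    by_cases hs : Order.IsSuccPrelimit s
    · rw [hlim s hs]; exact iSup_le fun t => ih t.1 t.2
    · obtain ⟨r, hr⟩ := Order.not_isSuccPrelimit_iff.1 hs
      have h2 : Mf r ⊔ C ⟨(r, s), hr⟩ = Mf s := hC2 ⟨(r, s), hr⟩
      rw [← h2]
      exact sup_le (ih r hr.lt) (le_iSup C ⟨(r, s), hr⟩)
  have hsupC : ⨆ p : {p : S × S // p.1 ⋖ p.2}, C p = ⊤ :=
    top_le_iff.1 (by rw [← hsup]; exact iSup_le hA)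
  -- Claim B
  have hfin : ∀ s : Finset {p : S × S // p.1 ⋖ p.2}, s.SupIndep C := by
    intro s
    refine Finset.induction_on_max_value (fun p : {p : S × S // p.1 ⋖ p.2} => p.1.2) s
      (Finset.supIndep_empty _) ?_
    intro a s has hmax ih
    refine ih.insert ?_
    have hle : s.sup C ≤ Mf a.1.1 := by
      apply Finset.sup_le
      intro q hq
      have hq2 : q.1.2 ≤ a.1.2 := hmax q hq
      have hne : q.1.2 ≠ a.1.2 := by
        intro heq
        have h1 : q.1.1 = a.1.1 := by
          have hq' := q.2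
          have ha' := a.2
          rw [heq] at hq'
          exact hq'.unique_left ha'
        have : q = a := Subtype.ext (Prod.ext h1 heq)
        exact has (this ▸ hq)
      have hlt : q.1.2 < a.1.2 := lt_of_le_of_ne hq2 hne
      exact (hCle q).trans (hmono (a.2.le_of_lt hlt))
    exact ((disjoint_iff.2 (hC1 a)).mono_left hle).symm
  have hind : iSupIndep C := iSupIndep_iff_supIndep.2 hfin
  have hint : DirectSum.IsInternal C :=
    DirectSum.isInternal_submodule_of_iSupIndep_of_iSup_eq_top hind hsupC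
  let Φ : (DirectSum {p : S × S // p.1 ⋖ p.2} fun p => C p) ≃ₗ[R] M :=
    LinearEquiv.ofBijective (DirectSum.coeLinearMap C) hint
  -- piece iso
  have hpiece : ∀ p : {p : S × S // p.1 ⋖ p.2}, Nonempty (C p ≃ₗ[R]
      (↥(Mf p.1.2) ⧸ Submodule.comap (Mf p.1.2).subtype (Mf p.1.1))) := by
    intro p
    let g : C p →ₗ[R] (↥(Mf p.1.2) ⧸ Submodule.comap (Mf p.1.2).subtype (Mf p.1.1)) :=
      (Submodule.mkQ _).comp (Submodule.inclusion (hCle p))
    have hg : ∀ c, g c = Submodule.Quotient.mk (Submodule.inclusion (hCle p) c) := fun c => rfl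
    refine ⟨LinearEquiv.ofBijective g ⟨?_, ?_⟩⟩
    · rw [← LinearMap.ker_eq_bot, LinearMap.ker_eq_bot']
      intro c hc
      rw [hg, Submodule.Quotient.mk_eq_zero] at hc
      have hc1 : (c : M) ∈ Mf p.1.1 := hc
      have hmem : (c : M) ∈ Mf p.1.1 ⊓ C p := ⟨hc1, c.2⟩
      rw [hC1 p] at hmem
      exact Subtype.ext ((Submodule.mem_bot R).1 hmem)
    · intro y
      obtain ⟨y, rfl⟩ := Submodule.Quotient.mk_surjective _ y
      have hy : (y : M) ∈ Mf p.1.1 ⊔ C p := by rw [hC2 p]; exact y.2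
      obtain ⟨a, ha, c, hc, hac⟩ := Submodule.mem_sup.1 hy
      refine ⟨⟨c, hc⟩, ?_⟩
      rw [hg, Submodule.Quotient.eq]
      show ((Submodule.inclusion (hCle p) ⟨c, hc⟩ - y : ↥(Mf p.1.2)) : M) ∈ Mf p.1.1
      have hval : ((Submodule.inclusion (hCle p) ⟨c, hc⟩ - y : ↥(Mf p.1.2)) : M) = -a := by
        rw [Submodule.coe_sub, Submodule.coe_inclusion, ← hac]
        simp
      rw [hval]; exact (Mf p.1.1).neg_mem ha
  exact ⟨Φ.symm ≪≫ₗ DFinsupp.mapRange.linearEquiv (fun p => (hpiece p).some)⟩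

end Groth.Agent.S6389
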