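import Groth.Statements.S6390
import Mathlib
import Groth.Agent.Lib.Helper25.Kaplansky

set_option autoImplicit false
universe u
open scoped Classical
open CAlg

namespace Groth.Agent.S6390


open Groth.Agent.Lib.Helper25 in
theorem piece {R : Type u} [CommRing R] {M : Type u} [AddCommGroup M] [Module R M]
    (A B C : Submodule R M) (h1 : A ⊓ C = ⊥) (h2 : A ⊔ C = B) :
    Nonempty (C ≃ₗ[R] (↥B ⧸ Submodule.comap B.subtype A)) := by
  have hle : C ≤ B := by rw [← h2]; exact le_sup_right
  let g : C →ₗ[R] (↥B ⧸ Submodule.comap B.subtype A) :=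
    (Submodule.mkQ _).comp (Submodule.inclusion hle)
  have hg : ∀ c, g c = Submodule.Quotient.mk (Submodule.inclusion hle c) := fun c => rfl
  refine ⟨LinearEquiv.ofBijective g ⟨?_, ?_⟩⟩
  · rw [← LinearMap.ker_eq_bot, LinearMap.ker_eq_bot']
    intro c hc
    rw [hg, Submodule.Quotient.mk_eq_zero] at hc
    have hc1 : (c : M) ∈ A := hc
    have hmem : (c : M) ∈ A ⊓ C := ⟨hc1, c.2⟩
    rw [h1] at hmem
    exact Subtype.ext ((Submodule.mem_bot R).1 hmem)
  · intro y
    obtain ⟨y, rfl⟩ := Submodule.Quotient.mk_surjective _ y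
    have hy : (y : M) ∈ A ⊔ C := by rw [h2]; exact y.2
    obtain ⟨a, ha, c, hc, hac⟩ := Submodule.mem_sup.1 hy
    refine ⟨⟨c, hc⟩, ?_⟩
    rw [hg, Submodule.Quotient.eq]
    show ((Submodule.inclusion hle ⟨c, hc⟩ - y : ↥B) : M) ∈ A
    have hval : ((Submodule.inclusion hle ⟨c, hc⟩ - y : ↥B) : M) = -a := by
      rw [Submodule.coe_sub, Submodule.coe_inclusion, ← hac]
      simp
    rw [hval]; exact A.neg_mem ha

theorem internal_of_devissage {R : Type u} [CommRing R] {M : Type u} [AddCommGroup M] [Module R M]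
    {S : Type u} [LinearOrder S] [WellFoundedLT S] (Mf : S → Submodule R M) (hmono : Monotone Mf)
    (hlim : ∀ s : S, Order.IsSuccPrelimit s → Mf s = ⨆ t : {t : S // t < s}, Mf t.1)
    (hsup : (⨆ s, Mf s) = ⊤)
    (C : {p : S × S // p.1 ⋖ p.2} → Submodule R M)
    (hC1 : ∀ p, Mf p.1.1 ⊓ C p = ⊥) (hC2 : ∀ p, Mf p.1.1 ⊔ C p = Mf p.1.2) :
    iSupIndep C ∧ (⨆ p, C p) = ⊤ := by
  classical
  have hCle : ∀ p : {p : S × S // p.1 ⋖ p.2}, C p ≤ Mf p.1.2 := fun p => by
    rw [← hC2 p]; exact le_sup_right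
  have hA : ∀ s, Mf s ≤ ⨆ p : {p : S × S // p.1 ⋖ p.2}, C p := by
    intro s
    refine WellFoundedLT.induction
      (motive := fun s => Mf s ≤ ⨆ p : {p : S × S // p.1 ⋖ p.2}, C p) s ?_
    intro s ih
    by_cases hs : Order.IsSuccPrelimit s
    · rw [hlim s hs]; exact iSup_le fun t => ih t.1 t.2
    · obtain ⟨r, hr⟩ := Order.not_isSuccPrelimit_iff.1 hs
      have h2 : Mf r ⊔ C ⟨(r, s), hr⟩ = Mf s := hC2 ⟨(r, s), hr⟩
      rw [← h2]
      exact sup_le (ih r hr.lt) (le_iSup C ⟨(r, s), hr⟩)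
  have hsupC : ⨆ p : {p : S × S // p.1 ⋖ p.2}, C p = ⊤ :=
    top_le_iff.1 (by rw [← hsup]; exact iSup_le hA)
  have hfin : ∀ s : Finset {p : S × S // p.1 ⋖ p.2}, s.SupIndep C := by
    intro s
    refine Finset.induction_on_max_value (fun p : {p : S × S // p.1 ⋖ p.2} => p.1.2) s
      (Finset.supIndep_empty _) ?_
    intro a s has hmax ih
    refine ih.insert ?_
    have hle : s.sup C ≤ Mf a.1.1 := by
      apply Finset.sup_le
      intro q hq
      have hq2 : q.1.2 ≤ a.1.2 := hmax q hq
      have hne : q.1.2 ≠ a.1.2 := by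
        intro heq
        have h1 : q.1.1 = a.1.1 := by
          have hq' := q.2
          have ha' := a.2
          rw [heq] at hq'
          exact hq'.unique_left ha'
        have : q = a := Subtype.ext (Prod.ext h1 heq)
        exact has (this ▸ hq)
      have hlt : q.1.2 < a.1.2 := lt_of_le_of_ne hq2 hne
      exact (hCle q).trans (hmono (a.2.le_of_lt hlt))
    exact ((disjoint_iff.2 (hC1 a)).mono_left hle).symm
  exact ⟨iSupIndep_iff_supIndep.2 hfin, hsupC⟩


/-- An R-module M is a direct sum of countably generated modules if and only if it admits a Kaplansky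
dévissage, i.e. an increasing family of submodules (M_s) indexed by a well-ordered set S with M_s =
⋃_{t<s} M_t at non-successor indices (so the first term is 0), ⋃_s M_s = M, and, whenever t is the
successor of s, M_s a direct summand of M_t with M_t/M_s countably generated. -/
theorem result (R : Type u) [CommRing R] (M : Type u)
    [AddCommGroup M] [Module R M] :
    (∃ (ι : Type u) (N : ι → Submodule R M), DirectSum.IsInternal N ∧ ∀ i, CAlg.IsCountablyGenerated R (N i)) ↔
      ∃ (S : Type u) (_ : LinearOrder S) (_ : WellFoundedLT S) (Mf : S → Submodule R M), Monotone Mf ∧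
        (∀ s : S, Order.IsSuccPrelimit s → Mf s = ⨆ t : {t : S // t < s}, Mf t.1) ∧
        (⨆ s, Mf s) = ⊤ ∧
        (∀ s t : S, s ⋖ t → ∃ C : Submodule R M, Mf s ⊓ C = ⊥ ∧ Mf s ⊔ C = Mf t ∧
          CAlg.IsCountablyGenerated R (↥(Mf t) ⧸ Submodule.comap (Mf t).subtype (Mf s))) := by
  constructor
  · rintro ⟨ι, N, hint, hcg⟩
    have hind : iSupIndep N := hint.submodule_iSupIndep
    have htop : (⨆ i, N i) = ⊤ := hint.submodule_iSup_eq_top
    obtain ⟨lo, hwf⟩ := exists_wellOrder ι
    letI := lo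
    haveI := hwf
    let Mf : WithTop ι → Submodule R M := fun s => ⨆ (i : ι) (_ : (i : WithTop ι) < s), N i
    have hmonoMf : Monotone Mf := fun s t hst => biSup_mono fun i hi => lt_of_lt_of_le hi hst
    refine ⟨WithTop ι, inferInstance, inferInstance, Mf, hmonoMf, ?_, ?_, ?_⟩
    · intro s hs
      apply le_antisymm
      · apply iSup₂_le
        intro i hi
        have hnc : ¬ ((i : WithTop ι) ⋖ s) := hs _
        obtain ⟨t, hit, hts⟩ := (not_covBy_iff hi).1 hnc
        exact le_trans (le_iSup₂_of_le i hit le_rfl)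
          (le_iSup (fun t : {t : WithTop ι // t < s} => Mf t.1) ⟨t, hts⟩)
      · exact iSup_le fun t => hmonoMf t.2.le
    · apply top_le_iff.1
      rw [← htop]
      apply iSup_le
      intro i
      exact le_trans (le_iSup₂_of_le i (WithTop.coe_lt_top i) le_rfl) (le_iSup Mf ⊤)
    · intro s t hst
      have hsne : s ≠ ⊤ := ne_top_of_lt hst.lt
      obtain ⟨i, rfl⟩ := WithTop.ne_top_iff_exists.1 hsne
      have hdisj : Mf (i : WithTop ι) ⊓ N i = ⊥ := by
        have h : Disjoint (N i) (⨆ j ∈ {j : ι | (j : WithTop ι) < (i : WithTop ι)}, N j) :=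
          hind.disjoint_biSup (by simp)
        exact disjoint_iff.1 h.symm
      have hsupeq : Mf (i : WithTop ι) ⊔ N i = Mf t := by
        apply le_antisymm
        · exact sup_le (hmonoMf hst.le) (le_iSup₂_of_le i hst.lt le_rfl)
        · apply iSup₂_le
          intro j hj
          have hji : (j : WithTop ι) ≤ (i : WithTop ι) := hst.le_of_lt hj
          rcases (WithTop.coe_le_coe.1 hji).lt_or_eq with h | h
          · exact le_sup_of_le_left (le_iSup₂_of_le j (WithTop.coe_lt_coe.2 h) le_rfl)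
          · subst h; exact le_sup_right
      refine ⟨N i, hdisj, hsupeq, ?_⟩
      obtain ⟨e⟩ := piece (Mf (i : WithTop ι)) (Mf t) (N i) hdisj hsupeq
      exact Groth.Agent.Lib.Helper25.Kaplansky.isCountablyGenerated_of_surjective
        e.toLinearMap e.surjective (hcg i)
  · rintro ⟨S, lo, hwf, Mf, hmono, hlim, hsup, hstep⟩
    have hex : ∀ p : {p : S × S // p.1 ⋖ p.2}, ∃ C : Submodule R M,
        Mf p.1.1 ⊓ C = ⊥ ∧ Mf p.1.1 ⊔ C = Mf p.1.2 ∧
          CAlg.IsCountablyGenerated R (↥(Mf p.1.2) ⧸ Submodule.comap (Mf p.1.2).subtype (Mf p.1.1)) :=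
      fun p => hstep p.1.1 p.1.2 p.2
    choose C hC1 hC2 hC3 using hex
    obtain ⟨hind, htop⟩ := internal_of_devissage Mf hmono hlim hsup C hC1 hC2
    refine ⟨{p : S × S // p.1 ⋖ p.2}, C, ?_, ?_⟩
    · exact DirectSum.isInternal_submodule_of_iSupIndep_of_iSup_eq_top (dec_ι := fun a b => Classical.propDecidable (a = b)) hind htop
    · intro p
      obtain ⟨e⟩ := piece (Mf p.1.1) (Mf p.1.2) (C p) (hC1 p) (hC2 p)
      exact Groth.Agent.Lib.Helper25.Kaplansky.isCountablyGenerated_of_surjective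
        e.symm.toLinearMap e.symm.surjective (hC3 p)

end Groth.Agent.S6390
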