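import Groth.Statements.S6392
import Mathlib
import Groth.Agent.Lib.Helper10.Dom
import Groth.Agent.Lib.Helper10.DLim
open scoped TensorProduct

set_option autoImplicit false
universe u
open CAlg

namespace Groth.Agent.S6392

/-- Suppose M is the colimit of finitely presented R-modules G_i along a directed system over a nonempty
directed index set (transition maps f_ij), and M is both Mittag-Leffler and countably generated.
Then some countable directed subset I' of the indices already computes M: the canonical map from the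
colimit of the G_i with i ∈ I' to M is bijective. -/
theorem result (R : Type u) [CommRing R]
    {ι : Type u} [Preorder ι] [IsDirected ι (· ≤ ·)] [Nonempty ι] [DecidableEq ι] (G : ι → Type u)
    [∀ i, AddCommGroup (G i)] [∀ i, Module R (G i)] [∀ i, Module.FinitePresentation R (G i)]
    (f : ∀ i j, i ≤ j → G i →ₗ[R] G j) [DirectedSystem G fun i j h => f i j h]
    (hML : CAlg.IsMittagLeffler R (Module.DirectLimit G f))
    (hc : CAlg.IsCountablyGenerated R (Module.DirectLimit G f)) :
    ∃ I' : Set ι, I'.Countable ∧ DirectedOn (· ≤ ·) I' ∧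
      Function.Bijective (Module.DirectLimit.lift R I' (fun i : I' => G i.1)
        (fun (i j : I') (h : i ≤ j) => f i.1 j.1 h)
        (fun i : I' => Module.DirectLimit.of R ι G f i.1)
        (fun (i j : I') (h : i ≤ j) (x : G i.1) => Module.DirectLimit.of_f)) := by
  classical
  -- Step 1: stabilization of kernels
  have hk : ∀ i : ι, ∃ k : ι, ∃ hik : i ≤ k, ∀ x : G i,
      Module.DirectLimit.of R ι G f i x = 0 → f i k hik x = 0 := by
    intro i
    obtain ⟨j, hj⟩ := Groth.Agent.Lib.Helper10.exists_dominating R hML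
      (Module.DirectLimit.of R ι G f i)
    obtain ⟨k₀, v, hv⟩ :=
      Groth.Agent.Lib.Helper10.exists_factor_of_finitePresentation R G f j.h
    obtain ⟨k₁, hik₁, hk₀k₁⟩ := exists_ge_ge i k₀
    have h1 : Module.DirectLimit.of R ι G f k₁ ∘ₗ (f k₀ k₁ hk₀k₁ ∘ₗ v ∘ₗ j.g) =
        Module.DirectLimit.of R ι G f k₁ ∘ₗ (f i k₁ hik₁) := by
      apply LinearMap.ext
      intro x
      simp only [LinearMap.comp_apply, Module.DirectLimit.of_f]
      have h2 := LinearMap.congr_fun hv (j.g x)
      rw [LinearMap.comp_apply] at h2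
      rw [h2]
      exact LinearMap.congr_fun j.h_comp_g x
    obtain ⟨k, hk₁k, hk⟩ :=
      Groth.Agent.Lib.Helper10.exists_comp_eq_of_of_comp_eq R G f _ _ h1
    refine ⟨k, hik₁.trans hk₁k, ?_⟩
    intro x hx
    have hgx : j.g x = 0 := by
      have h2 : (x ⊗ₜ[R] (1 : R)) ∈
          LinearMap.ker ((Module.DirectLimit.of R ι G f i).rTensor R) := by
        rw [LinearMap.mem_ker, LinearMap.rTensor_tmul, hx, TensorProduct.zero_tmul]
      have h3 := hj R h2
      rw [LinearMap.mem_ker, LinearMap.rTensor_tmul] at h3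
      have h4 := congrArg (TensorProduct.rid R j.Q) h3
      simpa using h4
    have h4 := LinearMap.congr_fun hk x
    simp only [LinearMap.comp_apply] at h4
    rw [hgx, map_zero, map_zero, map_zero] at h4
    rw [← DirectedSystem.map_map' f hik₁ hk₁k x]
    exact h4.symm
  choose k hik hkz using hk
  have hub : ∀ a b : ι, ∃ c, a ≤ c ∧ b ≤ c := fun a b => exists_ge_ge a b
  choose ub hub1 hub2 using hub
  obtain ⟨s, hsc, hs⟩ := hc
  have hgen : ∀ x : Module.DirectLimit G f, ∃ i, ∃ y : G i,
      Module.DirectLimit.of R ι G f i y = x := fun x => Module.DirectLimit.exists_of x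
  choose gi gy hgy using hgen
  let I₀ : Set ι := insert (Classical.arbitrary ι) (gi '' s)
  let step : Set ι → Set ι := fun A => A ∪ k '' A ∪ Set.image2 ub A A
  let seq : ℕ → Set ι := fun n => step^[n] I₀
  have hseq_succ : ∀ n, seq (n+1) = step (seq n) :=
    fun n => Function.iterate_succ_apply' step n _
  have hcnt : ∀ n, (seq n).Countable := by
    intro n
    induction n with
    | zero => exact (hsc.image gi).insert _
    | succ n ih => rw [hseq_succ]; exact (ih.union (ih.image k)).union (ih.image2 ih ub)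
  have hmono : ∀ n, seq n ⊆ seq (n+1) := by
    intro n a ha; rw [hseq_succ]; exact Or.inl (Or.inl ha)
  have hmono' : ∀ n m, n ≤ m → seq n ⊆ seq m := by
    intro n m h
    induction h with
    | refl => exact subset_rfl
    | step _ ih => exact ih.trans (hmono _)
  let I' : Set ι := ⋃ n, seq n
  have hI'k : ∀ a ∈ I', k a ∈ I' := by
    intro a ha
    obtain ⟨n, hn⟩ := Set.mem_iUnion.1 ha
    refine Set.mem_iUnion.2 ⟨n+1, ?_⟩
    show k a ∈ seq (n+1)
    rw [hseq_succ]; exact Or.inl (Or.inr ⟨a, hn, rfl⟩)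
  have hI'ub : ∀ a ∈ I', ∀ b ∈ I', ub a b ∈ I' := by
    intro a ha b hb
    obtain ⟨n, hn⟩ := Set.mem_iUnion.1 ha
    obtain ⟨m, hm⟩ := Set.mem_iUnion.1 hb
    have hn' := hmono' n (max n m) (le_max_left _ _) hn
    have hm' := hmono' m (max n m) (le_max_right _ _) hm
    refine Set.mem_iUnion.2 ⟨max n m + 1, ?_⟩
    show ub a b ∈ seq (max n m + 1)
    rw [hseq_succ]; exact Or.inr ⟨a, hn', b, hm', rfl⟩
  have hI₀ : I₀ ⊆ I' := fun a ha => Set.mem_iUnion.2 ⟨0, ha⟩
  refine ⟨I', Set.countable_iUnion hcnt, ?_, ?_, ?_⟩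
  · intro a ha b hb
    exact ⟨ub a b, hI'ub a ha b hb, hub1 a b, hub2 a b⟩
  · haveI : Nonempty I' := ⟨⟨Classical.arbitrary ι, hI₀ (Set.mem_insert _ _)⟩⟩
    haveI : IsDirected I' (· ≤ ·) :=
      ⟨fun a b => ⟨⟨ub a.1 b.1, hI'ub _ a.2 _ b.2⟩, hub1 _ _, hub2 _ _⟩⟩
    rw [injective_iff_map_eq_zero]
    intro z hz
    obtain ⟨i, y, rfl⟩ := Module.DirectLimit.exists_of z
    rw [Module.DirectLimit.lift_of] at hz
    have h1 := hkz i.1 y hz
    have h2 : Module.DirectLimit.of R I' (fun i : I' => G i.1)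
        (fun (i j : I') (h : i ≤ j) => f i.1 j.1 h) ⟨k i.1, hI'k _ i.2⟩
          (f i.1 (k i.1) (hik i.1) y) =
        Module.DirectLimit.of R I' (fun i : I' => G i.1)
          (fun (i j : I') (h : i ≤ j) => f i.1 j.1 h) i y :=
      Module.DirectLimit.of_f (G := fun i : I' => G i.1)
        (f := fun (i j : I') (h : i ≤ j) => f i.1 j.1 h) (i := i)
        (j := ⟨k i.1, hI'k _ i.2⟩) (hij := hik i.1)
    rw [← h2, h1, map_zero]
  · rw [← LinearMap.range_eq_top, eq_top_iff, ← hs, Submodule.span_le]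
    intro x hx
    refine ⟨Module.DirectLimit.of R I' (fun i : I' => G i.1)
      (fun (i j : I') (h : i ≤ j) => f i.1 j.1 h)
      ⟨gi x, hI₀ (Set.mem_insert_of_mem _ ⟨x, hx, rfl⟩)⟩ (gy x), ?_⟩
    rw [Module.DirectLimit.lift_of]; exact hgy x

end Groth.Agent.S6392
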