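import Groth.Statements.S6395
import Mathlib
import Groth.Agent.Lib.Helper10.Fib2

set_option autoImplicit false
open CategoryTheory
universe v u
open FibCat

namespace Groth.Agent.S6395

/-- An equivalence `F : 𝒳 ⟶ 𝒴` in the 2-category of categories over `C` maps strongly cartesian
morphisms to strongly cartesian morphisms. -/
theorem result {C : Type u} [Category.{v} C] {𝒳 𝒴 : BasedCategory.{v, max u v} C} (F : 𝒳 ⥤ᵇ 𝒴) (hF : FibCat.IsEquivOver F)
    {R S : C} (f : R ⟶ S) {a b : 𝒳.obj} (φ : a ⟶ b) [𝒳.p.IsStronglyCartesian f φ] :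
    𝒴.p.IsStronglyCartesian f (F.map φ) := by
  have := Groth.Agent.Lib.Helper10.Fib.IsEquivOver.isEquivalence hF
  exact Groth.Agent.Lib.Helper10.Fib.sc_map_of_ff F
    (fun y => Groth.Agent.Lib.Helper10.Fib.IsEquivOver.exists_iso hF y) f φ

end Groth.Agent.S6395
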