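import Groth.Statements.S6396
import Mathlib
import Groth.Agent.Lib.Helper10.Fib2

set_option autoImplicit false
open CategoryTheory
universe v u
open FibCat

namespace Groth.Agent.S6396

/-- A functor `G` over `C` between categories fibred in groupoids is faithful if and only if each
induced functor of fibre categories `𝒳_U ⥤ 𝒴_U` is faithful. -/
theorem result {C : Type u} [Category.{v} C] {𝒳 𝒴 : BasedCategory.{v, max u v} C} (G : 𝒳 ⥤ᵇ 𝒴) (h𝒳 : FibCat.IsFibGrpd 𝒳.p) (h𝒴 : FibCat.IsFibGrpd 𝒴.p) :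
    G.toFunctor.Faithful ↔ ∀ U : C, (FibCat.fiberFunctor G U).Faithful := by
  constructor
  · intro hG U
    constructor
    intro x y φ ψ h
    apply Functor.Fiber.hom_ext
    apply G.toFunctor.map_injective
    exact congrArg (fun t => Functor.Fiber.fiberInclusion.map t) h
  · intro hU
    constructor
    intro a b φ ψ h
    have hψ : 𝒳.p.IsStronglyCartesian (𝒳.p.map ψ) ψ := h𝒳.isStronglyCartesian ψ
    have hGψ : 𝒴.p.IsStronglyCartesian (𝒳.p.map ψ) (G.map ψ) :=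
      Groth.Agent.Lib.Helper10.Fib.IsFibGrpd.sc h𝒴 (𝒳.p.map ψ) (G.map ψ)
    have hφ : 𝒳.p.IsHomLift (𝒳.p.map ψ) φ := by
      have : 𝒴.p.IsHomLift (𝒳.p.map ψ) (G.map φ) := by
        rw [h]
        infer_instance
      exact BasedFunctor.isHomLift_map G (𝒳.p.map ψ) φ
    obtain ⟨χ, ⟨hχ1, hχ2⟩, -⟩ := Functor.IsStronglyCartesian.universal_property 𝒳.p
      (𝒳.p.map ψ) ψ (𝟙 (𝒳.p.obj a)) (𝒳.p.map ψ) (Category.id_comp _).symm φ
    have := hχ1
    have e1 : G.map χ = 𝟙 (G.obj a) := by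
      apply Functor.IsStronglyCartesian.ext 𝒴.p (𝒳.p.map ψ) (G.map ψ) (𝟙 (𝒳.p.obj a))
      rw [← G.toFunctor.map_comp, hχ2, Category.id_comp, h]
    let a' : 𝒳.p.Fiber (𝒳.p.obj a) := ⟨a, rfl⟩
    let χ' : a' ⟶ a' := ⟨χ, hχ1⟩
    have e2 : (FibCat.fiberFunctor G (𝒳.p.obj a)).map χ' =
        (FibCat.fiberFunctor G (𝒳.p.obj a)).map (𝟙 a') := by
      apply Functor.Fiber.hom_ext
      change G.map χ = G.map (𝟙 a)
      rw [e1, G.toFunctor.map_id]
    have e3 : χ' = 𝟙 a' := (hU (𝒳.p.obj a)).map_injective e2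
    have e4 : χ = 𝟙 a := congrArg (fun t => Functor.Fiber.fiberInclusion.map t) e3
    rw [← hχ2, e4, Category.id_comp]

end Groth.Agent.S6396
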