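import Groth.Statements.S6397
import Mathlib
import Groth.Agent.Lib.Helper10.Fib2
import Groth.Agent.S6396

set_option autoImplicit false
open CategoryTheory
universe v u
open FibCat

namespace Groth.Agent.S6397

/-- A functor `G` over `C` between categories fibred in groupoids is fully faithful if and only if each
induced functor of fibre categories `𝒳_U ⥤ 𝒴_U` is fully faithful. -/
theorem result {C : Type u} [Category.{v} C] {𝒳 𝒴 : BasedCategory.{v, max u v} C} (G : 𝒳 ⥤ᵇ 𝒴) (h𝒳 : FibCat.IsFibGrpd 𝒳.p) (h𝒴 : FibCat.IsFibGrpd 𝒴.p) :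
    (G.toFunctor.Full ∧ G.toFunctor.Faithful) ↔ ∀ U : C, (FibCat.fiberFunctor G U).Full ∧ (FibCat.fiberFunctor G U).Faithful := by
  constructor
  · rintro ⟨hfull, hfaith⟩ U
    refine ⟨?_, (Groth.Agent.S6396.result G h𝒳 h𝒴).1 hfaith U⟩
    constructor
    intro x y h
    obtain ⟨φ, hφ⟩ := G.toFunctor.map_surjective
      (show G.toFunctor.obj x.1 ⟶ G.toFunctor.obj y.1 from h.1)
    have : 𝒴.p.IsHomLift (𝟙 U) (G.map φ) := by
      rw [hφ]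
      exact h.2
    have hl : 𝒳.p.IsHomLift (𝟙 U) φ := BasedFunctor.isHomLift_map G (𝟙 U) φ
    exact ⟨⟨φ, hl⟩, Functor.Fiber.hom_ext hφ⟩
  · intro hU
    refine ⟨?_, (Groth.Agent.S6396.result G h𝒳 h𝒴).2 (fun U => (hU U).2)⟩
    constructor
    intro a b h
    obtain ⟨f, hf⟩ : ∃ f : 𝒳.p.obj a ⟶ 𝒳.p.obj b, 𝒴.p.IsHomLift f h :=
      ⟨_, IsHomLift.of_fac 𝒴.p _ h (G.w_obj a) (G.w_obj b) rfl⟩
    have := hf
    obtain ⟨a', ψ, hψ⟩ := h𝒳.exists_lift (x := b) f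
    have := hψ
    have hsc : 𝒴.p.IsStronglyCartesian f (G.map ψ) :=
      Groth.Agent.Lib.Helper10.Fib.IsFibGrpd.sc h𝒴 f (G.map ψ)
    obtain ⟨χ, ⟨hχ1, hχ2⟩, -⟩ := Functor.IsStronglyCartesian.universal_property 𝒴.p f
      (G.map ψ) (𝟙 (𝒳.p.obj a)) f (Category.id_comp _).symm h
    let x : 𝒳.p.Fiber (𝒳.p.obj a) := ⟨a, rfl⟩
    let y : 𝒳.p.Fiber (𝒳.p.obj a) := ⟨a', IsHomLift.domain_eq 𝒳.p f ψ⟩
    let χ' : (FibCat.fiberFunctor G (𝒳.p.obj a)).obj x ⟶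
        (FibCat.fiberFunctor G (𝒳.p.obj a)).obj y := ⟨χ, hχ1⟩
    have := (hU (𝒳.p.obj a)).1
    obtain ⟨χ₀, hχ₀⟩ := (FibCat.fiberFunctor G (𝒳.p.obj a)).map_surjective χ'
    have e : G.map χ₀.1 = χ := congrArg (fun t => Functor.Fiber.fiberInclusion.map t) hχ₀
    refine ⟨χ₀.1 ≫ ψ, ?_⟩
    rw [G.toFunctor.map_comp, e, hχ2]

end Groth.Agent.S6397
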