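import Groth.Statements.S6398
import Mathlib
import Groth.Agent.Lib.Helper10.Fib2
import Groth.Agent.S6397

set_option autoImplicit false
open CategoryTheory
universe v u
open FibCat

namespace Groth.Agent.S6398

/-- A functor `G` over `C` between categories fibred in groupoids is an equivalence of categories if and
only if each induced functor of fibre categories `𝒳_U ⥤ 𝒴_U` is an equivalence of categories. -/
theorem result {C : Type u} [Category.{v} C] {𝒳 𝒴 : BasedCategory.{v, max u v} C} (G : 𝒳 ⥤ᵇ 𝒴) (h𝒳 : FibCat.IsFibGrpd 𝒳.p) (h𝒴 : FibCat.IsFibGrpd 𝒴.p) :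
    G.toFunctor.IsEquivalence ↔ ∀ U : C, (FibCat.fiberFunctor G U).IsEquivalence := by
  constructor
  · intro hG U
    have hff := (Groth.Agent.S6397.result G h𝒳 h𝒴).1 ⟨inferInstance, inferInstance⟩ U
    have : (FibCat.fiberFunctor G U).Full := hff.1
    have : (FibCat.fiberFunctor G U).Faithful := hff.2
    have : (FibCat.fiberFunctor G U).EssSurj := by
      constructor
      intro y
      obtain ⟨x, ⟨e⟩⟩ : ∃ x, Nonempty (G.obj x ≅ y.1) :=
        ⟨G.toFunctor.objPreimage y.1, ⟨G.toFunctor.objObjPreimageIso y.1⟩⟩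
      obtain ⟨g, hg⟩ : ∃ g : 𝒳.p.obj x ⟶ U, 𝒴.p.IsHomLift g e.hom :=
        ⟨_, IsHomLift.of_fac 𝒴.p _ e.hom (G.w_obj x) y.2 rfl⟩
      have := hg
      have hgiso : IsIso g := IsHomLift.isIso_of_lift_isIso 𝒴.p g e.hom
      obtain ⟨x', ψ, hψ⟩ := h𝒳.exists_lift (x := x) (inv g)
      have := hψ
      have hl : 𝒴.p.IsHomLift (𝟙 U) (G.map ψ ≫ e.hom) := by
        have h0 : 𝒴.p.IsHomLift (inv g ≫ g) (G.map ψ ≫ e.hom) := inferInstance
        rwa [IsIso.inv_hom_id] at h0
      let x'' : 𝒳.p.Fiber U := ⟨x', IsHomLift.domain_eq 𝒳.p (inv g) ψ⟩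
      let m : (FibCat.fiberFunctor G U).obj x'' ⟶ y := ⟨G.map ψ ≫ e.hom, hl⟩
      have := (Groth.Agent.Lib.Helper10.Fib.IsFibGrpd.isGroupoid_fiber h𝒴 U).all_isIso m
      exact ⟨x'', ⟨asIso m⟩⟩
    exact { }
  · intro hU
    have hff := (Groth.Agent.S6397.result G h𝒳 h𝒴).2 (fun U => by
      have := hU U
      exact ⟨inferInstance, inferInstance⟩)
    have : G.toFunctor.Full := hff.1
    have : G.toFunctor.Faithful := hff.2
    have : G.toFunctor.EssSurj := by
      constructor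
      intro y
      let y' : 𝒴.p.Fiber (𝒴.p.obj y) := ⟨y, rfl⟩
      have := hU (𝒴.p.obj y)
      exact ⟨((FibCat.fiberFunctor G (𝒴.p.obj y)).objPreimage y').1,
        ⟨Functor.Fiber.fiberInclusion.mapIso
          ((FibCat.fiberFunctor G (𝒴.p.obj y)).objObjPreimageIso y')⟩⟩
    exact { }

end Groth.Agent.S6398
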