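import Groth.Statements.S6399
import Mathlib
import Groth.Agent.Lib.Helper10.Fib4

set_option autoImplicit false
open CategoryTheory
universe v u
open FibCat

namespace Groth.Agent.S6399

/-- A functor `G : 𝒳 ⟶ 𝒴` over `C` between categories fibred in groupoids is fully faithful if and only
if the diagonal `𝒳 ⟶ 𝒳 ×_𝒴 𝒳` is an equivalence over `C`. -/
theorem result {C : Type u} [Category.{v} C] {𝒳 𝒴 : BasedCategory.{v, max u v} C} (G : 𝒳 ⥤ᵇ 𝒴) (h𝒳 : FibCat.IsFibGrpd 𝒳.p) (h𝒴 : FibCat.IsFibGrpd 𝒴.p) :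
    (G.toFunctor.Full ∧ G.toFunctor.Faithful) ↔ FibCat.IsEquivOver (FibCat.diag G) := by
  constructor
  · rintro ⟨hfull, hfaith⟩
    have hDfaith : (FibCat.diag G).toFunctor.Faithful := by
      constructor
      intro x x' a b hab
      have h1 := congrArg (fun t => t.hom.fst) hab
      exact h1
    have hDfull : (FibCat.diag G).toFunctor.Full := by
      constructor
      intro x x' m
      have hw' : G.map m.hom.fst ≫ 𝟙 _ = 𝟙 _ ≫ G.map m.hom.snd := m.hom.w
      rw [Category.comp_id, Category.id_comp] at hw'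
      have e : m.hom.fst = m.hom.snd := G.toFunctor.map_injective hw'
      refine ⟨m.hom.fst, ?_⟩
      apply ObjectProperty.hom_ext
      apply Limits.CategoricalPullback.hom_ext
      · rfl
      · exact e
    apply Groth.Agent.Lib.Helper10.Fib.isEquivOver_of_ff
    intro y
    let j : y.obj.fst ≅ y.obj.snd := G.toFunctor.preimageIso y.obj.iso
    have hw : G.map (𝟙 y.obj.fst) ≫ y.obj.iso.hom = 𝟙 _ ≫ G.map j.hom := by
      simp [j]
    refine ⟨y.obj.fst, (FibCat.fpProp G G).isoMk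
      (Limits.CategoricalPullback.mkIso (Iso.refl _) j hw), ?_⟩
    apply Groth.Agent.Lib.Helper10.Fib.isHomLift_of_eq
    exact (𝒳.p.map_id _).symm
  · intro hD
    have hEq := Groth.Agent.Lib.Helper10.Fib.IsEquivOver.isEquivalence hD
    have hfaith : G.toFunctor.Faithful := by
      constructor
      intro x x' a b hab
      let m : (FibCat.diag G).obj x ⟶ (FibCat.diag G).obj x' := ObjectProperty.homMk ⟨a, b, by
        change G.map a ≫ 𝟙 _ = 𝟙 _ ≫ G.map b
        rw [Category.comp_id, Category.id_comp]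
        exact hab⟩
      obtain ⟨c, hc⟩ := (FibCat.diag G).toFunctor.map_surjective m
      have h1 : c = a := congrArg (fun t => t.hom.fst) hc
      have h2 : c = b := congrArg (fun t => t.hom.snd) hc
      exact h1.symm.trans h2
    refine ⟨?_, hfaith⟩
    constructor
    intro x x' h
    obtain ⟨f, hf⟩ : ∃ f : 𝒳.p.obj x ⟶ 𝒳.p.obj x', 𝒴.p.IsHomLift f h :=
      ⟨_, IsHomLift.of_fac 𝒴.p _ h (G.w_obj x) (G.w_obj x') rfl⟩
    have := hf
    obtain ⟨x'', ψ, hψ⟩ := h𝒳.exists_lift (x := x') f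
    have := hψ
    have hsc : 𝒴.p.IsStronglyCartesian f (G.map ψ) :=
      Groth.Agent.Lib.Helper10.Fib.IsFibGrpd.sc h𝒴 f (G.map ψ)
    obtain ⟨χ, ⟨hχ1, hχ2⟩, -⟩ := Functor.IsStronglyCartesian.universal_property 𝒴.p f
      (G.map ψ) (𝟙 (𝒳.p.obj x)) f (Category.id_comp _).symm h
    have := hχ1
    have hχiso : IsIso χ :=
      Groth.Agent.Lib.Helper10.Fib.IsFibGrpd.isIso_of_isHomLift_id h𝒴 (U := 𝒳.p.obj x) χ
    let t : (FibCat.fp G G).obj := ⟨⟨x, x'', asIso χ⟩, hχ1⟩
    let e : (FibCat.diag G).obj ((FibCat.diag G).toFunctor.objPreimage t) ≅ t :=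
      (FibCat.diag G).toFunctor.objObjPreimageIso t
    let z : 𝒳.obj := (FibCat.diag G).toFunctor.objPreimage t
    let u : z ⟶ x := e.hom.hom.fst
    let v : z ⟶ x'' := e.hom.hom.snd
    let u' : x ⟶ z := e.inv.hom.fst
    have hw' : G.map u ≫ χ = 𝟙 _ ≫ G.map v := e.hom.hom.w
    rw [Category.id_comp] at hw'
    have hu : u' ≫ u = 𝟙 x := congrArg (fun m => m.hom.fst) e.inv_hom_id
    refine ⟨u' ≫ v ≫ ψ, ?_⟩
    calc G.map (u' ≫ v ≫ ψ)
        = G.map u' ≫ G.map v ≫ G.map ψ := by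
          rw [G.toFunctor.map_comp, G.toFunctor.map_comp]
      _ = G.map u' ≫ (G.map u ≫ χ) ≫ G.map ψ := by rw [hw']
      _ = G.map (u' ≫ u) ≫ χ ≫ G.map ψ := by
          rw [G.toFunctor.map_comp]
          simp only [Category.assoc]
      _ = h := by rw [hu, G.toFunctor.map_id, Category.id_comp, hχ2]

end Groth.Agent.S6399
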