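import Groth.Statements.S6400
import Mathlib
import Groth.Agent.Lib.Helper10.Fib3

set_option autoImplicit false
open CategoryTheory
universe v u
open FibCat

namespace Groth.Agent.S6400

/-- For fibred categories `𝒳, 𝒴, 𝒮` over `C` and functors `F : 𝒳 ⟶ 𝒮`, `G : 𝒴 ⟶ 𝒮` over `C` preserving
strongly cartesian morphisms, the 2-fibre product `𝒳 ×_𝒮 𝒴` over `C` is fibred over `C`. (The
published statement also says that this category, with its two projections, is a 2-fibre product in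
the 2-category of fibred categories over `C`; this row states only that it is fibred.) -/
theorem result {C : Type u} [Category.{v} C] {𝒳 𝒴 𝒮 : BasedCategory.{v, max u v} C} (F : 𝒳 ⥤ᵇ 𝒮) (G : 𝒴 ⥤ᵇ 𝒮) [𝒳.p.IsFibered] [𝒴.p.IsFibered] [𝒮.p.IsFibered]
    (hF : ∀ {R S : C} (f : R ⟶ S) {a b : 𝒳.obj} (φ : a ⟶ b), 𝒳.p.IsStronglyCartesian f φ → 𝒮.p.IsStronglyCartesian f (F.map φ))
    (hG : ∀ {R S : C} (f : R ⟶ S) {a b : 𝒴.obj} (φ : a ⟶ b), 𝒴.p.IsStronglyCartesian f φ → 𝒮.p.IsStronglyCartesian f (G.map φ)) :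
    (FibCat.fp F G).p.IsFibered := by
  apply Functor.IsFibered.of_exists_isStronglyCartesian
  intro x V f
  change V ⟶ 𝒳.p.obj x.obj.fst at f
  obtain ⟨y₁, φ₁, hφ₁⟩ := Groth.Agent.Lib.Helper10.Fib.exists_sc 𝒳.p f
  have := hφ₁
  have e : 𝒳.p.obj y₁ = V := IsHomLift.domain_eq 𝒳.p f φ₁
  subst e
  have e2 : f = 𝒳.p.map φ₁ := IsHomLift.eq_of_isHomLift 𝒳.p f φ₁
  subst e2
  have hx : 𝒮.p.IsHomLift (𝟙 (𝒳.p.obj x.obj.fst)) x.obj.iso.hom := x.property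
  have hx2 : 𝒴.p.obj x.obj.snd = 𝒳.p.obj x.obj.fst :=
    (G.w_obj x.obj.snd).symm.trans
      (IsHomLift.codomain_eq 𝒮.p (𝟙 (𝒳.p.obj x.obj.fst)) x.obj.iso.hom)
  obtain ⟨y₂, φ₂, hφ₂⟩ := Groth.Agent.Lib.Helper10.Fib.exists_sc' 𝒴.p hx2 (𝒳.p.map φ₁)
  exact Groth.Agent.Lib.Helper10.Fib.fp_exists_sc F G x φ₁ φ₂ hφ₁ hφ₂ (hF _ φ₁ hφ₁)
    (hG _ φ₂ hφ₂)

end Groth.Agent.S6400
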