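import Groth.Statements.S6402
import Mathlib
import Groth.Agent.Lib.Helper10.Fib4

set_option autoImplicit false
open CategoryTheory
universe v u
open FibCat

namespace Groth.Agent.S6402

/-- For a functor `F : 𝒳 ⟶ 𝒴` of fibred categories over `C` preserving strongly cartesian morphisms, the
relative inertia `I_{𝒳/𝒴}` (pairs `(x, α)` with `α` an automorphism of `x` sent to the identity by
`F`) is equivalent over `C` to `𝒳 ×_{Δ, 𝒳 ×_𝒴 𝒳, Δ} 𝒳`, by a functor over `C` whose composite with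
either projection is the forgetful functor `(x, α) ↦ x`. (Only the two projections of the
equivalence are pinned here; its 2-cell component at `(x, α)` is `(α, 𝟙)`.) -/
theorem result {C : Type u} [Category.{v} C] {𝒳 𝒴 : BasedCategory.{v, max u v} C} [𝒳.p.IsFibered] [𝒴.p.IsFibered] (F : 𝒳 ⥤ᵇ 𝒴) (hF : FibCat.PreservesStronglyCartesian F) :
    ∃ E : FibCat.inertia F ⥤ᵇ FibCat.fp (FibCat.diag F) (FibCat.diag F),
      FibCat.IsEquivOver E ∧ BasedFunctor.comp E (FibCat.fpFst _ _) = FibCat.inertiaToBase F ∧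
        BasedFunctor.comp E (FibCat.fpSnd _ _) = FibCat.inertiaToBase F := by
  have hw : ∀ z : FibCat.InertiaObj F, F.map z.aut.hom ≫ 𝟙 (F.obj z.pt) =
      𝟙 (F.obj z.pt) ≫ F.map (Iso.refl z.pt).hom := by
    intro z
    rw [z.map_aut]
    simp
  let cmp : ∀ z : FibCat.InertiaObj F, (FibCat.diag F).obj z.pt ≅ (FibCat.diag F).obj z.pt :=
    fun z => (FibCat.fpProp F F).isoMk
      (Limits.CategoricalPullback.mkIso z.aut (Iso.refl z.pt) (hw z))
  let e : BasedFunctor.comp (FibCat.inertiaToBase F) (FibCat.diag F) ≅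
      BasedFunctor.comp (FibCat.inertiaToBase F) (FibCat.diag F) :=
    BasedNatIso.mkNatIso (NatIso.ofComponents (fun z => cmp z) (fun {z z'} φ => by
      apply ObjectProperty.hom_ext
      apply Limits.CategoricalPullback.hom_ext
      · exact φ.comm.symm
      · change φ.hom ≫ 𝟙 _ = 𝟙 _ ≫ φ.hom
        rw [Category.comp_id, Category.id_comp]))
      (fun z => by
        apply Groth.Agent.Lib.Helper10.Fib.isHomLift_of_eq
        exact (Groth.Agent.Lib.Helper10.Fib.inertia_map_aut F z).symm)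
  let E : FibCat.inertia F ⥤ᵇ FibCat.fp (FibCat.diag F) (FibCat.diag F) :=
    FibCat.fpLift (FibCat.inertiaToBase F) (FibCat.inertiaToBase F) e
  refine ⟨E, ?_, ?_, ?_⟩
  · have hfaith : E.toFunctor.Faithful := by
      constructor
      intro z z' φ ψ h
      apply FibCat.InertiaObj.Hom.ext
      exact congrArg (fun t => t.hom.fst) h
    have hfull : E.toFunctor.Full := by
      constructor
      intro z z' m
      have hw0 := m.hom.w
      have h1 : m.hom.fst ≫ z'.aut.hom = z.aut.hom ≫ m.hom.snd :=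
        congrArg (fun t => t.hom.fst) hw0
      have h2 : m.hom.fst ≫ 𝟙 _ = 𝟙 _ ≫ m.hom.snd := congrArg (fun t => t.hom.snd) hw0
      have h2' : m.hom.fst = m.hom.snd :=
        ((Category.comp_id _).symm.trans h2).trans (Category.id_comp _)
      refine ⟨⟨m.hom.fst, (congrArg (fun t => z.aut.hom ≫ t) h2').trans h1.symm⟩, ?_⟩
      apply ObjectProperty.hom_ext
      apply Limits.CategoricalPullback.hom_ext
      · rfl
      · exact h2'
    apply Groth.Agent.Lib.Helper10.Fib.isEquivOver_of_ff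
    intro t
    let i := t.obj.iso
    let x₁ : 𝒳.obj := t.obj.fst
    let x₂ : 𝒳.obj := t.obj.snd
    let a : x₁ ⟶ x₂ := i.hom.hom.fst
    let b : x₁ ⟶ x₂ := i.hom.hom.snd
    let a' : x₂ ⟶ x₁ := i.inv.hom.fst
    let b' : x₂ ⟶ x₁ := i.inv.hom.snd
    have haa' : a ≫ a' = 𝟙 x₁ := congrArg (fun m => m.hom.fst) i.hom_inv_id
    have ha'a : a' ≫ a = 𝟙 x₂ := congrArg (fun m => m.hom.fst) i.inv_hom_id
    have hbb' : b ≫ b' = 𝟙 x₁ := congrArg (fun m => m.hom.snd) i.hom_inv_id
    have hb'b : b' ≫ b = 𝟙 x₂ := congrArg (fun m => m.hom.snd) i.inv_hom_id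
    have hFab : F.map a = F.map b := by
      have h0 : F.map a ≫ 𝟙 _ = 𝟙 _ ≫ F.map b := i.hom.hom.w
      rw [Category.comp_id, Category.id_comp] at h0
      exact h0
    let α : x₁ ≅ x₁ := ⟨a ≫ b', b ≫ a', by
      rw [Category.assoc, ← Category.assoc b', hb'b, Category.id_comp, haa'], by
      rw [Category.assoc, ← Category.assoc a', ha'a, Category.id_comp, hbb']⟩
    have hα : F.map α.hom = 𝟙 (F.obj x₁) := by
      change F.map (a ≫ b') = 𝟙 _
      rw [F.toFunctor.map_comp, hFab, ← F.toFunctor.map_comp, hbb', F.toFunctor.map_id]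
    let z : FibCat.InertiaObj F := ⟨x₁, α, hα⟩
    let β : x₁ ≅ x₂ := ⟨b, b', hbb', hb'b⟩
    have hw1 : (FibCat.diag F).map (Iso.refl x₁).hom ≫ t.obj.iso.hom =
        (E.obj z).obj.iso.hom ≫ (FibCat.diag F).map β.hom := by
      apply ObjectProperty.hom_ext
      apply Limits.CategoricalPullback.hom_ext
      · change 𝟙 x₁ ≫ a = (a ≫ b') ≫ b
        rw [Category.assoc, hb'b, Category.comp_id, Category.id_comp]
      · change 𝟙 x₁ ≫ b = 𝟙 x₁ ≫ b
        rfl
    refine ⟨z, (FibCat.fpProp (FibCat.diag F) (FibCat.diag F)).isoMk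
      (Limits.CategoricalPullback.mkIso (Iso.refl x₁) β hw1), ?_⟩
    apply Groth.Agent.Lib.Helper10.Fib.isHomLift_of_eq
    exact (𝒳.p.map_id _).symm
  · rfl
  · rfl

end Groth.Agent.S6402
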