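import Groth.Statements.S6403
import Mathlib
import Groth.Agent.Lib.Helper10.Fib3

set_option autoImplicit false
open CategoryTheory
universe v u
open FibCat

namespace Groth.Agent.S6403

/-- For a functor `F : 𝒳 ⟶ 𝒴` of fibred categories over `C` preserving strongly cartesian morphisms, the
relative inertia `I_{𝒳/𝒴}` is a fibred category over `C`. -/
theorem result {C : Type u} [Category.{v} C] {𝒳 𝒴 : BasedCategory.{v, max u v} C} [𝒳.p.IsFibered] [𝒴.p.IsFibered] (F : 𝒳 ⥤ᵇ 𝒴) (hF : FibCat.PreservesStronglyCartesian F) :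
    (FibCat.inertia F).p.IsFibered := by
  apply Functor.IsFibered.of_exists_isStronglyCartesian
  intro x V f
  change V ⟶ 𝒳.p.obj x.pt at f
  obtain ⟨y₀, φ₀, hφ₀⟩ := Groth.Agent.Lib.Helper10.Fib.exists_sc 𝒳.p f
  have := hφ₀
  have e : 𝒳.p.obj y₀ = V := IsHomLift.domain_eq 𝒳.p f φ₀
  subst e
  have e2 : f = 𝒳.p.map φ₀ := IsHomLift.eq_of_isHomLift 𝒳.p f φ₀
  subst e2
  refine Groth.Agent.Lib.Helper10.Fib.inertia_exists_sc F x φ₀ hφ₀ ?_
  intro β hβ1 hβ2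
  have hsc : 𝒴.p.IsStronglyCartesian (𝒳.p.map φ₀) (F.map φ₀) := hF (𝒳.p.map φ₀) φ₀ hφ₀
  have l1 : 𝒳.p.IsHomLift (𝟙 (𝒳.p.obj y₀)) β :=
    Groth.Agent.Lib.Helper10.Fib.isHomLift_of_eq 𝒳.p _ β hβ1.symm
  apply Functor.IsStronglyCartesian.ext 𝒴.p (𝒳.p.map φ₀) (F.map φ₀) (𝟙 (𝒳.p.obj y₀))
  rw [← F.toFunctor.map_comp, hβ2, F.toFunctor.map_comp, x.map_aut, Category.comp_id,
    Category.id_comp]

end Groth.Agent.S6403
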