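import Groth.Statements.S6404
import Mathlib
import Groth.Agent.Lib.Helper10.Fib3

set_option autoImplicit false
open CategoryTheory
universe v u
open FibCat

namespace Groth.Agent.S6404

/-- The inertia of a category fibred in groupoids over `C` is fibred in groupoids over `C`. -/
theorem result {C : Type u} [Category.{v} C] {𝒳 : BasedCategory.{v, max u v} C} (h𝒳 : FibCat.IsFibGrpd 𝒳.p) :
    FibCat.IsFibGrpd (FibCat.inertia (FibCat.toSelf 𝒳)).p := by
  constructor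
  · intro x V f
    change V ⟶ 𝒳.p.obj x.pt at f
    obtain ⟨y₀, φ₀, hφ₀⟩ := h𝒳.exists_lift f
    have := hφ₀
    have e : 𝒳.p.obj y₀ = V := IsHomLift.domain_eq 𝒳.p f φ₀
    subst e
    have e2 : f = 𝒳.p.map φ₀ := IsHomLift.eq_of_isHomLift 𝒳.p f φ₀
    subst e2
    obtain ⟨y, φ, hφ⟩ := Groth.Agent.Lib.Helper10.Fib.inertia_exists_sc (FibCat.toSelf 𝒳) x φ₀
      (h𝒳.isStronglyCartesian φ₀) (fun β hβ1 _ => hβ1)
    exact ⟨y, φ, hφ.toIsHomLift⟩
  · intro y x φ
    exact Groth.Agent.Lib.Helper10.Fib.inertia_sc (FibCat.toSelf 𝒳) φ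
      (h𝒳.isStronglyCartesian φ.hom)

end Groth.Agent.S6404
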