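import Groth.Statements.S6405
import Mathlib
import Groth.Agent.Lib.Helper10.Fib3

set_option autoImplicit false
open CategoryTheory
universe v u
open FibCat

namespace Groth.Agent.S6405

/-- (2) ⇒ (1): if `𝒳` is fibred in groupoids over `C` and the canonical functor `I_𝒳 ⟶ 𝒳` from its
inertia is an equivalence over `C`, then `𝒳` is fibred in setoids. (The published statement is an
equivalence; this row states only that the inertia condition implies that `𝒳` is fibred in setoids.) -/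
theorem result {C : Type u} [Category.{v} C] {𝒳 : BasedCategory.{v, max u v} C} (h𝒳 : FibCat.IsFibGrpd 𝒳.p)
    (h : FibCat.IsEquivOver (FibCat.inertiaToBase (FibCat.toSelf 𝒳))) : FibCat.IsFibSetoid 𝒳.p := by
  refine ⟨h𝒳, fun U => ?_⟩
  have hE := Groth.Agent.Lib.Helper10.Fib.IsEquivOver.isEquivalence h
  have key : ∀ (z : 𝒳.obj) (α : z ≅ z), 𝒳.p.map α.hom = 𝟙 (𝒳.p.obj z) → α.hom = 𝟙 z := by
    intro z α hα
    let A : FibCat.InertiaObj (FibCat.toSelf 𝒳) := ⟨z, α, hα⟩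
    let B : FibCat.InertiaObj (FibCat.toSelf 𝒳) := ⟨z, Iso.refl z, 𝒳.p.map_id z⟩
    obtain ⟨θ, hθ⟩ := (FibCat.inertiaToBase (FibCat.toSelf 𝒳)).toFunctor.map_surjective
      (X := A) (Y := B) (𝟙 z)
    have hθ' : θ.hom = 𝟙 z := hθ
    have hc : α.hom ≫ θ.hom = θ.hom ≫ 𝟙 z := θ.comm
    rw [hθ', Category.comp_id, Category.comp_id] at hc
    exact hc
  intro a b
  constructor
  intro φ ψ
  obtain ⟨a₀, ha⟩ := a
  subst ha
  have hφ : 𝒳.p.IsHomLift (𝟙 (𝒳.p.obj a₀)) φ.1 := φ.2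
  have hψ : 𝒳.p.IsHomLift (𝟙 (𝒳.p.obj a₀)) ψ.1 := ψ.2
  have iφ : IsIso φ.1 :=
    Groth.Agent.Lib.Helper10.Fib.IsFibGrpd.isIso_of_isHomLift_id h𝒳 (U := 𝒳.p.obj a₀) φ.1
  have iψ : IsIso ψ.1 :=
    Groth.Agent.Lib.Helper10.Fib.IsFibGrpd.isIso_of_isHomLift_id h𝒳 (U := 𝒳.p.obj a₀) ψ.1
  have hl : 𝒳.p.IsHomLift (𝟙 (𝒳.p.obj a₀)) (φ.1 ≫ inv ψ.1) := inferInstance
  have hα : 𝒳.p.map (asIso φ.1 ≪≫ (asIso ψ.1).symm).hom = 𝟙 (𝒳.p.obj a₀) :=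
    (IsHomLift.eq_of_isHomLift 𝒳.p (𝟙 (𝒳.p.obj a₀)) (φ.1 ≫ inv ψ.1)).symm
  have e := key a₀ (asIso φ.1 ≪≫ (asIso ψ.1).symm) hα
  have e' : φ.1 ≫ inv ψ.1 = 𝟙 a₀ := e
  apply Functor.Fiber.hom_ext
  have e'' : φ.1 = 𝟙 a₀ ≫ ψ.1 := (IsIso.comp_inv_eq ψ.1).1 e'
  rw [Category.id_comp] at e''
  exact e''

end Groth.Agent.S6405
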