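import Groth.Statements.S6407
import Mathlib
import Groth.Agent.Lib.Helper10.Fib3

set_option autoImplicit false
open CategoryTheory
universe v u
open FibCat

namespace Groth.Agent.S6407

/-- For categories `𝒳, 𝒴` fibred in setoids over `C` and functors `f, g : 𝒳 ⟶ 𝒴` over `C` that agree on
isomorphism classes of objects of each fibre category, there is a unique 2-isomorphism `f ≅ g` over
`C`. -/
theorem result {C : Type u} [Category.{v} C] {𝒳 𝒴 : BasedCategory.{v, max u v} C} (h𝒳 : FibCat.IsFibSetoid 𝒳.p) (h𝒴 : FibCat.IsFibSetoid 𝒴.p) (f g : 𝒳 ⥤ᵇ 𝒴)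
    (hfg : ∀ (U : C) (x : 𝒳.p.Fiber U), Nonempty ((FibCat.fiberFunctor f U).obj x ≅ (FibCat.fiberFunctor g U).obj x)) :
    Nonempty (Unique (f ≅ g)) := by
  have key : ∀ (x : 𝒳.obj) (m m' : f.obj x ⟶ g.obj x), 𝒴.p.IsHomLift (𝟙 (𝒳.p.obj x)) m →
      𝒴.p.IsHomLift (𝟙 (𝒳.p.obj x)) m' → m = m' := by
    intro x m m' hm hm'
    let a : 𝒴.p.Fiber (𝒳.p.obj x) := ⟨f.obj x, f.w_obj x⟩
    let b : 𝒴.p.Fiber (𝒳.p.obj x) := ⟨g.obj x, g.w_obj x⟩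
    have hs := h𝒴.2 (𝒳.p.obj x) a b
    have e : (⟨m, hm⟩ : a ⟶ b) = ⟨m', hm'⟩ := Subsingleton.elim _ _
    exact congrArg (fun t => Functor.Fiber.fiberInclusion.map t) e
  let E : ∀ x : 𝒳.obj, (FibCat.fiberFunctor f (𝒳.p.obj x)).obj ⟨x, rfl⟩ ≅
      (FibCat.fiberFunctor g (𝒳.p.obj x)).obj ⟨x, rfl⟩ :=
    fun x => Classical.choice (hfg (𝒳.p.obj x) ⟨x, rfl⟩)
  let ι : ∀ x : 𝒳.obj, f.obj x ≅ g.obj x := fun x => Functor.Fiber.fiberInclusion.mapIso (E x)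
  have hι : ∀ x, 𝒴.p.IsHomLift (𝟙 (𝒳.p.obj x)) (ι x).hom := fun x => (E x).hom.2
  have nat : ∀ {x y : 𝒳.obj} (φ : x ⟶ y), f.map φ ≫ (ι y).hom = (ι x).hom ≫ g.map φ := by
    intro x y φ
    have hg : 𝒴.p.IsStronglyCartesian (𝒳.p.map φ) (g.map φ) :=
      Groth.Agent.Lib.Helper10.Fib.IsFibGrpd.sc h𝒴.1 _ _
    have := hι y
    have l1 : 𝒴.p.IsHomLift (𝒳.p.map φ) (f.map φ ≫ (ι y).hom) := inferInstance
    obtain ⟨κ, ⟨hκ1, hκ2⟩, -⟩ := Functor.IsStronglyCartesian.universal_property 𝒴.p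
      (𝒳.p.map φ) (g.map φ) (𝟙 (𝒳.p.obj x)) (𝒳.p.map φ) (Category.id_comp _).symm
      (f.map φ ≫ (ι y).hom)
    rw [← hκ2, key x κ (ι x).hom hκ1 (hι x)]
  let iso : f ≅ g := BasedNatIso.mkNatIso
    (NatIso.ofComponents (fun x => ι x) (fun φ => nat φ)) (fun x => hι x)
  refine ⟨{ default := iso, uniq := fun e' => ?_ }⟩
  apply Iso.ext
  apply BasedNatTrans.ext
  apply NatTrans.ext
  funext x
  exact key x _ _ (e'.hom.isHomLift' x) (iso.hom.isHomLift' x)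

end Groth.Agent.S6407
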