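import Groth.Statements.S6410
import Mathlib
import Groth.Agent.Lib.Helper10.Fib5

set_option autoImplicit false
open CategoryTheory
universe v u
open FibCat

namespace Groth.Agent.S6410

/-- For `𝒳` fibred over `C`, evaluation at `𝟙_U` restricted to the functors `C/U ⟶ 𝒳` over `C` that
preserve strongly cartesian morphisms is an equivalence of categories onto the fibre category `𝒳_U`. -/
theorem result {C : Type u} [Category.{v} C] {𝒳 : BasedCategory.{v, max u v} C} [𝒳.p.IsFibered] (U : C) :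
    ((ObjectProperty.ι (FibCat.PreservesStronglyCartesian (𝒳 := FibCat.overCat U) (𝒴 := 𝒳))) ⋙ FibCat.evalAtId 𝒳 U).IsEquivalence := by
  have hT : ∀ A : Over U, (FibCat.overCat U).p.IsStronglyCartesian
      (Groth.Agent.Lib.Helper10.Fib.homU U A) (Groth.Agent.Lib.Helper10.Fib.toTerminal U A) := by
    intro A
    have h0 : (Over.forget U).IsHomLift (Groth.Agent.Lib.Helper10.Fib.homU U A)
        (Groth.Agent.Lib.Helper10.Fib.toTerminal U A) :=
      Groth.Agent.Lib.Helper10.Fib.isHomLift_of_eq (Over.forget U) _ _ rfl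
    exact Groth.Agent.Lib.Helper10.Fib.IsFibGrpd.sc
      (Groth.Agent.Lib.Helper10.Fib.isFibGrpd_overForget U)
      (Groth.Agent.Lib.Helper10.Fib.homU U A) (Groth.Agent.Lib.Helper10.Fib.toTerminal U A)
  have hH : ∀ (H : FibCat.overCat U ⥤ᵇ 𝒳), FibCat.PreservesStronglyCartesian H →
      ∀ A : Over U, 𝒳.p.IsStronglyCartesian (Groth.Agent.Lib.Helper10.Fib.homU U A)
        (H.map (Groth.Agent.Lib.Helper10.Fib.toTerminal U A)) :=
    fun H hp A => hp (Groth.Agent.Lib.Helper10.Fib.homU U A)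
      (Groth.Agent.Lib.Helper10.Fib.toTerminal U A) (hT A)
  have hfaith : ((ObjectProperty.ι (FibCat.PreservesStronglyCartesian (𝒳 := FibCat.overCat U)
      (𝒴 := 𝒳))) ⋙ FibCat.evalAtId 𝒳 U).Faithful := by
    constructor
    intro G H α β hαβ
    have hm : 𝒳.p.IsHomLift (𝟙 U) (β.hom.toNatTrans.app (Over.mk (𝟙 U))) :=
      BasedNatTrans.isHomLift β.hom rfl
    obtain ⟨γ, -, hγ⟩ := Groth.Agent.Lib.Helper10.Fib.yoneda_existsUnique U G.obj H.obj
      (hH H.obj H.property) (β.hom.toNatTrans.app (Over.mk (𝟙 U))) hm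
    have e1 : α.hom = γ := hγ α.hom (congrArg (fun t => Functor.Fiber.fiberInclusion.map t) hαβ)
    have e2 : β.hom = γ := hγ β.hom rfl
    apply ObjectProperty.hom_ext
    rw [e1, e2]
  have hfull : ((ObjectProperty.ι (FibCat.PreservesStronglyCartesian (𝒳 := FibCat.overCat U)
      (𝒴 := 𝒳))) ⋙ FibCat.evalAtId 𝒳 U).Full := by
    constructor
    intro G H m
    obtain ⟨α, hα, -⟩ := Groth.Agent.Lib.Helper10.Fib.yoneda_existsUnique U G.obj H.obj
      (hH H.obj H.property) m.1 m.2
    exact ⟨ObjectProperty.homMk α, Functor.Fiber.hom_ext hα⟩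
  have hess : ((ObjectProperty.ι (FibCat.PreservesStronglyCartesian (𝒳 := FibCat.overCat U)
      (𝒴 := 𝒳))) ⋙ FibCat.evalAtId 𝒳 U).EssSurj := by
    constructor
    intro x
    obtain ⟨G, hGsc, ⟨e⟩⟩ := Groth.Agent.Lib.Helper10.Fib.yoneda_essSurj U x
      (fun V f => Groth.Agent.Lib.Helper10.Fib.exists_sc' 𝒳.p x.2 f)
    have hpres : FibCat.PreservesStronglyCartesian G := by
      intro R S f a b φ hφ
      have := hφ
      have e1 : (FibCat.overCat U).p.obj a = R := IsHomLift.domain_eq _ f φ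
      have e2 : (FibCat.overCat U).p.obj b = S := IsHomLift.codomain_eq _ f φ
      subst e1 e2
      have e3 : f = (FibCat.overCat U).p.map φ := IsHomLift.eq_of_isHomLift _ f φ
      subst e3
      exact hGsc φ
    exact ⟨⟨G, hpres⟩, ⟨e⟩⟩
  exact { }

end Groth.Agent.S6410
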