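import Groth.Statements.S6413
import Mathlib
import Groth.Agent.Lib.Helper10.Fib3
import Groth.Agent.S6401

set_option autoImplicit false
open CategoryTheory
universe v u
open FibCat

namespace Groth.Agent.S6413

/-- For `𝒳, 𝒴` fibred in groupoids over `C` and `F : 𝒳 ⟶ 𝒴` over `C`, the projection `𝒳 ×_{F, 𝒴, id} 𝒴 ⟶
𝒴` is a category fibred in groupoids over `𝒴`. -/
theorem result {C : Type u} [Category.{v} C] {𝒳 𝒴 : BasedCategory.{v, max u v} C} (h𝒳 : FibCat.IsFibGrpd 𝒳.p) (h𝒴 : FibCat.IsFibGrpd 𝒴.p) (F : 𝒳 ⥤ᵇ 𝒴) :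
    FibCat.IsFibGrpd (FibCat.fpSnd F (BasedFunctor.id 𝒴)).toFunctor := by
  have h1 : FibCat.IsFibGrpd (FibCat.fp F (BasedFunctor.id 𝒴)).p :=
    Groth.Agent.S6401.result F (BasedFunctor.id 𝒴) h𝒳 h𝒴 h𝒴
  have h2 : FibCat.IsFibGrpd ((FibCat.fpSnd F (BasedFunctor.id 𝒴)).toFunctor ⋙ 𝒴.p) := by
    rw [(FibCat.fpSnd F (BasedFunctor.id 𝒴)).w]
    exact h1
  constructor
  · intro x V f
    change V ⟶ x.obj.snd at f
    have hx : 𝒴.p.IsHomLift (𝟙 (𝒳.p.obj x.obj.fst)) x.obj.iso.hom := x.property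
    have hx2 : 𝒳.p.obj x.obj.fst = 𝒴.p.obj x.obj.snd :=
      (IsHomLift.codomain_eq 𝒴.p (𝟙 (𝒳.p.obj x.obj.fst)) x.obj.iso.hom).symm
    obtain ⟨x', φ₁, hφ₁⟩ :=
      Groth.Agent.Lib.Helper10.Fib.IsFibGrpd.exists_lift' h𝒳 hx2 (𝒴.p.map f)
    have := hφ₁
    have hf : 𝒴.p.IsStronglyCartesian (𝒴.p.map f) f := h𝒴.isStronglyCartesian f
    have hx' : 𝒴.p.IsHomLift (𝟙 (𝒴.p.obj x.obj.snd)) x.obj.iso.hom :=
      Groth.Agent.Lib.Helper10.Fib.isHomLift_id_of_eq 𝒴.p hx2 x.obj.iso.hom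
    have l1 : 𝒴.p.IsHomLift (𝒴.p.map f) (F.map φ₁) := inferInstance
    have l2 : 𝒴.p.IsHomLift (𝒴.p.map f) (F.map φ₁ ≫ x.obj.iso.hom) :=
      IsHomLift.comp_lift_id_right 𝒴.p (𝒴.p.map f) (F.map φ₁) x.obj.iso.hom
    obtain ⟨j, ⟨hj1, hj2⟩, -⟩ := @Functor.IsStronglyCartesian.universal_property _ _ _ _ 𝒴.p
      _ _ _ _ (𝒴.p.map f) f hf _ _ (𝟙 (𝒴.p.obj V)) (𝒴.p.map f) (Category.id_comp _).symm
      (F.map φ₁ ≫ x.obj.iso.hom) l2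
    have := hj1
    have hjiso : IsIso j :=
      Groth.Agent.Lib.Helper10.Fib.IsFibGrpd.isIso_of_isHomLift_id h𝒴 (U := 𝒴.p.obj V) j
    have hV : 𝒴.p.obj V = 𝒳.p.obj x' := (IsHomLift.domain_eq 𝒳.p (𝒴.p.map f) φ₁).symm
    have hj1' : 𝒴.p.IsHomLift (𝟙 (𝒳.p.obj x')) j :=
      Groth.Agent.Lib.Helper10.Fib.isHomLift_id_of_eq 𝒴.p hV j
    let y : (FibCat.fp F (BasedFunctor.id 𝒴)).obj := ⟨⟨x', V, @asIso _ _ _ _ j hjiso⟩, hj1'⟩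
    let φ : y ⟶ x := ObjectProperty.homMk ⟨φ₁, f, by
      change F.map φ₁ ≫ x.obj.iso.hom = j ≫ f
      exact hj2.symm⟩
    refine ⟨y, φ, ?_⟩
    apply Groth.Agent.Lib.Helper10.Fib.isHomLift_of_eq
    rfl
  · intro y x φ
    exact Groth.Agent.Lib.Helper10.Fib.sc_of_comp_fibGrpd
      (FibCat.fpSnd F (BasedFunctor.id 𝒴)).toFunctor 𝒴.p h𝒴 h2 φ

end Groth.Agent.S6413
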