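import Groth.Statements.S6414
import Mathlib
import Mathlib

set_option autoImplicit false
open CategoryTheory
universe v₁ u₁ v₂ u₂ v₃ u₃
open FibCat

namespace Groth.Agent.S6414

/-- A morphism that is strongly cartesian with respect to `F : 𝒜 ⥤ ℬ` and whose image is strongly
cartesian with respect to `G : ℬ ⥤ 𝒞` is strongly cartesian with respect to `F ⋙ G`. -/
theorem result {𝒜 : Type u₁} [Category.{v₁} 𝒜] {ℬ : Type u₂} [Category.{v₂} ℬ] {𝒞 : Type u₃} [Category.{v₃} 𝒞] (F : 𝒜 ⥤ ℬ) (G : ℬ ⥤ 𝒞) {x y : 𝒜} (φ : x ⟶ y)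
    [F.IsStronglyCartesian (F.map φ) φ] [G.IsStronglyCartesian (G.map (F.map φ)) (F.map φ)] :
    (F ⋙ G).IsStronglyCartesian ((F ⋙ G).map φ) φ := by
  refine { toIsHomLift := inferInstance, universal_property' := ?_ }
  intro a' g φ' hφ'
  have hg : g ≫ (F ⋙ G).map φ = (F ⋙ G).map φ' := IsHomLift.eq_of_isHomLift (F ⋙ G) _ φ'
  obtain ⟨β, ⟨hβ1, hβ2⟩, hβu⟩ := Functor.IsStronglyCartesian.universal_property G
    (G.map (F.map φ)) (F.map φ) g (G.map (F.map φ')) hg.symm (F.map φ')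
  obtain ⟨χ, ⟨hχ1, hχ2⟩, hχu⟩ := Functor.IsStronglyCartesian.universal_property F
    (F.map φ) φ β (F.map φ') hβ2.symm φ'
  have h1 : β = F.map χ := IsHomLift.eq_of_isHomLift F β χ
  have h2 : g = G.map β := IsHomLift.eq_of_isHomLift G g β
  refine ⟨χ, ⟨?_, hχ2⟩, ?_⟩
  · rw [h2, h1]
    exact IsHomLift.map (F ⋙ G) χ
  · rintro χ' ⟨hχ'1, hχ'2⟩
    have h3 : g = (F ⋙ G).map χ' := IsHomLift.eq_of_isHomLift (F ⋙ G) g χ'
    have hβ' : F.map χ' = β := by
      apply hβu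
      refine ⟨?_, ?_⟩
      · rw [h3]
        exact IsHomLift.map G (F.map χ')
      · rw [← F.map_comp, hχ'2]
    apply hχu
    refine ⟨?_, hχ'2⟩
    rw [← hβ']
    exact IsHomLift.map F χ'

end Groth.Agent.S6414
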