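import Groth.Statements.S6417
import Mathlib
import Groth.Agent.Lib.Helper10.Fib2

set_option autoImplicit false
open CategoryTheory CategoryTheory.Limits
universe v₁ u₁ v₂ u₂
open FibCat

namespace Groth.Agent.S6417

open CategoryTheory.Limits Groth.Agent.Lib.Helper10 in
lemma key {𝒮 : Type u₁} [Category.{v₁} 𝒮] {C : Type u₂} [Category.{v₂} C] (p : 𝒮 ⥤ C)
    {x y z w : 𝒮} (φ : x ⟶ y) (ψ : z ⟶ y)
    [p.IsStronglyCartesian (p.map φ) φ] {P : C} (f₁ : P ⟶ p.obj x) (f₂ : P ⟶ p.obj z)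
    (hP : IsPullback f₁ f₂ (p.map φ) (p.map ψ)) (a : w ⟶ z) [p.IsStronglyCartesian f₂ a] :
    ∃ b : w ⟶ x, p.IsHomLift f₁ b ∧ IsPullback b a φ ψ := by
  have ha0 : p.IsStronglyCartesian (p.map a) a := Fib.sc_map p f₂ a
  have e : p.obj w = P := IsHomLift.domain_eq p f₂ a
  subst e
  have e2 : f₂ = p.map a := IsHomLift.eq_of_isHomLift p f₂ a
  subst e2
  have hφ := (Fib.sc_map_iff p φ).1 inferInstance
  have ha := (Fib.sc_map_iff p a).1 ha0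
  obtain ⟨b, ⟨hb1, hb2⟩, -⟩ := hφ f₁ (a ≫ ψ) (by rw [p.map_comp, hP.w])
  subst hb1
  refine ⟨b, inferInstance, ?_⟩
  have H : ∀ {t : 𝒮} (s₁ : t ⟶ x) (s₂ : t ⟶ z), s₁ ≫ φ = s₂ ≫ ψ →
      ∃! m : t ⟶ w, m ≫ b = s₁ ∧ m ≫ a = s₂ := by
    intro t s₁ s₂ hs
    have hs' : p.map s₁ ≫ p.map φ = p.map s₂ ≫ p.map ψ := by
      rw [← p.map_comp, ← p.map_comp, hs]
    obtain ⟨m, ⟨hm1, hm2⟩, hm3⟩ := ha (hP.lift _ _ hs') s₂ (hP.lift_snd _ _ hs').symm
    have hmb : m ≫ b = s₁ := by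
      obtain ⟨χ, -, hχ⟩ := hφ (p.map s₁) (s₁ ≫ φ) (p.map_comp _ _)
      have e1 : m ≫ b = χ := hχ _ ⟨by rw [p.map_comp, hm1, hP.lift_fst], by
        rw [Category.assoc, hb2, ← Category.assoc, hm2, hs]⟩
      have e2 : s₁ = χ := hχ _ ⟨rfl, rfl⟩
      rw [e1, e2]
    refine ⟨m, ⟨hmb, hm2⟩, ?_⟩
    rintro m' ⟨h1, h2⟩
    apply hm3
    refine ⟨?_, h2⟩
    apply hP.hom_ext
    · rw [hP.lift_fst, ← p.map_comp, h1]
    · rw [hP.lift_snd, ← p.map_comp, h2]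
  exact ⟨⟨hb2⟩, ⟨PullbackCone.IsLimit.mk _ (fun s => Classical.choose (H s.fst s.snd s.condition))
    (fun s => (Classical.choose_spec (H s.fst s.snd s.condition)).1.1)
    (fun s => (Classical.choose_spec (H s.fst s.snd s.condition)).1.2)
    (fun s m h1 h2 => (Classical.choose_spec (H s.fst s.snd s.condition)).2 m ⟨h1, h2⟩)⟩⟩

/-- For `p : 𝒮 ⥤ C`, a strongly cartesian `φ : x ⟶ y`, any `ψ : z ⟶ y`, and a strongly cartesian `a : w
⟶ z` lying over the second projection of `p x ×_{p y} p z`, the object `w` is a fibre product `x ×_y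
z`: there is `b : w ⟶ x` over the first projection with `(b, a)` a pullback square. -/
theorem result {𝒮 : Type u₁} [Category.{v₁} 𝒮] {C : Type u₂} [Category.{v₂} C] (p : 𝒮 ⥤ C) {x y z w : 𝒮} (φ : x ⟶ y) (ψ : z ⟶ y)
    [p.IsStronglyCartesian (p.map φ) φ] [HasPullback (p.map φ) (p.map ψ)] (a : w ⟶ z)
    [p.IsStronglyCartesian (pullback.snd (p.map φ) (p.map ψ)) a] :
    ∃ b : w ⟶ x, p.IsHomLift (pullback.fst (p.map φ) (p.map ψ)) b ∧ IsPullback b a φ ψ := by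
  exact key p φ ψ _ _ (IsPullback.of_hasPullback (p.map φ) (p.map ψ)) a

end Groth.Agent.S6417
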