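import Groth.Statements.S6418
import Mathlib
import Groth.Agent.Lib.Helper10.Fib2

set_option autoImplicit false
open CategoryTheory
universe v₁ u₁ v₂ u₂
open FibCat

namespace Groth.Agent.S6418

/-- If `p' : 𝒮 ⥤ C/U` composed with the forgetful functor `C/U ⥤ C` is a fibred category, then so is
`p'`. -/
theorem result {𝒮 : Type u₁} [Category.{v₁} 𝒮] {C : Type u₂} [Category.{v₂} C] {U : C} (p' : 𝒮 ⥤ Over U) [(p' ⋙ Over.forget U).IsFibered] : p'.IsFibered := by
  apply Functor.IsFibered.of_exists_isStronglyCartesian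
  intro x V f
  obtain ⟨y, φ, hφ⟩ := Groth.Agent.Lib.Helper10.Fib.exists_sc (p' ⋙ Over.forget U)
    (a := x) (R := V.left) f.left
  have hl : p'.IsHomLift f φ :=
    @Groth.Agent.Lib.Helper10.Fib.over_isHomLift _ _ _ _ _ p' _ _ _ f φ hφ.toIsHomLift
  have h1 : (p' ⋙ Over.forget U).IsStronglyCartesian ((p' ⋙ Over.forget U).map φ) φ :=
    @Groth.Agent.Lib.Helper10.Fib.sc_map _ _ _ _ (p' ⋙ Over.forget U) _ _ _ _ _ φ hφ
  have h2 := Groth.Agent.Lib.Helper10.Fib.sc_of_comp_faithful p' (Over.forget U) φ h1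
  exact ⟨y, φ, Groth.Agent.Lib.Helper10.Fib.sc_of_map p' f φ h2⟩

end Groth.Agent.S6418
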