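import Groth.Statements.S6421
import Mathlib
-- import your own Groth.Agent.* helpers here

set_option autoImplicit false
open CategoryTheory CategoryTheory.Limits
universe v u
open FibCat

namespace Groth.Agent.S6421

variable {X Y Z A B C : Type u} [Category.{v} X] [Category.{v} Y] [Category.{v} Z] [Category.{v} A] [Category.{v} B] [Category.{v} C] {H : X ⥤ Z} {I : Y ⥤ Z} {F : A ⥤ C} {G : B ⥤ C}

lemma cpm_map_fst (ψ : CatCospanTransform H I F G) {x y : CategoricalPullback H I} (f : x ⟶ y) :
    ((FibCat.categoricalPullbackMap ψ).map f).fst = ψ.left.map f.fst := rfl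
lemma cpm_map_snd (ψ : CatCospanTransform H I F G) {x y : CategoricalPullback H I} (f : x ⟶ y) :
    ((FibCat.categoricalPullbackMap ψ).map f).snd = ψ.right.map f.snd := rfl
lemma cpm_obj_fst (ψ : CatCospanTransform H I F G) (x : CategoricalPullback H I) :
    ((FibCat.categoricalPullbackMap ψ).obj x).fst = ψ.left.obj x.fst := rfl
lemma cpm_obj_snd (ψ : CatCospanTransform H I F G) (x : CategoricalPullback H I) :
    ((FibCat.categoricalPullbackMap ψ).obj x).snd = ψ.right.obj x.snd := rfl
lemma cpm_iso_hom (ψ : CatCospanTransform H I F G) (x : CategoricalPullback H I) :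
    ((FibCat.categoricalPullbackMap ψ).obj x).iso.hom =
      ψ.squareLeft.iso.inv.app x.fst ≫ ψ.base.map x.iso.hom ≫ ψ.squareRight.iso.hom.app x.snd := by
  simp [FibCat.categoricalPullbackMap]
  rfl

theorem faithful_res (ψ : CatCospanTransform H I F G) [ψ.left.Faithful] [ψ.right.Faithful] :
    (FibCat.categoricalPullbackMap ψ).Faithful := by
  constructor
  intro x y f g h
  apply CategoricalPullback.hom_ext
  · apply ψ.left.map_injective
    have := congrArg CategoricalPullback.Hom.fst h
    exact this
  · apply ψ.right.map_injective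
    have := congrArg CategoricalPullback.Hom.snd h
    exact this

theorem full_res (ψ : CatCospanTransform H I F G) [ψ.left.Full] [ψ.left.Faithful] [ψ.right.Full] [ψ.right.Faithful] [ψ.base.Faithful] :
    (FibCat.categoricalPullbackMap ψ).Full := by
  constructor
  intro x y g
  obtain ⟨a, ha⟩ := ψ.left.map_surjective (show ψ.left.obj x.fst ⟶ ψ.left.obj y.fst from g.fst)
  obtain ⟨b, hb⟩ := ψ.right.map_surjective (show ψ.right.obj x.snd ⟶ ψ.right.obj y.snd from g.snd)
  have hw := g.w
  rw [cpm_iso_hom, cpm_iso_hom] at hw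
  have n1 := ψ.squareLeft.iso.inv.naturality a
  have n2 := ψ.squareRight.iso.hom.naturality b
  simp only [Functor.comp_map] at n1 n2
  have hw' : F.map (ψ.left.map a) ≫ (ψ.squareLeft.iso.inv.app y.fst ≫
      ψ.base.map y.iso.hom ≫ ψ.squareRight.iso.hom.app y.snd) =
      (ψ.squareLeft.iso.inv.app x.fst ≫ ψ.base.map x.iso.hom ≫
        ψ.squareRight.iso.hom.app x.snd) ≫ G.map (ψ.right.map b) := by
    rw [ha, hb]
    exact hw
  have w : H.map a ≫ y.iso.hom = x.iso.hom ≫ I.map b := by
    apply ψ.base.map_injective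
    rw [Functor.map_comp, Functor.map_comp]
    rw [← cancel_epi (ψ.squareLeft.iso.inv.app x.fst), ← cancel_mono (ψ.squareRight.iso.hom.app y.snd)]
    simp only [Category.assoc]
    rw [n2, ← reassoc_of% n1]
    simpa only [Category.assoc] using hw'
  refine ⟨⟨a, b, w⟩, ?_⟩
  apply CategoricalPullback.hom_ext
  · exact ha
  · exact hb

/-- For a 2-commutative morphism of cospans of categories whose outer functors `X ⥤ A`, `Y ⥤ B` are
fully faithful and whose middle functor `Z ⥤ C` is faithful, the induced functor `X ×_Z Y ⥤ A ×_C B`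
is fully faithful. -/
theorem result {X Y Z A B C : Type u} [Category.{v} X] [Category.{v} Y] [Category.{v} Z] [Category.{v} A] [Category.{v} B] [Category.{v} C] {H : X ⥤ Z} {I : Y ⥤ Z} {F : A ⥤ C} {G : B ⥤ C} (ψ : CatCospanTransform H I F G) [ψ.left.Full] [ψ.left.Faithful] [ψ.right.Full] [ψ.right.Faithful] [ψ.base.Faithful] :
    (FibCat.categoricalPullbackMap ψ).Full ∧ (FibCat.categoricalPullbackMap ψ).Faithful := by
  exact ⟨full_res ψ, faithful_res ψ⟩

end Groth.Agent.S6421
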