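import Groth.Statements.S6422
import Mathlib
import Groth.Agent.S6421

set_option autoImplicit false
open CategoryTheory CategoryTheory.Limits
universe v u
open FibCat

namespace Groth.Agent.S6422

variable {X Y Z A B C : Type u} [Category.{v} X] [Category.{v} Y] [Category.{v} Z] [Category.{v} A] [Category.{v} B] [Category.{v} C] {H : X ⥤ Z} {I : Y ⥤ Z} {F : A ⥤ C} {G : B ⥤ C}

theorem essSurj_res (ψ : CatCospanTransform H I F G) [ψ.left.IsEquivalence] [ψ.right.IsEquivalence]
    [ψ.base.Full] [ψ.base.Faithful] : (FibCat.categoricalPullbackMap ψ).EssSurj := by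
  constructor
  intro t
  let x := ψ.left.objPreimage t.fst
  let e₁ : ψ.left.obj x ≅ t.fst := ψ.left.objObjPreimageIso t.fst
  let y := ψ.right.objPreimage t.snd
  let e₂ : ψ.right.obj y ≅ t.snd := ψ.right.objObjPreimageIso t.snd
  let k : ψ.base.obj (H.obj x) ≅ ψ.base.obj (I.obj y) :=
    ψ.squareLeft.iso.app x ≪≫ F.mapIso e₁ ≪≫ t.iso ≪≫ (G.mapIso e₂).symm ≪≫
      (ψ.squareRight.iso.app y).symm
  let i : H.obj x ≅ I.obj y := ψ.base.preimageIso k
  have w : F.map e₁.hom ≫ t.iso.hom = (ψ.squareLeft.iso.inv.app x ≫ ψ.base.map i.hom ≫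
      ψ.squareRight.iso.hom.app y) ≫ G.map e₂.hom := by
    simp [i, k]
  refine ⟨⟨x, y, i⟩, ⟨CategoricalPullback.mkIso e₁ e₂ ?_⟩⟩
  rw [Groth.Agent.S6421.cpm_iso_hom]
  exact w

/-- For a 2-commutative morphism of cospans of categories whose outer functors `X ⥤ A`, `Y ⥤ B` are
equivalences and whose middle functor `Z ⥤ C` is fully faithful, the induced functor `X ×_Z Y ⥤ A
×_C B` is an equivalence of categories. -/
theorem result {X Y Z A B C : Type u} [Category.{v} X] [Category.{v} Y] [Category.{v} Z] [Category.{v} A] [Category.{v} B] [Category.{v} C] {H : X ⥤ Z} {I : Y ⥤ Z} {F : A ⥤ C} {G : B ⥤ C} (ψ : CatCospanTransform H I F G) [ψ.left.IsEquivalence] [ψ.right.IsEquivalence] [ψ.base.Full] [ψ.base.Faithful] :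
    (FibCat.categoricalPullbackMap ψ).IsEquivalence := by
  have h := Groth.Agent.S6421.result ψ
  have := h.1
  have := h.2
  have := essSurj_res ψ
  exact { }

end Groth.Agent.S6422
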