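import Groth.Statements.S6423
import Mathlib
-- import your own Groth.Agent.* helpers here

set_option autoImplicit false
open CategoryTheory CategoryTheory.Limits
universe v u
open CatLim

namespace Groth.Agent.S6423


section Aux

variable {J : Type} [SmallCategory J] [DecidableEq J] {C : Type u} [Category.{v} C] (F : J ⥤ C)

/-- the partial cone condition for a family of maps to the `F.obj j`, `j ∈ S` -/
def IsPC (S : Finset J) {X : C} (σ : ∀ j, j ∈ S → (X ⟶ F.obj j)) : Prop :=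
  ∀ (j j' : J) (hj : j ∈ S) (hj' : j' ∈ S) (f : j ⟶ j'), σ j hj ≫ F.map f = σ j' hj'

/-- the limit of the restriction of `F` to the full subcategory on `S` exists -/
def Rep (S : Finset J) : Prop :=
  ∃ (L : C) (π : ∀ j, j ∈ S → (L ⟶ F.obj j)), IsPC F S π ∧
    ∀ (X : C) (σ : ∀ j, j ∈ S → (X ⟶ F.obj j)), IsPC F S σ →
      ∃! u : X ⟶ L, ∀ j hj, u ≫ π j hj = σ j hj

omit [DecidableEq J] in
theorem listEq [HasEqualizers C] (L : C) (l : List (Σ Y : C, (L ⟶ Y) × (L ⟶ Y))) :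
    ∃ (E : C) (i : E ⟶ L), Mono i ∧ (∀ c ∈ l, i ≫ c.2.1 = i ≫ c.2.2) ∧
      ∀ (X : C) (u : X ⟶ L), (∀ c ∈ l, u ≫ c.2.1 = u ≫ c.2.2) → ∃ v : X ⟶ E, v ≫ i = u := by
  induction l with
  | nil => exact ⟨L, 𝟙 L, inferInstance, by simp, fun X u _ => ⟨u, Category.comp_id u⟩⟩
  | cons c l ih =>
    obtain ⟨E, i, hi, h1, h2⟩ := ih
    haveI := hi
    refine ⟨equalizer (i ≫ c.2.1) (i ≫ c.2.2), equalizer.ι _ _ ≫ i, mono_comp _ _, ?_, ?_⟩
    · intro c' hc'
      rcases List.mem_cons.mp hc' with rfl | h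
      · rw [Category.assoc, Category.assoc]
        exact equalizer.condition _ _
      · rw [Category.assoc, Category.assoc, h1 c' h]
    · intro X u hu
      obtain ⟨w, hw⟩ := h2 X u (fun c' hc' => hu c' (List.mem_cons_of_mem _ hc'))
      have hc := hu c (List.mem_cons.mpr (Or.inl rfl))
      have hwc : w ≫ (i ≫ c.2.1) = w ≫ (i ≫ c.2.2) := by
        rw [← Category.assoc, ← Category.assoc, hw]
        exact hc
      exact ⟨equalizer.lift w hwc, by rw [← Category.assoc, equalizer.lift_ι, hw]⟩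

omit [DecidableEq J] in
theorem jointEq [FinCategory J] [HasEqualizers C] (S : Finset J) (L₀ : C)
    (p : ∀ j, j ∈ S → (L₀ ⟶ F.obj j)) :
    ∃ (E : C) (i : E ⟶ L₀), Mono i ∧ IsPC F S (fun j hj => i ≫ p j hj) ∧
      ∀ (X : C) (u : X ⟶ L₀), IsPC F S (fun j hj => u ≫ p j hj) →
        ∃ w : X ⟶ E, w ≫ i = u := by
  classical
  let K := Σ (j : {j // j ∈ S}) (j' : {j // j ∈ S}), (j.1 ⟶ j'.1)
  haveI : Fintype K := inferInstance
  let cond : K → (Σ Y : C, (L₀ ⟶ Y) × (L₀ ⟶ Y)) := fun k =>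
    ⟨F.obj k.2.1.1, p k.1.1 k.1.2 ≫ F.map k.2.2, p k.2.1.1 k.2.1.2⟩
  obtain ⟨E, i, hi, h1, h2⟩ := listEq L₀ ((Finset.univ : Finset K).toList.map cond)
  refine ⟨E, i, hi, ?_, ?_⟩
  · intro j j' hj hj' f
    have h3 : i ≫ (p j hj ≫ F.map f) = i ≫ p j' hj' :=
      h1 (cond ⟨⟨j, hj⟩, ⟨j', hj'⟩, f⟩)
        (List.mem_map.mpr ⟨_, Finset.mem_toList.mpr (Finset.mem_univ _), rfl⟩)
    show (i ≫ p j hj) ≫ F.map f = i ≫ p j' hj'
    rw [Category.assoc]
    exact h3
  · intro X u hu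
    apply h2
    intro c hc
    obtain ⟨k, -, rfl⟩ := List.mem_map.mp hc
    have h3 : (u ≫ p k.1.1 k.1.2) ≫ F.map k.2.2 = u ≫ p k.2.1.1 k.2.1.2 :=
      hu k.1.1 k.2.1.1 k.1.2 k.2.1.2 k.2.2
    rw [Category.assoc] at h3
    exact h3

omit [DecidableEq J] in
theorem rep_of_pre [FinCategory J] [HasEqualizers C] (S : Finset J) (L₀ : C)
    (p : ∀ j, j ∈ S → (L₀ ⟶ F.obj j))
    (hex : ∀ (X : C) (σ : ∀ j, j ∈ S → (X ⟶ F.obj j)), IsPC F S σ →
      ∃ u : X ⟶ L₀, ∀ j hj, u ≫ p j hj = σ j hj)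
    (hmono : ∀ (X : C) (u u' : X ⟶ L₀), (∀ j hj, u ≫ p j hj = u' ≫ p j hj) → u = u') :
    Rep F S := by
  obtain ⟨E, i, hi, h1, h2⟩ := jointEq F S L₀ p
  refine ⟨E, fun j hj => i ≫ p j hj, h1, ?_⟩
  intro X σ hσ
  obtain ⟨u, hu⟩ := hex X σ hσ
  have hσ' : IsPC F S (fun j hj => u ≫ p j hj) := by
    have : (fun j hj => u ≫ p j hj) = σ := by
      funext j hj
      exact hu j hj
    rw [this]
    exact hσ
  obtain ⟨w, hw⟩ := h2 X u hσ'
  refine ⟨w, fun j hj => ?_, ?_⟩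
  · show w ≫ i ≫ p j hj = σ j hj
    rw [← Category.assoc, hw]
    exact hu j hj
  · intro w' hw'
    haveI := hi
    rw [← cancel_mono i]
    apply hmono
    intro j hj
    have e1 : w' ≫ i ≫ p j hj = σ j hj := hw' j hj
    rw [Category.assoc, Category.assoc, e1, ← Category.assoc, hw, hu j hj]

theorem rep_insert [FinCategory J] [HasEqualizers C] (S : Finset J) (s' : J) (hs' : s' ∉ S)
    (L : C) (π : ∀ j, j ∈ S → (L ⟶ F.obj j)) (hπ : IsPC F S π)
    (huniv : ∀ (X : C) (σ : ∀ j, j ∈ S → (X ⟶ F.obj j)), IsPC F S σ →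
      ∃! u : X ⟶ L, ∀ j hj, u ≫ π j hj = σ j hj)
    (L₀ : C) (q : L₀ ⟶ L) (r : L₀ ⟶ F.obj s')
    (ha : ∀ (X : C) (σ : ∀ j, j ∈ insert s' S → (X ⟶ F.obj j)), IsPC F (insert s' S) σ →
      ∀ u₁ : X ⟶ L, (∀ j (h : j ∈ S), u₁ ≫ π j h = σ j (Finset.mem_insert_of_mem h)) →
      ∃ u : X ⟶ L₀, u ≫ q = u₁ ∧ u ≫ r = σ s' (Finset.mem_insert_self s' S))
    (hb : ∀ (X : C) (u u' : X ⟶ L₀), u ≫ q = u' ≫ q → u ≫ r = u' ≫ r → u = u') :
    Rep F (insert s' S) := by
  obtain ⟨p, p_in, p_new⟩ : ∃ p : ∀ j, j ∈ insert s' S → (L₀ ⟶ F.obj j),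
      (∀ j (h : j ∈ S) (hj : j ∈ insert s' S), p j hj = q ≫ π j h) ∧
      (∀ hj : s' ∈ insert s' S, p s' hj = r) :=
    ⟨fun j hj => if h : j ∈ S then q ≫ π j h
      else r ≫ eqToHom (by rw [(Finset.mem_insert.mp hj).resolve_right h]),
      fun j h hj => dif_pos h, fun hj => by simp [hs']⟩
  apply rep_of_pre F (insert s' S) L₀ p
  · intro X σ hσ
    have hσS : IsPC F S (fun j h => σ j (Finset.mem_insert_of_mem h)) :=
      fun j j' hj hj' f => hσ j j' _ _ f
    obtain ⟨u₁, hu₁, -⟩ := huniv X _ hσS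
    obtain ⟨u, huq, hur⟩ := ha X σ hσ u₁ hu₁
    refine ⟨u, fun j hj => ?_⟩
    by_cases h : j ∈ S
    · rw [p_in j h hj, ← Category.assoc, huq]
      exact hu₁ j h
    · have hjs : j = s' := (Finset.mem_insert.mp hj).resolve_right h
      subst hjs
      rw [p_new hj]
      exact hur
  · intro X u u' huu'
    apply hb
    · have hτ : IsPC F S (fun j h => (u ≫ q) ≫ π j h) := fun j j' hj hj' f => by
        show ((u ≫ q) ≫ π j hj) ≫ F.map f = (u ≫ q) ≫ π j' hj'
        rw [Category.assoc, hπ j j' hj hj' f]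
      refine (huniv X _ hτ).unique (fun j h => rfl) (fun j h => ?_)
      have h3 := huu' j (Finset.mem_insert_of_mem h)
      rw [p_in j h] at h3
      show (u' ≫ q) ≫ π j h = (u ≫ q) ≫ π j h
      rw [Category.assoc, Category.assoc]
      exact h3.symm
    · have h3 := huu' s' (Finset.mem_insert_self s' S)
      rw [p_new] at h3
      exact h3

theorem rep_step [FinCategory J] [HasEqualizers C] [HasPullbacks C] (S : Finset J) (s s' : J)
    (hs : s ∈ S) (hs' : s' ∉ S) (he : Nonempty (s ⟶ s') ∨ Nonempty (s' ⟶ s)) (h : Rep F S) :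
    Rep F (insert s' S) := by
  obtain ⟨L, π, hπ, huniv⟩ := h
  rcases he with ⟨⟨e⟩⟩ | ⟨⟨e⟩⟩
  · refine rep_insert F S s' hs' L π hπ huniv L (𝟙 L) (π s hs ≫ F.map e) ?_ ?_
    · intro X σ hσ u₁ hu₁
      refine ⟨u₁, Category.comp_id _, ?_⟩
      rw [← Category.assoc, hu₁ s hs]
      exact hσ s s' _ _ e
    · intro X u u' h1 _
      simpa using h1
  · refine rep_insert F S s' hs' L π hπ huniv (pullback (π s hs) (F.map e))
      (pullback.fst _ _) (pullback.snd _ _) ?_ ?_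
    · intro X σ hσ u₁ hu₁
      have hc : u₁ ≫ π s hs = σ s' (Finset.mem_insert_self s' S) ≫ F.map e := by
        rw [hu₁ s hs]
        exact (hσ s' s _ _ e).symm
      exact ⟨pullback.lift u₁ _ hc, pullback.lift_fst _ _ _, pullback.lift_snd _ _ _⟩
    · intro X u u' h1 h2
      exact pullback.hom_ext h1 h2

theorem exists_edge [FinCategory J] [IsConnected J] (S : Finset J) (hne : S.Nonempty)
    (hS : Sᶜ.Nonempty) :
    ∃ (s s' : J), s ∈ S ∧ s' ∉ S ∧ (Nonempty (s ⟶ s') ∨ Nonempty (s' ⟶ s)) := by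
  by_contra hno
  have key : ∀ {j₁ j₂ : J} (_ : j₁ ⟶ j₂), j₁ ∈ (↑S : Set J) ↔ j₂ ∈ (↑S : Set J) := by
    intro j₁ j₂ f
    constructor
    · intro h1
      by_contra h2
      exact hno ⟨j₁, j₂, h1, h2, Or.inl ⟨f⟩⟩
    · intro h2
      by_contra h1
      exact hno ⟨j₂, j₁, h2, h1, Or.inr ⟨f⟩⟩
  obtain ⟨j₀, hj₀⟩ := hne
  obtain ⟨s', hs'⟩ := hS
  have := induct_on_objects (↑S : Set J) (Finset.mem_coe.mpr hj₀) key s'
  exact (Finset.mem_compl.mp hs') (Finset.mem_coe.mp this)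

theorem rep_univ_of_rep [FinCategory J] [IsConnected J] [HasEqualizers C] [HasPullbacks C] :
    ∀ (n : ℕ) (S : Finset J), S.Nonempty → Sᶜ.card = n → Rep F S → Rep F Finset.univ := by
  intro n
  induction n with
  | zero =>
    intro S _ hn h
    have : S = Finset.univ := by
      rw [← Finset.compl_eq_empty_iff]
      exact Finset.card_eq_zero.mp hn
    rw [← this]
    exact h
  | succ n ih =>
    intro S hne hn h
    have hS : Sᶜ.Nonempty := Finset.card_pos.mp (by omega)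
    obtain ⟨s, s', hs, hs', he⟩ := exists_edge S hne hS
    apply ih (insert s' S) (Finset.insert_nonempty _ _) ?_ (rep_step F S s s' hs hs' he h)
    rw [Finset.compl_insert, Finset.card_erase_of_mem (Finset.mem_compl.mpr hs'), hn]
    omega

theorem rep_singleton [FinCategory J] [HasEqualizers C] (j₀ : J) : Rep F {j₀} := by
  apply rep_of_pre F {j₀} (F.obj j₀)
    (fun j hj => eqToHom (by rw [Finset.mem_singleton.mp hj]))
  · intro X σ hσ
    refine ⟨σ j₀ (Finset.mem_singleton_self j₀), fun j hj => ?_⟩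
    have hjj : j = j₀ := Finset.mem_singleton.mp hj
    subst hjj
    simp
  · intro X u u' h
    simpa using h j₀ (Finset.mem_singleton_self j₀)

end Aux

/-- (2) ⇒ (1): a category with equalizers and fibre products has all finite connected limits. -/
theorem result {C : Type u} [Category.{v} C] [HasEqualizers C] [HasPullbacks C]
    (J : Type) [SmallCategory J] [FinCategory J] [IsConnected J] : HasLimitsOfShape J C := by
  classical
  constructor
  intro F
  have hrep : Rep F (Finset.univ : Finset J) :=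
    rep_univ_of_rep F _ {Classical.arbitrary J} (Finset.singleton_nonempty _) rfl
      (rep_singleton F _)
  obtain ⟨L, π, hπ, huniv⟩ := hrep
  let c : Cone F :=
    { pt := L
      π :=
        { app := fun j => π j (Finset.mem_univ j)
          naturality := fun j j' f => by
            dsimp
            rw [Category.id_comp]
            exact (hπ j j' _ _ f).symm } }
  refine HasLimit.mk ⟨c, IsLimit.ofExistsUnique fun s => ?_⟩
  obtain ⟨u, hu, huniq⟩ := huniv s.pt (fun j _ => s.π.app j) (fun j j' _ _ f => s.w f)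
  exact ⟨u, fun j => hu j _, fun w hw => huniq w (fun j _ => hw j)⟩

end Groth.Agent.S6423
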