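import Groth.Statements.S6424
import Mathlib
-- import your own Groth.Agent.* helpers here

set_option autoImplicit false
open CategoryTheory CategoryTheory.Limits
universe v u
open CatLim

namespace Groth.Agent.S6424

theorem hasProduct_fin_succ {C : Type u} [Category.{v} C] [HasBinaryProducts C] :
    ∀ (n : ℕ) (f : Fin (n + 1) → C), HasProduct f
  | 0 => fun f =>
    haveI : Subsingleton (Fin (0 + 1)) := (inferInstance : Subsingleton (Fin 1))
    haveI : Nonempty (Fin (0 + 1)) := ⟨0⟩
    Limits.hasProduct_unique f
  | n + 1 => fun f =>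
    haveI := hasProduct_fin_succ (C := C) n
    HasLimit.mk ⟨_, extendFanIsLimit f (limit.isLimit _) (limit.isLimit _)⟩

theorem hasProduct_of_finite_nonempty {C : Type u} [Category.{v} C] [HasBinaryProducts C]
    {ι : Type} [Finite ι] [Nonempty ι] (f : ι → C) : HasProduct f := by
  obtain ⟨n, ⟨e⟩⟩ := Finite.exists_equiv_fin ι
  cases n with
  | zero => exact (IsEmpty.false (e (Classical.arbitrary ι))).elim
  | succ n =>
    haveI := hasProduct_fin_succ (C := C) n (fun i => f (e.symm i))
    exact hasProduct_of_equiv_of_iso (fun i => f (e.symm i)) f e (fun j => eqToIso (by simp))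

/-- (2) ⇒ (1): a category with products of pairs and equalizers has all finite nonempty limits. -/
theorem result {C : Type u} [Category.{v} C] [HasBinaryProducts C] [HasEqualizers C]
    (J : Type) [SmallCategory J] [FinCategory J] [Nonempty J] : HasLimitsOfShape J C := by
  constructor
  intro F
  haveI : HasLimit (Discrete.functor F.obj) := hasProduct_of_finite_nonempty F.obj
  haveI : Nonempty (Σ p : J × J, p.1 ⟶ p.2) :=
    ⟨⟨(Classical.arbitrary J, Classical.arbitrary J), 𝟙 _⟩⟩
  haveI : Fintype (Σ p : J × J, p.1 ⟶ p.2) := inferInstance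
  haveI : HasLimit (Discrete.functor fun f : Σ p : J × J, p.1 ⟶ p.2 => F.obj f.1.2) :=
    hasProduct_of_finite_nonempty _
  exact hasLimit_of_equalizer_and_product F

end Groth.Agent.S6424
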