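import Groth.Statements.S6425
import Mathlib
-- import your own Groth.Agent.* helpers here

set_option autoImplicit false
open CategoryTheory CategoryTheory.Limits
universe v
open CatLim

namespace Groth.Agent.S6425


theorem prod_ext_types {A B : Type v} (x y : (A ⨯ B : Type v))
    (h1 : (prod.fst : A ⨯ B ⟶ A) x = (prod.fst : A ⨯ B ⟶ A) y)
    (h2 : (prod.snd : A ⨯ B ⟶ B) x = (prod.snd : A ⨯ B ⟶ B) y) : x = y := by
  have e1 : ∀ z : (A ⨯ B : Type v),
      ((Types.binaryProductIso A B).hom z).1 = (prod.fst : A ⨯ B ⟶ A) z := fun z => by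
    have := ConcreteCategory.congr_hom (Types.binaryProductIso_hom_comp_fst A B) z
    simpa using this
  have e2 : ∀ z : (A ⨯ B : Type v),
      ((Types.binaryProductIso A B).hom z).2 = (prod.snd : A ⨯ B ⟶ B) z := fun z => by
    have := ConcreteCategory.congr_hom (Types.binaryProductIso_hom_comp_snd A B) z
    simpa using this
  have h : (Types.binaryProductIso A B).hom x = (Types.binaryProductIso A B).hom y :=
    Prod.ext (by rw [e1, e1, h1]) (by rw [e2, e2, h2])
  have h' := congrArg (Types.binaryProductIso A B).inv h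
  simpa using h'

/-- Over an index category in which any two objects map to a common object, the comparison map `colim (M
× N) → colim M × colim N` for diagrams of sets is surjective. -/
theorem result {I : Type v} [SmallCategory I]
    (hI : ∀ x y : I, ∃ (z : I) (_ : x ⟶ z) (_ : y ⟶ z), True) (M N : I ⥤ Type v) :
    Function.Surjective (prodComparison (colim : (I ⥤ Type v) ⥤ Type v) M N) := by
  intro t
  obtain ⟨i, x, hx⟩ := Types.jointly_surjective'
    ((prod.fst : colim.obj M ⨯ colim.obj N ⟶ colim.obj M) t)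
  obtain ⟨j, y, hy⟩ := Types.jointly_surjective'
    ((prod.snd : colim.obj M ⨯ colim.obj N ⟶ colim.obj N) t)
  obtain ⟨k, f, g, -⟩ := hI i j
  let α : coyoneda.obj (Opposite.op k) ⟶ M ⨯ N :=
    prod.lift (coyonedaEquiv.symm (M.map f x)) (coyonedaEquiv.symm (N.map g y))
  let z : (M ⨯ N).obj k := coyonedaEquiv α
  have hz1 : (prod.fst : M ⨯ N ⟶ M).app k z = M.map f x := by
    have := coyonedaEquiv_comp α (prod.fst : M ⨯ N ⟶ M)
    rw [← this]
    show coyonedaEquiv (prod.lift _ _ ≫ prod.fst) = _
    rw [prod.lift_fst, Equiv.apply_symm_apply]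
  have hz2 : (prod.snd : M ⨯ N ⟶ N).app k z = N.map g y := by
    have := coyonedaEquiv_comp α (prod.snd : M ⨯ N ⟶ N)
    rw [← this]
    show coyonedaEquiv (prod.lift _ _ ≫ prod.snd) = _
    rw [prod.lift_snd, Equiv.apply_symm_apply]
  refine ⟨colimit.ι (M ⨯ N) k z, ?_⟩
  apply prod_ext_types
  · have h1 : (prod.fst : colim.obj M ⨯ colim.obj N ⟶ colim.obj M)
        (prodComparison colim M N (colimit.ι (M ⨯ N) k z)) =
        colim.map (prod.fst : M ⨯ N ⟶ M) (colimit.ι (M ⨯ N) k z) := by
      have := ConcreteCategory.congr_hom (prodComparison_fst colim M N) (colimit.ι (M ⨯ N) k z)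
      simpa using this
    have h2 : colim.map (prod.fst : M ⨯ N ⟶ M) (colimit.ι (M ⨯ N) k z) =
        colimit.ι M k ((prod.fst : M ⨯ N ⟶ M).app k z) :=
      colimit.ι_map_apply (prod.fst : M ⨯ N ⟶ M) k z
    rw [h1, h2, hz1, colimit.w_apply]
    exact hx
  · have h1 : (prod.snd : colim.obj M ⨯ colim.obj N ⟶ colim.obj N)
        (prodComparison colim M N (colimit.ι (M ⨯ N) k z)) =
        colim.map (prod.snd : M ⨯ N ⟶ N) (colimit.ι (M ⨯ N) k z) := by
      have := ConcreteCategory.congr_hom (prodComparison_snd colim M N) (colimit.ι (M ⨯ N) k z)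
      simpa using this
    have h2 : colim.map (prod.snd : M ⨯ N ⟶ N) (colimit.ι (M ⨯ N) k z) =
        colimit.ι N k ((prod.snd : M ⨯ N ⟶ N).app k z) :=
      colimit.ι_map_apply (prod.snd : M ⨯ N ⟶ N) k z
    rw [h1, h2, hz2, colimit.w_apply]
    exact hy

end Groth.Agent.S6425
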