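import Groth.Statements.S6426
import Mathlib
-- import your own Groth.Agent.* helpers here

set_option autoImplicit false
open CategoryTheory CategoryTheory.Limits
universe v
open CatLim

namespace Groth.Agent.S6426

/-- Over a nonempty index category in which any two objects map to a common object, the set-theoretic
colimit of a diagram of abelian groups surjects onto its colimit in abelian groups. (The published
statement does not require the index category to be nonempty; this row assumes it, because for the
empty index category the colimit of sets is empty while the colimit of abelian groups is the zero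
group.) -/
theorem result {I : Type v} [SmallCategory I] [Nonempty I]
    (hI : ∀ x y : I, ∃ (z : I) (_ : x ⟶ z) (_ : y ⟶ z), True) (M : I ⥤ AddCommGrpCat.{v}) :
    Function.Surjective (colimit.post M (forget AddCommGrpCat.{v})) := by
  let H : AddSubgroup (colimit M : AddCommGrpCat.{v}) :=
    { carrier := {t | ∃ (i : I) (x : M.obj i), (colimit.ι M i).hom x = t}
      zero_mem' := by
        obtain ⟨i⟩ := ‹Nonempty I›
        exact ⟨i, 0, map_zero _⟩
      add_mem' := by
        rintro a b ⟨i, x, rfl⟩ ⟨j, y, rfl⟩
        obtain ⟨k, f, g, -⟩ := hI i j
        refine ⟨k, (M.map f).hom x + (M.map g).hom y, ?_⟩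
        have e1 : (colimit.ι M k).hom ((M.map f).hom x) = (colimit.ι M i).hom x :=
          congrArg (fun φ => φ.hom x) (colimit.w M f)
        have e2 : (colimit.ι M k).hom ((M.map g).hom y) = (colimit.ι M j).hom y :=
          congrArg (fun φ => φ.hom y) (colimit.w M g)
        rw [map_add, e1, e2]
      neg_mem' := by
        rintro a ⟨i, x, rfl⟩
        exact ⟨i, -x, map_neg _ _⟩ }
  have hH : ∀ t : (colimit M : AddCommGrpCat.{v}), t ∈ H := by
    intro t
    have h0 : AddCommGrpCat.ofHom (QuotientAddGroup.mk' H) = 0 := by
      apply colimit.hom_ext
      intro i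
      ext x
      have : (QuotientAddGroup.mk' H) ((colimit.ι M i).hom x) = 0 :=
        (QuotientAddGroup.eq_zero_iff _).mpr ⟨i, x, rfl⟩
      simpa using this
    have h1 : (QuotientAddGroup.mk' H) t = 0 := by
      have := congrArg (fun φ => φ.hom t) h0
      simpa using this
    exact (QuotientAddGroup.eq_zero_iff t).mp h1
  intro t
  obtain ⟨i, x, hx⟩ := hH t
  refine ⟨colimit.ι (M ⋙ forget AddCommGrpCat.{v}) i x, ?_⟩
  have := ConcreteCategory.congr_hom (colimit.ι_post M (forget AddCommGrpCat.{v}) i) x
  exact this.trans hx

end Groth.Agent.S6426
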