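import Groth.Statements.S6427
import Mathlib
-- import your own Groth.Agent.* helpers here

set_option autoImplicit false
open CategoryTheory CategoryTheory.Limits
universe v
open CatLim

namespace Groth.Agent.S6427

/-- Over an index category in which every pair of morphisms with common source can be completed to a
commutative square, colimits of sets preserve injective morphisms of diagrams. -/
theorem result {I : Type v} [SmallCategory I]
    (hI : ∀ ⦃x y z : I⦄ (f : x ⟶ y) (g : x ⟶ z), ∃ (w : I) (f' : y ⟶ w) (g' : z ⟶ w), f ≫ f' = g ≫ g')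
    {M N : I ⥤ Type v} (φ : M ⟶ N) (hφ : ∀ i, Function.Injective (φ.app i)) :
    Function.Injective (colimMap φ) := by
  intro a b hab
  obtain ⟨i, x, rfl⟩ := Types.jointly_surjective' a
  obtain ⟨j, y, rfl⟩ := Types.jointly_surjective' b
  have h1 : colimMap φ (colimit.ι M i x) = colimit.ι N i (φ.app i x) :=
    colimit.ι_map_apply φ i x
  have h2 : colimMap φ (colimit.ι M j y) = colimit.ι N j (φ.app j y) :=
    colimit.ι_map_apply φ j y
  rw [h1, h2] at hab
  have h := Types.colimit_eq hab
  have key : ∀ p q : Σ j, N.obj j, Relation.EqvGen N.ColimitTypeRel p q →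
      ∃ (k : I) (f : p.1 ⟶ k) (g : q.1 ⟶ k), N.map f p.2 = N.map g q.2 := by
    intro p q h
    induction h with
    | rel p q h =>
      obtain ⟨f, hf⟩ := h
      exact ⟨q.1, f, 𝟙 _, by rw [hf]; simp⟩
    | refl p => exact ⟨p.1, 𝟙 _, 𝟙 _, rfl⟩
    | symm p q _ ih =>
      obtain ⟨k, f, g, h⟩ := ih
      exact ⟨k, g, f, h.symm⟩
    | trans p q r _ _ ih1 ih2 =>
      obtain ⟨k, f, g, h⟩ := ih1
      obtain ⟨k', f', g', h'⟩ := ih2
      obtain ⟨w, a, b, hab⟩ := hI g f'
      refine ⟨w, f ≫ a, g' ≫ b, ?_⟩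
      rw [FunctorToTypes.map_comp_apply, FunctorToTypes.map_comp_apply, h, ← h',
        ← FunctorToTypes.map_comp_apply, ← FunctorToTypes.map_comp_apply, hab]
  obtain ⟨k, f, g, hfg⟩ := key _ _ h
  have hfg' : N.map f (φ.app i x) = N.map g (φ.app j y) := hfg
  rw [← FunctorToTypes.naturality, ← FunctorToTypes.naturality] at hfg'
  exact Types.colimit_sound' f g (hφ k hfg')

end Groth.Agent.S6427
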