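import Groth.Statements.S6428
import Mathlib
-- import your own Groth.Agent.* helpers here

set_option autoImplicit false
open CategoryTheory CategoryTheory.Limits
universe v₁ u₁ v₂ u₂ v₃ u₃
open CatLim

namespace Groth.Agent.S6428


section Aux

variable {I : Type u₁} [Category.{v₁} I] {I' : Type u₂} [Category.{v₂} I']
  {C : Type u₃} [Category.{v₃} C] (F : I ⥤ I')
  (h1 : ∀ x' : I', IsConnected (F.Fiber x'))
  (h2 : ∀ ⦃x' y' : I'⦄ (α' : x' ⟶ y'), ∃ (x y : I) (hx : F.obj x = x') (hy : F.obj y = y')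
    (α : x ⟶ y), F.map α = eqToHom hx ≫ α' ≫ eqToHom hy.symm)
  (M : I' ⥤ C)

include h1 in
theorem indep (t : Cocone (F ⋙ M)) {x' : I'} (a b : F.Fiber x') :
    (M.map (eqToHom a.2.symm) ≫ t.ι.app a.1 : M.obj x' ⟶ t.pt) =
      M.map (eqToHom b.2.symm) ≫ t.ι.app b.1 := by
  haveI := h1 x'
  refine constant_of_preserves_morphisms
    (fun a : F.Fiber x' => (M.map (eqToHom a.2.symm) ≫ t.ι.app a.1 : M.obj x' ⟶ t.pt)) ?_ a b
  intro a b φ
  have hφ : F.map φ.1 = eqToHom a.2 ≫ 𝟙 x' ≫ eqToHom b.2.symm := by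
    haveI := φ.2
    exact IsHomLift.fac' F (𝟙 x') φ.1
  have hw := t.w φ.1
  beta_reduce
  rw [← hw, Functor.comp_map, hφ, ← M.map_comp_assoc]
  simp

/-- the extension of a cocone on `F ⋙ M` to a cocone on `M`, componentwise -/
noncomputable def extApp (t : Cocone (F ⋙ M)) (x' : I') : M.obj x' ⟶ t.pt :=
  haveI := h1 x'
  M.map (eqToHom (Classical.arbitrary (F.Fiber x')).2.symm) ≫
    t.ι.app (Classical.arbitrary (F.Fiber x')).1

theorem extApp_eq (t : Cocone (F ⋙ M)) {x' : I'} (x : I) (hx : F.obj x = x') :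
    extApp F h1 M t x' = M.map (eqToHom hx.symm) ≫ t.ι.app x :=
  indep F h1 M t _ ⟨x, hx⟩

theorem extApp_self (t : Cocone (F ⋙ M)) (x : I) :
    extApp F h1 M t (F.obj x) = t.ι.app x := by
  rw [extApp_eq F h1 M t x rfl]
  simp

include h2 in
theorem extApp_naturality (t : Cocone (F ⋙ M)) {x' y' : I'} (α' : x' ⟶ y') :
    M.map α' ≫ extApp F h1 M t y' = extApp F h1 M t x' := by
  obtain ⟨x, y, hx, hy, α, hα⟩ := h2 α'
  subst hx hy
  rw [extApp_eq F h1 M t x rfl, extApp_eq F h1 M t y rfl, ← t.w α, Functor.comp_map, hα]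
  simp

/-- the extension of a cocone on `F ⋙ M` to a cocone on `M` -/
noncomputable def extCocone (t : Cocone (F ⋙ M)) : Cocone M where
  pt := t.pt
  ι :=
    { app := fun x' => extApp F h1 M t x'
      naturality := fun x' y' α' => by
        have := extApp_naturality F h1 h2 M t α'
        simp only [Functor.const_obj_obj, Functor.const_obj_map, Category.comp_id]
        exact this }

/-- extension of a colimit cocone is a colimit cocone -/
noncomputable def isColimitExt (t : Cocone (F ⋙ M)) (ht : IsColimit t) :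
    IsColimit (extCocone F h1 h2 M t) where
  desc s := ht.desc (s.whisker F)
  fac s x' := by
    haveI := h1 x'
    obtain ⟨a⟩ := (inferInstance : Nonempty (F.Fiber x'))
    show extApp F h1 M t x' ≫ ht.desc (s.whisker F) = s.ι.app x'
    rw [extApp_eq F h1 M t a.1 a.2, Category.assoc, ht.fac]
    exact s.w (eqToHom a.2.symm)
  uniq s m hm := by
    apply ht.hom_ext
    intro x
    rw [ht.fac]
    have := hm (F.obj x)
    change extApp F h1 M t (F.obj x) ≫ m = s.ι.app (F.obj x) at this
    rw [extApp_self] at this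
    exact this

/-- restriction of a colimit cocone is a colimit cocone -/
noncomputable def isColimitWhisker (s : Cocone M) (hs : IsColimit s) :
    IsColimit (s.whisker F) where
  desc t := hs.desc (extCocone F h1 h2 M t)
  fac t x := by
    show s.ι.app (F.obj x) ≫ hs.desc (extCocone F h1 h2 M t) = t.ι.app x
    rw [hs.fac]
    exact extApp_self F h1 M t x
  uniq t m hm := by
    apply hs.hom_ext
    intro x'
    refine Eq.trans ?_ (hs.fac (extCocone F h1 h2 M t) x').symm
    haveI := h1 x'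
    obtain ⟨a⟩ := (inferInstance : Nonempty (F.Fiber x'))
    show s.ι.app x' ≫ m = extApp F h1 M t x'
    rw [extApp_eq F h1 M t a.1 a.2, ← hm a.1]
    show s.ι.app x' ≫ m = M.map (eqToHom a.2.symm) ≫ s.ι.app (F.obj a.1) ≫ m
    rw [← Category.assoc, s.w]

end Aux

/-- If `F : I ⥤ I'` has connected fibre categories and is surjective on morphisms, then for every
diagram `M : I' ⥤ C` the colimit of `F ⋙ M` exists if and only if that of `M` does, and the
canonical comparison between them is then an isomorphism. -/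
theorem result {I : Type u₁} [Category.{v₁} I] {I' : Type u₂} [Category.{v₂} I'] {C : Type u₃} [Category.{v₃} C] (F : I ⥤ I')
    (h1 : ∀ x' : I', IsConnected (F.Fiber x'))
    (h2 : ∀ ⦃x' y' : I'⦄ (α' : x' ⟶ y'), ∃ (x y : I) (hx : F.obj x = x') (hy : F.obj y = y') (α : x ⟶ y), F.map α = eqToHom hx ≫ α' ≫ eqToHom hy.symm)
    (M : I' ⥤ C) :
    (HasColimit (F ⋙ M) ↔ HasColimit M) ∧ ∀ [HasColimit (F ⋙ M)] [HasColimit M], IsIso (colimit.pre M F) := by
  refine ⟨⟨fun h => ?_, fun h => ?_⟩, ?_⟩
  · exact HasColimit.mk ⟨_, isColimitExt F h1 h2 M _ (colimit.isColimit (F ⋙ M))⟩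
  · exact HasColimit.mk ⟨_, isColimitWhisker F h1 h2 M _ (colimit.isColimit M)⟩
  · intro _ _
    have : colimit.pre M F = (IsColimit.coconePointUniqueUpToIso (colimit.isColimit (F ⋙ M))
        (isColimitWhisker F h1 h2 M _ (colimit.isColimit M))).hom := rfl
    rw [this]
    infer_instance

end Groth.Agent.S6428
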