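import Groth.Statements.S6429
import Mathlib
-- import your own Groth.Agent.* helpers here

set_option autoImplicit false
open CategoryTheory CategoryTheory.MonoidalCategory
universe v u
open MonCat

namespace Groth.Agent.S6429

/-- An object `X` of a monoidal category is invertible (some `X'` has `X ⊗ X' ≅ 𝟙` and `X' ⊗ X ≅ 𝟙`) if
and only if tensoring on the left by `X` is an equivalence, if and only if tensoring on the right by
`X` is an equivalence. -/
theorem result {C : Type u} [Category.{v} C] [MonoidalCategory C] (X : C) :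
    ((tensorLeft X).IsEquivalence ↔ ∃ X' : C, Nonempty (X ⊗ X' ≅ 𝟙_ C) ∧ Nonempty (X' ⊗ X ≅ 𝟙_ C)) ∧
      ((tensorRight X).IsEquivalence ↔ ∃ X' : C, Nonempty (X ⊗ X' ≅ 𝟙_ C) ∧ Nonempty (X' ⊗ X ≅ 𝟙_ C)) := by
  constructor
  · constructor
    · intro h
      let X' := (tensorLeft X).objPreimage (𝟙_ C)
      let e₁ : X ⊗ X' ≅ 𝟙_ C := (tensorLeft X).objObjPreimageIso (𝟙_ C)
      refine ⟨X', ⟨e₁⟩, ⟨?_⟩⟩
      let i : (tensorLeft X).obj (X' ⊗ X) ≅ (tensorLeft X).obj (𝟙_ C) :=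
        (α_ X X' X).symm ≪≫ whiskerRightIso e₁ X ≪≫ λ_ X ≪≫ (ρ_ X).symm
      exact (tensorLeft X).preimageIso i
    · rintro ⟨X', ⟨e₁⟩, ⟨e₂⟩⟩
      exact Functor.IsEquivalence.mk' (tensorLeft X')
        ((leftUnitorNatIso C).symm ≪≫ (tensoringLeft C).mapIso e₂.symm ≪≫ tensorLeftTensor X' X)
        ((tensorLeftTensor X X').symm ≪≫ (tensoringLeft C).mapIso e₁ ≪≫ leftUnitorNatIso C)
  · constructor
    · intro h
      let X' := (tensorRight X).objPreimage (𝟙_ C)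
      let e₂ : X' ⊗ X ≅ 𝟙_ C := (tensorRight X).objObjPreimageIso (𝟙_ C)
      refine ⟨X', ⟨?_⟩, ⟨e₂⟩⟩
      let i : (tensorRight X).obj (X ⊗ X') ≅ (tensorRight X).obj (𝟙_ C) :=
        α_ X X' X ≪≫ whiskerLeftIso X e₂ ≪≫ ρ_ X ≪≫ (λ_ X).symm
      exact (tensorRight X).preimageIso i
    · rintro ⟨X', ⟨e₁⟩, ⟨e₂⟩⟩
      exact Functor.IsEquivalence.mk' (tensorRight X')
        ((rightUnitorNatIso C).symm ≪≫ (tensoringRight C).mapIso e₁.symm ≪≫
          tensorRightTensor X X')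
        ((tensorRightTensor X' X).symm ≪≫ (tensoringRight C).mapIso e₂ ≪≫ rightUnitorNatIso C)

end Groth.Agent.S6429
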