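import Groth.Statements.S6430
import Mathlib
import Groth.Agent.Lib.Helper10.Fib2

set_option autoImplicit false
open CategoryTheory
universe v₂ u₂ v u
open FibCat

namespace Groth.Agent.S6430

/-- For a fibred category `p : 𝒮 ⥤ C`, the wide subcategory of `𝒮` on the strongly cartesian morphisms
is fibred in groupoids over `C`. -/
theorem result {C : Type u} [Category.{v} C] {𝒮 : Type u₂} [Category.{v₂} 𝒮] (p : 𝒮 ⥤ C) [p.IsFibered] :
    FibCat.IsFibGrpd (FibCat.cartSubProj p) := by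
  constructor
  · intro x V f
    have key : ∀ f' : V ⟶ p.obj x.obj, ∃ (y : FibCat.cartSub p) (φ : y ⟶ x),
        p.IsHomLift f' ((wideSubcategoryInclusion (FibCat.cartMor p)).map φ) := by
      intro f'
      obtain ⟨y, φ, hφ⟩ := Groth.Agent.Lib.Helper10.Fib.exists_sc p (a := x.obj) f'
      have := hφ
      have hsc : p.IsStronglyCartesian (p.map φ) φ := Groth.Agent.Lib.Helper10.Fib.sc_map p f' φ
      exact ⟨⟨y⟩, ⟨φ, hsc⟩, (inferInstance : p.IsHomLift f' φ)⟩
    obtain ⟨y, φ, hφ⟩ := key f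
    exact ⟨y, φ, @Groth.Agent.Lib.Helper10.Fib.isHomLift_comp_map _ _ _ _ _ _
      (wideSubcategoryInclusion (FibCat.cartMor p)) p _ _ _ _ f φ hφ⟩
  · intro y x φ
    rw [Groth.Agent.Lib.Helper10.Fib.sc_map_iff]
    intro c g φ' hφ'
    have hφ : p.IsStronglyCartesian (p.map φ.1) φ.1 := φ.2
    have hφ'sc : p.IsStronglyCartesian (p.map φ'.1) φ'.1 := φ'.2
    obtain ⟨χ, ⟨h1, h2⟩, h3⟩ :=
      (Groth.Agent.Lib.Helper10.Fib.sc_map_iff p φ.1).1 hφ (c := c.obj) g φ'.1 hφ'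
    have hχ : p.IsStronglyCartesian (p.map χ) χ := by
      have hcomp : p.IsStronglyCartesian (p.map χ ≫ p.map φ.1) (χ ≫ φ.1) := by
        have e : p.map χ ≫ p.map φ.1 = p.map (χ ≫ φ.1) := (p.map_comp _ _).symm
        rw [e, h2]
        exact hφ'sc
      exact Functor.IsStronglyCartesian.of_comp p (f := p.map χ) (g := p.map φ.1) (φ := χ)
        (ψ := φ.1)
    refine ⟨⟨χ, hχ⟩, ⟨h1, ?_⟩, ?_⟩
    · exact InducedWideCategory.Hom.ext h2
    · rintro χ' ⟨h1', h2'⟩
      apply InducedWideCategory.Hom.ext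
      exact h3 χ'.1 ⟨h1', congrArg InducedWideCategory.Hom.hom h2'⟩

end Groth.Agent.S6430
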