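import Groth.Statements.S6433
import Mathlib

set_option autoImplicit false
open CategoryTheory
universe v u v' u'
open CatLoc

namespace Groth.Agent.S6433

/-- For a left multiplicative system `W` and a localization functor `L`, any finite family of morphisms
`L X_i ⟶ L Y` admits a common denominator: some `s : Y ⟶ Y'` in `W` and morphisms `f_i : X_i ⟶ Y'`
with `g_i = L(s)⁻¹ L(f_i)`. -/
theorem result {C : Type u} [Category.{v} C] {D : Type u'} [Category.{v'} D] (W : MorphismProperty C) (L : C ⥤ D) [L.IsLocalization W] [W.HasLeftCalculusOfFractions]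
    {ι : Type} [Finite ι] (X : ι → C) (Y : C) (g : ∀ i, L.obj (X i) ⟶ L.obj Y) :
    ∃ (Y' : C) (s : Y ⟶ Y') (_ : W s) (f : ∀ i, X i ⟶ Y'), ∀ i, g i ≫ L.map s = L.map (f i) := by
  classical
  cases nonempty_fintype ι
  have key : ∀ S : Finset ι, ∃ (Y' : C) (s : Y ⟶ Y') (_ : W s) (f : ∀ i, i ∈ S → (X i ⟶ Y')),
      ∀ i (hi : i ∈ S), g i ≫ L.map s = L.map (f i hi) := by
    intro S
    induction S using Finset.induction_on with
    | empty =>
      exact ⟨Y, 𝟙 Y, W.id_mem Y, fun i hi => absurd hi (Finset.notMem_empty i),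
        fun i hi => absurd hi (Finset.notMem_empty i)⟩
    | insert a S ha ih =>
      obtain ⟨Y', s, hs, f, hf⟩ := ih
      obtain ⟨φ, hφ⟩ := Localization.exists_leftFraction L W (g a)
      obtain ⟨ψ, hψ⟩ := (MorphismProperty.RightFraction.mk s hs φ.s).exists_leftFraction
      dsimp at hψ
      have hga : g a ≫ L.map φ.s = L.map φ.f := by
        rw [hφ]; exact φ.map_comp_map_s L (Localization.inverts L W)
      refine ⟨ψ.Y', s ≫ ψ.f, ?_, fun i hi => if h : i = a then
          eqToHom (by rw [h]) ≫ (φ.f ≫ ψ.s)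
        else f i (Finset.mem_of_mem_insert_of_ne hi h) ≫ ψ.f, ?_⟩
      · rw [← hψ]
        exact W.comp_mem _ _ φ.hs ψ.hs
      · intro i hi
        by_cases h : i = a
        · subst h
          dsimp only
          rw [dif_pos rfl, eqToHom_refl, Category.id_comp, ← hψ, L.map_comp, ← Category.assoc, hga,
            ← L.map_comp]
        · dsimp only
          rw [dif_neg h, L.map_comp, ← Category.assoc, hf i (Finset.mem_of_mem_insert_of_ne hi h),
            ← L.map_comp]
  obtain ⟨Y', s, hs, f, hf⟩ := key Finset.univ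
  exact ⟨Y', s, hs, fun i => f i (Finset.mem_univ i), fun i => hf i (Finset.mem_univ i)⟩

end Groth.Agent.S6433
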