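import Groth.Statements.S6437
import Mathlib
import Mathlib

set_option autoImplicit false
open CategoryTheory CategoryTheory.Limits
universe v
open CatLim

namespace Groth.Agent.S6437

section
variable {I : Type v} [SmallCategory I]
    (h1 : ∀ ⦃w x y : I⦄ (a : w ⟶ x) (b : w ⟶ y), ∃ (z : I) (c : x ⟶ z) (d : y ⟶ z), a ≫ c = b ≫ d)
    (h2 : ∀ ⦃x y : I⦄ (a b : x ⟶ y), ∃ (z : I) (c : y ⟶ z), a ≫ c = b ≫ c)

include h1 in
lemma ι_eq_imp (G : I ⥤ Type v) {k k' : I} {t : G.obj k} {t' : G.obj k'}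
    (h : colimit.ι G k t = colimit.ι G k' t') :
    ∃ (z : I) (c : k ⟶ z) (d : k' ⟶ z), G.map c t = G.map d t' := by
  have h := Types.colimit_eq h
  have key : ∀ p q : Σ j, G.obj j, Relation.EqvGen G.ColimitTypeRel p q →
      ∃ (k : I) (f : p.1 ⟶ k) (g : q.1 ⟶ k), G.map f p.2 = G.map g q.2 := by
    intro p q h
    induction h with
    | rel p q h =>
      obtain ⟨f, hf⟩ := h
      exact ⟨q.1, f, 𝟙 _, by rw [hf]; simp⟩
    | refl p => exact ⟨p.1, 𝟙 _, 𝟙 _, rfl⟩
    | symm p q _ ih =>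
      obtain ⟨k, f, g, h⟩ := ih
      exact ⟨k, g, f, h.symm⟩
    | trans p q r _ _ ih1 ih2 =>
      obtain ⟨k, f, g, h⟩ := ih1
      obtain ⟨k', f', g', h'⟩ := ih2
      obtain ⟨w, a, b, hab⟩ := h1 g f'
      refine ⟨w, f ≫ a, g' ≫ b, ?_⟩
      rw [FunctorToTypes.map_comp_apply, FunctorToTypes.map_comp_apply, h, ← h',
        ← FunctorToTypes.map_comp_apply, ← FunctorToTypes.map_comp_apply, hab]
  exact key _ _ h

include h1 h2 in
lemma under_isFiltered (k₀ : I) : IsFiltered (Under k₀) := by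
  haveI : IsFilteredOrEmpty (Under k₀) := by
    constructor
    · intro A B
      obtain ⟨z, c, d, hcd⟩ := h1 A.hom B.hom
      exact ⟨Under.mk (A.hom ≫ c), Under.homMk c rfl, Under.homMk d hcd.symm, trivial⟩
    · intro A B f g
      obtain ⟨z, c, hc⟩ := h2 f.right g.right
      refine ⟨Under.mk (B.hom ≫ c), Under.homMk c rfl, ?_⟩
      apply Under.UnderMorphism.ext
      exact hc
  haveI : Nonempty (Under k₀) := ⟨Under.mk (𝟙 k₀)⟩
  exact {}

lemma pre_ι (G : I ⥤ Type v) (k₀ : I) (A : Under k₀) (x : G.obj A.right) :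
    colimit.pre G (Under.forget k₀) (colimit.ι (Under.forget k₀ ⋙ G) A x) =
      colimit.ι G A.right x :=
  ConcreteCategory.congr_hom (colimit.ι_pre G (Under.forget k₀) A) x

lemma pre_colimMap {G G' : I ⥤ Type v} (α : G ⟶ G') (k₀ : I)
    (x : colimit (Under.forget k₀ ⋙ G)) :
    colimMap α (colimit.pre G (Under.forget k₀) x) =
      colimit.pre G' (Under.forget k₀) (colimMap (Functor.whiskerLeft (Under.forget k₀) α) x) :=
  ConcreteCategory.congr_hom (colimit.pre_map α (Under.forget k₀)) x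

include h1 h2 in
lemma pre_injective (G : I ⥤ Type v) (k₀ : I) :
    Function.Injective (colimit.pre G (Under.forget k₀)) := by
  intro a b hab
  obtain ⟨A, x, rfl⟩ := Types.jointly_surjective' a
  obtain ⟨B, y, rfl⟩ := Types.jointly_surjective' b
  have hab' : colimit.ι G A.right x = colimit.ι G B.right y :=
    (pre_ι G k₀ A x).symm.trans (hab.trans (pre_ι G k₀ B y))
  obtain ⟨z, c, d, hcd⟩ := ι_eq_imp h1 G hab'
  obtain ⟨z', e, he⟩ := h2 (A.hom ≫ c) (B.hom ≫ d)
  let f : A ⟶ Under.mk (A.hom ≫ c ≫ e) := Under.homMk (c ≫ e) rfl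
  let g : B ⟶ Under.mk (A.hom ≫ c ≫ e) := Under.homMk (d ≫ e) (by
    show B.hom ≫ d ≫ e = A.hom ≫ c ≫ e
    rw [← Category.assoc, ← he, Category.assoc])
  apply Types.colimit_sound' f g
  have e1 : G.map (c ≫ e) x = G.map e (G.map c x) := FunctorToTypes.map_comp_apply G c e x
  have e2 : G.map (d ≫ e) y = G.map e (G.map d y) := FunctorToTypes.map_comp_apply G d e y
  exact e1.trans ((congrArg (G.map e) hcd).trans e2.symm)

/-- membership in the image of the comparison map -/
def InR (G : I ⥤ Type v) (k₀ : I) (x : colimit G) : Prop :=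
  ∃ x' : colimit (Under.forget k₀ ⋙ G), colimit.pre G (Under.forget k₀) x' = x

lemma inR_ι (G : I ⥤ Type v) {k₀ z : I} (u : k₀ ⟶ z) (t : G.obj z) :
    InR G k₀ (colimit.ι G z t) :=
  ⟨colimit.ι (Under.forget k₀ ⋙ G) (Under.mk u) t, pre_ι G k₀ (Under.mk u) t⟩

lemma inR_map {G G' : I ⥤ Type v} (α : G ⟶ G') {k₀ : I} {x : colimit G} (hx : InR G k₀ x) :
    InR G' k₀ (colimMap α x) := by
  obtain ⟨x', rfl⟩ := hx
  exact ⟨_, (pre_colimMap α k₀ x').symm⟩

include h1 in
lemma inR_of_map {G G' : I ⥤ Type v} (α : G' ⟶ G) {k₀ : I} {x' : colimit G'}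
    (hx : InR G k₀ (colimMap α x')) : InR G' k₀ x' := by
  obtain ⟨k', t', rfl⟩ := Types.jointly_surjective' x'
  obtain ⟨y', hy'⟩ := hx
  obtain ⟨A, t, rfl⟩ := Types.jointly_surjective' y'
  have hy'' : colimit.ι G A.right t = colimit.ι G k' (α.app k' t') :=
    (pre_ι G k₀ A t).symm.trans (hy'.trans (colimit.ι_map_apply α k' t'))
  obtain ⟨z, c, d, -⟩ := ι_eq_imp h1 G hy''
  rw [← colimit.w_apply G' d t']
  exact inR_ι G' (A.hom ≫ c) _

include h1 h2 in
theorem main (J : Type) [SmallCategory J] [FinCategory J] [IsConnected J] :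
    PreservesLimitsOfShape J (colim : (I ⥤ Type v) ⥤ Type v) := by
  constructor
  intro K
  constructor
  intro c hc
  rw [Types.isLimit_iff]
  intro s hs
  let j₀ : J := Classical.arbitrary J
  obtain ⟨k₀, t₀, ht₀⟩ := Types.jointly_surjective' (s j₀)
  haveI := under_isFiltered h1 h2 k₀
  have hin : ∀ j, InR (K.obj j) k₀ (s j) := by
    intro j
    refine induct_on_objects {j | InR (K.obj j) k₀ (s j)} (j₀ := j₀) ?_ ?_ j
    · show InR (K.obj j₀) k₀ (s j₀)
      rw [← ht₀]
      exact inR_ι (K.obj j₀) (𝟙 k₀) t₀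
    · intro j₁ j₂ f
      have hf : colimMap (K.map f) (s j₁) = s j₂ := hs f
      constructor
      · intro h
        show InR (K.obj j₂) k₀ (s j₂)
        rw [← hf]
        exact inR_map (K.map f) h
      · intro h
        have h' : InR (K.obj j₂) k₀ (colimMap (K.map f) (s j₁)) := by
          rw [hf]
          exact h
        exact inR_of_map h1 (K.map f) h'
  choose s' hs' using hin
  let W := (Functor.whiskeringLeft (Under k₀) I (Type v)).obj (Under.forget k₀)
  have hcU : IsLimit (W.mapCone c) := isLimitOfPreserves W hc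
  haveI : PreservesLimitsOfShape J (colim : (Under k₀ ⥤ Type v) ⥤ Type v) :=
    PreservesFiniteLimits.preservesFiniteLimits J
  have hcU' : IsLimit (colim.mapCone (W.mapCone c)) := isLimitOfPreserves colim hcU
  have key := (Types.isLimit_iff _).1 ⟨hcU'⟩
  have hs'sec : (fun j => s' j) ∈ ((K ⋙ W) ⋙ colim).sections := by
    intro j₁ j₂ f
    apply pre_injective h1 h2 (K.obj j₂) k₀
    have hf : colimMap (K.map f) (s j₁) = s j₂ := hs f
    have e := pre_colimMap (K.map f) k₀ (s' j₁)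
    exact e.symm.trans ((congrArg (colimMap (K.map f)) (hs' j₁)).trans (hf.trans (hs' j₂).symm))
  obtain ⟨x', hx', hux'⟩ := key _ hs'sec
  refine ⟨colimit.pre c.pt (Under.forget k₀) x', ?_, ?_⟩
  · intro j
    have e := pre_colimMap (G := c.pt) (G' := K.obj j) (c.π.app j) k₀ x'
    exact e.trans ((congrArg _ (hx' j)).trans (hs' j))
  · intro y hy
    have hy0 : InR c.pt k₀ y := by
      apply inR_of_map h1 (c.π.app j₀)
      have : colimMap (c.π.app j₀) y = s j₀ := hy j₀
      rw [this, ← ht₀]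
      exact inR_ι _ (𝟙 k₀) t₀
    obtain ⟨y', rfl⟩ := hy0
    congr 1
    apply hux'
    intro j
    apply pre_injective h1 h2 (K.obj j) k₀
    have e := pre_colimMap (G := c.pt) (G' := K.obj j) (c.π.app j) k₀ y'
    exact e.symm.trans ((hy j).trans (hs' j).symm)

end

/-- Over an index category in which spans can be completed to commutative squares and parallel pairs can
be coequalized (a disjoint union of filtered categories), colimits of sets commute with finite
connected limits. -/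
theorem result {I : Type v} [SmallCategory I]
    (h1 : ∀ ⦃w x y : I⦄ (a : w ⟶ x) (b : w ⟶ y), ∃ (z : I) (c : x ⟶ z) (d : y ⟶ z), a ≫ c = b ≫ d)
    (h2 : ∀ ⦃x y : I⦄ (a b : x ⟶ y), ∃ (z : I) (c : y ⟶ z), a ≫ c = b ≫ c)
    (J : Type) [SmallCategory J] [FinCategory J] [IsConnected J] :
    PreservesLimitsOfShape J (colim : (I ⥤ Type v) ⥤ Type v) := by
  exact main h1 h2 J

end Groth.Agent.S6437
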