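import Groth.Statements.S6438
import Groth.Agent.Lib.Helper5.FinGen

set_option autoImplicit false
open CategoryTheory
universe v u
open CatLim

namespace Groth.Agent.S6438

/-- A category with finitely many objects whose morphisms are generated under composition by finitely
many of them receives a functor from a finite category which is both final and initial, the finite
category being connected (resp. nonempty) exactly when the given one is. (The published statement
says that limits and colimits of every diagram are computed after restriction along the functor;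
this is expressed here through finality and initiality.) -/
theorem result {I : Type u} [Category.{v} I] [Finite I]
    (gen : Finset (Σ x y : I, x ⟶ y))
    (hgen : ∀ P : MorphismProperty I, P.IsMultiplicative → (∀ a ∈ gen, P a.2.2) → P = ⊤) :
    ∃ (J : Type) (_ : SmallCategory J) (_ : FinCategory J) (F : J ⥤ I),
      F.Final ∧ F.Initial ∧ (IsConnected J ↔ IsConnected I) ∧ (Nonempty J ↔ Nonempty I) := by
  classical
  let G : Type (max u v) := {a // a ∈ gen}
  let src : G → I := fun a => a.1.1
  let tgt : G → I := fun a => a.1.2.1
  let arr : ∀ a : G, src a ⟶ tgt a := fun a => a.1.2.2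
  have hgen' : ∀ P : MorphismProperty I, P.IsMultiplicative → (∀ a, P (arr a)) → P = ⊤ :=
    fun P hP h => hgen P hP (fun a ha => h ⟨a, ha⟩)
  let J' : Type (max u v) := Lib.Helper5.FinGen.Ob src tgt arr
  letI : SmallCategory J' := inferInstanceAs (Category.{max u v} (Lib.Helper5.FinGen.Ob src tgt arr))
  haveI : Finite J' := inferInstanceAs (Finite (Lib.Helper5.FinGen.Ob src tgt arr))
  haveI : ∀ X Y : J', Finite (X ⟶ Y) := fun X Y =>
    inferInstanceAs (Finite ((X : Lib.Helper5.FinGen.Ob src tgt arr) ⟶ Y))
  letI : FinCategory J' :=
    { fintypeObj := Fintype.ofFinite _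
      fintypeHom := fun _ _ => Fintype.ofFinite _ }
  let F' : J' ⥤ I := Lib.Helper5.FinGen.fn src tgt arr
  haveI : F'.Final := Lib.Helper5.FinGen.final_fn src tgt arr hgen'
  haveI : F'.Initial := Lib.Helper5.FinGen.initial_fn src tgt arr hgen'
  let e := FinCategory.equivAsType J'
  refine ⟨FinCategory.AsType J', inferInstance, inferInstance, e.functor ⋙ F', ?_, ?_, ?_, ?_⟩
  · infer_instance
  · infer_instance
  · exact Functor.isConnected_iff_of_final (e.functor ⋙ F')
  · constructor
    · rintro ⟨j⟩
      exact ⟨(e.functor ⋙ F').obj j⟩
    · rintro ⟨x⟩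
      exact ⟨e.inverse.obj (Lib.Helper5.FinGen.pt x)⟩

end Groth.Agent.S6438
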