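import Groth.Statements.S6439
import Mathlib
-- import your own Groth.Agent.* helpers here

set_option autoImplicit false
open CategoryTheory
universe v u
open FibCat

namespace Groth.Agent.S6439


section Bicat

open Bicategory

universe w₁ v₁ u₁

variable {B : Type u₁} [Bicategory.{w₁, v₁} B] {a b : B}

theorem precomp_isEquivalence (c : B) (f : a ⟶ b) (g : b ⟶ a) (e1 : f ≫ g ≅ 𝟙 a)
    (e2 : g ≫ f ≅ 𝟙 b) : (Bicategory.precomp c f).IsEquivalence := by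
  refine Functor.IsEquivalence.mk' (Bicategory.precomp c g) (Iso.symm ?_) ?_
  · refine NatIso.ofComponents
      (fun h => (α_ g f h).symm ≪≫ whiskerRightIso e2 h ≪≫ λ_ h) ?_
    intro h h' η
    show g ◁ f ◁ η ≫ (α_ g f h').inv ≫ e2.hom ▷ h' ≫ (λ_ h').hom =
      ((α_ g f h).inv ≫ e2.hom ▷ h ≫ (λ_ h).hom) ≫ η
    rw [associator_inv_naturality_right_assoc, whisker_exchange_assoc,
      leftUnitor_naturality, Category.assoc, Category.assoc]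
  · refine NatIso.ofComponents
      (fun h => (α_ f g h).symm ≪≫ whiskerRightIso e1 h ≪≫ λ_ h) ?_
    intro h h' η
    show f ◁ g ◁ η ≫ (α_ f g h').inv ≫ e1.hom ▷ h' ≫ (λ_ h').hom =
      ((α_ f g h).inv ≫ e1.hom ▷ h ≫ (λ_ h).hom) ≫ η
    rw [associator_inv_naturality_right_assoc, whisker_exchange_assoc,
      leftUnitor_naturality, Category.assoc, Category.assoc]

theorem postcomp_isEquivalence (c : B) (f : a ⟶ b) (g : b ⟶ a) (e1 : f ≫ g ≅ 𝟙 a)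
    (e2 : g ≫ f ≅ 𝟙 b) : (Bicategory.postcomp c f).IsEquivalence := by
  refine Functor.IsEquivalence.mk' (Bicategory.postcomp c g) (Iso.symm ?_) ?_
  · refine NatIso.ofComponents
      (fun h => α_ h f g ≪≫ whiskerLeftIso h e1 ≪≫ ρ_ h) ?_
    intro h h' η
    show η ▷ f ▷ g ≫ (α_ h' f g).hom ≫ h' ◁ e1.hom ≫ (ρ_ h').hom =
      ((α_ h f g).hom ≫ h ◁ e1.hom ≫ (ρ_ h).hom) ≫ η
    rw [associator_naturality_left_assoc, ← whisker_exchange_assoc,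
      rightUnitor_naturality, Category.assoc, Category.assoc]
  · refine NatIso.ofComponents
      (fun h => α_ h g f ≪≫ whiskerLeftIso h e2 ≪≫ ρ_ h) ?_
    intro h h' η
    show η ▷ g ▷ f ≫ (α_ h' g f).hom ≫ h' ◁ e2.hom ≫ (ρ_ h').hom =
      ((α_ h g f).hom ≫ h ◁ e2.hom ≫ (ρ_ h).hom) ≫ η
    rw [associator_naturality_left_assoc, ← whisker_exchange_assoc,
      rightUnitor_naturality, Category.assoc, Category.assoc]

end Bicat

/-- For categories fibred in groupoids over `C` and equivalences `φ : 𝒮₁ ⟶ 𝒮₂`, `ψ : 𝒮₃ ⟶ 𝒮₄` over `C`,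
the functor `α ↦ ψ ∘ α ∘ φ` between the categories of functors over `C` is an equivalence of
categories. -/
theorem result {C : Type u} [Category.{v} C] {𝒮₁ 𝒮₂ 𝒮₃ 𝒮₄ : BasedCategory.{v, max u v} C}
    (h₁ : FibCat.IsFibGrpd 𝒮₁.p) (h₂ : FibCat.IsFibGrpd 𝒮₂.p) (h₃ : FibCat.IsFibGrpd 𝒮₃.p) (h₄ : FibCat.IsFibGrpd 𝒮₄.p)
    (φ : 𝒮₁ ⟶ 𝒮₂) (ψ : 𝒮₃ ⟶ 𝒮₄) (hφ : FibCat.IsEquivOver φ) (hψ : FibCat.IsEquivOver ψ) :
    (Bicategory.precomp 𝒮₃ φ ⋙ Bicategory.postcomp 𝒮₁ ψ).IsEquivalence := by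
  obtain ⟨φ', ⟨e1⟩, ⟨e2⟩⟩ := hφ
  obtain ⟨ψ', ⟨e3⟩, ⟨e4⟩⟩ := hψ
  haveI : (Bicategory.precomp 𝒮₃ φ).IsEquivalence :=
    precomp_isEquivalence 𝒮₃ φ φ' e1 e2
  haveI : (Bicategory.postcomp 𝒮₁ ψ).IsEquivalence :=
    postcomp_isEquivalence 𝒮₁ ψ ψ' e3 e4
  infer_instance

end Groth.Agent.S6439
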