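import Groth.Statements.S6442
import Mathlib

set_option autoImplicit false
open CategoryTheory CategoryTheory.Limits Opposite
universe u
open SiteMisc

namespace Groth.Agent.S6442

/-- An object `U` of a site is weakly contractible, i.e. for every covering sieve `S` the sheafified map
`(∐_{V → U ∈ S} h_V)^# ⟶ h_U^#` has a section, if and only if taking sections over `U` turns
epimorphisms of sheaves of sets into surjections. (Coverings are taken as covering sieves; the
coproduct is formed in presheaves and then sheafified.) -/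
theorem result {C : Type u} [SmallCategory C] (J : GrothendieckTopology C) (U : C) :
    (∀ S : Sieve U, S ∈ J U →
      IsSplitEpi ((presheafToSheaf J (Type u)).map
        (Sigma.desc (fun i : (Σ V : C, {f : V ⟶ U // S f}) => yoneda.map i.2.1) :
          (∐ fun i : (Σ V : C, {f : V ⟶ U // S f}) => yoneda.obj i.1) ⟶ yoneda.obj U))) ↔
    ∀ (F G : Sheaf J (Type u)) (φ : F ⟶ G), Epi φ → Function.Surjective (φ.hom.app (op U)) := by
  classical
  let adj := sheafificationAdjunction J (Type u)
  constructor
  · intro hsplit F G φ hφ t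
    haveI := hφ
    haveI : Sheaf.IsLocallySurjective φ := (Sheaf.isLocallySurjective_iff_epi φ).2 hφ
    let S : Sieve U := Presheaf.imageSieve φ.hom t
    have hS : S ∈ J U := Presheaf.imageSieve_mem J φ.hom (U := op U) t
    obtain ⟨⟨σ, hσ⟩⟩ := hsplit S hS
    -- choose local lifts
    have hx : ∀ i : (Σ V : C, {f : V ⟶ U // S f}), ∃ x : F.obj.obj (op i.1),
        φ.hom.app _ x = G.obj.map i.2.1.op t := fun i => i.2.2
    choose x hx using hx
    let P : Cᵒᵖ ⥤ Type u := ∐ fun i : (Σ V : C, {f : V ⟶ U // S f}) => yoneda.obj i.1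
    let d : P ⟶ yoneda.obj U :=
      Sigma.desc (fun i : (Σ V : C, {f : V ⟶ U // S f}) => yoneda.map i.2.1)
    let ψ : P ⟶ F.obj := Sigma.desc (fun i => yonedaEquiv.symm (x i))
    let that : yoneda.obj U ⟶ G.obj := yonedaEquiv.symm t
    have hcomm : ψ ≫ φ.hom = d ≫ that := by
      apply Sigma.hom_ext
      intro i
      rw [Sigma.ι_desc_assoc, Sigma.ι_desc_assoc]
      apply yonedaEquiv.injective
      rw [yonedaEquiv_comp, Equiv.apply_symm_apply, hx i]
      rw [← yonedaEquiv_naturality, Equiv.apply_symm_apply]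
    let ψ' : (presheafToSheaf J (Type u)).obj P ⟶ F := (adj.homEquiv P F).symm ψ
    let t' : (presheafToSheaf J (Type u)).obj (yoneda.obj U) ⟶ G :=
      (adj.homEquiv (yoneda.obj U) G).symm that
    have hcomm' : ψ' ≫ φ = (presheafToSheaf J (Type u)).map d ≫ t' := by
      apply (adj.homEquiv P G).injective
      rw [Adjunction.homEquiv_naturality_right, Adjunction.homEquiv_naturality_left,
        Equiv.apply_symm_apply, Equiv.apply_symm_apply]
      exact hcomm
    let s' : (presheafToSheaf J (Type u)).obj (yoneda.obj U) ⟶ F := σ ≫ ψ'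
    have hs' : s' ≫ φ = t' := by
      change (σ ≫ ψ') ≫ φ = t'
      rw [Category.assoc, hcomm', ← Category.assoc, hσ, Category.id_comp]
    refine ⟨yonedaEquiv (adj.homEquiv (yoneda.obj U) F s'), ?_⟩
    have h1 : adj.homEquiv (yoneda.obj U) F s' ≫ φ.hom = that := by
      have := congrArg (adj.homEquiv (yoneda.obj U) G) hs'
      rw [Adjunction.homEquiv_naturality_right, Equiv.apply_symm_apply] at this
      exact this
    rw [← yonedaEquiv_comp, h1, Equiv.apply_symm_apply]
  · intro hsurj S hS
    let P : Cᵒᵖ ⥤ Type u := ∐ fun i : (Σ V : C, {f : V ⟶ U // S f}) => yoneda.obj i.1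
    let d : P ⟶ yoneda.obj U :=
      Sigma.desc (fun i : (Σ V : C, {f : V ⟶ U // S f}) => yoneda.map i.2.1)
    have hepi : Epi ((presheafToSheaf J (Type u)).map d) := by
      constructor
      intro G g h hgh
      apply (adj.homEquiv (yoneda.obj U) G).injective
      apply yonedaEquiv.injective
      have hG : Presieve.IsSheaf J G.obj := (isSheaf_iff_isSheaf_of_type _ _).1 G.2
      apply (hG S hS).isSeparatedFor.ext
      intro V f hf
      have h2 := congrArg (adj.homEquiv P G) hgh
      rw [Adjunction.homEquiv_naturality_left, Adjunction.homEquiv_naturality_left] at h2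
      have h3 := congrArg (fun k => Sigma.ι (fun i : (Σ V : C, {f : V ⟶ U // S f}) =>
        yoneda.obj i.1) ⟨V, ⟨f, hf⟩⟩ ≫ k) h2
      dsimp only at h3
      rw [Sigma.ι_desc_assoc, Sigma.ι_desc_assoc] at h3
      rw [yonedaEquiv_naturality, yonedaEquiv_naturality, h3]
    obtain ⟨s, hs⟩ := hsurj _ _ ((presheafToSheaf J (Type u)).map d) hepi
      (yonedaEquiv (adj.unit.app (yoneda.obj U)))
    let σ := (adj.homEquiv (yoneda.obj U) ((presheafToSheaf J (Type u)).obj P)).symm
      (yonedaEquiv.symm s)
    refine ⟨⟨σ, ?_⟩⟩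
    apply (adj.homEquiv (yoneda.obj U) _).injective
    rw [Adjunction.homEquiv_naturality_right, Equiv.apply_symm_apply, Adjunction.homEquiv_id]
    apply yonedaEquiv.injective
    rw [yonedaEquiv_comp, Equiv.apply_symm_apply]
    exact hs

end Groth.Agent.S6442
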