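import Groth.Statements.S6443
import Mathlib
import Groth.Agent.Lib.Helper10.FibOver

set_option autoImplicit false
open CategoryTheory
universe v u
open FibCat

namespace Groth.Agent.S6443

/-- If a category `𝒮` fibred in groupoids over `C` is represented by `X` via `j : 𝒮 ⟶ C/X` and by `X'`
via `j' : 𝒮 ⟶ C/X'` (equivalences over `C`), then there is an isomorphism `X' ≅ X` under which `j'`
becomes 2-isomorphic to `j` over `C`. -/
theorem result {C : Type u} [Category.{v} C] {𝒮 : BasedCategory.{v, max u v} C} (h𝒮 : FibCat.IsFibGrpd 𝒮.p)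
    {X X' : C} (j : 𝒮 ⥤ᵇ FibCat.overCat X) (j' : 𝒮 ⥤ᵇ FibCat.overCat X') (hj : FibCat.IsEquivOver j) (hj' : FibCat.IsEquivOver j') :
    ∃ e : X' ≅ X, Nonempty (BasedFunctor.comp j' (⟨Over.map e.hom, Over.mapForget_eq e.hom⟩ : FibCat.overCat X' ⥤ᵇ FibCat.overCat X) ≅ j) := by
  obtain ⟨t, ⟨ht⟩⟩ := Groth.Agent.Lib.Helper10.Fib.exists_terminal_of_isRepresentable
    (𝒳 := 𝒮) ⟨X, j, hj⟩
  haveI := Groth.Agent.Lib.Helper10.Fib.IsEquivOver.isEquivalence hj
  haveI := Groth.Agent.Lib.Helper10.Fib.IsEquivOver.isEquivalence hj'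
  have hjt : Limits.IsTerminal (j.obj t) := Limits.IsTerminal.isTerminalObj j.toFunctor t ht
  have hj't : Limits.IsTerminal (j'.obj t) := Limits.IsTerminal.isTerminalObj j'.toFunctor t ht
  let i : j.obj t ≅ Over.mk (𝟙 X) := hjt.uniqueUpToIso Over.mkIdTerminal
  let i' : j'.obj t ≅ Over.mk (𝟙 X') := hj't.uniqueUpToIso Over.mkIdTerminal
  let a : (j.obj t).left ≅ X := (Over.forget X).mapIso i
  let a' : (j'.obj t).left ≅ X' := (Over.forget X').mapIso i'
  have ha : a.hom = (j.obj t).hom := by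
    have h := Over.w i.hom
    simp only [Over.mk_hom] at h
    exact (Category.comp_id _).symm.trans h
  have ha' : a'.hom = (j'.obj t).hom := by
    have h := Over.w i'.hom
    simp only [Over.mk_hom] at h
    exact (Category.comp_id _).symm.trans h
  have ws : ∀ s, (j.obj s).left = 𝒮.p.obj s := fun s => j.w_obj s
  have ws' : ∀ s, (j'.obj s).left = 𝒮.p.obj s := fun s => j'.w_obj s
  let e : X' ≅ X := a'.symm ≪≫ eqToIso ((ws' t).trans (ws t).symm) ≪≫ a
  have hs : ∀ s, (j.obj s).hom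
      = eqToHom (ws s) ≫ 𝒮.p.map (ht.from s) ≫ eqToHom (ws t).symm ≫ a.hom := by
    intro s
    have h1 : (j.map (ht.from s)).left
        = eqToHom (ws s) ≫ 𝒮.p.map (ht.from s) ≫ eqToHom (ws t).symm :=
      Functor.congr_hom j.w (ht.from s)
    have h2 : (j.map (ht.from s)).left ≫ (j.obj t).hom = (j.obj s).hom := Over.w (j.map (ht.from s))
    rw [← h2, h1, ha]
    simp only [Category.assoc]
  have hs' : ∀ s, (j'.obj s).hom
      = eqToHom (ws' s) ≫ 𝒮.p.map (ht.from s) ≫ eqToHom (ws' t).symm ≫ a'.hom := by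
    intro s
    have h1 : (j'.map (ht.from s)).left
        = eqToHom (ws' s) ≫ 𝒮.p.map (ht.from s) ≫ eqToHom (ws' t).symm :=
      Functor.congr_hom j'.w (ht.from s)
    have h2 : (j'.map (ht.from s)).left ≫ (j'.obj t).hom = (j'.obj s).hom :=
      Over.w (j'.map (ht.from s))
    rw [← h2, h1, ha']
    simp only [Category.assoc]
  refine ⟨e, ⟨Groth.Agent.Lib.Helper10.Fib.overIso _ j ?_⟩⟩
  intro s
  show (j'.obj s).hom ≫ e.hom = eqToHom ((ws' s).trans (ws s).symm) ≫ (j.obj s).hom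
  rw [hs' s, hs s]
  simp only [e, Iso.trans_hom, Iso.symm_hom, eqToIso.hom, Category.assoc, Iso.hom_inv_id_assoc,
    eqToHom_trans, eqToHom_trans_assoc]

end Groth.Agent.S6443
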