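import Groth.Statements.S6447
import Mathlib
-- import your own Groth.Agent.* helpers here

set_option autoImplicit false
open CategoryTheory CategoryTheory.Limits
universe v u
open FibCat

namespace Groth.Agent.S6447

open CategoryTheory.Limits

section
variable {X Y V : Type u} [Category.{v} X] [Category.{v} Y] [Category.{v} V] (p : X ⥤ Y) (q : V ⥤ Y)

noncomputable abbrev psi : CatCospanTransform (CategoricalPullback.π₂ p q) (CategoricalPullback.π₂ p q) p p :=
  ⟨CategoricalPullback.π₁ p q, q, CategoricalPullback.π₁ p q, ⟨(CatCommSq.iso (CategoricalPullback.π₁ p q) (CategoricalPullback.π₂ p q) p q).symm⟩, ⟨(CatCommSq.iso (CategoricalPullback.π₁ p q) (CategoricalPullback.π₂ p q) p q).symm⟩⟩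

noncomputable abbrev GG : CategoricalPullback (CategoricalPullback.π₂ p q) (CategoricalPullback.π₂ p q) ⥤
    CategoricalPullback p p := FibCat.categoricalPullbackMap (psi p q)

abbrev dU : CategoricalPullback p q ⥤
    CategoricalPullback (CategoricalPullback.π₂ p q) (CategoricalPullback.π₂ p q) :=
  (CategoricalPullback.CatCommSqOver.toFunctorToCategoricalPullback (CategoricalPullback.π₂ p q)
    (CategoricalPullback.π₂ p q) (CategoricalPullback p q)).obj ⟨𝟭 _, 𝟭 _, Iso.refl _⟩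

abbrev dX : X ⥤ CategoricalPullback p p :=
  (CategoricalPullback.CatCommSqOver.toFunctorToCategoricalPullback p p X).obj ⟨𝟭 _, 𝟭 _, Iso.refl _⟩

lemma GG_iso_hom (w : CategoricalPullback (CategoricalPullback.π₂ p q) (CategoricalPullback.π₂ p q)) :
    ((GG p q).obj w).iso.hom = w.fst.iso.hom ≫ q.map w.iso.hom ≫ w.snd.iso.inv := by
  simp [GG, FibCat.categoricalPullbackMap]
  rfl

lemma GG_map_fst {w w' : CategoricalPullback (CategoricalPullback.π₂ p q) (CategoricalPullback.π₂ p q)}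
    (m : w ⟶ w') : ((GG p q).map m).fst = m.fst.fst := rfl

lemma GG_map_snd {w w' : CategoricalPullback (CategoricalPullback.π₂ p q) (CategoricalPullback.π₂ p q)}
    (m : w ⟶ w') : ((GG p q).map m).snd = m.snd.fst := rfl

noncomputable def ee : CategoricalPullback.π₁ p q ⋙ dX p ≅ dU p q ⋙ GG p q :=
  NatIso.ofComponents (fun u => CategoricalPullback.mkIso (Iso.refl _) (Iso.refl _) (by
      show p.map (𝟙 _) ≫ ((GG p q).obj ((dU p q).obj u)).iso.hom = _
      rw [GG_iso_hom]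
      show p.map (𝟙 u.fst) ≫ u.iso.hom ≫ q.map (𝟙 u.snd) ≫ u.iso.inv = 𝟙 (p.obj u.fst) ≫ p.map (𝟙 u.fst)
      simp))
    (fun {u u'} m => by
      ext
      · show m.fst ≫ 𝟙 _ = 𝟙 _ ≫ m.fst
        simp
      · show m.fst ≫ 𝟙 _ = 𝟙 _ ≫ m.fst
        simp)

lemma ee_fst (u : CategoricalPullback p q) : ((ee p q).hom.app u).fst = 𝟙 _ := rfl
lemma ee_snd (u : CategoricalPullback p q) : ((ee p q).hom.app u).snd = 𝟙 _ := rfl

noncomputable abbrev Phi : CategoricalPullback p q ⥤ CategoricalPullback (dX p) (GG p q) :=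
  (CategoricalPullback.CatCommSqOver.toFunctorToCategoricalPullback (dX p) (GG p q)
    (CategoricalPullback p q)).obj ⟨CategoricalPullback.π₁ p q, dU p q, ee p q⟩

instance : (Phi p q).Faithful := by
  constructor
  intro u u' m m' h
  exact congrArg (fun t => t.snd.fst) h

instance : (Phi p q).Full := by
  constructor
  intro u u' h
  have hw := h.w
  have h1 : h.fst ≫ 𝟙 _ = 𝟙 _ ≫ h.snd.fst.fst := congrArg (fun t => t.fst) hw
  have h2 : h.fst ≫ 𝟙 _ = 𝟙 _ ≫ h.snd.snd.fst := congrArg (fun t => t.snd) hw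
  have h3 : h.snd.fst.snd ≫ 𝟙 _ = 𝟙 _ ≫ h.snd.snd.snd := h.snd.w
  rw [Category.comp_id, Category.id_comp] at h1 h2 h3
  have h4 : h.snd.fst = h.snd.snd := by
    apply CategoricalPullback.hom_ext
    · exact h1.symm.trans h2
    · exact h3
  refine ⟨h.snd.fst, ?_⟩
  apply CategoricalPullback.hom_ext
  · exact h1.symm
  · apply CategoricalPullback.hom_ext
    · rfl
    · exact h4

instance : (Phi p q).EssSurj := by
  constructor
  intro z
  let β₁ : z.fst ≅ z.snd.fst.fst := (CategoricalPullback.π₁ p p).mapIso z.iso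
  let β₂ : z.fst ≅ z.snd.snd.fst := (CategoricalPullback.π₂ p p).mapIso z.iso
  let α : z.snd.fst.snd ≅ z.snd.snd.snd := z.snd.iso
  have hβ : p.map β₂.hom =
      p.map β₁.hom ≫ z.snd.fst.iso.hom ≫ q.map α.hom ≫ z.snd.snd.iso.inv := by
    have h0 := z.iso.hom.w
    rw [GG_iso_hom] at h0
    have h1 : p.map β₁.hom ≫ z.snd.fst.iso.hom ≫ q.map α.hom ≫ z.snd.snd.iso.inv =
      𝟙 _ ≫ p.map β₂.hom := h0
    rw [h1, Category.id_comp]
  have hγ : p.map (β₁.symm ≪≫ β₂).hom ≫ z.snd.snd.iso.hom =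
      z.snd.fst.iso.hom ≫ q.map α.hom := by
    rw [Iso.trans_hom, Iso.symm_hom, p.map_comp, hβ]
    simp
  let γ : z.snd.fst ≅ z.snd.snd := CategoricalPullback.mkIso (β₁.symm ≪≫ β₂) α hγ
  let eR : (dU p q).obj z.snd.fst ≅ z.snd := CategoricalPullback.mkIso (Iso.refl _) γ (by
    show 𝟙 _ ≫ z.snd.iso.hom = 𝟙 _ ≫ z.snd.iso.hom
    rfl)
  refine ⟨z.snd.fst, ⟨CategoricalPullback.mkIso β₁.symm eR ?_⟩⟩
  apply CategoricalPullback.hom_ext
  · show β₁.inv ≫ β₁.hom = 𝟙 _ ≫ 𝟙 _
    simp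
  · show β₁.inv ≫ β₂.hom = 𝟙 _ ≫ (β₁.inv ≫ β₂.hom)
    simp

end

/-- For a 2-fibre product `U = X ×_Y V` of categories, the square formed by `U ⟶ X`, the diagonals `U ⟶
U ×_V U`, `X ⟶ X ×_Y X` and the induced functor `U ×_V U ⟶ X ×_Y X` is 2-cartesian. (The filling
2-isomorphism is the one whose two components at every object are identities; it exists and is
unique with that property.) -/
theorem result {X Y V : Type u} [Category.{v} X] [Category.{v} Y] [Category.{v} V] (p : X ⥤ Y) (q : V ⥤ Y) :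
    ∃ e, (∀ u, (e.hom.app u).fst = 𝟙 _ ∧ (e.hom.app u).snd = 𝟙 _) ∧ FibCat.IsTwoCart
      (CategoricalPullback.π₁ p q)
      ((CategoricalPullback.CatCommSqOver.toFunctorToCategoricalPullback (CategoricalPullback.π₂ p q) (CategoricalPullback.π₂ p q) (CategoricalPullback p q)).obj ⟨𝟭 _, 𝟭 _, Iso.refl _⟩)
      ((CategoricalPullback.CatCommSqOver.toFunctorToCategoricalPullback p p X).obj ⟨𝟭 _, 𝟭 _, Iso.refl _⟩)
      (FibCat.categoricalPullbackMap (⟨CategoricalPullback.π₁ p q, q, CategoricalPullback.π₁ p q, ⟨(CatCommSq.iso (CategoricalPullback.π₁ p q) (CategoricalPullback.π₂ p q) p q).symm⟩, ⟨(CatCommSq.iso (CategoricalPullback.π₁ p q) (CategoricalPullback.π₂ p q) p q).symm⟩⟩ : CatCospanTransform (CategoricalPullback.π₂ p q) (CategoricalPullback.π₂ p q) p p))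
      e := by
  refine ⟨ee p q, fun u => ⟨rfl, rfl⟩, ?_⟩
  show (Phi p q).IsEquivalence
  exact { }

end Groth.Agent.S6447
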