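import Groth.Statements.S6448
import Mathlib

set_option autoImplicit false
open CategoryTheory
universe v u
open CatLim

namespace Groth.Agent.S6448

/-- In a category where spans complete to commutative squares and parallel pairs are coequalized by a
later arrow, every connected component is filtered (so the category is a disjoint union of filtered
categories). -/
theorem result {I : Type u} [Category.{v} I]
    (h1 : ∀ ⦃w x y : I⦄ (a : w ⟶ x) (b : w ⟶ y), ∃ (z : I) (c : x ⟶ z) (d : y ⟶ z), a ≫ c = b ≫ d)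
    (h2 : ∀ ⦃x y : I⦄ (a b : x ⟶ y), ∃ (z : I) (c : y ⟶ z), a ≫ c = b ≫ c)
    (j : ConnectedComponents I) : IsFiltered j.Component := by
  have hR : ∀ x y : I, Zigzag x y → ∃ z : I, Nonempty (x ⟶ z) ∧ Nonempty (y ⟶ z) := by
    intro x y hxy
    induction hxy with
    | refl => exact ⟨x, ⟨𝟙 x⟩, ⟨𝟙 x⟩⟩
    | tail _ hbc ih =>
      obtain ⟨z, ⟨f⟩, ⟨g⟩⟩ := ih
      rcases hbc with ⟨⟨k⟩⟩ | ⟨⟨k⟩⟩
      · obtain ⟨w, c', d', _⟩ := h1 g k
        exact ⟨w, ⟨f ≫ c'⟩, ⟨d'⟩⟩
      · exact ⟨z, ⟨f⟩, ⟨k ≫ g⟩⟩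
  haveI : IsFilteredOrEmpty j.Component := by
    constructor
    · rintro ⟨x, hx⟩ ⟨y, hy⟩
      have hx' : (Quotient.mk'' x : ConnectedComponents I) = j := hx
      have hy' : (Quotient.mk'' y : ConnectedComponents I) = j := hy
      have hxy : Zigzag x y := Quotient.eq''.1 (hx'.trans hy'.symm)
      obtain ⟨z, ⟨f⟩, ⟨g⟩⟩ := hR x y hxy
      have hz : j.objectProperty z := by
        show (Quotient.mk'' z : ConnectedComponents I) = j
        rw [← hx']
        exact (Quotient.sound' (Zigzag.of_hom f)).symm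
      exact ⟨⟨z, hz⟩, ObjectProperty.homMk f, ObjectProperty.homMk g, trivial⟩
    · rintro ⟨x, hx⟩ ⟨y, hy⟩ f g
      have hy' : (Quotient.mk'' y : ConnectedComponents I) = j := hy
      obtain ⟨z, c, hc⟩ := h2 f.hom g.hom
      have hz : j.objectProperty z := by
        show (Quotient.mk'' z : ConnectedComponents I) = j
        rw [← hy']
        exact (Quotient.sound' (Zigzag.of_hom c)).symm
      refine ⟨⟨z, hz⟩, ObjectProperty.homMk c, ?_⟩
      ext
      exact hc
  exact {}

end Groth.Agent.S6448
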