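import Groth.Statements.S6452
import Groth.Agent.Lib.Helper14.IntMultGeoA
import Groth.Agent.Lib.Helper14.IntMultAlgA
import Groth.Agent.Lib.Helper4.KS3

set_option autoImplicit false
universe u
open CategoryTheory AlgebraicGeometry
attribute [local instance] HasDerivedCategory.standard
open IntMult

namespace Groth.Agent.S6452

/-- Suppose the ideal of V in O_{X,ξ} is generated by a regular sequence g₁, …, g_c and the local ring
O_{W,ξ} is Cohen–Macaulay. Then e(X, V·W, Z) = length_{O_{X,ξ}}(O_{W,ξ}/(g₁, …, g_c)O_{W,ξ}), i.e.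
the length of O_{X,ξ}/(I_{W,ξ} + I_{V,ξ}). Here X is a nonsingular variety over an algebraically
closed field K (smooth, separated, quasi-compact, integral), V and W are closed subvarieties given
by quasi-coherent ideal sheaves with integral subschemes, of dimensions r and s with dim X = n,
intersecting properly, and ξ is the generic point of an irreducible component Z of V ∩ W (a point of
V ∩ W maximal under specialization); e(X, V·W, Z) = IntMult.mult is the alternating sum of lengths
of Tor over O_{X,ξ}, and O_{W,ξ} = O_{X,ξ}/I_{W,ξ}. -/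
theorem result (K : Type u) [Field K] [IsAlgClosed K] (X : Scheme.{u}) (f : X ⟶ Spec (CommRingCat.of K)) [Smooth f] [IsSeparated f] [QuasiCompact f] [IsIntegral X] (IV IW : X.IdealSheafData) [IsIntegral IV.subscheme] [IsIntegral IW.subscheme] (n r s : ℕ) (hn : topologicalKrullDim X = n) (hr : topologicalKrullDim IV.support = r) (hs : topologicalKrullDim IW.support = s) (hprop : IntMult.ProperInt (IV.support : Set X) (IW.support : Set X) n r s) (ξ : X) (hξV : ξ ∈ IV.support) (hξW : ξ ∈ IW.support) (hmax : ∀ ξ' : X, ξ' ∈ IV.support → ξ' ∈ IW.support → ξ' ⤳ ξ → ξ' = ξ) (c : ℕ) (g : Fin c → ↑(X.presheaf.stalk ξ)) (hg : IntMult.stalkIdeal IV ξ = Ideal.span (Set.range g)) (hreg : RingTheory.Sequence.IsRegular (↑(X.presheaf.stalk ξ)) (List.ofFn g)) (hW : LocCoh.IsCohenMacaulayLocalRing (↑(X.presheaf.stalk ξ) ⧸ IntMult.stalkIdeal IW ξ)) : (IntMult.mult IV IW ξ : ℤ) = (Module.length (X.presheaf.stalk ξ) (↑(X.presheaf.stalk ξ) ⧸ (IntMult.stalkIdeal IW ξ ⊔ IntMult.stalkIdeal IV ξ))).toNat := by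
  classical
  haveI hRLR : IsRegularLocalRing (↑(X.presheaf.stalk ξ)) :=
    Groth.Agent.Lib.Helper26.RegularSch.isRegularLocalRing_stalk_of_smooth_field K f ξ
  obtain ⟨d, a, b, t, hd, ha, hb, hdt, hat, hbt, hle⟩ :=
    Groth.Agent.Lib.Helper14.IntMultGeo.dims K X f IV IW n r s hn hr hs hprop ξ hξV hξW
  have hI : IntMult.stalkIdeal IV ξ = Ideal.ofList (List.ofFn g) :=
    hg.trans (Groth.Agent.Lib.Helper4.KS.span_range_eq_ofList g)
  have h1 := ringKrullDim_add_length_eq_ringKrullDim_of_isRegular (List.ofFn g) hreg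
  rw [← hI, ha, hd, List.length_ofFn] at h1
  have hac : a + c = d := by exact_mod_cast h1
  have hcb : c ≤ b := by omega
  have hIm : IntMult.stalkIdeal IV ξ ≤ IsLocalRing.maximalIdeal (↑(X.presheaf.stalk ξ)) := by
    apply IsLocalRing.le_maximalIdeal
    intro htop
    rw [hI] at htop
    apply hreg.2
    rw [htop, Submodule.top_smul]
  have hJm : IntMult.stalkIdeal IW ξ ≤ IsLocalRing.maximalIdeal (↑(X.presheaf.stalk ξ)) := by
    apply IsLocalRing.le_maximalIdeal
    intro htop
    haveI := hW.toIsLocalRing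
    have : Subsingleton (↑(X.presheaf.stalk ξ) ⧸ IntMult.stalkIdeal IW ξ) := by
      rw [htop]; exact Ideal.Quotient.subsingleton_iff.mpr rfl
    exact not_subsingleton _ this
  have h0 := Groth.Agent.Lib.Helper14.IntMultAlg.ringKrullDim_quot_sup_eq_zero
    (IntMult.stalkIdeal IW ξ) (IntMult.stalkIdeal IV ξ) hJm hIm
    (fun P hP hWP hVP => by
      haveI := hP
      exact Groth.Agent.Lib.Helper14.IntMultGeo.eq_maximalIdeal_of_le IV IW ξ hmax P hVP hWP)
  unfold IntMult.mult
  rw [hI] at h0 ⊢
  apply Groth.Agent.Lib.Helper14.IntMultAlg.chi_eq_length_of_isRegular_of_cm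
    (IntMult.stalkIdeal IW ξ) (List.ofFn g) hreg hW _ h0
  rw [hb, List.length_ofFn]
  exact_mod_cast hcb

end Groth.Agent.S6452
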