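import Groth.Statements.S6453
import Groth.Agent.Lib.Lead.IntMultCartier

set_option autoImplicit false
universe u
open CategoryTheory AlgebraicGeometry
attribute [local instance] HasDerivedCategory.standard
open IntMult

namespace Groth.Agent.S6453

/-- Suppose the ideal of V in O_{X,ξ} is generated by a single nonzerodivisor g (c = 1: V is an
effective Cartier divisor at ξ). Then e(X, V·W, Z) = length_{O_{X,ξ}}(O_{W,ξ}/g O_{W,ξ}), i.e. the
length of O_{X,ξ}/(I_{W,ξ} + (g)). Here X is a nonsingular variety over an algebraically closed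
field K (smooth, separated, quasi-compact, integral), V and W are closed subvarieties given by
quasi-coherent ideal sheaves with integral subschemes, of dimensions r and s with dim X = n,
intersecting properly, and ξ is the generic point of an irreducible component Z of V ∩ W (a point of
V ∩ W maximal under specialization); e(X, V·W, Z) = IntMult.mult is the alternating sum of lengths
of Tor over O_{X,ξ}, and O_{W,ξ} = O_{X,ξ}/I_{W,ξ}. -/
theorem result (K : Type u) [Field K] [IsAlgClosed K] (X : Scheme.{u}) (f : X ⟶ Spec (CommRingCat.of K)) [Smooth f] [IsSeparated f] [QuasiCompact f] [IsIntegral X] (IV IW : X.IdealSheafData) [IsIntegral IV.subscheme] [IsIntegral IW.subscheme] (n r s : ℕ) (hn : topologicalKrullDim X = n) (hr : topologicalKrullDim IV.support = r) (hs : topologicalKrullDim IW.support = s) (hprop : IntMult.ProperInt (IV.support : Set X) (IW.support : Set X) n r s) (ξ : X) (hξV : ξ ∈ IV.support) (hξW : ξ ∈ IW.support) (hmax : ∀ ξ' : X, ξ' ∈ IV.support → ξ' ∈ IW.support → ξ' ⤳ ξ → ξ' = ξ) (g : ↑(X.presheaf.stalk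 ξ)) (hg : IntMult.stalkIdeal IV ξ = Ideal.span {g}) (hreg : IsSMulRegular (↑(X.presheaf.stalk ξ)) g) : (IntMult.mult IV IW ξ : ℤ) = (Module.length (X.presheaf.stalk ξ) (↑(X.presheaf.stalk ξ) ⧸ (IntMult.stalkIdeal IW ξ ⊔ Ideal.span {g}))).toNat := by
  classical
  by_cases hgW : g ∈ IntMult.stalkIdeal IW ξ
  · exfalso
    have hle : IntMult.stalkIdeal IV ξ ≤ IntMult.stalkIdeal IW ξ := by
      rw [hg, Ideal.span_singleton_le_iff_mem]
      exact hgW
    have hbot := Groth.Agent.Lib.Lead.IntMultCartier.stalkIdeal_eq_bot_of_le IV IW n r s hn hr hs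
      hprop ξ hξV hξW hmax hle
    rw [hg, Ideal.span_singleton_eq_bot] at hbot
    rw [hbot] at hreg
    have h10 : (1 : ↑(X.presheaf.stalk ξ)) = 0 :=
      hreg (show (0 : ↑(X.presheaf.stalk ξ)) • (1 : ↑(X.presheaf.stalk ξ)) =
        (0 : ↑(X.presheaf.stalk ξ)) • (0 : ↑(X.presheaf.stalk ξ)) by simp)
    exact one_ne_zero h10
  · obtain ⟨zW, rfl⟩ := Groth.Agent.Lib.Lead.IntMultCartier.exists_subscheme_point IW ξ hξW
    have hprime : (IntMult.stalkIdeal IW (IW.subschemeι zW)).IsPrime :=
      Groth.Agent.Lib.Lead.IntMultCartier.stalkIdeal_isPrime IW zW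
    have hMreg : IsSMulRegular (↑(X.presheaf.stalk (IW.subschemeι zW)) ⧸
        IntMult.stalkIdeal IW (IW.subschemeι zW)) g := by
      intro a b hab
      obtain ⟨a, rfl⟩ := Ideal.Quotient.mk_surjective a
      obtain ⟨b, rfl⟩ := Ideal.Quotient.mk_surjective b
      have h1 : Ideal.Quotient.mk (IntMult.stalkIdeal IW (IW.subschemeι zW)) (g * a) =
          Ideal.Quotient.mk (IntMult.stalkIdeal IW (IW.subschemeι zW)) (g * b) := hab
      rw [Ideal.Quotient.eq, ← mul_sub] at h1
      rcases hprime.mem_or_mem h1 with h | h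
      · exact absurd h hgW
      · exact Ideal.Quotient.eq.mpr h
    unfold IntMult.mult
    rw [hg]
    rw [Groth.Agent.Lib.Lead.IntMultCartier.chi_quot_span_singleton _ g hreg hMreg,
      Groth.Agent.Lib.Lead.IntMultCartier.length_quot_tensor_quot]

end Groth.Agent.S6453
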