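import Groth.Statements.S6454
import Groth.Agent.Lib.Lead.C1Cap

set_option autoImplicit false
universe u
open CategoryTheory AlgebraicGeometry
open Cyc

namespace Groth.Agent.S6454


open Groth.Agent.Lib.Lead.C1Cap Groth.Agent.Lib.Helper3 Groth.Agent.Lib.Helper3.QCSec
  Groth.Agent.Lib.Helper3.InvGen Groth.Agent.Lib.Helper3.InvTensor in
/-- A rational section of `L ⊗ N` whose order is the sum of the orders of given rational sections
of `L` and `N`. -/
theorem exists_tensor_section {X : Scheme.{u}} {L N : X.Modules} (hL : PicF.IsInvertible L)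
    (hN : PicF.IsInvertible N) (ξ : X) (sL : Cyc.secFibre L ξ) (hsL : sL ≠ 0)
    (sN : Cyc.secFibre N ξ) (hsN : sN ≠ 0) :
    ∃ sT : Cyc.secFibre (CohB1.tensorMod L N) ξ, sT ≠ 0 ∧
      ∀ (x : X) (h : ξ ⤳ x), Cyc.secOrdAt (CohB1.tensorMod L N) ξ x h sT =
        Cyc.secOrdAt L ξ x h sL + Cyc.secOrdAt N ξ x h sN := by
  obtain ⟨U₁, e₁, hξ₁, hg₁⟩ := exists_isGen hL ξ
  obtain ⟨U₂, e₂, hξ₂, hg₂⟩ := exists_isGen hN ξ
  have hξW : ξ ∈ U₁ ⊓ U₂ := ⟨hξ₁, hξ₂⟩
  have hge : IsGen L (U₁ ⊓ U₂) (res L inf_le_left e₁) := hg₁.mono inf_le_left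
  have hgf : IsGen N (U₁ ⊓ U₂) (res N inf_le_right e₂) := hg₂.mono inf_le_right
  have hgT := isGen_tm hge hgf
  obtain ⟨a, ha, rfl⟩ := exists_coord_unit hge ξ hξW sL hsL
  obtain ⟨b, hb, rfl⟩ := exists_coord_unit hgf ξ hξW sN hsN
  refine ⟨Submodule.Quotient.mk ((a * b) • (CohB1.tensorMod L N).presheaf.germ (U₁ ⊓ U₂) ξ hξW
    (tm L N (U₁ ⊓ U₂) (res L inf_le_left e₁) (res N inf_le_right e₂))), ?_, ?_⟩
  · intro h0
    rw [Submodule.Quotient.mk_eq_zero] at h0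
    have h1 := mem_of_smul_mem hgT ξ hξW _ h0
    exact (IsLocalRing.mem_maximalIdeal _).mp h1 (ha.mul hb)
  · intro x h
    obtain ⟨V₁, e₁', hx₁, hg₁'⟩ := exists_isGen hL x
    obtain ⟨V₂, e₂', hx₂, hg₂'⟩ := exists_isGen hN x
    have hxV : x ∈ V₁ ⊓ V₂ := ⟨hx₁, hx₂⟩
    have hge' : IsGen L (V₁ ⊓ V₂) (res L inf_le_left e₁') := hg₁'.mono inf_le_left
    have hgf' : IsGen N (V₁ ⊓ V₂) (res N inf_le_right e₂') := hg₂'.mono inf_le_right
    have hgT' := isGen_tm hge' hgf'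
    have hξV : ξ ∈ V₁ ⊓ V₂ := h.mem_open (V₁ ⊓ V₂).2 hxV
    have hξW' : ξ ∈ (U₁ ⊓ U₂) ⊓ (V₁ ⊓ V₂) := ⟨hξW, hξV⟩
    have hWl : (U₁ ⊓ U₂) ⊓ (V₁ ⊓ V₂) ≤ U₁ ⊓ U₂ := inf_le_left
    have hWr : (U₁ ⊓ U₂) ⊓ (V₁ ⊓ V₂) ≤ V₁ ⊓ V₂ := inf_le_right
    obtain ⟨u, hu, hue⟩ := (hge' _ hWr).exists_unit (hge _ hWl)
    obtain ⟨v, hv, hvf⟩ := (hgf' _ hWr).exists_unit (hgf _ hWl)
    have huξ : IsUnit (X.presheaf.germ _ ξ hξW' u) := hu.map _
    have hvξ : IsUnit (X.presheaf.germ _ ξ hξW' v) := hv.map _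
    have hge_germ : L.presheaf.germ (U₁ ⊓ U₂) ξ hξW (res L inf_le_left e₁) =
        X.presheaf.germ _ ξ hξW' u • L.presheaf.germ (V₁ ⊓ V₂) ξ hξV (res L inf_le_left e₁') := by
      rw [← germ_res L hWl ξ hξW' (res L inf_le_left e₁), hue, QS.germ_smul,
        germ_res L hWr ξ hξW' (res L inf_le_left e₁')]
    have hgf_germ : N.presheaf.germ (U₁ ⊓ U₂) ξ hξW (res N inf_le_right e₂) =
        X.presheaf.germ _ ξ hξW' v • N.presheaf.germ (V₁ ⊓ V₂) ξ hξV (res N inf_le_right e₂') := by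
      rw [← germ_res N hWl ξ hξW' (res N inf_le_right e₂), hvf, QS.germ_smul,
        germ_res N hWr ξ hξW' (res N inf_le_right e₂')]
    have hT_germ : (CohB1.tensorMod L N).presheaf.germ (U₁ ⊓ U₂) ξ hξW
          (tm L N (U₁ ⊓ U₂) (res L inf_le_left e₁) (res N inf_le_right e₂)) =
        (X.presheaf.germ _ ξ hξW' u * X.presheaf.germ _ ξ hξW' v) •
          (CohB1.tensorMod L N).presheaf.germ (V₁ ⊓ V₂) ξ hξV
            (tm L N (V₁ ⊓ V₂) (res L inf_le_left e₁') (res N inf_le_right e₂')) := by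
      rw [← germ_res (CohB1.tensorMod L N) hWl ξ hξW'
          (tm L N (U₁ ⊓ U₂) (res L inf_le_left e₁) (res N inf_le_right e₂)),
        tm_res, hue, hvf, tm_smul_left, tm_smul_right,
        ← tm_res L N hWr (res L inf_le_left e₁') (res N inf_le_right e₂'),
        QS.germ_smul, QS.germ_smul,
        germ_res (CohB1.tensorMod L N) hWr ξ hξW'
          (tm L N (V₁ ⊓ V₂) (res L inf_le_left e₁') (res N inf_le_right e₂')), mul_smul]
    rw [hT_germ, hge_germ, hgf_germ, ← mul_smul, ← mul_smul, ← mul_smul,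
      secOrdAt_eq hgT' h hxV _ ((ha.mul hb).mul (huξ.mul hvξ)),
      secOrdAt_eq hge' h hxV _ (ha.mul huξ), secOrdAt_eq hgf' h hxV _ (hb.mul hvξ)]
    have hmul : X.residue ξ (a * b * (X.presheaf.germ _ ξ hξW' u * X.presheaf.germ _ ξ hξW' v)) =
        X.residue ξ (a * X.presheaf.germ _ ξ hξW' u) *
          X.residue ξ (b * X.presheaf.germ _ ξ hξW' v) := by
      simp only [map_mul]
      ring
    rw [hmul, ordAt_mul x ξ h _ _ ((ha.mul huξ).map (X.residue ξ).hom).ne_zero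
      ((hb.mul hvξ).map (X.residue ξ).hom).ne_zero]

open Groth.Agent.Lib.Lead.C1Cap Groth.Agent.Lib.Helper3.InvTensor in
/-- Let L, N be invertible O_X-modules and α a (k + 1)-cycle on X. Then c_1(L) ∩ α + c_1(N) ∩ α = c_1(L
⊗ N) ∩ α in CH_k(X): for any nonzero rational sections used to compute the three caps (the tensor
product is CohB1.tensorMod), the sum of the first two k-cycles is rationally equivalent to the
third. Here L(ξ) = L_ξ/𝔪_ξ L_ξ is the space of rational sections of L on the closure of ξ,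
div_{L|W}(s) and c_1(L) ∩ α are computed as coefficient functions from chosen nonzero rational
sections (Cyc.secDivFun, Cyc.c1CapFun), and results are compared up to rational equivalence for any
cycles with those coefficients. A pair (X, δ) with Cyc.IsSetup plays the role of a scheme locally of
finite type over the base (S, δ) (X locally Noetherian with universally catenary local rings, δ a
dimension function). -/
theorem result (X : Scheme.{u}) (δ : X → ℤ) (hX : Cyc.IsSetup X δ) (L N : X.Modules) (hL : PicF.IsInvertible L) (hN : PicF.IsInvertible N) (k : ℤ) (α : AlgebraicCycle X ℤ) (hα : α ∈ Cyc.Zk X δ (k + 1)) (sL : (ξ : X) → Cyc.secFibre L ξ) (hsL : ∀ ξ, sL ξ ≠ 0) (sN : (ξ : X) → Cyc.secFibre N ξ) (hsN : ∀ ξ, sN ξ ≠ 0) (sT : (ξ : X) → Cyc.secFibre (CohB1.tensorMod L N) ξ) (hsT : ∀ ξ, sT ξ ≠ 0) (γL γN γT : AlgebraicCycle X ℤ) (hγL : ⇑γL = Cyc.c1CapFun δ L ⇑α sL) (hγN : ⇑γN = Cyc.c1CapFun δ N ⇑α sN) (hγT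 : ⇑γT = Cyc.c1CapFun δ (CohB1.tensorMod L N) ⇑α sT) : Cyc.RatEquiv δ k (γL + γN) γT := by
  classical
  have hT := isInvertible_tensorMod hL hN
  choose sT' hsT' hord using fun ξ =>
    exists_tensor_section hL hN ξ (sL ξ) (hsL ξ) (sN ξ) (hsN ξ)
  have hsum : ⇑(γL + γN) = Cyc.c1CapFun δ (CohB1.tensorMod L N) ⇑α sT' := by
    funext x
    rw [Function.locallyFinsuppWithin.coe_add, Pi.add_apply, hγL, hγN]
    show (∑ᶠ ξ : X, α ξ * Cyc.secDivFun δ L ξ (sL ξ) x) +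
        (∑ᶠ ξ : X, α ξ * Cyc.secDivFun δ N ξ (sN ξ) x) =
      ∑ᶠ ξ : X, α ξ * Cyc.secDivFun δ (CohB1.tensorMod L N) ξ (sT' ξ) x
    rw [← finsum_add_distrib (c1_support_finite δ L α sL x) (c1_support_finite δ N α sN x)]
    refine finsum_congr (fun ξ => ?_)
    show α ξ * Cyc.secDivFun δ L ξ (sL ξ) x + α ξ * Cyc.secDivFun δ N ξ (sN ξ) x =
      α ξ * Cyc.secDivFun δ (CohB1.tensorMod L N) ξ (sT' ξ) x
    rw [← mul_add]
    congr 1
    unfold Cyc.secDivFun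
    split_ifs with hc
    · exact (hord ξ x hc.1).symm
    · rw [add_zero]
  exact c1Cap_indep δ (CohB1.tensorMod L N) hT k α hα sT' sT hsT' hsT (γL + γN) γT hsum hγT

end Groth.Agent.S6454
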