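import Groth.Statements.S6458
import Groth.Agent.Lib.Helper12.Equidim
import Groth.Agent.Lib.Helper12.DimFun

set_option autoImplicit false
universe u
open CategoryTheory AlgebraicGeometry
open Cyc

namespace Groth.Agent.S6458

/-- Let X be integral with generic point η and ξ the generic point of an irreducible component of an
effective Cartier divisor on X; locally: g ∈ 𝔪_ξ ⊂ O_{X,ξ} is nonzero and O_{X,ξ}/(g) is
zero-dimensional. Then dim_δ of the closure of ξ is dim_δ(X) − 1, i.e. δ(ξ) = δ(η) − 1. Here a pair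
(X, δ) with Cyc.IsSetup plays the role of a scheme locally of finite type over the base (S, δ) (X
locally Noetherian with universally catenary local rings, δ a dimension function). -/
theorem result (X : Scheme.{u}) [IsIntegral X] (δ : X → ℤ) (hX : Cyc.IsSetup X δ) (ξ : X) (g : ↑(X.presheaf.stalk ξ)) (hg0 : g ≠ 0) (hgm : g ∈ IsLocalRing.maximalIdeal (X.presheaf.stalk ξ)) (hdim : ringKrullDim (↑(X.presheaf.stalk ξ) ⧸ Ideal.span {g}) = 0) : δ ξ = δ (genericPoint X) - 1 := by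
  obtain ⟨hLN, -, hδ⟩ := hX
  haveI := hLN
  have hdimB : ringKrullDim (X.presheaf.stalk ξ) = 1 := by
    have hreg : IsSMulRegular (X.presheaf.stalk ξ) g :=
      (isRegular_of_ne_zero hg0).left.isSMulRegular
    have hjac : g ∈ Ring.jacobson (X.presheaf.stalk ξ) := by
      rw [IsLocalRing.ringJacobson_eq_maximalIdeal]; exact hgm
    have := ringKrullDim_quotient_span_singleton_succ_eq_ringKrullDim_of_mem_jacobson hreg hjac
    rw [hdim] at this
    rw [← this]; simp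
  have hηξ : genericPoint X ⤳ ξ := genericPoint_specializes ξ
  obtain ⟨𝔭, h𝔭⟩ : ∃ 𝔭 : PrimeSpectrum (X.presheaf.stalk ξ),
      (X.fromSpecStalk ξ) 𝔭 = genericPoint X := by
    have : genericPoint X ∈ Set.range (X.fromSpecStalk ξ) := by
      rw [Scheme.range_fromSpecStalk]; exact hηξ
    obtain ⟨𝔭, h𝔭⟩ := this
    exact ⟨𝔭, h𝔭⟩
  have h𝔭bot : 𝔭.asIdeal = ⊥ := by
    let 𝔮 : PrimeSpectrum (X.presheaf.stalk ξ) := ⟨⊥, Ideal.bot_prime⟩
    have h1 : 𝔮 ⤳ 𝔭 := (PrimeSpectrum.le_iff_specializes 𝔮 𝔭).mp bot_le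
    have h2 : (X.fromSpecStalk ξ) 𝔮 ⤳ (X.fromSpecStalk ξ) 𝔭 :=
      h1.map (X.fromSpecStalk ξ).continuous
    have h3 : (X.fromSpecStalk ξ) 𝔭 ⤳ (X.fromSpecStalk ξ) 𝔮 := by
      rw [h𝔭]; exact genericPoint_specializes _
    have h4 : (X.fromSpecStalk ξ) 𝔮 = (X.fromSpecStalk ξ) 𝔭 := (h2.antisymm h3).eq
    have h5 : 𝔮 = 𝔭 := (X.fromSpecStalk ξ).isEmbedding.injective h4
    rw [← h5]
  have h6 := Groth.Agent.Lib.Helper12.Equidim.ringKrullDim_quotient_stalk_eq ξ 𝔭
  rw [h𝔭, Groth.Agent.Lib.Helper12.DimFun.krullDim_Icc_eq hδ (a := ξ) (b := genericPoint X) hηξ]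
    at h6
  have h7 : ringKrullDim (X.presheaf.stalk ξ ⧸ 𝔭.asIdeal) = 1 := by
    rw [h𝔭bot, ringKrullDim_eq_of_ringEquiv (RingEquiv.quotientBot (X.presheaf.stalk ξ))]
    exact hdimB
  rw [h7] at h6
  have h8 : (δ (genericPoint X) - δ ξ).toNat = 1 := by
    have : ((1 : ℕ) : WithBot ℕ∞) = (((δ (genericPoint X) - δ ξ).toNat : ℕ) : WithBot ℕ∞) := by
      rw [← h6]; rfl
    exact_mod_cast this.symm
  omega

end Groth.Agent.S6458
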