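import Groth.Statements.S6461
import Groth.Agent.Lib.Helper12.Equidim
import Groth.Agent.Lib.Helper4.CMChain

set_option autoImplicit false
universe u
open CategoryTheory AlgebraicGeometry TopologicalSpace
open Cyc

namespace Groth.Agent.S6461

theorem top_lemma {T : Type u} [TopologicalSpace T] [NoetherianSpace T] [QuasiSober T] (x : T) :
    ∃ U : Set T, IsOpen U ∧ x ∈ U ∧ ∀ ξ ∈ U, (∀ ξ' : T, ξ' ⤳ ξ → ξ' = ξ) → ξ ⤳ x := by
  classical
  let S : Set (Set T) := {Z | Z ∈ irreducibleComponents T ∧ x ∉ Z}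
  have hSfin : S.Finite :=
    (NoetherianSpace.finite_irreducibleComponents (α := T)).subset (fun Z hZ => hZ.1)
  have hclosed : IsClosed (⋃ Z ∈ S, Z) :=
    hSfin.isClosed_biUnion (fun Z hZ => isClosed_of_mem_irreducibleComponents Z hZ.1)
  refine ⟨(⋃ Z ∈ S, Z)ᶜ, hclosed.isOpen_compl, ?_, ?_⟩
  · simp only [Set.mem_compl_iff, Set.mem_iUnion, not_exists]
    intro Z hZ hx
    exact hZ.2 hx
  · intro ξ hξ hmax
    have hxZ : x ∈ irreducibleComponent ξ := by
      by_contra hx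
      apply hξ
      simp only [Set.mem_iUnion]
      exact ⟨irreducibleComponent ξ, ⟨irreducibleComponent_mem_irreducibleComponents ξ, hx⟩,
        mem_irreducibleComponent⟩
    obtain ⟨η, hη⟩ := QuasiSober.sober (isIrreducible_irreducibleComponent (x := ξ))
      (isClosed_irreducibleComponent (x := ξ))
    have h1 : η ⤳ ξ := by
      rw [specializes_iff_mem_closure, hη.def]
      exact mem_irreducibleComponent
    have h2 : η = ξ := hmax η h1
    rw [specializes_iff_mem_closure, ← h2, hη.def]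
    exact hxZ

theorem exists_nhd (X : Scheme.{u}) [IsLocallyNoetherian X] (x : X) :
    ∃ U : X.Opens, x ∈ U ∧ ∀ ξ : X, ξ ∈ U → (∀ ξ' : X, ξ' ⤳ ξ → ξ' = ξ) → ξ ⤳ x := by
  obtain ⟨W, hW, hxW, -⟩ := exists_isAffineOpen_mem_and_subset (X := X) (x := x) (U := ⊤) trivial
  haveI : IsNoetherianRing Γ(X, W) := IsLocallyNoetherian.component_noetherian ⟨W, hW⟩
  haveI : NoetherianSpace W := noetherianSpace_of_isAffineOpen W hW
  haveI : QuasiSober W := W.isOpenEmbedding.quasiSober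
  obtain ⟨U, hUo, hxU, hU⟩ := top_lemma (T := W) ⟨x, hxW⟩
  refine ⟨⟨Subtype.val '' U, W.2.isOpenMap_subtype_val U hUo⟩, ⟨⟨x, hxW⟩, hxU, rfl⟩, ?_⟩
  rintro ξ ⟨ξW, hξU, rfl⟩ hmax
  have := hU ξW hξU (fun ξ' h' => Subtype.ext (hmax ξ'.1 (h'.map continuous_subtype_val)))
  exact this.map continuous_subtype_val

theorem key (X : Scheme.{u}) (δ : X → ℤ) (hδ : Cyc.IsDimFun X δ) (x : X)
    (hCM : LocCoh.IsCohenMacaulayLocalRing (X.presheaf.stalk x)) (ξ : X) (hξx : ξ ⤳ x)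
    (hmax : ∀ ξ' : X, ξ' ⤳ ξ → ξ' = ξ) :
    (((δ ξ - δ x).toNat : ℕ) : WithBot ℕ∞) = ringKrullDim (X.presheaf.stalk x) := by
  obtain ⟨𝔭, h𝔭⟩ : ∃ 𝔭 : PrimeSpectrum (X.presheaf.stalk x), (X.fromSpecStalk x) 𝔭 = ξ := by
    have : ξ ∈ Set.range (X.fromSpecStalk x) := by
      rw [Scheme.range_fromSpecStalk]; exact hξx
    obtain ⟨𝔭, h𝔭⟩ := this
    exact ⟨𝔭, h𝔭⟩
  subst h𝔭
  have : IsNoetherianRing (X.presheaf.stalk x) := inferInstance
  have hM : LocCoh.IsCohenMacaulayModule (X.presheaf.stalk x) (X.presheaf.stalk x) :=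
    hCM.supportDim_eq_depth
  have hsupp : Module.support (X.presheaf.stalk x) (X.presheaf.stalk x) = Set.univ := by
    rw [Module.support_eq_zeroLocus, Module.annihilator_eq_bot.mpr inferInstance]
    simp
  have hmin : 𝔭.asIdeal ∈ minimalPrimes (X.presheaf.stalk x) := by
    refine ⟨⟨𝔭.2, bot_le⟩, fun q hq hle => ?_⟩
    let q' : PrimeSpectrum (X.presheaf.stalk x) := ⟨q, hq.1⟩
    have h1 : q' ⤳ 𝔭 := (PrimeSpectrum.le_iff_specializes q' 𝔭).mp hle
    have h2 : (X.fromSpecStalk x) q' ⤳ (X.fromSpecStalk x) 𝔭 :=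
      h1.map (X.fromSpecStalk x).continuous
    have h3 := hmax _ h2
    have h4 : q' = 𝔭 := (X.fromSpecStalk x).isEmbedding.injective h3
    rw [← h4]
  have hht : 𝔭.asIdeal.height = 0 := by
    haveI := 𝔭.2
    exact Ideal.height_eq_zero_iff.mpr hmin
  have h5 := Groth.Agent.Lib.Helper4.cm_height_add_ringKrullDim_quotient hM hsupp 𝔭
  rw [hht] at h5
  simp only [WithBot.coe_zero, zero_add] at h5
  rw [← h5, Groth.Agent.Lib.Helper12.Equidim.ringKrullDim_quotient_stalk_eq x 𝔭]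
  exact (Groth.Agent.Lib.Helper12.DimFun.krullDim_Icc_eq hδ (a := x)
    (b := (X.fromSpecStalk x) 𝔭) hξx).symm

/-- If all local rings of X are Cohen–Macaulay then every x ∈ X has an open neighbourhood U and an
integer n with δ(ξ) = n for every generic point ξ of an irreducible component of U (every point of U
maximal under specialization). Here a pair (X, δ) with Cyc.IsSetup plays the role of a scheme
locally of finite type over the base (S, δ) (X locally Noetherian with universally catenary local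
rings, δ a dimension function). -/
theorem result (X : Scheme.{u}) (δ : X → ℤ) (hX : Cyc.IsSetup X δ) (hCM : ∀ x : X, LocCoh.IsCohenMacaulayLocalRing ↑(X.presheaf.stalk x)) (x : X) : ∃ (U : X.Opens) (n : ℤ), x ∈ U ∧ ∀ ξ : X, ξ ∈ U → (∀ ξ' : X, ξ' ⤳ ξ → ξ' = ξ) → δ ξ = n := by
  obtain ⟨hLN, -, hδ⟩ := hX
  have := hLN
  obtain ⟨U, hxU, hU⟩ := exists_nhd X x
  by_cases h : ∃ ξ₀ : X, ξ₀ ∈ U ∧ (∀ ξ' : X, ξ' ⤳ ξ₀ → ξ' = ξ₀)
  · obtain ⟨ξ₀, h0U, h0max⟩ := h
    refine ⟨U, δ ξ₀, hxU, fun ξ hξU hmax => ?_⟩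
    have k0 := key X δ hδ x (hCM x) ξ₀ (hU ξ₀ h0U h0max) h0max
    have k1 := key X δ hδ x (hCM x) ξ (hU ξ hξU hmax) hmax
    have e : (δ ξ - δ x).toNat = (δ ξ₀ - δ x).toNat := by
      have := k1.trans k0.symm
      exact_mod_cast this
    have l0 : δ x ≤ δ ξ₀ :=
      Groth.Agent.Lib.Helper12.DimFun.delta_le hδ (a := x) (b := ξ₀) (hU ξ₀ h0U h0max)
    have l1 : δ x ≤ δ ξ :=
      Groth.Agent.Lib.Helper12.DimFun.delta_le hδ (a := x) (b := ξ) (hU ξ hξU hmax)
    omega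
  · exact ⟨U, 0, hxU, fun ξ hξU hmax => absurd ⟨ξ, hξU, hmax⟩ h⟩

end Groth.Agent.S6461
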