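import Groth.Statements.S6462
-- import your own Groth.Agent.* helpers here
import Mathlib
import Groth.Agent.Lib.Helper12.DimFun
import Groth.Agent.Lib.Helper12.OrdTools
import Groth.Agent.Lib.Helper12.JacDim

set_option autoImplicit false
universe u
open CategoryTheory AlgebraicGeometry
open Cyc

namespace Groth.Agent.S6462
open Groth.Agent.Lib.Helper12 Groth.Agent.Lib.Helper12.SchemeDimFT

theorem fromSpecStalk_ker_specMap {X : Scheme.{u}} (z ξ : X) (h : ξ ⤳ z) :
    (X.fromSpecStalk z) (⟨RingHom.ker (Cyc.specMap z ξ h), RingHom.ker_isPrime _⟩ :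
      PrimeSpectrum (X.presheaf.stalk z)) = ξ := by
  have h1 := Scheme.SpecMap_stalkSpecializes_fromSpecStalk h
  have h2 : (X.fromSpecStalk z) ((Spec.map (X.presheaf.stalkSpecializes h))
      (IsLocalRing.closedPoint (X.presheaf.stalk ξ))) = ξ := by
    have h3 := congrArg (fun g => g.base (IsLocalRing.closedPoint (X.presheaf.stalk ξ))) h1
    simp only [Scheme.Hom.comp_base] at h3
    rw [Scheme.fromSpecStalk_closedPoint] at h3
    exact h3
  refine Eq.trans ?_ h2
  congr 1
  apply PrimeSpectrum.ext
  show RingHom.ker (Cyc.specMap z ξ h) =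
    Ideal.comap (X.presheaf.stalkSpecializes h).hom (IsLocalRing.maximalIdeal _)
  ext a
  simp only [RingHom.mem_ker, Ideal.mem_comap, Cyc.specMap]
  rw [← IsLocalRing.residue_eq_zero_iff]
  rfl

/-- Assume in addition that X is Jacobson and δ(x) = 0 for every closed point x. For a point ξ of X with
closure Z (an integral closed subscheme whose generic point is ξ) one then has δ(ξ) = dim Z = dim
O_{Z,z} for every closed point z of Z; here Z is the closure of ξ and O_{Z,z} = O_{X,z}/𝔭_ξ
(Cyc.LocQuot). (The published statement takes X locally of finite type over a Jacobson base with δ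
zero on the base's closed points; this row assumes instead that X is Jacobson and δ vanishes on the
closed points of X, which follows from the published hypotheses.) Here a pair (X, δ) with
Cyc.IsSetup plays the role of a scheme locally of finite type over the base (S, δ) (X locally
Noetherian with universally catenary local rings, δ a dimension function). -/
theorem result (X : Scheme.{u}) [JacobsonSpace X] (δ : X → ℤ) (hX : Cyc.IsSetup X δ) (h0 : ∀ x : X, IsClosed ({x} : Set X) → δ x = 0) (ξ : X) : (topologicalKrullDim ↥(closure ({ξ} : Set X)) = ((δ ξ).toNat : WithBot ℕ∞) ∧ 0 ≤ δ ξ) ∧ ∀ (z : X) (h : ξ ⤳ z), IsClosed ({z} : Set X) → ringKrullDim (Cyc.LocQuot z ξ h) = ((δ ξ).toNat : WithBot ℕ∞) := by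
  have hδ := hX.2.2
  have hex : ∀ x : X, ∃ x0 : X, IsClosed ({x0} : Set X) ∧ x ⤳ x0 := by
    intro x
    obtain ⟨x0, hx0, hx0c⟩ := nonempty_inter_closedPoints
      (Z := closure ({x} : Set X)) ⟨x, subset_closure rfl⟩ isClosed_closure.isLocallyClosed
    exact ⟨x0, hx0c, specializes_iff_mem_closure.mpr hx0⟩
  have hnn : ∀ x : X, 0 ≤ δ x := by
    intro x
    obtain ⟨x0, hx0, hxx0⟩ := hex x
    have := Groth.Agent.Lib.Helper12.DimFun.delta_le hδ (a := x0) (b := x) hxx0
    rw [h0 x0 hx0] at this
    exact this
  have hIcc : ∀ (z : X), ξ ⤳ z → IsClosed ({z} : Set X) →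
      Order.krullDim (Set.Icc z ξ) = ((δ ξ).toNat : WithBot ℕ∞) := by
    intro z hz hzc
    rw [Groth.Agent.Lib.Helper12.DimFun.krullDim_Icc_eq hδ (a := z) (b := ξ) hz, h0 z hzc, sub_zero]
  refine ⟨⟨?_, hnn ξ⟩, ?_⟩
  · apply le_antisymm
    · haveI : QuasiSober (closure ({ξ} : Set X)) :=
        quasiSober_of_isLocallyClosed isClosed_closure.isLocallyClosed
      refine topologicalKrullDim_le_of_strictAnti (fun t : closure ({ξ} : Set X) => (δ t.1).toNat)
        ?_ _ ?_
      · intro a b hab hne
        have h1 : (a : X) ⤳ (b : X) := (subtype_specializes_iff a b).mp hab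
        have h2 : (a : X) ≠ (b : X) := fun h => hne (Subtype.ext h)
        have h3 := (hδ _ _ h1 h2).1
        have h4 := hnn b.1
        show (δ b.1).toNat < (δ a.1).toNat
        omega
      · intro t
        have h1 : ξ ⤳ (t : X) := specializes_iff_mem_closure.mpr t.2
        have h2 := Groth.Agent.Lib.Helper12.DimFun.delta_le hδ (a := t.1) (b := ξ) h1
        have h3 : (δ t.1).toNat ≤ (δ ξ).toNat := by omega
        exact_mod_cast h3
    · obtain ⟨z, hzc, hz⟩ := hex ξ
      rw [← hIcc z hz hzc, ← Groth.Agent.Lib.Helper12.JacDim.topologicalKrullDim_generizations z ξ hz]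
      have hind : Topology.IsInducing
          (fun t : {t : X | t ∈ closure ({ξ} : Set X) ∧ t ⤳ z} =>
            (⟨t.1, t.2.1⟩ : closure ({ξ} : Set X))) := by
        have hcomp : Topology.IsInducing ((Subtype.val : closure ({ξ} : Set X) → X) ∘
            (fun t : {t : X | t ∈ closure ({ξ} : Set X) ∧ t ⤳ z} =>
              (⟨t.1, t.2.1⟩ : closure ({ξ} : Set X)))) := Topology.IsInducing.subtypeVal
        exact Topology.IsInducing.of_comp (Continuous.subtype_mk continuous_subtype_val _)
          continuous_subtype_val hcomp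
      exact hind.topologicalKrullDim_le
  · intro z h hzc
    have h1 := Groth.Agent.Lib.Helper12.Equidim.ringKrullDim_quotient_stalk_eq z
      (⟨RingHom.ker (Cyc.specMap z ξ h), RingHom.ker_isPrime _⟩ :
        PrimeSpectrum (X.presheaf.stalk z))
    rw [fromSpecStalk_ker_specMap z ξ h, hIcc z h hzc] at h1
    exact h1

end Groth.Agent.S6462
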