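import Groth.Statements.S6463
import Mathlib

set_option autoImplicit false
set_option linter.style.haveILetI false
universe u
open CategoryTheory CategoryTheory.Limits AlgebraicGeometry
open PicF

namespace Groth.Agent.S6463

open TopologicalSpace Opposite in
/-- A morphism of schemes whose sheaf map is an isomorphism on all affine opens has `IsIso g.c`. -/
theorem isIso_c_of_isIso_app_affine {X Y : Scheme.{u}} (g : X ⟶ Y)
    (h : ∀ V : Y.Opens, IsAffineOpen V → IsIso (g.app V)) : IsIso g.c := by
  let F : TopCat.Sheaf CommRingCat Y := Y.sheaf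
  let G : TopCat.Sheaf CommRingCat Y :=
    (TopCat.Sheaf.pushforward CommRingCat g.base).obj X.sheaf
  let φ : F ⟶ G := ObjectProperty.homMk g.c
  have hbij : ∀ V : Y.Opens, IsAffineOpen V → Function.Bijective (g.c.app (op V)) := by
    intro V hV
    exact (ConcreteCategory.isIso_iff_bijective _).mp (h V hV)
  haveI : ∀ y : Y, IsIso ((TopCat.Presheaf.stalkFunctor CommRingCat y).map φ.1) := by
    intro y
    rw [ConcreteCategory.isIso_iff_bijective]
    constructor
    · exact TopCat.Presheaf.stalkFunctor_map_injective_of_isBasis Y.isBasis_affineOpens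
        (α := g.c) (fun U hU => (hbij U hU).1) y
    · intro s
      obtain ⟨U, hyU, hU, r, rfl⟩ :=
        TopCat.Presheaf.exists_mem_germ_eq_of_isBasis Y.isBasis_affineOpens G.1 y s
      obtain ⟨r', rfl⟩ := (hbij U hU).2 r
      exact ⟨TopCat.Presheaf.germ Y.presheaf U y hyU r',
        TopCat.Presheaf.stalkFunctor_map_germ_apply U y hyU g.c r'⟩
  have h1 : IsIso φ := TopCat.Presheaf.isIso_of_stalkFunctor_map_iso φ
  have h2 : IsIso ((TopCat.Sheaf.forget CommRingCat Y).map φ) := Functor.map_isIso _ φ
  exact h2

/-- For a field k and a smooth projective curve X over k that has a k-rational point σ, the conditions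
under which the Picard functor is computed through the section are met: f : X → Spec k is flat,
proper and of finite presentation with a section, and O_T → f_{T,*} O_{X_T} is an isomorphism for
every scheme T over k. Only the last assertion is stated (the others are part of the hypotheses or
immediate): for every t : T → Spec k, the sheaf map of the base change X ×_k T → T is an
isomorphism. Proper replaces projective (they agree for curves over a field). -/
theorem result (k : Type u) [Field k] (X : Scheme.{u}) (f : X ⟶ Spec (CommRingCat.of k)) (hX : Curve.IsSmoothProperCurve k X f) (σ : Spec (CommRingCat.of k) ⟶ X) (hσ : σ ≫ f = 𝟙 (Spec (CommRingCat.of k))) (T : Scheme.{u}) (t : T ⟶ Spec (CommRingCat.of k)) : IsIso (pullback.snd f t).c := by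
  obtain ⟨hproper, hsmooth, hint, hdim⟩ := hX
  haveI := hproper
  haveI := hint
  have hfield : IsField Γ(X, ⊤) := isField_of_universallyClosed k f
  have h1 : f.appTop ≫ σ.appTop = 𝟙 _ := by
    rw [← Scheme.Hom.comp_appTop, hσ, Scheme.Hom.id_appTop]
  haveI : Nontrivial Γ(Spec (CommRingCat.of k), ⊤) :=
    (Scheme.ΓSpecIso (CommRingCat.of k)).commRingCatIsoToRingEquiv.toEquiv.nontrivial
  have hinj : Function.Injective σ.appTop.hom := by
    letI := hfield.toField
    exact (σ.appTop.hom).injective
  haveI : Mono σ.appTop := ConcreteCategory.mono_of_injective _ hinj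
  have h2 : σ.appTop ≫ f.appTop = 𝟙 _ := by
    rw [← cancel_mono σ.appTop, Category.assoc, h1, Category.comp_id, Category.id_comp]
  haveI hisoTop : IsIso f.appTop := ⟨σ.appTop, h1, h2⟩
  apply isIso_c_of_isIso_app_affine
  intro V hV
  have H : IsPullback (pullback.fst f t) (pullback.snd f t) f t := IsPullback.of_hasPullback f t
  have hUST : V ≤ t ⁻¹ᵁ ⊤ := fun x _ => trivial
  have hUSX : f ⁻¹ᵁ ⊤ ≤ f ⁻¹ᵁ ⊤ := le_rfl
  have hUY : pullback.snd f t ⁻¹ᵁ V =
      pullback.fst f t ⁻¹ᵁ (f ⁻¹ᵁ ⊤) ⊓ pullback.snd f t ⁻¹ᵁ V := by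
    ext x
    simp
  haveI : CompactSpace X := (quasiCompact_iff_compactSpace f).mp inferInstance
  haveI : QuasiSeparatedSpace X := (quasiSeparated_iff_quasiSeparatedSpace f).mp inferInstance
  have hUX : IsCompact ((f ⁻¹ᵁ ⊤ : X.Opens) : Set X) := isCompact_univ
  have hUX' : IsQuasiSeparated ((f ⁻¹ᵁ ⊤ : X.Opens) : Set X) := isQuasiSeparated_univ
  have hiso := isIso_pushoutSection_of_isQuasiSeparated_of_flat_right H hUST hUSX hUY
    (isAffineOpen_top _) hV hUX hUX'
  have hpo := (isIso_pushoutSection_iff H hUST hUSX hUY).mp hiso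
  haveI : IsIso (f.appLE ⊤ (f ⁻¹ᵁ ⊤) hUSX) := by
    rw [Scheme.Hom.appLE_eq_app]
    exact hisoTop
  have h3 := hpo.isIso_inr_of_isIso
  rwa [Scheme.Hom.appLE_eq_app] at h3

end Groth.Agent.S6463
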