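import Groth.Statements.S6464
import Mathlib

set_option autoImplicit false
universe u v
open CycAlg

namespace Groth.Agent.S6464

theorem key_arith (lM lN a b c d x y : ℕ∞) (hM : lM < ⊤) (hN : lN < ⊤) (eM : lM = a + b)
    (eN : lN = c + d) (eA : a = d + x) (eC : c = b + y) :
    (x < ⊤ ∧ y < ⊤) ∧ ((x.toNat : ℤ) - (y.toNat : ℤ) = (lM.toNat : ℤ) - (lN.toNat : ℤ)) := by
  have hab : a + b < ⊤ := eM ▸ hM
  have hcd : c + d < ⊤ := eN ▸ hN
  have ha : a ≠ ⊤ := fun h => by simp [h] at hab
  have hb : b ≠ ⊤ := fun h => by simp [h] at hab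
  have hc : c ≠ ⊤ := fun h => by simp [h] at hcd
  have hd : d ≠ ⊤ := fun h => by simp [h] at hcd
  have hx : x ≠ ⊤ := fun h => by
    rw [h, add_top] at eA
    exact ha eA
  have hy : y ≠ ⊤ := fun h => by
    rw [h, add_top] at eC
    exact hc eC
  lift a to ℕ using ha
  lift b to ℕ using hb
  lift c to ℕ using hc
  lift d to ℕ using hd
  lift x to ℕ using hx
  lift y to ℕ using hy
  subst eM eN
  refine ⟨⟨ENat.coe_lt_top x, ENat.coe_lt_top y⟩, ?_⟩
  have eA' : a = d + x := by exact_mod_cast eA
  have eC' : c = b + y := by exact_mod_cast eC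
  simp only [← Nat.cast_add, ENat.toNat_coe]
  push_cast
  rw [eA', eC']
  push_cast
  ring

/-- Let (M, N, φ, ψ) be a 2-periodic complex over a ring R with M and N of finite length. Then its
cohomology modules have finite length and e_R(M, N, φ, ψ) = length_R(M) − length_R(N). (The case M =
N, where the conclusion reads e_R(M, φ, ψ) = 0, is the special case and is not restated.) -/
theorem result {R : Type u} [CommRing R] {M N : Type v} [AddCommGroup M] [Module R M] [AddCommGroup N] [Module R N] (φ : M →ₗ[R] N) (ψ : N →ₗ[R] M) (h : CycAlg.IsPeriodic φ ψ) (hM : Module.length R M < ⊤) (hN : Module.length R N < ⊤) : CycAlg.FinCoh R φ ψ ∧ CycAlg.herbrand R φ ψ = ((Module.length R M).toNat : ℤ) - ((Module.length R N).toNat : ℤ) := by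
  obtain ⟨h1, h2⟩ := h
  have hle1 : LinearMap.range ψ ≤ LinearMap.ker φ := by
    rintro _ ⟨n, rfl⟩
    exact LinearMap.mem_ker.2 (by simpa using LinearMap.congr_fun h1 n)
  have hle2 : LinearMap.range φ ≤ LinearMap.ker ψ := by
    rintro _ ⟨m, rfl⟩
    exact LinearMap.mem_ker.2 (by simpa using LinearMap.congr_fun h2 m)
  have add_sub : ∀ {X : Type v} [AddCommGroup X] [Module R X] (K : Submodule R X),
      Module.length R X = Module.length R K + Module.length R (X ⧸ K) := fun K =>
    Module.length_eq_add_of_exact K.subtype K.mkQ K.injective_subtype K.mkQ_surjective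
      (LinearMap.exact_subtype_mkQ K)
  have eM : Module.length R M =
      Module.length R (LinearMap.ker φ) + Module.length R (LinearMap.range φ) := by
    rw [add_sub (LinearMap.ker φ), (LinearMap.quotKerEquivRange φ).length_eq]
  have eN : Module.length R N =
      Module.length R (LinearMap.ker ψ) + Module.length R (LinearMap.range ψ) := by
    rw [add_sub (LinearMap.ker ψ), (LinearMap.quotKerEquivRange ψ).length_eq]
  have eA : Module.length R (LinearMap.ker φ) =
      Module.length R (LinearMap.range ψ) + Module.length R (CycAlg.perH φ ψ) := by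
    rw [add_sub ((LinearMap.range ψ).submoduleOf (LinearMap.ker φ)),
      (Submodule.submoduleOfEquivOfLe hle1).length_eq]
  have eC : Module.length R (LinearMap.ker ψ) =
      Module.length R (LinearMap.range φ) + Module.length R (CycAlg.perH ψ φ) := by
    rw [add_sub ((LinearMap.range φ).submoduleOf (LinearMap.ker ψ)),
      (Submodule.submoduleOfEquivOfLe hle2).length_eq]
  exact key_arith _ _ _ _ _ _ _ _ hM hN eM eN eA eC

end Groth.Agent.S6464
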