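import Groth.Statements.S6465
import Groth.Agent.Lib.Lead.C1Pull

set_option autoImplicit false
universe u
open CategoryTheory AlgebraicGeometry
open Cyc

namespace Groth.Agent.S6465


open Groth.Agent.Lib.Lead.C1Cap Groth.Agent.Lib.Lead.C1Pull Groth.Agent.Lib.Helper3.PbBasic
  Groth.Agent.Lib.Lead.CycClosed

/-- Let (L, s, i : D → X) be a triple defining a Gysin map. Then i^* i_* : CH_k(D) → CH_{k−1}(D) sends
the class of a k-cycle α on D to c_1(L|_D) ∩ α: the (k − 1)-cycle i^*(i_* α) is rationally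
equivalent on D to c_1(i^*L) ∩ α computed with any nonzero rational sections. Here i : D → X is the
zero scheme of a global section s of the invertible module L (Cyc.IsZeroSchemeOf), the Gysin map i^*
: Z_{k+1}(X) → CH_k(D) is computed on coefficient functions as c_1(L) ∩ − with the rational sections
taken to be s where it is nonzero and a nonzero fallback elsewhere (Cyc.gysinChoice), restricted to
the points of D, and classes on D are compared up to rational equivalence on D for the restricted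
dimension function; (X, δ) with Cyc.IsSetup stands for a scheme locally of finite type over the base
(S, δ). -/
theorem result (X D : Scheme.{u}) (δ : X → ℤ) (hX : Cyc.IsSetup X δ) (L : X.Modules) (hL : PicF.IsInvertible L) (s : L.presheaf.obj (Opposite.op ⊤)) (i : D ⟶ X) [IsClosedImmersion i] (hD : Cyc.IsZeroSchemeOf i L s) (k : ℤ) (α : AlgebraicCycle D ℤ) (hα : α ∈ Cyc.Zk D (fun d => δ (i d)) k) (w : (ξ : X) → Cyc.secFibre L ξ) (hw : ∀ ξ, w ξ ≠ 0) (t : (d : D) → Cyc.secFibre ((Scheme.Modules.pullback i).obj L) d) (ht : ∀ d, t d ≠ 0) (ζ₁ ζ₂ : AlgebraicCycle D ℤ) (h₁ : ∀ d, ζ₁ d = Cyc.c1CapFun δ L ⇑(AlgebraicCycle.map i (fun d => δ (i d)) δ α) (Cyc.gysinChoice L s w) (i d)) (h₂ : ⇑ζ₂ = Cyc.c1CapFun (fun d => δ (i d)) ((Scheme.Modules.pullback i).obj L) ⇑α t) : Cyc.RatEquiv (fun d => δ (i d)) (k - 1) ζ₁ ζ₂ := by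
  classical
  have hLD := isInvertible_pullback i hL
  choose t' ht' hord using fun ξ : D => exists_pull_section i hL ξ (w (i ξ)) (hw (i ξ))
  have hα' : α ∈ Cyc.Zk D (fun d => δ (i d)) (k - 1 + 1) := by rwa [sub_add_cancel]
  refine c1Cap_indep (fun d => δ (i d)) _ hLD (k - 1) α hα' t' t ht' ht ζ₁ ζ₂ ?_ h₂
  funext d
  rw [h₁ d]
  obtain ⟨F, hF⟩ : ∃ F : X → ℤ, F = fun x => (AlgebraicCycle.map i (fun d => δ (i d)) δ α) x *
      Cyc.secDivFun δ L x (Cyc.gysinChoice L s w x) (i d) := ⟨_, rfl⟩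
  have hinj : Function.Injective ⇑i := i.isClosedEmbedding.injective
  have hsupp : ∀ x ∈ Function.support F, x ∈ (Set.univ : Set X) ↔ x ∈ Set.range ⇑i := by
    intro x hx
    refine ⟨fun _ => ?_, fun _ => trivial⟩
    by_contra hnr
    apply hx
    rw [hF]
    show (AlgebraicCycle.map i (fun d => δ (i d)) δ α) x * _ = 0
    rw [map_apply_of_notMem_range i _ _ α x hnr, zero_mul]
  have e1 : ∑ᶠ x : X, F x = ∑ᶠ ξ : D, F (i ξ) :=
    calc ∑ᶠ x : X, F x = ∑ᶠ x ∈ (Set.univ : Set X), F x := (finsum_mem_univ F).symm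
      _ = ∑ᶠ x ∈ Set.range ⇑i, F x := finsum_mem_inter_support_eq' F _ _ hsupp
      _ = ∑ᶠ ξ : D, F (i ξ) := finsum_mem_range hinj
  have e2 : ∀ ξ : D, F (i ξ) = α ξ * Cyc.secDivFun (fun d => δ (i d))
      ((Scheme.Modules.pullback i).obj L) ξ (t' ξ) d := by
    intro ξ
    rw [hF]
    show (AlgebraicCycle.map i (fun d => δ (i d)) δ α) (i ξ) *
      Cyc.secDivFun δ L (i ξ) (Cyc.gysinChoice L s w (i ξ)) (i d) = _
    rw [map_apply_closedImmersion i _ δ (fun _ => rfl) α ξ]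
    congr 1
    have hgc : Cyc.gysinChoice L s w (i ξ) = w (i ξ) := by
      unfold Cyc.gysinChoice
      have hz : (Submodule.Quotient.mk ((L.presheaf.germ ⊤ (i ξ) trivial) s) :
          Cyc.secFibre L (i ξ)) = 0 := by
        have hmem : i ξ ∈ Set.range ⇑i := ⟨ξ, rfl⟩
        rw [hD.1] at hmem
        exact hmem
      rw [if_neg (not_not.mpr hz)]
    rw [hgc]
    unfold Cyc.secDivFun
    have hiff : (i ξ ⤳ i d) ↔ (ξ ⤳ d) := i.isClosedEmbedding.isInducing.specializes_iff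
    by_cases hc : ξ ⤳ d ∧ δ (i d) + 1 = δ (i ξ)
    · have hc' : i ξ ⤳ i d ∧ δ (i d) + 1 = δ (i ξ) := ⟨hiff.2 hc.1, hc.2⟩
      rw [dif_pos hc, dif_pos hc']
      exact (hord ξ d hc.1 hc'.1).symm
    · have hc' : ¬ (i ξ ⤳ i d ∧ δ (i d) + 1 = δ (i ξ)) := fun h => hc ⟨hiff.1 h.1, h.2⟩
      rw [dif_neg hc, dif_neg hc']
  have e0 : Cyc.c1CapFun δ L (⇑(AlgebraicCycle.map i (fun d => δ (i d)) δ α))
      (Cyc.gysinChoice L s w) (i d) = ∑ᶠ x : X, F x := by
    rw [hF]
    rfl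
  have e3 : Cyc.c1CapFun (fun d => δ (i d)) ((Scheme.Modules.pullback i).obj L) (⇑α) t' d =
      ∑ᶠ ξ : D, α ξ * Cyc.secDivFun (fun d => δ (i d))
        ((Scheme.Modules.pullback i).obj L) ξ (t' ξ) d := rfl
  rw [e0, e1, e3]
  exact finsum_congr e2

end Groth.Agent.S6465
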