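import Mathlib
import Groth.Statements.S6476


set_option autoImplicit false
universe u v
open CycAlg

namespace Aux6476

open IsLocalRing

/-- finite module over a Noetherian local ring supported at the closed point is Artinian -/
lemma isArtinian_of_support (B : Type u) [CommRing B] [IsNoetherianRing B] [IsLocalRing B]
    (P : Type v) [AddCommGroup P] [Module B P] [hfin : Module.Finite B P] :
    (∀ q ∈ Module.support B P, q.asIdeal = maximalIdeal B) → IsArtinian B P := by
  induction hfin using IsNoetherianRing.induction_on_isQuotientEquivQuotientPrime B with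
  | subsingleton N => intro _; infer_instance
  | quotient N p e =>
    intro h
    have hp : p ∈ Module.support B N := by
      rw [e.support_eq, Module.mem_support_iff']
      refine ⟨(Ideal.Quotient.mk p.asIdeal 1), fun r hr h0 => hr ?_⟩
      have : r • (Ideal.Quotient.mk p.asIdeal 1) = Ideal.Quotient.mk p.asIdeal r := by
        rw [Algebra.smul_def, Ideal.Quotient.algebraMap_eq, map_one, mul_one]
      rw [this, Ideal.Quotient.eq_zero_iff_mem] at h0
      exact h0
    have hpm := h p hp
    haveI : p.asIdeal.IsMaximal := hpm ▸ maximalIdeal.isMaximal B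
    letI : Field (B ⧸ p.asIdeal) := Ideal.Quotient.field p.asIdeal
    haveI : IsArtinian B (B ⧸ p.asIdeal) :=
      isArtinian_of_surjective_algebraMap (S := B) (R := B ⧸ p.asIdeal) (M := B ⧸ p.asIdeal)
        Ideal.Quotient.mk_surjective
    exact isArtinian_of_linearEquiv e.symm
  | exact N₁ N₂ N₃ f g hf hg hfg h₁ h₃ =>
    intro h
    haveI := h₁ (fun q hq => h q (Module.support_subset_of_injective f hf hq))
    haveI := h₃ (fun q hq => h q (Module.support_subset_of_surjective g hg hq))
    exact isArtinian_of_range_eq_ker f g (LinearMap.exact_iff.1 hfg).symm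

/-- the support (over `A`) of a localized module is contained in the support of the module -/
lemma support_localizedModule_subset {A : Type u} [CommRing A] (S : Submonoid A) {M : Type v}
    [AddCommGroup M] [Module A M] :
    Module.support A (LocalizedModule S M) ⊆ Module.support A M := by
  intro p hp
  obtain ⟨x, hx⟩ := Module.mem_support_iff'.1 hp
  induction x using LocalizedModule.induction_on with
  | h m s =>
    refine Module.mem_support_iff'.2 ⟨m, fun r hr h0 => hx r hr ?_⟩
    rw [LocalizedModule.smul'_mk, h0, LocalizedModule.zero_mk]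

lemma finiteLength_quot {A : Type u} [CommRing A] [IsNoetherianRing A] [IsLocalRing A] {M : Type v}
    [AddCommGroup M] [Module A M] [Module.Finite A M] (hdim : Module.supportDim A M = 1)
    (θ : M →ₗ[A] M) (hθ : Function.Injective θ) :
    Module.length A (M ⧸ LinearMap.range θ) < ⊤ := by
  haveI : Nontrivial M := by
    rw [← Module.supportDim_ne_bot_iff_nontrivial A, hdim]
    simp
  have hc : closedPoint A ∈ Module.support A M := closedPoint_mem_support A M
  have hle1 : Order.krullDim (Module.support A M) ≤ 1 := le_of_eq hdim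
  have hminmax := Order.krullDim_le_one_iff.1 hle1
  have hsupp : ∀ q ∈ Module.support A (M ⧸ LinearMap.range θ), q.asIdeal = maximalIdeal A := by
    intro q hq
    by_contra hne
    have hqM : q ∈ Module.support A M :=
      Module.support_subset_of_surjective _ (Submodule.mkQ_surjective _) hq
    have hq_le : q.asIdeal ≤ maximalIdeal A := le_maximalIdeal q.2.ne_top
    -- `q` is minimal in the support
    have hmin : IsMin (⟨q, hqM⟩ : Module.support A M) := by
      rcases hminmax ⟨q, hqM⟩ with h | h
      · exact h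
      · exfalso
        have h1 : (⟨q, hqM⟩ : Module.support A M) ≤ ⟨closedPoint A, hc⟩ := hq_le
        have h2 : (⟨closedPoint A, hc⟩ : Module.support A M) ≤ ⟨q, hqM⟩ := h h1
        exact hne (le_antisymm hq_le h2)
    -- localize at `q`
    have hsuppq : ∀ q' ∈ Module.support (Localization q.asIdeal.primeCompl)
        (LocalizedModule q.asIdeal.primeCompl M),
        q'.asIdeal = maximalIdeal (Localization q.asIdeal.primeCompl) := by
      intro q' hq'
      have h1 : PrimeSpectrum.comap (algebraMap A (Localization q.asIdeal.primeCompl)) q' ∈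
          Module.support A M :=
        support_localizedModule_subset _ (Module.support_subset_preimage_comap (R := A)
          (A := Localization q.asIdeal.primeCompl)
          (M := LocalizedModule q.asIdeal.primeCompl M) hq')
      have hq'le : q'.asIdeal ≤ maximalIdeal (Localization q.asIdeal.primeCompl) :=
        le_maximalIdeal q'.2.ne_top
      have h2 : (PrimeSpectrum.comap (algebraMap A (Localization q.asIdeal.primeCompl)) q').asIdeal
          ≤ q.asIdeal := by
        have := Ideal.comap_mono (f := algebraMap A (Localization q.asIdeal.primeCompl)) hq'le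
        rw [show Ideal.comap (algebraMap A (Localization q.asIdeal.primeCompl))
          (maximalIdeal (Localization q.asIdeal.primeCompl)) = q.asIdeal from
          Localization.AtPrime.under_maximalIdeal] at this
        exact this
      have h3 : q.asIdeal ≤
          (PrimeSpectrum.comap (algebraMap A (Localization q.asIdeal.primeCompl)) q').asIdeal :=
        hmin (b := ⟨_, h1⟩) h2
      have h4 : PrimeSpectrum.comap (algebraMap A (Localization q.asIdeal.primeCompl)) q' =
          PrimeSpectrum.comap (algebraMap A (Localization q.asIdeal.primeCompl))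
            (closedPoint (Localization q.asIdeal.primeCompl)) := by
        apply PrimeSpectrum.ext
        rw [show (PrimeSpectrum.comap (algebraMap A (Localization q.asIdeal.primeCompl))
            (closedPoint (Localization q.asIdeal.primeCompl))).asIdeal = q.asIdeal from
          Localization.AtPrime.under_maximalIdeal]
        exact le_antisymm h2 h3
      have h5 := PrimeSpectrum.localization_comap_injective (Localization q.asIdeal.primeCompl)
        q.asIdeal.primeCompl h4
      rw [h5]; rfl
    haveI : IsArtinian (Localization q.asIdeal.primeCompl)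
        (LocalizedModule q.asIdeal.primeCompl M) := isArtinian_of_support _ _ hsuppq
    have hsurj : Function.Surjective (LocalizedModule.map q.asIdeal.primeCompl θ) :=
      IsArtinian.surjective_of_injective_endomorphism _
        (LocalizedModule.map_injective _ θ hθ)
    -- hence `q ∉ Supp (M / θ M)`
    have hnot : q ∉ Module.support A (M ⧸ LinearMap.range θ) := by
      rw [Module.notMem_support_iff']
      intro x
      induction x using Submodule.Quotient.induction_on with
      | H m =>
        obtain ⟨y, hy⟩ := hsurj (LocalizedModule.mk m 1)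
        induction y using LocalizedModule.induction_on with
        | h m' s' =>
          rw [LocalizedModule.map_mk, LocalizedModule.mk_eq] at hy
          obtain ⟨u, hu⟩ := hy
          refine ⟨(u : A) * (s' : A), (u * s').2, ?_⟩
          rw [← Submodule.Quotient.mk_smul, Submodule.Quotient.mk_eq_zero]
          refine ⟨(u : A) • m', ?_⟩
          rw [map_smul]
          simp only [Submonoid.smul_def, one_smul] at hu
          rw [hu, mul_smul]
    exact hnot hq
  have hart : IsArtinian A (M ⧸ LinearMap.range θ) := isArtinian_of_support A _ hsupp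
  have hfl : IsFiniteLength A (M ⧸ LinearMap.range θ) :=
    isFiniteLength_iff_isNoetherian_isArtinian.2 ⟨inferInstance, hart⟩
  exact lt_top_iff_ne_top.2 (Module.length_ne_top_iff.2 hfl)

theorem main {A : Type u} [CommRing A] [IsNoetherianRing A] [IsLocalRing A] {M : Type v}
    [AddCommGroup M] [Module A M] [Module.Finite A M] (hdim : Module.supportDim A M = 1)
    (φ ψ : M →ₗ[A] M) (hφ : Function.Injective φ) (hψ : Function.Injective ψ)
    (hcomm : Submodule.map φ (LinearMap.range ψ) = Submodule.map ψ (LinearMap.range φ))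
    (φ' ψ' : (M ⧸ LinearMap.range (φ ∘ₗ ψ)) →ₗ[A] (M ⧸ LinearMap.range (φ ∘ₗ ψ)))
    (hφ' : φ' ∘ₗ (LinearMap.range (φ ∘ₗ ψ)).mkQ = (LinearMap.range (φ ∘ₗ ψ)).mkQ ∘ₗ φ)
    (hψ' : ψ' ∘ₗ (LinearMap.range (φ ∘ₗ ψ)).mkQ = (LinearMap.range (φ ∘ₗ ψ)).mkQ ∘ₗ ψ) :
    Module.length A (M ⧸ LinearMap.range (φ ∘ₗ ψ)) < ⊤ ∧ CycAlg.IsPeriodic φ' ψ' ∧
      Subsingleton (CycAlg.perH φ' ψ') ∧ Subsingleton (CycAlg.perH ψ' φ') := by
  have eφ : ∀ x, φ' (Submodule.Quotient.mk x) =
      (Submodule.Quotient.mk (φ x) : M ⧸ LinearMap.range (φ ∘ₗ ψ)) :=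
    fun x => LinearMap.congr_fun hφ' x
  have eψ : ∀ x, ψ' (Submodule.Quotient.mk x) =
      (Submodule.Quotient.mk (ψ x) : M ⧸ LinearMap.range (φ ∘ₗ ψ)) :=
    fun x => LinearMap.congr_fun hψ' x
  -- ψ φ x ∈ range (φ ψ)
  have hψφ : ∀ x, ψ (φ x) ∈ LinearMap.range (φ ∘ₗ ψ) := by
    intro x
    have h1 : ψ (φ x) ∈ Submodule.map ψ (LinearMap.range φ) :=
      Submodule.mem_map_of_mem (LinearMap.mem_range_self φ x)
    rw [← hcomm] at h1
    obtain ⟨y, ⟨z, rfl⟩, hy⟩ := h1
    exact ⟨z, hy⟩
  refine ⟨finiteLength_quot hdim (φ ∘ₗ ψ) (hφ.comp hψ), ⟨?_, ?_⟩, ?_, ?_⟩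
  · ext x
    show φ' (ψ' (Submodule.Quotient.mk x)) = 0
    rw [eψ, eφ, Submodule.Quotient.mk_eq_zero]
    exact ⟨x, rfl⟩
  · ext x
    show ψ' (φ' (Submodule.Quotient.mk x)) = 0
    rw [eφ, eψ, Submodule.Quotient.mk_eq_zero]
    exact hψφ x
  · rw [Submodule.Quotient.subsingleton_iff, Submodule.submoduleOf_eq_top]
    intro y hy
    induction y using Submodule.Quotient.induction_on with
    | H x =>
      rw [LinearMap.mem_ker, eφ, Submodule.Quotient.mk_eq_zero] at hy
      obtain ⟨z, hz⟩ := hy
      have hx : x = ψ z := hφ hz.symm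
      exact ⟨Submodule.Quotient.mk z, by rw [eψ, hx]⟩
  · rw [Submodule.Quotient.subsingleton_iff, Submodule.submoduleOf_eq_top]
    intro y hy
    induction y using Submodule.Quotient.induction_on with
    | H x =>
      rw [LinearMap.mem_ker, eψ, Submodule.Quotient.mk_eq_zero] at hy
      obtain ⟨z, hz⟩ := hy
      -- ψ x = φ (ψ z) ∈ φ(ψ M) = ψ(φ M)
      have h1 : ψ x ∈ Submodule.map φ (LinearMap.range ψ) := by
        rw [← hz]
        exact Submodule.mem_map_of_mem (LinearMap.mem_range_self ψ z)
      rw [hcomm] at h1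
      obtain ⟨w, ⟨t, rfl⟩, hw⟩ := h1
      have hx : x = φ t := (hψ hw).symm
      exact ⟨Submodule.Quotient.mk t, by rw [eφ, hx]⟩

end Aux6476

namespace Groth.Agent.S6476

/-- Let A be a Noetherian local ring, M a finite A-module of dimension 1, and φ, ψ : M → M injective
with φ(ψ(M)) = ψ(φ(M)) (e.g. φ, ψ commute). Then length_A(M/φψM) is finite and (M/φψM, φ, ψ) is an
exact (2, 1)-periodic complex; here φ', ψ' denote the endomorphisms of M/φψM induced by φ and ψ, and
exactness says both cohomology modules (CycAlg.perH) are trivial. -/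
theorem result {A : Type u} [CommRing A] [IsNoetherianRing A] [IsLocalRing A] {M : Type v} [AddCommGroup M] [Module A M] [Module.Finite A M] (hdim : Module.supportDim A M = 1) (φ ψ : M →ₗ[A] M) (hφ : Function.Injective φ) (hψ : Function.Injective ψ) (hcomm : Submodule.map φ (LinearMap.range ψ) = Submodule.map ψ (LinearMap.range φ)) (φ' ψ' : (M ⧸ LinearMap.range (φ ∘ₗ ψ)) →ₗ[A] (M ⧸ LinearMap.range (φ ∘ₗ ψ))) (hφ' : φ' ∘ₗ (LinearMap.range (φ ∘ₗ ψ)).mkQ = (LinearMap.range (φ ∘ₗ ψ)).mkQ ∘ₗ φ) (hψ' : ψ' ∘ₗ (LinearMap.range (φ ∘ₗ ψ)).mkQ = (LinearMap.range (φ ∘ₗ ψ)).mkQ ∘ₗ ψ) : Module.length A (M ⧸ LinearMap.range (φ ∘ₗ ψ)) < ⊤ ∧ CycAlg.IsPeriodic φ' ψ' ∧ Subsingleton (CycAlg.perH φ' ψ') ∧ Subsingleton (CycAlg.perH ψ' φ') := by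
  exact Aux6476.main hdim φ ψ hφ hψ hcomm φ' ψ' hφ' hψ'

end Groth.Agent.S6476
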