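import Groth.Statements.S6480
import Mathlib
import Groth.Agent.S0616
import Groth.Agent.S2518

set_option autoImplicit false
universe u
open CycAlg

namespace Groth.Agent.S6480

namespace H6480
open scoped Pointwise
open Groth.Agent.S0616 Groth.Agent.S1833 Groth.Agent.S1852 Groth.Agent.S2518

theorem length_chain {R M : Type*} [Ring R] [AddCommGroup M] [Module R M]
    (N N' : Submodule R M) (h : N ≤ N') :
    Module.length R (M ⧸ N) = Module.length R (N'.map N.mkQ) + Module.length R (M ⧸ N') := by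
  rw [Module.length_eq_add_of_exact (N'.map N.mkQ).subtype (N'.map N.mkQ).mkQ
    (Submodule.injective_subtype _) (Submodule.mkQ_surjective _) (LinearMap.exact_subtype_mkQ _),
    (Submodule.quotientQuotientEquivQuotient N N' h).length_eq]

theorem ker_comp_subtype {R M : Type*} [CommRing R] [AddCommGroup M] [Module R M] (a : R)
    (N₃ N₁ : Submodule R M) (h : N₁ = a • N₃) :
    LinearMap.ker (N₁.mkQ ∘ₗ N₃.subtype) = a • (⊤ : Submodule R N₃) := by
  subst h
  rw [LinearMap.ker_comp, Submodule.ker_mkQ]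
  ext x
  rw [Submodule.mem_comap, Submodule.mem_smul_pointwise_iff_exists,
    Submodule.mem_smul_pointwise_iff_exists]
  constructor
  · rintro ⟨y, hy, hxy⟩
    exact ⟨⟨y, hy⟩, Submodule.mem_top, Subtype.ext hxy⟩
  · rintro ⟨y, -, rfl⟩
    exact ⟨y.1, y.2, rfl⟩

theorem final_arith {ι : Type*} (s : Finset ι) (l al be : ι → ℕ∞) (o : ι → ℤ)
    (hY : ∑ q ∈ s, l q * al q ≠ ⊤) (hX : ∑ q ∈ s, l q * be q ≠ ⊤)
    (ho : ∀ q ∈ s, o q = ((al q).toNat : ℤ) - (be q).toNat) :
    (((∑ q ∈ s, l q * al q).toNat : ℤ)) - ((∑ q ∈ s, l q * be q).toNat : ℤ) =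
      ∑ q ∈ s, ((l q).toNat : ℤ) * o q := by
  have h1 : ∀ q ∈ s, l q * al q ≠ ⊤ := by
    intro q hq h
    have hle : l q * al q ≤ ∑ q ∈ s, l q * al q :=
      Finset.single_le_sum (f := fun q => l q * al q) (fun _ _ => zero_le) hq
    rw [h] at hle
    exact hY (top_le_iff.mp hle)
  have h2 : ∀ q ∈ s, l q * be q ≠ ⊤ := by
    intro q hq h
    have hle : l q * be q ≤ ∑ q ∈ s, l q * be q :=
      Finset.single_le_sum (f := fun q => l q * be q) (fun _ _ => zero_le) hq
    rw [h] at hle
    exact hX (top_le_iff.mp hle)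
  rw [ENat.toNat_sum h1, ENat.toNat_sum h2, Nat.cast_sum, Nat.cast_sum, ← Finset.sum_sub_distrib]
  refine Finset.sum_congr rfl fun q hq => ?_
  rw [ho q hq, ENat.toNat_mul, ENat.toNat_mul]
  push_cast
  ring

section
variable {A : Type u} [CommRing A] [IsNoetherianRing A] [IsLocalRing A]

theorem not_mem_of_nzd (a : A) (ha : a ∈ nonZeroDivisors A) : ∀ q ∈ minimalPrimes A, a ∉ q :=
  fun q hq haq =>
    Set.disjoint_left.mp (Ideal.disjoint_nonZeroDivisors_of_mem_minimalPrimes hq) haq ha

theorem regular_of {M : Type u} [AddCommGroup M] [Module A M]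
    (hMemb : ∀ p ∈ associatedPrimes A M, p ∈ minimalPrimes A) (b : A)
    (hbq : ∀ q ∈ minimalPrimes A, b ∉ q) : IsSMulRegular M b := by
  by_contra h
  have hb : b ∈ ⋃ p ∈ associatedPrimes A M, (p : Set A) := by
    rw [biUnion_associatedPrimes_eq_compl_regular A M]
    exact h
  rw [Set.mem_iUnion₂] at hb
  obtain ⟨p, hp, hbp⟩ := hb
  exact hbq p (hMemb p hp) hbp

theorem len_quot_smul_lt_top (hA : ringKrullDim A = 1) (N : Type u) [AddCommGroup N] [Module A N]
    [Module.Finite A N] (x : A) (hx : ∀ q ∈ minimalPrimes A, x ∉ q) :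
    Module.length A (N ⧸ x • (⊤ : Submodule A N)) < ⊤ :=
  H1833.length_lt_top_of_support_subset _
    (H1833.support_closed_of_dim_le_zero _ (H0616.dim_quot_le_zero hA N x hx))

theorem len_quot_regular (hA : ringKrullDim A = 1) (N : Type u) [AddCommGroup N] [Module A N]
    [Module.Finite A N] (x : A) (hx : ∀ q ∈ minimalPrimes A, x ∉ q) (hreg : IsSMulRegular N x) :
    Module.length A (N ⧸ x • (⊤ : Submodule A N)) =
      ∑ᶠ (p : PrimeSpectrum A) (_ : p.asIdeal ∈ minimalPrimes A),
        Module.length (Localization.AtPrime p.asIdeal) (LocalizedModule p.asIdeal.primeCompl N) *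
          Module.length A (A ⧸ (p.asIdeal ⊔ Ideal.span {x})) := by
  rw [Groth.Agent.S0616.result hA N x hx, (H2518.ker_len_zero_iff x N).mpr hreg, zero_add]

theorem finite_minSpec : {q : PrimeSpectrum A | q.asIdeal ∈ minimalPrimes A}.Finite := by
  have hfin := Ideal.finite_minimalPrimes_of_isNoetherianRing A (⊥ : Ideal A)
  exact Set.Finite.subset (hfin.preimage (f := PrimeSpectrum.asIdeal)
    (Set.injOn_of_injective (fun a b h => PrimeSpectrum.ext h))) (fun q hq => hq)

theorem ell_submodule_eq {M : Type u} [AddCommGroup M] [Module A M] [Module.Finite A M]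
    (I : Ideal A) (b : A) (hbI : b ∈ I) (q : PrimeSpectrum A) (hbq : b ∉ q.asIdeal) :
    Module.length (Localization.AtPrime q.asIdeal)
      (LocalizedModule q.asIdeal.primeCompl ↥(I • (⊤ : Submodule A M))) =
      Module.length (Localization.AtPrime q.asIdeal)
        (LocalizedModule q.asIdeal.primeCompl M) := by
  have hex := H1852.length_loc_exact q.asIdeal.primeCompl
    (I • (⊤ : Submodule A M)).subtype (I • (⊤ : Submodule A M)).mkQ
    (Submodule.injective_subtype _) (Submodule.mkQ_surjective _) (LinearMap.exact_subtype_mkQ _)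
  have hz : Module.length (Localization q.asIdeal.primeCompl)
      (LocalizedModule q.asIdeal.primeCompl (M ⧸ I • (⊤ : Submodule A M))) = 0 := by
    rw [Module.length_eq_zero_iff]
    apply Module.notMem_support_iff.mp
    rw [Module.support_quotient]
    rintro ⟨-, h2⟩
    exact hbq ((PrimeSpectrum.mem_zeroLocus _ _).mp h2 hbI)
  rw [hz, add_zero] at hex
  exact hex.symm

theorem len_quot_sup_lt_top (hA : ringKrullDim A = 1) (q : Ideal A) (a : A)
    (haq : ∀ p ∈ minimalPrimes A, a ∉ p) :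
    Module.length A (A ⧸ (q ⊔ Ideal.span {a})) < ⊤ := by
  apply H1833.length_lt_top_of_support_subset
  intro p hp
  rw [H1833.mem_support_quot_iff] at hp
  by_contra hne
  exact haq _ (H0616.minimal_of_ne hA p hne)
    (hp (Ideal.mem_sup_right (Ideal.mem_span_singleton_self a)))

theorem ordFrac_eq (q : Ideal A) [q.IsPrime] (hdim : Ring.KrullDimLE 1 (A ⧸ q)) (a b : A)
    (ha : a ∉ q) (hb : b ∉ q) (na nb : ℕ)
    (hna : Ring.ord (A ⧸ q) (Ideal.Quotient.mk q a) = na)
    (hnb : Ring.ord (A ⧸ q) (Ideal.Quotient.mk q b) = nb) :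
    CycAlg.ordFrac (A ⧸ q) q.ResidueField
      (algebraMap A q.ResidueField a / algebraMap A q.ResidueField b) = (na : ℤ) - nb := by
  have h : IsNoetherianRing (A ⧸ q) ∧ Ring.KrullDimLE 1 (A ⧸ q) ∧ Nontrivial (A ⧸ q) ∧
      IsFractionRing (A ⧸ q) q.ResidueField := ⟨inferInstance, hdim, inferInstance, inferInstance⟩
  haveI := hdim
  have ha' : Ideal.Quotient.mk q a ≠ 0 := fun h0 => ha (Ideal.Quotient.eq_zero_iff_mem.mp h0)
  have hb' : Ideal.Quotient.mk q b ≠ 0 := fun h0 => hb (Ideal.Quotient.eq_zero_iff_mem.mp h0)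
  have e1 : Ring.ordFrac (A ⧸ q) (algebraMap A q.ResidueField a) =
      ((Multiplicative.ofAdd (na : ℤ) : Multiplicative ℤ) : WithZero (Multiplicative ℤ)) := by
    rw [← Ideal.algebraMap_quotient_residueField_mk, Ring.ordFrac_eq_ord (A ⧸ q) ha']
    exact Ring.ordMonoidWithZeroHom_eq_coe (A ⧸ q) (mem_nonZeroDivisors_iff_ne_zero.mpr ha') hna
  have e2 : Ring.ordFrac (A ⧸ q) (algebraMap A q.ResidueField b) =
      ((Multiplicative.ofAdd (nb : ℤ) : Multiplicative ℤ) : WithZero (Multiplicative ℤ)) := by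
    rw [← Ideal.algebraMap_quotient_residueField_mk, Ring.ordFrac_eq_ord (A ⧸ q) hb']
    exact Ring.ordMonoidWithZeroHom_eq_coe (A ⧸ q) (mem_nonZeroDivisors_iff_ne_zero.mpr hb') hnb
  unfold CycAlg.ordFrac
  rw [dif_pos h, map_div₀, e1, e2, ← WithZero.coe_div]
  simp

theorem main (hA : ringKrullDim A = 1) {M : Type u} [AddCommGroup M] [Module A M]
    [Module.Finite A M] (a b : A) (ha : a ∈ nonZeroDivisors A) (hb : b ∈ nonZeroDivisors A)
    (hMemb : ∀ p ∈ associatedPrimes A M, p ∈ minimalPrimes A)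
    (I : Ideal A) (hI : I = (Ideal.span {b}).colon (Ideal.span {a})) (P : Submodule A M)
    (hP : P = Submodule.comap (LinearMap.lsmul A M b)
      ((Ideal.span {a} * I) • (⊤ : Submodule A M))) :
    (Ideal.span {a} * I) • (⊤ : Submodule A M) ≤ LinearMap.range (LinearMap.lsmul A M b) ∧
    ((Module.length A (M ⧸ P)).toNat : ℤ) -
      ((Module.length A (M ⧸ I • (⊤ : Submodule A M))).toNat : ℤ) =
      ∑ᶠ (q : PrimeSpectrum A) (_ : q.asIdeal ∈ minimalPrimes A),
        ((Module.length (Localization.AtPrime q.asIdeal)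
          (LocalizedModule q.asIdeal.primeCompl M)).toNat : ℤ) *
          CycAlg.ordFrac (A ⧸ q.asIdeal) q.asIdeal.ResidueField
            (algebraMap A q.asIdeal.ResidueField a / algebraMap A q.asIdeal.ResidueField b) := by
  classical
  have haq := not_mem_of_nzd a ha
  have hbq := not_mem_of_nzd b hb
  have hregb : IsSMulRegular M b := regular_of hMemb b hbq
  have hrega : IsSMulRegular M a := regular_of hMemb a haq
  have hmemI : ∀ x, x ∈ I ↔ x * a ∈ Ideal.span {b} := by
    intro x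
    rw [hI, Submodule.mem_colon]
    constructor
    · intro h
      have := h a (Ideal.mem_span_singleton_self a)
      rwa [smul_eq_mul] at this
    · intro h p hp
      obtain ⟨c, rfl⟩ := Ideal.mem_span_singleton'.mp hp
      rw [smul_eq_mul]
      have : x * (c * a) = c * (x * a) := by ring
      rw [this]
      exact Ideal.mul_mem_left _ c h
  have hbI : b ∈ I := by
    rw [hmemI]
    exact Ideal.mul_mem_right a _ (Ideal.mem_span_singleton_self b)
  have hJb : Ideal.span {a} * I ≤ Ideal.span {b} := by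
    rw [Ideal.mul_le]
    intro r hr s hs
    obtain ⟨c, rfl⟩ := Ideal.mem_span_singleton'.mp hr
    have h1 := (hmemI s).mp hs
    have : c * a * s = c * (s * a) := by ring
    rw [this]
    exact Ideal.mul_mem_left _ c h1
  have hrange : LinearMap.range (LinearMap.lsmul A M b) = b • (⊤ : Submodule A M) := by
    ext x
    rw [LinearMap.mem_range, Submodule.mem_smul_pointwise_iff_exists]
    constructor
    · rintro ⟨y, rfl⟩; exact ⟨y, Submodule.mem_top, rfl⟩
    · rintro ⟨y, -, rfl⟩; exact ⟨y, rfl⟩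
  obtain ⟨N₁, hN₁⟩ : ∃ N : Submodule A M, N = (Ideal.span {a} * I) • (⊤ : Submodule A M) :=
    ⟨_, rfl⟩
  obtain ⟨N₃, hN₃⟩ : ∃ N : Submodule A M, N = I • (⊤ : Submodule A M) := ⟨_, rfl⟩
  have hN₁₃ : N₁ = a • N₃ := by
    rw [hN₁, hN₃, Submodule.mul_smul, Submodule.ideal_span_singleton_smul]
  have hN₁₂ : N₁ ≤ b • (⊤ : Submodule A M) := by
    rw [hN₁, ← Submodule.ideal_span_singleton_smul b ⊤]
    exact Submodule.smul_mono_left hJb
  have hN₁le₃ : N₁ ≤ N₃ := by
    rw [hN₁, hN₃]
    exact Submodule.smul_mono_left Ideal.mul_le_right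
  rw [← hN₁] at hP ⊢
  rw [← hN₃, hrange]
  refine ⟨hN₁₂, ?_⟩
  have hP' : P = LinearMap.ker (N₁.mkQ ∘ₗ LinearMap.lsmul A M b) := by
    rw [hP, LinearMap.ker_comp, Submodule.ker_mkQ]
  have hr2 : LinearMap.range (N₁.mkQ ∘ₗ LinearMap.lsmul A M b) =
      (b • (⊤ : Submodule A M)).map N₁.mkQ := by
    rw [LinearMap.range_comp, hrange]
  have E1 : Module.length A (M ⧸ N₁) =
      Module.length A (M ⧸ P) + Module.length A (M ⧸ b • (⊤ : Submodule A M)) := by
    rw [length_chain N₁ _ hN₁₂, ← hr2,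
      ← (N₁.mkQ ∘ₗ LinearMap.lsmul A M b).quotKerEquivRange.length_eq, ← hP']
  have hr3 : LinearMap.range (N₁.mkQ ∘ₗ N₃.subtype) = N₃.map N₁.mkQ := by
    rw [LinearMap.range_comp, Submodule.range_subtype]
  have E2 : Module.length A (M ⧸ N₁) =
      Module.length A (↥N₃ ⧸ a • (⊤ : Submodule A ↥N₃)) + Module.length A (M ⧸ N₃) := by
    rw [length_chain N₁ N₃ hN₁le₃, ← hr3,
      ← (N₁.mkQ ∘ₗ N₃.subtype).quotKerEquivRange.length_eq, ker_comp_subtype a N₃ N₁ hN₁₃]
  haveI : IsNoetherian A M := isNoetherian_of_isNoetherianRing_of_finite A M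
  haveI : Module.Finite A ↥N₃ := inferInstance
  have hrega3 : IsSMulRegular ↥N₃ a := by
    intro x y hxy
    apply Subtype.ext
    apply hrega
    exact congrArg Subtype.val hxy
  have E3 := len_quot_regular hA M b hbq hregb
  have E4 := len_quot_regular hA ↥N₃ a haq hrega3
  have hX : Module.length A (M ⧸ b • (⊤ : Submodule A M)) < ⊤ := len_quot_smul_lt_top hA M b hbq
  have hY : Module.length A (↥N₃ ⧸ a • (⊤ : Submodule A ↥N₃)) < ⊤ :=
    len_quot_smul_lt_top hA ↥N₃ a haq
  have hZ : Module.length A (M ⧸ N₃) < ⊤ := by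
    rw [hN₃]
    apply H1833.length_lt_top_of_support_subset
    intro p hp
    rw [Module.support_quotient] at hp
    by_contra hne
    exact hbq _ (H0616.minimal_of_ne hA p hne) ((PrimeSpectrum.mem_zeroLocus _ _).mp hp.2 hbI)
  have hS := finite_minSpec (A := A)
  have E3' : Module.length A (M ⧸ b • (⊤ : Submodule A M)) = ∑ q ∈ hS.toFinset,
      Module.length (Localization.AtPrime q.asIdeal) (LocalizedModule q.asIdeal.primeCompl M) *
        Module.length A (A ⧸ (q.asIdeal ⊔ Ideal.span {b})) := by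
    rw [E3]; exact finsum_mem_eq_finite_toFinset_sum _ hS
  have E4' : Module.length A (↥N₃ ⧸ a • (⊤ : Submodule A ↥N₃)) = ∑ q ∈ hS.toFinset,
      Module.length (Localization.AtPrime q.asIdeal) (LocalizedModule q.asIdeal.primeCompl M) *
        Module.length A (A ⧸ (q.asIdeal ⊔ Ideal.span {a})) := by
    rw [E4]
    refine (finsum_mem_eq_finite_toFinset_sum _ hS).trans ?_
    refine Finset.sum_congr rfl fun q hq => ?_
    have hqmin : q.asIdeal ∈ minimalPrimes A := (Set.Finite.mem_toFinset hS).mp hq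
    rw [hN₃, ell_submodule_eq I b hbI q (hbq _ hqmin)]
  have hsum : Module.length A (M ⧸ P) + Module.length A (M ⧸ b • (⊤ : Submodule A M)) =
      Module.length A (↥N₃ ⧸ a • (⊤ : Submodule A ↥N₃)) + Module.length A (M ⧸ N₃) := by
    rw [← E1, E2]
  have hp : Module.length A (M ⧸ P) < ⊤ := by
    have h1 : Module.length A (M ⧸ P) ≤
        Module.length A (↥N₃ ⧸ a • (⊤ : Submodule A ↥N₃)) + Module.length A (M ⧸ N₃) := by
      rw [← hsum]; exact le_self_add
    exact lt_of_le_of_lt h1 (ENat.add_lt_top.mpr ⟨hY, hZ⟩)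
  have key : ((Module.length A (M ⧸ P)).toNat : ℤ) - (Module.length A (M ⧸ N₃)).toNat =
      ((Module.length A (↥N₃ ⧸ a • (⊤ : Submodule A ↥N₃))).toNat : ℤ) -
        (Module.length A (M ⧸ b • (⊤ : Submodule A M))).toNat := by
    have h2 := congrArg ENat.toNat hsum
    rw [ENat.toNat_add hp.ne hX.ne, ENat.toNat_add hY.ne hZ.ne] at h2
    omega
  rw [key, E3', E4']
  refine Eq.trans ?_ (finsum_mem_eq_finite_toFinset_sum _ hS).symm
  refine final_arith hS.toFinset
    (fun q => Module.length (Localization.AtPrime q.asIdeal)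
      (LocalizedModule q.asIdeal.primeCompl M))
    (fun q => Module.length A (A ⧸ (q.asIdeal ⊔ Ideal.span {a})))
    (fun q => Module.length A (A ⧸ (q.asIdeal ⊔ Ideal.span {b})))
    (fun q => CycAlg.ordFrac (A ⧸ q.asIdeal) q.asIdeal.ResidueField
      (algebraMap A q.asIdeal.ResidueField a / algebraMap A q.asIdeal.ResidueField b))
    (ne_of_eq_of_ne E4'.symm hY.ne) (ne_of_eq_of_ne E3'.symm hX.ne) ?_
  intro q hq
  have hqmin : q.asIdeal ∈ minimalPrimes A := (Set.Finite.mem_toFinset hS).mp hq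
  have hdimq : Ring.KrullDimLE 1 (A ⧸ q.asIdeal) := by
    rw [Ring.krullDimLE_iff, Nat.cast_one]
    exact (ringKrullDim_quotient_le q.asIdeal).trans hA.le
  have hαfin := len_quot_sup_lt_top hA q.asIdeal a haq
  have hβfin := len_quot_sup_lt_top hA q.asIdeal b hbq
  refine ordFrac_eq q.asIdeal hdimq a b (haq _ hqmin) (hbq _ hqmin) _ _ ?_ ?_
  · rw [H0616.ord_eq, ENat.natCast_toNat hαfin.ne]
  · rw [H0616.ord_eq, ENat.natCast_toNat hβfin.ne]
end
end H6480

/-- Let A be a Noetherian local ring of dimension 1, a, b ∈ A nonzerodivisors, A without embedded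
primes, M a finite A-module without embedded associated primes and with Supp(M) = Spec(A). Put I =
{x ∈ A | x·(a/b) ∈ A}, and write 𝔮_1, …, 𝔮_t for the minimal prime ideals of A. The conclusion is
that M contains (a/b)IM, and that the difference length_A(M/(a/b)IM) minus length_A(M/IM) equals the
sum over i of length_{A_{𝔮_i}}(M_{𝔮_i}) multiplied by ord_{A/𝔮_i}(a/b). Encoding: I is the ideal
quotient (bA : aA); '(a/b)IM ⊂ M' is aIM ⊆ bM; (a/b)IM is the submodule of m with bm ∈ aIM (b acts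
injectively on M); ord_{A/𝔮}(a/b) is CycAlg.ordFrac on κ(𝔮) = Frac(A/𝔮); lengths are truncated to ℕ
(they are finite here). -/
theorem result {A : Type u} [CommRing A] [IsNoetherianRing A] [IsLocalRing A] (hA : ringKrullDim A = 1) {M : Type u} [AddCommGroup M] [Module A M] [Module.Finite A M] (a b : A) (ha : a ∈ nonZeroDivisors A) (hb : b ∈ nonZeroDivisors A) (hAemb : ∀ p ∈ associatedPrimes A A, p ∈ minimalPrimes A) (hMemb : ∀ p ∈ associatedPrimes A M, p ∈ minimalPrimes A) (hsupp : Module.support A M = Set.univ) (I : Ideal A) (hI : I = (Ideal.span {b}).colon (Ideal.span {a})) (P : Submodule A M) (hP : P = Submodule.comap (LinearMap.lsmul A M b) ((Ideal.span {a} * I) • (⊤ : Submodule A M))) : (Ideal.span {a} * I) • (⊤ : Submodule A M) ≤ LinearMap.range (LinearMap.lsmul A M b) ∧ ((Module.length A (M ⧸ P)).toNat : ℤ) - ((Module.length A (M ⧸ I • (⊤ : Submodule A M))).toNat : ℤ) = ∑ᶠ (q : PrimeSpectrum A) (_ : q.asIdeal ∈ minimalPrimes A), ((Module.length (Localization.AtPrime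 q.asIdeal) (LocalizedModule q.asIdeal.primeCompl M)).toNat : ℤ) * CycAlg.ordFrac (A ⧸ q.asIdeal) q.asIdeal.ResidueField (algebraMap A q.asIdeal.ResidueField a / algebraMap A q.asIdeal.ResidueField b) := by
  exact H6480.main hA a b ha hb hMemb I hI P hP

end Groth.Agent.S6480
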