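import Groth.Statements.S6484
import Mathlib

set_option autoImplicit false
universe u
open CategoryTheory AlgebraicGeometry
open CategoryTheory.Limits
open Cyc

namespace Groth.Agent.S6484

theorem aux_surj {K : Type u} [Field K] {Y' X' : Scheme.{u}} (s : Y' ⟶ X')
    (h : Spec (.of K) ⟶ Y')
    (hsurj : Function.Surjective
      (Scheme.descResidueField (Scheme.stalkClosedPointTo (h ≫ s))).hom) :
    Function.Surjective (s.residueFieldMap (h (IsLocalRing.closedPoint K))).hom := by
  have hcomp := Scheme.descResidueField_stalkClosedPointTo_comp s h
  have hDinj : Function.Injective (Scheme.descResidueField (Scheme.stalkClosedPointTo h)).hom :=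
    (Scheme.descResidueField (Scheme.stalkClosedPointTo h)).hom.injective
  intro z
  obtain ⟨w, hw⟩ := hsurj ((Scheme.descResidueField (Scheme.stalkClosedPointTo h)).hom z)
  refine ⟨w, hDinj ?_⟩
  rw [← hw]
  exact (ConcreteCategory.congr_hom hcomp w).symm

/-- If f : Y → X is completely decomposed (this prelude's Cyc.IsCompletelyDecomposed: over every point
of X lies a point of Y with trivial residue field extension) and g : X' → X is any morphism of
schemes, then the base change Y ×_X X' → X' is completely decomposed. Consequently the base change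
of an envelope (a proper completely decomposed morphism) is an envelope, properness being preserved
by base change. (The published envelope statement takes X′ → X between schemes locally of finite
type over a base; this row allows any g.) -/
theorem result (X X' Y : Scheme.{u}) (f : Y ⟶ X) (g : X' ⟶ X) (hcd : Cyc.IsCompletelyDecomposed f) : Cyc.IsCompletelyDecomposed (pullback.snd f g) := by
  intro x'
  obtain ⟨y, hy, hsurj⟩ := hcd (g x')
  have hbij : Function.Bijective (f.residueFieldMap y).hom :=
    ⟨(f.residueFieldMap y).hom.injective, hsurj⟩
  haveI : IsIso (f.residueFieldMap y) := (ConcreteCategory.isIso_iff_bijective _).mpr hbij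
  let K : Type u := X'.residueField x'
  let ψ : Y.residueField y ⟶ CommRingCat.of K :=
    inv (f.residueFieldMap y) ≫ (X.residueFieldCongr hy).hom ≫ g.residueFieldMap x'
  let a : Spec (CommRingCat.of K) ⟶ Y := Spec.map ψ ≫ Y.fromSpecResidueField y
  let b : Spec (CommRingCat.of K) ⟶ X' := (Scheme.SpecToEquivOfField K X').symm ⟨x', 𝟙 _⟩
  have hb : b = X'.fromSpecResidueField x' := by
    show Spec.map (𝟙 _) ≫ X'.fromSpecResidueField x' = _
    rw [Spec.map_id]
    exact Category.id_comp _
  have ha : a ≫ f = b ≫ g := by
    rw [hb]
    simp only [a, ψ, Category.assoc]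
    rw [← Scheme.Hom.SpecMap_residueFieldMap_fromSpecResidueField,
      ← Scheme.Hom.SpecMap_residueFieldMap_fromSpecResidueField, ← Spec.map_comp_assoc,
      ← Scheme.residueFieldCongr_fromSpecResidueField hy, ← Spec.map_comp_assoc]
    congr 2
    simp
  have hbE := (Scheme.SpecToEquivOfField K X').apply_symm_apply ⟨x', 𝟙 _⟩
  rw [Scheme.SpecToEquivOfField_eq_iff] at hbE
  obtain ⟨e, he⟩ := hbE
  have hbsurj : Function.Surjective
      (Scheme.descResidueField (Scheme.stalkClosedPointTo b)).hom := by
    have he' : Scheme.descResidueField (Scheme.stalkClosedPointTo b) =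
        (X'.residueFieldCongr e).hom ≫ 𝟙 _ := he
    rw [he', Category.comp_id]
    exact (ConcreteCategory.bijective_of_isIso (X'.residueFieldCongr e).hom).2
  let h : Spec (CommRingCat.of K) ⟶ pullback f g := pullback.lift a b ha
  have hs : h ≫ pullback.snd f g = b := pullback.lift_snd _ _ _
  have hpt : (pullback.snd f g) (h (IsLocalRing.closedPoint K)) = x' := by
    have h1 : (h ≫ pullback.snd f g) (IsLocalRing.closedPoint K) = x' := by
      rw [hs]; exact e
    simpa using h1
  refine ⟨h (IsLocalRing.closedPoint K), hpt, ?_⟩
  apply aux_surj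
  rw [hs]
  exact hbsurj

end Groth.Agent.S6484
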