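import Groth.Statements.S6485
import Mathlib

set_option autoImplicit false
universe u
open IntMult

namespace Groth.Agent.S6485

section aux

open MvPolynomial

variable {k : Type u} [Field k] {n : ℕ}

/-- set the variables satisfying `S` to zero. -/
noncomputable def zeroOn (S : Fin n × Fin n → Prop) [DecidablePred S] :
    MvPolynomial (Fin n × Fin n) k →ₐ[k] MvPolynomial (Fin n × Fin n) k :=
  bind₁ (fun x => if S x then 0 else X x)

/-- scale the variables satisfying `S` by a new variable `T`. -/
noncomputable def scaleOn (S : Fin n × Fin n → Prop) [DecidablePred S] :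
    MvPolynomial (Fin n × Fin n) k →ₐ[k] Polynomial (MvPolynomial (Fin n × Fin n) k) :=
  aeval (fun x => if S x then Polynomial.X * Polynomial.C (X x) else Polynomial.C (X x))

theorem zeroOn_X (S : Fin n × Fin n → Prop) [DecidablePred S] (x : Fin n × Fin n) :
    zeroOn (k := k) S (X x) = if S x then 0 else X x := by
  rw [zeroOn, bind₁_X_right]

theorem scaleOn_X (S : Fin n × Fin n → Prop) [DecidablePred S] (x : Fin n × Fin n) :
    scaleOn (k := k) S (X x) =
      if S x then Polynomial.X * Polynomial.C (X x) else Polynomial.C (X x) := by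
  rw [scaleOn, aeval_X]

theorem scaleOn_C (S : Fin n × Fin n → Prop) [DecidablePred S] (a : k) :
    scaleOn (k := k) S (C a) = Polynomial.C (C a) := by
  rw [scaleOn, aeval_C]
  rfl

theorem eval_one_scaleOn (S : Fin n × Fin n → Prop) [DecidablePred S]
    (h : MvPolynomial (Fin n × Fin n) k) : Polynomial.eval 1 (scaleOn S h) = h := by
  induction h using MvPolynomial.induction_on with
  | C a => rw [scaleOn_C, Polynomial.eval_C]
  | add p q hp hq => rw [map_add, Polynomial.eval_add, hp, hq]
  | mul_X p x hp =>
    rw [map_mul, Polynomial.eval_mul, hp, scaleOn_X]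
    split_ifs <;> simp

theorem eval_zero_scaleOn (S : Fin n × Fin n → Prop) [DecidablePred S]
    (h : MvPolynomial (Fin n × Fin n) k) : Polynomial.eval 0 (scaleOn S h) = zeroOn S h := by
  induction h using MvPolynomial.induction_on with
  | C a =>
    rw [scaleOn_C, Polynomial.eval_C, zeroOn, bind₁_C_right]
  | add p q hp hq => rw [map_add, Polynomial.eval_add, hp, hq, map_add]
  | mul_X p x hp =>
    rw [map_mul, Polynomial.eval_mul, hp, scaleOn_X, map_mul, zeroOn_X]
    split_ifs <;> simp

theorem zeroOn_eq_of_natDegree (S : Fin n × Fin n → Prop) [DecidablePred S]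
    (h : MvPolynomial (Fin n × Fin n) k) (hd : (scaleOn S h).natDegree = 0) : zeroOn S h = h := by
  have hc := Polynomial.eq_C_of_natDegree_eq_zero hd
  have h1 := eval_one_scaleOn S h
  have h0 := eval_zero_scaleOn S h
  rw [hc, Polynomial.eval_C] at h1 h0
  rw [← h0, h1]

theorem not_S_of_mem_vars (S : Fin n × Fin n → Prop) [DecidablePred S]
    (h : MvPolynomial (Fin n × Fin n) k) {x : Fin n × Fin n} (hx : x ∈ (zeroOn S h).vars) :
    ¬ S x := by
  classical
  have := vars_bind₁ (fun x => if S x then (0 : MvPolynomial (Fin n × Fin n) k) else X x) h hx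
  rw [Finset.mem_biUnion] at this
  obtain ⟨y, _, hy⟩ := this
  by_cases hSy : S y
  · simp [hSy] at hy
  · simp only [hSy, if_false, vars_X, Finset.mem_singleton] at hy
    rw [hy]
    exact hSy

theorem zeroOn_zeroOn (S S' : Fin n × Fin n → Prop) [DecidablePred S] [DecidablePred S']
    (hSS : ∀ x, S' x → S x) (h : MvPolynomial (Fin n × Fin n) k) :
    zeroOn S' (zeroOn S h) = zeroOn S h := by
  have : (zeroOn (k := k) S').comp (zeroOn S) = zeroOn S := by
    apply MvPolynomial.algHom_ext
    intro x
    rw [AlgHom.comp_apply, zeroOn_X]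
    by_cases hS : S x
    · simp [hS]
    · have hS' : ¬ S' x := fun h' => hS (hSS x h')
      simp [hS, hS', zeroOn_X]
  exact AlgHom.congr_fun this h

theorem eval_zeroOn (S : Fin n × Fin n → Prop) [DecidablePred S] (e : Fin n × Fin n → k)
    (h : MvPolynomial (Fin n × Fin n) k) :
    eval e (zeroOn S h) = eval (fun x => if S x then 0 else e x) h := by
  change aeval e (bind₁ _ h) = aeval _ h
  rw [aeval_bind₁]
  have : (fun i => aeval e (if S i then (0 : MvPolynomial (Fin n × Fin n) k) else X i)) =
      fun x => if S x then 0 else e x := by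
    funext x
    split_ifs <;> simp
  rw [this]

open Matrix in
theorem scaleOn_row (i : Fin n) :
    scaleOn (k := k) (fun x => x.1 = i) (Matrix.mvPolynomialX (Fin n) (Fin n) k).det =
      Polynomial.X * Polynomial.C (Matrix.mvPolynomialX (Fin n) (Fin n) k).det := by
  rw [AlgHom.map_det]
  have hm : (scaleOn (k := k) (fun x => x.1 = i)).mapMatrix (Matrix.mvPolynomialX (Fin n) (Fin n) k) =
      Matrix.diagonal (fun a => if a = i then (Polynomial.X : Polynomial (MvPolynomial (Fin n × Fin n) k)) else 1) *
        (Polynomial.C : MvPolynomial (Fin n × Fin n) k →+* _).mapMatrix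
          (Matrix.mvPolynomialX (Fin n) (Fin n) k) := by
    refine Matrix.ext fun a b => ?_
    rw [Matrix.diagonal_mul]
    simp only [AlgHom.mapMatrix_apply, RingHom.mapMatrix_apply, Matrix.map_apply,
      Matrix.mvPolynomialX_apply, scaleOn_X]
    split_ifs with h
    · rfl
    · exact (one_mul _).symm
  rw [hm, Matrix.det_mul, Matrix.det_diagonal, ← RingHom.map_det, Finset.prod_ite_eq' Finset.univ i,
    if_pos (Finset.mem_univ i)]

open Matrix in
theorem scaleOn_col (j : Fin n) :
    scaleOn (k := k) (fun x => x.2 = j) (Matrix.mvPolynomialX (Fin n) (Fin n) k).det =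
      Polynomial.X * Polynomial.C (Matrix.mvPolynomialX (Fin n) (Fin n) k).det := by
  rw [AlgHom.map_det]
  have hm : (scaleOn (k := k) (fun x => x.2 = j)).mapMatrix (Matrix.mvPolynomialX (Fin n) (Fin n) k) =
      (Polynomial.C : MvPolynomial (Fin n × Fin n) k →+* _).mapMatrix
          (Matrix.mvPolynomialX (Fin n) (Fin n) k) *
      Matrix.diagonal (fun a => if a = j then (Polynomial.X : Polynomial (MvPolynomial (Fin n × Fin n) k)) else 1) := by
    refine Matrix.ext fun a b => ?_
    rw [Matrix.mul_diagonal]
    simp only [AlgHom.mapMatrix_apply, RingHom.mapMatrix_apply, Matrix.map_apply,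
      Matrix.mvPolynomialX_apply, scaleOn_X]
    split_ifs with h
    · exact mul_comm _ _
    · exact (mul_one _).symm
  rw [hm, Matrix.det_mul, Matrix.det_diagonal, ← RingHom.map_det, Finset.prod_ite_eq' Finset.univ j,
    if_pos (Finset.mem_univ j), mul_comm]

/-- if `scaleOn S` multiplies `D = f * g` by `T`, one of the factors is free of the variables in `S`. -/
theorem split_of_scale (S : Fin n × Fin n → Prop) [DecidablePred S]
    {D f g : MvPolynomial (Fin n × Fin n) k} (hS : scaleOn S D = Polynomial.X * Polynomial.C D)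
    (hfg : D = f * g) (hD : D ≠ 0) : zeroOn S f = f ∨ zeroOn S g = g := by
  have hne : (Polynomial.X * Polynomial.C D : Polynomial (MvPolynomial (Fin n × Fin n) k)) ≠ 0 := by
    apply mul_ne_zero Polynomial.X_ne_zero
    rwa [Ne, Polynomial.C_eq_zero]
  have hprod : scaleOn S f * scaleOn S g = Polynomial.X * Polynomial.C D := by
    rw [← map_mul, ← hfg, hS]
  have hf0 : scaleOn S f ≠ 0 := by
    intro h0
    rw [h0, zero_mul] at hprod
    exact hne hprod.symm
  have hg0 : scaleOn S g ≠ 0 := by
    intro h0
    rw [h0, mul_zero] at hprod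
    exact hne hprod.symm
  have hdeg := congrArg Polynomial.natDegree hprod
  rw [Polynomial.natDegree_mul hf0 hg0, Polynomial.natDegree_X_mul (by rwa [Ne, Polynomial.C_eq_zero]),
    Polynomial.natDegree_C] at hdeg
  rcases Nat.eq_zero_or_pos (scaleOn S f).natDegree with h | h
  · exact Or.inl (zeroOn_eq_of_natDegree S f h)
  · exact Or.inr (zeroOn_eq_of_natDegree S g (by omega))

open Matrix in
/-- `g` free of row `i` and `f` free of column `j` is impossible. -/
theorem cross {f g : MvPolynomial (Fin n × Fin n) k}
    (hfg : (Matrix.mvPolynomialX (Fin n) (Fin n) k).det = f * g) (i j : Fin n) :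
    ¬ (zeroOn (fun x => x.1 = i) g = g ∧ zeroOn (fun x => x.2 = j) f = f) := by
  classical
  rintro ⟨hg, hf⟩
  have hθg : zeroOn (fun x => x = (i, j)) g = g := by
    calc zeroOn (fun x => x = (i, j)) g = zeroOn (fun x => x = (i, j)) (zeroOn (fun x => x.1 = i) g) := by
          rw [hg]
      _ = zeroOn (fun x => x.1 = i) g := zeroOn_zeroOn _ _ (fun x hx => by rw [hx]) g
      _ = g := hg
  have hθf : zeroOn (fun x => x = (i, j)) f = f := by
    calc zeroOn (fun x => x = (i, j)) f = zeroOn (fun x => x = (i, j)) (zeroOn (fun x => x.2 = j) f) := by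
          rw [hf]
      _ = zeroOn (fun x => x.2 = j) f := zeroOn_zeroOn _ _ (fun x hx => by rw [hx]) f
      _ = f := hf
  have hθD : zeroOn (fun x => x = (i, j)) (Matrix.mvPolynomialX (Fin n) (Fin n) k).det =
      (Matrix.mvPolynomialX (Fin n) (Fin n) k).det := by
    rw [hfg, map_mul, hθf, hθg]
  set π : Equiv.Perm (Fin n) := Equiv.swap i j with hπ
  set e : Fin n × Fin n → k := fun x => (1 : Matrix (Fin n) (Fin n) k) (π x.1) x.2 with he
  have h1 : eval e (Matrix.mvPolynomialX (Fin n) (Fin n) k).det = Equiv.Perm.sign π := by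
    rw [Matrix.eval_det_mvPolynomialX]
    have : (Matrix.of fun a b : Fin n => e (a, b)) =
        (1 : Matrix (Fin n) (Fin n) k).submatrix π id := by
      refine Matrix.ext fun a b => ?_
      rfl
    rw [this, Matrix.det_permute, Matrix.det_one, mul_one]
  have h2 : eval e (zeroOn (fun x => x = (i, j)) (Matrix.mvPolynomialX (Fin n) (Fin n) k).det) = 0 := by
    rw [eval_zeroOn, Matrix.eval_det_mvPolynomialX]
    apply Matrix.det_eq_zero_of_row_eq_zero i
    intro b
    change (if (i, b) = (i, j) then (0 : k) else e (i, b)) = 0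
    by_cases hb : b = j
    · rw [if_pos (by rw [hb])]
    · rw [if_neg (by intro h; exact hb (Prod.ext_iff.mp h).2)]
      have hπi : π i = j := by rw [hπ, Equiv.swap_apply_left]
      have hei : e (i, b) = (1 : Matrix (Fin n) (Fin n) k) j b := by
        change (1 : Matrix (Fin n) (Fin n) k) (π i) b = _
        rw [hπi]
      rw [hei, Matrix.one_apply_ne (fun h => hb h.symm)]
  rw [hθD, h1] at h2
  rcases Int.units_eq_one_or (Equiv.Perm.sign π) with h | h <;> simp [h] at h2

end aux

/-- Let k be a field and n ≥ 1. Then the determinant of the generic matrix (x_{ij})_{1 ≤ i, j ≤ n} is an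
irreducible element of the polynomial ring k[x_{ij}] (Mathlib's Matrix.mvPolynomialX is the generic
matrix over MvPolynomial (Fin n × Fin n) k). -/
theorem result (k : Type u) [Field k] (n : ℕ) (hn : 1 ≤ n) : Irreducible (Matrix.mvPolynomialX (Fin n) (Fin n) k).det := by
  classical
  have hD0 : (Matrix.mvPolynomialX (Fin n) (Fin n) k).det ≠ 0 :=
    Matrix.det_mvPolynomialX_ne_zero (Fin n) k
  rw [irreducible_iff]
  constructor
  · intro hu
    have h0 : MvPolynomial.eval (fun _ : Fin n × Fin n => (0 : k))
        (Matrix.mvPolynomialX (Fin n) (Fin n) k).det = 0 := by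
      rw [Matrix.eval_det_mvPolynomialX]
      haveI : Nonempty (Fin n) := ⟨⟨0, hn⟩⟩
      have : (Matrix.of fun i j : Fin n => (0 : k)) = 0 := rfl
      rw [this]
      exact Matrix.det_zero
    have := hu.map (MvPolynomial.eval (fun _ : Fin n × Fin n => (0 : k)))
    rw [h0] at this
    exact not_isUnit_zero this
  · intro f g hfg
    have hrow : ∀ i : Fin n, zeroOn (fun x => x.1 = i) f = f ∨ zeroOn (fun x => x.1 = i) g = g :=
      fun i => split_of_scale _ (scaleOn_row i) hfg hD0
    have hcol : ∀ j : Fin n, zeroOn (fun x => x.2 = j) f = f ∨ zeroOn (fun x => x.2 = j) g = g :=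
      fun j => split_of_scale _ (scaleOn_col j) hfg hD0
    have hcross2 : ∀ i j : Fin n,
        ¬ (zeroOn (fun x => x.1 = i) f = f ∧ zeroOn (fun x => x.2 = j) g = g) := by
      intro i j
      exact cross (f := g) (g := f) (by rw [hfg, mul_comm]) i j
    have hunit : ∀ h : MvPolynomial (Fin n × Fin n) k, h ≠ 0 → h.vars = ∅ → IsUnit h := by
      intro h h0 hv
      rw [MvPolynomial.vars_eq_empty_iff_eq_C] at hv
      have hc : MvPolynomial.coeff 0 h ≠ 0 := by
        intro hc
        rw [hc, map_zero] at hv
        exact h0 hv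
      rw [hv]
      exact (IsUnit.mk0 _ hc).map MvPolynomial.C
    have hf0 : f ≠ 0 := by
      rintro rfl
      exact hD0 (by rw [hfg, zero_mul])
    have hg0 : g ≠ 0 := by
      rintro rfl
      exact hD0 (by rw [hfg, mul_zero])
    by_cases hA : ∀ i : Fin n, zeroOn (fun x => x.1 = i) g = g
    · right
      apply hunit g hg0
      rw [Finset.eq_empty_iff_forall_notMem]
      intro x hx
      rw [← hA x.1] at hx
      exact not_S_of_mem_vars _ _ hx rfl
    · left
      push Not at hA
      obtain ⟨i0, hi0⟩ := hA
      have hfi0 : zeroOn (fun x => x.1 = i0) f = f := (hrow i0).resolve_right hi0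
      have hcolf : ∀ j : Fin n, zeroOn (fun x => x.2 = j) f = f := by
        intro j
        refine (hcol j).resolve_right ?_
        intro hgj
        exact hcross2 i0 j ⟨hfi0, hgj⟩
      apply hunit f hf0
      rw [Finset.eq_empty_iff_forall_notMem]
      intro x hx
      rw [← hcolf x.2] at hx
      exact not_S_of_mem_vars _ _ hx rfl

end Groth.Agent.S6485
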