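import Groth.Statements.S6495
import Groth.Agent.Lib.Lead.LimCyc

set_option autoImplicit false
universe u
open CategoryTheory AlgebraicGeometry
open Cyc

namespace Groth.Agent.S6495

open Groth.Agent.Lib.Lead.CycPull
open Groth.Agent.Lib.Lead.LimCyc
open Limits

set_option backward.isDefEq.respectTransparency false

/-- Surjectivity of colim Z_k(X_i) → Z_k(X'): every k-cycle α' on the limit X' is g_i^*α for some i and
some k-cycle α on X_i, where g_i : X' → X_i is the projection and g_i^* the shift-0 base-change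
pullback on coefficient functions. Setting: a directed inverse system (X_i) of quasi-compact schemes
with affine flat transition morphisms and limit X' (a limit cone), each X_i and X' carrying a
dimension function with Cyc.IsSetup, and every transition map and every projection X' → X_i shifting
the dimension functions by c = 0 at generic points of fibres, so that the base-change pullbacks g^*
are Cyc.pullFun with shift 0. (The published statement takes X_i and X′ to be the base changes of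
one quasi-compact scheme of finite type over a base S along S_i → S and lim S_i → S; this row allows
any such inverse system.) -/
theorem result (I : Type u) [Preorder I] [IsDirected I (fun a b => a ≤ b)] [Nonempty I] (D : Iᵒᵖ ⥤ Scheme.{u}) (c : Limits.Cone D) (hc : Limits.IsLimit c) (haff : ∀ (i j : Iᵒᵖ) (f : i ⟶ j), IsAffineHom (D.map f)) (hflat : ∀ (i j : Iᵒᵖ) (f : i ⟶ j), Flat (D.map f)) (hqc : ∀ i, CompactSpace ↥(D.obj i)) (δ : (i : Iᵒᵖ) → ↥(D.obj i) → ℤ) (δ' : ↥c.pt → ℤ) (hset : ∀ i, Cyc.IsSetup (D.obj i) (δ i)) (hset' : Cyc.IsSetup c.pt δ') (hshift : ∀ (i j : Iᵒᵖ) (f : i ⟶ j) (x : ↥(D.obj i)), (∀ y, D.map f y = D.map f x → y ⤳ x → y = x) → δ i x = δ j (D.map f x)) (hflat' : ∀ i, Flat (c.π.app i)) (hshift' : ∀ (i : Iᵒᵖ) (x : ↥c.pt), (∀ y, c.π.app i y = c.π.app i x → y ⤳ x → y = x) → δ' x = δ i (c.π.app i x)) (k : ℤ) (α' : AlgebraicCycle c.pt ℤ) (hα' : α' ∈ Cyc.Zk c.pt δ' k) : ∃ (i : Iᵒᵖ) (α : AlgebraicCycle (D.obj i) ℤ), α ∈ Cyc.Zk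 (D.obj i) (δ i) k ∧ Cyc.pullFun (c.π.app i) δ' (δ i) 0 ⇑α = ⇑α' := by
  classical
  haveI : ∀ {a b : Iᵒᵖ} (f : a ⟶ b), IsAffineHom (D.map f) := fun f => haff _ _ f
  haveI : ∀ a, CompactSpace ↥(D.obj a) := hqc
  haveI hLN' : IsLocallyNoetherian c.pt := hset'.1
  haveI hcpt' : CompactSpace c.pt := Scheme.compactSpace_of_isLimit D c hc
  have hdim' : Cyc.IsDimFun c.pt δ' := hset'.2.2
  have hp : ∀ (i j : Iᵒᵖ) (f : j ⟶ i),
      (c.π.app j : c.pt ⟶ D.obj j) ≫ D.map f = (c.π.app i : c.pt ⟶ D.obj i) :=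
    fun i j f => c.w f
  have hsurj : ∀ (x' : c.pt) (a : c.pt.presheaf.stalk x'),
      ∃ (i : Iᵒᵖ) (b : (D.obj i).presheaf.stalk ((c.π.app i : c.pt ⟶ D.obj i) x')),
        (c.π.app i : c.pt ⟶ D.obj i).stalkMap x' b = a := fun x' a => stalk_surj D c hc x' a
  have hF2 : ∀ s s' : c.pt, (∀ i, (c.π.app i : c.pt ⟶ D.obj i) s =
      (c.π.app i : c.pt ⟶ D.obj i) s') → s = s' := fun s s' h => eq_of_forall_π_eq D c hc h
  have hM := fun x' : c.pt => exists_stage_map_maximalIdeal D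
    (fun i => (c.π.app i : c.pt ⟶ D.obj i)) hp hsurj x'
  have hL5 := fun x' : c.pt => exists_stage_unique D
    (fun i => (c.π.app i : c.pt ⟶ D.obj i)) hp hF2 δ δ' hdim'
    (fun i x hx => hshift' i x hx) hM x'
  -- finite support
  have hfin : (Function.support ⇑α').Finite := by
    have h := (Function.locallyFinsupp.locallyFiniteSupport α').finite_inter_support_of_isCompact
      isCompact_univ
    rwa [Set.univ_inter] at h
  have hSmem : ∀ s : c.pt, s ∈ hfin.toFinset ↔ α' s ≠ 0 := fun s => hfin.mem_toFinset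
  choose i₂ hi₂ using hL5
  have i₀ : Iᵒᵖ := (IsCofiltered.nonempty (C := Iᵒᵖ)).some
  let a : c.pt → c.pt → Iᵒᵖ := fun s t =>
    if h : ∃ i, (c.π.app i : c.pt ⟶ D.obj i) s ≠ (c.π.app i : c.pt ⟶ D.obj i) t
    then h.choose else i₀
  have ha : ∀ s t : c.pt, s ≠ t → (c.π.app (a s t) : c.pt ⟶ D.obj (a s t)) s ≠
      (c.π.app (a s t) : c.pt ⟶ D.obj (a s t)) t := by
    intro s t hst
    have h : ∃ i, (c.π.app i : c.pt ⟶ D.obj i) s ≠ (c.π.app i : c.pt ⟶ D.obj i) t := by
      by_contra hcon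
      push_neg at hcon
      exact hst (hF2 s t hcon)
    have hae : a s t = h.choose := dif_pos h
    rw [hae]
    exact h.choose_spec
  obtain ⟨i, hi⟩ := IsCofiltered.inf_objs_exists
    (hfin.toFinset.image i₂ ∪ (hfin.toFinset ×ˢ hfin.toFinset).image (fun st => a st.1 st.2))
  -- facts at stage i
  have hA : ∀ s : c.pt, α' s ≠ 0 →
      (Ideal.map ((c.π.app i : c.pt ⟶ D.obj i).stalkMap s).hom
        (IsLocalRing.maximalIdeal ((D.obj i).presheaf.stalk ((c.π.app i : c.pt ⟶ D.obj i) s))) =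
        IsLocalRing.maximalIdeal (c.pt.presheaf.stalk s)) ∧
      ∀ η : c.pt, (c.π.app i : c.pt ⟶ D.obj i) η = (c.π.app i : c.pt ⟶ D.obj i) s →
        (∀ y, (c.π.app i : c.pt ⟶ D.obj i) y = (c.π.app i : c.pt ⟶ D.obj i) η → y ⤳ η → y = η) →
        η = s := by
    intro s hs
    obtain ⟨g⟩ := hi (Finset.mem_union_left _
      (Finset.mem_image.mpr ⟨s, (hSmem s).mpr hs, rfl⟩))
    exact hi₂ s i g
  have hB : ∀ s t : c.pt, α' s ≠ 0 → α' t ≠ 0 → s ≠ t →
      (c.π.app i : c.pt ⟶ D.obj i) s ≠ (c.π.app i : c.pt ⟶ D.obj i) t := by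
    intro s t hs ht hst heq
    obtain ⟨g⟩ := hi (Finset.mem_union_right _ (Finset.mem_image.mpr
      ⟨(s, t), Finset.mem_product.mpr ⟨(hSmem s).mpr hs, (hSmem t).mpr ht⟩, rfl⟩))
    apply ha s t hst
    have g' : i ⟶ a s t := g
    have e1 : D.map g' ((c.π.app i : c.pt ⟶ D.obj i) s) =
        (c.π.app (a s t) : c.pt ⟶ D.obj (a s t)) s :=
      map_p_apply D (fun i => (c.π.app i : c.pt ⟶ D.obj i)) hp g' s
    have e2 : D.map g' ((c.π.app i : c.pt ⟶ D.obj i) t) =
        (c.π.app (a s t) : c.pt ⟶ D.obj (a s t)) t :=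
      map_p_apply D (fun i => (c.π.app i : c.pt ⟶ D.obj i)) hp g' t
    exact e1.symm.trans ((congrArg (D.map g') heq).trans e2)
  have hgenS : ∀ s : c.pt, α' s ≠ 0 →
      ∀ y, (c.π.app i : c.pt ⟶ D.obj i) y = (c.π.app i : c.pt ⟶ D.obj i) s → y ⤳ s → y = s :=
    fun s hs => genF_of_map_eq (c.π.app i : c.pt ⟶ D.obj i) s (hA s hs).1
  have hδS : ∀ s : c.pt, α' s ≠ 0 → δ i ((c.π.app i : c.pt ⟶ D.obj i) s) = k := by
    intro s hs
    have h1 := hshift' i s (hgenS s hs)
    have h2 : δ' s = k := by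
      by_contra hne
      exact hs (hα' s hne)
    rw [← h1, h2]
  -- the cycle on stage i
  let αf : D.obj i → ℤ := fun y =>
    ∑ t ∈ hfin.toFinset.filter (fun t => (c.π.app i : c.pt ⟶ D.obj i) t = y), α' t
  have hC : ∀ s : c.pt, α' s ≠ 0 → αf ((c.π.app i : c.pt ⟶ D.obj i) s) = α' s := by
    intro s hs
    refine Finset.sum_eq_single_of_mem s
      (Finset.mem_filter.mpr ⟨(hSmem s).mpr hs, rfl⟩) (fun t ht hts => ?_)
    obtain ⟨ht1, ht2⟩ := Finset.mem_filter.mp ht
    exact absurd ht2 (hB t s ((hSmem t).mp ht1) hs hts)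
  have hDD : ∀ y : D.obj i, αf y ≠ 0 →
      ∃ s : c.pt, α' s ≠ 0 ∧ (c.π.app i : c.pt ⟶ D.obj i) s = y := by
    intro y hy
    obtain ⟨s, hs1, -⟩ := Finset.exists_ne_zero_of_sum_ne_zero hy
    obtain ⟨hs2, hs3⟩ := Finset.mem_filter.mp hs1
    exact ⟨s, (hSmem s).mp hs2, hs3⟩
  have hsuppfin : (Function.support αf).Finite := by
    refine (hfin.image (c.π.app i : c.pt ⟶ D.obj i)).subset ?_
    intro y hy
    obtain ⟨s, hs, rfl⟩ := hDD y hy
    exact ⟨s, hs, rfl⟩
  let α : AlgebraicCycle (D.obj i) ℤ :=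
    ⟨αf, fun _ _ => Set.mem_univ _, fun z _ => ⟨Set.univ, Filter.univ_mem, by
      rw [Set.univ_inter]
      exact hsuppfin⟩⟩
  refine ⟨i, α, ?_, ?_⟩
  · intro y hy
    show αf y = 0
    by_contra hne
    obtain ⟨s, hs, rfl⟩ := hDD y hne
    exact hy (hδS s hs)
  · funext x'
    show Cyc.pullFun (c.π.app i) δ' (δ i) 0 αf x' = α' x'
    by_cases hx : α' x' = 0
    · rw [hx]
      by_cases hcond : δ' x' = δ i ((c.π.app i : c.pt ⟶ D.obj i) x') + 0
      · have hP : Cyc.pullFun (c.π.app i) δ' (δ i) 0 αf x' =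
            αf ((c.π.app i : c.pt ⟶ D.obj i) x') * mult (c.π.app i : c.pt ⟶ D.obj i) x' :=
          if_pos hcond
        have hz : αf ((c.π.app i : c.pt ⟶ D.obj i) x') = 0 := by
          by_contra hne
          obtain ⟨s, hs, hse⟩ := hDD _ hne
          have hB2 := Groth.Agent.S6479.delta_le_and (c.π.app i : c.pt ⟶ D.obj i) x' δ' (δ i)
            hdim' 0 (fun z hz => by rw [add_zero]; exact hshift' i z hz)
          have hxs : x' = s := (hA s hs).2 x' hse.symm (hB2.2 hcond)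
          rw [hxs] at hx
          exact hs hx
        rw [hP, hz, zero_mul]
      · exact if_neg hcond
    · have hcond : δ' x' = δ i ((c.π.app i : c.pt ⟶ D.obj i) x') + 0 := by
        rw [add_zero]
        exact hshift' i x' (hgenS x' hx)
      have hP : Cyc.pullFun (c.π.app i) δ' (δ i) 0 αf x' =
          αf ((c.π.app i : c.pt ⟶ D.obj i) x') * mult (c.π.app i : c.pt ⟶ D.obj i) x' :=
        if_pos hcond
      rw [hP, hC x' hx, mult_eq_one_of_map_eq (c.π.app i : c.pt ⟶ D.obj i) x' (hA x' hx).1,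
        mul_one]

end Groth.Agent.S6495
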