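import Groth.Statements.S6497
import Groth.Agent.Lib.Lead.LimCycRat

set_option autoImplicit false
universe u
open CategoryTheory AlgebraicGeometry
open Cyc

namespace Groth.Agent.S6497

open Groth.Agent.Lib.Lead.CycPull
open Groth.Agent.Lib.Lead.LimCyc
open Groth.Agent.Lib.Lead.LimCycRat
open Groth.Agent.S1940
open Limits

set_option backward.isDefEq.respectTransparency false

/-- Injectivity of colim CH_k(X_i) → CH_k(X'): if α ∈ Z_k(X_i) and g_i^*α ∼_rat 0 on X' (for a cycle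
with the pulled-back coefficients), then for some stage X_j above X_i the pullback of α to X_j is
∼_rat 0. Setting: a directed inverse system (X_i) of quasi-compact schemes with affine flat
transition morphisms and limit X' (a limit cone), each X_i and X' carrying a dimension function with
Cyc.IsSetup, and every transition map and every projection X' → X_i shifting the dimension functions
by c = 0 at generic points of fibres, so that the base-change pullbacks g^* are Cyc.pullFun with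
shift 0. (The published statement takes X_i and X′ to be the base changes of one quasi-compact
scheme of finite type over a base S along S_i → S and lim S_i → S; this row allows any such inverse
system.) -/
theorem result (I : Type u) [Preorder I] [IsDirected I (fun a b => a ≤ b)] [Nonempty I] (D : Iᵒᵖ ⥤ Scheme.{u}) (c : Limits.Cone D) (hc : Limits.IsLimit c) (haff : ∀ (i j : Iᵒᵖ) (f : i ⟶ j), IsAffineHom (D.map f)) (hflat : ∀ (i j : Iᵒᵖ) (f : i ⟶ j), Flat (D.map f)) (hqc : ∀ i, CompactSpace ↥(D.obj i)) (δ : (i : Iᵒᵖ) → ↥(D.obj i) → ℤ) (δ' : ↥c.pt → ℤ) (hset : ∀ i, Cyc.IsSetup (D.obj i) (δ i)) (hset' : Cyc.IsSetup c.pt δ') (hshift : ∀ (i j : Iᵒᵖ) (f : i ⟶ j) (x : ↥(D.obj i)), (∀ y, D.map f y = D.map f x → y ⤳ x → y = x) → δ i x = δ j (D.map f x)) (hflat' : ∀ i, Flat (c.π.app i)) (hshift' : ∀ (i : Iᵒᵖ) (x : ↥c.pt), (∀ y, c.π.app i y = c.π.app i x → y ⤳ x → y = x) → δ' x = δ i (c.π.app i x)) (k : ℤ) (i : Iᵒᵖ) (α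 : AlgebraicCycle (D.obj i) ℤ) (hα : α ∈ Cyc.Zk (D.obj i) (δ i) k) (α' : AlgebraicCycle c.pt ℤ) (hα' : ⇑α' = Cyc.pullFun (c.π.app i) δ' (δ i) 0 ⇑α) (h0 : Cyc.RatEquivZero δ' k α') : ∃ (j : Iᵒᵖ) (f : j ⟶ i) (αj : AlgebraicCycle (D.obj j) ℤ), ⇑αj = Cyc.pullFun (D.map f) (δ j) (δ i) 0 ⇑α ∧ Cyc.RatEquivZero (δ j) k αj := by
  classical
  haveI : ∀ {a b : Iᵒᵖ} (f : a ⟶ b), IsAffineHom (D.map f) := fun f => haff _ _ f
  haveI : ∀ a, CompactSpace ↥(D.obj a) := hqc
  haveI : ∀ a, Flat (c.π.app a) := hflat'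
  haveI hLN' : IsLocallyNoetherian c.pt := hset'.1
  haveI hcpt' : CompactSpace c.pt := Scheme.compactSpace_of_isLimit D c hc
  have hdim' : Cyc.IsDimFun c.pt δ' := hset'.2.2
  have hp : ∀ (i j : Iᵒᵖ) (f : j ⟶ i),
      (c.π.app j : c.pt ⟶ D.obj j) ≫ D.map f = (c.π.app i : c.pt ⟶ D.obj i) :=
    fun i j f => c.w f
  have hsurj : ∀ (x' : c.pt) (a : c.pt.presheaf.stalk x'),
      ∃ (i : Iᵒᵖ) (b : (D.obj i).presheaf.stalk ((c.π.app i : c.pt ⟶ D.obj i) x')),
        (c.π.app i : c.pt ⟶ D.obj i).stalkMap x' b = a := fun x' a => stalk_surj D c hc x' a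
  have hF2 : ∀ s s' : c.pt, (∀ i, (c.π.app i : c.pt ⟶ D.obj i) s =
      (c.π.app i : c.pt ⟶ D.obj i) s') → s = s' := fun s s' h => eq_of_forall_π_eq D c hc h
  have hM := fun x' : c.pt => exists_stage_map_maximalIdeal D
    (fun i => (c.π.app i : c.pt ⟶ D.obj i)) hp hsurj x'
  have hL5 := fun x' : c.pt => exists_stage_unique D
    (fun i => (c.π.app i : c.pt ⟶ D.obj i)) hp hF2 δ δ' hdim'
    (fun i x hx => hshift' i x hx) hM x'
  obtain ⟨ι, ξ', φ, hδξ', hφ, hlf', hsum'⟩ := h0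
  haveI : Finite ι := finite_index_of_compact ξ' hlf'
  haveI : Fintype ι := Fintype.ofFinite ι
  have hR := fun t : ι => exists_residue_stage D
    (fun i => (c.π.app i : c.pt ⟶ D.obj i)) hp hsurj (ξ' t) (φ t)
  choose i₂ hi₂ using fun t : ι => hL5 (ξ' t)
  choose i₃ hi₃ using hR
  obtain ⟨j, hj⟩ := IsCofiltered.inf_objs_exists
    (insert i (Finset.univ.image i₂ ∪ Finset.univ.image i₃))
  obtain ⟨f⟩ := hj (Finset.mem_insert_self _ _)
  have hU : ∀ t : ι,
      (Ideal.map ((c.π.app j : c.pt ⟶ D.obj j).stalkMap (ξ' t)).hom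
        (IsLocalRing.maximalIdeal
          ((D.obj j).presheaf.stalk ((c.π.app j : c.pt ⟶ D.obj j) (ξ' t)))) =
        IsLocalRing.maximalIdeal (c.pt.presheaf.stalk (ξ' t))) ∧
      ∀ η : c.pt, (c.π.app j : c.pt ⟶ D.obj j) η = (c.π.app j : c.pt ⟶ D.obj j) (ξ' t) →
        (∀ y, (c.π.app j : c.pt ⟶ D.obj j) y = (c.π.app j : c.pt ⟶ D.obj j) η → y ⤳ η → y = η) →
        η = ξ' t := by
    intro t
    obtain ⟨g⟩ := hj (Finset.mem_insert_of_mem (Finset.mem_union_left _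
      (Finset.mem_image.mpr ⟨t, Finset.mem_univ t, rfl⟩)))
    exact hi₂ t j g
  have hG : ∀ t : ι, ∃ g : (D.obj j).residueField ((c.π.app j : c.pt ⟶ D.obj j) (ξ' t)),
      ((c.π.app j : c.pt ⟶ D.obj j).residueFieldMap (ξ' t)).hom g = φ t := by
    intro t
    obtain ⟨g⟩ := hj (Finset.mem_insert_of_mem (Finset.mem_union_right _
      (Finset.mem_image.mpr ⟨t, Finset.mem_univ t, rfl⟩)))
    exact hi₃ t j g
  choose g hg using hG
  have hgenξ' : ∀ t : ι, ∀ y, (c.π.app j : c.pt ⟶ D.obj j) y =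
      (c.π.app j : c.pt ⟶ D.obj j) (ξ' t) → y ⤳ ξ' t → y = ξ' t :=
    fun t => genF_of_map_eq (c.π.app j : c.pt ⟶ D.obj j) (ξ' t) (hU t).1
  have hδξ : ∀ t : ι, δ j ((c.π.app j : c.pt ⟶ D.obj j) (ξ' t)) = k + 1 := by
    intro t
    rw [← hshift' j (ξ' t) (hgenξ' t)]
    exact hδξ' t
  have hgne : ∀ t : ι, g t ≠ 0 := by
    intro t h
    apply hφ t
    rw [← hg t, h, map_zero]
  haveI hLNj : IsLocallyNoetherian (D.obj j) := (hset j).1
  have hdimj : Cyc.IsDimFun (D.obj j) (δ j) := (hset j).2.2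
  -- the cycle β on stage j
  let βf : D.obj j → ℤ := fun y =>
    ∑ᶠ t : ι, Cyc.divFun (δ j) ((c.π.app j : c.pt ⟶ D.obj j) (ξ' t)) (g t) y
  have hβfin : (Function.support βf).Finite := by
    refine (Set.finite_iUnion (fun t : ι => divFun_support_finite (δ j) hdimj
      ((c.π.app j : c.pt ⟶ D.obj j) (ξ' t)) (g t))).subset ?_
    intro y hy
    by_contra hcon
    apply hy
    show (∑ᶠ t : ι, Cyc.divFun (δ j) ((c.π.app j : c.pt ⟶ D.obj j) (ξ' t)) (g t) y) = 0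
    apply finsum_eq_zero_of_forall_eq_zero
    intro t
    by_contra hne
    exact hcon (Set.mem_iUnion.mpr ⟨t, hne⟩)
  have hβfZ : ∀ y : D.obj j, δ j y ≠ k → βf y = 0 := by
    intro y hy
    show (∑ᶠ t : ι, Cyc.divFun (δ j) ((c.π.app j : c.pt ⟶ D.obj j) (ξ' t)) (g t) y) = 0
    apply finsum_eq_zero_of_forall_eq_zero
    intro t
    apply dif_neg
    rintro ⟨-, h2⟩
    have h3 := hδξ t
    omega
  obtain ⟨β, hβ⟩ := exists_cycle_of_finite_support βf hβfin
  have hβZ : β ∈ Cyc.Zk (D.obj j) (δ j) k := by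
    intro y hy
    rw [hβ]
    exact hβfZ y hy
  have hβR : Cyc.RatEquivZero (δ j) k β :=
    ⟨ι, fun t => (c.π.app j : c.pt ⟶ D.obj j) (ξ' t), g, hδξ, hgne,
      fun x => ⟨Set.univ, isOpen_univ, Set.mem_univ x, Set.toFinite _⟩,
      fun x => congrFun hβ x⟩
  have hcj : ∀ x' : c.pt, (∀ y, (c.π.app j : c.pt ⟶ D.obj j) y =
      (c.π.app j : c.pt ⟶ D.obj j) x' → y ⤳ x' → y = x') →
      δ' x' = δ j ((c.π.app j : c.pt ⟶ D.obj j) x') + 0 := by
    intro x' hx'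
    rw [add_zero]
    exact hshift' j x' hx'
  -- pullback of β to the limit is α'
  have hpullβ : Cyc.pullFun (c.π.app j : c.pt ⟶ D.obj j) δ' (δ j) 0 βf = ⇑α' := by
    funext x'
    rw [pull_formula (D.obj j) c.pt (δ j) δ' (hset j) hset' (c.π.app j : c.pt ⟶ D.obj j) 0 hcj k
      βf hβfZ (fun t => (c.π.app j : c.pt ⟶ D.obj j) (ξ' t)) g hδξ hgne (fun x => rfl) x',
      hsum' x']
    refine finsum_congr (fun t => ?_)
    let s₀ : SIdx (c.π.app j : c.pt ⟶ D.obj j)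
        (fun t => (c.π.app j : c.pt ⟶ D.obj j) (ξ' t)) t := ⟨ξ' t, rfl, hgenξ' t⟩
    rw [finsum_eq_single _ s₀
      (fun s hs => absurd (Subtype.ext ((hU t).2 s.1 s.2.1 s.2.2)) hs)]
    have hm : multN (c.π.app j : c.pt ⟶ D.obj j) (ξ' t) = 1 := by
      have h1 : ((multN (c.π.app j : c.pt ⟶ D.obj j) (ξ' t) : ℕ) : ℤ) = 1 :=
        mult_eq_one_of_map_eq (c.π.app j : c.pt ⟶ D.obj j) (ξ' t) (hU t).1
      exact_mod_cast h1
    have hpfn : pfn (c.π.app j : c.pt ⟶ D.obj j)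
        (fun t => (c.π.app j : c.pt ⟶ D.obj j) (ξ' t)) g ⟨t, s₀⟩ = φ t := by
      show pbase (c.π.app j : c.pt ⟶ D.obj j)
        (fun t => (c.π.app j : c.pt ⟶ D.obj j) (ξ' t)) g ⟨t, s₀⟩ ^
          multN (c.π.app j : c.pt ⟶ D.obj j) (ξ' t) = φ t
      rw [hm, pow_one]
      exact hg t
    rw [hpfn]
  -- the pullback of α to stage j
  have hαfin : (Function.support ⇑α).Finite := support_finite_of_compact α
  have hshiftf : ∀ x : D.obj j, (∀ y, D.map f y = D.map f x → y ⤳ x → y = x) →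
      δ j x = δ i (D.map f x) + 0 := by
    intro x hx
    rw [add_zero]
    exact hshift j i f x hx
  haveI : Flat (D.map f) := hflat _ _ f
  obtain ⟨αj, hαj⟩ := exists_cycle_of_finite_support
    (Cyc.pullFun (D.map f) (δ j) (δ i) 0 ⇑α)
    (pullFun_support_finite (D.map f) (δ j) (δ i) hdimj 0 hshiftf ⇑α hαfin)
  have hαjZ : αj ∈ Cyc.Zk (D.obj j) (δ j) k := by
    intro y hy
    rw [hαj]
    by_cases hA : δ j y = δ i (D.map f y) + 0
    · have hP : Cyc.pullFun (D.map f) (δ j) (δ i) 0 (⇑α) y =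
          α (D.map f y) * mult (D.map f) y := if_pos hA
      have hne : δ i (D.map f y) ≠ k := by
        rw [add_zero] at hA
        rw [← hA]
        exact hy
      rw [hP, hα (D.map f y) hne, zero_mul]
    · exact if_neg hA
  have hcomp := (Groth.Agent.S6479.result (D.obj i) (D.obj j) c.pt (D.map f)
    (c.π.app j : c.pt ⟶ D.obj j) (δ i) (δ j) δ' (hset i) (hset j) hset' 0 0 hshiftf hcj k α hα).2
  have hpullα : Cyc.pullFun (c.π.app j : c.pt ⟶ D.obj j) δ' (δ j) 0 ⇑αj = ⇑α' := by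
    rw [hαj, ← hcomp, hα']
    have e : (c.π.app j : c.pt ⟶ D.obj j) ≫ D.map f = (c.π.app i : c.pt ⟶ D.obj i) := c.w f
    rw [e]
    rfl
  have hγZ : αj - β ∈ Cyc.Zk (D.obj j) (δ j) k := by
    intro y hy
    have h1 : αj y = 0 := hαjZ y hy
    have h2 : β y = 0 := hβZ y hy
    show (⇑αj - ⇑β) y = 0
    rw [Pi.sub_apply, h1, h2, sub_zero]
  have hγ0 : Cyc.pullFun (c.π.app j) δ' (δ j) 0 ⇑(αj - β) = 0 := by
    show Cyc.pullFun (c.π.app j : c.pt ⟶ D.obj j) δ' (δ j) 0 (⇑αj - ⇑β) = 0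
    rw [pullFun_sub, hpullα, hβ, hpullβ, sub_self]
  obtain ⟨j', f', hf'⟩ := Groth.Agent.S6496.result I D c hc haff hflat hqc δ δ' hset hset' hshift
    hflat' hshift' k j (αj - β) hγZ hγ0
  have hshiftf' : ∀ x : D.obj j', (∀ y, D.map f' y = D.map f' x → y ⤳ x → y = x) →
      δ j' x = δ j (D.map f' x) + 0 := by
    intro x hx
    rw [add_zero]
    exact hshift j' j f' x hx
  have hshiftff : ∀ x : D.obj j', (∀ y, D.map (f' ≫ f) y = D.map (f' ≫ f) x → y ⤳ x → y = x) →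
      δ j' x = δ i (D.map (f' ≫ f) x) + 0 := by
    intro x hx
    rw [add_zero]
    exact hshift j' i (f' ≫ f) x hx
  haveI : Flat (D.map f') := hflat _ _ f'
  haveI hLNj' : IsLocallyNoetherian (D.obj j') := (hset j').1
  have heq : Cyc.pullFun (D.map f') (δ j') (δ j) 0 ⇑αj =
      Cyc.pullFun (D.map f') (δ j') (δ j) 0 ⇑β := by
    have h1 : Cyc.pullFun (D.map f') (δ j') (δ j) 0 (⇑αj - ⇑β) = 0 := hf'
    rw [pullFun_sub, sub_eq_zero] at h1
    exact h1
  have hcomp2 := (Groth.Agent.S6479.result (D.obj i) (D.obj j) (D.obj j') (D.map f) (D.map f')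
    (δ i) (δ j) (δ j') (hset i) (hset j) (hset j') 0 0 hshiftf hshiftf' k α hα).2
  obtain ⟨αj', hαj'⟩ := exists_cycle_of_finite_support
    (Cyc.pullFun (D.map (f' ≫ f)) (δ j') (δ i) 0 ⇑α)
    (pullFun_support_finite (D.map (f' ≫ f)) (δ j') (δ i) (hset j').2.2 0 hshiftff ⇑α hαfin)
  refine ⟨j', f' ≫ f, αj', hαj', ?_⟩
  have hαj'β : ⇑αj' = Cyc.pullFun (D.map f') (δ j') (δ j) 0 ⇑β := by
    rw [hαj', D.map_comp]
    have h1 : Cyc.pullFun (D.map f' ≫ D.map f) (δ j') (δ i) 0 ⇑α =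
        Cyc.pullFun (D.map f' ≫ D.map f) (δ j') (δ i) (0 + 0) ⇑α := rfl
    rw [h1, hcomp2, ← hαj, heq]
  have hres := Groth.Agent.S1940.result (D.obj j) (D.obj j') (δ j) (δ j') (hset j) (hset j')
    (D.map f') 0 hshiftf' k β hβZ hβR αj' hαj'β
  rwa [add_zero] at hres

end Groth.Agent.S6497
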