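import Groth.Statements.S6499
import Groth.Agent.S0019

set_option autoImplicit false
universe u
open CategoryTheory AlgebraicGeometry
open Cyc

namespace Groth.Agent.S6499

open Opposite TopologicalSpace in
/-- If all stalks of `F` along the fibre over `y` vanish and `π` is closed, the stalk of `π_* F` at
`y` vanishes. -/
theorem stalk_push_subsingleton {X Y : Scheme.{u}} (π : X ⟶ Y) (hcl : IsClosedMap π)
    (F : X.Modules) (y : Y) (h : ∀ x : X, π x = y → Subsingleton (F.presheaf.stalk x)) :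
    Subsingleton (((Coh.push π).obj F).presheaf.stalk y) := by
  set N := (Coh.push π).obj F with hN
  refine ⟨fun a b => ?_⟩
  obtain ⟨U, hyU, s0, rfl⟩ := N.presheaf.exists_germ_eq (x := y) a
  obtain ⟨V, hyV, t0, rfl⟩ := N.presheaf.exists_germ_eq (x := y) b
  have hyT : y ∈ U ⊓ V := ⟨hyU, hyV⟩
  let s : Γ(F, π ⁻¹ᵁ (U ⊓ V)) := N.presheaf.map (homOfLE (inf_le_left : U ⊓ V ≤ U)).op s0
  let t : Γ(F, π ⁻¹ᵁ (U ⊓ V)) := N.presheaf.map (homOfLE (inf_le_right : U ⊓ V ≤ V)).op t0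
  rw [← N.presheaf.germ_res_apply (homOfLE (inf_le_left : U ⊓ V ≤ U)) y hyT s0,
    ← N.presheaf.germ_res_apply (homOfLE (inf_le_right : U ⊓ V ≤ V)) y hyT t0]
  let E : Set X := {x | ∃ hx : x ∈ π ⁻¹ᵁ (U ⊓ V),
    F.presheaf.germ (π ⁻¹ᵁ (U ⊓ V)) x hx s = F.presheaf.germ (π ⁻¹ᵁ (U ⊓ V)) x hx t}
  have hEopen : IsOpen E := by
    rw [isOpen_iff_forall_mem_open]
    rintro x ⟨hx, hxe⟩
    obtain ⟨W, hxW, iU, iV, hW⟩ := TopCat.Presheaf.germ_eq F.presheaf x hx hx s t hxe
    refine ⟨W, ?_, W.isOpen, hxW⟩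
    intro x' hx'
    have hx'T : x' ∈ π ⁻¹ᵁ (U ⊓ V) := iU.le hx'
    refine ⟨hx'T, ?_⟩
    rw [← F.presheaf.germ_res_apply iU x' hx' s, ← F.presheaf.germ_res_apply iV x' hx' t, hW]
  have hfib : ∀ x : X, π x = y → x ∈ E := by
    intro x hx
    have hxT : x ∈ π ⁻¹ᵁ (U ⊓ V) := by
      show π x ∈ U ⊓ V
      rw [hx]; exact hyT
    exact ⟨hxT, @Subsingleton.elim _ (h x hx) _ _⟩
  have hC : IsClosed (π '' Eᶜ) := hcl _ hEopen.isClosed_compl
  have hyC : y ∉ π '' Eᶜ := by
    rintro ⟨x, hxE, hxy⟩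
    exact hxE (hfib x hxy)
  let T' : Y.Opens := (U ⊓ V) ⊓ ⟨(π '' Eᶜ)ᶜ, hC.isOpen_compl⟩
  have hyT' : y ∈ T' := ⟨hyT, hyC⟩
  have hT'T : T' ≤ U ⊓ V := inf_le_left
  have hsub : ∀ x, x ∈ π ⁻¹ᵁ T' → x ∈ E := by
    intro x hx
    by_contra hxE
    exact hx.2 ⟨x, hxE, rfl⟩
  have hpre : π ⁻¹ᵁ T' ≤ π ⁻¹ᵁ (U ⊓ V) := fun _ hz => hT'T hz
  have heq : N.presheaf.map (homOfLE hT'T).op s = N.presheaf.map (homOfLE hT'T).op t := by
    refine TopCat.Presheaf.section_ext ⟨F.presheaf, F.isSheaf⟩ (π ⁻¹ᵁ T') _ _ fun x hx => ?_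
    obtain ⟨hxT, hxe⟩ := hsub x hx
    have e1 := F.presheaf.germ_res_apply (homOfLE hpre) x hx s
    have e2 := F.presheaf.germ_res_apply (homOfLE hpre) x hx t
    exact e1.trans (hxe.trans e2.symm)
  rw [← N.presheaf.germ_res_apply (homOfLE hT'T) y hyT' s,
    ← N.presheaf.germ_res_apply (homOfLE hT'T) y hyT' t, heq]

/-- Suppose X and Y are schemes locally of finite type over the base, and π : X → Y is a morphism
between them that is finite. Then π_* sends Coh_{≤k}(X) into Coh_{≤k}(Y): for F coherent on X with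
dim_δ Supp(F) ≤ k, the direct image π_*F is coherent with dim_δ Supp(π_*F) ≤ k (Cyc.CohLe).
(Exactness of π_* and the commutative diagram with the cycle maps are not restated; the latter is
the existing compatibility of [−]_k with π_*.) Here a pair (X, δ) with Cyc.IsSetup plays the role of
a scheme locally of finite type over the base (S, δ) (X locally Noetherian with universally catenary
local rings, δ a dimension function), and Cyc.DeltaCompat records that the dimension function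
upstairs is the induced one. -/
theorem result (X Y : Scheme.{u}) (δX : X → ℤ) (δY : Y → ℤ) (hX : Cyc.IsSetup X δX) (hY : Cyc.IsSetup Y δY) (π : X ⟶ Y) [IsFinite π] (hδ : Cyc.DeltaCompat π δX δY) (k : ℤ) (F : X.Modules) (hF : Cyc.CohLe δX k F) : Cyc.CohLe δY k ((Coh.push π).obj F) := by
  obtain ⟨hLNY, -, -⟩ := hY
  haveI := hLNY
  obtain ⟨hcoh, hsupp⟩ := hF
  show Coh.IsCoh _ ∧ _
  refine ⟨Groth.Agent.S0019.result π F hcoh, fun y hy => ?_⟩
  by_contra hlt
  push_neg at hlt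
  have hsub : Subsingleton (((Coh.push π).obj F).presheaf.stalk y) := by
    apply stalk_push_subsingleton π π.isClosedMap F y
    intro x hx
    by_contra hns
    rw [not_subsingleton_iff_nontrivial] at hns
    have h1 := hsupp x hns
    obtain ⟨n, -, hn⟩ := hδ x
    rw [hx] at hn
    omega
  haveI := hy
  exact not_subsingleton _ hsub

end Groth.Agent.S6499
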