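import Groth.Statements.S6500
import Groth.Agent.Lib.Helper13.StalkPd
import Groth.Agent.Lib.Helper26.RegularSch
import Groth.Agent.Lib.Helper14.TorVanish

set_option autoImplicit false
universe u
open CategoryTheory CategoryTheory.Limits AlgebraicGeometry
attribute [local instance] HasDerivedCategory.standard
open IntMult

namespace Groth.Agent.S6500


open Groth.Agent.Lib.Helper14.TorKer

/-- projective dimension `≤ d` in the second variable kills `Tor_p` for `p > d`. -/
theorem torZ_of_pd {A : Type u} [CommRing A] (d : ℕ) :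
    ∀ (N : Type u) [AddCommGroup N] [Module A N],
      HasProjectiveDimensionLT (ModuleCat.of A N) (d + 1) →
      ∀ (M : Type u) [AddCommGroup M] [Module A M] (p : ℕ), d < p → TorZ A p M N := by
  induction d with
  | zero =>
    intro N _ _ hpd M _ _ p hp
    haveI : Projective (ModuleCat.of A N) := projective_iff_hasProjectiveDimensionLT_one.mpr hpd
    haveI : Module.Projective A N := (IsProjective.iff_projective N).mpr inferInstance
    obtain ⟨q, rfl⟩ : ∃ q, p = q + 1 := ⟨p - 1, by omega⟩
    exact torZ_of_flat_right q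
  | succ d ih =>
    intro N _ _ hpd M _ _ p hp
    obtain ⟨π, hπdef⟩ : ∃ π : (N →₀ A) →ₗ[A] N, π = Finsupp.linearCombination A (id : N → N) :=
      ⟨_, rfl⟩
    have hπ : Function.Surjective π := by
      intro y
      refine ⟨Finsupp.single y 1, ?_⟩
      rw [hπdef, Finsupp.linearCombination_single, one_smul]
      rfl
    obtain ⟨i, hidef⟩ : ∃ i : (LinearMap.ker π) →ₗ[A] (N →₀ A), i = (LinearMap.ker π).subtype :=
      ⟨_, rfl⟩
    have hi : Function.Injective i := by
      rw [hidef]
      exact Subtype.val_injective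
    have hex : Function.Exact i π := by
      intro y
      constructor
      · intro hy
        exact ⟨⟨y, hy⟩, by rw [hidef]; rfl⟩
      · rintro ⟨z, rfl⟩
        rw [hidef]
        exact LinearMap.mem_ker.mp z.2
    have hSE := sc_shortExact (K := LinearMap.ker π) (F := N →₀ A) (N := N) i π hex hi hπ
    haveI hproj : Projective (sc (K := LinearMap.ker π) (F := N →₀ A) (N := N) i π hex).X₂ :=
      (IsProjective.iff_projective (N →₀ A)).mp inferInstance
    have hK : HasProjectiveDimensionLT (ModuleCat.of A (LinearMap.ker π)) (d + 1) :=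
      (hSE.hasProjectiveDimensionLT_X₃_iff d hproj).mp hpd
    obtain ⟨q, rfl⟩ : ∃ q, p = q + 1 := ⟨p - 1, by omega⟩
    have h1 : TorZ A q M (LinearMap.ker π) := ih _ hK M q (by omega)
    have h2 : TorZ A (q + 1) M (N →₀ A) := torZ_of_flat_right q
    exact torZ_quot_right (X₁ := LinearMap.ker π) (X₂ := N →₀ A) (X₃ := N) i π hex hi hπ q h2 h1

/-- Let X be a nonsingular variety of dimension n and F, G coherent O_X-modules. The Tor sheaves
Tor_p^{O_X}(F, G), whose stalks are Tor_p^{O_{X,x}}(F_x, G_x), are nonzero only for p ∈ {0, …, n}: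
for every point x and every p > n, Tor_p^{O_{X,x}}(F_x, G_x) = 0. (Coherence of the Tor sheaves and
the support statement are not restated.) Nonsingular variety: X → Spec K smooth, separated,
quasi-compact, X integral, K algebraically closed; n = dim X. -/
theorem result (K : Type u) [Field K] [IsAlgClosed K] (X : Scheme.{u}) (f : X ⟶ Spec (CommRingCat.of K)) [Smooth f] [IsSeparated f] [QuasiCompact f] [IsIntegral X] (n : ℕ) (hn : topologicalKrullDim X = n) (F G : X.Modules) (hF : Coh.IsCoh F) (hG : Coh.IsCoh G) (x : X) (p : ℕ) (hp : n < p) : Subsingleton (DRing.Tor ↑(X.presheaf.stalk x) p ↑(F.presheaf.stalk x) ↑(G.presheaf.stalk x)) := by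
  have hreg : ∀ y : X, IsRegularLocalRing (X.presheaf.stalk y) := fun y =>
    Groth.Agent.Lib.Helper26.RegularSch.isRegularLocalRing_stalk_of_smooth_field K f y
  have hd : ringKrullDim (X.presheaf.stalk x) ≤ ((n : ℕ) : WithBot ℕ∞) := by
    have h1 := Groth.Agent.Lib.Helper1.CurveFlat.ringKrullDim_stalk_le X x
    rw [hn] at h1
    exact h1
  have hpd := Groth.Agent.Lib.Helper13.StalkPd.pdLT_of_regular hreg G x n hd
  exact torZ_of_pd n _ hpd _ p hp

end Groth.Agent.S6500
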