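import Groth.Statements.S6501
import Mathlib

set_option autoImplicit false
universe u
open DPow

namespace Groth.Agent.S6501

section aux
open Nat Finset

variable {A : Type u} [CommRing A] [IsAddTorsionFree A]

theorem cancel_nat (k : ℕ) (hk : k ≠ 0) {a b : A} (h : (k : A) * a = (k : A) * b) : a = b := by
  rw [← nsmul_eq_mul, ← nsmul_eq_mul] at h
  exact nsmul_right_injective hk h

theorem fact_id (k l : ℕ) : (((k + l).choose k : ℕ) : A) * (k ! : A) * (l ! : A) = ((k + l)! : A) := by
  have h := Nat.add_choose_mul_factorial_mul_factorial l k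
  rw [add_comm l k] at h
  rw [← h]; push_cast; ring

theorem exists_dp (I : Ideal A) (S : Set A) (hS : Ideal.span S = I)
    (h : ∀ x ∈ S, ∀ n : ℕ, 1 ≤ n → x ^ n ∈ Ideal.span {(n ! : A)} * I) :
    ∀ x ∈ I, ∀ n : ℕ, ∃ u : A, (n ! : A) * u = x ^ n ∧ (n ≠ 0 → u ∈ I) := by
  intro x hx
  rw [← hS] at hx
  induction hx using Submodule.span_induction with
  | mem x hx =>
    intro n
    rcases Nat.eq_zero_or_pos n with rfl | hn
    · exact ⟨1, by simp, fun h => absurd rfl h⟩
    · have := h x hx n hn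
      rw [Ideal.mem_span_singleton_mul] at this
      obtain ⟨z, hz, hzx⟩ := this
      exact ⟨z, hzx, fun _ => hz⟩
  | zero =>
    intro n
    rcases Nat.eq_zero_or_pos n with rfl | hn
    · exact ⟨1, by simp, fun h => absurd rfl h⟩
    · exact ⟨0, by rw [mul_zero, zero_pow hn.ne'], fun _ => I.zero_mem⟩
  | add x y _ _ hx hy =>
    intro n
    choose ux hux1 hux2 using hx
    choose uy huy1 huy2 using hy
    rcases Nat.eq_zero_or_pos n with rfl | hn
    · exact ⟨1, by simp, fun h => absurd rfl h⟩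
    refine ⟨∑ m ∈ antidiagonal n, ux m.1 * uy m.2, ?_, fun _ => ?_⟩
    · rw [(Commute.all x y).add_pow', mul_sum]
      refine sum_congr rfl fun m hm => ?_
      rw [Finset.HasAntidiagonal.mem_antidiagonal] at hm
      subst hm
      rw [nsmul_eq_mul, ← hux1, ← huy1, ← fact_id m.1 m.2]
      ring
    · refine I.sum_mem fun m hm => ?_
      rw [Finset.HasAntidiagonal.mem_antidiagonal] at hm
      by_cases h1 : m.1 = 0
      · have : m.2 ≠ 0 := by omega
        exact I.mul_mem_left _ (huy2 _ this)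
      · exact I.mul_mem_right _ (hux2 _ h1)
  | smul a x _ hx =>
    intro n
    obtain ⟨u, hu1, hu2⟩ := hx n
    refine ⟨a ^ n * u, ?_, fun hn => I.mul_mem_left _ (hu2 hn)⟩
    rw [smul_eq_mul, mul_pow, ← hu1]; ring

open Classical in
/-- the divided power function -/
noncomputable def dpFun (I : Ideal A)
    (hex : ∀ x ∈ I, ∀ n : ℕ, ∃ u : A, (n ! : A) * u = x ^ n ∧ (n ≠ 0 → u ∈ I)) (n : ℕ) (x : A) : A :=
  if hx : x ∈ I then (hex x hx n).choose else 0

theorem dpFun_spec (I : Ideal A)
    (hex : ∀ x ∈ I, ∀ n : ℕ, ∃ u : A, (n ! : A) * u = x ^ n ∧ (n ≠ 0 → u ∈ I)) (n : ℕ) {x : A}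
    (hx : x ∈ I) : (n ! : A) * dpFun I hex n x = x ^ n := by
  unfold dpFun
  rw [dif_pos hx]
  exact (hex x hx n).choose_spec.1

theorem dpFun_mem (I : Ideal A)
    (hex : ∀ x ∈ I, ∀ n : ℕ, ∃ u : A, (n ! : A) * u = x ^ n ∧ (n ≠ 0 → u ∈ I)) {n : ℕ} (hn : n ≠ 0)
    {x : A} (hx : x ∈ I) : dpFun I hex n x ∈ I := by
  unfold dpFun
  rw [dif_pos hx]
  exact (hex x hx n).choose_spec.2 hn

/-- the divided power structure -/
noncomputable def mkDP (I : Ideal A)
    (hex : ∀ x ∈ I, ∀ n : ℕ, ∃ u : A, (n ! : A) * u = x ^ n ∧ (n ≠ 0 → u ∈ I)) : DividedPowers I where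
  dpow := dpFun I hex
  dpow_null := by
    intro n x hx
    unfold dpFun
    rw [dif_neg hx]
  dpow_zero := by
    intro x hx
    apply cancel_nat (0 !) (Nat.factorial_ne_zero 0)
    rw [dpFun_spec I hex 0 hx, pow_zero, mul_one, Nat.factorial_zero, Nat.cast_one]
  dpow_one := by
    intro x hx
    apply cancel_nat (1 !) (Nat.factorial_ne_zero 1)
    rw [dpFun_spec I hex 1 hx, pow_one]
    simp
  dpow_mem := fun hn hx => dpFun_mem I hex hn hx
  dpow_add := by
    intro n x y hx hy
    apply cancel_nat (n !) (Nat.factorial_ne_zero n)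
    rw [dpFun_spec I hex n (I.add_mem hx hy), (Commute.all x y).add_pow', mul_sum]
    refine sum_congr rfl fun m hm => ?_
    rw [Finset.HasAntidiagonal.mem_antidiagonal] at hm
    subst hm
    rw [nsmul_eq_mul, ← dpFun_spec I hex m.1 hx, ← dpFun_spec I hex m.2 hy, ← fact_id m.1 m.2]
    ring
  dpow_mul := by
    intro n a x hx
    apply cancel_nat (n !) (Nat.factorial_ne_zero n)
    rw [dpFun_spec I hex n (I.mul_mem_left a hx), mul_pow, ← dpFun_spec I hex n hx]
    ring
  mul_dpow := by
    intro m n x hx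
    apply cancel_nat (m ! * n !) (Nat.mul_ne_zero (Nat.factorial_ne_zero m) (Nat.factorial_ne_zero n))
    have h1 := dpFun_spec I hex m hx
    have h2 := dpFun_spec I hex n hx
    have h3 := dpFun_spec I hex (m + n) hx
    have h4 := fact_id (A := A) m n
    push_cast
    calc (m ! : A) * (n ! : A) * (dpFun I hex m x * dpFun I hex n x)
        = ((m ! : A) * dpFun I hex m x) * ((n ! : A) * dpFun I hex n x) := by ring
      _ = x ^ (m + n) := by rw [h1, h2, pow_add]
      _ = ((m + n)! : A) * dpFun I hex (m + n) x := h3.symm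
      _ = (m ! : A) * (n ! : A) * (((m + n).choose m : ℕ) * dpFun I hex (m + n) x) := by
          rw [← h4]; ring
  dpow_comp := by
    intro m n x hn hx
    have hy : dpFun I hex n x ∈ I := dpFun_mem I hex hn hx
    apply cancel_nat (n ! ^ m * m !)
      (Nat.mul_ne_zero (pow_ne_zero _ (Nat.factorial_ne_zero n)) (Nat.factorial_ne_zero m))
    have h1 := dpFun_spec I hex m hy
    have h2 := dpFun_spec I hex n hx
    have h3 := dpFun_spec I hex (m * n) hx
    have h4 : ((m.uniformBell n : ℕ) : A) * (n ! : A) ^ m * (m ! : A) = ((m * n)! : A) := by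
      rw [← Nat.uniformBell_mul_eq m hn]; push_cast; ring
    push_cast
    calc (n ! : A) ^ m * (m ! : A) * dpFun I hex m (dpFun I hex n x)
        = (n ! : A) ^ m * ((m ! : A) * dpFun I hex m (dpFun I hex n x)) := by ring
      _ = ((n ! : A) * dpFun I hex n x) ^ m := by rw [h1, mul_pow]
      _ = x ^ (m * n) := by rw [h2, ← pow_mul, mul_comm]
      _ = ((m * n)! : A) * dpFun I hex (m * n) x := h3.symm
      _ = (n ! : A) ^ m * (m ! : A) * ((m.uniformBell n : ℕ) * dpFun I hex (m * n) x) := by
          rw [← h4]; ring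

end aux

/-- Let A be a commutative ring whose additive group is torsion free and I an ideal of A. Then I carries
at most one divided power structure, and it carries one if and only if I is generated by a set S
such that for every x in S and every n ≥ 1 the power x^n lies in the ideal generated by the products
of n! with elements of I. -/
theorem result {A : Type u} [CommRing A] [IsAddTorsionFree A] (I : Ideal A) :
    Subsingleton (DividedPowers I) ∧
    (Nonempty (DividedPowers I) ↔ ∃ S : Set A, Ideal.span S = I ∧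
      ∀ x ∈ S, ∀ n : ℕ, 1 ≤ n → x ^ n ∈ Ideal.span {(Nat.factorial n : A)} * I) := by
  refine ⟨⟨fun a b => DividedPowers.ext a b (fun n x hx =>
    cancel_nat (n.factorial) (Nat.factorial_ne_zero n) (by
      rw [a.factorial_mul_dpow_eq_pow hx, b.factorial_mul_dpow_eq_pow hx]))⟩, ?_⟩
  constructor
  · rintro ⟨hI⟩
    refine ⟨(I : Set A), Ideal.span_eq I, fun x hx n hn => ?_⟩
    rw [← hI.factorial_mul_dpow_eq_pow hx]
    exact Ideal.mul_mem_mul (Ideal.mem_span_singleton_self _) (hI.dpow_mem (by omega) hx)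
  · rintro ⟨S, hS, h⟩
    exact ⟨mkDP I (exists_dp I S hS h)⟩

end Groth.Agent.S6501
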