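import Groth.Statements.S6510
import Groth.Agent.Lib.Helper13.KInjMV

set_option autoImplicit false
universe u
open CategoryTheory
attribute [local instance] HasDerivedCategory.standard
open DCoh

namespace Groth.Agent.S6510

open AlgebraicGeometry CategoryTheory.Limits in
/-- If a scheme X is the union of two opens U and V, then for every E ∈ D(O_X) there is a distinguished
triangle E → Rj_{U,*}(E|_U) ⊕ Rj_{V,*}(E|_V) → Rj_{U∩V,*}(E|_{U∩V}) → E[1] in D(O_X). The objects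
are the stated ones; the morphisms of the triangle are only asserted to exist. (The published
statement is for ringed spaces; this row is for schemes.) -/
theorem result {X : Scheme.{u}} (U V : X.Opens) (hUV : U ⊔ V = ⊤)
    [DCoh.HasRpush U.ι] [DCoh.HasRpush V.ι] [DCoh.HasRpush (U ⊓ V).ι]
    [PreservesFiniteLimits (Scheme.Modules.restrictFunctor U.ι)]
    [PreservesFiniteLimits (Scheme.Modules.restrictFunctor V.ι)]
    [PreservesFiniteLimits (Scheme.Modules.restrictFunctor (U ⊓ V).ι)] (E : DCoh.D X) :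
    ∃ (a : E ⟶ ((DCoh.Rpush U.ι).obj ((DCoh.restrictD U.ι).obj E) ⊞ (DCoh.Rpush V.ι).obj ((DCoh.restrictD V.ι).obj E))) (b : ((DCoh.Rpush U.ι).obj ((DCoh.restrictD U.ι).obj E) ⊞ (DCoh.Rpush V.ι).obj ((DCoh.restrictD V.ι).obj E)) ⟶ (DCoh.Rpush (U ⊓ V).ι).obj ((DCoh.restrictD (U ⊓ V).ι).obj E)) (c : (DCoh.Rpush (U ⊓ V).ι).obj ((DCoh.restrictD (U ⊓ V).ι).obj E) ⟶ (E)⟦(1 : ℤ)⟧),
      Pretriangulated.Triangle.mk a b c ∈ Pretriangulated.distinguishedTriangles := by
  obtain ⟨I, hI, hInj, ⟨e⟩⟩ := Groth.Agent.Lib.Helper13.KInjCompute.exists_model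
    (Groth.Agent.Lib.Helper13.KInjSch.hasKInjInj X) E
  obtain ⟨a, b, c, h⟩ := Groth.Agent.Lib.Helper13.KInjMV.exists_triangle
    (Groth.Agent.Lib.Helper13.RelMVMod.η U) (Groth.Agent.Lib.Helper13.RelMVMod.η V)
    (Groth.Agent.Lib.Helper13.RelMVMod.rhoH (inf_le_left : U ⊓ V ≤ U))
    (Groth.Agent.Lib.Helper13.RelMVMod.rhoH (inf_le_right : U ⊓ V ≤ V)) I
    (fun n => Groth.Agent.Lib.Helper13.KInjMV.isPullback_H U V hUV (I.X n))
    (fun n => Groth.Agent.Lib.Helper13.KInjMV.epi_rhoH_of_injective _ (I.X n) (hInj n))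
  have e1 : DerivedCategory.Q.obj (((𝟭 X.Modules).mapHomologicalComplex (ComplexShape.up ℤ)).obj I) ≅ E :=
    DerivedCategory.Q.mapIso ((Functor.mapHomologicalComplexIdIso X.Modules (ComplexShape.up ℤ)).app I) ≪≫ e.symm
  exact Groth.Agent.Lib.Helper13.KInjMV.exists_triangle_of_iso _ h e1
    (biprod.mapIso
      (Groth.Agent.Lib.Helper13.KInjMV.isoRestrict U (Scheme.Modules.pushforward U.ι) I hI e).symm
      (Groth.Agent.Lib.Helper13.KInjMV.isoRestrict V (Scheme.Modules.pushforward V.ι) I hI e).symm)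
    (Groth.Agent.Lib.Helper13.KInjMV.isoRestrict (U ⊓ V) (Scheme.Modules.pushforward (U ⊓ V).ι) I hI e).symm

end Groth.Agent.S6510
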