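import Groth.Statements.S6512
import Groth.Agent.Lib.Helper13.KInjMV

set_option autoImplicit false
universe u
open CategoryTheory
attribute [local instance] HasDerivedCategory.standard
open DCoh

namespace Groth.Agent.S6512

open AlgebraicGeometry CategoryTheory.Limits in
/-- If a scheme X is the union of two opens U and V, then for every E ∈ D(O_X) there is a distinguished
triangle RΓ(X, E) → RΓ(U, E) ⊕ RΓ(V, E) → RΓ(U ∩ V, E) → RΓ(X, E)[1] in D(Ab), where RΓ(U, E) means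
RΓ(U, E|_U). The objects are the stated ones; the morphisms are only asserted to exist (the long
exact cohomology sequence follows by applying the homological functor H^0). (The published statement
is for ringed spaces; this row is for schemes.) -/
theorem result {X : Scheme.{u}} (U V : X.Opens) (hUV : U ⊔ V = ⊤)
    [DCoh.HasRΓ X] [DCoh.HasRΓ (U : Scheme.{u})] [DCoh.HasRΓ (V : Scheme.{u})] [DCoh.HasRΓ (U ⊓ V : X.Opens)]
    [PreservesFiniteLimits (Scheme.Modules.restrictFunctor U.ι)]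
    [PreservesFiniteLimits (Scheme.Modules.restrictFunctor V.ι)]
    [PreservesFiniteLimits (Scheme.Modules.restrictFunctor (U ⊓ V).ι)] (E : DCoh.D X) :
    ∃ (a : (DCoh.RΓ X).obj E ⟶ ((DCoh.RΓ (U : Scheme.{u})).obj ((DCoh.restrictD U.ι).obj E) ⊞ (DCoh.RΓ (V : Scheme.{u})).obj ((DCoh.restrictD V.ι).obj E))) (b : ((DCoh.RΓ (U : Scheme.{u})).obj ((DCoh.restrictD U.ι).obj E) ⊞ (DCoh.RΓ (V : Scheme.{u})).obj ((DCoh.restrictD V.ι).obj E)) ⟶ (DCoh.RΓ (U ⊓ V : X.Opens)).obj ((DCoh.restrictD (U ⊓ V).ι).obj E)) (c : (DCoh.RΓ (U ⊓ V : X.Opens)).obj ((DCoh.restrictD (U ⊓ V).ι).obj E) ⟶ ((DCoh.RΓ X).obj E)⟦(1 : ℤ)⟧),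
      Pretriangulated.Triangle.mk a b c ∈ Pretriangulated.distinguishedTriangles := by
  obtain ⟨I, hI, hInj, ⟨e⟩⟩ := Groth.Agent.Lib.Helper13.KInjCompute.exists_model
    (Groth.Agent.Lib.Helper13.KInjSch.hasKInjInj X) E
  obtain ⟨a, b, c, h⟩ := Groth.Agent.Lib.Helper13.KInjMV.exists_triangle
    (Functor.whiskerRight (Groth.Agent.Lib.Helper13.RelMVMod.η U) (DCoh.gammaAb X))
    (Functor.whiskerRight (Groth.Agent.Lib.Helper13.RelMVMod.η V) (DCoh.gammaAb X))
    (Functor.whiskerRight (Groth.Agent.Lib.Helper13.RelMVMod.rhoH (inf_le_left : U ⊓ V ≤ U))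
      (DCoh.gammaAb X))
    (Functor.whiskerRight (Groth.Agent.Lib.Helper13.RelMVMod.rhoH (inf_le_right : U ⊓ V ≤ V))
      (DCoh.gammaAb X)) I
    (fun n => (Groth.Agent.Lib.Helper13.KInjMV.isPullback_H U V hUV (I.X n)).map (DCoh.gammaAb X))
    (fun n => Groth.Agent.Lib.Helper13.KInjMV.epi_gammaAb_rhoH_of_injective _ (I.X n) (hInj n))
  have e1 : DerivedCategory.Q.obj (((𝟭 X.Modules ⋙ DCoh.gammaAb X).mapHomologicalComplex
      (ComplexShape.up ℤ)).obj I) ≅ (DCoh.RΓ X).obj E :=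
    (Groth.Agent.Lib.Helper13.KInjCompute.iso (DCoh.gammaAb X)
      (Groth.Agent.Lib.Helper13.KInjSch.hasKInj X) I hI).symm ≪≫ (DCoh.RΓ X).mapIso e.symm
  have e2 : ∀ W : X.Opens, ∀ [DCoh.HasRΓ (W : Scheme.{u})],
      DerivedCategory.Q.obj (((Groth.Agent.Lib.Helper13.RelMVMod.H W ⋙
        DCoh.gammaAb X).mapHomologicalComplex (ComplexShape.up ℤ)).obj I) ≅
      (DCoh.RΓ (W : Scheme.{u})).obj ((DCoh.restrictD W.ι).obj E) := fun W _ =>
    DerivedCategory.Q.mapIso (HomologicalComplex.Hom.isoOfComponents (fun _ => Iso.refl _)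
      (fun i j _ => by
        rw [Iso.refl_hom, Iso.refl_hom, Category.id_comp, Category.comp_id])) ≪≫
    (Groth.Agent.Lib.Helper13.KInjMV.isoRestrict W (DCoh.gammaAb (W : Scheme.{u})) I hI e).symm
  exact Groth.Agent.Lib.Helper13.KInjMV.exists_triangle_of_iso _ h e1
    (biprod.mapIso (e2 U) (e2 V)) (e2 (U ⊓ V))

end Groth.Agent.S6512
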