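import Groth.Statements.S6516
import Mathlib
import Groth.Agent.Lib.Helper17.LocFreeOps

set_option autoImplicit false
universe u
open CategoryTheory
open DCoh

namespace Groth.Agent.S6516

open AlgebraicGeometry in
/-- Schemes; with the bounded finite-locally-free reading of strictly perfect used throughout this
problem's derived-category definitions: the mapping cone of a morphism between strictly perfect
complexes of O_X-modules is strictly perfect. -/
theorem result {X : Scheme.{u}} {E F : CochainComplex X.Modules ℤ} (φ : E ⟶ F)
    (hE : DCoh.IsStrictlyPerfect E) (hF : DCoh.IsStrictlyPerfect F) :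
    DCoh.IsStrictlyPerfect (CochainComplex.mappingCone φ) := by
  obtain ⟨⟨a, b, hab⟩, hEfl⟩ := hE
  obtain ⟨⟨c, d, hcd⟩, hFfl⟩ := hF
  refine ⟨⟨min (a - 1) c, max (b - 1) d, fun i hi => ?_⟩, fun i => ?_⟩
  · rw [CochainComplex.mappingCone.isZero_X_iff]
    have m1 := min_le_left (a - 1) c
    have m2 := min_le_right (a - 1) c
    have m3 := le_max_left (b - 1) d
    have m4 := le_max_right (b - 1) d
    constructor
    · apply hab
      rcases hi with h | h
      · left; omega
      · right; omega
    · apply hcd
      rcases hi with h | h
      · left; omega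
      · right; omega
  · have e := HomologicalComplex.homotopyCofiber.XIsoBiprod φ i (i + 1) rfl
    exact Groth.Agent.Lib.Helper17.LocFreeOps.isFinLocFree_of_iso e.symm
      (Groth.Agent.Lib.Helper17.LocFreeOps.isFinLocFree_biprod _ _ (hEfl (i + 1)) (hFfl i))

end Groth.Agent.S6516
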