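import Groth.Statements.S6524
import Mathlib
import Groth.Agent.Lib.Helper18.FamilyBaer
import Groth.Prelude.Def_FreeSh

set_option autoImplicit false
universe u
open CategoryTheory
open CohSite

namespace Groth.Agent.S6524

/-- Let (C, J) be a small site and I an abelian sheaf. Suppose that for every object X of C, every
abelian subsheaf S of the free abelian sheaf Z_X^# on X (given as a monomorphism S → Z_X^#) and
every morphism S → I, the morphism extends to Z_X^# → I. Then I is an injective abelian sheaf. -/
theorem result {C : Type u} [SmallCategory C]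
    (J : GrothendieckTopology C) (I : Sheaf J AddCommGrpCat.{u})
    (h : ∀ (X : C) (S : Sheaf J AddCommGrpCat.{u}) (i : S ⟶ CohCx.freeSheaf J X) [Mono i] (φ : S ⟶ I),
      ∃ ψ : CohCx.freeSheaf J X ⟶ I, i ≫ ψ = φ) :
    Injective I := by
  classical
  by_cases hC : Nonempty C
  · rw [injective_iff_rlp_monomorphisms_zero]
    have hsep : ObjectProperty.IsSeparating
        (ObjectProperty.ofObj (fun X : C => CohCx.freeSheaf J X)) := by
      intro F F' f g hfg
      apply Sheaf.hom_ext
      apply NatTrans.ext
      funext X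
      apply AddCommGrpCat.hom_ext
      ext t
      have h1 := hfg _ (ObjectProperty.ofObj_apply _ X.unop) (CohFree.ofSect J X.unop F t)
      have h2 := congrArg (CohFree.evalGen J X.unop F') h1
      have h3 : ∀ k : F ⟶ F', CohFree.evalGen J X.unop F' (CohFree.ofSect J X.unop F t ≫ k) =
          (k.hom.app (Opposite.op X.unop)).hom (CohFree.evalGen J X.unop F (CohFree.ofSect J X.unop F t)) :=
        fun k => rfl
      rw [h3, h3, CohFree.evalGen_ofSect] at h2
      exact h2
    rw [← Groth.Agent.Lib.Helper18.FamilyBaer.genMonos_rlp hsep]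
    intro A B i hi
    obtain ⟨⟨X, S⟩⟩ := hi
    constructor
    intro f g sq
    obtain ⟨ψ, hψ⟩ := h X _ S.arrow f
    exact ⟨⟨{ l := ψ, fac_left := hψ, fac_right := (Limits.isZero_zero _).eq_of_tgt _ _ }⟩⟩
  · have hall : ∀ {F F' : Sheaf J AddCommGrpCat.{u}} (f g : F ⟶ F'), f = g := by
      intro F F' f g
      apply Sheaf.hom_ext
      apply NatTrans.ext
      funext X
      exact absurd ⟨X.unop⟩ hC
    exact ⟨fun g f _ => ⟨0, hall _ _⟩⟩

end Groth.Agent.S6524
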