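import Groth.Statements.S6528
import Groth.Agent.Lib.Helper13.SuppOpen

set_option autoImplicit false
universe u
open CategoryTheory
attribute [local instance] HasDerivedCategory.standard
open DCoh

namespace Groth.Agent.S6528

open AlgebraicGeometry CategoryTheory.Limits in
/-- Let j : U → X be an open subscheme and T ⊆ U a subset which is closed in X. (1) If E ∈ D(O_X) has
cohomology sheaves supported on T, then E ≅ Rj_*(E|_U). (2) If F ∈ D(O_U) has cohomology sheaves
supported on T, then j_!F ≅ Rj_*F. The published statement asserts that the canonical maps are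
isomorphisms; this row asserts only that isomorphisms exist. (The published statement is for ringed
spaces; this row is for schemes.) -/
theorem result {X : Scheme.{u}} (U : X.Opens) [DCoh.HasRpush U.ι]
    [PreservesFiniteLimits (CxOX.extZero U.ι)] (T : Set X) (hT : IsClosed T) (hTU : T ⊆ (U : Set X)) :
    (∀ E : DCoh.D X, (∀ i : ℤ, CohB1.support (DCoh.HD E i) ⊆ T) →
      Nonempty (E ≅ (DCoh.Rpush U.ι).obj ((DCoh.restrictD U.ι).obj E))) ∧
    (∀ F : DCoh.D (U : Scheme.{u}),
      (∀ i : ℤ, (fun x : (U : Scheme.{u}) => U.ι.base x) '' CohB1.support (DCoh.HD F i) ⊆ T) →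
      Nonempty ((CxOX.extZeroD U.ι).obj F ≅ (DCoh.Rpush U.ι).obj F)) := by
  let V : X.Opens := ⟨Tᶜ, hT.isOpen_compl⟩
  have hUV : U ⊔ V = ⊤ := by
    apply TopologicalSpace.Opens.ext
    rw [TopologicalSpace.Opens.coe_sup, TopologicalSpace.Opens.coe_top]
    ext x
    simp only [Set.mem_union, Set.mem_univ, iff_true]
    by_cases hx : x ∈ T
    · exact Or.inl (hTU hx)
    · exact Or.inr hx
  refine ⟨fun E hE => ?_, fun F hF => ?_⟩
  · exact Groth.Agent.Lib.Helper13.SuppOpen.nonempty_iso_Rpush_restrict U V hUV E
      (fun n => (Groth.Agent.Lib.Helper13.QCohLoc.isZero_restrict_iff V _).2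
        (fun x hx hxV => hxV (hE n hx)))
  · exact Groth.Agent.Lib.Helper13.SuppOpen.nonempty_extZeroD_iso_Rpush U V hUV F
      (fun n y hy => by
        by_contra hns
        exact hy (hF n ⟨y, hns, rfl⟩))

end Groth.Agent.S6528
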