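import Mathlib
import Groth.Statements.S6530

set_option autoImplicit false
universe u
open DPow

namespace Groth.Agent.S6530

section Interface

variable {A : Type u} [CommRing A]

theorem smul_top_eq' (J : Ideal A) (n : ℕ) : (J ^ n • ⊤ : Ideal A) = J ^ n := by
  ext x; simp

theorem mem_smul_top_iff (J : Ideal A) (n : ℕ) (a : A) :
    a ∈ (J ^ n • ⊤ : Submodule A A) ↔ a ∈ J ^ n := by
  have h : (J ^ n • ⊤ : Ideal A) = J ^ n := smul_top_eq' J n
  constructor
  · intro ha
    have ha' : a ∈ (J ^ n • ⊤ : Ideal A) := ha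
    rwa [h] at ha'
  · intro ha
    have ha' : a ∈ (J ^ n • ⊤ : Ideal A) := by rw [h]; exact ha
    exact ha'

theorem ev_compat (J : Ideal A) {m n : ℕ} (hmn : m ≤ n) (x : AdicCompletion J A) :
    Ideal.Quotient.factor (Ideal.pow_le_pow_right hmn) (AdicCompletion.evalₐ J n x) =
      AdicCompletion.evalₐ J m x := by
  obtain ⟨f, rfl⟩ := AdicCompletion.mk_surjective J A x
  rw [AdicCompletion.evalₐ_mk, AdicCompletion.evalₐ_mk, Ideal.Quotient.factor_mk,
    Ideal.Quotient.eq]
  have h1 : f.val n - f.val m ∈ (J ^ m • ⊤ : Submodule A A) :=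
    SModEq.sub_mem.1 (f.property hmn).symm
  exact (mem_smul_top_iff J m _).1 h1

theorem lift_mono (J : Ideal A) (x : AdicCompletion J A) {n n' : ℕ} (h : n ≤ n') (y : A)
    (hy : Ideal.Quotient.mk (J ^ n') y = AdicCompletion.evalₐ J n' x) :
    Ideal.Quotient.mk (J ^ n) y = AdicCompletion.evalₐ J n x := by
  have h1 := ev_compat J h x
  rw [← hy, Ideal.Quotient.factor_mk] at h1
  exact h1

theorem exists_of_cauchy (J : Ideal A) (a : ℕ → A)
    (ha : ∀ m n, m ≤ n → a m - a n ∈ J ^ m) :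
    ∃ z : AdicCompletion J A, ∀ n,
      AdicCompletion.evalₐ J n z = Ideal.Quotient.mk (J ^ n) (a n) := by
  have hc : AdicCompletion.IsAdicCauchy J A a := by
    intro m n hmn
    rw [SModEq.sub_mem]
    exact (mem_smul_top_iff J m _).2 (ha m n hmn)
  refine ⟨AdicCompletion.mk J A ⟨a, hc⟩, fun n => ?_⟩
  rw [AdicCompletion.evalₐ_mk]

end Interface

/-- The data of the statement, bundled. -/
structure Setup (A : Type u) [CommRing A] where
  I : Ideal A
  γ : DividedPowers I
  q : A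
  t : ℕ
  ht : Ideal.span {q} ^ t ≤ I

namespace Setup

variable {A : Type u} [CommRing A] (S : Setup A)

abbrev J : Ideal A := Ideal.span {S.q}

noncomputable abbrev piH : AdicCompletion S.J A →+* A ⧸ S.I :=
  (Ideal.Quotient.factor S.ht).comp (AdicCompletion.evalₐ S.J S.t).toRingHom

noncomputable abbrev K : Ideal (AdicCompletion S.J A) := RingHom.ker S.piH

theorem pi_eq (x : AdicCompletion S.J A) (n : ℕ) (y : A)
    (hy : Ideal.Quotient.mk (S.J ^ (n + S.t)) y = AdicCompletion.evalₐ S.J (n + S.t) x) :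
    S.piH x = Ideal.Quotient.mk S.I y := by
  have h1 := ev_compat S.J (Nat.le_add_left S.t n) x
  rw [← hy, Ideal.Quotient.factor_mk] at h1
  show Ideal.Quotient.factor S.ht (AdicCompletion.evalₐ S.J S.t x) = _
  rw [← h1, Ideal.Quotient.factor_mk]

theorem lift_mem {x : AdicCompletion S.J A} (hx : x ∈ S.K) (n : ℕ) (y : A)
    (hy : Ideal.Quotient.mk (S.J ^ (n + S.t)) y = AdicCompletion.evalₐ S.J (n + S.t) x) :
    y ∈ S.I :=
  Ideal.Quotient.eq_zero_iff_mem.1 ((S.pi_eq x n y hy).symm.trans (RingHom.mem_ker.1 hx))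

theorem mem_K_of_lift {x : AdicCompletion S.J A} (n : ℕ) (y : A)
    (hy : Ideal.Quotient.mk (S.J ^ (n + S.t)) y = AdicCompletion.evalₐ S.J (n + S.t) x)
    (hyI : y ∈ S.I) : x ∈ S.K :=
  RingHom.mem_ker.2 ((S.pi_eq x n y hy).trans (Ideal.Quotient.eq_zero_iff_mem.2 hyI))

theorem key (m N : ℕ) {y y' : A} (hy : y ∈ S.I) (hy' : y' ∈ S.I)
    (hd : y - y' ∈ S.J ^ (N + S.t)) : S.γ.dpow m y - S.γ.dpow m y' ∈ S.J ^ N := by
  have hd' : y - y' ∈ Ideal.span {S.q ^ (N + S.t)} := by
    rw [← Ideal.span_singleton_pow]; exact hd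
  obtain ⟨a, ha⟩ := Ideal.mem_span_singleton'.1 hd'
  have hqt : S.q ^ S.t ∈ S.I :=
    S.ht (Ideal.pow_mem_pow (Ideal.mem_span_singleton_self _) _)
  have hw : S.q ^ S.t * a ∈ S.I := Ideal.mul_mem_right _ _ hqt
  have hz : S.q ^ N * (S.q ^ S.t * a) ∈ S.I := Ideal.mul_mem_left _ _ hw
  have hyz : y = S.q ^ N * (S.q ^ S.t * a) + y' := by linear_combination (-1 : A) * ha
  rw [hyz, S.γ.dpow_add' hz hy', Finset.sum_range_succ', S.γ.dpow_zero hz, one_mul, Nat.sub_zero,
    add_sub_cancel_right]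
  refine Ideal.sum_mem _ (fun k _ => ?_)
  refine Ideal.mul_mem_right _ _ ?_
  rw [S.γ.dpow_mul hw, pow_succ]
  refine Ideal.mul_mem_right _ _ (Ideal.mul_mem_left _ _ ?_)
  exact Ideal.pow_mem_pow (Ideal.mem_span_singleton_self _) N

/-- The specification of the `m`-th divided power of `x` in the completion. -/
def Spec (m : ℕ) (x z : AdicCompletion S.J A) : Prop :=
  ∀ n y, Ideal.Quotient.mk (S.J ^ (n + S.t)) y = AdicCompletion.evalₐ S.J (n + S.t) x →
    AdicCompletion.evalₐ S.J n z = Ideal.Quotient.mk (S.J ^ n) (S.γ.dpow m y)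

theorem exists_spec {x : AdicCompletion S.J A} (hx : x ∈ S.K) (m : ℕ) :
    ∃ z, S.Spec m x z := by
  choose y hy using fun n =>
    Ideal.Quotient.mk_surjective (AdicCompletion.evalₐ S.J (n + S.t) x)
  have hyI : ∀ n, y n ∈ S.I := fun n => S.lift_mem hx n (y n) (hy n)
  obtain ⟨z, hz⟩ := exists_of_cauchy S.J (fun n => S.γ.dpow m (y n)) (by
    intro n n' hnn'
    refine S.key m n (hyI n) (hyI n') ?_
    rw [← Ideal.Quotient.eq, hy n]
    have h1 := ev_compat S.J (show n + S.t ≤ n' + S.t by omega) x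
    rw [← hy n', Ideal.Quotient.factor_mk] at h1
    exact h1.symm)
  refine ⟨z, fun n y' hy' => ?_⟩
  rw [hz n, Ideal.Quotient.eq]
  exact S.key m n (hyI n) (S.lift_mem hx n y' hy')
    (Ideal.Quotient.eq.1 ((hy n).trans hy'.symm))

open Classical in
/-- The divided power operations on the completion. -/
noncomputable def dl (m : ℕ) (x : AdicCompletion S.J A) : AdicCompletion S.J A :=
  if hx : x ∈ S.K then Classical.choose (S.exists_spec hx m) else 0

theorem dl_spec {x : AdicCompletion S.J A} (hx : x ∈ S.K) (m : ℕ) :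
    S.Spec m x (S.dl m x) := by
  unfold dl
  rw [dif_pos hx]
  exact Classical.choose_spec (S.exists_spec hx m)

theorem dl_null {x : AdicCompletion S.J A} (hx : x ∉ S.K) (m : ℕ) : S.dl m x = 0 := by
  unfold dl
  rw [dif_neg hx]

theorem dl_zero {x : AdicCompletion S.J A} (hx : x ∈ S.K) : S.dl 0 x = 1 := by
  refine AdicCompletion.ext_evalₐ (fun n => ?_)
  obtain ⟨y, hy⟩ := Ideal.Quotient.mk_surjective (AdicCompletion.evalₐ S.J (n + S.t) x)
  rw [S.dl_spec hx 0 n y hy, S.γ.dpow_zero (S.lift_mem hx n y hy)]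
  simp only [map_one]

theorem dl_one {x : AdicCompletion S.J A} (hx : x ∈ S.K) : S.dl 1 x = x := by
  refine AdicCompletion.ext_evalₐ (fun n => ?_)
  obtain ⟨y, hy⟩ := Ideal.Quotient.mk_surjective (AdicCompletion.evalₐ S.J (n + S.t) x)
  rw [S.dl_spec hx 1 n y hy, S.γ.dpow_one (S.lift_mem hx n y hy)]
  exact lift_mono S.J x (Nat.le_add_right n S.t) y hy

theorem dl_mem {m : ℕ} (hm : m ≠ 0) {x : AdicCompletion S.J A} (hx : x ∈ S.K) :
    S.dl m x ∈ S.K := by
  obtain ⟨y, hy⟩ :=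
    Ideal.Quotient.mk_surjective (AdicCompletion.evalₐ S.J (0 + S.t + S.t) x)
  refine S.mem_K_of_lift 0 (S.γ.dpow m y) ?_ (S.γ.dpow_mem hm (S.lift_mem hx _ y hy))
  exact (S.dl_spec hx m (0 + S.t) y hy).symm

theorem dl_add (m : ℕ) {x x' : AdicCompletion S.J A} (hx : x ∈ S.K) (hx' : x' ∈ S.K) :
    S.dl m (x + x') =
      (Finset.HasAntidiagonal.antidiagonal m).sum fun k => S.dl k.1 x * S.dl k.2 x' := by
  refine AdicCompletion.ext_evalₐ (fun n => ?_)
  obtain ⟨y, hy⟩ := Ideal.Quotient.mk_surjective (AdicCompletion.evalₐ S.J (n + S.t) x)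
  obtain ⟨y', hy'⟩ := Ideal.Quotient.mk_surjective (AdicCompletion.evalₐ S.J (n + S.t) x')
  have hyy : Ideal.Quotient.mk (S.J ^ (n + S.t)) (y + y') =
      AdicCompletion.evalₐ S.J (n + S.t) (x + x') := by
    simp only [map_add, hy, hy']
  rw [S.dl_spec (S.K.add_mem hx hx') m n (y + y') hyy,
    S.γ.dpow_add (S.lift_mem hx n y hy) (S.lift_mem hx' n y' hy'), map_sum, map_sum]
  refine Finset.sum_congr rfl (fun k _ => ?_)
  rw [map_mul, map_mul, S.dl_spec hx k.1 n y hy, S.dl_spec hx' k.2 n y' hy']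

theorem dl_mul (m : ℕ) (a : AdicCompletion S.J A) {x : AdicCompletion S.J A} (hx : x ∈ S.K) :
    S.dl m (a * x) = a ^ m * S.dl m x := by
  refine AdicCompletion.ext_evalₐ (fun n => ?_)
  obtain ⟨y, hy⟩ := Ideal.Quotient.mk_surjective (AdicCompletion.evalₐ S.J (n + S.t) x)
  obtain ⟨b, hb⟩ := Ideal.Quotient.mk_surjective (AdicCompletion.evalₐ S.J (n + S.t) a)
  have hby : Ideal.Quotient.mk (S.J ^ (n + S.t)) (b * y) =
      AdicCompletion.evalₐ S.J (n + S.t) (a * x) := by
    simp only [map_mul, hy, hb]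
  rw [S.dl_spec (S.K.mul_mem_left a hx) m n (b * y) hby,
    S.γ.dpow_mul (S.lift_mem hx n y hy)]
  simp only [map_mul, map_pow]
  rw [S.dl_spec hx m n y hy, lift_mono S.J a (Nat.le_add_right n S.t) b hb]

theorem dl_mul_dl (m k : ℕ) {x : AdicCompletion S.J A} (hx : x ∈ S.K) :
    S.dl m x * S.dl k x = (Nat.choose (m + k) m : AdicCompletion S.J A) * S.dl (m + k) x := by
  refine AdicCompletion.ext_evalₐ (fun n => ?_)
  obtain ⟨y, hy⟩ := Ideal.Quotient.mk_surjective (AdicCompletion.evalₐ S.J (n + S.t) x)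
  simp only [map_mul, map_natCast]
  rw [S.dl_spec hx m n y hy, S.dl_spec hx k n y hy, S.dl_spec hx (m + k) n y hy, ← map_mul,
    S.γ.mul_dpow (S.lift_mem hx n y hy)]
  simp only [map_mul, map_natCast]

theorem dl_comp (m : ℕ) {k : ℕ} (hk : k ≠ 0) {x : AdicCompletion S.J A} (hx : x ∈ S.K) :
    S.dl m (S.dl k x) = (Nat.uniformBell m k : AdicCompletion S.J A) * S.dl (m * k) x := by
  refine AdicCompletion.ext_evalₐ (fun n => ?_)
  obtain ⟨y, hy⟩ :=
    Ideal.Quotient.mk_surjective (AdicCompletion.evalₐ S.J (n + S.t + S.t) x)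
  have hy1 : Ideal.Quotient.mk (S.J ^ (n + S.t)) y = AdicCompletion.evalₐ S.J (n + S.t) x :=
    lift_mono S.J x (Nat.le_add_right _ _) y hy
  have hyI : y ∈ S.I := S.lift_mem hx n y hy1
  have h2 : Ideal.Quotient.mk (S.J ^ (n + S.t)) (S.γ.dpow k y) =
      AdicCompletion.evalₐ S.J (n + S.t) (S.dl k x) :=
    (S.dl_spec hx k (n + S.t) y hy).symm
  rw [S.dl_spec (S.dl_mem hk hx) m n (S.γ.dpow k y) h2, S.γ.dpow_comp hk hyI]
  simp only [map_mul, map_natCast]
  rw [S.dl_spec hx (m * k) n y hy1]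

/-- The divided power structure on the kernel. -/
noncomputable def dp : DividedPowers S.K where
  dpow := S.dl
  dpow_null := fun hx => S.dl_null hx _
  dpow_zero := fun hx => S.dl_zero hx
  dpow_one := fun hx => S.dl_one hx
  dpow_mem := fun hn hx => S.dl_mem hn hx
  dpow_add := fun hx hy => S.dl_add _ hx hy
  dpow_mul := fun hx => S.dl_mul _ _ hx
  mul_dpow := fun hx => S.dl_mul_dl _ _ hx
  dpow_comp := fun hn hx => S.dl_comp _ hn hx

theorem ev_algebraMap (a : A) (n : ℕ) :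
    AdicCompletion.evalₐ S.J n (algebraMap A (AdicCompletion S.J A) a) =
      Ideal.Quotient.mk (S.J ^ n) a :=
  (AdicCompletion.evalₐ S.J n).commutes a

theorem algebraMap_mem_K {a : A} (ha : a ∈ S.I) :
    algebraMap A (AdicCompletion S.J A) a ∈ S.K :=
  S.mem_K_of_lift 0 a (S.ev_algebraMap a _).symm ha

theorem isDP : S.γ.IsDPMorphism S.dp (algebraMap A (AdicCompletion S.J A)) := by
  refine ⟨?_, ?_⟩
  · rw [Ideal.map_le_iff_le_comap]
    intro a ha
    exact S.algebraMap_mem_K ha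
  · intro m a ha
    refine AdicCompletion.ext_evalₐ (fun n => ?_)
    show AdicCompletion.evalₐ S.J n (S.dl m (algebraMap A (AdicCompletion S.J A) a)) = _
    rw [S.dl_spec (S.algebraMap_mem_K ha) m n a (S.ev_algebraMap a _).symm, S.ev_algebraMap]

theorem pi_surj : Function.Surjective S.piH := by
  intro z
  obtain ⟨w, hw⟩ := Ideal.Quotient.factor_surjective S.ht z
  obtain ⟨x, hx⟩ := AdicCompletion.surjective_evalₐ S.J S.t w
  refine ⟨x, ?_⟩
  show Ideal.Quotient.factor S.ht (AdicCompletion.evalₐ S.J S.t x) = z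
  rw [hx, hw]

end Setup


/-- Let (A, I, γ) be a divided power ring and p a prime number with p^t A ⊆ I for some t ≥ 0, so that p
is nilpotent in A/I. Let A^∧ be the p-adic completion of A and π : A^∧ → A/I the composite of the
evaluation A^∧ → A/p^tA with the projection A/p^tA → A/I. Then π is surjective, and there is a
divided power structure on Ker(π) (this kernel is the p-adic completion of I) such that the
canonical map A → A^∧ is a homomorphism of divided power rings. -/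
theorem result {A : Type u} [CommRing A] {I : Ideal A}
    (γ : DividedPowers I) (p : ℕ) [Fact p.Prime] (t : ℕ) (ht : Ideal.span {(p : A)} ^ t ≤ I) :
    Function.Surjective ((Ideal.Quotient.factor ht).comp
      (AdicCompletion.evalₐ (Ideal.span {(p : A)}) t).toRingHom) ∧
    ∃ δ : DividedPowers (RingHom.ker ((Ideal.Quotient.factor ht).comp
      (AdicCompletion.evalₐ (Ideal.span {(p : A)}) t).toRingHom)),
      γ.IsDPMorphism δ (algebraMap A (AdicCompletion (Ideal.span {(p : A)}) A)) := by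
  exact ⟨Setup.pi_surj ⟨I, γ, (p : A), t, ht⟩, Setup.dp ⟨I, γ, (p : A), t, ht⟩,
    Setup.isDP ⟨I, γ, (p : A), t, ht⟩⟩

end Groth.Agent.S6530
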