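import Groth.Statements.S6533
import Groth.Agent.Lib.Helper2.FilInj.Main
-- import your own Groth.Agent.* helpers here

set_option autoImplicit false
universe v u
open CategoryTheory
open CohDer

namespace Groth.Agent.S6533

open CategoryTheory.Limits in
lemma injective_cokernel_of_iso {A : Type u} [Category.{v} A] [Abelian A] {X Y X' Y' : A}
    (f : X ⟶ Y) (f' : X' ⟶ Y') (a : X ≅ X') (b : Y ≅ Y') (w : f ≫ b.hom = a.hom ≫ f')
    (h : Injective (cokernel f')) : Injective (cokernel f) :=
  Injective.of_iso (cokernel.mapIso f f' a b w).symm h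

open CategoryTheory.Limits in
lemma injective_cokernel_f {A : Type u} [Category.{v} A] [Abelian A] {X Y : CochainComplex A ℤ}
    (φ : X ⟶ Y) (n : ℤ) (h : Injective ((cokernel φ).X n)) : Injective (cokernel (φ.f n)) :=
  Injective.of_iso (PreservesCokernel.iso (HomologicalComplex.eval A _ n) φ) h

open CategoryTheory.Limits in
/-- Let A be a Grothendieck abelian category and K a filtered complex of A. There exist a filtered
complex J and a morphism of filtered complexes j : K → J such that (1) the objects J^n, F^pJ^n,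
J^n/F^pJ^n and F^pJ^n/F^{p'}J^n (p ≤ p') are injective, (2) the complexes J, F^pJ, J/F^pJ and
F^pJ/F^{p'}J are K-injective, and (3) j is a quasi-isomorphism and so are the maps it induces on
F^p, on the quotients by F^p and on F^p/F^{p'} (each induced map is characterised by its
compatibility with the inclusion, respectively the projection). -/
theorem result {A : Type u} [Category.{v} A] [Abelian A]
    [IsGrothendieckAbelian.{v} A] (K : SpSeq.FilCx A) :
    ∃ (J : SpSeq.FilCx A) (j : K ⟶ J),
      (∀ n p : ℤ, Injective (J.obj.X n) ∧ Injective ((J.XFil n).step p) ∧ Injective ((J.XFil n).quot p) ∧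
        ∀ (p' : ℤ) (h : p ≤ p'), Injective (cokernel ((J.XFil n).stepLE h))) ∧
      (CochainComplex.IsKInjective J.obj ∧ ∀ p : ℤ, CochainComplex.IsKInjective (J.step p) ∧
        CochainComplex.IsKInjective (J.quot p) ∧
        ∀ (p' : ℤ) (h : p ≤ p'), CochainComplex.IsKInjective (cokernel (J.stepLE h))) ∧
      QuasiIso j.hom ∧
      (∀ p : ℤ, ∃ jp : K.step p ⟶ J.step p, jp ≫ (J.fil p).arrow = (K.fil p).arrow ≫ j.hom ∧ QuasiIso jp ∧
        (∀ (p' : ℤ) (h : p ≤ p'), ∃ (jp' : K.step p' ⟶ J.step p') (jg : cokernel (K.stepLE h) ⟶ cokernel (J.stepLE h)),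
          jp' ≫ (J.fil p').arrow = (K.fil p').arrow ≫ j.hom ∧ jp' ≫ J.stepLE h = K.stepLE h ≫ jp ∧
          cokernel.π (K.stepLE h) ≫ jg = jp ≫ cokernel.π (J.stepLE h) ∧ QuasiIso jg)) ∧
      (∀ p : ℤ, ∃ jq : K.quot p ⟶ J.quot p,
        cokernel.π (K.fil p).arrow ≫ jq = j.hom ≫ cokernel.π (J.fil p).arrow ∧ QuasiIso jq) := by
  obtain ⟨J, G, hG, j, hcompat, hJ, hGgood, hQgood, hGrgood, hj, hP, hQ⟩ :=
    Groth.Agent.Lib.Helper2.FilInj.exists_filtered_embedding K.obj K.fil K.anti
  let J' : SpSeq.FilCx A := ⟨J, G, hG⟩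
  let j' : K ⟶ J' := ⟨j, hcompat⟩
  refine ⟨J', j', ?_, ?_, hj, hP, hQ⟩
  · intro n p
    refine ⟨hJ.inj n, ?_, ?_, ?_⟩
    · exact Injective.of_iso (Subobject.underlyingIso ((G p).arrow.f n)).symm ((hGgood p).inj n)
    · exact injective_cokernel_of_iso (Subobject.mk ((G p).arrow.f n)).arrow ((G p).arrow.f n)
        (Subobject.underlyingIso ((G p).arrow.f n)) (Iso.refl _) (by simp)
        (injective_cokernel_f (G p).arrow n ((hQgood p).inj n))
    · intro p' h
      refine injective_cokernel_of_iso _ (((G p').ofLE (G p) (hG h)).f n)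
        (Subobject.underlyingIso ((G p').arrow.f n)) (Subobject.underlyingIso ((G p).arrow.f n)) ?_
        (injective_cokernel_f ((G p').ofLE (G p) (hG h)) n ((hGrgood p p' h).inj n))
      rw [← cancel_mono ((G p).arrow.f n), Category.assoc, Category.assoc,
        ← HomologicalComplex.comp_f, Subobject.ofLE_arrow]
      have e1 : (Subobject.underlyingIso ((G p).arrow.f n)).hom ≫ (G p).arrow.f n =
          (Subobject.mk ((G p).arrow.f n)).arrow := Subobject.underlyingIso_hom_comp_eq_mk _
      have e2 : (Subobject.underlyingIso ((G p').arrow.f n)).hom ≫ (G p').arrow.f n =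
          (Subobject.mk ((G p').arrow.f n)).arrow := Subobject.underlyingIso_hom_comp_eq_mk _
      refine ((congrArg (fun t => (J'.XFil n).stepLE h ≫ t) e1).trans ?_).trans e2.symm
      exact Subobject.ofLE_arrow _
  · exact ⟨hJ.kinj, fun p => ⟨(hGgood p).kinj, (hQgood p).kinj,
      fun p' h => (hGrgood p p' h).kinj⟩⟩


end Groth.Agent.S6533
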