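import Groth.Statements.S6544
import Groth.Agent.Lib.Helper11.DualDegB
import Groth.Agent.S6541

set_option autoImplicit false
universe u
open CategoryTheory CategoryTheory.Limits AlgebraicGeometry
open Curves

namespace Groth.Agent.S6544

/-- Let X be a proper curve over the field k (proper, integral, of dimension one) which is smooth and
geometrically irreducible over k, of genus 0. If X has an invertible O_X-module of odd degree, then
X is isomorphic to P^1_k over k. -/
theorem result (k : Type u) [Field k] (X : Scheme.{u}) [X.Over (Spec (CommRingCat.of k))]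
    [IsIntegral X] [IsProper (X ↘ (Spec (CommRingCat.of k)))] (hdim : topologicalKrullDim X = 1)
    [Smooth (X ↘ (Spec (CommRingCat.of k)))] [GeometricallyIrreducible (X ↘ (Spec (CommRingCat.of k)))] (hg : Curv2.genus k X = 0)
    (L : X.Modules) (hL : PicF.IsInvertible L) (hodd : Odd (Curv2.deg k X L 1)) :
    ∃ e : X ≅ CohB1.ProjSpace 1 k, e.hom ≫ CohB1.ProjSpace.toSpec 1 k = X ↘ (Spec (CommRingCat.of k)) := by
  haveI : GeometricallyReduced (X ↘ (Spec (CommRingCat.of k))) :=
    Groth.Agent.Lib.Helper11.DualDegB.geomRed_of_smooth _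
  haveI : GeometricallyIntegral (X ↘ (Spec (CommRingCat.of k))) :=
    GeometricallyIntegral.of_geometricallyReduced_of_geometricallyIrreducible _
  have h0 := Groth.Agent.Lib.Helper23.GeomCurve.finrank_h0_eq_one k X
  obtain ⟨ω, hωc, hωi, t, hd⟩ := Groth.Agent.Lib.Helper17.CurveDualA.exists_dualizing k hdim
  obtain ⟨M, hM, hdegM⟩ := Groth.Agent.Lib.Helper11.DualDegB.exists_deg_one k hdim.le h0 hg
    hωc hωi t hd hL hodd
  exact Groth.Agent.S6541.result k X hdim
    (Groth.Agent.Lib.Helper23.Curve.subsingleton_h1_of_genus_zero k hg) M hM hdegM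

end Groth.Agent.S6544
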