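import Groth.Statements.S6552
-- import your own Groth.Agent.* helpers here
import Mathlib
import Groth.Agent.Lib.Helper16.SchemeTop
import Groth.Agent.Lib.Helper22.NodE
import Groth.Agent.Lib.Helper22.NodJ

set_option autoImplicit false
universe u
open CategoryTheory CategoryTheory.Limits AlgebraicGeometry
open Curves

namespace Groth.Agent.S6552

/-- Let k be a field, X a scheme locally of finite type over k of dimension 1, π : Y → X an étale
morphism, and y ∈ Y a point with image x. Then x is a closed point of X which is a node if and only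
if y is a closed point of Y which is a node (Y being a k-scheme through π). -/
theorem result (k : Type u) [Field k] (X : Scheme.{u}) [X.Over (Spec (CommRingCat.of k))] [LocallyOfFiniteType (X ↘ (Spec (CommRingCat.of k)))] (hdim : topologicalKrullDim X = 1)
    {Y : Scheme.{u}} (π : Y ⟶ X) [Etale π] (y : Y) :
    Curv2.IsNode k X (π y) ↔ @Curv2.IsNode k _ Y ⟨π ≫ (X ↘ (Spec (CommRingCat.of k)))⟩ y := by
  constructor
  · intro hx
    haveI : LocallyQuasiFinite π := Groth.Agent.Lib.Helper16.locallyQuasiFinite_of_etale π
    have hdisc : _root_.IsDiscrete (π ⁻¹' {π y}) := Scheme.Hom.isDiscrete_preimage_singleton π (π y)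
    have h3 : IsClosed (π ⁻¹' {π y}) := hx.1.preimage π.continuous
    haveI : DiscreteTopology (π ⁻¹' {π y}) := hdisc.to_subtype
    have h2 : IsClosed ({⟨y, rfl⟩} : Set (π ⁻¹' {π y})) := isClosed_discrete _
    have h4 := h3.isClosedEmbedding_subtypeVal.isClosedMap _ h2
    rw [Set.image_singleton] at h4
    exact Groth.Agent.Lib.Helper22.Nod.isNode_of_etale k (π ≫ (X ↘ (Spec (CommRingCat.of k))))
      (X ↘ (Spec (CommRingCat.of k))) π rfl y h4 hx
  · intro hy
    letI ovY : Y.Over (Spec (CommRingCat.of k)) := ⟨π ≫ (X ↘ (Spec (CommRingCat.of k)))⟩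
    haveI : LocallyOfFiniteType (π ≫ (X ↘ (Spec (CommRingCat.of k)))) := inferInstance
    have hcl : IsClosed ({π y} : Set X) := by
      haveI : JacobsonSpace X :=
        LocallyOfFiniteType.jacobsonSpace (X ↘ (Spec (CommRingCat.of k)))
      exact π.closePoints_subset_preimage_closedPoints hy.1
    have hid : Spec.map (CommRingCat.ofHom (algebraMap k k)) = 𝟙 _ := by
      rw [Algebra.algebraMap_self]
      exact Spec.map_id _
    exact Groth.Agent.Lib.Helper22.Nod.isNode_of_etale_of_algebraic k k
      (π ≫ (X ↘ (Spec (CommRingCat.of k)))) (X ↘ (Spec (CommRingCat.of k))) π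
      (by rw [hid, Category.comp_id]) y hcl hy

end Groth.Agent.S6552
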