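import Groth.Statements.S6554
-- import your own Groth.Agent.* helpers here
import Mathlib
import Groth.Agent.Lib.Helper22.GenEtale

set_option autoImplicit false
universe u
open CategoryTheory CategoryTheory.Limits AlgebraicGeometry
open Curves

namespace Groth.Agent.S6554

/-- (3) ⇔ (4) ⇔ (5): let k be a field and f : X → Y a morphism over k of smooth curves over k (integral,
separated, of finite type and smooth over k, of dimension one) which is nonconstant: f(ξ_X) = ξ_Y
for the generic points ξ_X of X and ξ_Y of Y (hypothesis e), so that the function field k(Y) maps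
into k(X). Then: some nonempty open U ⊆ X has f|_U unramified if and only if some nonempty open U ⊆
X has f|_U étale; and the latter holds if and only if k(X)/k(Y) is a finite separable extension.
(The published statement also lists two further equivalent conditions, that df : f^*Ω_{Y/k} →
Ω_{X/k} is nonzero and that Ω_{X/Y} is supported on a proper closed subset; this row omits them. For
a constant f every condition stated here fails, so assuming f nonconstant loses nothing.) -/
theorem result (k : Type u) [Field k]
    (X Y : Scheme.{u}) [X.Over (Spec (CommRingCat.of k))] [Y.Over (Spec (CommRingCat.of k))]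
    [IsIntegral X] [IsSeparated (X ↘ (Spec (CommRingCat.of k)))] [LocallyOfFiniteType (X ↘ (Spec (CommRingCat.of k)))] [QuasiCompact (X ↘ (Spec (CommRingCat.of k)))] (hdX : topologicalKrullDim X = 1) [Smooth (X ↘ (Spec (CommRingCat.of k)))]
    [IsIntegral Y] [IsSeparated (Y ↘ (Spec (CommRingCat.of k)))] [LocallyOfFiniteType (Y ↘ (Spec (CommRingCat.of k)))] [QuasiCompact (Y ↘ (Spec (CommRingCat.of k)))] (hdY : topologicalKrullDim Y = 1) [Smooth (Y ↘ (Spec (CommRingCat.of k)))]
    (f : X ⟶ Y) (hf : f ≫ (Y ↘ (Spec (CommRingCat.of k))) = X ↘ (Spec (CommRingCat.of k))) (e : f (genericPoint X) = genericPoint Y) :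
    letI := ((Y.presheaf.stalkSpecializes (specializes_of_eq e) ≫ f.stalkMap (genericPoint X)).hom).toAlgebra
    ((∃ U : X.Opens, (U : Set X).Nonempty ∧ FormallyUnramified (U.ι ≫ f)) ↔
      (∃ U : X.Opens, (U : Set X).Nonempty ∧ Etale (U.ι ≫ f))) ∧
    ((∃ U : X.Opens, (U : Set X).Nonempty ∧ Etale (U.ι ≫ f)) ↔
      (FiniteDimensional Y.functionField X.functionField ∧ Algebra.IsSeparable Y.functionField X.functionField)) := by
  classical
  haveI : LocallyOfFiniteType f := by
    have : LocallyOfFiniteType (f ≫ (Y ↘ Spec (CommRingCat.of k))) := by rw [hf]; infer_instance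
    exact locallyOfFiniteType_of_comp f (Y ↘ Spec (CommRingCat.of k))
  haveI : IsLocallyNoetherian Y :=
    LocallyOfFiniteType.isLocallyNoetherian (Y ↘ Spec (CommRingCat.of k))
  haveI : LocallyOfFinitePresentation f := inferInstance
  let φ : Y.presheaf.stalk (genericPoint Y) ⟶ Y.presheaf.stalk (f (genericPoint X)) :=
    Y.presheaf.stalkSpecializes (specializes_of_eq e)
  haveI hφ : IsIso φ :=
    (Y.presheaf.stalkCongr (Inseparable.of_eq e.symm)).isIso_hom
  letI algKL : Algebra Y.functionField X.functionField :=
    (φ ≫ f.stalkMap (genericPoint X)).hom.toAlgebra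
  have hmap : algebraMap Y.functionField X.functionField =
      (φ ≫ f.stalkMap (genericPoint X)).hom := RingHom.algebraMap_toAlgebra _
  -- generic point lies in every nonempty open
  have hgen : ∀ U : X.Opens, (U : Set X).Nonempty → genericPoint X ∈ U := by
    intro U hU
    exact ((genericPoint_spec X).mem_open_set_iff U.2).mpr (by simpa using hU)
  -- (P2) essentially of finite type
  haveI hEss : Algebra.EssFiniteType Y.functionField X.functionField := by
    rw [← RingHom.essFiniteType_algebraMap, hmap]
    exact (RingHom.EssFiniteType.respectsIso.cancel_left_isIso φ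
      (f.stalkMap (genericPoint X))).mpr (LocallyOfFiniteType.stalkMap f (genericPoint X))
  -- stalk-level unramifiedness iff field-level
  have hUnrIff : (f.stalkMap (genericPoint X)).hom.FormallyUnramified ↔
      Algebra.FormallyUnramified Y.functionField X.functionField := by
    rw [← RingHom.formallyUnramified_algebraMap, hmap]
    exact (RingHom.FormallyUnramified.respectsIso.cancel_left_isIso φ
      (f.stalkMap (genericPoint X))).symm
  -- (P1)
  have hUnr : ∀ U : X.Opens, (U : Set X).Nonempty → FormallyUnramified (U.ι ≫ f) →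
      Algebra.FormallyUnramified Y.functionField X.functionField := by
    intro U hU h
    have hξU := hgen U hU
    have h1 := FormallyUnramified.stalkMap (U.ι ≫ f) ⟨genericPoint X, hξU⟩
    have h2 : (U.ι ≫ f).stalkMap ⟨genericPoint X, hξU⟩ =
        f.stalkMap (U.ι ⟨genericPoint X, hξU⟩) ≫ U.ι.stalkMap ⟨genericPoint X, hξU⟩ :=
      Scheme.Hom.stalkMap_comp _ _ _
    rw [h2] at h1
    have h3 := (RingHom.FormallyUnramified.respectsIso.cancel_right_isIso
      (f.stalkMap (U.ι ⟨genericPoint X, hξU⟩)) (U.ι.stalkMap ⟨genericPoint X, hξU⟩)).mp h1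
    exact hUnrIff.mp h3
  -- (P3)
  have hSm : Algebra.IsSeparable Y.functionField X.functionField →
      genericPoint X ∈ f.smoothLocus := by
    intro hsep
    haveI := Algebra.FormallyEtale.of_isSeparable Y.functionField X.functionField
    have h1 : Algebra.FormallySmooth Y.functionField X.functionField := inferInstance
    rw [← RingHom.formallySmooth_algebraMap, hmap] at h1
    rw [Scheme.Hom.mem_smoothLocus]
    exact (RingHom.FormallySmooth.respectsIso.cancel_left_isIso φ
      (f.stalkMap (genericPoint X))).mp h1
  -- (P4)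
  have hEt : ∀ U : X.Opens, (U : Set X).Nonempty → FormallyUnramified (U.ι ≫ f) →
      ∃ U' : X.Opens, (U' : Set X).Nonempty ∧ Etale (U'.ι ≫ f) := by
    intro U hU h
    haveI := hUnr U hU h
    have hsep : Algebra.IsSeparable Y.functionField X.functionField :=
      Algebra.FormallyUnramified.isSeparable _ _
    have hξS := hSm hsep
    have hξU := hgen U hU
    refine ⟨U ⊓ f.smoothLocus, ⟨genericPoint X, hξU, hξS⟩, ?_⟩
    have hle : U ⊓ f.smoothLocus ≤ U := inf_le_left
    haveI hunr : FormallyUnramified ((U ⊓ f.smoothLocus).ι ≫ f) := by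
      rw [← X.homOfLE_ι hle, Category.assoc]
      haveI : FormallyUnramified (X.homOfLE hle) := inferInstance
      exact MorphismProperty.comp_mem _ _ _ this h
    haveI hsm : Smooth ((U ⊓ f.smoothLocus).ι ≫ f) := by
      rw [← Scheme.Hom.smoothLocus_eq_top_iff, ← Scheme.Hom.preimage_smoothLocus_eq, eq_top_iff]
      intro x _
      exact (inf_le_right : U ⊓ f.smoothLocus ≤ f.smoothLocus) x.2
    exact Etale.of_formallyUnramified_of_flat _
  -- (P5)
  have hUnrOpen : Algebra.IsSeparable Y.functionField X.functionField →
      ∃ U : X.Opens, (U : Set X).Nonempty ∧ FormallyUnramified (U.ι ≫ f) := by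
    intro hsep
    haveI := Algebra.FormallyUnramified.of_isSeparable Y.functionField X.functionField
    have h1 : (f.stalkMap (genericPoint X)).hom.FormallyUnramified := hUnrIff.mpr inferInstance
    obtain ⟨V, hxV, hV⟩ :=
      Groth.Agent.Lib.Helper22.GenEtale.exists_formallyUnramified_nhd f (genericPoint X) h1
    exact ⟨V, ⟨genericPoint X, hxV⟩, hV⟩
  refine ⟨⟨fun ⟨U, hU, h⟩ => hEt U hU h, fun ⟨U, hU, h⟩ => ⟨U, hU, inferInstance⟩⟩,
    ⟨fun ⟨U, hU, h⟩ => ?_, fun hsep => ?_⟩⟩
  · haveI := hUnr U hU inferInstance
    exact ⟨Algebra.FormallyUnramified.finite_of_free (R := Y.functionField)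
      (S := X.functionField), Algebra.FormallyUnramified.isSeparable _ _⟩
  · obtain ⟨U, hU, h⟩ := hUnrOpen hsep.2
    exact hEt U hU h

end Groth.Agent.S6554
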