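import Groth.Statements.S6556
-- import your own Groth.Agent.* helpers here
import Mathlib
import Groth.Agent.Lib.Helper22.RamMain
import Groth.Agent.Lib.Helper22.RamD
import Groth.Agent.Lib.Helper24.RamIdxEquiv
import Groth.Agent.Lib.Helper17.StalkBCCompat
import Groth.Agent.Lib.Helper22.RamFin
import Groth.Agent.Lib.Helper4.RamTensor

set_option autoImplicit false
universe u
open CategoryTheory CategoryTheory.Limits AlgebraicGeometry
attribute [local instance] Curv2.resAlgebra
open Curves

namespace Groth.Agent.S6556

/-- Let X be a smooth curve over the field k (integral, separated, of finite type and smooth over k, of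
dimension one), k̄ an algebraic closure of k, x̄ ∈ X_{k̄} a closed point and x ∈ X its image. Then
the ramification index of the extension of discrete valuation rings O_{X,x} → O_{X_{k̄}, x̄} (the
length of O_{X_{k̄},x̄} modulo the ideal generated by the maximal ideal of O_{X,x}) equals the
inseparable degree [κ(x) : k]_i. -/
theorem result (k : Type u) [Field k] (X : Scheme.{u}) [X.Over (Spec (CommRingCat.of k))]
    [IsIntegral X] [IsSeparated (X ↘ (Spec (CommRingCat.of k)))] [LocallyOfFiniteType (X ↘ (Spec (CommRingCat.of k)))] [QuasiCompact (X ↘ (Spec (CommRingCat.of k)))] (hdX : topologicalKrullDim X = 1) [Smooth (X ↘ (Spec (CommRingCat.of k)))]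
    (xb : Curv2.bc k X (AlgebraicClosure k)) (hxb : IsClosed ({xb} : Set (Curv2.bc k X (AlgebraicClosure k)))) :
    letI := ((Curv2.bcFst k X (AlgebraicClosure k)).stalkMap xb).hom.toAlgebra
    Ideal.ramificationIdx (IsLocalRing.maximalIdeal ((Curv2.bc k X (AlgebraicClosure k)).presheaf.stalk xb))
        (X.presheaf.stalk (Curv2.bcFst k X (AlgebraicClosure k) xb)) =
      Field.finInsepDegree k (X.residueField (Curv2.bcFst k X (AlgebraicClosure k) xb)) := by
  exact Groth.Agent.Lib.Helper22.RamMain.main k X xb
    (fun q _ e => Groth.Agent.Lib.Helper24.RamIdxEquiv.ramificationIdx_eq_of_algEquiv q e)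
    (fun k Ω R _ _ _ _ _ _ n hRF q _ hq =>
      Groth.Agent.Lib.Helper4.RamTensor.ramificationIdx_tensor_of k Ω R n hRF q hq)
    (fun k κ Ω _ _ _ _ _ _ _ _ Q _ => Groth.Agent.Lib.Helper22.RamFin.length_localization_tensor k κ Ω Q)
    (Groth.Agent.Lib.Helper17.StalkBCCompat.exists_stalk_algEquiv_compat k X (AlgebraicClosure k) xb)
    (Groth.Agent.Lib.Helper22.RamD.finite_residueField_bcFst k X xb hxb)

end Groth.Agent.S6556
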