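import Groth.Statements.S6564
import Mathlib

set_option autoImplicit false
universe u
open CategoryTheory CategoryTheory.Limits AlgebraicGeometry
open Curves

namespace Groth.Agent.S6564

/-- Let X be proper over the field k of dimension at most 1. If X has a g^r_d (an invertible module L of
degree d with an ordered family of r + 1 global sections linearly independent over k), then X has a
g^s_d for every 0 ≤ s ≤ r. -/
theorem result (k : Type u) [Field k] (X : Scheme.{u}) [X.Over (Spec (CommRingCat.of k))] [IsProper (X ↘ (Spec (CommRingCat.of k)))] (hdim : topologicalKrullDim X ≤ 1)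
    (d r : ℕ) (L : X.Modules) (σ : Fin (r + 1) → LinSer.Sect X L) (hL : LinSer.IsLinSer k X L d r σ)
    (s : ℕ) (hs : s ≤ r) :
    ∃ (L' : X.Modules) (τ : Fin (s + 1) → LinSer.Sect X L'), LinSer.IsLinSer k X L' d s τ := by
  classical
  obtain ⟨hinv, hdeg, hind⟩ := hL
  have hle : s + 1 ≤ r + 1 := Nat.succ_le_succ hs
  refine ⟨L, fun i => σ (Fin.castLE hle i), hinv, hdeg, ?_⟩
  intro c hc
  let e : Fin (s + 1) ↪ Fin (r + 1) := ⟨Fin.castLE hle, Fin.castLE_injective hle⟩
  let c' : Fin (r + 1) → k := fun j => if h : (j : ℕ) < s + 1 then c ⟨j, h⟩ else 0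
  have hc'e : ∀ i : Fin (s + 1), c' (e i) = c i := by
    intro i
    have hi : ((e i : Fin (r + 1)) : ℕ) < s + 1 := i.isLt
    show (if h : ((e i : Fin (r + 1)) : ℕ) < s + 1 then c ⟨_, h⟩ else 0) = c i
    rw [dif_pos hi]
    exact congrArg c (Fin.ext rfl)
  have hc'0 : ∀ j : Fin (r + 1), j ∉ (Finset.univ : Finset (Fin (s + 1))).map e → c' j = 0 := by
    intro j hj
    show (if h : (j : ℕ) < s + 1 then c ⟨j, h⟩ else 0) = 0
    rw [dif_neg]
    intro h
    exact hj (Finset.mem_map.mpr ⟨⟨j, h⟩, Finset.mem_univ _, Fin.ext rfl⟩)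
  have hsum : ∑ j, (Coh.toGlobal (X ↘ Spec (CommRingCat.of k)) (c' j)) • σ j = 0 := by
    rw [← Finset.sum_subset (Finset.subset_univ ((Finset.univ : Finset (Fin (s + 1))).map e))
      (fun j _ hj => by rw [hc'0 j hj, map_zero, zero_smul]), Finset.sum_map]
    simp only [hc'e]
    exact hc
  have hc'z := hind c' hsum
  funext i
  have h3 := congrFun hc'z (e i)
  rw [hc'e] at h3
  exact h3

end Groth.Agent.S6564
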