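import Groth.Statements.S6574
import Mathlib
import Groth.Agent.Lib.Helper21.RKw

set_option autoImplicit false
universe u
open Curves

namespace Groth.Agent.S6574

/-- Let k be a field, A = k[[x_1, …, x_n]], and I = (f_1, …, f_m) ⊆ m_A. The following are equivalent:
(1) A/I is a node in the algebraic sense: A/I ≅ k[[u, v]]/(a u^2 + b uv + c v^2) as k-algebras for a
nondegenerate quadratic form (A/I is complete with residue field k, so this is the completion
criterion for nodes); (2) the quotient A/I has no nonzero nilpotents, and m_A is generated by I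
together with every (n−1)-by-(n−1) minor taken from the Jacobian (∂f_j/∂x_i) (that is, these
elements generate I + m_A = m_A); (3) depth(A/I) = 1 and the same condition on minors. Stated as (1)
⇔ (2) and (2) ⇔ (3). -/
theorem result (k : Type u) [Field k] (n m : ℕ)
    (f : Fin m → MvPowerSeries (Fin n) k) (hf : ∀ j, f j ∈ IsLocalRing.maximalIdeal (MvPowerSeries (Fin n) k)) :
    ((∃ a b c : k, 4 * a * c - b ^ 2 ≠ 0 ∧
        Nonempty ((MvPowerSeries (Fin n) k ⧸ Ideal.span (Set.range f)) ≃ₐ[k]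
          (MvPowerSeries (Fin 2) k ⧸ Ideal.span
            {(MvPowerSeries.C a * MvPowerSeries.X 0 ^ 2 + MvPowerSeries.C b * MvPowerSeries.X 0 * MvPowerSeries.X 1 +
              MvPowerSeries.C c * MvPowerSeries.X 1 ^ 2 : MvPowerSeries (Fin 2) k)}))) ↔
      (IsReduced (MvPowerSeries (Fin n) k ⧸ Ideal.span (Set.range f)) ∧
        Ideal.span {d : MvPowerSeries (Fin n) k | ∃ (ρ : Fin (n - 1) → Fin m) (γ : Fin (n - 1) → Fin n), Function.Injective ρ ∧ Function.Injective γ ∧
          d = ((Matrix.of fun (j : Fin m) (i : Fin n) => MvPowerSeries.pderiv k i (f j)).submatrix ρ γ).det} ⊔ Ideal.span (Set.range f) = IsLocalRing.maximalIdeal (MvPowerSeries (Fin n) k))) ∧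
    ((IsReduced (MvPowerSeries (Fin n) k ⧸ Ideal.span (Set.range f)) ∧
        Ideal.span {d : MvPowerSeries (Fin n) k | ∃ (ρ : Fin (n - 1) → Fin m) (γ : Fin (n - 1) → Fin n), Function.Injective ρ ∧ Function.Injective γ ∧
          d = ((Matrix.of fun (j : Fin m) (i : Fin n) => MvPowerSeries.pderiv k i (f j)).submatrix ρ γ).det} ⊔ Ideal.span (Set.range f) = IsLocalRing.maximalIdeal (MvPowerSeries (Fin n) k)) ↔
      (LocCoh.depth (MvPowerSeries (Fin n) k) (MvPowerSeries (Fin n) k ⧸ Ideal.span (Set.range f)) = 1 ∧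
        Ideal.span {d : MvPowerSeries (Fin n) k | ∃ (ρ : Fin (n - 1) → Fin m) (γ : Fin (n - 1) → Fin n), Function.Injective ρ ∧ Function.Injective γ ∧
          d = ((Matrix.of fun (j : Fin m) (i : Fin n) => MvPowerSeries.pderiv k i (f j)).submatrix ρ γ).det} ⊔ Ideal.span (Set.range f) = IsLocalRing.maximalIdeal (MvPowerSeries (Fin n) k))) := by
  classical
  have hIm : Ideal.span (Set.range f) ≤ IsLocalRing.maximalIdeal (MvPowerSeries (Fin n) k) := by
    rw [Ideal.span_le]; rintro _ ⟨j, rfl⟩; exact hf j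
  have hIne : Ideal.span (Set.range f) ≠ ⊤ := fun h =>
    (IsLocalRing.maximalIdeal.isMaximal (MvPowerSeries (Fin n) k)).ne_top
      (top_le_iff.mp (h ▸ hIm))
  haveI : Nontrivial (MvPowerSeries (Fin n) k ⧸ Ideal.span (Set.range f)) :=
    Ideal.Quotient.nontrivial_iff.mpr hIne
  have A1 : (∃ a b c : k, 4 * a * c - b ^ 2 ≠ 0 ∧
      Nonempty ((MvPowerSeries (Fin n) k ⧸ Ideal.span (Set.range f)) ≃ₐ[k]
        (MvPowerSeries (Fin 2) k ⧸ Ideal.span {Groth.Agent.Lib.Helper21.RKo.Qf a b c}))) →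
      (IsReduced (MvPowerSeries (Fin n) k ⧸ Ideal.span (Set.range f)) ∧
        Ideal.span (Groth.Agent.Lib.Helper21.RKv.minorSet f) ⊔ Ideal.span (Set.range f) =
          IsLocalRing.maximalIdeal (MvPowerSeries (Fin n) k)) ∧
      LocCoh.depth (MvPowerSeries (Fin n) k)
        (MvPowerSeries (Fin n) k ⧸ Ideal.span (Set.range f)) = 1 := by
    rintro ⟨a, b, c, hD, ⟨σ⟩⟩
    exact ⟨⟨Groth.Agent.Lib.Helper21.RKw.isReduced_of_node f a b c hD σ,
      Groth.Agent.Lib.Helper21.RKw.min_of_node f a b c hD σ⟩,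
      Groth.Agent.Lib.Helper21.RKw.depth_of_node f hf a b c hD σ⟩
  have A2 : (IsReduced (MvPowerSeries (Fin n) k ⧸ Ideal.span (Set.range f)) ∧
        Ideal.span (Groth.Agent.Lib.Helper21.RKv.minorSet f) ⊔ Ideal.span (Set.range f) =
          IsLocalRing.maximalIdeal (MvPowerSeries (Fin n) k)) →
      (∃ a b c : k, 4 * a * c - b ^ 2 ≠ 0 ∧
      Nonempty ((MvPowerSeries (Fin n) k ⧸ Ideal.span (Set.range f)) ≃ₐ[k]
        (MvPowerSeries (Fin 2) k ⧸ Ideal.span {Groth.Agent.Lib.Helper21.RKo.Qf a b c}))) := by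
    rintro ⟨hred, hmin⟩
    exact Groth.Agent.Lib.Helper21.RKw.node_of_min f hf hmin (Or.inr hred)
  have A3 : (LocCoh.depth (MvPowerSeries (Fin n) k)
        (MvPowerSeries (Fin n) k ⧸ Ideal.span (Set.range f)) = 1 ∧
        Ideal.span (Groth.Agent.Lib.Helper21.RKv.minorSet f) ⊔ Ideal.span (Set.range f) =
          IsLocalRing.maximalIdeal (MvPowerSeries (Fin n) k)) →
      (∃ a b c : k, 4 * a * c - b ^ 2 ≠ 0 ∧
      Nonempty ((MvPowerSeries (Fin n) k ⧸ Ideal.span (Set.range f)) ≃ₐ[k]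
        (MvPowerSeries (Fin 2) k ⧸ Ideal.span {Groth.Agent.Lib.Helper21.RKo.Qf a b c}))) := by
    rintro ⟨hdep, hmin⟩
    refine Groth.Agent.Lib.Helper21.RKw.node_of_min f hf hmin (Or.inl ?_)
    have hIM : IsLocalRing.maximalIdeal (MvPowerSeries (Fin n) k) •
        (⊤ : Submodule (MvPowerSeries (Fin n) k)
          (MvPowerSeries (Fin n) k ⧸ Ideal.span (Set.range f))) ≠ ⊤ :=
      Groth.Agent.Lib.Helper4.maximalIdeal_smul_top_ne_top
    have h1 : 1 ≤ LocCoh.idealDepth (IsLocalRing.maximalIdeal (MvPowerSeries (Fin n) k))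
        (MvPowerSeries (Fin n) k ⧸ Ideal.span (Set.range f)) := by
      have h2 := hdep
      unfold LocCoh.depth at h2
      rw [h2]
    exact (Groth.Agent.Lib.Helper4.one_le_idealDepth_iff _ hIM).mp h1
  exact ⟨⟨fun h => (A1 h).1, A2⟩, ⟨fun h => ⟨(A1 (A2 h)).2, h.2⟩, fun h => (A1 (A3 h)).1⟩⟩

end Groth.Agent.S6574
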