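import Groth.Statements.S6575
import Mathlib

set_option autoImplicit false
universe u
open Curves

namespace Groth.Agent.S6575


theorem det_mul_submatrix_mem {R : Type*} [CommRing R] {l m n r : ℕ}
    (P : Matrix (Fin l) (Fin m) R) (N : Matrix (Fin m) (Fin n) R) (ρ : Fin r → Fin l)
    (γ : Fin r → Fin n) :
    ((P * N).submatrix ρ γ).det ∈ Ideal.span {d : R | ∃ ρ' : Fin r → Fin m,
      Function.Injective ρ' ∧ d = (N.submatrix ρ' γ).det} := by
  classical
  have hrow : ((P * N).submatrix ρ γ : Fin r → Fin r → R) =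
      fun t => ∑ j : Fin m, P (ρ t) j • (fun c : Fin r => N j (γ c)) := by
    funext t c
    simp [Matrix.mul_apply, Finset.sum_apply]
  have h1 : ((P * N).submatrix ρ γ).det = Matrix.detRowAlternating
      (fun t => ∑ j : Fin m, P (ρ t) j • (fun c : Fin r => N j (γ c))) := by
    show Matrix.detRowAlternating ((P * N).submatrix ρ γ) = _
    rw [hrow]
  have h2 := (Matrix.detRowAlternating (R := R) (n := Fin r)).toMultilinearMap.map_sum
    (fun (t : Fin r) (j : Fin m) => P (ρ t) j • (fun c : Fin r => N j (γ c)))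
  rw [h1]
  refine (show Matrix.detRowAlternating
      (fun t => ∑ j : Fin m, P (ρ t) j • (fun c : Fin r => N j (γ c))) = _ from h2) ▸ ?_
  refine Ideal.sum_mem _ (fun J _ => ?_)
  rw [MultilinearMap.map_smul_univ]
  refine Ideal.mul_mem_left _ _ ?_
  by_cases hJ : Function.Injective J
  · exact Ideal.subset_span ⟨J, hJ, rfl⟩
  · simp only [Function.Injective, not_forall] at hJ
    obtain ⟨a, b, hab, hne⟩ := hJ
    have : (Matrix.detRowAlternating (R := R) (n := Fin r)).toMultilinearMap
        (fun t : Fin r => (fun c : Fin r => N (J t) (γ c))) = 0 :=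
      AlternatingMap.map_eq_zero_of_eq _ _ (by simp only [hab]) hne
    rw [this]
    exact Ideal.zero_mem _

open MvPowerSeries in
theorem minors_le (k : Type u) [Field k] (n m l r : ℕ)
    (f : Fin m → MvPowerSeries (Fin n) k) (g : Fin l → MvPowerSeries (Fin n) k)
    (hgf : Ideal.span (Set.range g) ≤ Ideal.span (Set.range f)) :
    Ideal.span {d : MvPowerSeries (Fin n) k | ∃ (ρ : Fin r → Fin l) (γ : Fin r → Fin n),
        Function.Injective ρ ∧ Function.Injective γ ∧
          d = ((Matrix.of fun (j : Fin l) (i : Fin n) =>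
            MvPowerSeries.pderiv k i (g j)).submatrix ρ γ).det} ≤
      Ideal.span {d : MvPowerSeries (Fin n) k | ∃ (ρ : Fin r → Fin m) (γ : Fin r → Fin n),
        Function.Injective ρ ∧ Function.Injective γ ∧
          d = ((Matrix.of fun (j : Fin m) (i : Fin n) =>
            MvPowerSeries.pderiv k i (f j)).submatrix ρ γ).det} ⊔ Ideal.span (Set.range f) := by
  classical
  set I := Ideal.span (Set.range f) with hI
  set Mf := Ideal.span {d : MvPowerSeries (Fin n) k | ∃ (ρ : Fin r → Fin m) (γ : Fin r → Fin n),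
        Function.Injective ρ ∧ Function.Injective γ ∧
          d = ((Matrix.of fun (j : Fin m) (i : Fin n) =>
            MvPowerSeries.pderiv k i (f j)).submatrix ρ γ).det} with hMf
  rw [Ideal.span_le]
  rintro _ ⟨ρ, γ, hρ, hγ, rfl⟩
  have hcoef : ∀ s : Fin l, ∃ a : Fin m → MvPowerSeries (Fin n) k, ∑ j, a j * f j = g s :=
    fun s => Ideal.mem_span_range_iff_exists_fun.1 (hgf (Ideal.subset_span ⟨s, rfl⟩))
  choose a ha using hcoef
  let π := Ideal.Quotient.mk I
  have hentry : ∀ s i, π (MvPowerSeries.pderiv k i (g s)) =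
      ∑ j, π (a s j) * π (MvPowerSeries.pderiv k i (f j)) := by
    intro s i
    rw [← ha s, map_sum, map_sum]
    refine Finset.sum_congr rfl (fun j _ => ?_)
    rw [Derivation.leibniz, map_add, smul_eq_mul, smul_eq_mul, map_mul, map_mul]
    have : π (f j) = 0 := Ideal.Quotient.eq_zero_iff_mem.2 (Ideal.subset_span ⟨j, rfl⟩)
    rw [this, zero_mul, add_zero]
  let Jg : Matrix (Fin l) (Fin n) (MvPowerSeries (Fin n) k) :=
    Matrix.of fun j i => MvPowerSeries.pderiv k i (g j)
  let Jf : Matrix (Fin m) (Fin n) (MvPowerSeries (Fin n) k) :=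
    Matrix.of fun j i => MvPowerSeries.pderiv k i (f j)
  let aM : Matrix (Fin l) (Fin m) (MvPowerSeries (Fin n) k) := Matrix.of a
  have hmat : Jg.map π = (aM.map π) * (Jf.map π) := by
    ext s i
    simp only [Matrix.map_apply, Matrix.mul_apply, Jg, Jf, aM, Matrix.of_apply]
    exact hentry s i
  have h1 : π ((Jg.submatrix ρ γ).det) = (((aM.map π) * (Jf.map π)).submatrix ρ γ).det := by
    rw [RingHom.map_det, ← hmat]
    rfl
  have h2 := det_mul_submatrix_mem (aM.map π) (Jf.map π) ρ γ
  rw [← h1] at h2
  have h3 : Ideal.span {d : MvPowerSeries (Fin n) k ⧸ I | ∃ ρ' : Fin r → Fin m,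
      Function.Injective ρ' ∧ d = ((Jf.map π).submatrix ρ' γ).det} ≤ Ideal.map π Mf := by
    rw [Ideal.span_le]
    rintro _ ⟨ρ', hρ', rfl⟩
    have : ((Jf.map π).submatrix ρ' γ).det = π ((Jf.submatrix ρ' γ).det) := by
      rw [RingHom.map_det]; rfl
    rw [this]
    exact Ideal.mem_map_of_mem π (Ideal.subset_span ⟨ρ', γ, hρ', hγ, rfl⟩)
  have h5 : (Jg.submatrix ρ γ).det ∈ Ideal.comap π (Ideal.map π Mf) := h3 h2
  rw [Ideal.comap_map_of_surjective π Ideal.Quotient.mk_surjective, ← RingHom.ker_eq_comap_bot,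
    Ideal.mk_ker] at h5
  exact h5


/-- Let k be a field, A = k[[x_1, …, x_n]] and I ⊆ A an ideal generated by f_1, …, f_m and also by g_1,
…, g_l. Then for every r ≥ 0 the ideal of A/I generated by the r × r minors of (∂f_j/∂x_i) equals
the one generated by the r × r minors of (∂g_s/∂x_i); stated in A as equality of the ideals
generated by the minors together with I. (The published result also asserts independence of the
regular system of parameters x_1, …, x_n, which is not stated here.) -/
theorem result (k : Type u) [Field k] (n m l r : ℕ)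
    (f : Fin m → MvPowerSeries (Fin n) k) (g : Fin l → MvPowerSeries (Fin n) k)
    (hfg : Ideal.span (Set.range f) = Ideal.span (Set.range g)) :
    Ideal.span {d : MvPowerSeries (Fin n) k | ∃ (ρ : Fin r → Fin m) (γ : Fin r → Fin n), Function.Injective ρ ∧ Function.Injective γ ∧
          d = ((Matrix.of fun (j : Fin m) (i : Fin n) => MvPowerSeries.pderiv k i (f j)).submatrix ρ γ).det} ⊔ Ideal.span (Set.range f) =
      Ideal.span {d : MvPowerSeries (Fin n) k | ∃ (ρ : Fin r → Fin l) (γ : Fin r → Fin n), Function.Injective ρ ∧ Function.Injective γ ∧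
          d = ((Matrix.of fun (j : Fin l) (i : Fin n) => MvPowerSeries.pderiv k i (g j)).submatrix ρ γ).det} ⊔ Ideal.span (Set.range g) := by
  have h1 := minors_le k n m l r f g hfg.ge
  have h2 := minors_le k n l m r g f hfg.le
  apply le_antisymm
  · exact sup_le h2 (hfg.le.trans le_sup_right)
  · exact sup_le h1 (hfg.ge.trans le_sup_right)

end Groth.Agent.S6575
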