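import Groth.Statements.S6580
import Mathlib
import Groth.Agent.Lib.Helper6.IdemLift

set_option autoImplicit false
universe v u
open CategoryTheory CategoryTheory.Limits
open CohDer

namespace Groth.Agent.S6580

open CategoryTheory.Pretriangulated in
/-- Let (X, Y, Z, f, g, h) be a distinguished triangle of a pretriangulated category, and let a : X ⟶ X
and c : Z ⟶ Z be idempotents with h ≫ a⟦1⟧ = c ≫ h. Then there is an idempotent b : Y ⟶ Y such that
(a, b, c) is an endomorphism of the triangle. -/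
theorem result {D : Type u} [Category.{v} D] [Preadditive D] [HasZeroObject D] [HasShift D ℤ]
    [∀ n : ℤ, (shiftFunctor D n).Additive] [Pretriangulated D]
    (T : Triangle D) (hT : T ∈ distinguishedTriangles) (a : T.obj₁ ⟶ T.obj₁) (c : T.obj₃ ⟶ T.obj₃)
    (ha : a ≫ a = a) (hc : c ≫ c = c) (comm : T.mor₃ ≫ (shiftFunctor D (1 : ℤ)).map a = c ≫ T.mor₃) :
    ∃ b : T.obj₂ ⟶ T.obj₂, b ≫ b = b ∧ T.mor₁ ≫ b = a ≫ T.mor₁ ∧ T.mor₂ ≫ c = b ≫ T.mor₂ := by
  obtain ⟨b', hb1, hb2⟩ :=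
    Pretriangulated.complete_distinguished_triangle_morphism₂ T T hT hT a c comm
  have hb1r : ∀ {W : D} (k : T.obj₂ ⟶ W), T.mor₁ ≫ b' ≫ k = a ≫ T.mor₁ ≫ k := fun k => by
    rw [← Category.assoc, hb1, Category.assoc]
  have har : ∀ {W : D} (k : T.obj₁ ⟶ W), a ≫ a ≫ k = a ≫ k := fun k => by
    rw [← Category.assoc, ha]
  have hb2' : b' ≫ T.mor₂ = T.mor₂ ≫ c := hb2.symm
  have hb2r : ∀ {W : D} (k : T.obj₃ ⟶ W), b' ≫ T.mor₂ ≫ k = T.mor₂ ≫ c ≫ k := fun k => by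
    rw [← Category.assoc, hb2', Category.assoc]
  have hcr : ∀ {W : D} (k : T.obj₃ ⟶ W), c ≫ c ≫ k = c ≫ k := fun k => by
    rw [← Category.assoc, hc]
  have h1 : T.mor₁ ≫ (b' ≫ b' - b') = 0 := by
    simp only [Preadditive.comp_sub, hb1, hb1r, har, sub_self]
  have h2 : (b' ≫ b' - b') ≫ T.mor₂ = 0 := by
    simp only [Preadditive.sub_comp, Category.assoc, hb2', hb2r, hc, sub_self]
  obtain ⟨e₁, he₁⟩ := Pretriangulated.Triangle.coyoneda_exact₂ T hT (b' ≫ b' - b') h2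
  obtain ⟨e₂, he₂⟩ := Pretriangulated.Triangle.yoneda_exact₂ T hT (b' ≫ b' - b') h1
  have hdd : (b' ≫ b' - b') ≫ (b' ≫ b' - b') = 0 := by
    calc (b' ≫ b' - b') ≫ (b' ≫ b' - b') = (e₁ ≫ T.mor₁) ≫ (T.mor₂ ≫ e₂) := by
          rw [← he₁, ← he₂]
      _ = 0 := by
          rw [Category.assoc, ← Category.assoc T.mor₁, Pretriangulated.comp_distTriang_mor_zero₁₂ _ hT,
            Limits.zero_comp, Limits.comp_zero]
  refine ⟨b' ≫ b' + b' ≫ b' + b' ≫ b' - (b' ≫ b' ≫ b' + b' ≫ b' ≫ b'), ?_, ?_, ?_⟩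
  · exact Groth.Agent.Lib.Helper6.IdemLift.idem_of_sq_zero (R := End T.obj₂) b' hdd
  · simp only [Preadditive.comp_sub, Preadditive.comp_add, hb1, hb1r, har]
    abel
  · simp only [Preadditive.sub_comp, Preadditive.add_comp, Category.assoc, hb2', hb2r, hc, hcr]
    abel

end Groth.Agent.S6580
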