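import Groth.Statements.S6582
import Mathlib

set_option autoImplicit false
universe v u v' u'
open CategoryTheory CategoryTheory.Limits
open CohDer

namespace Groth.Agent.S6582

open CategoryTheory.Pretriangulated in
/-- Let F : D ⥤ D' be an exact functor of pretriangulated categories. The full subcategory of D on the
objects X with F(X) ≅ 0 is a strictly full pretriangulated subcategory (it contains a zero object,
is stable under shifts and isomorphisms and is closed under extensions) and it is saturated:
whenever X ⊞ Y belongs to it, so do X and Y. -/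
theorem result {D : Type u} [Category.{v} D] [Preadditive D] [HasZeroObject D] [HasShift D ℤ]
    [∀ n : ℤ, (shiftFunctor D n).Additive] [Pretriangulated D]
    {D' : Type u'} [Category.{v'} D'] [Preadditive D'] [HasZeroObject D'] [HasShift D' ℤ]
    [∀ n : ℤ, (shiftFunctor D' n).Additive] [Pretriangulated D']
    (F : D ⥤ D') [F.Additive] [F.CommShift ℤ] [F.IsTriangulated] :
    (ObjectProperty.IsTriangulated (fun X : D => IsZero (F.obj X))) ∧
    (ObjectProperty.IsClosedUnderIsomorphisms (fun X : D => IsZero (F.obj X))) ∧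
    (∀ X Y : D, IsZero (F.obj (X ⊞ Y)) → IsZero (F.obj X) ∧ IsZero (F.obj Y)) := by
  open ZeroObject in
  have hiso : ObjectProperty.IsClosedUnderIsomorphisms (fun X : D => IsZero (F.obj X)) :=
    ⟨fun e hX => hX.of_iso (F.mapIso e.symm)⟩
  have hret : ∀ (X Z : D) (i : X ⟶ Z) (p : Z ⟶ X), i ≫ p = 𝟙 X → IsZero (F.obj Z) →
      IsZero (F.obj X) := by
    intro X Z i p hip hZ
    rw [IsZero.iff_id_eq_zero, ← F.map_id, ← hip, F.map_comp]
    rw [hZ.eq_of_tgt (F.map i) 0, zero_comp]
  refine ⟨?_, hiso, ?_⟩
  · exact
    { exists_zero := ⟨(0 : D), isZero_zero D, F.map_isZero (isZero_zero D)⟩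
      toIsStableUnderShift := ⟨fun a => ⟨fun X hX =>
        (((shiftFunctor D' a).map_isZero hX).of_iso ((F.commShiftIso a).app X) : _)⟩⟩
      toIsTriangulatedClosed₂ := ObjectProperty.IsTriangulatedClosed₂.mk' (fun T hT h₁ h₃ =>
        Pretriangulated.Triangle.isZero₂_of_isZero₁₃ _ (F.map_distinguished T hT) h₁ h₃) }
  · intro X Y h
    exact ⟨hret X _ biprod.inl biprod.fst (by simp) h, hret Y _ biprod.inr biprod.snd (by simp) h⟩

end Groth.Agent.S6582
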