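import Groth.Statements.S6587
import Mathlib

set_option autoImplicit false
universe v u
open CategoryTheory CategoryTheory.Limits Opposite
open CohDer

namespace Groth.Agent.S6587

open CategoryTheory.Pretriangulated in
/-- Let D be a triangulated category and let X_n → Y_n → Z_n → X_n⟦1⟧ be an inverse system of
distinguished triangles of D indexed by ℕ (levelwise maps f, g, h of inverse systems, each level
distinguished). If the inverse system (Z_n) is pro-zero, then the levelwise map f : (X_n) → (Y_n) is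
a pro-isomorphism. -/
theorem result {D : Type u} [Category.{v} D] [Preadditive D] [HasZeroObject D] [HasShift D ℤ]
    [∀ n : ℤ, (shiftFunctor D n).Additive] [Pretriangulated D] [IsTriangulated D]
    (X Y Z : ARSys.PS D) (f : X ⟶ Y) (g : Y ⟶ Z) (h : Z ⟶ X ⋙ shiftFunctor D (1 : ℤ))
    (hT : ∀ n : ℕ, Triangle.mk (f.app (op n)) (g.app (op n)) (h.app (op n)) ∈ distinguishedTriangles)
    (hZ : DerCA.IsProZero Z) :
    DerCA.IsProIso f := by
  intro n
  obtain ⟨m₁, h₁, hz₁⟩ := hZ n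
  obtain ⟨m₂, h₂, hz₂⟩ := hZ m₁
  have natf : ∀ {p q : ℕ} (hpq : p ≤ q), ARSys.tr X hpq ≫ f.app (op p) = f.app (op q) ≫ ARSys.tr Y hpq :=
    fun hpq => f.naturality (homOfLE hpq).op
  have natg : ∀ {p q : ℕ} (hpq : p ≤ q), ARSys.tr Y hpq ≫ g.app (op p) = g.app (op q) ≫ ARSys.tr Z hpq :=
    fun hpq => g.naturality (homOfLE hpq).op
  have nath : ∀ {p q : ℕ} (hpq : p ≤ q), ARSys.tr Z hpq ≫ h.app (op p) =
      h.app (op q) ≫ (shiftFunctor D (1 : ℤ)).map (ARSys.tr X hpq) :=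
    fun hpq => h.naturality (homOfLE hpq).op
  have trX : ARSys.tr X h₂ ≫ ARSys.tr X h₁ = ARSys.tr X (h₁.trans h₂) := by
    dsimp only [ARSys.tr]; rw [← X.map_comp]; congr 1
  have trY : ARSys.tr Y h₂ ≫ ARSys.tr Y h₁ = ARSys.tr Y (h₁.trans h₂) := by
    dsimp only [ARSys.tr]; rw [← Y.map_comp]; congr 1
  -- Step A
  have hA : ARSys.tr Y h₂ ≫ g.app (op m₁) = 0 := by
    rw [natg h₂, hz₂, comp_zero]
  obtain ⟨b₁, hb₁⟩ := Pretriangulated.Triangle.coyoneda_exact₂ _ (hT m₁) (ARSys.tr Y h₂) hA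
  change Y.obj (op m₂) ⟶ X.obj (op m₁) at b₁
  change ARSys.tr Y h₂ = b₁ ≫ f.app (op m₁) at hb₁
  -- Step B
  have hB : (f.app (op m₂) ≫ b₁ - ARSys.tr X h₂) ≫ f.app (op m₁) = 0 := by
    rw [Preadditive.sub_comp, Category.assoc, ← hb₁, natf h₂, sub_self]
  obtain ⟨c, hc⟩ := Pretriangulated.Triangle.coyoneda_exact₁ _ (hT m₁)
    ((shiftFunctor D (1 : ℤ)).map (f.app (op m₂) ≫ b₁ - ARSys.tr X h₂))
    (by
      change (shiftFunctor D (1 : ℤ)).map _ ≫ (shiftFunctor D (1 : ℤ)).map (f.app (op m₁)) = 0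
      rw [← Functor.map_comp, hB, Functor.map_zero])
  change (shiftFunctor D (1 : ℤ)).obj (X.obj (op m₂)) ⟶ Z.obj (op m₁) at c
  change (shiftFunctor D (1 : ℤ)).map _ = c ≫ h.app (op m₁) at hc
  -- Step C
  have hC : (f.app (op m₂) ≫ b₁ - ARSys.tr X h₂) ≫ ARSys.tr X h₁ = 0 := by
    apply (shiftFunctor D (1 : ℤ)).map_injective
    rw [Functor.map_comp, hc, Category.assoc, ← nath h₁, hz₁, zero_comp, comp_zero, Functor.map_zero]
  refine ⟨m₂, h₁.trans h₂, b₁ ≫ ARSys.tr X h₁, ?_, ?_⟩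
  · rw [Preadditive.sub_comp, sub_eq_zero, Category.assoc] at hC
    rw [hC, trX]
  · rw [Category.assoc, natf h₁, ← Category.assoc, ← hb₁, trY]

end Groth.Agent.S6587
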