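import Groth.Statements.S6594
import Mathlib

set_option autoImplicit false
universe v u
open CategoryTheory CategoryTheory.Limits
open CohDer

namespace Groth.Agent.S6594

set_option backward.defeqAttrib.useBackward true in
set_option backward.isDefEq.respectTransparency false in
open CategoryTheory.Pretriangulated in
/-- A monomorphism in a pretriangulated category is the inclusion of a direct summand. -/
lemma split_of_mono {D : Type u} [Category.{v} D] [Preadditive D] [HasZeroObject D] [HasShift D ℤ]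
    [∀ n : ℤ, (shiftFunctor D n).Additive] [Pretriangulated D]
    {K X : D} (k : K ⟶ X) [Mono k] :
    ∃ (Z : D) (e : X ≅ K ⊞ Z), k ≫ e.hom = biprod.inl := by
  obtain ⟨Z, p, h, hT⟩ := distinguished_cocone_triangle k
  have h0 : (Triangle.mk k p h).mor₃ = 0 :=
    ((Triangle.mk k p h).mor₃_eq_zero_iff_mono₁ hT).2 (by dsimp; infer_instance)
  obtain ⟨e, he₁, -⟩ := exists_iso_binaryBiproduct_of_distTriang _ hT h0
  exact ⟨Z, e, he₁⟩


open CategoryTheory.Pretriangulated in
/-- (1) ⇔ (3): let D be a pretriangulated category and f : X ⟶ Y a morphism. Then f has a kernel if and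
only if f is isomorphic to a composite K ⊞ Z → Z → Z ⊞ Q of a projection and a coprojection for some
objects K, Z, Q. -/
theorem result {D : Type u} [Category.{v} D] [Preadditive D] [HasZeroObject D] [HasShift D ℤ]
    [∀ n : ℤ, (shiftFunctor D n).Additive] [Pretriangulated D]
    {X Y : D} (f : X ⟶ Y) :
    HasKernel f ↔ ∃ (K Z Q : D) (e₁ : X ≅ K ⊞ Z) (e₂ : Y ≅ Z ⊞ Q),
      f = e₁.hom ≫ biprod.snd ≫ biprod.inl ≫ e₂.inv := by
  constructor
  · intro hK
    obtain ⟨Z, e₁, he₁⟩ := split_of_mono (kernel.ι f)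
    -- the induced map Z ⟶ Y
    let fbar : Z ⟶ Y := biprod.inr ≫ e₁.inv ≫ f
    have hf : f = e₁.hom ≫ biprod.snd ≫ fbar := by
      have h1 : (biprod.inl : kernel f ⟶ kernel f ⊞ Z) ≫ e₁.inv ≫ f = 0 := by
        rw [← he₁, Category.assoc, Iso.hom_inv_id_assoc, kernel.condition]
      rw [← cancel_epi e₁.inv, Iso.inv_hom_id_assoc]
      apply biprod.hom_ext'
      · rw [h1, biprod.inl_snd_assoc, zero_comp]
      · rw [biprod.inr_snd_assoc]
    haveI : Mono fbar := by
      constructor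
      intro W u v huv
      rw [← sub_eq_zero, ← Preadditive.sub_comp] at huv
      rw [← sub_eq_zero]
      have h2 : ((u - v) ≫ biprod.inr ≫ e₁.inv) ≫ f = 0 := by
        simpa [fbar] using huv
      have h3 := kernel.lift_ι f _ h2
      have h4 : (u - v) = ((u - v) ≫ biprod.inr ≫ e₁.inv) ≫ e₁.hom ≫ biprod.snd := by simp
      rw [h4, ← h3, Category.assoc, ← Category.assoc (kernel.ι f), he₁, biprod.inl_snd, comp_zero]
    obtain ⟨Q, e₂, he₂⟩ := split_of_mono fbar
    refine ⟨kernel f, Z, Q, e₁, e₂, ?_⟩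
    have h5 : fbar = biprod.inl ≫ e₂.inv := by rw [← he₂, Category.assoc, Iso.hom_inv_id, Category.comp_id]
    rw [← h5]
    exact hf
  · rintro ⟨K, Z, Q, e₁, e₂, hf⟩
    have w : (biprod.inl ≫ e₁.inv : K ⟶ X) ≫ f = 0 := by
      rw [hf]; simp
    haveI : Mono (biprod.inl ≫ e₁.inv : K ⟶ X) := mono_comp _ _
    refine ⟨⟨⟨KernelFork.ofι (biprod.inl ≫ e₁.inv) w,
      KernelFork.IsLimit.ofι' _ w (fun {A} k hk => ⟨k ≫ e₁.hom ≫ biprod.fst, ?_⟩)⟩⟩⟩
    have h6 : k ≫ e₁.hom ≫ biprod.snd = 0 := by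
      rw [hf] at hk
      have h7 : (k ≫ e₁.hom ≫ biprod.snd) ≫ (biprod.inl ≫ e₂.inv : Z ⟶ Y) = 0 := by
        simpa using hk
      haveI : Mono (biprod.inl ≫ e₂.inv : Z ⟶ Y) := mono_comp _ _
      exact zero_of_comp_mono _ h7
    rw [← cancel_mono e₁.hom]
    apply biprod.hom_ext
    · simp
    · simp [h6]

end Groth.Agent.S6594
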