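import Groth.Statements.S6595
import Mathlib

set_option autoImplicit false
universe v u
open CategoryTheory CategoryTheory.Limits
open CohDer

namespace Groth.Agent.S6595

lemma shift_aux {D : Type u} [Category.{v} D] [Preadditive D] [HasShift D ℤ]
    [∀ n : ℤ, (shiftFunctor D n).Additive] (A B : D) (m m' : ℤ) (hm : m + 1 = m')
    (H : ∀ φ : (shiftFunctor D m').obj A ⟶ B, φ = 0)
    (φ : (shiftFunctor D m).obj A ⟶ (shiftFunctor D (-1 : ℤ)).obj B) : φ = 0 := by
  have h1 := H (((shiftFunctorAdd' D m 1 m' hm).app A).hom ≫ (shiftFunctor D (1 : ℤ)).map φ ≫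
    ((shiftFunctorCompIsoId D (-1 : ℤ) 1 (by norm_num)).app B).hom)
  have h2 : (shiftFunctor D (1 : ℤ)).map φ = 0 := by
    apply (cancel_epi ((shiftFunctorAdd' D m 1 m' hm).app A).hom).1
    apply (cancel_mono ((shiftFunctorCompIsoId D (-1 : ℤ) 1 (by norm_num)).app B).hom).1
    rw [Category.assoc, h1, comp_zero, zero_comp]
  apply (shiftFunctor D (1 : ℤ)).map_injective
  rw [h2, Functor.map_zero]


open CategoryTheory.Pretriangulated in
/-- Let D be a triangulated category, X and X' chain complexes in D considered in degrees ≤ n, where a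
Postnikov system for the complex X_n → … → X_0 consists of objects Y_k, an isomorphism Y_0 ⟶ X_0,
and for 0 ≤ k < n distinguished triangles Y_{k+1} ⟶ X_{k+1} ⟶ Y_k ⟶ Y_{k+1}⟦1⟧ with X_{k+1} ⟶ Y_k ⟶
X_k the differential. Suppose X' carries a Postnikov system (Y', a', b', c'). If Hom(X_i⟦i - j - 1⟧,
X'_j) = 0 for all j + 1 < i ≤ n, then Hom(X_i⟦i - j - 1⟧, Y'_j) = 0 for all j + 1 < i ≤ n. -/
theorem result {D : Type u} [Category.{v} D] [Preadditive D] [HasZeroObject D] [HasShift D ℤ]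
    [∀ n : ℤ, (shiftFunctor D n).Additive] [Pretriangulated D] [IsTriangulated D]
    (X X' : ChainComplex D ℕ) (n : ℕ)
    (Y : ℕ → D) (a : ∀ k, Y k ⟶ X'.X k) (b : ∀ k, X'.X (k + 1) ⟶ Y k)
    (c : ∀ k, Y k ⟶ (shiftFunctor D (1 : ℤ)).obj (Y (k + 1)))
    (h0 : IsIso (a 0))
    (hP : ∀ k, k < n → Triangle.mk (a (k + 1)) (b k) (c k) ∈ distinguishedTriangles ∧ b k ≫ a k = X'.d (k + 1) k)
    (hX : ∀ i j : ℕ, j + 1 < i → i ≤ n → ∀ ψ : (shiftFunctor D ((i : ℤ) - j - 1)).obj (X.X i) ⟶ X'.X j, ψ = 0)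
    (i j : ℕ) (hij : j + 1 < i) (hi : i ≤ n) (ψ : (shiftFunctor D ((i : ℤ) - j - 1)).obj (X.X i) ⟶ Y j) :
    ψ = 0 := by
  have key : ∀ (j i : ℕ), j + 1 < i → i ≤ n →
      ∀ ψ : (shiftFunctor D ((i : ℤ) - j - 1)).obj (X.X i) ⟶ Y j, ψ = 0 := by
    intro j
    induction j with
    | zero =>
      intro i hij hi ψ
      have h1 := hX i 0 hij hi (ψ ≫ a 0)
      rw [← cancel_mono (a 0), zero_comp]
      exact h1
    | succ j ih =>
      intro i hij hi ψ
      have hT := (hP j (by omega)).1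
      have h1 : ψ ≫ a (j + 1) = 0 := hX i (j + 1) hij hi (ψ ≫ a (j + 1))
      obtain ⟨ψ', hψ'⟩ := Pretriangulated.Triangle.coyoneda_exact₂ _
        (Pretriangulated.inv_rot_of_distTriang _ hT) ψ h1
      have h2 : ψ' = 0 :=
        shift_aux (X.X i) (Y j) _ ((i : ℤ) - j - 1) (by push_cast; ring)
          (fun φ => ih i (by omega) hi φ) ψ'
      rw [hψ', h2]; exact zero_comp
  exact key j i hij hi ψ

end Groth.Agent.S6595
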