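import Groth.Statements.S6596
import Mathlib
import Groth.Agent.S6595

set_option autoImplicit false
universe v u
open CategoryTheory CategoryTheory.Limits
open CohDer

namespace Groth.Agent.S6596

lemma shift_aux' {D : Type u} [Category.{v} D] [Preadditive D] [HasShift D ℤ]
    [∀ n : ℤ, (shiftFunctor D n).Additive] (A B : D)
    (H : ∀ φ : (shiftFunctor D (1 : ℤ)).obj A ⟶ B, φ = 0)
    (φ : A ⟶ (shiftFunctor D (-1 : ℤ)).obj B) : φ = 0 := by
  have h1 := H ((shiftFunctor D (1 : ℤ)).map φ ≫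
    ((shiftFunctorCompIsoId D (-1 : ℤ) 1 (by norm_num)).app B).hom)
  have h2 : (shiftFunctor D (1 : ℤ)).map φ = 0 := by
    apply (cancel_mono ((shiftFunctorCompIsoId D (-1 : ℤ) 1 (by norm_num)).app B).hom).1
    rw [h1, zero_comp]
  apply (shiftFunctor D (1 : ℤ)).map_injective
  rw [h2, Functor.map_zero]


open CategoryTheory.Pretriangulated in
/-- Let D be a triangulated category and φ : X ⟶ X' a morphism of chain complexes in D considered in
degrees ≤ n, where a Postnikov system for the complex X_n → … → X_0 consists of objects Y_k, an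
isomorphism Y_0 ⟶ X_0, and for 0 ≤ k < n distinguished triangles Y_{k+1} ⟶ X_{k+1} ⟶ Y_k ⟶
Y_{k+1}⟦1⟧ with X_{k+1} ⟶ Y_k ⟶ X_k the differential. Suppose X and X' carry Postnikov systems (Y,
a, b, c) and (Y', a', b', c'). If Hom(X_i⟦i - j - 1⟧, X'_j) = 0 for all j + 1 < i ≤ n, then φ
extends to a morphism of Postnikov systems: morphisms y_k : Y_k ⟶ Y'_k for k ≤ n forming, with the
φ_k, morphisms of the distinguished triangles and compatible with Y_0 ⟶ X_0 and Y'_0 ⟶ X'_0. -/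
theorem result {D : Type u} [Category.{v} D] [Preadditive D] [HasZeroObject D] [HasShift D ℤ]
    [∀ n : ℤ, (shiftFunctor D n).Additive] [Pretriangulated D] [IsTriangulated D]
    (X X' : ChainComplex D ℕ) (φ : X ⟶ X') (n : ℕ)
    (Y : ℕ → D) (a : ∀ k, Y k ⟶ X.X k) (b : ∀ k, X.X (k + 1) ⟶ Y k)
    (c : ∀ k, Y k ⟶ (shiftFunctor D (1 : ℤ)).obj (Y (k + 1)))
    (h0 : IsIso (a 0))
    (hP : ∀ k, k < n → Triangle.mk (a (k + 1)) (b k) (c k) ∈ distinguishedTriangles ∧ b k ≫ a k = X.d (k + 1) k)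
    (qY : ℕ → D) (qa : ∀ k, qY k ⟶ X'.X k) (qb : ∀ k, X'.X (k + 1) ⟶ qY k)
    (qc : ∀ k, qY k ⟶ (shiftFunctor D (1 : ℤ)).obj (qY (k + 1)))
    (qh0 : IsIso (qa 0))
    (qhP : ∀ k, k < n → Triangle.mk (qa (k + 1)) (qb k) (qc k) ∈ distinguishedTriangles ∧ qb k ≫ qa k = X'.d (k + 1) k)
    (hX : ∀ i j : ℕ, j + 1 < i → i ≤ n → ∀ ψ : (shiftFunctor D ((i : ℤ) - j - 1)).obj (X.X i) ⟶ X'.X j, ψ = 0) :
    ∃ y : ∀ k, Y k ⟶ qY k,
      (∀ k, k ≤ n → y k ≫ qa k = a k ≫ φ.f k) ∧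
      (∀ k, k < n → b k ≫ y k = φ.f (k + 1) ≫ qb k ∧ c k ≫ (shiftFunctor D (1 : ℤ)).map (y (k + 1)) = y k ≫ qc k) := by
  have van : ∀ j : ℕ, j + 2 ≤ n →
      ∀ ψ : (shiftFunctor D (1 : ℤ)).obj (X.X (j + 2)) ⟶ qY j, ψ = 0 := by
    intro j hj
    have hm : (((j + 2 : ℕ) : ℤ)) - (j : ℤ) - 1 = 1 := by push_cast; ring
    have h := Groth.Agent.S6595.result X X' n qY qa qb qc qh0 qhP hX (j + 2) j (by omega) hj
    rw [hm] at h
    exact h
  have sq : ∀ (k : ℕ) (yk : Y k ⟶ qY k), k < n → yk ≫ qa k = a k ≫ φ.f k →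
      b k ≫ yk = φ.f (k + 1) ≫ qb k := by
    intro k yk hk hy
    have h_a : (b k ≫ yk) ≫ qa k = X.d (k + 1) k ≫ φ.f k := by
      rw [Category.assoc, hy, ← Category.assoc, (hP k hk).2]
    have h_b : (φ.f (k + 1) ≫ qb k) ≫ qa k = X.d (k + 1) k ≫ φ.f k := by
      rw [Category.assoc, (qhP k hk).2, φ.comm]
    have hcomm : (b k ≫ yk - φ.f (k + 1) ≫ qb k) ≫ qa k = 0 := by
      rw [Preadditive.sub_comp, h_a, h_b, sub_self]
    rw [← sub_eq_zero]
    cases k with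
    | zero =>
      rw [← cancel_mono (qa 0), zero_comp]; exact hcomm
    | succ j =>
      have hT := (qhP j (by omega)).1
      obtain ⟨δ', hδ'⟩ := Pretriangulated.Triangle.coyoneda_exact₂ _
        (Pretriangulated.inv_rot_of_distTriang _ hT) _ hcomm
      have h2 : δ' = 0 := shift_aux' (X.X (j + 2)) (qY j) (van j (by omega)) δ'
      rw [hδ', h2]; exact zero_comp
  have step : ∀ (k : ℕ) (yk : Y k ⟶ qY k), ∃ y' : Y (k + 1) ⟶ qY (k + 1),
      k < n → yk ≫ qa k = a k ≫ φ.f k →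
        (y' ≫ qa (k + 1) = a (k + 1) ≫ φ.f (k + 1) ∧
          c k ≫ (shiftFunctor D (1 : ℤ)).map y' = yk ≫ qc k) := by
    intro k yk
    by_cases hk : k < n
    · by_cases hy : yk ≫ qa k = a k ≫ φ.f k
      · obtain ⟨y', h1, h2⟩ := Pretriangulated.complete_distinguished_triangle_morphism₁ _ _
          (hP k hk).1 (qhP k hk).1 (φ.f (k + 1)) yk (sq k yk hk hy)
        exact ⟨y', fun _ _ => ⟨h1.symm, h2⟩⟩
      · exact ⟨0, fun _ h => absurd h hy⟩
    · exact ⟨0, fun h => absurd h hk⟩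
  choose next hnext using step
  let y : ∀ k, Y k ⟶ qY k := fun k =>
    Nat.rec (motive := fun k => Y k ⟶ qY k) (a 0 ≫ φ.f 0 ≫ inv (qa 0)) (fun k yk => next k yk) k
  have y0 : y 0 = a 0 ≫ φ.f 0 ≫ inv (qa 0) := rfl
  have ysucc : ∀ k, y (k + 1) = next k (y k) := fun k => rfl
  have hi : ∀ k, k ≤ n → y k ≫ qa k = a k ≫ φ.f k := by
    intro k
    induction k with
    | zero => intro _; rw [y0]; simp
    | succ k ih => intro hk; rw [ysucc]; exact (hnext k (y k) (by omega) (ih (by omega))).1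
  refine ⟨y, hi, fun k hk => ⟨sq k (y k) hk (hi k (by omega)), ?_⟩⟩
  have h3 := (hnext k (y k) hk (hi k (by omega))).2
  rw [ysucc]; exact h3

end Groth.Agent.S6596
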