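import Groth.Statements.S6597
import Mathlib.CategoryTheory.Triangulated.TriangleShift
-- import your own Groth.Agent.* helpers here

set_option autoImplicit false
universe v u
open CategoryTheory CategoryTheory.Limits
open CohDer

namespace Groth.Agent.S6597

open CategoryTheory.Pretriangulated in
/-- Let D be a triangulated category, φ : X ⟶ X' a morphism of chain complexes in D considered in
degrees ≤ n, where a Postnikov system for the complex X_n → … → X_0 consists of objects Y_k, an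
isomorphism Y_0 ⟶ X_0, and for 0 ≤ k < n distinguished triangles Y_{k+1} ⟶ X_{k+1} ⟶ Y_k ⟶
Y_{k+1}⟦1⟧ with X_{k+1} ⟶ Y_k ⟶ X_k the differential; let (Y, a, b, c) and (Y', a', b', c') be
Postnikov systems for X and X'. If Hom(X_i⟦i⟧, Y'_n⟦n⟧) = 0 for i = 1, …, n, then two morphisms of
Postnikov systems extending φ agree on Y_n. (The published statement says there is at most one
morphism of Postnikov systems; the argument, by induction along Y_0 → Y_1⟦1⟧ → … → Y_n⟦n⟧,
determines the component in degree n, which is what is asserted here.) -/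
theorem result {D : Type u} [Category.{v} D] [Preadditive D] [HasZeroObject D] [HasShift D ℤ]
    [∀ n : ℤ, (shiftFunctor D n).Additive] [Pretriangulated D] [IsTriangulated D]
    (X X' : ChainComplex D ℕ) (φ : X ⟶ X') (n : ℕ)
    (Y : ℕ → D) (a : ∀ k, Y k ⟶ X.X k) (b : ∀ k, X.X (k + 1) ⟶ Y k)
    (c : ∀ k, Y k ⟶ (shiftFunctor D (1 : ℤ)).obj (Y (k + 1)))
    (h0 : IsIso (a 0))
    (hP : ∀ k, k < n → Triangle.mk (a (k + 1)) (b k) (c k) ∈ distinguishedTriangles ∧ b k ≫ a k = X.d (k + 1) k)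
    (qY : ℕ → D) (qa : ∀ k, qY k ⟶ X'.X k) (qb : ∀ k, X'.X (k + 1) ⟶ qY k)
    (qc : ∀ k, qY k ⟶ (shiftFunctor D (1 : ℤ)).obj (qY (k + 1)))
    (qh0 : IsIso (qa 0))
    (qhP : ∀ k, k < n → Triangle.mk (qa (k + 1)) (qb k) (qc k) ∈ distinguishedTriangles ∧ qb k ≫ qa k = X'.d (k + 1) k)
    (hv : ∀ i : ℕ, 1 ≤ i → i ≤ n → ∀ ψ : (shiftFunctor D (i : ℤ)).obj (X.X i) ⟶ (shiftFunctor D (n : ℤ)).obj (qY n), ψ = 0)
    (y z : ∀ k, Y k ⟶ qY k)
    (hy : (∀ k, k ≤ n → y k ≫ qa k = a k ≫ φ.f k) ∧
      (∀ k, k < n → b k ≫ y k = φ.f (k + 1) ≫ qb k ∧ c k ≫ (shiftFunctor D (1 : ℤ)).map (y (k + 1)) = y k ≫ qc k))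
    (hz : (∀ k, k ≤ n → z k ≫ qa k = a k ≫ φ.f k) ∧
      (∀ k, k < n → b k ≫ z k = φ.f (k + 1) ≫ qb k ∧ c k ≫ (shiftFunctor D (1 : ℤ)).map (z (k + 1)) = z k ≫ qc k)) :
    y n = z n := by
  have key : ∀ k, k ≤ n → ∀ (m : ℤ) (T : D) (δ : (shiftFunctor D m).obj (qY k) ⟶ T),
      (∀ i : ℕ, 1 ≤ i → i ≤ k → ∀ j : ℤ, j = m - k + i →
        ∀ ψ : (shiftFunctor D j).obj (X.X i) ⟶ T, ψ = 0) →
      (shiftFunctor D m).map (y k - z k) ≫ δ = 0 := by
    intro k
    induction k with
    | zero =>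
      intro _ m T δ _
      have h0' : y 0 - z 0 = 0 := by
        have h1 : (y 0 - z 0) ≫ qa 0 = 0 := by
          rw [Preadditive.sub_comp, hy.1 0 (Nat.zero_le _), hz.1 0 (Nat.zero_le _), sub_self]
        rw [← cancel_mono (qa 0), Limits.zero_comp]
        exact h1
      rw [h0', Functor.map_zero, Limits.zero_comp]
    | succ k ih =>
      intro hk m T δ hvan
      have hkn : k < n := hk
      obtain ⟨hdist, -⟩ := hP k hkn
      have h1 := ih (le_of_lt hkn) (m - 1) T
        ((shiftFunctor D (m - 1)).map (qc k) ≫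
          ((shiftFunctorAdd' D 1 (m - 1) m (by omega)).app (qY (k + 1))).inv ≫ δ) (by
        intro i hi1 hik j hj ψ
        exact hvan i hi1 (Nat.le_succ_of_le hik) j (by omega) ψ)
      have hcw : c k ≫ (shiftFunctor D (1 : ℤ)).map (y (k + 1) - z (k + 1)) =
          (y k - z k) ≫ qc k := by
        rw [Functor.map_sub, Preadditive.comp_sub, Preadditive.sub_comp, (hy.2 k hkn).2,
          (hz.2 k hkn).2]
      have hnat : ((shiftFunctorAdd' D 1 (m - 1) m (by omega)).app (Y (k + 1))).inv ≫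
          (shiftFunctor D m).map (y (k + 1) - z (k + 1)) =
          (shiftFunctor D (m - 1)).map ((shiftFunctor D (1 : ℤ)).map (y (k + 1) - z (k + 1))) ≫
            ((shiftFunctorAdd' D 1 (m - 1) m (by omega)).app (qY (k + 1))).inv :=
        ((shiftFunctorAdd' D 1 (m - 1) m (by omega)).inv.naturality (y (k + 1) - z (k + 1))).symm
      have hg0 : (shiftFunctor D (m - 1)).map (c k) ≫
          (((shiftFunctorAdd' D 1 (m - 1) m (by omega)).app (Y (k + 1))).inv ≫
            (shiftFunctor D m).map (y (k + 1) - z (k + 1)) ≫ δ) = 0 := by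
        rw [← Category.assoc ((shiftFunctorAdd' D 1 (m - 1) m (by omega)).app (Y (k + 1))).inv,
          hnat, Category.assoc, ← Category.assoc, ← Functor.map_comp, hcw, Functor.map_comp,
          Category.assoc]
        exact h1
      have hT₁ := Pretriangulated.rot_of_distTriang _ hdist
      have hT₂ := Pretriangulated.Triangle.shift_distinguished _ hT₁ (m - 1)
      obtain ⟨ρ, hρ⟩ := Pretriangulated.Triangle.yoneda_exact₃ _ hT₂
        (((shiftFunctorAdd' D 1 (m - 1) m (by omega)).app (Y (k + 1))).inv ≫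
            (shiftFunctor D m).map (y (k + 1) - z (k + 1)) ≫ δ) (by
        change ((m - 1).negOnePow • (shiftFunctor D (m - 1)).map (c k)) ≫ _ = 0
        rw [Linear.units_smul_comp]
        exact (congrArg (fun t => (m - 1).negOnePow • t) hg0).trans (smul_zero _))
      have hρ0 : ρ = 0 := by
        have h2 := hvan (k + 1) (Nat.succ_le_succ (Nat.zero_le _)) le_rfl m
          (by omega)
          (((shiftFunctorAdd' D (m - 1) 1 m (by omega)).app (X.X (k + 1))).hom ≫ ρ)
        exact (cancel_epi ((shiftFunctorAdd' D (m - 1) 1 m (by omega)).app (X.X (k + 1))).hom).1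
          (h2.trans Limits.comp_zero.symm)
      rw [hρ0, Limits.comp_zero] at hρ
      exact (cancel_epi ((shiftFunctorAdd' D 1 (m - 1) m (by omega)).app (Y (k + 1))).inv).1
        (hρ.trans Limits.comp_zero.symm)
  have h := key n le_rfl (n : ℤ) _ (𝟙 _) (by
    intro i hi1 hin j hj ψ
    have hj' : j = (i : ℤ) := by omega
    subst hj'
    exact hv i hi1 hin ψ)
  rw [Category.comp_id] at h
  have h2 : y n - z n = 0 := (shiftFunctor D (n : ℤ)).map_injective (by rw [h, Functor.map_zero])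
  exact sub_eq_zero.mp h2

end Groth.Agent.S6597
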