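import Groth.Statements.S6600
import Mathlib

set_option autoImplicit false
universe v u
open CategoryTheory CategoryTheory.Limits
open CohDer

namespace Groth.Agent.S6600

open CategoryTheory.Pretriangulated in
/-- Let D be a triangulated category, A ⊂ D a full subcategory invariant under all shifts, and X → Y → Z
→ X⟦1⟧ a distinguished triangle. Then Z lies in the right orthogonal A^⊥ if and only if Hom(A, X) →
Hom(A, Y) is bijective for every object A of A. -/
theorem result {D : Type u} [Category.{v} D] [Preadditive D] [HasZeroObject D] [HasShift D ℤ]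
    [∀ n : ℤ, (shiftFunctor D n).Additive] [Pretriangulated D] [IsTriangulated D]
    (P : ObjectProperty D) [P.IsStableUnderShift ℤ] (T : Triangle D) (hT : T ∈ distinguishedTriangles) :
    P.rightOrthogonal T.obj₃ ↔ ∀ A : D, P A → Function.Bijective (fun u : A ⟶ T.obj₁ => u ≫ T.mor₁) := by
  constructor
  · intro hZ A hA
    constructor
    · intro u1 u2 h12
      have hd : (u1 - u2) ≫ T.mor₁ = 0 := by
        rw [Preadditive.sub_comp]; exact sub_eq_zero.mpr h12
      obtain ⟨e, he⟩ := Pretriangulated.Triangle.coyoneda_exact₂ T.invRotate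
        (Pretriangulated.inv_rot_of_distTriang T hT) (u1 - u2) hd
      have hZ' : P.rightOrthogonal (T.obj₃⟦(-1 : ℤ)⟧) :=
        P.rightOrthogonal.le_shift (-1 : ℤ) _ hZ
      have he0 : e = 0 := hZ' e hA
      rw [he0, zero_comp] at he
      exact sub_eq_zero.mp he
    · intro v
      have hv : v ≫ T.mor₂ = 0 := hZ _ hA
      obtain ⟨u, hu⟩ := Pretriangulated.Triangle.coyoneda_exact₂ T hT v hv
      exact ⟨u, hu.symm⟩
  · intro hbij A u hA
    have hA' : P (A⟦(-1 : ℤ)⟧) := P.le_shift (-1 : ℤ) _ hA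
    let adj := (shiftEquiv D (1 : ℤ)).symm.toAdjunction
    have hinj1 : ∀ v1 v2 : A ⟶ T.obj₁⟦(1 : ℤ)⟧,
        v1 ≫ T.mor₁⟦(1 : ℤ)⟧' = v2 ≫ T.mor₁⟦(1 : ℤ)⟧' → v1 = v2 := by
      intro v1 v2 h12
      obtain ⟨w1, rfl⟩ := (adj.homEquiv A T.obj₁).surjective v1
      obtain ⟨w2, rfl⟩ := (adj.homEquiv A T.obj₁).surjective v2
      have h3 : adj.homEquiv A T.obj₂ (w1 ≫ T.mor₁) = adj.homEquiv A T.obj₂ (w2 ≫ T.mor₁) := by
        rw [Adjunction.homEquiv_naturality_right, Adjunction.homEquiv_naturality_right]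
        exact h12
      have h' := (adj.homEquiv A T.obj₂).injective h3
      rw [(hbij _ hA').1 h']
    have huh : u ≫ T.mor₃ = 0 := by
      apply hinj1
      rw [Category.assoc, Pretriangulated.comp_distTriang_mor_zero₃₁ _ hT, comp_zero, zero_comp]
    obtain ⟨v, hv⟩ := Pretriangulated.Triangle.coyoneda_exact₃ T hT u huh
    obtain ⟨w, hw⟩ := (hbij A hA).2 v
    rw [hv, ← hw]
    show (w ≫ T.mor₁) ≫ T.mor₂ = 0
    rw [Category.assoc, Pretriangulated.comp_distTriang_mor_zero₁₂ _ hT, comp_zero]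

end Groth.Agent.S6600
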