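import Groth.Statements.S6601
import Mathlib

set_option autoImplicit false
universe v u
open CategoryTheory CategoryTheory.Limits
open CohDer

namespace Groth.Agent.S6601

open CategoryTheory.Pretriangulated in
/-- Let D be a triangulated category, B ⊂ D a full subcategory invariant under all shifts, and X → Y → Z
→ X⟦1⟧ a distinguished triangle. Then X lies in the left orthogonal ^⊥B if and only if Hom(Z, B) →
Hom(Y, B) is bijective for every object B of B. -/
theorem result {D : Type u} [Category.{v} D] [Preadditive D] [HasZeroObject D] [HasShift D ℤ]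
    [∀ n : ℤ, (shiftFunctor D n).Additive] [Pretriangulated D] [IsTriangulated D]
    (P : ObjectProperty D) [P.IsStableUnderShift ℤ] (T : Triangle D) (hT : T ∈ distinguishedTriangles) :
    P.leftOrthogonal T.obj₁ ↔ ∀ B : D, P B → Function.Bijective (fun u : T.obj₃ ⟶ B => T.mor₂ ≫ u) := by
  constructor
  · intro hX B hB
    constructor
    · intro u1 u2 h12
      have hd : T.mor₂ ≫ (u1 - u2) = 0 := by
        rw [Preadditive.comp_sub]; exact sub_eq_zero.mpr h12
      obtain ⟨e, he⟩ := Pretriangulated.Triangle.yoneda_exact₃ T hT (u1 - u2) hd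
      have hX' : P.leftOrthogonal (T.obj₁⟦(1 : ℤ)⟧) :=
        P.leftOrthogonal.le_shift (1 : ℤ) _ hX
      have he0 : e = 0 := hX' e hB
      rw [he0, comp_zero] at he
      exact sub_eq_zero.mp he
    · intro v
      have hv : T.mor₁ ≫ v = 0 := hX _ hB
      obtain ⟨u, hu⟩ := Pretriangulated.Triangle.yoneda_exact₂ T hT v hv
      exact ⟨u, hu.symm⟩
  · intro hbij B u hB
    have hB' : P (B⟦(1 : ℤ)⟧) := P.le_shift (1 : ℤ) _ hB
    have h1 : T.mor₃ ≫ u⟦(1 : ℤ)⟧' = 0 := by
      apply (hbij _ hB').1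
      show T.mor₂ ≫ T.mor₃ ≫ u⟦(1 : ℤ)⟧' = T.mor₂ ≫ 0
      rw [← Category.assoc, Pretriangulated.comp_distTriang_mor_zero₂₃ _ hT, zero_comp, comp_zero]
    obtain ⟨g', hg'⟩ := Pretriangulated.Triangle.yoneda_exact₂ T.rotate.rotate
      (Pretriangulated.rot_of_distTriang _ (Pretriangulated.rot_of_distTriang _ hT))
      (u⟦(1 : ℤ)⟧') h1
    obtain ⟨v, rfl⟩ := (shiftFunctor D (1 : ℤ)).map_surjective g'
    have hu : u = -(T.mor₁ ≫ v) := by
      apply (shiftFunctor D (1 : ℤ)).map_injective
      rw [hg', Functor.map_neg, Functor.map_comp]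
      exact Preadditive.neg_comp _ _
    obtain ⟨s, hs⟩ := (hbij B hB).2 v
    rw [hu, ← hs]
    show -(T.mor₁ ≫ T.mor₂ ≫ s) = 0
    rw [← Category.assoc, Pretriangulated.comp_distTriang_mor_zero₁₂ _ hT, zero_comp, neg_zero]

end Groth.Agent.S6601
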