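import Groth.Statements.S6602
import Mathlib
import Groth.Agent.S6601

set_option autoImplicit false
universe v u
open CategoryTheory CategoryTheory.Limits
open CohDer

namespace Groth.Agent.S6602

open CategoryTheory.Pretriangulated in
/-- (1) ⇔ (2): let D be a triangulated category and B a full triangulated subcategory. The inclusion
functor B → D has a left adjoint if and only if for every X in D there is a distinguished triangle A
→ X → B → A⟦1⟧ with B in B and A in the left orthogonal ^⊥B. (The published statement further
asserts that B is then saturated and, when strictly full, equals the right orthogonal of its left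
orthogonal; this row asserts only the equivalence.) -/
theorem result {D : Type u} [Category.{v} D] [Preadditive D] [HasZeroObject D] [HasShift D ℤ]
    [∀ n : ℤ, (shiftFunctor D n).Additive] [Pretriangulated D] [IsTriangulated D]
    (P : ObjectProperty D) [P.IsTriangulated] :
    P.ι.IsRightAdjoint ↔ ∀ X : D, ∃ (A B : D) (f : A ⟶ X) (g : X ⟶ B) (h : B ⟶ (shiftFunctor D (1 : ℤ)).obj A),
      Triangle.mk f g h ∈ distinguishedTriangles ∧ P B ∧ P.leftOrthogonal A := by
  constructor
  · intro hR X
    let L := P.ι.leftAdjoint
    let adj : L ⊣ P.ι := Adjunction.ofIsRightAdjoint P.ι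
    obtain ⟨A, f, h, hT⟩ := Pretriangulated.distinguished_cocone_triangle₁ (adj.unit.app X)
    refine ⟨A, (L.obj X).obj, f, adj.unit.app X, h, hT, (L.obj X).property, ?_⟩
    have key := (Groth.Agent.S6601.result P _ hT).2
    apply key
    intro B hB
    constructor
    · intro u1 u2 h12
      have h3 : adj.homEquiv X ⟨B, hB⟩ (ObjectProperty.homMk u1) =
          adj.homEquiv X ⟨B, hB⟩ (ObjectProperty.homMk u2) := by
        rw [Adjunction.homEquiv_unit, Adjunction.homEquiv_unit]; exact h12
      have h4 := (adj.homEquiv X ⟨B, hB⟩).injective h3
      exact congrArg (fun m => m.hom) h4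
    · intro v
      refine ⟨((adj.homEquiv X ⟨B, hB⟩).symm v).hom, ?_⟩
      have h5 := (adj.homEquiv X ⟨B, hB⟩).apply_symm_apply v
      rw [Adjunction.homEquiv_unit] at h5
      exact h5
  · intro H
    haveI : ∀ X, HasInitial (StructuredArrow X P.ι) := by
      intro X
      obtain ⟨A, B, f, g, h, hT, hB, hA⟩ := H X
      have hbij := (Groth.Agent.S6601.result P _ hT).1 hA
      let I : StructuredArrow X P.ι := StructuredArrow.mk (Y := (⟨B, hB⟩ : P.FullSubcategory)) (show X ⟶ P.ι.obj ⟨B, hB⟩ from g)
      have hI : IsInitial I := by
        refine IsInitial.ofUniqueHom (fun Y' => ?_) (fun Y' m => ?_)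
        · exact StructuredArrow.homMk
            (ObjectProperty.homMk
              (Classical.choose ((hbij Y'.right.obj Y'.right.property).2 Y'.hom)))
            (by
              have h7 := Classical.choose_spec ((hbij Y'.right.obj Y'.right.property).2 Y'.hom)
              exact h7)
        · apply StructuredArrow.hom_ext
          apply InducedCategory.hom_ext
          apply (hbij Y'.right.obj Y'.right.property).1
          have h6 := StructuredArrow.w m
          have h7 := Classical.choose_spec ((hbij Y'.right.obj Y'.right.property).2 Y'.hom)
          exact h6.trans h7.symm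
      exact hI.hasInitial
    exact isRightAdjointOfStructuredArrowInitials P.ι

end Groth.Agent.S6602
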