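import Groth.Statements.S6603
import Mathlib

set_option autoImplicit false
universe v u v' u'
open CategoryTheory CategoryTheory.Limits
open CohDer

namespace Groth.Agent.S6603

set_option backward.defeqAttrib.useBackward true in
set_option backward.isDefEq.respectTransparency false in
open CategoryTheory.Pretriangulated in
lemma aux {D : Type u} [Category.{v} D] [Preadditive D] [HasZeroObject D] [HasShift D ℤ]
    [∀ n : ℤ, (shiftFunctor D n).Additive] [Pretriangulated D] (W Z : D) :
    ∃ (g : Z ⟶ Z ⊞ (shiftFunctor D (1 : ℤ)).obj W)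
      (h : Z ⊞ (shiftFunctor D (1 : ℤ)).obj W ⟶ (shiftFunctor D (1 : ℤ)).obj W),
      Triangle.mk (0 : W ⟶ Z) g h ∈ distinguishedTriangles := by
  obtain ⟨C, g, h', mem⟩ := Pretriangulated.distinguished_cocone_triangle (0 : W ⟶ Z)
  obtain ⟨e, he₁, he₂⟩ := Pretriangulated.exists_iso_binaryBiproduct_of_distTriang _
    (Pretriangulated.rot_of_distTriang _ mem) (by simp)
  dsimp at e he₁ he₂
  refine ⟨g ≫ e.hom, e.inv ≫ h', ?_⟩
  refine Pretriangulated.isomorphic_distinguished _ mem _ ?_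
  exact Pretriangulated.Triangle.isoMk _ _ (Iso.refl _) (Iso.refl _) e.symm
    (by simp) (by simp) (by simp)

set_option backward.defeqAttrib.useBackward true in
set_option backward.isDefEq.respectTransparency false in
open ZeroObject in
open CategoryTheory.Pretriangulated in
lemma aux2 {D : Type u} [Category.{v} D] [Preadditive D] [HasZeroObject D] [HasShift D ℤ]
    [∀ n : ℤ, (shiftFunctor D n).Additive] [Pretriangulated D]
    (S : MorphismProperty D) [S.IsMultiplicative]
    [S.IsCompatibleWithTriangulation] (X Y V : D) (f : X ⟶ Y) (g : Y ⟶ V)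
    (h : V ⟶ (shiftFunctor D (1 : ℤ)).obj X)
    (hT : Triangle.mk f g h ∈ distinguishedTriangles) (hf : S f) : S (0 : V ⟶ (0 : D)) := by
  obtain ⟨c, hc, -, -⟩ := MorphismProperty.compatible_with_triangulation (W := S)
    (Pretriangulated.Triangle.mk f g h) (Pretriangulated.contractibleTriangle Y) hT
    (Pretriangulated.contractible_distinguished Y) f (𝟙 Y) hf (S.id_mem Y) (by simp)
  dsimp at c hc
  have hc0 : c = 0 := (isZero_zero D).eq_of_tgt _ _
  rw [hc0] at hc
  exact hc


open CategoryTheory.Pretriangulated in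
/-- (1) ⇔ (2) ⇔ (3) ⇔ (4): let D be a pretriangulated category, S a multiplicative system compatible
with the triangulated structure, and Q : D → S⁻¹D the localization functor. For an object Z of D the
following are equivalent: (1) Q(Z) = 0; (2) 0 : Z ⟶ Z' is in S for some Z'; (3) 0 : Z' ⟶ Z is in S
for some Z'; (4) there are an object Z' and a distinguished triangle (X, Y, Z ⊞ Z', f, g, h) with f
∈ S. (The further equivalences (5)–(7) for saturated S are not asserted.) -/
theorem result {D : Type u} [Category.{v} D] [Preadditive D] [HasZeroObject D] [HasShift D ℤ]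
    [∀ n : ℤ, (shiftFunctor D n).Additive] [Pretriangulated D]
    (S : MorphismProperty D) [S.HasLeftCalculusOfFractions] [S.HasRightCalculusOfFractions]
    [S.IsCompatibleWithTriangulation]
    {E : Type u'} [Category.{v'} E] (Q : D ⥤ E) [Q.IsLocalization S] (Z : D) :
    (IsZero (Q.obj Z) ↔ ∃ Z' : D, S (0 : Z ⟶ Z')) ∧
    (IsZero (Q.obj Z) ↔ ∃ Z' : D, S (0 : Z' ⟶ Z)) ∧
    (IsZero (Q.obj Z) ↔ ∃ (Z' X Y : D) (f : X ⟶ Y) (g : Y ⟶ Z ⊞ Z') (h : Z ⊞ Z' ⟶ (shiftFunctor D (1 : ℤ)).obj X),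
      Triangle.mk f g h ∈ distinguishedTriangles ∧ S f) := by
  open ZeroObject in
  letI : Preadditive E := Localization.preadditive Q S
  haveI : Q.Additive := Localization.functor_additive Q S
  have h1 : ∀ W : D, IsZero (Q.obj W) ↔ ∃ Z' : D, S (0 : W ⟶ Z') := by
    intro W
    constructor
    · intro h
      have h0 : Q.map (𝟙 W) = Q.map (0 : W ⟶ W) := by
        rw [Q.map_id, Q.map_zero]; exact (IsZero.iff_id_eq_zero _).1 h
      obtain ⟨Z', s, hs, e⟩ := (MorphismProperty.map_eq_iff_postcomp Q S _ _).1 h0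
      rw [Category.id_comp, zero_comp] at e
      exact ⟨Z', e ▸ hs⟩
    · rintro ⟨Z', hs⟩
      haveI : IsIso (Q.map (0 : W ⟶ Z')) := Localization.inverts Q S _ hs
      rw [IsZero.iff_id_eq_zero]
      rw [← cancel_mono (Q.map (0 : W ⟶ Z')), Q.map_zero, comp_zero, zero_comp]
  have h2 : ∀ W : D, IsZero (Q.obj W) ↔ ∃ Z' : D, S (0 : Z' ⟶ W) := by
    intro W
    constructor
    · intro h
      have h0 : Q.map (𝟙 W) = Q.map (0 : W ⟶ W) := by
        rw [Q.map_id, Q.map_zero]; exact (IsZero.iff_id_eq_zero _).1 h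
      obtain ⟨Z', s, hs, e⟩ := (MorphismProperty.map_eq_iff_precomp Q S _ _).1 h0
      rw [Category.comp_id, comp_zero] at e
      exact ⟨Z', e ▸ hs⟩
    · rintro ⟨Z', hs⟩
      haveI : IsIso (Q.map (0 : Z' ⟶ W)) := Localization.inverts Q S _ hs
      rw [IsZero.iff_id_eq_zero]
      rw [← cancel_epi (Q.map (0 : Z' ⟶ W)), Q.map_zero, comp_zero, zero_comp]
  refine ⟨h1 Z, h2 Z, ?_⟩
  constructor
  · intro h
    obtain ⟨W, hW⟩ := (h2 Z).1 h
    obtain ⟨g, h', mem⟩ := aux W Z
    exact ⟨(shiftFunctor D (1 : ℤ)).obj W, W, Z, 0, g, h', mem, hW⟩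
  · rintro ⟨Z', X, Y, f, g, h, hT, hf⟩
    have hc := aux2 S X Y _ f g h hT hf
    have hZ : IsZero (Q.obj (Z ⊞ Z')) := (h1 _).2 ⟨_, hc⟩
    rw [IsZero.iff_id_eq_zero, ← Q.map_id, ← biprod.inl_fst (X := Z) (Y := Z'), Q.map_comp]
    rw [hZ.eq_of_tgt (Q.map biprod.inl) 0, zero_comp]

end Groth.Agent.S6603
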