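import Groth.Statements.S6604
import Mathlib
import Groth.Agent.S6603

set_option autoImplicit false
universe v u v' u'
open CategoryTheory CategoryTheory.Limits
open CohDer

namespace Groth.Agent.S6604

set_option backward.defeqAttrib.useBackward true in
set_option backward.isDefEq.respectTransparency false in
open CategoryTheory.Pretriangulated in
lemma aux {D : Type u} [Category.{v} D] [Preadditive D] [HasZeroObject D] [HasShift D ℤ]
    [∀ n : ℤ, (shiftFunctor D n).Additive] [Pretriangulated D]
    {X Y V C' : D} (f : X ⟶ Y) (g : Y ⟶ V) (h : V ⟶ (shiftFunctor D (1 : ℤ)).obj X)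
    (g' : Y ⟶ C') (h' : C' ⟶ (shiftFunctor D (1 : ℤ)).obj X)
    (hT : Triangle.mk f g h ∈ distinguishedTriangles)
    (hT' : Triangle.mk f g' h' ∈ distinguishedTriangles) : Nonempty (V ≅ C') := by
  let e := isoTriangleOfIso₁₂ _ _ hT hT' (Iso.refl _) (Iso.refl _) (by simp)
  exact ⟨Triangle.π₃.mapIso e⟩

set_option backward.defeqAttrib.useBackward true in
set_option backward.isDefEq.respectTransparency false in
open ZeroObject in
open CategoryTheory.Pretriangulated in
lemma aux2 {D : Type u} [Category.{v} D] [Preadditive D] [HasZeroObject D] [HasShift D ℤ]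
    [∀ n : ℤ, (shiftFunctor D n).Additive] [Pretriangulated D]
    (B : ObjectProperty D) (Y : D) (hY : B Y) : ∃ Z' : D, B.trW (0 : Z' ⟶ Y) := by
  have hT := inv_rot_of_distTriang _ (contractible_distinguished Y)
  have h := ObjectProperty.trW.mk (P := B) hT hY
  have h0 : (contractibleTriangle Y).invRotate.mor₁ = 0 := by
    apply IsZero.eq_of_src
    exact (shiftFunctor D (-1 : ℤ)).map_isZero (isZero_zero D)
  rw [h0] at h
  exact ⟨_, h⟩


/-- Let D be a triangulated category, B a full triangulated subcategory and Q : D → D/B the quotient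
functor. Q sends an object Z of D to zero (Q(Z) = 0, i.e. Z belongs to the kernel of Q) exactly
when, for a suitable object Z' of D, the direct sum Z ⊞ Z' is isomorphic to some object lying in B;
put differently, the kernel is the smallest saturated, strictly full triangulated subcategory that
contains B. -/
theorem result {D : Type u} [Category.{v} D] [Preadditive D] [HasZeroObject D] [HasShift D ℤ]
    [∀ n : ℤ, (shiftFunctor D n).Additive] [Pretriangulated D] [IsTriangulated D]
    (B : ObjectProperty D) [B.IsTriangulated]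
    {E : Type u'} [Category.{v'} E] (Q : D ⥤ E) [Q.IsLocalization B.trW] (Z : D) :
    IsZero (Q.obj Z) ↔ ∃ (Z' Y : D), B Y ∧ Nonempty (Z ⊞ Z' ≅ Y) := by
  have h2' := fun W => (Groth.Agent.S6603.result B.trW Q W).2.1
  letI : Preadditive E := Localization.preadditive Q B.trW
  haveI : Q.Additive := Localization.functor_additive Q B.trW
  constructor
  · intro hZ
    obtain ⟨Z', X, Y, f, g, h, hT, hf⟩ := ((Groth.Agent.S6603.result B.trW Q Z).2.2).1 hZ
    obtain ⟨C', g', h', hT', hC'⟩ := hf
    exact ⟨Z', C', hC', aux f g h g' h' hT hT'⟩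
  · rintro ⟨Z', Y, hY, ⟨e⟩⟩
    have hQY : IsZero (Q.obj Y) := (h2' Y).2 (aux2 B Y hY)
    have hZ : IsZero (Q.obj (Z ⊞ Z')) := hQY.of_iso (Q.mapIso e)
    rw [IsZero.iff_id_eq_zero, ← Q.map_id, ← biprod.inl_fst (X := Z) (Y := Z'), Q.map_comp]
    rw [hZ.eq_of_tgt (Q.map biprod.inl) 0, zero_comp]

end Groth.Agent.S6604
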