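import Groth.Statements.S6606
import Mathlib
import Groth.Agent.Lib.Helper21.ProjLiftCone

set_option autoImplicit false
universe v u
open CategoryTheory CategoryTheory.Limits
open CohDer

namespace Groth.Agent.S6606

/-- Let A be an abelian category, β : P ⟶ L and α : E ⟶ L morphisms of cochain complexes and n an
integer. Assume P is a bounded complex of projective objects with Pⁱ = 0 for i < n, and that Hⁱ(α)
is an isomorphism for i > n and an epimorphism for i = n. Then there is γ : P ⟶ E such that γ ≫ α is
homotopic to β. -/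
theorem result {A : Type u} [Category.{v} A] [Abelian A]
    (P E L : CochainComplex A ℤ) (β : P ⟶ L) (α : E ⟶ L) (n b : ℤ) [P.IsStrictlyGE n] [P.IsStrictlyLE b]
    (hP : ∀ i : ℤ, Projective (P.X i))
    (hiso : ∀ i : ℤ, n < i → IsIso (HomologicalComplex.homologyMap α i)) (hepi : Epi (HomologicalComplex.homologyMap α n)) :
    ∃ γ : P ⟶ E, Nonempty (Homotopy (γ ≫ α) β) := by
  haveI : ∀ i, Projective (P.X i) := hP
  have hC := Groth.Agent.Lib.Helper21.ProjLift.mappingCone_isLE α n hiso hepi
  obtain ⟨h⟩ := Groth.Agent.Lib.Helper21.ProjLift.homotopy_zero_of_isLE n b hC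
    (β ≫ CochainComplex.mappingCone.inr α)
  let q := HomotopyCategory.quotient A (ComplexShape.up ℤ)
  have hT := HomotopyCategory.mappingCone_triangleh_distinguished α
  have hzero : q.map β ≫ (CochainComplex.mappingCone.triangleh α).mor₂ = 0 := by
    change q.map β ≫ q.map (CochainComplex.mappingCone.inr α) = 0
    rw [← Functor.map_comp, HomotopyCategory.eq_of_homotopy _ _ h, Functor.map_zero]
  obtain ⟨g, hg⟩ := Pretriangulated.Triangle.coyoneda_exact₂ _ hT (q.map β) hzero
  obtain ⟨γ, rfl⟩ := q.map_surjective g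
  refine ⟨γ, ⟨HomotopyCategory.homotopyOfEq _ _ ?_⟩⟩
  rw [Functor.map_comp]
  exact hg.symm

end Groth.Agent.S6606
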