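import Groth.Statements.S6607
import Groth.Agent.Lib.Helper2.Nine
import Mathlib.CategoryTheory.Triangulated.Orthogonal
import Mathlib.CategoryTheory.Triangulated.TriangleShift
-- import your own Groth.Agent.* helpers here

set_option autoImplicit false
universe v u
open CategoryTheory CategoryTheory.Limits
open CohDer

namespace Groth.Agent.S6607

section Helpers

open CategoryTheory.Pretriangulated ZeroObject

variable {D : Type u} [Category.{v} D] [Preadditive D] [HasZeroObject D] [HasShift D ℤ]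
    [∀ n : ℤ, (shiftFunctor D n).Additive] [Pretriangulated D]

/-- objects admitting a decomposition triangle `A ⟶ X ⟶ Y` with `Y ∈ B` and `A ∈ ⊥B` -/
def decomp (B : ObjectProperty D) : ObjectProperty D :=
  fun X : D => ∃ (A Y : D) (f : A ⟶ X) (g : X ⟶ Y) (h : Y ⟶ (shiftFunctor D (1 : ℤ)).obj A),
      Triangle.mk f g h ∈ distinguishedTriangles ∧ B Y ∧ B.leftOrthogonal A

variable (B : ObjectProperty D) [B.IsTriangulated]

lemma decomp_containsZero : (decomp B).ContainsZero := by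
  obtain ⟨Z, hZ, hBZ⟩ := B.exists_prop_of_containsZero
  refine ⟨⟨Z, hZ, 0, Z, 0, 𝟙 Z, 0, contractible_distinguished₁ Z, hBZ, ?_⟩⟩
  intro Y f _
  exact (isZero_zero D).eq_of_src _ _

lemma decomp_shift (n : ℤ) {X : D} (hX : decomp B X) :
    decomp B ((shiftFunctor D n).obj X) := by
  obtain ⟨A, Y, f, g, h, hT, hY, hA⟩ := hX
  have hTn := Triangle.shift_distinguished _ hT n
  exact ⟨(shiftFunctor D n).obj A, (shiftFunctor D n).obj Y, _, _, _, hTn, B.le_shift n _ hY,
    B.leftOrthogonal.le_shift n _ hA⟩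

lemma decomp_stableUnderShift : (decomp B).IsStableUnderShift ℤ :=
  ⟨fun n => ⟨fun _ hX => decomp_shift B n hX⟩⟩

variable [IsTriangulated D]

lemma decomp_ext₂ (T : Triangle D) (hT : T ∈ distTriang D) (h₁ : decomp B T.obj₁)
    (h₃ : decomp B T.obj₃) : decomp B ((shiftFunctor D (1 : ℤ)).obj T.obj₂) := by
  obtain ⟨A₁, Y₁, u₁, v₁, w₁, hT₁, hY₁, hA₁⟩ := h₁
  obtain ⟨A₃, Y₃, u₃, v₃, w₃, hT₃, hY₃, hA₃⟩ := h₃
  have hV := rot_of_distTriang _ (rot_of_distTriang _ (rot_of_distTriang _ hT₁))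
  have hF' := rot_of_distTriang _ (rot_of_distTriang _ hT)
  have hY₁' : B ((shiftFunctor D (1 : ℤ)).obj Y₁) := B.le_shift 1 _ hY₁
  have hA₁' : B.leftOrthogonal ((shiftFunctor D (1 : ℤ)).obj A₁) :=
    B.leftOrthogonal.le_shift 1 _ hA₁
  obtain ⟨a, ha⟩ : ∃ a : A₃ ⟶ (shiftFunctor D (1 : ℤ)).obj A₁,
      u₃ ≫ T.mor₃ = a ≫ (-(shiftFunctor D (1 : ℤ)).map u₁) :=
    Triangle.coyoneda_exact₂ _ hV (u₃ ≫ T.mor₃) (hA₃ _ hY₁')
  obtain ⟨Za, ga, ha', hTa⟩ := distinguished_cocone_triangle a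
  obtain ⟨Z'', f'', g'', h'', w, w', w'', hT'', hW, -⟩ :=
    Groth.Agent.Lib.Helper2.nine_lemma a T.mor₃ u₃ (-(shiftFunctor D (1 : ℤ)).map u₁) ha.symm
      hTa hF' hT₃ hV
  obtain ⟨Z₀, hZ₀, ⟨e⟩⟩ : ∃ (Z₀ : D) (_ : B Z₀), Nonempty (Z'' ≅ Z₀) :=
    B.ext_of_isTriangulatedClosed₃' _ hT'' hY₃ hY₁'
  have hZa : B.leftOrthogonal Za :=
    B.leftOrthogonal.ext_of_isTriangulatedClosed₃ _ hTa hA₃ hA₁'
  refine ⟨Za, Z₀, w, w' ≫ e.hom, e.inv ≫ w'', ?_, hZ₀, hZa⟩
  refine isomorphic_distinguished _ hW _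
    (Triangle.isoMk _ _ (Iso.refl _) (Iso.refl _) e.symm ?_ ?_ ?_)
  · change w ≫ 𝟙 _ = 𝟙 _ ≫ w
    rw [Category.comp_id, Category.id_comp]
  · change (w' ≫ e.hom) ≫ e.inv = 𝟙 _ ≫ w'
    rw [Category.assoc, Iso.hom_inv_id, Category.comp_id, Category.id_comp]
  · change (e.inv ≫ w'') ≫ (shiftFunctor D (1 : ℤ)).map (𝟙 _) = e.inv ≫ w''
    rw [CategoryTheory.Functor.map_id, Category.comp_id]

lemma decomp_isTriangulated : (decomp B).IsTriangulated :=
  { toContainsZero := decomp_containsZero B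
    toIsStableUnderShift := decomp_stableUnderShift B
    toIsTriangulatedClosed₂ :=
      ⟨fun T hT h₁ h₃ => ⟨_, decomp_shift B (-1) (decomp_ext₂ B T hT h₁ h₃),
        ⟨((shiftFunctorCompIsoId D (1 : ℤ) (-1) (by simp)).app T.obj₂).symm⟩⟩⟩ }

end Helpers


open CategoryTheory.Pretriangulated in
/-- Let D be a triangulated category and B a full triangulated subcategory. Let P(X) be the property:
there is a distinguished triangle A → X → B → A⟦1⟧ with B in B and A in ^⊥B. Then P satisfies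
two-out-of-three in distinguished triangles, i.e. it is stable under all shifts and closed under
extensions (a triangulated object property). -/
theorem result {D : Type u} [Category.{v} D] [Preadditive D] [HasZeroObject D] [HasShift D ℤ]
    [∀ n : ℤ, (shiftFunctor D n).Additive] [Pretriangulated D] [IsTriangulated D]
    (B : ObjectProperty D) [B.IsTriangulated] :
    ObjectProperty.IsTriangulated (fun X : D => ∃ (A Y : D) (f : A ⟶ X) (g : X ⟶ Y) (h : Y ⟶ (shiftFunctor D (1 : ℤ)).obj A),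
      Triangle.mk f g h ∈ distinguishedTriangles ∧ B Y ∧ B.leftOrthogonal A) := by
  exact decomp_isTriangulated B

end Groth.Agent.S6607
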