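import Groth.Statements.S6608
import Mathlib

set_option autoImplicit false
universe v u
open CategoryTheory CategoryTheory.Limits
open CohDer

namespace Groth.Agent.S6608

set_option backward.defeqAttrib.useBackward true in
set_option backward.isDefEq.respectTransparency false in
open ZeroObject in
open CategoryTheory.Pretriangulated in
lemma aux {D : Type u} [Category.{v} D] [Preadditive D] [HasZeroObject D] [HasShift D ℤ]
    [∀ n : ℤ, (shiftFunctor D n).Additive] [Pretriangulated D]
    (S : MorphismProperty D) [S.ContainsIdentities] [S.IsCompatibleWithTriangulation]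
    {X Y : D} (f : X ⟶ Y) [IsIso f] : S ((shiftFunctor D (1 : ℤ)).map f) := by
  let T₁ : Triangle D := (contractibleTriangle X).rotate
  have hT₁ : T₁ ∈ distinguishedTriangles := rot_of_distTriang _ (contractible_distinguished X)
  let T₂ : Triangle D := Triangle.mk (0 : X ⟶ (0 : D)) (0 : (0 : D) ⟶ (shiftFunctor D (1 : ℤ)).obj Y)
    (-(shiftFunctor D (1 : ℤ)).map (inv f))
  have hT₂ : T₂ ∈ distinguishedTriangles := by
    refine isomorphic_distinguished _ hT₁ _ (Iso.symm ?_)
    refine Triangle.isoMk _ _ (Iso.refl _) (Iso.refl _) ((shiftFunctor D (1 : ℤ)).mapIso (asIso f))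
      (by simp [T₁, T₂]) (by simp [T₁, T₂]) ?_
    dsimp [T₁, T₂]
    simp only [CategoryTheory.Functor.map_id, Category.comp_id, Preadditive.comp_neg, ← CategoryTheory.Functor.map_comp,
      IsIso.hom_inv_id]
  obtain ⟨c, hc, -, h3⟩ := MorphismProperty.compatible_with_triangulation (W := S)
    T₁ T₂ hT₁ hT₂ (𝟙 X) (𝟙 _) (S.id_mem _) (S.id_mem _) (by simp [T₁, T₂])
  dsimp [T₁, T₂] at c hc h3
  have h4 : c ≫ (shiftFunctor D (1 : ℤ)).map (inv f) = 𝟙 _ := by
    simp only [CategoryTheory.Functor.map_id, Category.comp_id, Preadditive.comp_neg, neg_inj] at h3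
    exact h3.symm
  have h5 : c = (shiftFunctor D (1 : ℤ)).map f := by
    calc c = c ≫ (shiftFunctor D (1 : ℤ)).map (inv f) ≫ (shiftFunctor D (1 : ℤ)).map f := by
          rw [← CategoryTheory.Functor.map_comp, IsIso.inv_hom_id, CategoryTheory.Functor.map_id, Category.comp_id]
      _ = (shiftFunctor D (1 : ℤ)).map f := by rw [← Category.assoc, h4, Category.id_comp]
  rw [← h5]
  exact hc


open CategoryTheory.Pretriangulated in
/-- Let D be a pretriangulated category and S a set of arrows of D containing the identities and
satisfying MS6 (compatibility with the triangulated structure; here together with stability under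
shifts, MS5). Then every isomorphism of D lies in S. -/
theorem result {D : Type u} [Category.{v} D] [Preadditive D] [HasZeroObject D] [HasShift D ℤ]
    [∀ n : ℤ, (shiftFunctor D n).Additive] [Pretriangulated D]
    (S : MorphismProperty D) [S.ContainsIdentities] [S.IsCompatibleWithTriangulation]
    {X Y : D} (f : X ⟶ Y) [IsIso f] : S f := by
  exact (MorphismProperty.IsCompatibleWithShift.iff S f (1 : ℤ)).1 (aux S f)

end Groth.Agent.S6608
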