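import Groth.Statements.S6610
import Groth.Agent.Lib.Helper2.PResRel
-- import your own Groth.Agent.* helpers here

set_option autoImplicit false
universe v u
open CategoryTheory CategoryTheory.Limits
open CohDer

namespace Groth.Agent.S6610

/-- Let A be an abelian category with enough projectives and S : 0 → A• → B• → C• → 0 a short exact
sequence of cochain complexes all vanishing above degree n. Then there are a short exact sequence T
: 0 → P₁ → P₂ → P₃ → 0 of complexes of projective objects vanishing above degree n and a morphism of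
short exact sequences T ⟶ S whose three components are quasi-isomorphisms (projective resolutions).
(The published statement is phrased for bounded below complexes; projective resolutions are bounded
above by definition and exist only for complexes with cohomology bounded above, so the statement is
given here for bounded above complexes, the case dual to the injective one.) -/
theorem result {A : Type u} [Category.{v} A] [Abelian A] [EnoughProjectives A]
    (S : ShortComplex (CochainComplex A ℤ)) (hS : S.ShortExact) (n : ℤ)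
    [S.X₁.IsStrictlyLE n] [S.X₂.IsStrictlyLE n] [S.X₃.IsStrictlyLE n] :
    ∃ (T : ShortComplex (CochainComplex A ℤ)) (φ : T ⟶ S), T.ShortExact ∧
      T.X₁.IsStrictlyLE n ∧ T.X₂.IsStrictlyLE n ∧ T.X₃.IsStrictlyLE n ∧
      (∀ k : ℤ, Projective (T.X₁.X k) ∧ Projective (T.X₂.X k) ∧ Projective (T.X₃.X k)) ∧
      QuasiIso φ.τ₁ ∧ QuasiIso φ.τ₂ ∧ QuasiIso φ.τ₃ := by
  let P : ObjectProperty A := fun X => Projective X
  haveI : P.IsClosedUnderIsomorphisms := ⟨fun e h => Projective.of_iso e h⟩
  have hP0 : ∃ Z : A, IsZero Z ∧ P Z := by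
    obtain ⟨Z, hZ⟩ := (inferInstance : HasZeroObject A).zero
    exact ⟨Z, hZ, ⟨fun f e _ => ⟨0, hZ.eq_of_src _ _⟩⟩⟩
  have hPsum : ∀ X Y : A, P X → P Y → P (X ⊞ Y) := fun X Y hX hY => by
    haveI : Projective X := hX
    haveI : Projective Y := hY
    exact (inferInstance : Projective (X ⊞ Y))
  have hP : ∀ X : A, ∃ (Y : A) (π : Y ⟶ X), P Y ∧ Epi π := fun X =>
    ⟨Projective.over X, Projective.π X, Projective.projective_over X, inferInstance⟩
  obtain ⟨P₁, α₁, hP₁le, hP₁P, _, hα₁⟩ :=
    Groth.Agent.Lib.Helper2.PRes.exists_resolution_int P hP0 hP S.X₁ n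
  haveI := hP₁le
  obtain ⟨P₂, ι, f₂, hf, hf₂, _, hP₂le, hP₂P, hsplit⟩ :=
    Groth.Agent.Lib.Helper2.PRes.exists_relative_resolution P hP0 hPsum hP (α₁ ≫ S.f) n hP₁P
  haveI := hP₂le
  haveI : Mono ι := HomologicalComplex.mono_of_mono_f _ (fun k => by
    obtain ⟨⟨r, hr⟩, _⟩ := hsplit k
    exact mono_of_mono_fac hr)
  let T : ShortComplex (CochainComplex A ℤ) := ShortComplex.mk ι (cokernel.π ι) (cokernel.condition ι)
  have hT : T.ShortExact :=
    ShortComplex.ShortExact.mk' (ShortComplex.cokernelSequence_exact ι) ‹Mono ι›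
      (inferInstanceAs (Epi (cokernel.π ι)))
  let f₃ : cokernel ι ⟶ S.X₃ := cokernel.desc ι (f₂ ≫ S.g) (by
    rw [← Category.assoc, hf, Category.assoc, S.zero, comp_zero])
  let φ : T ⟶ S :=
    { τ₁ := α₁, τ₂ := f₂, τ₃ := f₃
      comm₁₂ := hf.symm
      comm₂₃ := (cokernel.π_desc _ _ _).symm }
  have hf₃ : QuasiIso f₃ := HomologicalComplex.HomologySequence.quasiIso_τ₃ φ hT hS hα₁ hf₂
  have hP₃le : (cokernel ι).IsStrictlyLE n := by
    rw [CochainComplex.isStrictlyLE_iff]
    intro k hk
    exact IsZero.of_epi ((cokernel.π ι).f k) (P₂.isZero_of_isStrictlyLE n k hk)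
  refine ⟨T, φ, hT, hP₁le, hP₂le, hP₃le, fun k => ⟨hP₁P k, hP₂P k, ?_⟩, hα₁, hf₂, hf₃⟩
  have h3 : Projective (cokernel (ι.f k)) := (hsplit k).2
  exact Projective.of_iso
    (PreservesCokernel.iso (HomologicalComplex.eval A (ComplexShape.up ℤ) k) ι).symm h3


end Groth.Agent.S6610
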