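import Groth.Statements.S6611
import Mathlib.Algebra.Homology.DerivedCategory.KInjective
import Mathlib.Tactic.Abel
-- import your own Groth.Agent.* helpers here

set_option autoImplicit false
universe v u
open CategoryTheory CategoryTheory.Limits
open CohDer

namespace Groth.Agent.S6611

/-- Let A be an abelian category, α : K ⟶ L a quasi-isomorphism of cochain complexes which is injective
in every degree, I a bounded below complex of injective objects and γ : K ⟶ I a morphism. Then there
is a morphism β : L ⟶ I with α ≫ β = γ. -/
theorem result {A : Type u} [Category.{v} A] [Abelian A]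
    (K L I : CochainComplex A ℤ) (α : K ⟶ L) [QuasiIso α] (hα : ∀ n : ℤ, Mono (α.f n))
    (a : ℤ) [I.IsStrictlyGE a] (hI : ∀ n : ℤ, Injective (I.X n)) (γ : K ⟶ I) :
    ∃ β : L ⟶ I, α ≫ β = γ := by
  letI := HasDerivedCategory.standard A
  haveI : ∀ n, Injective (I.X n) := hI
  haveI : I.IsKInjective := CochainComplex.isKInjective_of_injective I a
  haveI : IsIso (DerivedCategory.Q.map α) := by
    rw [DerivedCategory.isIso_Q_map_iff_quasiIso]; infer_instance
  obtain ⟨g, hg⟩ := (CochainComplex.IsKInjective.Qh_map_bijective
    ((HomotopyCategory.quotient _ _).obj L) I).surjective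
    ((DerivedCategory.quotientCompQhIso A).hom.app L ≫ inv (DerivedCategory.Q.map α) ≫
      DerivedCategory.Q.map γ ≫ (DerivedCategory.quotientCompQhIso A).inv.app I)
  obtain ⟨β₀, rfl⟩ := (HomotopyCategory.quotient _ _).map_surjective g
  have heq : (HomotopyCategory.quotient _ _).map (α ≫ β₀) =
      (HomotopyCategory.quotient _ _).map γ := by
    apply (CochainComplex.IsKInjective.Qh_map_bijective _ I).injective
    rw [Functor.map_comp, Functor.map_comp, hg]
    have h1 := (DerivedCategory.quotientCompQhIso A).hom.naturality α
    have h2 := (DerivedCategory.quotientCompQhIso A).inv.naturality γ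
    dsimp at h1 h2
    rw [reassoc_of% h1, IsIso.hom_inv_id_assoc, h2, Iso.hom_inv_id_app_assoc]
  let h := HomotopyCategory.homotopyOfEq _ _ heq
  let h' : ∀ i j, L.X i ⟶ I.X j := fun i j => Injective.factorThru (h.hom i j) (α.f i)
  refine ⟨β₀ - Homotopy.nullHomotopicMap h', ?_⟩
  rw [Preadditive.comp_sub, Homotopy.comp_nullHomotopicMap]
  have : (fun i j => α.f i ≫ h' i j) = h.hom := by
    funext i j
    exact Injective.comp_factorThru _ _
  rw [this]
  ext i
  rw [HomologicalComplex.sub_f_apply, h.comm i]
  dsimp [Homotopy.nullHomotopicMap]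
  abel

end Groth.Agent.S6611
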