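import Groth.Statements.S6612
import Mathlib

set_option autoImplicit false
universe v u
open CategoryTheory CategoryTheory.Limits
open CohDer

namespace Groth.Agent.S6612

section
open CochainComplex.HomComplex

theorem aux6612 {V : Type u} [Category.{v} V] [Preadditive V]
    {B₁ X₁ X₂ X₃ B₃ : CochainComplex V ℤ}
    (f : X₁ ⟶ X₂) (g : X₂ ⟶ X₃)
    (r : ∀ n, X₂.X n ⟶ X₁.X n) (s : ∀ n, X₃.X n ⟶ X₂.X n)
    (hfr : ∀ n, f.f n ≫ r n = 𝟙 _) (hsg : ∀ n, s n ≫ g.f n = 𝟙 _)
    (hid : ∀ n, r n ≫ f.f n + g.f n ≫ s n = 𝟙 _)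
    (b : B₁ ⟶ X₂) (b' : X₂ ⟶ B₃)
    (hb : Homotopy (b ≫ g) 0) (hb' : Homotopy (f ≫ b') 0) :
    Nonempty (Homotopy (b ≫ b') 0) := by
  obtain ⟨η, hη⟩ := Cochain.equivHomotopy _ _ hb
  obtain ⟨η', hη'⟩ := Cochain.equivHomotopy _ _ hb'
  rw [Cochain.ofHom_zero, add_zero, Cochain.ofHom_comp] at hη hη'
  have h1 : (Cochain.ofHom f).comp (Cochain.ofHoms r) (zero_add 0) = Cochain.ofHom (𝟙 X₁) := by
    apply Cochain.ext₀; intro p
    simp [hfr]
  have h2 : (Cochain.ofHoms s).comp (Cochain.ofHom g) (zero_add 0) = Cochain.ofHom (𝟙 X₃) := by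
    apply Cochain.ext₀; intro p
    simp [hsg]
  obtain ⟨u, hu⟩ : ∃ u : Cochain B₁ X₂ (-1), u = η.comp (Cochain.ofHoms s) (add_zero (-1)) :=
    ⟨_, rfl⟩
  obtain ⟨v, hv⟩ : ∃ v : Cochain X₂ B₃ (-1), v = (Cochain.ofHoms r).comp η' (zero_add (-1)) :=
    ⟨_, rfl⟩
  have hu' : u.comp (Cochain.ofHom g) (add_zero (-1)) = η := by
    rw [hu, Cochain.comp_assoc_of_third_is_zero_cochain, h2, Cochain.comp_id]
  have hv' : (Cochain.ofHom f).comp v (zero_add (-1)) = η' := by
    rw [hv, ← Cochain.comp_assoc_of_first_is_zero_cochain, h1, Cochain.id_comp]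
  have hdu : (δ (-1) 0 u).comp (Cochain.ofHom g) (add_zero 0) =
      (Cochain.ofHom b).comp (Cochain.ofHom g) (zero_add 0) := by
    rw [← δ_comp_ofHom, hu', hη]
  have hdv : (Cochain.ofHom f).comp (δ (-1) 0 v) (zero_add 0) =
      (Cochain.ofHom f).comp (Cochain.ofHom b') (zero_add 0) := by
    rw [← δ_ofHom_comp, hv', hη']
  obtain ⟨du, hdu_def⟩ : ∃ du : Cochain B₁ X₂ 0, du = δ (-1) 0 u := ⟨_, rfl⟩
  obtain ⟨dv, hdv_def⟩ : ∃ dv : Cochain X₂ B₃ 0, dv = δ (-1) 0 v := ⟨_, rfl⟩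
  rw [← hdu_def] at hdu
  rw [← hdv_def] at hdv
  have e1 : ∀ p : ℤ, ((Cochain.ofHom b) - du).v p p (add_zero p) ≫ g.f p = 0 := by
    intro p
    have h := Cochain.congr_v hdu p p (add_zero p)
    simp only [Cochain.comp_zero_cochain_v, Cochain.ofHom_v] at h
    rw [Cochain.sub_v, Preadditive.sub_comp, Cochain.ofHom_v, h, sub_self]
  have e2 : ∀ p : ℤ, f.f p ≫ ((Cochain.ofHom b') - dv).v p p (add_zero p) = 0 := by
    intro p
    have h := Cochain.congr_v hdv p p (add_zero p)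
    simp only [Cochain.comp_zero_cochain_v, Cochain.ofHom_v] at h
    rw [Cochain.sub_v, Preadditive.comp_sub, Cochain.ofHom_v, h, sub_self]
  have hC : ((Cochain.ofHom b) - du).comp ((Cochain.ofHom b') - dv) (zero_add 0) = 0 := by
    apply Cochain.ext₀; intro p
    rw [Cochain.comp_zero_cochain_v, Cochain.zero_v]
    have e1p := e1 p
    have e2p := e2 p
    generalize ((Cochain.ofHom b) - du).v p p (add_zero p) = x at e1p ⊢
    generalize ((Cochain.ofHom b') - dv).v p p (add_zero p) = y at e2p ⊢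
    calc x ≫ y = x ≫ 𝟙 _ ≫ y := by rw [Category.id_comp]
      _ = x ≫ (r p ≫ f.f p + g.f p ≫ s p) ≫ y := by rw [hid]
      _ = (x ≫ r p) ≫ (f.f p ≫ y) + (x ≫ g.f p) ≫ (s p ≫ y) := by
        simp only [Preadditive.add_comp, Preadditive.comp_add, Category.assoc]
      _ = 0 := by
        rw [e2p, e1p, Limits.comp_zero, Limits.zero_comp, add_zero]
  rw [Cochain.sub_comp, Cochain.comp_sub, Cochain.comp_sub, sub_eq_zero, sub_eq_iff_eq_add] at hC
  have hz : δ (-1) 0 ((Cochain.ofHom b).comp v (zero_add (-1)) - du.comp v (zero_add (-1)) +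
      u.comp (Cochain.ofHom b') (add_zero (-1))) =
      (Cochain.ofHom b).comp dv (zero_add 0) - du.comp dv (zero_add 0) +
        du.comp (Cochain.ofHom b') (add_zero 0) := by
    rw [δ_add, δ_sub, δ_ofHom_comp, δ_comp_ofHom,
      δ_zero_cochain_comp du v 0 (neg_add_cancel 1), hdu_def, δ_δ, Cochain.zero_comp, smul_zero,
      add_zero, ← hdu_def, ← hdv_def]
  refine ⟨(Cochain.equivHomotopy _ _).symm
    ⟨(Cochain.ofHom b).comp v (zero_add (-1)) - du.comp v (zero_add (-1)) +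
      u.comp (Cochain.ofHom b') (add_zero (-1)), ?_⟩⟩
  rw [Cochain.ofHom_zero, add_zero, Cochain.ofHom_comp, hz, hC]
  abel
end

/-- Let A be an additive category and 0 → A₂ → B₂ → C₂ → 0 a termwise split exact sequence of complexes.
Given a chain map b from a complex B₁ into B₂ and a chain map b' from B₂ into a complex B₃, suppose
that both composites b ≫ (B₂ → C₂) and (A₂ → B₂) ≫ b' are null-homotopic. Then b ≫ b' is homotopic
to zero. (The published statement has three termwise split sequences Aᵢ → Bᵢ → Cᵢ and asks both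
squares of each diagram to commute up to homotopy; this row keeps only the middle sequence and the
two conditions at B₂ that the argument uses, so it is more general.) -/
theorem result {V : Type u} [Category.{v} V] [Preadditive V] [HasBinaryBiproducts V]
    (S : ShortComplex (CochainComplex V ℤ))
    (σ : ∀ n : ℤ, (S.map (HomologicalComplex.eval V (ComplexShape.up ℤ) n)).Splitting)
    {B₁ B₃ : CochainComplex V ℤ} (b : B₁ ⟶ S.X₂) (b' : S.X₂ ⟶ B₃)
    (hb : Nonempty (Homotopy (b ≫ S.g) 0)) (hb' : Nonempty (Homotopy (S.f ≫ b') 0)) :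
    Nonempty (Homotopy (b ≫ b') 0) := by
  obtain ⟨h⟩ := hb
  obtain ⟨h'⟩ := hb'
  exact aux6612 S.f S.g (fun n => (σ n).r) (fun n => (σ n).s) (fun n => (σ n).f_r)
    (fun n => (σ n).s_g) (fun n => (σ n).id) b b' h h'

end Groth.Agent.S6612
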