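import Groth.Statements.S6614
import Mathlib.Tactic.Abel
-- import your own Groth.Agent.* helpers here

set_option autoImplicit false
universe v u
open CategoryTheory CategoryTheory.Limits Opposite
open CohDer

namespace Groth.Agent.S6614

section Helpers

open CategoryTheory.Pretriangulated

variable {D : Type u} [Category.{v} D] [Preadditive D] [HasZeroObject D] [HasShift D ℤ]
    [∀ n : ℤ, (shiftFunctor D n).Additive] [Pretriangulated D]

lemma exists_complement {A X : D} (u : A ⟶ X) (r : X ⟶ A) (hur : u ≫ r = 𝟙 A) :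
    ∃ (Z : D) (q : X ⟶ Z) (σ : Z ⟶ X), u ≫ q = 0 ∧ σ ≫ q = 𝟙 Z ∧ σ ≫ r = 0 ∧
      r ≫ u + q ≫ σ = 𝟙 X := by
  obtain ⟨Z, q, δ, hT⟩ := distinguished_cocone_triangle u
  have hmono : Mono u := (SplitMono.mk r hur).mono
  have hδ : δ = 0 := (Triangle.mor₃_eq_zero_iff_mono₁ _ hT).2 hmono
  have hepi : Epi q := Triangle.epi₂ _ hT hδ
  have huq : u ≫ q = 0 := comp_distTriang_mor_zero₁₂ _ hT
  have hup : u ≫ (𝟙 X - r ≫ u) = 0 := by
    rw [Preadditive.comp_sub, Category.comp_id, ← Category.assoc, hur, Category.id_comp, sub_self]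
  obtain ⟨σ, hσ⟩ : ∃ σ : Z ⟶ X, 𝟙 X - r ≫ u = q ≫ σ := Triangle.yoneda_exact₂ _ hT _ hup
  refine ⟨Z, q, σ, huq, ?_, ?_, ?_⟩
  · rw [← cancel_epi q, ← Category.assoc, ← hσ, Preadditive.sub_comp, Category.id_comp,
      Category.assoc, huq, comp_zero, sub_zero, Category.comp_id]
  · rw [← cancel_epi q, ← Category.assoc, ← hσ, Preadditive.sub_comp, Category.id_comp,
      Category.assoc, hur, Category.comp_id, sub_self, comp_zero]
  · rw [← hσ]
    abel

end Helpers


/-- Let D be a triangulated category and (A_n) an ℕ-indexed inverse system of D which is essentially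
constant with value A relative to the cone c. Then there are an index i and direct sum
decompositions A_{i+j} ≅ A ⊞ Z_j (j ≥ 0) such that (a) c_{i+j} is the inclusion of the summand A and
the transition maps A_{i+k} → A_{i+j} are 𝟙_A ⊕ (Z_k → Z_j), and (b) for every j there is k ≥ j with
Z_k → Z_j zero. (The published statement is an equivalence whose converse is given without proof;
this row states only the forward implication.) -/
theorem result {D : Type u} [Category.{v} D] [Preadditive D] [HasZeroObject D] [HasShift D ℤ]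
    [∀ n : ℤ, (shiftFunctor D n).Additive] [Pretriangulated D] [IsTriangulated D]
    (X : ARSys.PS D) (A : D) (c : (Functor.const ℕᵒᵖ).obj A ⟶ X) (hX : DerCA.IsEssConstant X A c) :
    ∃ (i : ℕ) (Z : ℕ → D) (e : ∀ j : ℕ, X.obj (op (i + j)) ≅ A ⊞ Z j) (z : ∀ j k : ℕ, j ≤ k → (Z k ⟶ Z j)),
      (∀ j : ℕ, c.app (op (i + j)) ≫ (e j).hom = biprod.inl) ∧
      (∀ (j k : ℕ) (hjk : j ≤ k), (e k).inv ≫ ARSys.tr X (Nat.add_le_add_left hjk i) = biprod.map (𝟙 A) (z j k hjk) ≫ (e j).inv) ∧
      (∀ j : ℕ, ∃ (k : ℕ) (hjk : j ≤ k), z j k hjk = 0) := by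
  obtain ⟨i, s, hs, hk⟩ := hX
  have hnat : ∀ (n m : ℕ) (h : n ≤ m), c.app (op m) ≫ ARSys.tr X h = c.app (op n) := by
    intro n m h
    have := c.naturality (homOfLE h).op
    simp only [Functor.const_obj_obj, Functor.const_obj_map, Category.id_comp] at this
    exact this.symm
  have htr : ∀ (n m l : ℕ) (h₁ : n ≤ m) (h₂ : m ≤ l),
      ARSys.tr X h₂ ≫ ARSys.tr X h₁ = ARSys.tr X (h₁.trans h₂) := by
    intro n m l h₁ h₂
    rw [ARSys.tr, ARSys.tr, ARSys.tr, ← Functor.map_comp]
    rfl
  have hcr : ∀ j : ℕ, c.app (op (i + j)) ≫ (ARSys.tr X (Nat.le_add_right i j) ≫ s) = 𝟙 A := by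
    intro j
    rw [← Category.assoc, hnat, hs]
  choose Z q σ huq hσq hσr hsum using fun j : ℕ =>
    exists_complement (c.app (op (i + j))) (ARSys.tr X (Nat.le_add_right i j) ≫ s) (hcr j)
  have htr' : ∀ (j k : ℕ) (hjk : j ≤ k), ARSys.tr X (Nat.add_le_add_left hjk i) ≫
      (ARSys.tr X (Nat.le_add_right i j) ≫ s) = ARSys.tr X (Nat.le_add_right i k) ≫ s := by
    intro j k hjk
    rw [← Category.assoc, htr]
  refine ⟨i, Z, fun j =>
    { hom := biprod.lift (ARSys.tr X (Nat.le_add_right i j) ≫ s) (q j)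
      inv := biprod.desc (c.app (op (i + j))) (σ j)
      hom_inv_id := by rw [biprod.lift_desc]; exact hsum j
      inv_hom_id := by
        apply biprod.hom_ext'
        · apply biprod.hom_ext
          · simp only [biprod.inl_desc_assoc, Category.assoc, biprod.lift_fst, Category.comp_id,
              biprod.inl_fst]
            exact hcr j
          · simp only [biprod.inl_desc_assoc, Category.assoc, biprod.lift_snd, Category.comp_id,
              biprod.inl_snd]
            exact huq j
        · apply biprod.hom_ext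
          · simp only [biprod.inr_desc_assoc, Category.assoc, biprod.lift_fst, Category.comp_id,
              biprod.inr_fst]
            exact hσr j
          · simp only [biprod.inr_desc_assoc, Category.assoc, biprod.lift_snd, Category.comp_id,
              biprod.inr_snd]
            exact hσq j },
    fun j k hjk => σ k ≫ ARSys.tr X (Nat.add_le_add_left hjk i) ≫ q j, ?_, ?_, ?_⟩
  · intro j
    change c.app (op (i + j)) ≫ biprod.lift (ARSys.tr X (Nat.le_add_right i j) ≫ s) (q j) = _
    apply biprod.hom_ext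
    · rw [Category.assoc, biprod.lift_fst]
      exact (hcr j).trans biprod.inl_fst.symm
    · rw [Category.assoc, biprod.lift_snd]
      exact (huq j).trans biprod.inl_snd.symm
  · intro j k hjk
    change biprod.desc (c.app (op (i + k))) (σ k) ≫ ARSys.tr X (Nat.add_le_add_left hjk i) =
      biprod.map (𝟙 A) (σ k ≫ ARSys.tr X (Nat.add_le_add_left hjk i) ≫ q j) ≫
        biprod.desc (c.app (op (i + j))) (σ j)
    apply biprod.hom_ext'
    · rw [biprod.inl_desc_assoc, biprod.inl_map_assoc]
      refine (hnat _ _ (Nat.add_le_add_left hjk i)).trans ?_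
      erw [Category.id_comp, biprod.inl_desc]
    · rw [biprod.inr_desc_assoc, biprod.inr_map_assoc, biprod.inr_desc]
      have h1 : q j ≫ σ j = 𝟙 _ - (ARSys.tr X (Nat.le_add_right i j) ≫ s) ≫ c.app (op (i + j)) := by
        rw [← hsum j]
        abel
      rw [Category.assoc, Category.assoc, h1, Preadditive.comp_sub, Preadditive.comp_sub,
        Category.comp_id, ← Category.assoc (ARSys.tr X (Nat.add_le_add_left hjk i)), htr' j k hjk,
        ← Category.assoc (σ k), hσr, Limits.zero_comp, sub_zero]
  · intro j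
    obtain ⟨k', hi, hj, hk'⟩ := hk (i + j)
    obtain ⟨k, rfl⟩ := Nat.exists_eq_add_of_le hi
    have hjk : j ≤ k := by omega
    refine ⟨k, hjk, ?_⟩
    change σ k ≫ ARSys.tr X (Nat.add_le_add_left hjk i) ≫ q j = 0
    have h1 : ARSys.tr X (Nat.add_le_add_left hjk i) = ARSys.tr X hi ≫ s ≫ c.app (op (i + j)) := hk'
    rw [h1, Category.assoc, Category.assoc, huq, Limits.comp_zero, Limits.comp_zero,
      Limits.comp_zero]

end Groth.Agent.S6614
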