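import Groth.Statements.S6617
import Mathlib
import Groth.Agent.Lib.Helper7.TermwiseSplit

set_option autoImplicit false
universe v u
open CategoryTheory CategoryTheory.Limits
open CohDer

namespace Groth.Agent.S6617

/-- Let A be an additive category and A₀ → A₁ → A₂ → … a sequence of composable morphisms of complexes.
There are complexes Bᵢ, homotopy equivalences Bᵢ ⟶ Aᵢ and termwise split injections Bᵢ ⟶ Bᵢ₊₁
forming a commutative ladder over the given sequence. Moreover if all Aᵢ are bounded below, resp.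
bounded above, then the Bᵢ may be chosen bounded below, resp. bounded above. (The published
statement is for finite sequences A₁ → … → A_n; this row takes a sequence indexed by ℕ, built by the
same step-by-step construction.) -/
theorem result {V : Type u} [Category.{v} V] [Preadditive V] [HasBinaryBiproducts V] [HasZeroObject V]
    (X : ℕ → CochainComplex V ℤ) (a : ∀ i, X i ⟶ X (i + 1)) :
    ∃ (B : ℕ → CochainComplex V ℤ) (b : ∀ i, B i ⟶ B (i + 1)) (e : ∀ i, HomotopyEquiv (B i) (X i)),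
      (∀ i, b i ≫ (e (i + 1)).hom = (e i).hom ≫ a i) ∧
      (∀ (i : ℕ) (n : ℤ), ∃ (C : V) (ε : (B (i + 1)).X n ≅ (B i).X n ⊞ C), (b i).f n ≫ ε.hom = biprod.inl) ∧
      ((∀ i, ∃ m : ℤ, (X i).IsStrictlyGE m) → ∀ i, ∃ m : ℤ, (B i).IsStrictlyGE m) ∧
      ((∀ i, ∃ m : ℤ, (X i).IsStrictlyLE m) → ∀ i, ∃ m : ℤ, (B i).IsStrictlyLE m) := by
  classical
  have H : ∀ (i : ℕ) (p : Σ (B : CochainComplex V ℤ), HomotopyEquiv B (X i)),
      ∃ (q : Σ (B : CochainComplex V ℤ), HomotopyEquiv B (X (i + 1))) (b : p.1 ⟶ q.1),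
        b ≫ q.2.hom = p.2.hom ≫ a i ∧
        (∀ n : ℤ, ∃ (C : V) (ε : q.1.X n ≅ p.1.X n ⊞ C), b.f n ≫ ε.hom = biprod.inl) ∧
        (∀ m : ℤ, p.1.IsStrictlyGE m → (X (i + 1)).IsStrictlyGE m →
          q.1.IsStrictlyGE (m - 1)) ∧
        (∀ m : ℤ, p.1.IsStrictlyLE m → (X (i + 1)).IsStrictlyLE m → q.1.IsStrictlyLE m) := by
    intro i p
    obtain ⟨L', α', π, s, h1, h2, ⟨h3⟩, h4, h5, h6⟩ :=
      Groth.Agent.Lib.Helper7.TermwiseSplit.factor_inj p.1 (X (i + 1)) (p.2.hom ≫ a i)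
    exact ⟨⟨L', ⟨π, s, h3, Homotopy.ofEq h2⟩⟩, α', h1, h4, h5, h6⟩
  choose step bstep hs1 hs2 hs3 hs4 using H
  let seq : ∀ i : ℕ, Σ (B : CochainComplex V ℤ), HomotopyEquiv B (X i) :=
    fun i => Nat.rec (motive := fun i => Σ (B : CochainComplex V ℤ), HomotopyEquiv B (X i))
      ⟨X 0, HomotopyEquiv.refl _⟩ (fun i p => step i p) i
  refine ⟨fun i => (seq i).1, fun i => bstep i (seq i), fun i => (seq i).2,
    fun i => hs1 i (seq i), fun i n => hs2 i (seq i) n, ?_, ?_⟩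
  · intro hX i
    induction i with
    | zero => exact hX 0
    | succ i ih =>
      obtain ⟨m₁, hm₁⟩ := ih
      obtain ⟨m₂, hm₂⟩ := hX (i + 1)
      refine ⟨min m₁ m₂ - 1, hs3 i (seq i) (min m₁ m₂) ?_ ?_⟩
      · exact (seq i).1.isStrictlyGE_of_ge (min m₁ m₂) m₁ (min_le_left _ _)
      · exact (X (i + 1)).isStrictlyGE_of_ge (min m₁ m₂) m₂ (min_le_right _ _)
  · intro hX i
    induction i with
    | zero => exact hX 0
    | succ i ih =>
      obtain ⟨m₁, hm₁⟩ := ih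
      obtain ⟨m₂, hm₂⟩ := hX (i + 1)
      refine ⟨max m₁ m₂, hs4 i (seq i) (max m₁ m₂) ?_ ?_⟩
      · exact (seq i).1.isStrictlyLE_of_le m₁ (max m₁ m₂) (le_max_left _ _)
      · exact (X (i + 1)).isStrictlyLE_of_le m₂ (max m₁ m₂) (le_max_right _ _)

end Groth.Agent.S6617
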