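import Groth.Statements.S6621
import Mathlib

set_option autoImplicit false
universe v u v' u'
open CategoryTheory CategoryTheory.Limits
open CohDer

namespace Groth.Agent.S6621

/-- Let D be a triangulated category, S a multiplicative system compatible with the triangulated
structure, Q : D → S⁻¹D the localization and B(S) = Ker(Q) the full subcategory of objects Z with
Q(Z) = 0. Then the multiplicative system S(B(S)) attached to B(S) (morphisms whose cone lies in B(S)
up to isomorphism) consists exactly of the morphisms f such that Q(f) is an isomorphism, i.e. it is
the saturation of S. -/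
theorem result {D : Type u} [Category.{v} D] [Preadditive D] [HasZeroObject D] [HasShift D ℤ]
    [∀ n : ℤ, (shiftFunctor D n).Additive] [Pretriangulated D] [IsTriangulated D]
    (S : MorphismProperty D) [S.HasLeftCalculusOfFractions] [S.HasRightCalculusOfFractions] [S.IsCompatibleWithTriangulation]
    {E : Type u'} [Category.{v'} E] (Q : D ⥤ E) [Q.IsLocalization S] {X Y : D} (f : X ⟶ Y) :
    ObjectProperty.trW (fun Z : D => IsZero (Q.obj Z)) f ↔ IsIso (Q.map f) := by
  letI : HasShift E ℤ := HasShift.localized Q S ℤ
  letI : Q.CommShift ℤ := Functor.CommShift.localized Q S ℤ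
  letI : Preadditive E := Localization.preadditive Q S
  haveI : Q.Additive := Localization.functor_additive Q S
  haveI : HasZeroObject E := Q.hasZeroObject_of_additive
  haveI : ∀ n : ℤ, (shiftFunctor E n).Additive := by
    intro n
    rw [Localization.functor_additive_iff Q S]
    exact Functor.additive_of_iso (Q.commShiftIso n)
  letI : Pretriangulated E := Triangulated.Localization.pretriangulated Q S
  haveI : Q.IsTriangulated := Triangulated.Localization.isTriangulated_functor Q S
  constructor
  · rintro ⟨Z, g, h, hT, hZ⟩
    have hT' := Q.map_distinguished _ hT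
    exact (Pretriangulated.Triangle.isZero₃_iff_isIso₁ _ hT').1 hZ
  · intro hf
    obtain ⟨Z, g, h, hT⟩ := Pretriangulated.distinguished_cocone_triangle f
    have hT' := Q.map_distinguished _ hT
    exact ⟨Z, g, h, hT, (Pretriangulated.Triangle.isZero₃_iff_isIso₁ _ hT').2 hf⟩

end Groth.Agent.S6621
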