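import Groth.Statements.S6622
import Mathlib

set_option autoImplicit false
universe v u
open CategoryTheory CategoryTheory.Limits
open CohDer

namespace Groth.Agent.S6622

set_option backward.defeqAttrib.useBackward true in
set_option backward.isDefEq.respectTransparency false in
open CategoryTheory.Pretriangulated ZeroObject in
lemma aux {V : Type u} [Category.{v} V] [Preadditive V] [HasZeroObject V] [HasBinaryBiproducts V]
    (R : CochainComplex V ℤ → Prop) (h0 : R 0)
    (hs : ∀ (K : CochainComplex V ℤ) (n : ℤ), R K → R (K⟦n⟧))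
    (hc : ∀ {K L : CochainComplex V ℤ} (f : K ⟶ L), R K → R L → R (CochainComplex.mappingCone f)) :
    ObjectProperty.IsTriangulated
      (fun K : HomotopyCategory V (ComplexShape.up ℤ) => R K.as) := by
  let P : ObjectProperty (HomotopyCategory V (ComplexShape.up ℤ)) := fun K => R K.as
  haveI : P.ContainsZero :=
    ⟨⟨(HomotopyCategory.quotient _ _).obj 0, Functor.map_isZero _ (isZero_zero _), h0⟩⟩
  haveI : P.IsStableUnderShift ℤ := ⟨fun n => ⟨fun K hK => by
      obtain ⟨K, rfl⟩ := K.quotient_obj_surjective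
      rw [ObjectProperty.prop_shift_iff, HomotopyCategory.shift_quotient_obj]
      exact hs K n hK⟩⟩
  haveI : P.IsTriangulatedClosed₃ := ⟨fun T hT h₁ h₂ => by
      obtain ⟨f : T.obj₁.as ⟶ T.obj₂.as, hf⟩ :=
        (HomotopyCategory.quotient _ _).map_surjective T.mor₁
      refine ⟨_, ?_, ⟨Triangle.π₃.mapIso (isoTriangleOfIso₁₂ T _ hT
        (HomotopyCategory.mappingCone_triangleh_distinguished f) (Iso.refl _) (Iso.refl _) ?_)⟩⟩
      · exact hc f h₁ h₂
      · simp [hf]⟩
  exact { toIsTriangulatedClosed₂ := .of_isTriangulatedClosed₃ }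


/-- Let A be an additive category. The full subcategories K⁻(A) (complexes K with Kⁿ = 0 for n ≫ 0) and
Kᵇ(A) (Kⁿ = 0 for |n| ≫ 0) of the homotopy category K(A) are full triangulated subcategories. -/
theorem result {V : Type u} [Category.{v} V] [Preadditive V] [HasZeroObject V] [HasBinaryBiproducts V] :
    (ObjectProperty.IsTriangulated (fun K : HomotopyCategory V (ComplexShape.up ℤ) => ∃ n : ℤ, CochainComplex.IsStrictlyLE K.as n)) ∧
    (ObjectProperty.IsTriangulated (fun K : HomotopyCategory V (ComplexShape.up ℤ) =>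
      ∃ a b : ℤ, CochainComplex.IsStrictlyGE K.as a ∧ CochainComplex.IsStrictlyLE K.as b)) := by
  constructor
  · apply aux (fun K => ∃ n : ℤ, CochainComplex.IsStrictlyLE K n)
    · exact ⟨0, inferInstance⟩
    · rintro K n ⟨q, hq⟩
      exact ⟨q - n, K.isStrictlyLE_shift q n (q - n) (by lia)⟩
    · rintro K L f ⟨n₁, h₁⟩ ⟨n₂, h₂⟩
      refine ⟨max n₁ n₂, ?_⟩
      rw [CochainComplex.isStrictlyLE_iff]
      intro i hi
      rw [CochainComplex.mappingCone.isZero_X_iff]
      exact ⟨K.isZero_of_isStrictlyLE n₁ _ (by have := le_max_left n₁ n₂; lia),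
        L.isZero_of_isStrictlyLE n₂ _ (by have := le_max_right n₁ n₂; lia)⟩
  · apply aux (fun K => ∃ a b : ℤ, CochainComplex.IsStrictlyGE K a ∧ CochainComplex.IsStrictlyLE K b)
    · exact ⟨0, 0, inferInstance, inferInstance⟩
    · rintro K n ⟨p, q, hp, hq⟩
      exact ⟨p - n, q - n, K.isStrictlyGE_shift p n (p - n) (by lia),
        K.isStrictlyLE_shift q n (q - n) (by lia)⟩
    · rintro K L f ⟨a₁, b₁, ha₁, hb₁⟩ ⟨a₂, b₂, ha₂, hb₂⟩
      refine ⟨min (a₁ - 1) a₂, max b₁ b₂, ?_, ?_⟩
      · rw [CochainComplex.isStrictlyGE_iff]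
        intro i hi
        rw [CochainComplex.mappingCone.isZero_X_iff]
        exact ⟨K.isZero_of_isStrictlyGE a₁ _ (by have := min_le_left (a₁ - 1) a₂; lia),
          L.isZero_of_isStrictlyGE a₂ _ (by have := min_le_right (a₁ - 1) a₂; lia)⟩
      · rw [CochainComplex.isStrictlyLE_iff]
        intro i hi
        rw [CochainComplex.mappingCone.isZero_X_iff]
        exact ⟨K.isZero_of_isStrictlyLE b₁ _ (by have := le_max_left b₁ b₂; lia),
          L.isZero_of_isStrictlyLE b₂ _ (by have := le_max_right b₁ b₂; lia)⟩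

end Groth.Agent.S6622
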