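import Groth.Statements.S6623
-- import your own Groth.Agent.* helpers here

set_option autoImplicit false
universe v u
open CategoryTheory CategoryTheory.Limits
open CohDer

namespace Groth.Agent.S6623

open CategoryTheory.Pretriangulated in
/-- Let D be a triangulated category, φ : X ⟶ X' a morphism of chain complexes in D considered in
degrees ≤ n, where a Postnikov system for the complex X_n → … → X_0 consists of objects Y_k, an
isomorphism Y_0 ⟶ X_0, and for 0 ≤ k < n distinguished triangles Y_{k+1} ⟶ X_{k+1} ⟶ Y_k ⟶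
Y_{k+1}⟦1⟧ with X_{k+1} ⟶ Y_k ⟶ X_k the differential; let (Y, a, b, c) and (Y', a', b', c') be
Postnikov systems for X and X'. If Hom(X_{j-i}⟦1-i⟧, X'_j) = 0 and Hom(X_j, X'_{j-i}⟦-i⟧) = 0 for
all 0 < i ≤ j ≤ n, then there is at most one morphism of Postnikov systems extending φ: two such
morphisms agree on Y_k for every k ≤ n. -/
theorem result {D : Type u} [Category.{v} D] [Preadditive D] [HasZeroObject D] [HasShift D ℤ]
    [∀ n : ℤ, (shiftFunctor D n).Additive] [Pretriangulated D] [IsTriangulated D]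
    (X X' : ChainComplex D ℕ) (φ : X ⟶ X') (n : ℕ)
    (Y : ℕ → D) (a : ∀ k, Y k ⟶ X.X k) (b : ∀ k, X.X (k + 1) ⟶ Y k)
    (c : ∀ k, Y k ⟶ (shiftFunctor D (1 : ℤ)).obj (Y (k + 1)))
    (h0 : IsIso (a 0))
    (hP : ∀ k, k < n → Triangle.mk (a (k + 1)) (b k) (c k) ∈ distinguishedTriangles ∧ b k ≫ a k = X.d (k + 1) k)
    (qY : ℕ → D) (qa : ∀ k, qY k ⟶ X'.X k) (qb : ∀ k, X'.X (k + 1) ⟶ qY k)
    (qc : ∀ k, qY k ⟶ (shiftFunctor D (1 : ℤ)).obj (qY (k + 1)))
    (qh0 : IsIso (qa 0))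
    (qhP : ∀ k, k < n → Triangle.mk (qa (k + 1)) (qb k) (qc k) ∈ distinguishedTriangles ∧ qb k ≫ qa k = X'.d (k + 1) k)
    (hv : ∀ i j : ℕ, 0 < i → i ≤ j → j ≤ n →
      (∀ ψ : (shiftFunctor D (1 - (i : ℤ))).obj (X.X (j - i)) ⟶ X'.X j, ψ = 0) ∧
      (∀ ψ : X.X j ⟶ (shiftFunctor D (-(i : ℤ))).obj (X'.X (j - i)), ψ = 0))
    (y z : ∀ k, Y k ⟶ qY k)
    (hy : (∀ k, k ≤ n → y k ≫ qa k = a k ≫ φ.f k) ∧
      (∀ k, k < n → b k ≫ y k = φ.f (k + 1) ≫ qb k ∧ c k ≫ (shiftFunctor D (1 : ℤ)).map (y (k + 1)) = y k ≫ qc k))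
    (hz : (∀ k, k ≤ n → z k ≫ qa k = a k ≫ φ.f k) ∧
      (∀ k, k < n → b k ≫ z k = φ.f (k + 1) ≫ qb k ∧ c k ≫ (shiftFunctor D (1 : ℤ)).map (z (k + 1)) = z k ≫ qc k))
    (k : ℕ) (hk : k ≤ n) :
    y k = z k := by
  have H1 : ∀ (p q : ℕ), p < q → q ≤ n → ∀ (s : ℤ), s = (p : ℤ) - q + 1 →
      ∀ ψ : (shiftFunctor D s).obj (X.X p) ⟶ X'.X q, ψ = 0 := by
    intro p q hpq hq s hs
    have h := (hv (q - p) q (by omega) (by omega) hq).1
    have h1 : q - (q - p) = p := by omega
    have h2 : (1 : ℤ) - ((q - p : ℕ) : ℤ) = s := by omega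
    rw [h1, h2] at h
    exact h
  have H2 : ∀ (p q : ℕ), p < q → q ≤ n → ∀ (s : ℤ), s = (p : ℤ) - q →
      ∀ ψ : X.X q ⟶ (shiftFunctor D s).obj (X'.X p), ψ = 0 := by
    intro p q hpq hq s hs
    have h := (hv (q - p) q (by omega) (by omega) hq).2
    have h1 : q - (q - p) = p := by omega
    have h2 : -((q - p : ℕ) : ℤ) = s := by omega
    rw [h1, h2] at h
    exact h
  have V1 : ∀ k, k < n → ∀ m, m ≤ k → ∀ s : ℤ, s = (m : ℤ) - k →
      ∀ ψ : (shiftFunctor D s).obj (Y m) ⟶ X'.X (k + 1), ψ = 0 := by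
    intro k hk m
    induction m with
    | zero =>
      intro _ s hs ψ
      haveI := h0
      have h := H1 0 (k + 1) (by omega) (by omega) s (by push_cast at hs ⊢; omega)
        ((shiftFunctor D s).map (inv (a 0)) ≫ ψ)
      have h' : ψ = (shiftFunctor D s).map (a 0) ≫ ((shiftFunctor D s).map (inv (a 0)) ≫ ψ) := by
        rw [← Category.assoc, ← Functor.map_comp, IsIso.hom_inv_id,
          CategoryTheory.Functor.map_id, Category.id_comp]
      rw [h', h, Limits.comp_zero]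
    | succ m ih =>
      intro hm s hs ψ
      have hmn : m < n := by omega
      obtain ⟨hdist, -⟩ := hP m hmn
      have hT₁ := Pretriangulated.rot_of_distTriang _ hdist
      have hT₂ := Pretriangulated.Triangle.shift_distinguished _ hT₁ (s - 1)
      obtain ⟨ρ, hρ⟩ := Pretriangulated.Triangle.yoneda_exact₃ _ hT₂
        (((shiftFunctorAdd' D 1 (s - 1) s (by omega)).app (Y (m + 1))).inv ≫ ψ)
        (ih (by omega) (s - 1) (by push_cast at hs ⊢; omega) _)
      have hρ0 : ρ = 0 := by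
        have h2 := H1 (m + 1) (k + 1) (by omega) (by omega) s (by push_cast at hs ⊢; omega)
          (((shiftFunctorAdd' D (s - 1) 1 s (by omega)).app (X.X (m + 1))).hom ≫ ρ)
        exact (cancel_epi ((shiftFunctorAdd' D (s - 1) 1 s (by omega)).app (X.X (m + 1))).hom).1
          (h2.trans Limits.comp_zero.symm)
      rw [hρ0, Limits.comp_zero] at hρ
      exact (cancel_epi ((shiftFunctorAdd' D 1 (s - 1) s (by omega)).app (Y (m + 1))).inv).1
        (hρ.trans Limits.comp_zero.symm)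
  have V2 : ∀ k, k < n → ∀ m, m ≤ k → ∀ s : ℤ, s = (m : ℤ) - k - 1 →
      ∀ ψ : X.X (k + 1) ⟶ (shiftFunctor D s).obj (qY m), ψ = 0 := by
    intro k hk m
    induction m with
    | zero =>
      intro _ s hs ψ
      haveI := qh0
      have h := H2 0 (k + 1) (by omega) (by omega) s (by push_cast at hs ⊢; omega)
        (ψ ≫ (shiftFunctor D s).map (qa 0))
      have h' : ψ = (ψ ≫ (shiftFunctor D s).map (qa 0)) ≫ (shiftFunctor D s).map (inv (qa 0)) := by
        rw [Category.assoc, ← Functor.map_comp, IsIso.hom_inv_id,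
          CategoryTheory.Functor.map_id, Category.comp_id]
      rw [h', h, Limits.zero_comp]
    | succ m ih =>
      intro hm s hs ψ
      have hmn : m < n := by omega
      obtain ⟨hdist, -⟩ := qhP m hmn
      have hT₂ := Pretriangulated.Triangle.shift_distinguished _ hdist (s - 1)
      obtain ⟨ρ, hρ⟩ := Pretriangulated.Triangle.coyoneda_exact₁ _ hT₂
        (ψ ≫ ((shiftFunctorAdd' D (s - 1) 1 s (by omega)).app (qY (m + 1))).hom) (by
          apply (cancel_mono ((shiftFunctorAdd' D (s - 1) 1 s (by omega)).app (X'.X (m + 1))).inv).1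
          refine Eq.trans ?_ Limits.zero_comp.symm
          exact H2 (m + 1) (k + 1) (by omega) (by omega) s (by push_cast at hs ⊢; omega) _)
      have hρ0 : ρ = 0 := ih (by omega) (s - 1) (by push_cast at hs ⊢; omega) ρ
      rw [hρ0, Limits.zero_comp] at hρ
      exact (cancel_mono ((shiftFunctorAdd' D (s - 1) 1 s (by omega)).app (qY (m + 1))).hom).1
        (hρ.trans Limits.zero_comp.symm)
  have main : ∀ k, k ≤ n → y k = z k := by
    intro k
    induction k with
    | zero =>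
      intro _
      haveI := qh0
      rw [← cancel_mono (qa 0), hy.1 0 (Nat.zero_le _), hz.1 0 (Nat.zero_le _)]
    | succ k ih =>
      intro hk
      have hkn : k < n := hk
      have ihk := ih (le_of_lt hkn)
      obtain ⟨hdist, -⟩ := hP k hkn
      obtain ⟨qhdist, -⟩ := qhP k hkn
      rw [← sub_eq_zero]
      have hcw : c k ≫ (shiftFunctor D (1 : ℤ)).map (y (k + 1) - z (k + 1)) = 0 := by
        rw [Functor.map_sub, Preadditive.comp_sub, (hy.2 k hkn).2, (hz.2 k hkn).2, ihk, sub_self]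
      obtain ⟨g, hg⟩ : ∃ g : (shiftFunctor D (1 : ℤ)).obj (X.X (k + 1)) ⟶
          (shiftFunctor D (1 : ℤ)).obj (qY (k + 1)),
          (shiftFunctor D (1 : ℤ)).map (y (k + 1) - z (k + 1)) =
            (-(shiftFunctor D (1 : ℤ)).map (a (k + 1))) ≫ g :=
        Pretriangulated.Triangle.yoneda_exact₃ _ (Pretriangulated.rot_of_distTriang _ hdist) _ hcw
      obtain ⟨t', ht'⟩ : ∃ t' : X.X (k + 1) ⟶ qY (k + 1), (shiftFunctor D (1 : ℤ)).map t' = -g :=
        ⟨(shiftFunctor D (1 : ℤ)).preimage (-g), Functor.map_preimage _ _⟩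
      have hd : y (k + 1) - z (k + 1) = a (k + 1) ≫ t' := by
        apply (shiftFunctor D (1 : ℤ)).map_injective
        rw [hg, Functor.map_comp, ht', Preadditive.neg_comp, Preadditive.comp_neg]
      have h1 : a (k + 1) ≫ (t' ≫ qa (k + 1)) = 0 := by
        rw [← Category.assoc, ← hd, Preadditive.sub_comp, hy.1 (k + 1) hk, hz.1 (k + 1) hk, sub_self]
      obtain ⟨g', hg'⟩ : ∃ g' : Y k ⟶ X'.X (k + 1), t' ≫ qa (k + 1) = b k ≫ g' :=
        Pretriangulated.Triangle.yoneda_exact₂ _ hdist _ h1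
      have hg'0 : g' = 0 := by
        have := V1 k hkn k le_rfl 0 (by simp) (((shiftFunctorZero D ℤ).app (Y k)).hom ≫ g')
        exact (cancel_epi ((shiftFunctorZero D ℤ).app (Y k)).hom).1 (this.trans Limits.comp_zero.symm)
      rw [hg'0, Limits.comp_zero] at hg'
      obtain ⟨g'', hg''⟩ := Pretriangulated.Triangle.coyoneda_exact₂ _
        (Pretriangulated.inv_rot_of_distTriang _ qhdist) t' hg'
      have hg''0 : g'' = 0 := V2 k hkn k le_rfl (-1) (by omega) g''
      rw [hd, hg'', hg''0, Limits.zero_comp]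
      exact Limits.comp_zero
  exact main k hk

end Groth.Agent.S6623
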