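import Groth.Statements.S6625
import Groth.Agent.Lib.Helper2.RDBridge
-- import your own Groth.Agent.* helpers here

set_option autoImplicit false
universe w w' v v' u u'
open CategoryTheory CategoryTheory.Limits
open CohDer

namespace Groth.Agent.S6625

section Aux

open CategoryTheory CategoryTheory.Limits Groth.Agent.Lib.Helper2.RDBridge

variable {A : Type u} [Category.{v} A] [Abelian A] [EnoughInjectives A]
  {B : Type u'} [Category.{v'} B] [Abelian B] (F : A ⥤ B) [F.Additive] (I : ObjectProperty A)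
  (h1 : ∀ X : A, ∃ (Y : A) (ι : X ⟶ Y), I Y ∧ Mono ι)
  (h2 : ∀ S : ShortComplex A, S.ShortExact → I S.X₁ → I S.X₂ → I S.X₃ ∧ (S.map F).ShortExact)

include h1 h2

lemma pkg (X : A) (hX : I X) :
    ∃ (J Y : A) (i : X ⟶ J) (ι : J ⟶ Y) (_ : Injective J) (_ : Mono i) (_ : Mono ι),
      I Y ∧ I (cokernel (i ≫ ι)) ∧
      (ShortComplex.mk (i ≫ ι) (cokernel.π (i ≫ ι)) (cokernel.condition _)).ShortExact ∧
      ((ShortComplex.mk (i ≫ ι) (cokernel.π (i ≫ ι)) (cokernel.condition _)).map F).ShortExact := by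
  obtain ⟨Y, ι, hY, hι⟩ := h1 (Injective.under X)
  haveI := hι
  have hS : (ShortComplex.mk (Injective.ι X ≫ ι) (cokernel.π (Injective.ι X ≫ ι))
      (cokernel.condition _)).ShortExact :=
    { exact := ShortComplex.exact_cokernel _
      mono_f := inferInstanceAs (Mono (Injective.ι X ≫ ι))
      epi_g := inferInstanceAs (Epi (cokernel.π _)) }
  obtain ⟨h3, h4⟩ := h2 _ hS hX hY
  exact ⟨Injective.under X, Y, Injective.ι X, ι, inferInstance, inferInstance, hι, hY, h3, hS, h4⟩

lemma mono_θ (X : A) (hX : I X) : Mono (F.toRightDerivedZero.app X) := by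
  obtain ⟨J, Y, i, ι, hJ, hi, hι, hY, hQ, hS, hFS⟩ := pkg F I h1 h2 X hX
  haveI := hJ
  have nat := F.toRightDerivedZero.naturality i
  haveI : Mono (F.map (i ≫ ι)) := hFS.mono_f
  haveI : Mono (F.map i) := by
    haveI : Mono (F.map i ≫ F.map ι) := by rw [← F.map_comp]; infer_instance
    exact mono_of_mono (F.map i) (F.map ι)
  haveI : Mono (F.toRightDerivedZero.app X ≫ (F.rightDerived 0).map i) := by
    rw [← nat]; infer_instance
  exact mono_of_mono _ ((F.rightDerived 0).map i)

lemma isIso_θ (X : A) (hX : I X) : IsIso (F.toRightDerivedZero.app X) := by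
  obtain ⟨J, Y, i, ι, hJ, hi, hι, hY, hQ, hS, hFS⟩ := pkg F I h1 h2 X hX
  haveI := hJ
  haveI : Mono (F.toRightDerivedZero.app X) := mono_θ F I h1 h2 X hX
  haveI : Mono (F.toRightDerivedZero.app (cokernel (i ≫ ι))) := mono_θ F I h1 h2 _ hQ
  haveI : Mono ((F.rightDerived 0).map (i ≫ ι)) := rightDerived_zero_map_mono' F _ hS
  let y : (F.rightDerived 0).obj X ⟶ F.obj Y :=
    ((F.rightDerived 0).map i ≫ inv (F.toRightDerivedZero.app J)) ≫ F.map ι
  have hy : y ≫ F.toRightDerivedZero.app Y = (F.rightDerived 0).map (i ≫ ι) := by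
    dsimp only [y]
    rw [Category.assoc, Category.assoc, F.toRightDerivedZero.naturality ι,
      IsIso.inv_hom_id_assoc, ← Functor.map_comp]
  have hyb : y ≫ F.map (cokernel.π (i ≫ ι)) = 0 := by
    rw [← cancel_mono (F.toRightDerivedZero.app (cokernel (i ≫ ι))), Category.assoc,
      F.toRightDerivedZero.naturality (cokernel.π (i ≫ ι)), reassoc_of% hy, zero_comp,
      ← Functor.map_comp, cokernel.condition, Functor.map_zero]
  haveI : Mono ((ShortComplex.mk (i ≫ ι) (cokernel.π (i ≫ ι)) (cokernel.condition _)).map F).f :=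
    hFS.mono_f
  have hx₀ := hFS.exact.lift_f y hyb
  have hsplit : hFS.exact.lift y hyb ≫ F.toRightDerivedZero.app X = 𝟙 _ := by
    rw [← cancel_mono ((F.rightDerived 0).map (i ≫ ι))]
    have e1 : (hFS.exact.lift y hyb ≫ F.toRightDerivedZero.app X) ≫
        (F.rightDerived 0).map (i ≫ ι)
        = (hFS.exact.lift y hyb ≫ F.map (i ≫ ι)) ≫ F.toRightDerivedZero.app Y := by
      refine (Category.assoc _ _ _).trans ?_
      refine Eq.trans ?_ (Category.assoc _ _ _).symm
      exact congrArg (fun t => hFS.exact.lift y hyb ≫ t)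
        (F.toRightDerivedZero.naturality (i ≫ ι)).symm
    refine e1.trans ?_
    refine Eq.trans ?_ (Category.id_comp _).symm
    exact (congrArg (fun t => t ≫ F.toRightDerivedZero.app Y) hx₀).trans hy
  haveI : IsSplitEpi (F.toRightDerivedZero.app X) := ⟨⟨hFS.exact.lift y hyb, hsplit⟩⟩
  exact isIso_of_mono_of_isSplitEpi _

lemma vanish (k : ℕ) : ∀ X : A, I X → IsZero ((F.rightDerived (k + 1)).obj X) := by
  induction k with
  | zero =>
    intro X hX
    obtain ⟨J, Y, i, ι, hJ, hi, hι, hY, hQ, hS, hFS⟩ := pkg F I h1 h2 X hX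
    haveI := hJ
    obtain ⟨δ, z1, z2, z3, e1, e2, e3⟩ := rightDerived_les' F _ hS 0
    have hf0 : (F.rightDerived (0 + 1)).map (i ≫ ι) = 0 := by
      have hz : IsZero ((F.rightDerived (0 + 1)).obj J) :=
        F.isZero_rightDerived_obj_injective_succ 0 J
      rw [Functor.map_comp, hz.eq_of_tgt ((F.rightDerived (0 + 1)).map i) 0, zero_comp]
    haveI : Epi δ := e3.epi_f hf0
    haveI : Epi ((F.rightDerived 0).map (cokernel.π (i ≫ ι))) := by
      haveI := isIso_θ F I h1 h2 _ hQ
      haveI : Epi (F.map (cokernel.π (i ≫ ι))) := hFS.epi_g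
      have nat := F.toRightDerivedZero.naturality (cokernel.π (i ≫ ι))
      haveI : Epi (F.toRightDerivedZero.app Y ≫
          (F.rightDerived 0).map (cokernel.π (i ≫ ι))) := by
        rw [← nat]; infer_instance
      exact epi_of_epi (F.toRightDerivedZero.app Y) _
    have hδ : δ = 0 :=
      (cancel_epi ((F.rightDerived 0).map (cokernel.π (i ≫ ι)))).1 (z2.trans comp_zero.symm)
    exact IsZero.of_epi_eq_zero δ hδ
  | succ k ih =>
    intro X hX
    obtain ⟨J, Y, i, ι, hJ, hi, hι, hY, hQ, hS, hFS⟩ := pkg F I h1 h2 X hX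
    haveI := hJ
    obtain ⟨δ, z1, z2, z3, e1, e2, e3⟩ := rightDerived_les' F _ hS (k + 1)
    have hf0 : (F.rightDerived (k + 1 + 1)).map (i ≫ ι) = 0 := by
      have hz : IsZero ((F.rightDerived (k + 1 + 1)).obj J) :=
        F.isZero_rightDerived_obj_injective_succ (k + 1) J
      rw [Functor.map_comp, hz.eq_of_tgt ((F.rightDerived (k + 1 + 1)).map i) 0, zero_comp]
    haveI : Epi δ := e3.epi_f hf0
    exact IsZero.of_epi δ (ih _ hQ)

end Aux


/-- In the case where A has enough injectives: let F : A ⥤ B be an additive functor between abelian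
categories, A with enough injectives, and I a class of objects of A such that (1) each object of A
embeds by a monomorphism into some object of I, and (2) whenever 0 → P → Q → R → 0 is a short exact
sequence whose terms P and Q lie in I, the third term R also lies in I, and applying F to the
sequence yields a short exact sequence in B. Under these assumptions, each X belonging to I is right
acyclic for F, meaning the map F(X)[0] ⟶ RF(X[0]) is an isomorphism. -/
theorem result {A : Type u} [Category.{v} A] [Abelian A] [HasDerivedCategory.{w} A] [EnoughInjectives A]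
    {B : Type u'} [Category.{v'} B] [Abelian B] [HasDerivedCategory.{w'} B]
    (F : A ⥤ B) [F.Additive] (I : ObjectProperty A)
    (h1 : ∀ X : A, ∃ (Y : A) (ι : X ⟶ Y), I Y ∧ Mono ι)
    (h2 : ∀ S : ShortComplex A, S.ShortExact → I S.X₁ → I S.X₂ → I S.X₃ ∧ (S.map F).ShortExact)
    (X : A) (hX : I X) :
    IsIso (F.rightDerivedFunctorPlusUnit.app ((HomotopyCategory.Plus.singleFunctor A 0).obj X)) := by
  refine (Groth.Agent.Lib.Helper2.RDBridge.isIso_unit_single_iff F X).2
    ⟨isIso_θ F I h1 h2 X hX, fun i hi => ?_⟩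
  obtain ⟨k, rfl⟩ : ∃ k, i = k + 1 := ⟨i - 1, by omega⟩
  exact vanish F I h1 h2 k X hX

end Groth.Agent.S6625
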