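import Groth.Statements.S6626
import Groth.Agent.Lib.Helper15.EtGlue
import Mathlib.CategoryTheory.Sites.LocallySurjective
import Mathlib.CategoryTheory.Sites.EpiMono

set_option autoImplicit false
open CategoryTheory CategoryTheory.Limits AlgebraicGeometry Opposite
universe u
open EtCore

open Groth.Agent.Lib.Helper13 Groth.Agent.Lib.Helper15

namespace Groth.Agent.S6626


set_option backward.isDefEq.respectTransparency.types false in
/-- Condition (A) rephrased with pieces of the small etale site. -/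
lemma exists_piece {X Y : Scheme.{u}} (f : X ⟶ Y) (hA : BigSite.PropA f) (U : X.Etale)
    (u : U.left) :
    ∃ (V : Scheme.{u}) (v : V ⟶ Y) (_ : Etale v) (W Wc : (pullback f v).Opens)
      (_ : Disjoint W Wc) (_ : ∀ x, x ∈ W ∨ x ∈ Wc) (h : EtGlue.piece f v W ⟶ U)
      (w : (EtGlue.piece f v W).left), h.left w = u := by
  induction U with
  | mk U₀ g hg =>
    obtain ⟨V, v, hv, W, hWc, h, hh, w, hw⟩ := hA U₀ g u
    haveI := hv
    refine ⟨V, v, hv, W, ⟨(W : Set _)ᶜ, hWc.isOpen_compl⟩, ?_, ?_,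
      MorphismProperty.Over.homMk h hh, w, hw⟩
    · rw [← TopologicalSpace.Opens.coe_disjoint]
      exact disjoint_compl_right
    · intro x
      exact em (x ∈ W)

set_option backward.isDefEq.respectTransparency.types false in
lemma reflects_mono {X Y : Scheme.{u}} (f : X ⟶ Y) (hA : BigSite.PropA f) {F G : EtCoh.Ab X}
    (φ : F ⟶ G) (hm : Mono ((EtCoh.push f).map φ)) : Mono φ := by
  apply EtGlue.mono_of_injective_ab
  intro U
  obtain ⟨U⟩ := U
  refine (injective_iff_map_eq_zero (φ.hom.app (op U)).hom).2 ?_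
  intro s hs
  have hs' : φ.hom.app (op U) s = 0 := hs
  refine EtGlue.eq_of_locally_ab F s 0 ?_
  intro u
  obtain ⟨V, v, hv, W, Wc, hd, hc, h, w, hw⟩ := exists_piece f hA U u
  haveI := hv
  refine ⟨_, h, w, hw, ?_⟩
  rw [map_zero]
  obtain ⟨t, ht1, ht2⟩ := EtGlue.extend_by_zero f v F W Wc hd hc (F.obj.map h.op s)
  have hφt : φ.hom.app (op ((EtCoh.bc f).obj (Scheme.Etale.mk v))) t = 0 := by
    refine EtGlue.eq_of_restrict_eq f v G W Wc hc _ _ ?_ ?_
    · rw [← EtGlue.ab_hom_nat, ht1, EtGlue.ab_hom_nat, hs', map_zero, map_zero]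
    · rw [← EtGlue.ab_hom_nat, ht2, map_zero, map_zero]
  have hinj := EtGlue.injective_of_mono_ab ((EtCoh.push f).map φ) (op (Scheme.Etale.mk v))
  have ht0 : t = 0 := hinj (hφt.trans
    (map_zero (((EtCoh.push f).map φ).hom.app (op (Scheme.Etale.mk v))).hom).symm)
  rw [← ht1, ht0, map_zero]

set_option backward.isDefEq.respectTransparency.types false in
lemma reflects_epi {X Y : Scheme.{u}} (f : X ⟶ Y) (hA : BigSite.PropA f) {F G : EtCoh.Ab X}
    (φ : F ⟶ G) (he : Epi ((EtCoh.push f).map φ)) : Epi φ := by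
  have hloc : Presheaf.IsLocallySurjective Y.smallEtaleTopology ((EtCoh.push f).map φ).hom :=
    (Sheaf.isLocallySurjective_iff_epi' AddCommGrpCat.{u + 1} _).2 he
  rw [← Sheaf.isLocallySurjective_iff_epi' AddCommGrpCat.{u + 1}]
  constructor
  intro U t
  rw [EtGlue.mem_iff]
  intro u
  obtain ⟨V, v, hv, W, Wc, hd, hc, h, w, hw⟩ := exists_piece f hA U u
  haveI := hv
  obtain ⟨t', ht1, ht2⟩ := EtGlue.extend_by_zero f v G W Wc hd hc (G.obj.map h.op t)
  have hR := hloc.imageSieve_mem (U := Scheme.Etale.mk v) t'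
  have hR' := (EtCoh.coverPreserving_bc f).cover_preserve hR
  have hR'' := X.smallEtaleTopology.pullback_stable (EtGlue.pieceι f v W) hR'
  obtain ⟨Z, g, z, hg, hz⟩ := (EtGlue.mem_iff _ _).1 hR'' w
  obtain ⟨V₁, a, c, ⟨s₁, hs₁⟩, hfac⟩ := hg
  refine ⟨Z, g ≫ h, z, ⟨F.obj.map c.op s₁, ?_⟩, ?_⟩
  · have hs₁' : φ.hom.app (op ((EtCoh.bc f).obj V₁)) s₁ =
        G.obj.map ((EtCoh.bc f).map a).op t' := hs₁
    rw [EtGlue.ab_hom_nat, hs₁', ← EtGlue.ab_map_comp, ← op_comp, ← hfac, op_comp,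
      EtGlue.ab_map_comp, ht1, ← EtGlue.ab_map_comp, ← op_comp]
  · exact (Scheme.Hom.comp_apply _ _ _).trans ((congrArg _ hz).trans hw)

set_option backward.isDefEq.respectTransparency.types false in
lemma faithful {X Y : Scheme.{u}} (f : X ⟶ Y) (hA : BigSite.PropA f) :
    (EtCoh.push f).Faithful := by
  constructor
  intro F G φ ψ hφψ
  apply Sheaf.hom_ext
  apply NatTrans.ext
  funext U
  obtain ⟨U⟩ := U
  apply ConcreteCategory.hom_ext
  intro s
  refine EtGlue.eq_of_locally_ab G _ _ ?_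
  intro u
  obtain ⟨V, v, hv, W, Wc, hd, hc, h, w, hw⟩ := exists_piece f hA U u
  haveI := hv
  refine ⟨_, h, w, hw, ?_⟩
  obtain ⟨t, ht1, ht2⟩ := EtGlue.extend_by_zero f v F W Wc hd hc (F.obj.map h.op s)
  have key : φ.hom.app (op ((EtCoh.bc f).obj (Scheme.Etale.mk v))) t =
      ψ.hom.app (op ((EtCoh.bc f).obj (Scheme.Etale.mk v))) t :=
    congrArg (fun α => α.hom.app (op (Scheme.Etale.mk v)) t) hφψ
  rw [← EtGlue.ab_hom_nat, ← EtGlue.ab_hom_nat, ← ht1, EtGlue.ab_hom_nat, EtGlue.ab_hom_nat, key]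

/-- Let f : X ⟶ Y be a morphism of schemes satisfying condition (A) (for every etale U ⟶ X and every
point u of U there are an etale V ⟶ Y, an open and closed subscheme W of X ×_Y V and an X-morphism W
⟶ U whose image contains u). Then, on abelian sheaves on the small etale sites, f_* reflects
monomorphisms and epimorphisms, the counit f⁻¹ f_* F ⟶ F is an epimorphism for every F, and f_* is
faithful. -/
theorem result {X Y : Scheme.{u}} (f : X ⟶ Y) (hA : BigSite.PropA f) :
    (EtCoh.push f).ReflectsMonomorphisms ∧ (EtCoh.push f).ReflectsEpimorphisms ∧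
      (∀ F : EtCoh.Ab X, Epi ((EtCoh.pullPushAdj f).counit.app F)) ∧ (EtCoh.push f).Faithful := by
  haveI := faithful f hA
  exact ⟨⟨fun φ hm => reflects_mono f hA φ hm⟩, ⟨fun φ he => reflects_epi f hA φ he⟩,
    fun F => inferInstance, faithful f hA⟩

end Groth.Agent.S6626
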