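import Groth.Statements.S6629
import Groth.Agent.Lib.Helper15.EtGlue
import Mathlib.CategoryTheory.Sites.LocallySurjective

set_option autoImplicit false
open CategoryTheory CategoryTheory.Limits AlgebraicGeometry Opposite
universe u
open EtDesc

open Groth.Agent.Lib.Helper13 Groth.Agent.Lib.Helper15

namespace Groth.Agent.S6629


lemma alg1 {X Y V V' Zl : Scheme.{u}} (f : X ⟶ Y) (v : V ⟶ Y) (v' : V' ⟶ V)
    (gz : Zl ⟶ pullback v f) (zh : Zl ⟶ X) (hz : gz ≫ pullback.snd v f = zh)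
    (W : (pullback f (v' ≫ v)).Opens) (h : (W : Scheme.{u}) ⟶ Zl)
    (hh : h ≫ gz ≫ (pullbackSymmetry v f).hom =
      W.ι ≫ pullback.map f (v' ≫ v) f v (𝟙 X) v' (𝟙 Y) (by simp) (by simp)) :
    h ≫ zh = W.ι ≫ pullback.fst f (v' ≫ v) := by
  rw [← hz, ← pullbackSymmetry_hom_comp_fst v f, reassoc_of% hh, pullback.lift_fst,
    Category.comp_id]

lemma alg2 {X Y V V' Zl : Scheme.{u}} (f : X ⟶ Y) (v : V ⟶ Y) (v' : V' ⟶ V)
    (gz : Zl ⟶ pullback v f) (W : (pullback f (v' ≫ v)).Opens) (h : (W : Scheme.{u}) ⟶ Zl)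
    (m : pullback (v' ≫ v) f ⟶ pullback v f)
    (e1 : m ≫ pullback.snd v f = pullback.snd (v' ≫ v) f)
    (e2 : m ≫ pullback.fst v f = pullback.fst (v' ≫ v) f ≫ v')
    (hh : h ≫ gz ≫ (pullbackSymmetry v f).hom =
      W.ι ≫ pullback.map f (v' ≫ v) f v (𝟙 X) v' (𝟙 Y) (by simp) (by simp)) :
    h ≫ gz = (W.ι ≫ (pullbackSymmetry (v' ≫ v) f).inv) ≫ m := by
  rw [← cancel_mono (pullbackSymmetry v f).hom, Category.assoc, hh,
    ← EtGlue.symm_conj_eq f v v' m e1 e2]
  simp only [Category.assoc]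

set_option backward.isDefEq.respectTransparency.types false in
lemma key {X Y V : Scheme.{u}} (f : X ⟶ Y) (hB : BigSite.PropB f) (v : V ⟶ Y) [Etale v]
    {F G : EtDesc.Sh X} (φ : F ⟶ G) (hls : Sheaf.IsLocallySurjective φ)
    (t : G.obj.obj (op ((EtCoh.bc f).obj (Scheme.Etale.mk v)))) (y : V) :
    ∃ (V₁ : Y.Etale) (a : V₁ ⟶ Scheme.Etale.mk v) (y₁ : V₁.left),
      (∃ s : F.obj.obj (op ((EtCoh.bc f).obj V₁)),
        φ.hom.app _ s = G.obj.map ((EtCoh.bc f).map a).op t) ∧ a.left y₁ = y := by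
  have hR := hls.imageSieve_mem t
  choose Z g z hg hz using (EtGlue.mem_iff _ _).1 hR
  choose sx hsx using hg
  -- apply condition (B)
  have hét : ∀ x : (pullback v f : Scheme.{u}),
      Etale ((g x).left ≫ (pullbackSymmetry v f).hom) := by
    intro x
    haveI : @Etale (Z x).left (pullback v f) (g x).left := (inferInstance : Etale (g x).left)
    infer_instance
  have hcov : ∀ x' : (pullback f v : Scheme.{u}), ∃ i : (pullback v f : Scheme.{u}),
      x' ∈ Set.range ((g i).left ≫ (pullbackSymmetry v f).hom).base := by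
    intro x'
    refine ⟨(pullbackSymmetry v f).inv x', z ((pullbackSymmetry v f).inv x'), ?_⟩
    exact (Scheme.Hom.comp_apply _ _ _).trans
      ((congrArg _ (hz _)).trans (EtGlue.symm_inv_hom_apply f v x'))
  obtain ⟨κ, V', v', hv', hcovV, hpieces⟩ :=
    hB V v (pullback v f : Scheme.{u}) (fun x => (Z x).left)
      (fun x => (g x).left ≫ (pullbackSymmetry v f).hom) hét hcov
  obtain ⟨j, y', hy'⟩ := hcovV y
  obtain ⟨μ, W, hdisj, hsup, hW⟩ := hpieces j
  choose i h hh using hW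
  haveI := hv' j
  haveI : Etale (v' j ≫ v) := inferInstance
  let a : Scheme.Etale.mk (v' j ≫ v) ⟶ Scheme.Etale.mk v :=
    MorphismProperty.Over.homMk (v' j) rfl
  have e1 : ((EtCoh.bc f).map a).left ≫ pullback.snd v f = pullback.snd (v' j ≫ v) f :=
    MorphismProperty.Over.w ((EtCoh.bc f).map a)
  have e2 : ((EtCoh.bc f).map a).left ≫ pullback.fst v f = pullback.fst (v' j ≫ v) f ≫ v' j :=
    (EtCoh.isPullback_bc_map f a).w
  have hZ : ∀ x, (g x).left ≫ pullback.snd v f = (Z x).hom := fun x =>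
    MorphismProperty.Over.w (g x)
  let h' : ∀ b, EtGlue.piece f (v' j ≫ v) (W b) ⟶ Z (i b) := fun b =>
    MorphismProperty.Over.homMk (h b)
      (alg1 f v (v' j) (g (i b)).left (Z (i b)).hom (hZ _) (W b) (h b) (hh b))
  have hh' : ∀ b, h' b ≫ g (i b) = EtGlue.pieceι f (v' j ≫ v) (W b) ≫ (EtCoh.bc f).map a := by
    intro b
    apply MorphismProperty.Over.Hom.ext
    exact alg2 f v (v' j) (g (i b)).left (W b) (h b) ((EtCoh.bc f).map a).left e1 e2 (hh b)
  have hcov' : ∀ x : ((EtCoh.bc f).obj (Scheme.Etale.mk (v' j ≫ v))).left,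
      ∃ b p, (EtGlue.pieceι f (v' j ≫ v) (W b)).left p = x := by
    intro x
    have hx : (pullbackSymmetry (v' j ≫ v) f).hom x ∈ (⨆ b, W b) := by rw [hsup]; trivial
    obtain ⟨b, hb⟩ := TopologicalSpace.Opens.mem_iSup.1 hx
    obtain ⟨p, hp⟩ := EtGlue.exists_pieceι_eq f (v' j ≫ v) (W b) x hb
    exact ⟨b, p, hp⟩
  obtain ⟨sj, hsj, -⟩ := EtGlue.glue F (fun b => EtGlue.piece f (v' j ≫ v) (W b))
    (fun b => EtGlue.pieceι f (v' j ≫ v) (W b)) (fun b => inferInstance)
    (fun b c hbc p q => EtGlue.pieceι_ne f (v' j ≫ v) (hdisj b c hbc) p q) hcov'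
    (fun b => F.obj.map (h' b).op (sx (i b)))
  refine ⟨Scheme.Etale.mk (v' j ≫ v), a, y', ⟨sj, ?_⟩, hy'⟩
  refine EtGlue.eq_of_ofArrows G _ _ hcov' _ _ ?_
  intro b
  rw [← EtSecPull.sh_hom_nat, hsj b, EtSecPull.sh_hom_nat, hsx, ← Functor.map_comp_apply,
    ← Functor.map_comp_apply, ← op_comp, ← op_comp, hh' b]

/-- Let f : X ⟶ Y be a morphism of schemes satisfying condition (B) (for every etale V ⟶ Y and every
etale covering of X ×_Y V there is an etale covering of V by schemes V_j such that each X ×_Y V_j is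
a disjoint union of open subschemes each mapping into X ×_Y V through a member of the given
covering). Then the direct image of sheaves of sets on the small etale sites along f sends
epimorphisms to epimorphisms. -/
theorem result {X Y : Scheme.{u}} (f : X ⟶ Y) (hB : BigSite.PropB f) :
    (EtDesc.pushSh f).PreservesEpimorphisms := by
  constructor
  intro F G φ hφ
  have hls : Sheaf.IsLocallySurjective φ := (Sheaf.isLocallySurjective_iff_epi _).mpr hφ
  rw [← Sheaf.isLocallySurjective_iff_epi]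
  constructor
  intro U t
  induction U with
  | mk V v hv =>
    rw [EtGlue.mem_iff]
    intro y
    obtain ⟨V₁, a, y₁, hs, hy⟩ := key f hB v φ hls t y
    exact ⟨V₁, a, y₁, hs, hy⟩

end Groth.Agent.S6629
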