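import Groth.Statements.S6631
import Groth.Agent.Lib.Helper13.EtSecPull
import Groth.Agent.Lib.Helper13.NonAbTorsor
import Mathlib.CategoryTheory.Sites.LocallySurjective

set_option autoImplicit false
open CategoryTheory CategoryTheory.Limits AlgebraicGeometry Opposite
universe u
open EtDesc
open Groth.Agent.Lib.Helper13

namespace Groth.Agent.S6631

/-- A morphism of sheaves of sets which is injective on sections is a monomorphism. -/
lemma mono_of_injective {X : Scheme.{u}} {F G : EtDesc.Sh X} (φ : F ⟶ G)
    (h : ∀ U : X.Etaleᵒᵖ, Function.Injective (φ.hom.app U)) : Mono φ := by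
  have : ∀ U, Mono (φ.hom.app U) := fun U => (mono_iff_injective _).mpr (h U)
  have : Mono φ.hom := NatTrans.mono_of_mono_app _
  exact Sheaf.Hom.mono_of_presheaf_mono _ _ φ

/-- Condition (C) gives, for every etale `U ⟶ X`, an etale `V ⟶ Y` and a surjective morphism from
the base change of `V` to `U` in the small etale site of `X`. -/
lemma exists_cover_of_propC {X Y : Scheme.{u}} (f : X ⟶ Y) (hC : BigSite.PropC f) (U : X.Etale) :
    ∃ (V : Y.Etale) (k : (EtCoh.bc f).obj V ⟶ U), Function.Surjective k.left.base := by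
  obtain ⟨V, v, hv, h, hh, hsurj⟩ := hC U.left U.hom
  refine ⟨Scheme.Etale.mk v, MorphismProperty.Over.homMk ((pullbackSymmetry v f).hom ≫ h) ?_, ?_⟩
  · rw [Category.assoc, hh]
    exact pullbackSymmetry_hom_comp_fst v f
  · change Function.Surjective ((pullbackSymmetry v f).hom ≫ h).base
    rw [Scheme.Hom.comp_base, TopCat.coe_comp]
    exact hsurj.1.comp (pullbackSymmetry v f).hom.homeomorph.surjective

lemma cover_mem {X : Scheme.{u}} {U W : X.Etale} (k : W ⟶ U) (hk : Function.Surjective k.left.base) :
    Sieve.ofArrows (fun _ : Unit => W) (fun _ => k) ∈ X.smallEtaleTopology U := by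
  rw [Scheme.ofArrows_mem_smallEtaleTopology_iff]
  ext w
  simp only [Set.mem_iUnion, Set.mem_range, Set.mem_univ, iff_true]
  obtain ⟨z, hz⟩ := hk w
  exact ⟨(), z, hz⟩

/-- Let f : X ⟶ Y be a morphism of schemes satisfying condition (C) (for every etale U ⟶ X there are an
etale V ⟶ Y and a surjective X-morphism X ×_Y V ⟶ U). Then the direct image of sheaves of sets on
the small etale sites along f reflects monomorphisms and epimorphisms. -/
theorem result {X Y : Scheme.{u}} (f : X ⟶ Y) (hC : BigSite.PropC f) :
    (EtDesc.pushSh f).ReflectsMonomorphisms ∧ (EtDesc.pushSh f).ReflectsEpimorphisms := by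
  constructor
  · constructor
    intro F G φ hφ
    apply mono_of_injective
    intro U s t hst
    obtain ⟨V, k, hk⟩ := exists_cover_of_propC f hC U.unop
    have hinj : Function.Injective (φ.hom.app (op ((EtCoh.bc f).obj V))) :=
      EtSecPull.injective_of_mono ((EtDesc.pushSh f).map φ) (op V)
    have h1 : F.obj.map k.op s = F.obj.map k.op t := by
      apply hinj
      rw [EtSecPull.sh_hom_nat, EtSecPull.sh_hom_nat, hst]
    refine NonAbTorsor.sheaf_ext F _ (cover_mem k hk) ?_
    rintro Z m ⟨Z', j, _, ⟨_⟩, rfl⟩
    rw [op_comp, Functor.map_comp_apply, Functor.map_comp_apply, h1]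
  · constructor
    intro F G φ hφ
    have hls : Sheaf.IsLocallySurjective ((EtDesc.pushSh f).map φ) :=
      (Sheaf.isLocallySurjective_iff_epi _).mpr hφ
    rw [← Sheaf.isLocallySurjective_iff_epi]
    constructor
    intro U t
    obtain ⟨V, k, hk⟩ := exists_cover_of_propC f hC U
    -- the image sieve on `Y`
    have hR := Presheaf.imageSieve_mem Y.smallEtaleTopology ((EtDesc.pushSh f).map φ).hom
      (U := op V) (G.obj.map k.op t)
    have hR' := (EtCoh.coverPreserving_bc f).cover_preserve hR
    -- it suffices to show that the pullback along `k` is covering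
    refine X.smallEtaleTopology.transitive (cover_mem k hk) _ ?_
    rintro Z m ⟨Z', j, _, ⟨_⟩, rfl⟩
    rw [Sieve.pullback_comp]
    apply X.smallEtaleTopology.pullback_stable
    refine X.smallEtaleTopology.superset_covering ?_ hR'
    rintro Z₁ m₁ ⟨V₁, a, c, ⟨s, hs⟩, rfl⟩
    refine ⟨F.obj.map c.op s, ?_⟩
    rw [EtSecPull.sh_hom_nat]
    have hs' : φ.hom.app (op ((EtCoh.bc f).obj V₁)) s =
        G.obj.map ((EtCoh.bc f).map a).op (G.obj.map k.op t) := hs
    rw [hs', ← Functor.map_comp_apply, ← Functor.map_comp_apply, ← op_comp, ← op_comp, Category.assoc]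

end Groth.Agent.S6631
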