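import Groth.Statements.S6632


set_option autoImplicit false
open CategoryTheory CategoryTheory.Limits AlgebraicGeometry Opposite
universe u
open EtCore

namespace Groth.Agent.S6632


set_option backward.isDefEq.respectTransparency.types false in
lemma mem_iff {X : Scheme.{u}} (W : X.Etale) (R : Sieve W) :
    R ∈ X.smallEtaleTopology W ↔
      ∀ x : W.left, ∃ (Z : X.Etale) (g : Z ⟶ W) (z : Z.left), R g ∧ g.left z = x := by
  have eX : X.smallEtaleTopology =
      (X.smallPretopology (P := EtCoh.etaleMP) (Q := EtCoh.etaleMP)).toGrothendieck :=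
    Scheme.smallGrothendieckTopology_eq_toGrothendieck_smallPretopology X le_rfl
  rw [eX]
  constructor
  · intro h x
    obtain ⟨Z, g, z, hg, -, hz⟩ := (Scheme.mem_toGrothendieck_smallPretopology W R).1 h x
    exact ⟨Z, g, z, hg, hz⟩
  · intro h
    refine (Scheme.mem_toGrothendieck_smallPretopology W R).2 ?_
    intro x
    obtain ⟨Z, g, z, hg, hz⟩ := h x
    exact ⟨Z, g, z, hg, inferInstance, hz⟩

set_option backward.isDefEq.respectTransparency.types false in
lemma bot_mem_of_isEmpty {X : Scheme.{u}} (W : X.Etale) (h : IsEmpty W.left) :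
    (⊥ : Sieve W) ∈ X.smallEtaleTopology W := by
  rw [mem_iff]
  intro x
  exact (h.false x).elim

set_option backward.isDefEq.respectTransparency.types false in
/-- The largest sieve answering `R`. -/
noncomputable def maxSieve {X Y : Scheme.{u}} (f : X ⟶ Y) (V : Y.Etale)
    (R : Sieve ((EtCoh.bc f).obj V)) : Sieve V where
  arrows V'' g := IsEmpty ((EtCoh.bc f).obj V'').left ∨ R ((EtCoh.bc f).map g)
  downward_closed := by
    intro A B g hg b
    rcases hg with h | h
    · exact Or.inl ⟨fun t => h.false (((EtCoh.bc f).map b).left t)⟩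
    · refine Or.inr ?_
      rw [Functor.map_comp]
      exact R.downward_closed h _

lemma maxSieve_apply {X Y : Scheme.{u}} (f : X ⟶ Y) (V : Y.Etale)
    (R : Sieve ((EtCoh.bc f).obj V)) {V'' : Y.Etale} (g : V'' ⟶ V) :
    maxSieve f V R g ↔ (IsEmpty ((EtCoh.bc f).obj V'').left ∨ R ((EtCoh.bc f).map g)) := Iff.rfl

lemma range_fst_eq {X Y V : Scheme.{u}} (f : X ⟶ Y) (v : V ⟶ Y) :
    Set.range (pullback.fst v f) = Set.range (pullback.snd f v) := by
  ext y
  constructor
  · rintro ⟨w, rfl⟩
    refine ⟨(pullbackSymmetry v f).hom w, ?_⟩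
    rw [← Scheme.Hom.comp_apply, pullbackSymmetry_hom_comp_snd]
  · rintro ⟨w, rfl⟩
    refine ⟨(pullbackSymmetry v f).inv w, ?_⟩
    rw [← Scheme.Hom.comp_apply, pullbackSymmetry_inv_comp_fst]

/-- The scheme-theoretic core: condition (C) for `X ×_Y V ⟶ V` refines an etale `Z ⟶ V ×_Y X`
by a base change `V' ×_Y X` with `V' ⟶ V` etale hitting every point of the image of `Z` in `V`. -/
lemma core {X Y V Z : Scheme.{u}} (f : X ⟶ Y) (v : V ⟶ Y) (gz : Z ⟶ pullback v f) [Etale gz]
    (hC : BigSite.PropC (pullback.snd f v)) :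
    ∃ (V' : Scheme.{u}) (v' : V' ⟶ V) (_ : Etale v') (κ : pullback (v' ≫ v) f ⟶ Z),
      κ ≫ gz ≫ pullback.fst v f = pullback.fst (v' ≫ v) f ≫ v' ∧
      κ ≫ gz ≫ pullback.snd v f = pullback.snd (v' ≫ v) f ∧
      ∀ z : Z, ∃ y' : V', v' y' = pullback.fst v f (gz z) := by
  haveI : Etale (gz ≫ (pullbackSymmetry v f).hom) := inferInstance
  obtain ⟨V', v', hv', h, hh, hsurj⟩ := hC Z (gz ≫ (pullbackSymmetry v f).hom)
  obtain ⟨θ, hθ1, hθ2, -⟩ : ∃ θ : pullback (v' ≫ v) f ⟶ pullback (pullback.snd f v) v',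
      θ ≫ pullback.fst _ _ ≫ pullback.fst f v = pullback.snd (v' ≫ v) f ∧
      θ ≫ pullback.fst _ _ ≫ pullback.snd f v = pullback.fst (v' ≫ v) f ≫ v' ∧
      θ ≫ pullback.snd _ _ = pullback.fst (v' ≫ v) f :=
    ⟨pullback.lift (pullback.lift (pullback.snd (v' ≫ v) f) (pullback.fst (v' ≫ v) f ≫ v')
        (by rw [Category.assoc, pullback.condition])) (pullback.fst (v' ≫ v) f)
        (by rw [pullback.lift_snd]),
      by rw [pullback.lift_fst_assoc, pullback.lift_fst],
      by rw [pullback.lift_fst_assoc, pullback.lift_snd],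
      by rw [pullback.lift_snd]⟩
  refine ⟨V', v', hv', θ ≫ h, ?_, ?_, ?_⟩
  · rw [← pullbackSymmetry_hom_comp_snd v f, Category.assoc, reassoc_of% hh]
    exact hθ2
  · rw [← pullbackSymmetry_hom_comp_fst v f, Category.assoc, reassoc_of% hh]
    exact hθ1
  · intro z
    obtain ⟨t, ht⟩ := hsurj.1 z
    refine ⟨pullback.snd (pullback.snd f v) v' t, ?_⟩
    have e1 : pullback.snd (pullback.snd f v) v' ≫ v' = h ≫ gz ≫ pullback.fst v f := by
      rw [← pullback.condition, ← hh, Category.assoc, Category.assoc,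
        pullbackSymmetry_hom_comp_snd]
    rw [← Scheme.Hom.comp_apply, e1, Scheme.Hom.comp_apply, Scheme.Hom.comp_apply]
    have ht' : h t = z := ht
    rw [ht']

set_option backward.isDefEq.respectTransparency.types false in
/-- The empty case: over the complement of the image, the base change is empty. -/
lemma case_empty {X Y : Scheme.{u}} (f : X ⟶ Y) (V : Y.Etale)
    (R : Sieve ((EtCoh.bc f).obj V))
    (hclosed : IsClosed (Set.range (pullback.fst V.hom f)))
    (y : V.left) (hy : y ∉ Set.range (pullback.fst V.hom f)) :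
    ∃ (Z : Y.Etale) (g : Z ⟶ V) (z : Z.left), maxSieve f V R g ∧ g.left z = y := by
  obtain ⟨U0, hU0⟩ : ∃ U0 : V.left.Opens, (U0 : Set V.left) = (Set.range (pullback.fst V.hom f))ᶜ :=
    ⟨⟨_, hclosed.isOpen_compl⟩, rfl⟩
  obtain ⟨y0, hy0⟩ : y ∈ Set.range U0.ι := by
    rw [Scheme.Opens.range_ι, hU0]
    exact hy
  have : Etale (U0.ι ≫ V.hom) := inferInstance
  let g0 : Scheme.Etale.mk (U0.ι ≫ V.hom) ⟶ V := MorphismProperty.Over.homMk U0.ι rfl
  refine ⟨Scheme.Etale.mk (U0.ι ≫ V.hom), g0, y0, ?_, hy0⟩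
  rw [maxSieve_apply]
  refine Or.inl ⟨fun t => ?_⟩
  have sq := (EtCoh.isPullback_bc_map f g0).w
  have e : (((EtCoh.bc f).map g0).left ≫ pullback.fst V.hom f) t =
      (pullback.fst (Scheme.Etale.mk (U0.ι ≫ V.hom)).hom f ≫ g0.left) t := by
    rw [sq]
    rfl
  rw [Scheme.Hom.comp_apply, Scheme.Hom.comp_apply] at e
  have h2 : g0.left (pullback.fst (Scheme.Etale.mk (U0.ι ≫ V.hom)).hom f t) ∈ (U0 : Set V.left) := by
    have h3 : U0.ι (pullback.fst (Scheme.Etale.mk (U0.ι ≫ V.hom)).hom f t) ∈ Set.range U0.ι :=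
      ⟨_, rfl⟩
    rw [Scheme.Opens.range_ι] at h3
    exact h3
  rw [hU0] at h2
  exact h2 ⟨_, e⟩

set_option backward.isDefEq.respectTransparency.types false in
/-- The main case: over a point of the image, condition (C) gives a member of the sieve. -/
lemma case_image {X Y : Scheme.{u}} (f : X ⟶ Y) (V : Y.Etale)
    (R : Sieve ((EtCoh.bc f).obj V)) (hR : R ∈ X.smallEtaleTopology ((EtCoh.bc f).obj V))
    (hC : BigSite.PropC (X := pullback f V.hom) (Y := V.left) (pullback.snd f V.hom))
    (w : ((EtCoh.bc f).obj V).left) :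
    ∃ (Z : Y.Etale) (g : Z ⟶ V) (z : Z.left), maxSieve f V R g ∧
      g.left z = pullback.fst V.hom f w := by
  obtain ⟨Z, g, z, hg, hz⟩ := (mem_iff _ R).1 hR w
  have hge : @Etale Z.left (pullback V.hom f) g.left := (inferInstance : Etale g.left)
  obtain ⟨V', v', hv', κ, hκ1, hκ2, hpt⟩ :=
    @core X Y V.left Z.left f V.hom g.left hge hC
  have := hv'
  have : Etale (v' ≫ V.hom) := inferInstance
  let a : Scheme.Etale.mk (v' ≫ V.hom) ⟶ V := MorphismProperty.Over.homMk v' rfl
  obtain ⟨y', hy'⟩ := hpt z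
  refine ⟨Scheme.Etale.mk (v' ≫ V.hom), a, y', ?_, ?_⟩
  · rw [maxSieve_apply]
    refine Or.inr ?_
    have hZ : g.left ≫ pullback.snd V.hom f = Z.hom := MorphismProperty.Over.w g
    have hk : κ ≫ Z.hom = pullback.snd (v' ≫ V.hom) f := by
      rw [← hZ]
      exact hκ2
    let k : (EtCoh.bc f).obj (Scheme.Etale.mk (v' ≫ V.hom)) ⟶ Z :=
      MorphismProperty.Over.homMk κ hk
    have hkg : k ≫ g = (EtCoh.bc f).map a := by
      apply MorphismProperty.Over.Hom.ext
      change κ ≫ g.left = ((EtCoh.bc f).map a).left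
      refine pullback.hom_ext (f := V.hom) (g := f) ?_ ?_
      · exact (Category.assoc _ _ _).trans (hκ1.trans ((EtCoh.isPullback_bc_map f a).w).symm)
      · exact (Category.assoc _ _ _).trans
          (hκ2.trans (MorphismProperty.Over.w ((EtCoh.bc f).map a)).symm)
    rw [← hkg]
    exact R.downward_closed hg k
  · exact hy'.trans (congrArg _ hz)

/-- Let f : X ⟶ Y be a morphism of schemes such that, for every etale V ⟶ Y, the base change X ×_Y V ⟶ V
satisfies condition (C) (for every etale U ⟶ X ×_Y V there are an etale V' ⟶ V and a surjective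
morphism from the base change of V' to U over X ×_Y V) and is closed as a map of topological spaces.
Then the base change functor V ↦ X ×_Y V from the small etale site of Y to that of X is almost
cocontinuous: every covering sieve of X ×_Y V contains the images of the members of some covering
sieve of V, except for members V' for which X ×_Y V' is covered by the empty sieve. -/
theorem result {X Y : Scheme.{u}} (f : X ⟶ Y)
    (hC : ∀ (V : Scheme.{u}) (v : V ⟶ Y) [Etale v], BigSite.PropC (pullback.snd f v))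
    (hcl : ∀ (V : Scheme.{u}) (v : V ⟶ Y) [Etale v], IsClosedMap (pullback.snd f v).base) :
    BigSite.IsAlmostCocontinuous (EtCoh.bc f) Y.smallEtaleTopology X.smallEtaleTopology := by
  intro V R hR
  refine ⟨maxSieve f V R, ?_, ?_⟩
  · rw [mem_iff]
    intro y
    have hclosed : IsClosed (Set.range (pullback.fst V.hom f)) := by
      rw [range_fst_eq]
      exact (hcl V.left V.hom).isClosed_range
    by_cases hy : y ∈ Set.range (pullback.fst V.hom f)
    · obtain ⟨w, rfl⟩ := hy
      exact case_image f V R hR (hC V.left V.hom) w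
    · exact case_empty f V R hclosed y hy
  · intro V'' g hg
    rw [maxSieve_apply] at hg
    rcases hg with h | h
    · exact Or.inl (bot_mem_of_isEmpty _ h)
    · exact Or.inr h

end Groth.Agent.S6632
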