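import Groth.Statements.S6635
import Groth.Agent.Lib.Helper15.ClosedNbhd
import Groth.Agent.Lib.Helper8.EtaleSectionSch

set_option autoImplicit false
open CategoryTheory CategoryTheory.Limits AlgebraicGeometry Opposite
universe u
open BigSite

namespace Groth.Agent.S6635

open Groth.Agent.Lib.Helper15

/-- Pointwise criterion for covering sieves of the big `P`-topology. -/
lemma mem_iff (P : MorphismProperty Scheme.{u}) [P.IsStableUnderBaseChange] [P.IsMultiplicative]
    {X : Scheme.{u}} (S : Sieve X) :
    S ∈ (Scheme.precoverage P).toGrothendieck X ↔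
      ∀ x : X, ∃ (Y : Scheme.{u}) (g : Y ⟶ X), P g ∧ S g ∧ x ∈ Set.range g := by
  change S ∈ Scheme.grothendieckTopology P X ↔ _
  rw [Scheme.mem_grothendieckTopology_iff]
  constructor
  · rintro ⟨𝒰, hle⟩ x
    obtain ⟨i, y, hy⟩ := 𝒰.exists_eq x
    exact ⟨𝒰.X i, 𝒰.f i, 𝒰.map_prop i, hle _ _ ⟨i⟩, y, hy⟩
  · intro h
    choose Y g hP hS hx using h
    choose y hy using hx
    refine ⟨Scheme.Cover.mkOfCovers X (fun x => Y x) (fun x => g x)
      (fun x => ⟨x, y x, hy x⟩) hP, ?_⟩
    rintro Z k ⟨x⟩
    exact hS x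

lemma key1 {X Y V : Scheme.{u}} (f : X ⟶ Y) [IsClosedImmersion f] (q : V ⟶ X) [Etale q] (u : V) :
    ∃ (W : Scheme.{u}) (p : W ⟶ Y) (_ : Etale p) (z : W) (t : pullback p f ⟶ V),
      p.base z = f.base (q.base u) ∧ t ≫ q = pullback.snd p f := by
  obtain ⟨W, p, hp, w, h1, t, ht1, -⟩ := ClosedNbhd.exists_lift_nbhd f q
    (Ω := V.residueField u)
    (V.fromSpecResidueField u : Spec (CommRingCat.of (V.residueField u)) ⟶ V)
  refine ⟨W, p, hp, w.base default, t, ?_, ht1⟩
  have e1 : (w ≫ p).base default =
      ((V.fromSpecResidueField u ≫ q) ≫ f).base default :=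
    congrArg (fun g => g.base default) h1
  have e2 : (V.fromSpecResidueField u).base default = u := Scheme.fromSpecResidueField_apply _ _
  rw [Scheme.Hom.comp_apply, Scheme.Hom.comp_apply, Scheme.Hom.comp_apply, e2] at e1
  exact e1

lemma core {X Y V Z : Scheme.{u}} (f : X ⟶ Y) [IsClosedImmersion f] (v : V ⟶ Y)
    (gz : Z ⟶ pullback v f) [Etale gz] (z : Z) :
    ∃ (V' : Scheme.{u}) (p : V' ⟶ V) (_ : Etale p) (y' : V') (k : pullback (p ≫ v) f ⟶ Z),
      p.base y' = (pullback.fst v f).base (gz.base z) ∧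
      k ≫ gz ≫ pullback.fst v f = pullback.fst (p ≫ v) f ≫ p ∧
      k ≫ gz ≫ pullback.snd v f = pullback.snd (p ≫ v) f := by
  obtain ⟨W, p, hp, y', t, hy', ht⟩ := key1 (pullback.fst v f) gz z
  obtain ⟨m, hm1, hm2⟩ : ∃ m : pullback (p ≫ v) f ⟶ pullback v f,
      m ≫ pullback.fst v f = pullback.fst (p ≫ v) f ≫ p ∧
      m ≫ pullback.snd v f = pullback.snd (p ≫ v) f :=
    ⟨pullback.lift (pullback.fst (p ≫ v) f ≫ p) (pullback.snd (p ≫ v) f)
      (by rw [Category.assoc, pullback.condition]), pullback.lift_fst _ _ _,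
      pullback.lift_snd _ _ _⟩
  refine ⟨W, p, hp, y', pullback.lift (pullback.fst (p ≫ v) f) m hm1.symm ≫ t, hy', ?_, ?_⟩
  · rw [Category.assoc, reassoc_of% ht, pullback.lift_snd_assoc, hm1]
  · rw [Category.assoc, reassoc_of% ht, pullback.lift_snd_assoc, hm2]

lemma isEmpty_of_compl {X Y V : Scheme.{u}} (f : X ⟶ Y) (v : V ⟶ Y) (U0 : V.Opens)
    (hU0 : (U0 : Set V) = (Set.range (pullback.fst v f))ᶜ) :
    IsEmpty ↥(pullback (U0.ι ≫ v) f) := by
  refine ⟨fun t => ?_⟩
  have h1 : U0.ι (pullback.fst (U0.ι ≫ v) f t) ∈ (U0 : Set V) := by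
    have h3 : U0.ι (pullback.fst (U0.ι ≫ v) f t) ∈ Set.range U0.ι := ⟨_, rfl⟩
    rw [Scheme.Opens.range_ι] at h3
    exact h3
  rw [hU0] at h1
  apply h1
  refine ⟨pullback.lift (pullback.fst (U0.ι ≫ v) f ≫ U0.ι) (pullback.snd (U0.ι ≫ v) f)
    (by rw [Category.assoc, pullback.condition]) t, ?_⟩
  rw [← Scheme.Hom.comp_apply, pullback.lift_fst, Scheme.Hom.comp_apply]

/-- The largest sieve answering `R`. -/
noncomputable def maxSieve {X Y : Scheme.{u}} (f : X ⟶ Y) (V : Over Y)
    (R : Sieve ((Over.pullback f).obj V)) : Sieve V where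
  arrows V'' g := IsEmpty ((Over.pullback f).obj V'').left ∨ R ((Over.pullback f).map g)
  downward_closed := by
    intro A B g hg b
    rcases hg with h | h
    · exact Or.inl ⟨fun t => h.false (((Over.pullback f).map b).left t)⟩
    · refine Or.inr ?_
      rw [Functor.map_comp]
      exact R.downward_closed h _

lemma maxSieve_apply {X Y : Scheme.{u}} (f : X ⟶ Y) (V : Over Y)
    (R : Sieve ((Over.pullback f).obj V)) {V'' : Over Y} (g : V'' ⟶ V) :
    maxSieve f V R g ↔
      (IsEmpty ((Over.pullback f).obj V'').left ∨ R ((Over.pullback f).map g)) := Iff.rfl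

lemma main (P : MorphismProperty Scheme.{u}) [P.IsStableUnderBaseChange] [P.IsMultiplicative]
    (hEP : ∀ {A B : Scheme.{u}} (g : A ⟶ B), Etale g → P g)
    (hPS : ∀ {A B : Scheme.{u}} (g : A ⟶ B), P g → Smooth g)
    {X Y : Scheme.{u}} (f : X ⟶ Y) [IsClosedImmersion f] :
    BigSite.IsAlmostCocontinuous (Over.pullback f) (QuotSh.J (Scheme.precoverage P) Y)
      (QuotSh.J (Scheme.precoverage P) X) := by
  intro V R hR
  refine ⟨maxSieve f V R, ?_, ?_⟩
  · rw [GrothendieckTopology.mem_over_iff, mem_iff]
    intro y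
    rw [GrothendieckTopology.mem_over_iff, mem_iff] at hR
    by_cases hy : y ∈ Set.range (pullback.fst V.hom f)
    · obtain ⟨w, rfl⟩ := hy
      obtain ⟨A, g, hPg, hRg, a, ha⟩ := hR w
      haveI : Smooth g := hPS g hPg
      obtain ⟨S', e, s', he, hes, h, hh⟩ :=
        Groth.Agent.Lib.Helper8.EtaleSectionSch.exists_etale_nhd_section g w ⟨a, ha⟩
      haveI := he
      have hRe : Sieve.overEquiv _ R e := by
        rw [← hh]
        exact Sieve.downward_closed _ hRg h
      obtain ⟨V', p, hp, y', k, hy', hk1, hk2⟩ := core f V.hom e s'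
      refine ⟨V', p, hEP p hp, ?_, y', ?_⟩
      · rw [Sieve.overEquiv_iff, maxSieve_apply]
        refine Or.inr ?_
        rw [Sieve.overEquiv_iff] at hRe
        have hkg : (Over.homMk k hk2 : (Over.pullback f).obj (Over.mk (p ≫ V.hom)) ⟶
            Over.mk (e ≫ ((Over.pullback f).obj V).hom)) ≫ Over.homMk e =
            (Over.pullback f).map (Over.homMk p) := by
          apply Over.OverMorphism.ext
          simp only [Over.comp_left, Over.homMk_left, Over.pullback_map_left]
          apply pullback.hom_ext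
          · rw [Category.assoc, hk1, pullback.lift_fst]
            rfl
          · rw [Category.assoc, hk2, pullback.lift_snd]
            rfl
        rw [← hkg]
        exact R.downward_closed hRe _
      · rw [hy', hes]
    · have hclosed : IsClosed (Set.range (pullback.fst V.hom f)) :=
        (pullback.fst V.hom f).isClosedEmbedding.isClosed_range
      obtain ⟨U0, hU0⟩ : ∃ U0 : V.left.Opens,
          (U0 : Set V.left) = (Set.range (pullback.fst V.hom f))ᶜ :=
        ⟨⟨_, hclosed.isOpen_compl⟩, rfl⟩
      have hy0 : y ∈ Set.range U0.ι := by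
        rw [Scheme.Opens.range_ι, hU0]
        exact hy
      refine ⟨U0, U0.ι, hEP _ inferInstance, ?_, hy0⟩
      rw [Sieve.overEquiv_iff, maxSieve_apply]
      exact Or.inl (isEmpty_of_compl f V.hom U0 hU0)
  · intro V'' g hg
    rw [maxSieve_apply] at hg
    rcases hg with h | h
    · refine Or.inl ?_
      rw [GrothendieckTopology.mem_over_iff, mem_iff]
      intro x
      exact (h.false x).elim
    · exact Or.inr h

/-- For the etale and the smooth topologies: for a closed immersion of schemes f : X ⟶ Y the base change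
functor V ↦ X ×_Y V from schemes over Y to schemes over X is almost cocontinuous between the big
sites: every covering sieve of X ×_Y V is answered by a covering sieve of V each of whose members
V_j either has X ×_Y V_j covered by the empty sieve or has X ×_Y V_j ⟶ X ×_Y V in the given sieve.
(The published statement also covers the syntomic topology; this row treats the etale and smooth
topologies only.) -/
theorem result {X Y : Scheme.{u}} (f : X ⟶ Y) [IsClosedImmersion f]
    (K : Precoverage Scheme.{u}) (hK : K = Scheme.etalePrecoverage ∨ K = Scheme.precoverage @Smooth) :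
    BigSite.IsAlmostCocontinuous (Over.pullback f) (QuotSh.J K Y) (QuotSh.J K X) := by
  haveI : MorphismProperty.ContainsIdentities (@Smooth.{u}) := ⟨fun X => inferInstance⟩
  haveI : MorphismProperty.IsMultiplicative (@Smooth.{u}) := {}
  rcases hK with rfl | rfl
  · exact main @Etale (fun g h => h) (fun g h => by haveI := h; infer_instance) f
  · exact main @Smooth (fun g h => by haveI := h; infer_instance) (fun g h => h) f

end Groth.Agent.S6635
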