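import Groth.Statements.S6637
-- import your own Groth.Agent.* helpers here

set_option autoImplicit false
open CategoryTheory CategoryTheory.Limits AlgebraicGeometry Opposite
universe u
open BigSite

namespace Groth.Agent.S6637

universe v' u'

instance overMap_faithful {C : Type*} [Category C] {X Y : C} (f : X ⟶ Y) : (Over.map f).Faithful where
  map_injective {U V} k k' h := by
    apply Over.OverMorphism.ext
    have := congrArg CommaMorphism.left h
    simpa using this

instance overMap_full {C : Type*} [Category C] {X Y : C} (f : X ⟶ Y) [Mono f] : (Over.map f).Full where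
  map_surjective {U V} g := by
    refine ⟨Over.homMk g.left ?_, ?_⟩
    · have := Over.w g
      simp only [Over.map_obj_hom] at this
      rw [← cancel_mono f, Category.assoc, this]
    · ext
      simp

lemma counit_app_app {X Y : Scheme.{u}} (f : X ⟶ Y) (K : Precoverage Scheme.{u}) (A : Type u')
    [Category.{v'} A] (F : Sheaf (QuotSh.J K X) A) (U : (Over X)ᵒᵖ) :
    ((BigSite.bigAdj K f A).counit.app F).hom.app U =
      F.obj.map ((Over.mapPullbackAdj f).unit.app U.unop).op := by
  simp [BigSite.bigAdj]

lemma isIso_counit {X Y : Scheme.{u}} (f : X ⟶ Y) [Mono f] (K : Precoverage Scheme.{u}) (A : Type u')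
    [Category.{v'} A] (F : Sheaf (QuotSh.J K X) A) : IsIso ((BigSite.bigAdj K f A).counit.app F) := by
  have hunit : IsIso (Over.mapPullbackAdj f).unit := inferInstance
  have h1 : IsIso ((sheafToPresheaf _ _).map ((BigSite.bigAdj K f A).counit.app F)) := by
    change IsIso ((BigSite.bigAdj K f A).counit.app F).hom
    rw [NatTrans.isIso_iff_isIso_app]
    intro U
    rw [counit_app_app]
    have h2 : IsIso ((Over.mapPullbackAdj f).unit.app (unop U)) := inferInstance
    have h3 : IsIso ((Over.mapPullbackAdj f).unit.app (unop U)).op := inferInstance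
    exact Functor.map_isIso F.obj _
  exact isIso_of_reflects_iso _ (sheafToPresheaf _ _)

/-- For the Zariski, etale, smooth and fppf topologies: for a monomorphism of schemes f : X ⟶ Y the
counit f_big⁻¹ f_big,* F ⟶ F is an isomorphism for every sheaf of sets F on the big site of X, and
for every abelian sheaf. (The published statement also covers the syntomic topology; this row treats
the Zariski, etale, smooth and fppf topologies only.) -/
theorem result {X Y : Scheme.{u}} (f : X ⟶ Y) [Mono f]
    (K : Precoverage Scheme.{u}) (hK : K = Scheme.zariskiPrecoverage ∨ K = Scheme.etalePrecoverage ∨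
      K = Scheme.precoverage @Smooth ∨ K = Scheme.fppfPrecoverage) :
    (∀ F : QuotSh.Sh K X, IsIso ((BigSite.bigAdj K f (Type (u + 1))).counit.app F)) ∧
      (∀ F : BigSite.Ab K X, IsIso ((BigSite.bigAdj K f AddCommGrpCat.{u + 1}).counit.app F)) := by
  exact ⟨fun F => isIso_counit f K _ F, fun F => isIso_counit f K _ F⟩

end Groth.Agent.S6637
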