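import Groth.Statements.S6639
import Mathlib

set_option autoImplicit false
universe u
open scoped TensorProduct
open EtBase

namespace Groth.Agent.S6639

theorem mem_range_of_aeval_eq_zero {k k' : Type*} [Field k] [IsAlgClosed k] [Field k']
    [Algebra k k'] (x : k') (P : Polynomial k) (hP : P ≠ 0) (h : Polynomial.aeval x P = 0) :
    x ∈ (algebraMap k k').range := by
  have hint : IsIntegral k x := isAlgebraic_iff_isIntegral.1 ⟨P, hP, h⟩
  have hirr := minpoly.irreducible hint
  have hdeg := IsAlgClosed.degree_eq_one_of_irreducible k hirr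
  exact minpoly.mem_range_of_degree_eq_one k x hdeg

theorem mem_range_of_frobenius_stable {k k' : Type*} [Field k] [IsAlgClosed k] [Field k']
    [Algebra k k'] (p : ℕ) [Fact p.Prime]
    (D : Submodule k k') [FiniteDimensional k D] (hD : ∀ x ∈ D, x ^ p ∈ D) (x : k')
    (hx : x ∈ D) : x ∈ (algebraMap k k').range := by
  classical
  have hpow : ∀ m : ℕ, x ^ (p ^ m) ∈ D := by
    intro m
    induction m with
    | zero => simpa using hx
    | succ m ih =>
      rw [pow_succ, pow_mul]
      exact hD _ ih
  obtain ⟨r, hr⟩ : ∃ r : ℕ, r = Module.finrank k D := ⟨_, rfl⟩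
  let v : Fin (r + 1) → D := fun m => ⟨x ^ (p ^ (m : ℕ)), hpow m⟩
  have hnli : ¬ LinearIndependent k v := by
    intro hli
    have h1 := hli.fintype_card_le_finrank
    rw [Fintype.card_fin] at h1
    omega
  obtain ⟨g, hg, m₀, hm₀⟩ := Fintype.not_linearIndependent_iff.1 hnli
  have hg' : ∑ m : Fin (r + 1), algebraMap k k' (g m) * x ^ (p ^ (m : ℕ)) = 0 := by
    have h1 := congrArg D.subtype hg
    rw [map_sum, map_zero] at h1
    refine Eq.trans (Finset.sum_congr rfl (fun m _ => ?_)) h1
    rw [map_smul, Algebra.smul_def]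
    rfl
  have hPx : Polynomial.aeval x
      (∑ m : Fin (r + 1), Polynomial.C (g m) * Polynomial.X ^ (p ^ (m : ℕ))) = 0 := by
    rw [map_sum]
    refine Eq.trans (Finset.sum_congr rfl (fun m _ => ?_)) hg'
    rw [map_mul, Polynomial.aeval_C, map_pow, Polynomial.aeval_X]
  have hP0 : (∑ m : Fin (r + 1), Polynomial.C (g m) * Polynomial.X ^ (p ^ (m : ℕ))) ≠ 0 := by
    intro h0
    have h1 : (∑ m : Fin (r + 1), Polynomial.C (g m) *
        Polynomial.X ^ (p ^ (m : ℕ))).coeff (p ^ (m₀ : ℕ)) = g m₀ := by
      rw [Polynomial.finset_sum_coeff, Finset.sum_eq_single m₀]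
      · rw [Polynomial.coeff_C_mul, Polynomial.coeff_X_pow, if_pos rfl, mul_one]
      · intro m _ hm
        have hne : ¬ (p ^ (m₀ : ℕ) = p ^ (m : ℕ)) := by
          intro heq
          exact hm (Fin.ext (Nat.pow_right_injective (Fact.out : p.Prime).two_le heq).symm)
        rw [Polynomial.coeff_C_mul, Polynomial.coeff_X_pow, if_neg hne, mul_zero]
      · intro h; exact absurd (Finset.mem_univ _) h
    rw [h0, Polynomial.coeff_zero] at h1
    exact hm₀ h1.symm
  exact mem_range_of_aeval_eq_zero x _ hP0 hPx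

theorem eq_sum_tmul {k k' V ι : Type*} [Field k] [Field k'] [Algebra k k'] [AddCommGroup V]
    [Module k V] [Fintype ι] (b : Module.Basis ι k V) (w : k' ⊗[k] V) :
    w = ∑ i, ((Algebra.TensorProduct.basis k' b).repr w i) ⊗ₜ[k] (b i) := by
  conv_lhs => rw [← (Algebra.TensorProduct.basis k' b).sum_repr w]
  refine Finset.sum_congr rfl (fun i _ => ?_)
  rw [Algebra.TensorProduct.basis_apply, TensorProduct.smul_tmul', smul_eq_mul, mul_one]

theorem repr_tmul_apply {k k' V ι : Type*} [Field k] [Field k'] [Algebra k k'] [AddCommGroup V]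
    [Module k V] (b : Module.Basis ι k V) (x : k') (v : V) (j : ι) :
    (Algebra.TensorProduct.basis k' b).repr (x ⊗ₜ[k] v) j = (b.repr v j) • x := by
  rw [Algebra.TensorProduct.basis_repr_tmul, Finsupp.smul_apply, Finsupp.mapRange_apply,
    smul_eq_mul, Algebra.smul_def, mul_comm]

theorem one_tmul_injective {k k' V ι : Type*} [Field k] [Field k'] [Algebra k k']
    [AddCommGroup V] [Module k V] (b : Module.Basis ι k V) (v v' : V)
    (h : (1 : k') ⊗ₜ[k] v = (1 : k') ⊗ₜ[k] v') : v = v' := by
  apply b.repr.injective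
  ext i
  have h1 := congrArg (fun z => (Algebra.TensorProduct.basis k' b).repr z i) h
  simp only [repr_tmul_apply, Algebra.smul_def, mul_one] at h1
  exact (algebraMap k k').injective h1

/-- Let k ⟶ k' be a homomorphism of algebraically closed fields of characteristic p > 0 (an extension of
algebraically closed fields), V a finite-dimensional k-vector space, F : V ⟶ V additive with F(c •
v) = c^p • F(v), and F' the additive endomorphism of V' = k' ⊗_k V satisfying F'(c ⊗ v) = c^p ⊗
F(v). Then v ↦ 1 ⊗ v maps the fixed vectors of F bijectively onto the fixed vectors of F'. -/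
theorem result {k k' V : Type u} [Field k] [IsAlgClosed k] [Field k']
    [IsAlgClosed k'] [Algebra k k'] (p : ℕ) [Fact p.Prime] [CharP k p]
    [AddCommGroup V] [Module k V] [FiniteDimensional k V] (F : V →+ V)
    (hF : ∀ (c : k) (v : V), F (c • v) = c ^ p • F v)
    (F' : k' ⊗[k] V →+ k' ⊗[k] V) (hF' : ∀ (c : k') (v : V), F' (c ⊗ₜ[k] v) = (c ^ p) ⊗ₜ[k] F v) :
    Set.BijOn (fun v : V => (1 : k') ⊗ₜ[k] v) {v : V | F v = v} {w : k' ⊗[k] V | F' w = w} := by
  classical
  haveI : CharP k' p := charP_of_injective_algebraMap (algebraMap k k').injective p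
  haveI : ExpChar k' p := ExpChar.prime Fact.out
  obtain ⟨b, -⟩ : ∃ b : Module.Basis (Fin (Module.finrank k V)) k V, b = Module.finBasis k V :=
    ⟨_, rfl⟩
  refine ⟨?_, ?_, ?_⟩
  · intro v hv
    have hv' : F v = v := hv
    show F' ((1 : k') ⊗ₜ[k] v) = (1 : k') ⊗ₜ[k] v
    rw [hF', one_pow, hv']
  · intro v _ v' _ h
    exact one_tmul_injective b v v' h
  · intro w hw
    have hw' : F' w = w := hw
    obtain ⟨c, hc⟩ : ∃ c : Fin (Module.finrank k V) → k',
        ∀ j, c j = (Algebra.TensorProduct.basis k' b).repr w j := ⟨_, fun _ => rfl⟩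
    have hw_sum : w = ∑ i, (c i) ⊗ₜ[k] (b i) :=
      (eq_sum_tmul b w).trans (Finset.sum_congr rfl (fun i _ => by rw [hc i]))
    have hFw : F' w = ∑ i, (c i ^ p) ⊗ₜ[k] F (b i) := by
      calc F' w = F' (∑ i, (c i) ⊗ₜ[k] (b i)) := congrArg F' hw_sum
        _ = ∑ i, F' ((c i) ⊗ₜ[k] (b i)) := map_sum F' _ _
        _ = ∑ i, (c i ^ p) ⊗ₜ[k] F (b i) :=
          Finset.sum_congr rfl (fun i _ => hF' (c i) (b i))
    have hcD : ∀ j, c j ∈ Submodule.span k (Set.range (fun i => c i ^ p)) := by
      intro j
      have h1 : c j = (Algebra.TensorProduct.basis k' b).repr (F' w) j := by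
        rw [hw']; exact hc j
      rw [h1, hFw, map_sum, Finsupp.finset_sum_apply]
      refine Submodule.sum_mem _ (fun i _ => ?_)
      rw [repr_tmul_apply]
      exact Submodule.smul_mem _ _ (Submodule.subset_span ⟨i, rfl⟩)
    obtain ⟨D, hDdef⟩ : ∃ D : Submodule k k', D = Submodule.span k (Set.range c) := ⟨_, rfl⟩
    have hcmem : ∀ i, c i ∈ D := fun i => by
      rw [hDdef]; exact Submodule.subset_span ⟨i, rfl⟩
    have hDle : D ≤ Submodule.span k (Set.range (fun i => c i ^ p)) := by
      rw [hDdef]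
      exact Submodule.span_le.2 (by rintro _ ⟨j, rfl⟩; exact hcD j)
    haveI : FiniteDimensional k D := by
      rw [hDdef]; exact FiniteDimensional.span_of_finite k (Set.finite_range c)
    obtain ⟨d, -⟩ : ∃ d : Module.Basis (Fin (Module.finrank k D)) k D,
        d = Module.finBasis k D := ⟨_, rfl⟩
    have hcomb : ∀ x ∈ D, ∃ γ : Fin (Module.finrank k D) → k,
        x = ∑ l, γ l • (d l : k') := by
      intro x hx
      refine ⟨fun l => d.repr ⟨x, hx⟩ l, ?_⟩
      have h1 := congrArg D.subtype (d.sum_repr ⟨x, hx⟩)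
      rw [map_sum] at h1
      exact (h1.symm.trans (Finset.sum_congr rfl (fun l _ => by rw [map_smul]; rfl)))
    have hfrob : ∀ x ∈ D,
        x ^ p ∈ Submodule.span k (Set.range (fun l => (d l : k') ^ p)) := by
      intro x hx
      obtain ⟨γ, rfl⟩ := hcomb x hx
      rw [sum_pow_char p]
      refine Submodule.sum_mem _ (fun l _ => ?_)
      rw [smul_pow]
      exact Submodule.smul_mem _ _ (Submodule.subset_span ⟨l, rfl⟩)
    have hrank : Module.finrank k (Submodule.span k (Set.range (fun l => (d l : k') ^ p))) ≤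
        Module.finrank k D := by
      have h1 := finrank_range_le_card (R := k)
        (fun l : Fin (Module.finrank k D) => (d l : k') ^ p)
      rw [Fintype.card_fin] at h1
      exact h1
    have hD2 : D = Submodule.span k (Set.range (fun l => (d l : k') ^ p)) := by
      haveI : FiniteDimensional k
          (Submodule.span k (Set.range (fun l => (d l : k') ^ p))) :=
        FiniteDimensional.span_of_finite k (Set.finite_range _)
      refine Submodule.eq_of_le_of_finrank_le ?_ hrank
      intro x hx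
      refine Submodule.span_le.2 ?_ (hDle hx)
      rintro _ ⟨i, rfl⟩
      exact hfrob (c i) (hcmem i)
    have hstable : ∀ x ∈ D, x ^ p ∈ D := fun x hx => by
      have h1 := hfrob x hx
      rw [← hD2] at h1
      exact h1
    have hck : ∀ i, ∃ γ : k, algebraMap k k' γ = c i := fun i =>
      RingHom.mem_range.1 (mem_range_of_frobenius_stable p D hstable (c i) (hcmem i))
    choose γ hγ using hck
    have h2 : (1 : k') ⊗ₜ[k] (∑ i, γ i • b i) = w := by
      rw [hw_sum, TensorProduct.tmul_sum]
      refine Finset.sum_congr rfl (fun i _ => ?_)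
      rw [TensorProduct.tmul_smul, TensorProduct.smul_tmul', ← hγ i, Algebra.smul_def, mul_one]
    have h4 := hF' 1 (∑ i, γ i • b i)
    rw [one_pow, h2, hw'] at h4
    exact ⟨∑ i, γ i • b i, one_tmul_injective b _ _ (h4.symm.trans h2.symm), h2⟩

end Groth.Agent.S6639
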