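import Groth.Statements.S6648
import Mathlib

set_option autoImplicit false
open CategoryTheory CategoryTheory.Limits AlgebraicGeometry Opposite
universe u
open EtCore

namespace Groth.Agent.S6648

lemma exists_geom {X : Scheme.{u}} (x : X) : ∃ (Ω : Type u) (_ : Field Ω) (_ : IsSepClosed Ω)
    (ξ : Spec (CommRingCat.of Ω) ⟶ X), ξ.base default = x :=
  ⟨SeparableClosure (X.residueField x), inferInstance, inferInstance,
    (Scheme.SpecToEquivOfField (SeparableClosure (X.residueField x)) _).2
      ⟨x, CommRingCat.ofHom (algebraMap (X.residueField x) _)⟩,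
    by simp [Scheme.SpecToEquivOfField]⟩

/-- For a sheaf of (commutative) rings O on the small etale site of a scheme S, the set of points s of S
over which some geometric stalk of O is a nonzero ring is closed in S. (Rings are taken in the
universe of the schemes, as for the structure presheaf of the prelude.) -/
theorem result {S : Scheme.{u}} (O : Sheaf S.smallEtaleTopology CommRingCat.{u}) :
    IsClosed {s : ↥S | ∃ (Ω : Type u) (_ : Field Ω) (_ : IsSepClosed Ω) (ξ : Spec (CommRingCat.of Ω) ⟶ S),
      ξ.base default = s ∧ Nontrivial ↑((Scheme.pointSmallEtale ξ).presheafFiber.obj O.obj)} := by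
  rw [← isOpen_compl_iff, isOpen_iff_forall_mem_open]
  intro s hs
  obtain ⟨Ω, _, _, ξ, hξ⟩ := exists_geom s
  have htriv : ¬ Nontrivial ↑((Scheme.pointSmallEtale ξ).presheafFiber.obj O.obj) :=
    fun hn => hs ⟨Ω, _, _, ξ, hξ, hn⟩
  rw [not_nontrivial_iff_subsingleton] at htriv
  have h10 : (Scheme.pointSmallEtale ξ).toPresheafFiber (Scheme.Etale.mk (𝟙 S))
      (Over.homMk ξ (Category.comp_id _)) O.obj 1 =
      (Scheme.pointSmallEtale ξ).toPresheafFiber (Scheme.Etale.mk (𝟙 S))
      (Over.homMk ξ (Category.comp_id _)) O.obj 0 := Subsingleton.elim _ _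
  rw [(Scheme.pointSmallEtale ξ).toPresheafFiber_eq_iff' (P := O.obj)] at h10
  obtain ⟨U, g, y, hy, h⟩ := h10
  have hU : (1 : O.obj.obj (op U)) = 0 := by
    rw [map_one, map_zero] at h
    exact h
  have hopen : IsOpen (Set.range U.hom.base) := by
    haveI : Etale U.hom := U.prop
    exact U.hom.isOpenMap.isOpen_range
  refine ⟨Set.range U.hom.base, ?_, hopen, ?_⟩
  · rintro _ ⟨u, rfl⟩ ⟨Ω', _, _, ξ', hξ', hn⟩
    obtain ⟨v, -⟩ := Scheme.pointSmallEtaleFiberObjToPreimage_surjective ξ' hξ' U ⟨u, rfl⟩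
    have h1 : (1 : ↑((Scheme.pointSmallEtale ξ').presheafFiber.obj O.obj)) = 0 := by
      rw [← map_one ((Scheme.pointSmallEtale ξ').toPresheafFiber U v O.obj).hom, hU, map_zero]
    exact one_ne_zero h1
  · exact ⟨y.left.base (default : Spec (CommRingCat.of Ω)), (Scheme.pointSmallEtaleFiberObjToPreimage ξ hξ y).2⟩

end Groth.Agent.S6648
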