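import Groth.Statements.S6649
import Groth.Agent.Lib.Helper12.SchemeDimFT2
import Groth.Agent.S0212
import Groth.Agent.S0214
import Groth.Agent.S13187
import Groth.Agent.Lib.Lead.FinFieldSplit

set_option autoImplicit false
open CategoryTheory CategoryTheory.Limits AlgebraicGeometry Opposite
universe u
open Curves

namespace Groth.Agent.S6649

/-- For a curve C over an algebraically closed field k (C integral of dimension one, separated and of
finite type over k) the Brauer group of the function field of C is zero: every finite-dimensional
central division algebra over the function field has dimension one. -/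
theorem result (k : Type u) [Field k] [IsAlgClosed k] (C : Scheme.{u})
    (f : C ⟶ Spec (CommRingCat.of k)) [IsSeparated f] [LocallyOfFiniteType f] [QuasiCompact f] [IsIntegral C]
    (hdim : topologicalKrullDim ↥C = 1)
    (D : Type u) [DivisionRing D] [Algebra ↑C.functionField D] [Algebra.IsCentral ↑C.functionField D]
    [FiniteDimensional ↑C.functionField D] : Module.finrank ↑C.functionField D = 1 := by
  letI : C.Over (Spec (CommRingCat.of k)) := ⟨f⟩
  haveI : LocallyOfFiniteType (C ↘ Spec (CommRingCat.of k)) :=
    (inferInstance : LocallyOfFiniteType f)
  letI := Curv2.resAlgebra k C (genericPoint C)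
  obtain ⟨n, hn⟩ := Groth.Agent.Lib.Helper12.SchemeDimFT.exists_trdeg_eq k C (genericPoint C)
  have hdim' :=
    Groth.Agent.Lib.Helper12.SchemeDimFT.topologicalKrullDim_eq_of_irreducible k C n hn
  have hn1 : n = 1 := by
    rw [hdim] at hdim'
    exact_mod_cast hdim'.symm
  subst hn1
  have hCi : Curves.IsCi (C.residueField (genericPoint C)) 1 :=
    Groth.Agent.S0212.result k _ 1 (by exact_mod_cast hn)
  have hbij : Function.Bijective (C.residue (genericPoint C)).hom :=
    ⟨RingHom.injective _, Scheme.residue_surjective C (genericPoint C)⟩
  let e : C.functionField ≃+* C.residueField (genericPoint C) :=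
    RingEquiv.ofBijective (C.residue (genericPoint C)).hom hbij
  have hCi' : Curves.IsCi C.functionField 1 :=
    Groth.Agent.S13187.isCi_of_ringEquiv e.symm hCi
  exact Groth.Agent.S0214.result _ (Groth.Agent.Lib.Lead.FinFieldSplit.isCr_of_isCi hCi') D

end Groth.Agent.S6649
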