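import Groth.Statements.S6656
import Groth.Agent.Lib.Helper13.CechDisjC

set_option autoImplicit false
open CategoryTheory CategoryTheory.Limits AlgebraicGeometry Opposite
universe u
open EtCore

namespace Groth.Agent.S6656

/-- Let F be an abelian sheaf on the small etale site of a scheme X, U an etale X-scheme, {U_i ⟶ U} a
finite family of etale X-schemes over U, and V ⟶ U an etale X-scheme over U with U-morphisms U_i ⟶ V
making the underlying scheme of V the coproduct (disjoint union) of the U_i. Then the Čech complex
of F for the family {U_i ⟶ U} and the Čech complex of F for the single morphism {V ⟶ U} are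
isomorphic cochain complexes (existence of an isomorphism; fibre products over U in the small etale
site are carried as the finite-products binder of the Čech complex). (The published statement is for
a standard covering, whose members are affine; this row allows any finite family with V their
disjoint union, which the same argument covers.) -/
theorem result {X : Scheme.{u}} (F : EtCoh.Ab X) (U : X.Etale)
    [HasFiniteProducts (Over U)] {ι : Type (u + 1)} [Finite ι] (Uf : ι → Over U)
    (V : Over U) (incl : ∀ i, Uf i ⟶ V)
    (hV : IsColimit (Cofan.mk V.left.left fun i => (incl i).left.left)) :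
    Nonempty (EtCech.cechComplex Uf F.obj ≅ EtCech.cechComplex (fun _ : PUnit.{u + 2} => V) F.obj) := by
  classical
  have hsm : Small.{u} ι := inferInstance
  let g : ι → Scheme.{u} := fun i => (Uf i).left.left
  let e : V.left.left ≅ ∐ g := hV.coconePointUniqueUpToIso (colimit.isColimit _)
  have he : ∀ i, (incl i).left.left ≫ e.hom = Sigma.ι g i := fun i =>
    hV.comp_coconePointUniqueUpToIso_hom (colimit.isColimit _) ⟨i⟩
  have hinc : ∀ i, (incl i).left.left = Sigma.ι g i ≫ e.inv := fun i => by
    rw [← he i, Category.assoc, e.hom_inv_id, Category.comp_id]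
  have hoi : ∀ i, IsOpenImmersion (incl i).left.left := fun i => by
    rw [hinc i]; infer_instance
  refine Groth.Agent.Lib.Helper13.CechDisjC.main X.smallEtaleTopology Uf V incl F.obj F.property
    ?_ ?_ ?_
  · rw [Scheme.ofArrows_mem_smallEtaleTopology_iff]
    ext v
    simp only [Set.mem_iUnion, Set.mem_range, Set.mem_univ, iff_true]
    obtain ⟨i, y, hy⟩ := (sigmaOpenCover g).exists_eq (e.hom v)
    refine ⟨i, y, ?_⟩
    have h1 : (e.hom ≫ e.inv) v = v := by rw [e.hom_inv_id]; rfl
    have h2 : e.inv (Sigma.ι g i y) = v :=
      (congrArg (fun t => e.inv t) hy).trans h1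
    rw [hinc i, Scheme.Hom.comp_apply]
    exact h2
  · intro i
    have h1 : Mono (incl i).left.left := inferInstance
    have h2 : Mono (incl i).left := by
      have : Mono ((Scheme.Etale.forget X ⋙ Over.forget X).map (incl i).left) := h1
      exact Functor.mono_of_mono_map (Scheme.Etale.forget X ⋙ Over.forget X) this
    exact Over.mono_of_mono_left (incl i)
  · intro i j hij Z a b hab
    have hab' : a.left ≫ (incl i).left.left = b.left ≫ (incl j).left.left := by
      have := congrArg (fun m => (Scheme.Etale.forget X ⋙ Over.forget X).map m) hab
      exact this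
    have hsq : CommSq a.left b.left (Sigma.ι g i) (Sigma.ι g j) := ⟨by
      rw [← he i, ← he j, ← Category.assoc, ← Category.assoc, hab']⟩
    have hempty : IsEmpty Z.left := isEmpty_of_commSq_sigmaι_of_ne (g := g) hsq hij
    have hcov : Sieve.ofArrows (fun k : PEmpty.{1} => (k.elim : X.Etale))
        (fun k => (k.elim : _ ⟶ Z)) ∈ X.smallEtaleTopology Z := by
      rw [Scheme.ofArrows_mem_smallEtaleTopology_iff]
      ext z
      exact (hempty.false z).elim
    refine X.smallEtaleTopology.superset_covering ?_ hcov
    rintro W f ⟨_, _, _, ⟨k⟩, _⟩
    exact k.elim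

end Groth.Agent.S6656
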