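import Groth.Statements.S6658
import Groth.Agent.Lib.Helper15.DerivedLES
import Groth.Agent.Lib.Helper15.ClosedStalk
import Groth.Agent.Lib.Helper13.FlatPullback
import Groth.Agent.Lib.Helper13.DerivedCommute
import Groth.Agent.Lib.Helper13.DerivedExact

set_option autoImplicit false
universe u
open CategoryTheory CategoryTheory.Limits AlgebraicGeometry Opposite
open EtDual

namespace Groth.Agent.S6658


open Groth.Agent.Lib.Helper15 Groth.Agent.Lib.Helper13 Groth.Agent.Lib.Helper13.StalkConservative

set_option backward.isDefEq.respectTransparency.types false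

section aux

/-- For an etale monomorphism `j`, the counit `j_! j^{-1} F ⟶ F` is a monomorphism. -/
lemma mono_counit_extZero {U X : Scheme.{u}} (j : U ⟶ X) [Etale j] [Mono j] (F : EtCoh.Ab X) :
    Mono ((EtShriek.extZeroAdj j).counit.app F) := by
  rw [StalkConservative.mono_iff_stalks]
  intro p
  by_cases h : ∃ v : Spec (CommRingCat.of p.Ω) ⟶ U, v ≫ j = p.ξ
  · obtain ⟨v, hv⟩ := h
    haveI := ClosedStalk.isIso_stalk_counit j F p.ξ v hv
    exact (ConcreteCategory.bijective_of_isIso
      ((EtCoh.stalk p.ξ).map ((EtShriek.extZeroAdj j).counit.app F))).1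
  · have hz := StalkPull.isZero_stalk_extZero j p.ξ ⟨fun ⟨v, hv⟩ => h ⟨v, hv⟩⟩
      ((EtShriek.restrAlong j).obj F)
    exact fun a b _ => (AddCommGrpCat.subsingleton_of_isZero hz).elim a b

/-- For an open immersion `j` and an injective sheaf `I`, the unit `I ⟶ j_* j^{-1} I` is a (split)
epimorphism. -/
lemma epi_unit_of_injective {U X : Scheme.{u}} (j : U ⟶ X) [IsOpenImmersion j] (I : EtCoh.Ab X)
    [Injective I] : Epi ((EtCoh.pullPushAdj j).unit.app I) := by
  have key : ∀ (F : EtCoh.Ab X) (g : F ⟶ (EtCoh.push j).obj ((EtCoh.pull j).obj I)),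
      ∃ f : F ⟶ I, f ≫ (EtCoh.pullPushAdj j).unit.app I = g := by
    intro F g
    haveI := mono_counit_extZero j F
    obtain ⟨f, hf⟩ : ∃ f : F ⟶ I, (EtShriek.extZeroAdj j).counit.app F ≫ f =
        ((EtShriek.extZeroAdj j).homEquiv _ _).symm
          ((EtaleRestr.pullIsoRestr j).inv.app F ≫
            ((EtCoh.pullPushAdj j).homEquiv _ _).symm g ≫
              (EtaleRestr.pullIsoRestr j).hom.app I) :=
      Injective.factors _ ((EtShriek.extZeroAdj j).counit.app F)
    refine ⟨f, ?_⟩
    apply ((EtCoh.pullPushAdj j).homEquiv _ _).symm.injective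
    have h1 : ((EtCoh.pullPushAdj j).homEquiv _ _).symm (f ≫ (EtCoh.pullPushAdj j).unit.app I) =
        (EtCoh.pull j).map f := by
      rw [Adjunction.homEquiv_counit, Functor.map_comp, Category.assoc,
        Adjunction.left_triangle_components, Category.comp_id]
    rw [h1]
    have h2 := congrArg ((EtShriek.extZeroAdj j).homEquiv _ _) hf
    rw [Equiv.apply_symm_apply] at h2
    have h3 : (EtShriek.extZeroAdj j).homEquiv _ _ ((EtShriek.extZeroAdj j).counit.app F ≫ f) =
        (EtShriek.restrAlong j).map f := by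
      rw [Adjunction.homEquiv_unit, Functor.map_comp, ← Category.assoc,
        Adjunction.right_triangle_components, Category.id_comp]
    rw [h3] at h2
    have h4 := (EtaleRestr.pullIsoRestr j).hom.naturality f
    rw [h2, Iso.hom_inv_id_app_assoc] at h4
    exact (cancel_mono ((EtaleRestr.pullIsoRestr j).hom.app I)).1 h4
  obtain ⟨s, hs⟩ := key _ (𝟙 _)
  haveI : IsSplitEpi ((EtCoh.pullPushAdj j).unit.app I) := IsSplitEpi.mk' ⟨s, hs⟩
  infer_instance

/-- The inclusion of the sheaf of sections with support into the sheaf, as a natural transformation. -/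
noncomputable def secSuppι {U X : Scheme.{u}} (j : U ⟶ X) :
    EtDual.secSupp j ⟶ 𝟭 (EtCoh.Ab X) where
  app F := kernel.ι (EtDual.unitApp j F)
  naturality F G f := kernel.lift_ι _ _ _

end aux

/-- The exact sequence and the isomorphisms: let j : U → X be an open immersion of schemes with closed
complement Z and F an abelian sheaf on the small etale site of X. Write H^q_Z(F) for the q-th local
cohomology sheaf of F with support in Z, kept as a sheaf on X (the q-th right derived functor of G ↦
ker(G → j_* j⁻¹ G)). Then the cokernel of the unit F → j_* j⁻¹ F is isomorphic to H^1_Z(F), and for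
every p ≥ 1 the higher direct image R^p j_* (j⁻¹ F) is isomorphic to H^{p+1}_Z(F). (The published
statement also gives the distinguished triangle behind these isomorphisms and identifies them with
its connecting maps; this row asserts only that isomorphisms exist.) -/
theorem result {X U : Scheme.{u}} (j : U ⟶ X) [IsOpenImmersion j]
    (F : EtCoh.Ab X) :
    Nonempty (cokernel (EtDual.unitApp j F) ≅ (EtDual.locCoh j 1).obj F) ∧
      ∀ p : ℕ, 1 ≤ p →
        Nonempty ((EtCoh.Rpush j p).obj ((EtCoh.pull j).obj F) ≅ (EtDual.locCoh j (p + 1)).obj F) := by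
  haveI : (EtCoh.pull j).Additive := (EtCoh.pullPushAdj j).left_adjoint_additive
  haveI : PreservesFiniteColimits (EtCoh.pull j) := by
    haveI := (EtCoh.pullPushAdj j).leftAdjoint_preservesColimits
    infer_instance
  haveI : PreservesFiniteLimits (EtCoh.push j) := by
    haveI := (EtCoh.pullPushAdj j).rightAdjoint_preservesLimits
    infer_instance
  have hG : ∀ Y : EtCoh.Ab X, Injective Y → Injective ((EtCoh.pull j).obj Y) :=
    fun Y hY => (EtCoh.pull j).injective_obj_of_injective hY
  have hαβ : ∀ G : EtCoh.Ab X, (secSuppι j).app G ≫ (EtCoh.pullPushAdj j).unit.app G = 0 :=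
    fun G => kernel.condition _
  have hex : ∀ I : EtCoh.Ab X, Injective I →
      (ShortComplex.mk ((secSuppι j).app I) ((EtCoh.pullPushAdj j).unit.app I) (hαβ I)).ShortExact := by
    intro I hI
    haveI := hI
    haveI := epi_unit_of_injective j I
    haveI : Mono ((secSuppι j).app I) := inferInstanceAs (Mono (kernel.ι (EtDual.unitApp j I)))
    exact ShortComplex.ShortExact.mk'
      (ShortComplex.exact_of_f_is_kernel _ (kernelIsKernel (EtDual.unitApp j I)))
      inferInstance inferInstance
  have hid : ∀ n : ℕ, IsZero (((𝟭 (EtCoh.Ab X)).rightDerived (n + 1)).obj F) :=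
    fun n => DerivedExact.isZero_rightDerived_succ_of_exact (𝟭 (EtCoh.Ab X)) n F
  refine ⟨?_, ?_⟩
  · exact DerivedLES.nonempty_cokernelIso (secSuppι j) (EtCoh.pullPushAdj j).unit hαβ hex (hid 0)
  · intro p hp
    obtain ⟨q, rfl⟩ : ∃ q, p = q + 1 := ⟨p - 1, by omega⟩
    obtain ⟨e⟩ := DerivedLES.nonempty_deltaIso (secSuppι j) (EtCoh.pullPushAdj j).unit hαβ hex
      (X := F) q (hid q) (hid (q + 1))
    exact ⟨(DerivedCommute.rightDerivedExactCompObjIso (EtCoh.pull j) hG (EtCoh.push j)
      (q + 1) F).symm ≪≫ e⟩

end Groth.Agent.S6658
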