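import Groth.Statements.S6666
-- import your own Groth.Agent.* helpers here
import Mathlib
import Groth.Agent.Lib.Helper12.FieldPoint

set_option autoImplicit false
universe u
open CategoryTheory AlgebraicGeometry
open Lim

namespace Groth.Agent.S6666
open Groth.Agent.Lib.Helper12 Groth.Agent.Lib.Helper12.FieldPoint Limits Opposite
set_option backward.isDefEq.respectTransparency false

/-- Let T be a nonempty quasi-compact quasi-separated scheme and P a property of schemes over T (applied
to quasi-compact quasi-separated ones). Assume: (1) for every thickening T'' → T' (a surjective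
closed immersion) of quasi-compact quasi-separated schemes over T, P(T'') if and only if P(T'); (2)
if a scheme T' over T is a limit (in schemes over T) of a cofiltered system of quasi-compact
quasi-separated schemes over T with affine transition morphisms and P holds for every member, then
P(T'); (3) if T' is quasi-compact quasi-separated over T with P(T') and Z ⊂ T' is a closed subscheme
whose open complement V is quasi-compact, then P(V) or P(Z). Then P(T) implies P(Spec K → T) for
some field K and some morphism Spec K → T. (The published statement does not require T nonempty; for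
T empty and P identically true there is no morphism from the spectrum of a field to T, so
nonemptiness is assumed here.) -/
theorem result (T : Scheme.{u}) [CompactSpace T] [QuasiSeparatedSpace T]
    [Nonempty T] (P : ∀ ⦃T' : Scheme.{u}⦄, (T' ⟶ T) → Prop)
    (h1 : ∀ ⦃T' T'' : Scheme.{u}⦄ (a : T' ⟶ T) (t : T'' ⟶ T') [IsClosedImmersion t] [Surjective t]
      [CompactSpace T'] [QuasiSeparatedSpace T'] [CompactSpace T''] [QuasiSeparatedSpace T''], P (t ≫ a) ↔ P a)
    (h2 : ∀ ⦃I : Type u⦄ [SmallCategory I] [IsCofiltered I] (D : I ⥤ Over T) (c : Limits.Cone D) (_ : Limits.IsLimit c),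
      (∀ (i j : I) (m : i ⟶ j), IsAffineHom (D.map m).left) →
      (∀ i, CompactSpace (D.obj i).left ∧ QuasiSeparatedSpace (D.obj i).left) →
      (∀ i, P (D.obj i).hom) → P c.pt.hom)
    (h3 : ∀ ⦃T' Z V : Scheme.{u}⦄ (a : T' ⟶ T) [CompactSpace T'] [QuasiSeparatedSpace T'] (i : Z ⟶ T') [IsClosedImmersion i]
      (j : V ⟶ T') [IsOpenImmersion j] [CompactSpace V], Set.range j = (Set.range i)ᶜ → P a → P (j ≫ a) ∨ P (i ≫ a))
    (hT : P (𝟙 T)) :
    ∃ (K : Type u) (_ : Field K) (t : Spec (CommRingCat.of K) ⟶ T), P t := by
  classical
  -- ideal sheaves whose closed subscheme is nonempty and satisfies `P`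
  let 𝒮 : Set T.IdealSheafData := {I | Nonempty I.subscheme ∧ P I.subschemeι}
  have hqc : ∀ I : T.IdealSheafData, CompactSpace I.subscheme :=
    fun I => QuasiCompact.compactSpace_of_compactSpace I.subschemeι
  have hqs : ∀ I : T.IdealSheafData, QuasiSeparatedSpace I.subscheme :=
    fun I => quasiSeparatedSpace_of_quasiSeparated I.subschemeι
  have hbot : (⊥ : T.IdealSheafData) ∈ 𝒮 := by
    refine ⟨?_, ?_⟩
    · obtain ⟨x⟩ := ‹Nonempty T›
      exact ⟨(inv (Scheme.IdealSheafData.subschemeι (⊥ : T.IdealSheafData))) x⟩
    · haveI := hqc ⊥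
      haveI := hqs ⊥
      have := h1 (𝟙 T) (Scheme.IdealSheafData.subschemeι (⊥ : T.IdealSheafData))
      rw [Category.comp_id] at this
      exact this.mpr hT
  obtain ⟨I, -, hI⟩ := zorn_le_nonempty₀ 𝒮 (by
    intro c hc𝒮 hchain y hy
    haveI := isCofiltered_chain c hchain ⟨y, hy⟩
    refine ⟨sSup c, ⟨nonempty_subscheme_sSup c hchain ⟨y, hy⟩ (fun J hJ => (hc𝒮 hJ).1), ?_⟩,
      fun z hz => le_sSup hz⟩
    refine h2 (chainDiag c) (chainCone c) (isLimitChainCone c) ?_ ?_ ?_
    · intro i j m
      change IsAffineHom (Scheme.IdealSheafData.inclusion _)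
      infer_instance
    · intro i
      exact ⟨hqc _, hqs _⟩
    · intro i
      exact (hc𝒮 i.unop.2).2) ⊥ hbot
  obtain ⟨hIne, hIP⟩ := hI.prop
  haveI := hqc I
  haveI := hqs I
  -- key claim: `P` holds on every nonempty quasi-compact open of `Z = V(I)`
  have key : ∀ V : I.subscheme.Opens, IsCompact (V : Set I.subscheme) →
      (V : Set I.subscheme).Nonempty → P (V.ι ≫ I.subschemeι) := by
    intro V hVc hVne
    haveI : CompactSpace V := isCompact_iff_compactSpace.mp hVc
    haveI : QuasiSeparatedSpace V := quasiSeparatedSpace_of_quasiSeparated V.ι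
    by_cases hV : V = ⊤
    · subst hV
      haveI : IsIso (⊤ : I.subscheme.Opens).ι := (Scheme.topIso I.subscheme).isIso_hom
      exact (h1 I.subschemeι (⊤ : I.subscheme.Opens).ι).mpr hIP
    · let C : TopologicalSpace.Closeds I.subscheme := ⟨(V : Set I.subscheme)ᶜ, V.2.isClosed_compl⟩
      let W : I.subscheme.IdealSheafData := Scheme.IdealSheafData.vanishingIdeal C
      have hrange : Set.range W.subschemeι = (V : Set I.subscheme)ᶜ := by
        rw [Scheme.IdealSheafData.range_subschemeι,
          Scheme.IdealSheafData.coe_support_vanishingIdeal]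
        rfl
      rcases h3 I.subschemeι W.subschemeι V.ι (by rw [hrange, compl_compl, Scheme.Opens.range_ι])
        hIP with h | h
      · exact h
      · exfalso
        let K : T.IdealSheafData := (W.subschemeι ≫ I.subschemeι).ker
        have hIK : I ≤ K := by
          have := Scheme.Hom.le_ker_comp W.subschemeι I.subschemeι
          rwa [Scheme.IdealSheafData.ker_subschemeι] at this
        haveI := hqc K
        haveI := hqs K
        haveI : CompactSpace W.subscheme := QuasiCompact.compactSpace_of_compactSpace W.subschemeι
        haveI : QuasiSeparatedSpace W.subscheme := quasiSeparatedSpace_of_quasiSeparated W.subschemeι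
        have hPK : P K.subschemeι := by
          have := h1 K.subschemeι (W.subschemeι ≫ I.subschemeι).toImage
          rw [Scheme.Hom.toImage_imageι] at this
          exact this.mp h
        have hWne : Nonempty W.subscheme := by
          have : (V : Set I.subscheme)ᶜ.Nonempty := by
            rw [Set.nonempty_compl]
            intro hh
            exact hV (TopologicalSpace.Opens.ext hh)
          obtain ⟨z, hz⟩ := this
          rw [← hrange] at hz
          obtain ⟨w, -⟩ := hz
          exact ⟨w⟩
        have hKne : Nonempty K.subscheme := by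
          obtain ⟨w⟩ := hWne
          exact ⟨(W.subschemeι ≫ I.subschemeι).toImage w⟩
        have hKI : K = I := le_antisymm (hI.le_of_ge ⟨hKne, hPK⟩ hIK) hIK
        obtain ⟨v, hv⟩ := hVne
        have hv1 : I.subschemeι v ∈ (K.support : Set T) := by
          rw [hKI, ← Scheme.IdealSheafData.range_subschemeι]
          exact ⟨v, rfl⟩
        rw [← Scheme.IdealSheafData.range_subschemeι] at hv1
        obtain ⟨k, hk⟩ := hv1
        obtain ⟨w, rfl⟩ := (W.subschemeι ≫ I.subschemeι).toImage.surjective k
        rw [← Scheme.Hom.comp_apply, Scheme.Hom.toImage_imageι, Scheme.Hom.comp_apply] at hk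
        have hk2 : W.subschemeι w = v := I.subschemeι.isEmbedding.injective hk
        have hk3 : v ∈ (V : Set I.subscheme)ᶜ := by
          rw [← hrange]
          exact ⟨w, hk2⟩
        exact hk3 hv
  -- a maximal point of `Z`
  obtain ⟨x⟩ := hIne
  obtain ⟨ξ, -, hξ⟩ := LimMaxPts.exists_maximal_generization x
  have hstalk : P (I.subscheme.fromSpecStalk ξ ≫ I.subschemeι) := by
    refine h2 (overDiag I.subschemeι ξ) (overCone I.subschemeι ξ)
      (isLimitOverCone I.subschemeι ξ) ?_ ?_ ?_
    · intro W W' m
      change IsAffineHom ((StalkLim.diag I.subscheme ξ).map m)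
      infer_instance
    · intro W
      haveI : IsAffine ((overDiag I.subschemeι ξ).obj W).left := W.isAffineOpen
      exact ⟨inferInstance, inferInstance⟩
    · intro W
      exact key W.U W.isAffineOpen.isCompact ⟨ξ, W.mem⟩
  haveI := surjective_specMap_residue ξ hξ
  refine ⟨IsLocalRing.ResidueField (I.subscheme.presheaf.stalk ξ), inferInstance,
    Spec.map (CommRingCat.ofHom (IsLocalRing.residue (I.subscheme.presheaf.stalk ξ))) ≫
      I.subscheme.fromSpecStalk ξ ≫ I.subschemeι, ?_⟩
  exact (h1 (I.subscheme.fromSpecStalk ξ ≫ I.subschemeι)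
    (Spec.map (CommRingCat.ofHom (IsLocalRing.residue (I.subscheme.presheaf.stalk ξ))))).mpr hstalk

end Groth.Agent.S6666
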