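import Groth.Statements.S6685
import Mathlib
import Groth.Agent.Lib.Helper13.FlatPullback
import Groth.Agent.S6638

set_option autoImplicit false
universe u
open CategoryTheory CategoryTheory.Limits AlgebraicGeometry Opposite
open BigSite

namespace Groth.Agent.S6685

open Groth.Agent.Lib.Helper13.FlatPullback in
/-- `π_T⁻¹` (pullback from the small etale site to the big etale site) is left exact. -/
theorem piEtPull_preservesFiniteLimits (T : Scheme.{u}) :
    PreservesFiniteLimits (BigSite.piEtPull Scheme.etalePrecoverage T) := by
  have h0 : PreservesFiniteLimits (EtFppf.a T) :=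
    inferInstanceAs (PreservesFiniteLimits (Scheme.Etale.forget T))
  have h1 : RepresentablyFlat (EtFppf.a T) := flat_of_preservesFiniteLimits _
  have h2 : PreservesFiniteLimits ((EtFppf.a T).op.lan :
      (T.Etaleᵒᵖ ⥤ AddCommGrpCat.{u + 1}) ⥤ (Over T)ᵒᵖ ⥤ AddCommGrpCat.{u + 1}) :=
    lan_preservesFiniteLimits_of_flat' AddCommGrpCat.{u + 1} (EtFppf.a T) (fun _ _ => by
      have : PreservesFilteredColimitsOfSize.{u, u + 1} (forget AddCommGrpCat.{u + 1}) :=
        preservesFilteredColimitsOfSize_of_univLE.{u + 1, u + 1, u, u + 1} _
      infer_instance)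
  exact Functor.sheafPullbackConstruction.preservesFiniteLimits (EtFppf.a T) AddCommGrpCat.{u + 1}
    T.smallEtaleTopology (QuotSh.J Scheme.etalePrecoverage T)

theorem injective_resEt (T : Scheme.{u}) (I : BigSite.Ab Scheme.etalePrecoverage T) [Injective I] :
    Injective ((BigSite.resEt Scheme.etalePrecoverage T).obj I) := by
  have := piEtPull_preservesFiniteLimits T
  exact Injective.injective_of_adjoint (BigSite.piEtAdj Scheme.etalePrecoverage T) I

/-- Let S be a scheme, I an injective abelian sheaf on the big etale site of S and f : T → S a scheme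
over S. Then (b) the restriction I|_{S_et} of I to the small etale site of S is injective, and (a)
the restriction i_f⁻¹ I of I to the small etale site of T (sections over an etale U → T are the
sections of I over U → S) is injective. -/
theorem result (S : Scheme.{u}) (I : BigSite.Ab Scheme.etalePrecoverage S) [Injective I]
    {T : Scheme.{u}} (f : T ⟶ S) :
    Injective ((BigSite.resEt Scheme.etalePrecoverage S).obj I) ∧
      Injective ((BigSite.resEtAlong Scheme.etalePrecoverage f).obj I) := by
  refine ⟨injective_resEt S I, ?_⟩
  have h1 : PreservesFiniteLimits (BigSite.shriekAb Scheme.etalePrecoverage f) :=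
    Groth.Agent.S6638.result f Scheme.etalePrecoverage (Or.inr (Or.inl rfl))
  have h2 : Injective ((BigSite.pullBig Scheme.etalePrecoverage f AddCommGrpCat.{u + 1}).obj I) :=
    Injective.injective_of_adjoint (BigSite.shriekAbAdj Scheme.etalePrecoverage f) I
  exact injective_resEt T _

end Groth.Agent.S6685
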