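import Groth.Statements.S6708
import Mathlib

set_option autoImplicit false
universe v u
open CategoryTheory
open DEquiv

namespace Groth.Agent.S6708

open CategoryTheory.Limits CategoryTheory.Pretriangulated in
/-- Let D be a pretriangulated category, D' ⊆ D a full triangulated subcategory (given as a property of
objects that is triangulated in Mathlib's sense) and X an object of D. Then the category of arrows E
⟶ X with E in D' is filtered. -/
theorem result
    {D : Type u} [Category.{v} D] [Preadditive D] [HasZeroObject D] [HasShift D ℤ]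
    [∀ n : ℤ, (shiftFunctor D n).Additive] [Pretriangulated D]
    (P : ObjectProperty D) [P.IsTriangulated] (X : D) :
    IsFiltered (CostructuredArrow P.ι X) := by
  obtain ⟨Z0, -, hPZ0⟩ := P.exists_prop_of_containsZero
  have : Nonempty (CostructuredArrow P.ι X) :=
    ⟨CostructuredArrow.mk (Y := (⟨Z0, hPZ0⟩ : P.FullSubcategory))
      (0 : P.ι.obj ⟨Z0, hPZ0⟩ ⟶ X)⟩
  have : IsFilteredOrEmpty (CostructuredArrow P.ι X) := by
    refine ⟨?_, ?_⟩
    · intro A B
      obtain ⟨W, hW, ⟨e⟩⟩ := P.ext_of_isTriangulatedClosed₂' _
        (binaryBiproductTriangle_distinguished A.left.obj B.left.obj)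
        A.left.property B.left.property
      have e' : A.left.obj ⊞ B.left.obj ≅ W := e
      refine ⟨CostructuredArrow.mk (Y := (⟨W, hW⟩ : P.FullSubcategory))
          (e'.inv ≫ biprod.desc A.hom B.hom),
        CostructuredArrow.homMk (ObjectProperty.homMk (biprod.inl ≫ e'.hom)) ?_,
        CostructuredArrow.homMk (ObjectProperty.homMk (biprod.inr ≫ e'.hom)) ?_, trivial⟩
      · change (biprod.inl ≫ e'.hom) ≫ (e'.inv ≫ biprod.desc A.hom B.hom) = A.hom
        simp
      · change (biprod.inr ≫ e'.hom) ≫ (e'.inv ≫ biprod.desc A.hom B.hom) = B.hom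
        simp
    · intro A B u v
      obtain ⟨Z, hZ, b, c, hT⟩ := P.distinguished_cocone_triangle
        (u.left.hom - v.left.hom) A.left.property B.left.property
      have h0 : (u.left.hom - v.left.hom) ≫ B.hom = 0 := by
        have hu : u.left.hom ≫ B.hom = A.hom := CostructuredArrow.w u
        have hv : v.left.hom ≫ B.hom = A.hom := CostructuredArrow.w v
        rw [Preadditive.sub_comp, hu, hv, sub_self]
      obtain ⟨k, hk⟩ := Triangle.yoneda_exact₂ _ hT B.hom h0
      have hk' : b ≫ k = B.hom := hk.symm
      refine ⟨CostructuredArrow.mk (Y := (⟨Z, hZ⟩ : P.FullSubcategory)) k,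
        CostructuredArrow.homMk (ObjectProperty.homMk b) hk', ?_⟩
      apply CostructuredArrow.hom_ext
      apply ObjectProperty.hom_ext
      change u.left.hom ≫ b = v.left.hom ≫ b
      have h1 : (u.left.hom - v.left.hom) ≫ b = 0 := comp_distTriang_mor_zero₁₂ _ hT
      rw [Preadditive.sub_comp, sub_eq_zero] at h1
      exact h1
  exact {}

end Groth.Agent.S6708
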