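import Groth.Statements.S6710
import Mathlib

set_option autoImplicit false
universe u v
open CategoryTheory
open FunMor

namespace Groth.Agent.S6710


namespace S6710aux
open TensorProduct

universe uu vv

theorem local_claim {R : Type uu} [CommRing R] [IsLocalRing R] (𝔞 : Ideal R) (h𝔞 : 𝔞 ≠ ⊤)
    (hrad : IsLocalRing.maximalIdeal R ≤ 𝔞.radical)
    (P : Type vv) [AddCommGroup P] [Module R P] [Module.FinitePresentation R P] [Nontrivial P] :
    ∃ φ : P →ₗ[R] R ⧸ 𝔞, φ ≠ 0 := by
  classical
  haveI : Module.Finite R P := inferInstance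
  haveI : Nontrivial (IsLocalRing.ResidueField R ⊗[R] P) := by
    by_contra hne
    rw [not_nontrivial_iff_subsingleton, IsLocalRing.subsingleton_tensorProduct] at hne
    exact not_subsingleton P hne
  let bk := Module.Free.chooseBasis (IsLocalRing.ResidueField R) (IsLocalRing.ResidueField R ⊗[R] P)
  obtain ⟨i₀⟩ := bk.index_nonempty
  have hsurj : Function.Surjective (TensorProduct.mk R (IsLocalRing.ResidueField R) P 1) :=
    TensorProduct.mk_surjective R P (IsLocalRing.ResidueField R) Ideal.Quotient.mk_surjective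
  choose b hb using fun i => hsurj (bk i)
  have hspan : Submodule.span R (Set.range b) = ⊤ :=
    IsLocalRing.span_eq_top_of_tmul_eq_basis b bk (fun i => hb i)
  let π : (Module.Free.ChooseBasisIndex (IsLocalRing.ResidueField R)
      (IsLocalRing.ResidueField R ⊗[R] P) → R) →ₗ[R] P := Fintype.linearCombination R b
  have hπ : Function.Surjective π := by
    rw [← LinearMap.range_eq_top, Fintype.range_linearCombination, hspan]
  have hkerm : ∀ v ∈ LinearMap.ker π, ∀ i, v i ∈ IsLocalRing.maximalIdeal R := by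
    intro v hv
    rw [LinearMap.mem_ker] at hv
    have h1 : ∑ i, v i • b i = 0 := by
      rw [← hv]; exact (Fintype.linearCombination_apply R b v).symm
    have h2 : ∑ i, (algebraMap R (IsLocalRing.ResidueField R) (v i)) • bk i = 0 := by
      have := congrArg (TensorProduct.mk R (IsLocalRing.ResidueField R) P 1) h1
      rw [map_sum, map_zero] at this
      rw [← this]
      refine Finset.sum_congr rfl fun i _ => ?_
      rw [map_smul, hb, algebraMap_smul]
    have h3 := Fintype.linearIndependent_iff.mp bk.linearIndependent _ h2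
    intro i
    have := h3 i
    rwa [IsLocalRing.ResidueField.algebraMap_eq, IsLocalRing.residue_eq_zero_iff] at this
  obtain ⟨T, hT⟩ := Module.FinitePresentation.fg_ker π hπ
  let C : Finset R := (T ×ˢ (Finset.univ : Finset (Module.Free.ChooseBasisIndex
      (IsLocalRing.ResidueField R) (IsLocalRing.ResidueField R ⊗[R] P)))).image (fun q => q.1 q.2)
  let J : Ideal R := Ideal.span (C : Set R)
  have hJfg : J.FG := ⟨C, rfl⟩
  have hTker : ∀ t ∈ T, t ∈ LinearMap.ker π := fun t ht => by
    rw [← hT]; exact Submodule.subset_span ht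
  have hJm : J ≤ IsLocalRing.maximalIdeal R := by
    refine Ideal.span_le.mpr ?_
    intro r hr
    obtain ⟨q, hq, rfl⟩ := Finset.mem_image.mp (Finset.mem_coe.mp hr)
    rw [Finset.mem_product] at hq
    exact hkerm q.1 (hTker q.1 hq.1) q.2
  have hkerJ : ∀ v ∈ LinearMap.ker π, ∀ i, v i ∈ J := by
    intro v hv i
    have hle : LinearMap.ker π ≤ Submodule.pi Set.univ (fun _ => J) := by
      rw [← hT, Submodule.span_le]
      intro t ht
      rw [SetLike.mem_coe, Submodule.mem_pi]
      intro j _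
      refine Ideal.subset_span ?_
      exact Finset.mem_coe.mpr (Finset.mem_image.mpr
        ⟨(t, j), Finset.mem_product.mpr ⟨ht, Finset.mem_univ _⟩, rfl⟩)
    exact (Submodule.mem_pi.mp (hle hv)) i (Set.mem_univ i)
  have hex : ∃ k₀, J ^ k₀ ≤ 𝔞 :=
    Ideal.exists_pow_le_of_le_radical_of_fg (hJm.trans hrad) hJfg
  obtain ⟨k₁, hk₁, hmin⟩ : ∃ k₁, J ^ k₁ ≤ 𝔞 ∧ ∀ m < k₁, ¬ J ^ m ≤ 𝔞 :=
    ⟨Nat.find hex, Nat.find_spec hex, fun m hm => Nat.find_min hex hm⟩
  have hk₁pos : k₁ ≠ 0 := by
    intro h0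
    rw [h0, pow_zero, Ideal.one_eq_top] at hk₁
    exact h𝔞 (top_le_iff.mp hk₁)
  obtain ⟨j, hj⟩ := Nat.exists_eq_succ_of_ne_zero hk₁pos
  have hjnot : ¬ J ^ j ≤ 𝔞 := hmin j (by omega)
  obtain ⟨z, hzJ, hz𝔞⟩ := SetLike.not_le_iff_exists.mp hjnot
  have hJz : ∀ a ∈ J, a * z ∈ 𝔞 := by
    intro a ha
    apply hk₁
    rw [hj, pow_succ']
    exact Ideal.mul_mem_mul ha hzJ
  let φ₀ : (Module.Free.ChooseBasisIndex (IsLocalRing.ResidueField R)
      (IsLocalRing.ResidueField R ⊗[R] P) → R) →ₗ[R] R ⧸ 𝔞 :=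
    (Ideal.Quotient.mkₐ R 𝔞).toLinearMap ∘ₗ (LinearMap.toSpanSingleton R R z) ∘ₗ
      (LinearMap.proj i₀)
  have hφ₀ : ∀ v, φ₀ v = Ideal.Quotient.mk 𝔞 (v i₀ * z) := by
    intro v; rfl
  have hker : LinearMap.ker π ≤ LinearMap.ker φ₀ := by
    intro v hv
    rw [LinearMap.mem_ker, hφ₀, Ideal.Quotient.eq_zero_iff_mem]
    exact hJz _ (hkerJ v hv i₀)
  let φ : P →ₗ[R] R ⧸ 𝔞 :=
    ((LinearMap.ker π).liftQ φ₀ hker) ∘ₗ (π.quotKerEquivOfSurjective hπ).symm.toLinearMap
  refine ⟨φ, fun hφ => ?_⟩
  have h1 : φ (π (Pi.single i₀ 1)) = Ideal.Quotient.mk 𝔞 z := by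
    have h2 : (π.quotKerEquivOfSurjective hπ).symm (π (Pi.single i₀ 1))
        = Submodule.Quotient.mk (Pi.single i₀ 1) := by
      rw [LinearEquiv.symm_apply_eq, LinearMap.quotKerEquivOfSurjective_apply_mk]
    show ((LinearMap.ker π).liftQ φ₀ hker)
      ((π.quotKerEquivOfSurjective hπ).symm (π (Pi.single i₀ 1))) = _
    rw [h2, Submodule.liftQ_apply, hφ₀, Pi.single_eq_same, one_mul]
  rw [hφ, LinearMap.zero_apply] at h1
  exact hz𝔞 (Ideal.Quotient.eq_zero_iff_mem.mp h1.symm)

theorem at_prime {A : Type uu} [CommRing A] {M : Type vv} [AddCommGroup M] [Module A M]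
    [Module.FinitePresentation A M] {N : Type vv} [AddCommGroup N] [Module A N]
    (p : Ideal A) [hpprime : p.IsPrime] (x : N)
    (hp : p ∈ ((Submodule.span A {x}).annihilator).minimalPrimes)
    [Nontrivial (LocalizedModule p.primeCompl M)] : ∃ h' : M →ₗ[A] N, h' ≠ 0 := by
  classical
  have hImem : ∀ a, a ∈ (Submodule.span A {x}).annihilator ↔ a • x = 0 :=
    fun a => Submodule.mem_annihilator_span_singleton x a
  let fN := LocalizedModule.mkLinearMap p.primeCompl N
  let fM := LocalizedModule.mkLinearMap p.primeCompl M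
  let ξ : LocalizedModule p.primeCompl N := fN x
  let 𝔞 : Ideal (Localization.AtPrime p) := (Submodule.span (Localization.AtPrime p) {ξ}).annihilator
  have h𝔞mem : ∀ r : Localization.AtPrime p, r ∈ 𝔞 ↔ r • ξ = 0 :=
    fun r => Submodule.mem_annihilator_span_singleton ξ r
  have h𝔞top : 𝔞 ≠ ⊤ := by
    intro h1
    have h2 : (1 : Localization.AtPrime p) ∈ 𝔞 := h1 ▸ Submodule.mem_top
    rw [h𝔞mem, one_smul] at h2
    have h3 : x ∈ LinearMap.ker fN := h2
    rw [LocalizedModule.mem_ker_mkLinearMap_iff] at h3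
    obtain ⟨r, hr, hrx⟩ := h3
    exact hr (hp.1.2 ((hImem r).mpr hrx))
  have hI𝔞 : ((Submodule.span A {x}).annihilator).map (algebraMap A (Localization.AtPrime p)) ≤ 𝔞 := by
    rw [Ideal.map_le_iff_le_comap]
    intro a ha
    rw [Ideal.mem_comap, h𝔞mem, algebraMap_smul]
    show a • fN x = 0
    rw [← map_smul, (hImem a).mp ha, map_zero]
  have hrad : IsLocalRing.maximalIdeal (Localization.AtPrime p) ≤ 𝔞.radical := by
    rw [← IsLocalization.AtPrime.map_eq_maximalIdeal p (Localization.AtPrime p),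
      ← IsLocalization.AtPrime.radical_map_of_mem_minimalPrimes (Localization.AtPrime p) p _ hp]
    exact Ideal.radical_mono hI𝔞
  obtain ⟨φ, hφ⟩ := local_claim 𝔞 h𝔞top hrad (LocalizedModule p.primeCompl M)
  let ι : (Localization.AtPrime p) ⧸ 𝔞 →ₗ[Localization.AtPrime p] LocalizedModule p.primeCompl N :=
    Submodule.liftQ 𝔞 (LinearMap.toSpanSingleton (Localization.AtPrime p) _ ξ) (by
      intro r hr
      rw [LinearMap.mem_ker, LinearMap.toSpanSingleton_apply]
      exact (h𝔞mem r).mp hr)
  have hι : Function.Injective ι := by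
    rw [← LinearMap.ker_eq_bot]
    apply Submodule.ker_liftQ_eq_bot
    intro r hr
    rw [LinearMap.mem_ker, LinearMap.toSpanSingleton_apply] at hr
    exact (h𝔞mem r).mpr hr
  let ψ : LocalizedModule p.primeCompl M →ₗ[A] LocalizedModule p.primeCompl N :=
    (ι ∘ₗ φ).restrictScalars A
  let g : M →ₗ[A] LocalizedModule p.primeCompl N := ψ ∘ₗ fM
  have hg : g ≠ 0 := by
    intro hg0
    have h1 : ψ = 0 := by
      apply IsLocalizedModule.ext p.primeCompl fM (IsLocalizedModule.map_units fN)
      rw [LinearMap.zero_comp]; exact hg0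
    apply hφ
    ext y
    apply hι
    rw [LinearMap.zero_apply, map_zero]
    exact LinearMap.congr_fun h1 y
  obtain ⟨h', s, hs⟩ :=
    Module.FinitePresentation.exists_lift_of_isLocalizedModule p.primeCompl fN g
  refine ⟨h', fun h0 => hg ?_⟩
  ext y
  have h2 := LinearMap.congr_fun hs y
  rw [h0] at h2
  simp only [LinearMap.comp_apply, LinearMap.zero_apply, map_zero, LinearMap.smul_apply] at h2
  rw [LinearMap.zero_apply]
  exact IsLocalizedModule.smul_injective fN s (by simpa using h2.symm)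

theorem global {A : Type uu} [CommRing A] {M : Type vv} [AddCommGroup M] [Module A M]
    [Module.FinitePresentation A M] {N : Type vv} [AddCommGroup N] [Module A N] [Nontrivial N]
    (h : Module.support A N ⊆ Module.support A M) : Nontrivial (M →ₗ[A] N) := by
  classical
  obtain ⟨x, hx⟩ := exists_ne (0 : N)
  have hImem : ∀ a, a ∈ (Submodule.span A {x}).annihilator ↔ a • x = 0 :=
    fun a => Submodule.mem_annihilator_span_singleton x a
  have hItop : (Submodule.span A {x}).annihilator ≠ ⊤ := by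
    intro h1
    have : (1 : A) ∈ (Submodule.span A {x}).annihilator := h1 ▸ Submodule.mem_top
    rw [hImem, one_smul] at this
    exact hx this
  obtain ⟨m, hm, hIm⟩ := Ideal.exists_le_maximal _ hItop
  haveI := hm.isPrime
  obtain ⟨p, hp, hpm⟩ := Ideal.exists_minimalPrimes_le hIm
  haveI hpprime : p.IsPrime := hp.1.1
  have hpN : (⟨p, hpprime⟩ : PrimeSpectrum A) ∈ Module.support A N :=
    Module.mem_support_iff_exists_annihilator.mpr ⟨x, hp.1.2⟩
  have hpM := h hpN
  rw [Module.mem_support_iff] at hpM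
  haveI : Nontrivial (LocalizedModule p.primeCompl M) := hpM
  obtain ⟨h', hh'⟩ := at_prime (M := M) p x hp
  exact nontrivial_of_ne h' 0 hh'

end S6710aux

/-- The statement for an affine scheme written in terms of modules: let A be a commutative ring, M a
finitely presented A-module and N a nonzero A-module with Supp(N) ⊆ Supp(M). Then Hom_A(M, N) is
nonzero. -/
theorem result
    (A : Type u) [CommRing A] (M : Type v) [AddCommGroup M] [Module A M]
    [Module.FinitePresentation A M] (N : Type v) [AddCommGroup N] [Module A N] [Nontrivial N]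
    (h : Module.support A N ⊆ Module.support A M) : Nontrivial (M →ₗ[A] N) := by
  exact S6710aux.global h

end Groth.Agent.S6710
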