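import Groth.Statements.S6769
import Mathlib
import Groth.Agent.S2204

set_option autoImplicit false
universe u
open CategoryTheory CategoryTheory.Limits TensorProduct
open scoped ModuleCat.Algebra
open FunMor

namespace Groth.Agent.S6769

open Groth.Agent.S2204

section EW2

variable {A B : Type u} [CommRing A] [CommRing B]
  (F F' : ModuleCat.{u} A ⥤ ModuleCat.{u} B) [F.Additive] [F'.Additive]
  (φ : F.obj (ModuleCat.of A A) ⟶ F'.obj (ModuleCat.of A A))
  (hφ : ∀ a : A, F.map (a • 𝟙 (ModuleCat.of A A)) ≫ φ = φ ≫ F'.map (a • 𝟙 (ModuleCat.of A A)))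

noncomputable def psiAdd (M : ModuleCat.{u} A) : KK F ⊗[A] M →+ F'.obj M :=
  TensorProduct.liftAddHom
    (AddMonoidHom.mk' (fun k : KK F => AddMonoidHom.mk'
      (fun m : M => (F'.map (rho m)).hom (φ.hom k))
      (by
        intro m m'
        rw [rho_add, F'.map_add]
        rfl))
      (by
        intro k k'
        ext m
        show ((F'.map (rho m)).hom ∘ₗ φ.hom) (k + k') =
          ((F'.map (rho m)).hom ∘ₗ φ.hom) k + ((F'.map (rho m)).hom ∘ₗ φ.hom) k'
        exact map_add ((F'.map (rho m)).hom ∘ₗ φ.hom) k k'))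
    (by
      intro a k m
      show (F'.map (rho m)).hom (φ.hom (a • k)) = (F'.map (rho (a • m))).hom (φ.hom k)
      rw [rho_smul, F'.map_comp, KK_smul_def]
      have := congrArg (fun ψ => ψ.hom k) (hφ a)
      show (F'.map (rho m)).hom (φ.hom ((F.map (a • 𝟙 _)).hom k)) =
        (F'.map (rho m)).hom ((F'.map (a • 𝟙 _)).hom (φ.hom k))
      exact congrArg (F'.map (rho m)).hom this)

theorem psiAdd_tmul (M : ModuleCat.{u} A) (k : KK F) (m : M) :
    psiAdd F F' φ hφ M (k ⊗ₜ m) = (F'.map (rho m)).hom (φ.hom k) := rfl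

noncomputable def psiLin (M : ModuleCat.{u} A) : KK F ⊗[A] M →ₗ[B] F'.obj M :=
  { psiAdd F F' φ hφ M with
    map_smul' := fun b x => by
      show psiAdd F F' φ hφ M (b • x) = b • psiAdd F F' φ hφ M x
      induction x using TensorProduct.induction_on with
      | zero => simp
      | tmul k m =>
        rw [TensorProduct.smul_tmul', psiAdd_tmul, psiAdd_tmul]
        exact ((F'.map (rho m)).hom ∘ₗ φ.hom).map_smul b k
      | add x y hx hy => rw [smul_add, map_add, hx, hy, map_add, smul_add] }

theorem psiLin_tmul (M : ModuleCat.{u} A) (k : KK F) (m : M) :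
    psiLin F F' φ hφ M (k ⊗ₜ m) = (F'.map (rho m)).hom (φ.hom k) := rfl

theorem psi_natural {M N : ModuleCat.{u} A} (f : M ⟶ N) (x : KK F ⊗[A] M) :
    psiLin F F' φ hφ N (LinearMap.lTensor (KK F) f.hom x) =
      (F'.map f).hom (psiLin F F' φ hφ M x) := by
  induction x using TensorProduct.induction_on with
  | zero => simp
  | tmul k m =>
    rw [LinearMap.lTensor_tmul, psiLin_tmul, psiLin_tmul, ← rho_comp, F'.map_comp]
    rfl
  | add x y hx hy => simp only [map_add, hx, hy]

theorem eta_one (k : KK F) : etaLin F (ModuleCat.of A A) (k ⊗ₜ (1 : A)) = k := by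
  rw [etaLin_tmul, rho_self, one_smul, F.map_id]
  rfl

variable [PreservesFiniteColimits F]
  (hsum : ∀ J : Type u, PreservesColimitsOfShape (Discrete J) F)

noncomputable def etaE (M : ModuleCat.{u} A) : (KK F ⊗[A] M) ≃ₗ[B] F.obj M :=
  LinearEquiv.ofBijective (etaLin F M) (eta_bijective F hsum M)

theorem etaE_apply (M : ModuleCat.{u} A) (x : KK F ⊗[A] M) :
    etaE F hsum M x = etaLin F M x := rfl

/-- the natural transformation with component `φ` at `A`. -/
noncomputable def tNat : F ⟶ F' where
  app M := ModuleCat.ofHom (psiLin F F' φ hφ M ∘ₗ (etaE F hsum M).symm.toLinearMap)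
  naturality M N f := by
    ext y
    obtain ⟨x, rfl⟩ := (etaE F hsum M).surjective y
    show psiLin F F' φ hφ N ((etaE F hsum N).symm ((F.map f).hom (etaE F hsum M x))) =
      (F'.map f).hom (psiLin F F' φ hφ M ((etaE F hsum M).symm (etaE F hsum M x)))
    rw [LinearEquiv.symm_apply_apply, etaE_apply, ← eta_natural, ← etaE_apply F hsum N,
      LinearEquiv.symm_apply_apply, psi_natural]

theorem tNat_app_self : (tNat F F' φ hφ hsum).app (ModuleCat.of A A) = φ := by
  ext k
  show psiLin F F' φ hφ (ModuleCat.of A A) ((etaE F hsum (ModuleCat.of A A)).symm k) = φ.hom k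
  have hk : k = etaE F hsum (ModuleCat.of A A) ((k : KK F) ⊗ₜ (1 : A)) := (eta_one F k).symm
  conv_lhs => rw [hk]
  rw [LinearEquiv.symm_apply_apply, psiLin_tmul, rho_self, one_smul, F'.map_id]
  rfl

include hsum in
theorem nat_ext (t t' : F ⟶ F')
    (h : t.app (ModuleCat.of A A) = t'.app (ModuleCat.of A A)) : t = t' := by
  ext M y
  obtain ⟨x, rfl⟩ := (etaE F hsum M).surjective y
  rw [etaE_apply]
  induction x using TensorProduct.induction_on with
  | zero => simp
  | tmul k m =>
    rw [etaLin_tmul]
    have h1 := congrArg (fun ψ => ψ.hom k) (t.naturality (rho m))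
    have h2 := congrArg (fun ψ => ψ.hom k) (t'.naturality (rho m))
    have h3 : (t.app (ModuleCat.of A A)).hom k = (t'.app (ModuleCat.of A A)).hom k := by rw [h]
    show (t.app M).hom ((F.map (rho m)).hom k) = (t'.app M).hom ((F.map (rho m)).hom k)
    change (t.app M).hom ((F.map (rho m)).hom k) =
      (F'.map (rho m)).hom ((t.app (ModuleCat.of A A)).hom k) at h1
    change (t'.app M).hom ((F.map (rho m)).hom k) =
      (F'.map (rho m)).hom ((t'.app (ModuleCat.of A A)).hom k) at h2
    rw [h1, h2, h3]
  | add x y hx hy =>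
    rw [map_add, map_add, map_add, hx, hy]

end EW2

theorem compat_aux {A B : Type u} [CommRing A] [CommRing B] (R : Type u) [CommRing R]
    [Algebra R A] [Algebra R B] (F : ModuleCat.{u} A ⥤ ModuleCat.{u} B) [F.Additive] [F.Linear R]
    (r : R) (x : F.obj (ModuleCat.of A A)) :
    (F.map (algebraMap R A r • 𝟙 (ModuleCat.of A A))).hom x = algebraMap R B r • x := by
  have h2 := Functor.map_smul (R := R) F r (𝟙 (ModuleCat.of A A))
  rw [F.map_id] at h2
  have h3 := congrArg (fun ψ => ψ.hom x) h2
  refine Eq.trans ?_ (h3.trans ?_)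
  · congr 3
  · exact (algebraMap_smul B r x).symm

theorem compat {A B : Type u} [CommRing A] [CommRing B] (R : Type u) [CommRing R] [Algebra R A]
    [Algebra R B] (F : ModuleCat.{u} A ⥤ ModuleCat.{u} B) [F.Additive] [F.Linear R]
    (r : R) (x : KK F) : algebraMap R A r • x = algebraMap R B r • x :=
  compat_aux R F r x


/-- Let R be a commutative ring and A, B commutative R-algebras; Mod_A and Mod_B are R-linear
categories. Suppose F, F' : Mod_A ⥤ Mod_B are R-linear functors, each of which preserves finite
colimits (so is right exact) and also preserves direct sums indexed by any set. Then: (i) there is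
an A ⊗_R B-module K — a module over A and over B with commuting actions on which the two R-actions
agree — and B-linear isomorphisms K ⊗_A M ≅ F(M) natural in the A-module M; (ii) a natural
transformation F ⟶ F' is determined by its component at A, and a B-linear map φ : F(A) ⟶ F'(A) is
the component at A of some natural transformation F ⟶ F' if and only if it commutes with the
A-actions, i.e. F(a · id_A) ≫ φ = φ ≫ F'(a · id_A) for all a ∈ A. (Together: K ↦ (- ⊗_A K) is an
equivalence from Mod_{A ⊗_R B} onto the category of such functors.) -/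
theorem result
    (R : Type u) [CommRing R] (A B : Type u) [CommRing A] [CommRing B] [Algebra R A] [Algebra R B]
    (F F' : ModuleCat.{u} A ⥤ ModuleCat.{u} B) [F.Additive] [F.Linear R] [F'.Additive] [F'.Linear R]
    [PreservesFiniteColimits F] [∀ J : Type u, PreservesColimitsOfShape (Discrete J) F]
    [PreservesFiniteColimits F'] [∀ J : Type u, PreservesColimitsOfShape (Discrete J) F'] :
    (∃ (K : Type u) (_ : AddCommGroup K) (_ : Module A K) (_ : Module B K) (_ : SMulCommClass A B K),
      (∀ (r : R) (x : K), algebraMap R A r • x = algebraMap R B r • x) ∧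
      ∃ η : ∀ M : ModuleCat.{u} A, (K ⊗[A] M) ≃ₗ[B] F.obj M,
        ∀ (M N : ModuleCat.{u} A) (f : M ⟶ N) (x : K ⊗[A] M),
          η N (LinearMap.lTensor K f.hom x) = F.map f (η M x)) ∧
    (∀ t t' : F ⟶ F', t.app (ModuleCat.of A A) = t'.app (ModuleCat.of A A) → t = t') ∧
    (∀ φ : F.obj (ModuleCat.of A A) ⟶ F'.obj (ModuleCat.of A A),
      (∃ t : F ⟶ F', t.app (ModuleCat.of A A) = φ) ↔
        ∀ a : A, F.map (a • 𝟙 (ModuleCat.of A A)) ≫ φ = φ ≫ F'.map (a • 𝟙 (ModuleCat.of A A))) := by
  have hsum : ∀ J : Type u, PreservesColimitsOfShape (Discrete J) F := fun J => inferInstance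
  refine ⟨⟨KK F, inferInstance, inferInstance, inferInstance, inferInstance,
    fun r x => compat R F r x,
    fun M => etaE F hsum M, fun M N f x => eta_natural F f x⟩, ?_, ?_⟩
  · intro t t' h
    exact nat_ext F F' hsum t t' h
  · intro φ
    constructor
    · rintro ⟨t, rfl⟩ a
      exact t.naturality _
    · intro hφ
      exact ⟨tNat F F' φ hφ hsum, tNat_app_self F F' φ hφ hsum⟩

end Groth.Agent.S6769
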