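import Groth.Statements.S6775
import Mathlib

set_option autoImplicit false
open CategoryTheory CategoryTheory.Limits
universe v u
open CategoryTheory CategoryTheory.Abelian

namespace Groth.Agent.S6775

/-- In an abelian category a cartesian square whose bottom arrow `k` is an epimorphism is also
cocartesian, and the arrow `f` opposite to `k` is an epimorphism. -/
theorem result {A : Type u} [Category.{v} A] [Abelian A] {w x y z : A} (f : w ⟶ y) (g : w ⟶ x) (h : y ⟶ z) (k : x ⟶ z) (sq : IsPullback f g h k) [Epi k] : IsPushout f g h k ∧ Epi f := by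
  have hf : Epi f := MorphismProperty.of_isPullback (P := MorphismProperty.epimorphisms A) sq.flip
    (MorphismProperty.epimorphisms.infer_property k)
  refine ⟨?_, hf⟩
  obtain ⟨l, hl1, hl2⟩ : ∃ l : kernel k ⟶ w, l ≫ f = 0 ∧ l ≫ g = kernel.ι k :=
    ⟨sq.lift 0 (kernel.ι k) (by rw [zero_comp, kernel.condition]), sq.lift_fst _ _ _,
      sq.lift_snd _ _ _⟩
  have hcok := Abelian.epiIsCokernelOfKernel _ (kernelIsKernel k)
  have key : ∀ s : PushoutCocone f g, ∃ m : z ⟶ s.pt, k ≫ m = s.inr := by
    intro s
    have h0 : kernel.ι k ≫ s.inr = 0 := by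
      rw [← hl2, Category.assoc, ← s.condition, ← Category.assoc, hl1, zero_comp]
    obtain ⟨m, hm⟩ := CokernelCofork.IsColimit.desc' hcok s.inr h0
    exact ⟨m, by simpa using hm⟩
  choose m hm using key
  refine ⟨⟨sq.w⟩, ⟨PushoutCocone.IsColimit.mk sq.w m ?_ hm ?_⟩⟩
  · intro s
    rw [← cancel_epi f, ← Category.assoc, sq.w, Category.assoc, hm, s.condition]
  · intro s m' h1 h2
    rw [← cancel_epi k, h2, hm]

end Groth.Agent.S6775
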