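import Groth.Statements.S6776
import Mathlib

set_option autoImplicit false
open CategoryTheory CategoryTheory.Limits
universe v u
open CategoryTheory CategoryTheory.Abelian

namespace Groth.Agent.S6776

/-- In an abelian category a cocartesian square whose left arrow `g` is a monomorphism is also
cartesian, and the arrow `h` opposite to `g` is a monomorphism. -/
theorem result {A : Type u} [Category.{v} A] [Abelian A] {w x y z : A} (f : w ⟶ y) (g : w ⟶ x) (h : y ⟶ z) (k : x ⟶ z) (sq : IsPushout f g h k) [Mono g] : IsPullback f g h k ∧ Mono h := by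
  have hh : Mono h := MorphismProperty.of_isPushout (P := MorphismProperty.monomorphisms A) sq
    (MorphismProperty.monomorphisms.infer_property g)
  refine ⟨?_, hh⟩
  obtain ⟨d, hd1, hd2⟩ : ∃ d : z ⟶ cokernel g, h ≫ d = 0 ∧ k ≫ d = cokernel.π g :=
    ⟨sq.desc 0 (cokernel.π g) (by rw [comp_zero, cokernel.condition]), sq.inl_desc _ _ _,
      sq.inr_desc _ _ _⟩
  have hker := Abelian.monoIsKernelOfCokernel _ (cokernelIsCokernel g)
  have key : ∀ s : PullbackCone h k, ∃ m : s.pt ⟶ w, m ≫ g = s.snd := by
    intro s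
    have h0 : s.snd ≫ cokernel.π g = 0 := by
      rw [← hd2, ← Category.assoc, ← s.condition, Category.assoc, hd1, comp_zero]
    obtain ⟨m, hm⟩ := KernelFork.IsLimit.lift' hker s.snd h0
    exact ⟨m, by simpa using hm⟩
  choose m hm using key
  refine ⟨⟨sq.w⟩, ⟨PullbackCone.IsLimit.mk sq.w m ?_ hm ?_⟩⟩
  · intro s
    rw [← cancel_mono h, Category.assoc, sq.w, ← Category.assoc, hm, s.condition]
  · intro s m' h1 h2
    rw [← cancel_mono g, h2, hm]

end Groth.Agent.S6776
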