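import Groth.Statements.S6778
import Mathlib

set_option autoImplicit false
open CategoryTheory CategoryTheory.Limits
universe v u
open CategoryTheory CategoryTheory.Abelian

namespace Groth.Agent.S6778

/-- For a commutative diagram with rows `x ⟶ y ⟶ z` and `u ⟶ v ⟶ w` in an abelian category, if the
second row is exact and the second map `g` of the first row is an epimorphism, then the induced
sequence of cokernels of the vertical maps is exact. -/
theorem result {A : Type u} [Category.{v} A] [Abelian A] {x y z u' v' w : A} (f : x ⟶ y) (g : y ⟶ z) (k : u' ⟶ v') (l : v' ⟶ w) (α : x ⟶ u') (β : y ⟶ v') (γ : z ⟶ w) (h₁ : α ≫ k = f ≫ β) (h₂ : β ≫ l = g ≫ γ) (hkl : k ≫ l = 0) (hex : (ShortComplex.mk k l hkl).Exact) [Epi g] : ∃ hc : cokernel.map α β f k h₁ ≫ cokernel.map β γ g l h₂ = 0, (ShortComplex.mk _ _ hc).Exact := by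
  have hc : cokernel.map α β f k h₁ ≫ cokernel.map β γ g l h₂ = 0 := by
    rw [← cancel_epi (cokernel.π α)]
    simp only [cokernel.π_desc_assoc, cokernel.π_desc, Category.assoc, reassoc_of% hkl, zero_comp,
      comp_zero]
  refine ⟨hc, ?_⟩
  rw [ShortComplex.exact_iff_exact_up_to_refinements]
  intro T c hcz
  have hcz' : c ≫ cokernel.map β γ g l h₂ = 0 := hcz
  obtain ⟨T₁, π₁, hπ₁, v₁, hv₁⟩ := surjective_up_to_refinements_of_epi (cokernel.π β) c
  have h1 : (v₁ ≫ l) ≫ cokernel.π γ = 0 := by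
    have h3 : v₁ ≫ cokernel.π β ≫ cokernel.map β γ g l h₂ = 0 := by
      rw [← Category.assoc, ← hv₁, Category.assoc, hcz', comp_zero]
    simpa only [Category.assoc, cokernel.π_desc] using h3
  have hexγ : (ShortComplex.mk γ (cokernel.π γ) (cokernel.condition γ)).Exact :=
    ShortComplex.exact_of_g_is_cokernel _ (cokernelIsCokernel γ)
  obtain ⟨T₂, π₂, hπ₂, z₂, hz₂⟩ := hexγ.exact_up_to_refinements (v₁ ≫ l) h1
  have hz₂' : π₂ ≫ v₁ ≫ l = z₂ ≫ γ := hz₂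
  obtain ⟨T₃, π₃, hπ₃, y₃, hy₃⟩ := surjective_up_to_refinements_of_epi g z₂
  have h2 : (π₃ ≫ π₂ ≫ v₁ - y₃ ≫ β) ≫ l = 0 := by
    simp only [Preadditive.sub_comp, Category.assoc, hz₂', h₂, reassoc_of% hy₃, sub_self]
  obtain ⟨T₄, π₄, hπ₄, u₄, hu₄⟩ :=
    hex.exact_up_to_refinements (π₃ ≫ π₂ ≫ v₁ - y₃ ≫ β) h2
  have hu₄' : π₄ ≫ (π₃ ≫ π₂ ≫ v₁ - y₃ ≫ β) = u₄ ≫ k := hu₄
  refine ⟨T₄, π₄ ≫ π₃ ≫ π₂ ≫ π₁, inferInstance, u₄ ≫ cokernel.π α, ?_⟩
  have e1 : (u₄ ≫ cokernel.π α) ≫ cokernel.map α β f k h₁ = (u₄ ≫ k) ≫ cokernel.π β := by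
    simp only [Category.assoc, cokernel.π_desc]
  show (π₄ ≫ π₃ ≫ π₂ ≫ π₁) ≫ c = (u₄ ≫ cokernel.π α) ≫ cokernel.map α β f k h₁
  rw [e1, ← hu₄']
  simp only [Category.assoc, Preadditive.sub_comp, Preadditive.comp_sub, cokernel.condition,
    comp_zero, sub_zero, hv₁]

end Groth.Agent.S6778
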