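import Groth.Statements.S6779
import Mathlib
import Groth.Agent.Lib.Helper6.MooreSSet

set_option autoImplicit false
open CategoryTheory
universe u
open SSet

namespace Groth.Agent.S6779

/-- The underlying simplicial set of a simplicial group is a Kan complex. -/
theorem result (X : SimplicialObject GrpCat.{u}) : SSet.KanComplex (X ⋙ forget GrpCat.{u}) := by
  exact Groth.Agent.Lib.Helper6.MooreSSet.kanComplex_of_grp X

end Groth.Agent.S6779
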