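-- Statement S6790.
import Groth.Statements.S6790
import Mathlib

set_option autoImplicit false
open CategoryTheory CategoryTheory.Limits MonoidalCategory
universe v u
open CategoryTheory CategoryTheory.Monoidal

namespace Groth.Agent.S6790


/-- A retract of an object with a right dual, along a splitting of the dual idempotent, has a right dual. -/
noncomputable def exactPairingOfRetract {A : Type u} [Category.{v} A] [MonoidalCategory A] {X X₁ Y₁ : A} [HasRightDual X] (i : X₁ ⟶ X) (p : X ⟶ X₁) (hip : i ≫ p = 𝟙 X₁)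
    (j : Y₁ ⟶ Xᘁ) (q : Xᘁ ⟶ Y₁) (hjq : j ≫ q = 𝟙 Y₁) (hqj : q ≫ j = (p ≫ i)ᘁ) :
    ExactPairing X₁ Y₁ where
  coevaluation' := η_ X Xᘁ ≫ p ▷ Xᘁ ≫ X₁ ◁ q
  evaluation' := j ▷ X₁ ≫ Xᘁ ◁ i ≫ ε_ X Xᘁ
  coevaluation_evaluation' := by
    have h1 : Y₁ ◁ p ≫ j ▷ X₁ ≫ Xᘁ ◁ i ≫ ε_ X Xᘁ = j ▷ X ≫ ε_ X Xᘁ := by
      calc Y₁ ◁ p ≫ j ▷ X₁ ≫ Xᘁ ◁ i ≫ ε_ X Xᘁ
          = j ▷ X ≫ Xᘁ ◁ (p ≫ i) ≫ ε_ X Xᘁ := by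
            rw [whisker_exchange_assoc, MonoidalCategory.whiskerLeft_comp, Category.assoc]
        _ = j ▷ X ≫ (p ≫ i)ᘁ ▷ X ≫ ε_ X Xᘁ := by rw [rightAdjointMate_comp_evaluation]
        _ = (j ≫ q ≫ j) ▷ X ≫ ε_ X Xᘁ := by rw [← hqj]; simp only [comp_whiskerRight, Category.assoc]
        _ = j ▷ X ≫ ε_ X Xᘁ := by rw [reassoc_of% hjq]
    calc Y₁ ◁ (η_ X Xᘁ ≫ p ▷ Xᘁ ≫ X₁ ◁ q) ≫ (α_ Y₁ X₁ Y₁).inv ≫ (j ▷ X₁ ≫ Xᘁ ◁ i ≫ ε_ X Xᘁ) ▷ Y₁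
        = Y₁ ◁ η_ X Xᘁ ≫ Y₁ ◁ (p ▷ Xᘁ) ≫ (Y₁ ◁ (X₁ ◁ q) ≫ (α_ Y₁ X₁ Y₁).inv) ≫ (j ▷ X₁ ≫ Xᘁ ◁ i ≫ ε_ X Xᘁ) ▷ Y₁ := by
          simp only [MonoidalCategory.whiskerLeft_comp, Category.assoc]
      _ = Y₁ ◁ η_ X Xᘁ ≫ Y₁ ◁ (p ▷ Xᘁ) ≫ (α_ Y₁ X₁ Xᘁ).inv ≫ ((Y₁ ⊗ X₁) ◁ q ≫ (j ▷ X₁ ≫ Xᘁ ◁ i ≫ ε_ X Xᘁ) ▷ Y₁) := by
          rw [associator_inv_naturality_right]; simp only [Category.assoc]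
      _ = Y₁ ◁ η_ X Xᘁ ≫ (Y₁ ◁ (p ▷ Xᘁ) ≫ (α_ Y₁ X₁ Xᘁ).inv) ≫ (j ▷ X₁ ≫ Xᘁ ◁ i ≫ ε_ X Xᘁ) ▷ Xᘁ ≫ 𝟙_ A ◁ q := by
          rw [whisker_exchange]; simp only [Category.assoc]
      _ = Y₁ ◁ η_ X Xᘁ ≫ (α_ Y₁ X Xᘁ).inv ≫ ((Y₁ ◁ p) ▷ Xᘁ ≫ (j ▷ X₁ ≫ Xᘁ ◁ i ≫ ε_ X Xᘁ) ▷ Xᘁ) ≫ 𝟙_ A ◁ q := by
          rw [associator_inv_naturality_middle]; simp only [Category.assoc]
      _ = Y₁ ◁ η_ X Xᘁ ≫ (α_ Y₁ X Xᘁ).inv ≫ (j ▷ X ≫ ε_ X Xᘁ) ▷ Xᘁ ≫ 𝟙_ A ◁ q := by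
          rw [← comp_whiskerRight, h1]
      _ = Y₁ ◁ η_ X Xᘁ ≫ ((α_ Y₁ X Xᘁ).inv ≫ (j ▷ X) ▷ Xᘁ) ≫ ε_ X Xᘁ ▷ Xᘁ ≫ 𝟙_ A ◁ q := by
          simp only [comp_whiskerRight, Category.assoc]
      _ = (Y₁ ◁ η_ X Xᘁ ≫ j ▷ (X ⊗ Xᘁ)) ≫ (α_ Xᘁ X Xᘁ).inv ≫ ε_ X Xᘁ ▷ Xᘁ ≫ 𝟙_ A ◁ q := by
          rw [← associator_inv_naturality_left]; simp only [Category.assoc]
      _ = j ▷ 𝟙_ A ≫ (Xᘁ ◁ η_ X Xᘁ ≫ (α_ Xᘁ X Xᘁ).inv ≫ ε_ X Xᘁ ▷ Xᘁ) ≫ 𝟙_ A ◁ q := by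
          rw [whisker_exchange]; simp only [Category.assoc]
      _ = j ▷ 𝟙_ A ≫ ((ρ_ Xᘁ).hom ≫ (λ_ Xᘁ).inv) ≫ 𝟙_ A ◁ q := by
          rw [ExactPairing.coevaluation_evaluation]
      _ = (ρ_ Y₁).hom ≫ (j ≫ q) ≫ (λ_ Y₁).inv := by
          simp
      _ = (ρ_ Y₁).hom ≫ (λ_ Y₁).inv := by rw [hjq, Category.id_comp]
  evaluation_coevaluation' := by
    have h1 : q ▷ X₁ ≫ j ▷ X₁ ≫ Xᘁ ◁ i ≫ ε_ X Xᘁ = Xᘁ ◁ i ≫ ε_ X Xᘁ := by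
      calc q ▷ X₁ ≫ j ▷ X₁ ≫ Xᘁ ◁ i ≫ ε_ X Xᘁ
          = (p ≫ i)ᘁ ▷ X₁ ≫ Xᘁ ◁ i ≫ ε_ X Xᘁ := by
            rw [← comp_whiskerRight_assoc, hqj]
        _ = Xᘁ ◁ i ≫ (p ≫ i)ᘁ ▷ X ≫ ε_ X Xᘁ := by rw [← whisker_exchange_assoc]
        _ = Xᘁ ◁ i ≫ Xᘁ ◁ (p ≫ i) ≫ ε_ X Xᘁ := by rw [rightAdjointMate_comp_evaluation]
        _ = Xᘁ ◁ (i ≫ p ≫ i) ≫ ε_ X Xᘁ := by
            simp only [MonoidalCategory.whiskerLeft_comp, Category.assoc]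
        _ = Xᘁ ◁ i ≫ ε_ X Xᘁ := by rw [reassoc_of% hip]
    calc (η_ X Xᘁ ≫ p ▷ Xᘁ ≫ X₁ ◁ q) ▷ X₁ ≫ (α_ X₁ Y₁ X₁).hom ≫ X₁ ◁ (j ▷ X₁ ≫ Xᘁ ◁ i ≫ ε_ X Xᘁ)
        = η_ X Xᘁ ▷ X₁ ≫ (p ▷ Xᘁ) ▷ X₁ ≫ ((X₁ ◁ q) ▷ X₁ ≫ (α_ X₁ Y₁ X₁).hom) ≫ X₁ ◁ (j ▷ X₁ ≫ Xᘁ ◁ i ≫ ε_ X Xᘁ) := by
          simp only [comp_whiskerRight, Category.assoc]
      _ = η_ X Xᘁ ▷ X₁ ≫ (p ▷ Xᘁ) ▷ X₁ ≫ (α_ X₁ Xᘁ X₁).hom ≫ (X₁ ◁ (q ▷ X₁) ≫ X₁ ◁ (j ▷ X₁ ≫ Xᘁ ◁ i ≫ ε_ X Xᘁ)) := by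
          rw [associator_naturality_middle]; simp only [Category.assoc]
      _ = η_ X Xᘁ ▷ X₁ ≫ ((p ▷ Xᘁ) ▷ X₁ ≫ (α_ X₁ Xᘁ X₁).hom) ≫ X₁ ◁ (Xᘁ ◁ i ≫ ε_ X Xᘁ) := by
          rw [← MonoidalCategory.whiskerLeft_comp, h1]; simp only [Category.assoc]
      _ = η_ X Xᘁ ▷ X₁ ≫ (α_ X Xᘁ X₁).hom ≫ (p ▷ (Xᘁ ⊗ X₁) ≫ X₁ ◁ (Xᘁ ◁ i ≫ ε_ X Xᘁ)) := by
          rw [associator_naturality_left]; simp only [Category.assoc]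
      _ = η_ X Xᘁ ▷ X₁ ≫ ((α_ X Xᘁ X₁).hom ≫ X ◁ (Xᘁ ◁ i)) ≫ X ◁ ε_ X Xᘁ ≫ p ▷ 𝟙_ A := by
          rw [← whisker_exchange]; simp only [MonoidalCategory.whiskerLeft_comp, Category.assoc]
      _ = (η_ X Xᘁ ▷ X₁ ≫ (X ⊗ Xᘁ) ◁ i) ≫ (α_ X Xᘁ X).hom ≫ X ◁ ε_ X Xᘁ ≫ p ▷ 𝟙_ A := by
          rw [← associator_naturality_right]; simp only [Category.assoc]
      _ = 𝟙_ A ◁ i ≫ (η_ X Xᘁ ▷ X ≫ (α_ X Xᘁ X).hom ≫ X ◁ ε_ X Xᘁ) ≫ p ▷ 𝟙_ A := by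
          rw [← whisker_exchange]; simp only [Category.assoc]
      _ = 𝟙_ A ◁ i ≫ ((λ_ X).hom ≫ (ρ_ X).inv) ≫ p ▷ 𝟙_ A := by
          rw [ExactPairing.evaluation_coevaluation]
      _ = (λ_ X₁).hom ≫ (i ≫ p) ≫ (ρ_ X₁).inv := by
          simp
      _ = (λ_ X₁).hom ≫ (ρ_ X₁).inv := by rw [hip, Category.id_comp]

/-- In an idempotent-complete additive monoidal category, a direct summand of an object admitting a dual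
(with coevaluation `𝟙_ A ⟶ X ⊗ Y` and evaluation `Y ⊗ X ⟶ 𝟙_ A`) again admits such a dual. -/
theorem result {A : Type u} [Category.{v} A] [Preadditive A] [HasFiniteBiproducts A] [MonoidalCategory A] [MonoidalPreadditive A] [IsIdempotentComplete A] {X X₁ : A} (i : X₁ ⟶ X) (p : X ⟶ X₁) (hip : i ≫ p = 𝟙 X₁) [HasRightDual X] : Nonempty (HasRightDual X₁) := by
  have hidem : (p ≫ i)ᘁ ≫ (p ≫ i)ᘁ = (p ≫ i)ᘁ := by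
    rw [← comp_rightAdjointMate]
    congr 1
    rw [Category.assoc, reassoc_of% hip]
  obtain ⟨Y₁, j, q, hjq, hqj⟩ := IsIdempotentComplete.idempotents_split _ _ hidem
  exact ⟨{ rightDual := Y₁, exact := exactPairingOfRetract i p hip j q hjq hqj }⟩

end Groth.Agent.S6790
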