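-- Statement S6791.
import Groth.Statements.S6791
import Mathlib

set_option autoImplicit false
open CategoryTheory CategoryTheory.Limits
universe v u v' u' v'' u''
open CategoryTheory CategoryTheory.SerreClass

namespace Groth.Agent.S6791

/-- For an exact functor `F : A ⥤ B` of abelian categories and a Serre class `P` of `A` killed by `F`,
with `L : A ⥤ Q` a model of the quotient `A/P` and `Fbar : Q ⥤ B` the induced functor, `P` is
exactly the kernel of `F` if and only if `Fbar` is faithful. -/
theorem result {A : Type u} [Category.{v} A] [Abelian A] {B : Type u'} [Category.{v'} B] [Abelian B] (F : A ⥤ B) [F.Additive] [PreservesFiniteLimits F] [PreservesFiniteColimits F] (P : ObjectProperty A) [P.IsSerreClass] (hP : ∀ X : A, P X → IsZero (F.obj X)) {Q : Type u''} [Category.{v''} Q] [Abelian Q] (L : A ⥤ Q) [L.IsLocalization P.isoModSerre] [L.Additive] [PreservesFiniteLimits L] [PreservesFiniteColimits L] (Fbar : Q ⥤ B) (e : L ⋙ Fbar ≅ F) : (∀ X : A, IsZero (F.obj X) → P X) ↔ Fbar.Faithful := by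
  haveI : (L ⋙ Fbar).Additive := Functor.additive_of_iso e.symm
  haveI : Fbar.Additive := (Localization.functor_additive_iff L P.isoModSerre Fbar).2 inferInstance
  constructor
  · intro h
    -- key: a morphism `g : L X ⟶ L Y` killed by `Fbar` is zero
    have key : ∀ {X Y : A} (g : L.obj X ⟶ L.obj Y), Fbar.map g = 0 → g = 0 := by
      intro X Y g hg
      obtain ⟨φ, rfl⟩ := Localization.exists_leftFraction L P.isoModSerre g
      have h1 : Fbar.map (L.map φ.f) = 0 := by
        rw [← MorphismProperty.LeftFraction.map_comp_map_s φ L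
          (Localization.inverts L P.isoModSerre), Fbar.map_comp, hg, zero_comp]
      have h2 : F.map φ.f = 0 := by
        have := e.hom.naturality φ.f
        have h3 : F.map φ.f = e.inv.app _ ≫ (L ⋙ Fbar).map φ.f ≫ e.hom.app _ := by
          rw [this]; simp
        rw [h3, Functor.comp_map, h1, zero_comp, comp_zero]
      have h4 : P (Abelian.image φ.f) := by
        apply h
        have h5 : F.map (Abelian.factorThruImage φ.f) ≫ F.map (Abelian.image.ι φ.f) = 0 := by
          rw [← F.map_comp, Abelian.image.fac, h2]
        have h6 : F.map (Abelian.image.ι φ.f) = 0 := by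
          rw [← cancel_epi (F.map (Abelian.factorThruImage φ.f)), h5, comp_zero]
        exact IsZero.of_mono_eq_zero _ h6
      have h7 : L.map φ.f = 0 :=
        (ObjectProperty.SerreClassLocalization.map_eq_zero_iff L P φ.f).2 h4
      rw [← cancel_mono (L.map φ.s), MorphismProperty.LeftFraction.map_comp_map_s, h7, zero_comp]
        <;> exact (Localization.inverts L P.isoModSerre _ φ.hs)
    haveI : L.EssSurj := Localization.essSurj L P.isoModSerre
    refine ⟨fun {X' Y'} g₁ g₂ hg => ?_⟩
    have h0 : Fbar.map (g₁ - g₂) = 0 := by rw [Fbar.map_sub, hg, sub_self]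
    have h1 := key ((L.objObjPreimageIso X').hom ≫ (g₁ - g₂) ≫ (L.objObjPreimageIso Y').inv)
      (by rw [Fbar.map_comp, Fbar.map_comp, h0, zero_comp, comp_zero])
    rw [← cancel_epi (L.objObjPreimageIso X').hom, ← cancel_mono (L.objObjPreimageIso Y').inv,
      Category.assoc, Category.assoc]
    rw [← sub_eq_zero, ← Preadditive.comp_sub, ← Preadditive.sub_comp]
    exact h1
  · intro hF X hX
    rw [← ObjectProperty.SerreClassLocalization.isZero_obj_iff L P]
    have h1 : IsZero (Fbar.obj (L.obj X)) := hX.of_iso (e.app X)
    rw [IsZero.iff_id_eq_zero]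
    apply Fbar.map_injective
    exact h1.eq_of_src _ _

end Groth.Agent.S6791
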