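-- Statement S6795.
import Groth.Statements.S6795
import Mathlib

set_option autoImplicit false
open CategoryTheory CategoryTheory.Limits
universe v u
open CategoryTheory CategoryTheory.Preadditive

namespace Groth.Agent.S6795


section Swindle

variable {D : Type u} [Category.{v} D] [Preadditive D] [HasCountableProducts D]

/-- the "shift" endomorphism of the countable power used in the Eilenberg swindle -/
noncomputable def sw {X : D} (p : X ⟶ X) : (∏ᶜ fun _ : ℕ => X) ⟶ (∏ᶜ fun _ : ℕ => X) :=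
  Pi.lift fun n => Pi.π (fun _ : ℕ => X) n ≫ p + Pi.π (fun _ : ℕ => X) (n + 1) ≫ (𝟙 X - p)

/-- its section -/
noncomputable def tw {X : D} (p : X ⟶ X) : (∏ᶜ fun _ : ℕ => X) ⟶ (∏ᶜ fun _ : ℕ => X) :=
  Pi.lift fun n => match n with
    | 0 => Pi.π (fun _ : ℕ => X) 0 ≫ p
    | (m + 1) => Pi.π (fun _ : ℕ => X) (m + 1) ≫ p + Pi.π (fun _ : ℕ => X) m ≫ (𝟙 X - p)

lemma sw_π {X : D} (p : X ⟶ X) (n : ℕ) :
    sw p ≫ Pi.π (fun _ : ℕ => X) n =
      Pi.π (fun _ : ℕ => X) n ≫ p + Pi.π (fun _ : ℕ => X) (n + 1) ≫ (𝟙 X - p) := by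
  unfold sw
  rw [Pi.lift_π]

lemma tw_π_zero {X : D} (p : X ⟶ X) :
    tw p ≫ Pi.π (fun _ : ℕ => X) 0 = Pi.π (fun _ : ℕ => X) 0 ≫ p := by
  unfold tw
  rw [Pi.lift_π]

lemma tw_π_succ {X : D} (p : X ⟶ X) (m : ℕ) :
    tw p ≫ Pi.π (fun _ : ℕ => X) (m + 1) =
      Pi.π (fun _ : ℕ => X) (m + 1) ≫ p + Pi.π (fun _ : ℕ => X) m ≫ (𝟙 X - p) := by
  unfold tw
  rw [Pi.lift_π]

lemma tw_sw {X : D} (p : X ⟶ X) (hp : p ≫ p = p) : tw p ≫ sw p = 𝟙 _ := by
  have h1 : p ≫ (𝟙 X - p) = 0 := by rw [comp_sub, Category.comp_id, hp, sub_self]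
  have h2 : (𝟙 X - p) ≫ p = 0 := by rw [sub_comp, Category.id_comp, hp, sub_self]
  have h3 : (𝟙 X - p) ≫ (𝟙 X - p) = 𝟙 X - p := by
    rw [comp_sub, Category.comp_id, h2, sub_zero]
  apply Limits.Pi.hom_ext
  intro n
  rw [Category.assoc, sw_π, comp_add, ← Category.assoc, ← Category.assoc, Category.id_comp]
  cases n with
  | zero =>
    rw [tw_π_zero, tw_π_succ, Category.assoc, hp, add_comp, Category.assoc, Category.assoc, h1,
      h3, comp_zero, zero_add]
    rw [← comp_add, add_sub_cancel, Category.comp_id]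
  | succ m =>
    rw [tw_π_succ, tw_π_succ, add_comp, add_comp, Category.assoc, Category.assoc, Category.assoc,
      Category.assoc, hp, h1, h2, h3, comp_zero, comp_zero, add_zero, zero_add]
    rw [← comp_add, add_sub_cancel, Category.comp_id]

end Swindle

/-- A preadditive category with countable products in which split epimorphisms have kernels is
idempotent complete (Karoubian). -/
theorem result {D : Type u} [Category.{v} D] [Preadditive D] [HasCountableProducts D] (hk : ∀ ⦃X Y : D⦄ (f : X ⟶ Y), IsSplitEpi f → HasKernel f) : IsIdempotentComplete D := by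
  rw [Idempotents.isIdempotentComplete_iff_idempotents_have_kernels]
  intro X p hp
  have h1 : p ≫ (𝟙 X - p) = 0 := by rw [comp_sub, Category.comp_id, hp, sub_self]
  have h2 : (𝟙 X - p) ≫ p = 0 := by rw [sub_comp, Category.id_comp, hp, sub_self]
  have hsplit : IsSplitEpi (sw p) := IsSplitEpi.mk' ⟨tw p, tw_sw p hp⟩
  haveI : HasKernel (sw p) := hk _ hsplit
  let k := kernel.ι (sw p)
  have hk0 : ∀ n, (k ≫ Pi.π (fun _ : ℕ => X) n) ≫ p +
      (k ≫ Pi.π (fun _ : ℕ => X) (n + 1)) ≫ (𝟙 X - p) = 0 := by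
    intro n
    have := congrArg (· ≫ Pi.π (fun _ : ℕ => X) n) (kernel.condition (sw p))
    simp only [Category.assoc, zero_comp, sw_π, comp_add] at this
    simpa only [Category.assoc] using this
  have hA : ∀ n, (k ≫ Pi.π (fun _ : ℕ => X) n) ≫ p = 0 := by
    intro n
    have := congrArg (· ≫ p) (hk0 n)
    simp only [add_comp, Category.assoc, hp, h2, comp_zero, add_zero, zero_comp] at this
    simpa only [Category.assoc] using this
  have hB : ∀ n, k ≫ Pi.π (fun _ : ℕ => X) (n + 1) = 0 := by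
    intro n
    have h := hk0 n
    rw [hA n, zero_add, comp_sub, Category.comp_id, hA (n + 1), sub_zero] at h
    exact h
  refine ⟨⟨⟨KernelFork.ofι (k ≫ Pi.π (fun _ : ℕ => X) 0) (hA 0), ?_⟩⟩⟩
  refine KernelFork.IsLimit.ofι _ _
    (fun {W} g hg => kernel.lift (sw p)
      (Pi.lift fun n => match n with
        | 0 => g
        | (_ + 1) => 0) ?_) ?_ ?_
  · apply Limits.Pi.hom_ext
    intro n
    rw [Category.assoc, sw_π, comp_add, ← Category.assoc, ← Category.assoc, Pi.lift_π, Pi.lift_π,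
      zero_comp]
    cases n with
    | zero => simp only [hg, zero_comp, add_zero]
    | succ m => simp only [zero_comp, add_zero]
  · intro W g hg
    rw [← Category.assoc, kernel.lift_ι, Pi.lift_π]
  · intro W g hg m hm
    rw [← cancel_mono (kernel.ι (sw p)), kernel.lift_ι]
    apply Limits.Pi.hom_ext
    intro n
    rw [Pi.lift_π]
    cases n with
    | zero => simpa only [Category.assoc] using hm
    | succ n' =>
      rw [Category.assoc]
      have := hB n'
      change kernel.ι (sw p) ≫ _ = 0 at this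
      rw [this, comp_zero]

end Groth.Agent.S6795
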