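-- Statement S6796.
import Groth.Statements.S6796
import Mathlib

set_option autoImplicit false
open CategoryTheory CategoryTheory.Limits
universe v u
open CategoryTheory CategoryTheory.Preadditive

namespace Groth.Agent.S6796


section Swindle

variable {D : Type u} [Category.{v} D] [Preadditive D] [HasCountableCoproducts D]

noncomputable def sw {X : D} (q : X ⟶ X) : (∐ fun _ : ℕ => X) ⟶ (∐ fun _ : ℕ => X) :=
  Sigma.desc fun n => q ≫ Sigma.ι (fun _ : ℕ => X) n + (𝟙 X - q) ≫ Sigma.ι (fun _ : ℕ => X) (n + 1)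

noncomputable def tw {X : D} (q : X ⟶ X) : (∐ fun _ : ℕ => X) ⟶ (∐ fun _ : ℕ => X) :=
  Sigma.desc fun n => match n with
    | 0 => q ≫ Sigma.ι (fun _ : ℕ => X) 0
    | (m + 1) => q ≫ Sigma.ι (fun _ : ℕ => X) (m + 1) + (𝟙 X - q) ≫ Sigma.ι (fun _ : ℕ => X) m

lemma ι_sw {X : D} (q : X ⟶ X) (n : ℕ) :
    Sigma.ι (fun _ : ℕ => X) n ≫ sw q =
      q ≫ Sigma.ι (fun _ : ℕ => X) n + (𝟙 X - q) ≫ Sigma.ι (fun _ : ℕ => X) (n + 1) := by
  unfold sw
  rw [Sigma.ι_desc]

lemma ι_tw_zero {X : D} (q : X ⟶ X) :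
    Sigma.ι (fun _ : ℕ => X) 0 ≫ tw q = q ≫ Sigma.ι (fun _ : ℕ => X) 0 := by
  unfold tw
  rw [Sigma.ι_desc]

lemma ι_tw_succ {X : D} (q : X ⟶ X) (m : ℕ) :
    Sigma.ι (fun _ : ℕ => X) (m + 1) ≫ tw q =
      q ≫ Sigma.ι (fun _ : ℕ => X) (m + 1) + (𝟙 X - q) ≫ Sigma.ι (fun _ : ℕ => X) m := by
  unfold tw
  rw [Sigma.ι_desc]

lemma sw_tw {X : D} (q : X ⟶ X) (hq : q ≫ q = q) : sw q ≫ tw q = 𝟙 _ := by
  have h1 : q ≫ (𝟙 X - q) = 0 := by rw [comp_sub, Category.comp_id, hq, sub_self]
  have h2 : (𝟙 X - q) ≫ q = 0 := by rw [sub_comp, Category.id_comp, hq, sub_self]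
  have h3 : (𝟙 X - q) ≫ (𝟙 X - q) = 𝟙 X - q := by
    rw [comp_sub, Category.comp_id, h2, sub_zero]
  apply Limits.Sigma.hom_ext
  intro n
  rw [← Category.assoc, ι_sw, add_comp, Category.assoc, Category.assoc, Category.comp_id]
  cases n with
  | zero =>
    rw [ι_tw_zero, ι_tw_succ, ← Category.assoc, hq, comp_add, ← Category.assoc, ← Category.assoc,
      h2, h3, zero_comp, zero_add]
    rw [← add_comp, add_sub_cancel, Category.id_comp]
  | succ m =>
    rw [ι_tw_succ, ι_tw_succ, comp_add, comp_add, ← Category.assoc, ← Category.assoc,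
      ← Category.assoc, ← Category.assoc, hq, h1, h2, h3, zero_comp, zero_comp, add_zero, zero_add]
    rw [← add_comp, add_sub_cancel, Category.id_comp]

/-- idempotents have cokernels -/
lemma hasCokernel_of_idem (hk : ∀ ⦃X Y : D⦄ (f : X ⟶ Y), IsSplitMono f → HasCokernel f)
    {X : D} (q : X ⟶ X) (hq : q ≫ q = q) : HasCokernel q := by
  have h1 : q ≫ (𝟙 X - q) = 0 := by rw [comp_sub, Category.comp_id, hq, sub_self]
  have hsplit : IsSplitMono (sw q) := IsSplitMono.mk' ⟨tw q, sw_tw q hq⟩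
  haveI : HasCokernel (sw q) := hk _ hsplit
  let c := cokernel.π (sw q)
  have hk0 : ∀ n, q ≫ (Sigma.ι (fun _ : ℕ => X) n ≫ c) +
      (𝟙 X - q) ≫ (Sigma.ι (fun _ : ℕ => X) (n + 1) ≫ c) = 0 := by
    intro n
    have := congrArg (Sigma.ι (fun _ : ℕ => X) n ≫ ·) (cokernel.condition (sw q))
    simp only [comp_zero] at this
    rw [← Category.assoc, ι_sw, add_comp, Category.assoc, Category.assoc] at this
    exact this
  have hA : ∀ n, q ≫ (Sigma.ι (fun _ : ℕ => X) n ≫ c) = 0 := by
    intro n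
    have := congrArg (q ≫ ·) (hk0 n)
    simp only [comp_add, comp_zero] at this
    rw [← Category.assoc, hq, ← Category.assoc q (𝟙 X - q), h1, zero_comp, add_zero] at this
    exact this
  have hB : ∀ n, Sigma.ι (fun _ : ℕ => X) (n + 1) ≫ c = 0 := by
    intro n
    have h := hk0 n
    rw [hA n, zero_add, sub_comp, Category.id_comp, hA (n + 1), sub_zero] at h
    exact h
  refine ⟨⟨⟨CokernelCofork.ofπ (Sigma.ι (fun _ : ℕ => X) 0 ≫ c) (hA 0), ?_⟩⟩⟩
  refine CokernelCofork.IsColimit.ofπ _ _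
    (fun {W} g hg => cokernel.desc (sw q)
      (Sigma.desc fun n => match n with
        | 0 => g
        | (_ + 1) => 0) ?_) ?_ ?_
  · apply Limits.Sigma.hom_ext
    intro n
    rw [← Category.assoc, ι_sw, add_comp, Category.assoc, Category.assoc, Sigma.ι_desc,
      Sigma.ι_desc, comp_zero]
    cases n with
    | zero => simp only [hg, comp_zero, add_zero]
    | succ m => simp only [comp_zero, add_zero]
  · intro W g hg
    rw [Category.assoc, cokernel.π_desc, Sigma.ι_desc]
  · intro W g hg m hm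
    rw [← cancel_epi (cokernel.π (sw q)), cokernel.π_desc]
    apply Limits.Sigma.hom_ext
    intro n
    rw [Sigma.ι_desc]
    cases n with
    | zero => simpa only [Category.assoc] using hm
    | succ n' =>
      rw [← Category.assoc]
      have := hB n'
      change _ ≫ cokernel.π (sw q) = 0 at this
      rw [this, zero_comp]

end Swindle

/-- A preadditive category with countable coproducts in which split monomorphisms have cokernels is
idempotent complete (Karoubian). -/
theorem result {D : Type u} [Category.{v} D] [Preadditive D] [HasCountableCoproducts D] (hk : ∀ ⦃X Y : D⦄ (f : X ⟶ Y), IsSplitMono f → HasCokernel f) : IsIdempotentComplete D := by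
  refine ⟨fun X p hp => ?_⟩
  have hq : (𝟙 X - p) ≫ (𝟙 X - p) = 𝟙 X - p := by
    simp only [comp_sub, sub_comp, Category.id_comp, Category.comp_id, hp, sub_self, sub_zero]
  haveI : HasCokernel (𝟙 X - p) := hasCokernel_of_idem hk _ hq
  have h0 : (𝟙 X - p) ≫ p = 0 := by rw [sub_comp, Category.id_comp, hp, sub_self]
  refine ⟨cokernel (𝟙 X - p), cokernel.desc (𝟙 X - p) p h0, cokernel.π (𝟙 X - p), ?_, ?_⟩
  · rw [← cancel_epi (cokernel.π (𝟙 X - p)), ← Category.assoc, cokernel.π_desc, Category.comp_id]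
    have := cokernel.condition (𝟙 X - p)
    rw [sub_comp, Category.id_comp, sub_eq_zero] at this
    exact this.symm
  · rw [cokernel.π_desc]

end Groth.Agent.S6796
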