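import Groth.Statements.S6799
-- import your own Groth.Agent.* helpers here
import Groth.Agent.Lib.Helper23.CoskHtpy

set_option autoImplicit false
open CategoryTheory Opposite
universe u
open SSet

namespace Groth.Agent.S6799



/-- Two maps between `n`-coskeletal simplicial sets which agree on simplices of dimension `< n` are
homotopic, by a single homotopy. -/
theorem result {U V : SSet.{u}} (f₀ f₁ : V ⟶ U) (n : ℕ) (h : ∀ i : ℕ, i < n → f₀.app (op (SimplexCategory.mk i)) = f₁.app (op (SimplexCategory.mk i))) [SimplicialObject.IsCoskeletal U n] [SimplicialObject.IsCoskeletal V n] : Nonempty (SSet.Homotopy f₀ f₁) := by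
  classical
  open Groth.Agent.Lib.Helper23.CoskHtpy MonoidalCategory Simplicial in
  refine ⟨{ h := hmap f₀ f₁ n h, h₀ := ?_, h₁ := ?_, rel := ?_ }⟩
  · apply Functor.hom_ext_of_isRightKanExtension U (𝟙 ((SimplexCategory.Truncated.inclusion n).op ⋙ U))
    ext a x
    change (hmap f₀ f₁ n h).app (op a.unop.obj) ((ι₀ : V ⟶ V ⊗ Δ[1]).app (op a.unop.obj) x) =
      f₀.app (op a.unop.obj) x
    have := hmap_app_apply f₀ f₁ n h a x ((ι₀ : V ⟶ V ⊗ Δ[1]).app (op a.unop.obj) x).2
    exact this.trans (if_neg (not_isOne_iota0 V x))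
  · apply Functor.hom_ext_of_isRightKanExtension U (𝟙 ((SimplexCategory.Truncated.inclusion n).op ⋙ U))
    ext a x
    change (hmap f₀ f₁ n h).app (op a.unop.obj) ((ι₁ : V ⟶ V ⊗ Δ[1]).app (op a.unop.obj) x) =
      f₁.app (op a.unop.obj) x
    have := hmap_app_apply f₀ f₁ n h a x ((ι₁ : V ⟶ V ⊗ Δ[1]).app (op a.unop.obj) x).2
    exact this.trans (if_pos (isOne_iota1 V x))
  · ext m ⟨⟨x, hx⟩, α⟩
    exact hx.elim

end Groth.Agent.S6799
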