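-- Statement S6801.
import Groth.Statements.S6801
import Mathlib
import Groth.Agent.Lib.Helper1.SubImg

set_option autoImplicit false
open CategoryTheory
universe v u
open SpSeq SpSeq.FilObj

namespace Groth.Agent.S6801

/-- The composite of two strict morphisms of filtered objects is strict when the second one is a
monomorphism. (In general a composite of strict morphisms is not strict.) -/
theorem result {A : Type u} [Category.{v} A] [Abelian A] {K L M : SpSeq.FilObj A} (f : K ⟶ L) (g : L ⟶ M) (hf : SpSeq.FilObj.IsStrict f) (hg : SpSeq.FilObj.IsStrict g) [Mono g.hom] : SpSeq.FilObj.IsStrict (f ≫ g) := by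
  intro p
  have e1 := hf p
  have e2 := hg p
  change Groth.Agent.Lib.Helper1.SubImg.img (f.hom ≫ g.hom) (K.fil p)
    = Limits.imageSubobject (f.hom ≫ g.hom) ⊓ M.fil p
  change Groth.Agent.Lib.Helper1.SubImg.img f.hom (K.fil p) = Limits.imageSubobject f.hom ⊓ L.fil p at e1
  change Groth.Agent.Lib.Helper1.SubImg.img g.hom (L.fil p) = Limits.imageSubobject g.hom ⊓ M.fil p at e2
  open Groth.Agent.Lib.Helper1.SubImg in
  rw [img_comp, e1, img_inf_of_mono, e2, ← img_top f.hom, ← img_comp, img_top, ← inf_assoc]
  congr 1
  exact inf_eq_left.2 (Limits.imageSubobject_comp_le _ _)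

end Groth.Agent.S6801
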