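-- Statement S6803.
import Groth.Statements.S6803
import Mathlib
import Groth.Agent.Lib.Helper1.FilPO
import Groth.Agent.S6801

set_option autoImplicit false
open CategoryTheory CategoryTheory.Limits
universe v u
open SpSeq SpSeq.FilObj

namespace Groth.Agent.S6803

/-- Pushouts exist in the category of filtered objects of an abelian category, and the pushout of a
strict morphism is strict. -/
theorem result {A : Type u} [Category.{v} A] [Abelian A] {K L M : SpSeq.FilObj A} (f : K ⟶ L) (g : K ⟶ M) : HasPushout f g ∧ ∀ (P : SpSeq.FilObj A) (g' : L ⟶ P) (f' : M ⟶ P), IsPushout f g g' f' → SpSeq.FilObj.IsStrict f → SpSeq.FilObj.IsStrict f' := by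
  refine ⟨HasColimit.mk ⟨_, Groth.Agent.Lib.Helper1.FilPO.poIsColimit f g⟩, ?_⟩
  intro P g' f' hP hf
  let e := (Groth.Agent.Lib.Helper1.FilPO.isPushout_po f g).isoIsPushout _ _ hP
  have h1 : f' = Groth.Agent.Lib.Helper1.FilPO.poInr f g ≫ e.hom :=
    ((Groth.Agent.Lib.Helper1.FilPO.isPushout_po f g).inr_isoIsPushout_hom _ _ hP).symm
  rw [h1]
  haveI : Mono e.hom.hom := Groth.Agent.Lib.Helper1.FilPO.mono_hom_of_iso e
  exact Groth.Agent.S6801.result (Groth.Agent.Lib.Helper1.FilPO.poInr f g) e.hom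
    (Groth.Agent.Lib.Helper1.FilPO.isStrict_poInr f g hf)
    (Groth.Agent.Lib.Helper1.FilPB.isStrict_of_iso e)

end Groth.Agent.S6803
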