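-- Statement S6808.
import Groth.Statements.S6808
import Mathlib

set_option autoImplicit false
open CategoryTheory Opposite
universe u
open SSet

namespace Groth.Agent.S6808

/-- A map of simplicial sets preserving non-degeneracy of simplices and injective on non-degenerate
simplices is injective in every dimension. -/
theorem result {U V : SSet.{u}} (f : U ⟶ V) (ha : ∀ (n : ℕ) (x : U.obj (op (SimplexCategory.mk n))), x ∈ U.nonDegenerate n → f.app (op (SimplexCategory.mk n)) x ∈ V.nonDegenerate n) (hb : ∀ n : ℕ, Set.InjOn (f.app (op (SimplexCategory.mk n))) (U.nonDegenerate n)) (n : ℕ) : Function.Injective (f.app (op (SimplexCategory.mk n))) := by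
  intro x y hxy
  obtain ⟨m₁, σ₁, _, x', hx⟩ := U.exists_nonDegenerate x
  obtain ⟨m₂, σ₂, _, y', hy⟩ := U.exists_nonDegenerate y
  have hz1 : f.app (op (SimplexCategory.mk n)) x =
      V.map σ₁.op (f.app (op (SimplexCategory.mk m₁)) x'.1) := by
    rw [hx]; exact NatTrans.naturality_apply f σ₁.op x'.1
  have hz2 : f.app (op (SimplexCategory.mk n)) x =
      V.map σ₂.op (f.app (op (SimplexCategory.mk m₂)) y'.1) := by
    rw [hxy, hy]; exact NatTrans.naturality_apply f σ₂.op y'.1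
  have hm : m₁ = m₂ := V.unique_nonDegenerate_dim _ σ₁ ⟨_, ha _ _ x'.2⟩ hz1 σ₂ ⟨_, ha _ _ y'.2⟩ hz2
  subst hm
  have h1 := V.unique_nonDegenerate_simplex _ σ₁ ⟨_, ha _ _ x'.2⟩ hz1 σ₂ ⟨_, ha _ _ y'.2⟩ hz2
  have h2 := V.unique_nonDegenerate_map _ σ₁ ⟨_, ha _ _ x'.2⟩ hz1 σ₂ ⟨_, ha _ _ y'.2⟩ hz2
  have h3 : x'.1 = y'.1 := hb m₁ x'.2 y'.2 (congrArg Subtype.val h1)
  rw [hx, hy, h2, h3]

end Groth.Agent.S6808
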