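-- Statement S6811.
import Groth.Statements.S6811
import Mathlib
import Groth.Agent.Lib.Helper1.TruncKan

set_option autoImplicit false
open CategoryTheory CategoryTheory.Limits
universe v u
open CategoryTheory CategoryTheory.SimplicialObject

namespace Groth.Agent.S6811

/-- In a category with finite limits, an `n`-coskeletal simplicial object is `m`-coskeletal for every `m
≥ n`. -/
theorem result {C : Type u} [Category.{v} C] [HasFiniteLimits C] (U : SimplicialObject C) {n m : ℕ} (h : n ≤ m) [U.IsCoskeletal n] : U.IsCoskeletal m := by
  exact Groth.Agent.Lib.Helper1.TruncKan.isCoskeletal_of_le U h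

end Groth.Agent.S6811
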