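-- Statement S6813.
import Groth.Statements.S6813
import Mathlib
import Groth.Agent.Lib.Helper1.TruncKan

set_option autoImplicit false
open CategoryTheory CategoryTheory.Limits
universe v u
open CategoryTheory CategoryTheory.SimplicialObject

namespace Groth.Agent.S6813

/-- For `k ≥ 1` the forgetful functor from the over category `C/X` to `C` (with `C` having finite
limits) commutes with `cosk_k`; stated as: a `k`-coskeletal simplicial object of `C/X` has
`k`-coskeletal underlying simplicial object in `C`. -/
theorem result {C : Type u} [Category.{v} C] [HasFiniteLimits C] (X : C) (k : ℕ) (hk : 1 ≤ k) (V : SimplicialObject (Over X)) [V.IsCoskeletal k] : SimplicialObject.IsCoskeletal (V ⋙ Over.forget X) k := by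
  haveI : NeZero k := ⟨by omega⟩
  haveI : (SimplexCategory.Truncated.inclusion k).op.Final := inferInstance
  haveI hc : ∀ d, IsConnected (StructuredArrow d (SimplexCategory.Truncated.inclusion k).op) :=
    fun d => Functor.Final.out d
  haveI := Groth.Agent.Lib.Helper1.TruncKan.hasPointwiseRightKanExtension k
    ((SimplexCategory.Truncated.inclusion k).op ⋙ V)
  haveI : (Over.forget X).PreservesPointwiseRightKanExtension
      ((SimplexCategory.Truncated.inclusion k).op ⋙ V) (SimplexCategory.Truncated.inclusion k).op :=
    fun c => inferInstance
  have := Functor.PreservesRightKanExtension.preserves (G := Over.forget X) V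
    (𝟙 ((SimplexCategory.Truncated.inclusion k).op ⋙ V))
  have key : (((SimplexCategory.Truncated.inclusion k).op.associator V (Over.forget X)).inv ≫
      Functor.whiskerRight (𝟙 ((SimplexCategory.Truncated.inclusion k).op ⋙ V)) (Over.forget X))
      = 𝟙 _ := by
    ext x; simp
  rw [key] at this
  exact ⟨this⟩

end Groth.Agent.S6813
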