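import Groth.Statements.S6814
import Groth.Agent.Lib.Helper24.TruncRKE

set_option autoImplicit false
open CategoryTheory CategoryTheory.Limits Opposite
universe v u
open CategoryTheory CategoryTheory.SimplicialObject CategoryTheory.SimplicialObject.Truncated

namespace Groth.Agent.S6814

/-- Let `U` be an `(n+1)`-truncated simplicial object of a category `C` (so the truncation level is at
least `1`), and let `T` be an object with morphisms `π_0, …, π_{n+2} : T ⟶ U_{n+1}` satisfying the
face relations `d_j π_i = d_i π_{j+1}` for `i ≤ j` and universal among such families (that is, `T`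
represents the functor of `(n+3)`-tuples of morphisms to `U_{n+1}` satisfying the face relations).
Then `U` extends to an `(n+2)`-truncated simplicial object right adjoint to restriction: the
pointwise right Kan extension of `U` along the inclusion of `(n+1)`-truncated into `(n+2)`-truncated
simplex categories exists, and for any right Kan extension `V` of `U` the morphism `V_{n+2} ⟶ T`
matching the faces of `V` with the `π_k` is an isomorphism (the new top term is the representing
object). -/
theorem result {C : Type u} [Category.{v} C] (n : ℕ) (U : (SimplexCategory.Truncated (n + 1))ᵒᵖ ⥤ C) (T : C) (π : Fin (n + 3) → (T ⟶ U.obj (op ⟨SimplexCategory.mk (n + 1), (SimplexCategory.len_mk (n + 1)).le⟩))) (hπ : ∀ i j : Fin (n + 2), i ≤ j → π (Fin.castSucc i) ≫ U.map (SimplexCategory.Truncated.δ (n + 1) j ((SimplexCategory.len_mk n).trans_le (Nat.le_succ n)) (SimplexCategory.len_mk (n + 1)).le).op = π j.succ ≫ U.map (SimplexCategory.Truncated.δ (n + 1) i ((SimplexCategory.len_mk n).trans_le (Nat.le_succ n)) (SimplexCategory.len_mk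 (n + 1)).le).op) (huniv : ∀ (S : C) (g : Fin (n + 3) → (S ⟶ U.obj (op ⟨SimplexCategory.mk (n + 1), (SimplexCategory.len_mk (n + 1)).le⟩))), (∀ i j : Fin (n + 2), i ≤ j → g (Fin.castSucc i) ≫ U.map (SimplexCategory.Truncated.δ (n + 1) j ((SimplexCategory.len_mk n).trans_le (Nat.le_succ n)) (SimplexCategory.len_mk (n + 1)).le).op = g j.succ ≫ U.map (SimplexCategory.Truncated.δ (n + 1) i ((SimplexCategory.len_mk n).trans_le (Nat.le_succ n)) (SimplexCategory.len_mk (n + 1)).le).op) → ∃! t : S ⟶ T, ∀ k : Fin (n + 3), t ≫ π k = g k) : (SimplexCategory.Truncated.incl (n + 1) (n + 2) (Nat.le_succ _)).op.HasPointwiseRightKanExtension U ∧ ∀ (V : (SimplexCategory.Truncated (n + 2))ᵒᵖ ⥤ C) (α : (SimplexCategory.Truncated.incl (n + 1) (n + 2) (Nat.le_succ _)).op ⋙ V ⟶ U) [V.IsRightKanExtension α] (t : V.obj (op ⟨SimplexCategory.mk (n + 2), (SimplexCategory.len_mk (n + 2)).le⟩) ⟶ T), (∀ k : Fin (n + 3), t ≫ π k = V.map (SimplexCategory.Truncated.δ (n + 2) k ((SimplexCategory.len_mk (n + 1)).trans_le (Nat.le_succ (n + 1))) (SimplexCategory.len_mk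 (n + 2)).le).op ≫ α.app (op ⟨SimplexCategory.mk (n + 1), (SimplexCategory.len_mk (n + 1)).le⟩)) → IsIso t := by
  classical
  have hF : Groth.Agent.Lib.Helper24.TruncRKE.Faces n U π := hπ
  have huniv' : ∀ (S : C) (g : Fin (n + 3) → (S ⟶ U.obj (op (Groth.Agent.Lib.Helper24.TruncRKE.top1 n)))),
      Groth.Agent.Lib.Helper24.TruncRKE.Faces n U g → ∃! t : S ⟶ T, ∀ k : Fin (n + 3), t ≫ π k = g k :=
    huniv
  have hlim := Groth.Agent.Lib.Helper24.TruncRKE.isLimitT U π hF huniv'
  have hP : (SimplexCategory.Truncated.incl (n + 1) (n + 2) (Nat.le_succ _)).op.HasPointwiseRightKanExtension U := by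
    intro Y
    induction Y using Opposite.rec with
    | _ Y =>
      obtain ⟨x, hx⟩ := Y
      have hx' : x.len ≤ n + 2 := hx
      by_cases hlen : x.len ≤ n + 1
      · have : HasLimit (StructuredArrow.proj
            ((Groth.Agent.Lib.Helper24.TruncRKE.ιn n).op.obj (op ⟨x, hlen⟩))
            (Groth.Agent.Lib.Helper24.TruncRKE.ιn n).op ⋙ U) :=
          HasLimit.mk ⟨_, limitOfDiagramInitial StructuredArrow.mkIdInitial _⟩
        exact this
      · have hx2 : x = SimplexCategory.mk (n + 2) := by
          apply SimplexCategory.ext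
          show x.len = n + 2
          omega
        subst hx2
        exact HasLimit.mk ⟨Groth.Agent.Lib.Helper24.TruncRKE.coneT U π hF, hlim⟩
  refine ⟨hP, ?_⟩
  intro V α _ t ht
  have := hP
  have hV := Functor.isPointwiseRightKanExtensionOfIsRightKanExtension V α
    (op (Groth.Agent.Lib.Helper24.TruncRKE.top2 n))
  let e := IsLimit.conePointUniqueUpToIso hV hlim
  have he : ∀ A, e.hom ≫ (Groth.Agent.Lib.Helper24.TruncRKE.coneT U π hF).π.app A =
      ((Functor.RightExtension.mk V α).coneAt (op (Groth.Agent.Lib.Helper24.TruncRKE.top2 n))).π.app A :=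
    fun A => IsLimit.conePointUniqueUpToIso_hom_comp hV hlim A
  have hte : t = e.hom := by
    apply (huniv' _ (fun k => ((Functor.RightExtension.mk V α).coneAt
      (op (Groth.Agent.Lib.Helper24.TruncRKE.top2 n))).π.app (Groth.Agent.Lib.Helper24.TruncRKE.Ak k))
      (Groth.Agent.Lib.Helper24.TruncRKE.faces_of_cone _)).unique
    · intro k
      exact (ht k).trans rfl
    · intro k
      have h1 := he (Groth.Agent.Lib.Helper24.TruncRKE.Ak k)
      have h2 : (Groth.Agent.Lib.Helper24.TruncRKE.coneT U π hF).π.app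
          (Groth.Agent.Lib.Helper24.TruncRKE.Ak k) = π k :=
        Groth.Agent.Lib.Helper24.TruncRKE.leg_Ak hF k
      rw [h2] at h1
      exact h1
  rw [hte]
  infer_instance

end Groth.Agent.S6814
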