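-- Statement S6815.
import Groth.Statements.S6815
import Mathlib

set_option autoImplicit false
open CategoryTheory CategoryTheory.Limits
universe w v u
open CategoryTheory CategoryTheory.SimplicialObject

namespace Groth.Agent.S6815

section Helpers
open Opposite Simplicial SimplexCategory

variable {C : Type u} [Category.{v} C] {T : Type w} [HasLimitsOfShape (Discrete T) C]

section
variable (Z : T → SimplicialObject C) (k : SimplexCategoryᵒᵖ)

noncomputable def evalIsLimit :
    IsLimit (((evaluation _ C).obj k).mapCone (limit.cone (Discrete.functor Z))) :=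
  isLimitOfPreserves ((evaluation _ C).obj k) (limit.isLimit _)

lemma pi_hom_ext {W : C} (f g : W ⟶ (∏ᶜ Z).obj k)
    (h : ∀ t, f ≫ (Pi.π Z t).app k = g ≫ (Pi.π Z t).app k) : f = g := by
  apply (evalIsLimit Z k).hom_ext
  rintro ⟨t⟩
  exact h t

noncomputable def piLift {W : C} (φ : ∀ t, W ⟶ (Z t).obj k) : W ⟶ (∏ᶜ Z).obj k :=
  (evalIsLimit Z k).lift ⟨W, Discrete.natTrans (fun ⟨t⟩ => φ t)⟩

@[reassoc (attr := simp)]
lemma piLift_π {W : C} (φ : ∀ t, W ⟶ (Z t).obj k) (t : T) :
    piLift Z k φ ≫ (Pi.π Z t).app k = φ t :=
  (evalIsLimit Z k).fac ⟨W, Discrete.natTrans (fun ⟨t⟩ => φ t)⟩ ⟨t⟩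
end

noncomputable def piHomotopy {X Y : T → SimplicialObject C} (a b : ∀ t, X t ⟶ Y t)
    (h : ∀ t, SimplicialObject.Homotopy (a t) (b t)) :
    SimplicialObject.Homotopy (Limits.Pi.map a) (Limits.Pi.map b) where
  h {n} i := piLift Y (op ⦋n + 1⦌) (fun t => (Pi.π X t).app (op ⦋n⦌) ≫ (h t).h i)
  h_zero_comp_δ_zero n := by
    apply pi_hom_ext
    intro t
    have := (h t).h_zero_comp_δ_zero n
    simp only [SimplicialObject.δ] at this ⊢
    rw [Category.assoc, (Pi.π Y t).naturality, piLift_π_assoc, Category.assoc, this,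
      ← NatTrans.comp_app, ← NatTrans.comp_app, Pi.map_π]
  h_last_comp_δ_last n := by
    apply pi_hom_ext
    intro t
    have := (h t).h_last_comp_δ_last n
    simp only [SimplicialObject.δ] at this ⊢
    rw [Category.assoc, (Pi.π Y t).naturality, piLift_π_assoc, Category.assoc, this,
      ← NatTrans.comp_app, ← NatTrans.comp_app, Pi.map_π]
  h_succ_comp_δ_castSucc_of_lt i j hij := by
    apply pi_hom_ext
    intro t
    have := (h t).h_succ_comp_δ_castSucc_of_lt i j hij
    simp only [SimplicialObject.δ] at this ⊢
    rw [Category.assoc, (Pi.π Y t).naturality, piLift_π_assoc, Category.assoc, this,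
      Category.assoc, piLift_π, ← (Pi.π X t).naturality_assoc]
  h_succ_comp_δ_castSucc_succ j := by
    apply pi_hom_ext
    intro t
    have := (h t).h_succ_comp_δ_castSucc_succ j
    simp only [SimplicialObject.δ] at this ⊢
    rw [Category.assoc, (Pi.π Y t).naturality, piLift_π_assoc, Category.assoc, this,
      Category.assoc, (Pi.π Y t).naturality, piLift_π_assoc, Category.assoc]
  h_castSucc_comp_δ_succ_of_lt i j hji := by
    apply pi_hom_ext
    intro t
    have := (h t).h_castSucc_comp_δ_succ_of_lt i j hji
    simp only [SimplicialObject.δ] at this ⊢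
    rw [Category.assoc, (Pi.π Y t).naturality, piLift_π_assoc, Category.assoc, this,
      Category.assoc, piLift_π, ← (Pi.π X t).naturality_assoc]
  h_comp_σ_castSucc_of_le i j hij := by
    apply pi_hom_ext
    intro t
    have := (h t).h_comp_σ_castSucc_of_le i j hij
    simp only [SimplicialObject.σ] at this ⊢
    rw [Category.assoc, (Pi.π Y t).naturality, piLift_π_assoc, Category.assoc, this,
      Category.assoc, piLift_π, ← (Pi.π X t).naturality_assoc]
  h_comp_σ_succ_of_lt i j hji := by
    apply pi_hom_ext
    intro t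
    have := (h t).h_comp_σ_succ_of_lt i j hji
    simp only [SimplicialObject.σ] at this ⊢
    rw [Category.assoc, (Pi.π Y t).naturality, piLift_π_assoc, Category.assoc, this,
      Category.assoc, piLift_π, ← (Pi.π X t).naturality_assoc]

end Helpers

/-- Homotopies between the factors of two product morphisms of simplicial objects assemble to a homotopy
between the products. -/
theorem result {C : Type u} [Category.{v} C] {T : Type w} [HasLimitsOfShape (Discrete T) C] {X Y : T → SimplicialObject C} (a b : ∀ t, X t ⟶ Y t) (h : ∀ t, Nonempty (SimplicialObject.Homotopy (a t) (b t))) : Nonempty (SimplicialObject.Homotopy (Limits.Pi.map a) (Limits.Pi.map b)) := by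
  exact ⟨piHomotopy a b (fun t => (h t).some)⟩

end Groth.Agent.S6815
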