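-- Statement S6816.
import Groth.Statements.S6816
import Mathlib

set_option autoImplicit false
open CategoryTheory CategoryTheory.Limits
universe v u
open CochainComplex

namespace Groth.Agent.S6816

section Aux
open Category Preadditive

lemma aux {C : Type*} [Category C] [Preadditive C] {Ap Aq Bp Bq Cp Cq : C} (dA : Ap ⟶ Aq) (dB : Bp ⟶ Bq)
    (dC : Cp ⟶ Cq) (fp : Ap ⟶ Bp) (fq : Aq ⟶ Bq) (gp : Bp ⟶ Cp) (gq : Bq ⟶ Cq)
    (hf : fp ≫ dB = dA ≫ fq) (hg : gp ≫ dC = dB ≫ gq)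
    (sp : Cp ⟶ Bp) (sq : Cq ⟶ Bq) (rp : Bp ⟶ Ap) (rq : Bq ⟶ Aq) (sp' : Cp ⟶ Bp) (sq' : Cq ⟶ Bq)
    (rq' : Bq ⟶ Aq)
    (h1 : sp ≫ gp = 𝟙 _) (h1' : sp' ≫ gp = 𝟙 _) (h1q' : sq' ≫ gq = 𝟙 _)
    (hq : rq ≫ fq = 𝟙 _ - gq ≫ sq)
    (hq' : rq' ≫ fq = 𝟙 _ - gq ≫ sq') (hp : rp ≫ fp = 𝟙 _ - gp ≫ sp) (hm : Mono fq) :
    sp ≫ dB ≫ rq = -(sp' ≫ rp ≫ dA - dC ≫ sq' ≫ rq) + sp' ≫ dB ≫ rq' := by
  have e1 : sp ≫ dB ≫ gq = dC := by rw [← hg, reassoc_of% h1]
  have e1' : sp' ≫ dB ≫ gq = dC := by rw [← hg, reassoc_of% h1']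
  rw [← cancel_mono fq]
  simp only [add_comp, neg_comp, sub_comp, assoc, hq, hq', ← hf, reassoc_of% hp, comp_sub,
    sub_comp, comp_id, id_comp, reassoc_of% e1, reassoc_of% e1', reassoc_of% h1', reassoc_of% h1q']
  abel

end Aux

open Category Preadditive HomologicalComplex HomComplex in
/-- The boundary morphisms `C ⟶ A⟦1⟧` attached to two degreewise splittings of a degreewise split
sequence `A ⟶ B ⟶ C` of cochain complexes are homotopic. -/
theorem result {C : Type u} [Category.{v} C] [Preadditive C] [HasBinaryBiproducts C] (S : ShortComplex (CochainComplex C ℤ)) (σ σ' : ∀ n : ℤ, (S.map (HomologicalComplex.eval C (ComplexShape.up ℤ) n)).Splitting) : Nonempty (Homotopy (CochainComplex.homOfDegreewiseSplit S σ) (CochainComplex.homOfDegreewiseSplit S σ')) := by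
  let u : Cochain S.X₃ S.X₁ 0 := Cochain.ofHoms (fun p => (σ' p).s ≫ (σ p).r)
  have key : (cocycleOfDegreewiseSplit S σ).1 = - δ 0 1 u + (cocycleOfDegreewiseSplit S σ').1 := by
    ext p q hpq
    subst hpq
    have hm : Mono (S.f.f (p + 1)) := (σ (p + 1)).mono_f
    rw [Cochain.add_v, Cochain.neg_v, δ_v 0 1 (zero_add 1) u p (p + 1) rfl p (p + 1) (by omega) rfl]
    simp only [cocycleOfDegreewiseSplit, Cocycle.mk_coe, Cochain.mk_v, u, Cochain.ofHoms_v,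
      Int.negOnePow_one, Units.neg_smul, one_smul, assoc]
    have := aux (S.X₁.d p (p + 1)) (S.X₂.d p (p + 1)) (S.X₃.d p (p + 1)) (S.f.f p) (S.f.f (p + 1))
      (S.g.f p) (S.g.f (p + 1)) (S.f.comm p (p + 1)) (S.g.comm p (p + 1)) (σ p).s (σ (p + 1)).s
      (σ p).r (σ (p + 1)).r (σ' p).s (σ' (p + 1)).s (σ' (p + 1)).r (σ p).s_g (σ' p).s_g
      (σ' (p + 1)).s_g (σ (p + 1)).r_f (σ' (p + 1)).r_f (σ p).r_f hm
    refine this.trans ?_
    simp only [sub_eq_add_neg]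
    first | rfl | (erw [assoc]; first | rfl | abel) | abel
  refine ⟨(Cochain.equivHomotopy _ _).symm ⟨u.rightShift 1 (-1) (by omega), ?_⟩⟩
  have h1 : ∀ τ : ∀ n : ℤ, (S.map (HomologicalComplex.eval C (ComplexShape.up ℤ) n)).Splitting,
      Cochain.ofHom (homOfDegreewiseSplit S τ) =
        (cocycleOfDegreewiseSplit S τ).1.rightShift 1 0 (zero_add 1) := by
    intro τ
    simp [homOfDegreewiseSplit]
  rw [h1, h1, Cochain.δ_rightShift u 1 (-1) 0 (by omega) 1 (by omega), key, Cochain.rightShift_add,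
    Cochain.rightShift_neg]
  simp

end Groth.Agent.S6816
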