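-- Statement S6820.
import Groth.Statements.S6820
import Mathlib

set_option autoImplicit false
universe u
open Smoothing

namespace Groth.Agent.S6820

/-- Let A be a Noetherian ring, M a finite A-module, S a multiplicative subset of A and π an element of
A such that on the localised module S⁻¹M the kernels of multiplication by π and by π² agree. Then
there is an element s of S such that for every n > 0 the kernels of multiplication by sⁿπ and by
(sⁿπ)² on M agree. (Kernel equalities are written as implications, the reverse inclusions being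
automatic.) -/
theorem result {A : Type u} [CommRing A] [IsNoetherianRing A]
    (M : Type u) [AddCommGroup M] [Module A M] [Module.Finite A M] (S : Submonoid A) (π : A)
    (h : ∀ m : LocalizedModule S M, π ^ 2 • m = 0 → π • m = 0) :
    ∃ s ∈ S, ∀ n : ℕ, 0 < n → ∀ m : M, (s ^ n * π) ^ 2 • m = 0 → (s ^ n * π) • m = 0 := by
  classical
  -- the S-torsion submodule
  let T : Submodule A M := LinearMap.ker (LocalizedModule.mkLinearMap S M)
  have hTfg : T.FG := IsNoetherian.noetherian T
  -- a single element of S killing T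
  have key : ∀ N : Submodule A M, N.FG → N ≤ T → ∃ t ∈ S, ∀ m ∈ N, t • m = 0 := by
    intro N hN
    induction N, hN using Submodule.fg_induction with
    | singleton x =>
      intro hx
      have hx' : x ∈ T := hx (Submodule.mem_span_singleton_self x)
      have : LocalizedModule.mkLinearMap S M x = 0 := hx'
      rw [← map_zero (LocalizedModule.mkLinearMap S M)] at this
      obtain ⟨c, hc⟩ := (IsLocalizedModule.eq_iff_exists S (LocalizedModule.mkLinearMap S M)).1 this
      refine ⟨c, c.2, fun m hm => ?_⟩
      obtain ⟨a, rfl⟩ := Submodule.mem_span_singleton.1 hm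
      rw [smul_comm, show (c : A) • x = c • x from rfl, hc, smul_zero, smul_zero]
    | sup N₁ N₂ _ _ ih₁ ih₂ =>
      intro hle
      obtain ⟨t₁, ht₁, h₁⟩ := ih₁ (le_sup_left.trans hle)
      obtain ⟨t₂, ht₂, h₂⟩ := ih₂ (le_sup_right.trans hle)
      refine ⟨t₁ * t₂, S.mul_mem ht₁ ht₂, fun m hm => ?_⟩
      obtain ⟨m₁, hm₁, m₂, hm₂, rfl⟩ := Submodule.mem_sup.1 hm
      rw [smul_add, mul_smul, mul_smul, h₂ m₂ hm₂, smul_zero, add_zero, smul_comm, h₁ m₁ hm₁,
        smul_zero]
  obtain ⟨t, ht, htT⟩ := key T hTfg le_rfl
  refine ⟨t, ht, fun n hn m hm => ?_⟩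
  -- π² • (m/1) = 0 in the localisation
  have h1 : π ^ 2 • (LocalizedModule.mkLinearMap S M m) = 0 := by
    have : LocalizedModule.mkLinearMap S M ((t ^ n * π) ^ 2 • m) = 0 := by rw [hm, map_zero]
    rw [mul_pow, mul_smul, map_smul] at this
    have hu : IsUnit (algebraMap A (Module.End A (LocalizedModule S M)) ((t ^ n) ^ 2)) :=
      IsLocalizedModule.map_units (LocalizedModule.mkLinearMap S M)
        ⟨(t ^ n) ^ 2, S.pow_mem (S.pow_mem ht n) 2⟩
    have hinj := ((Module.End.isUnit_iff _).1 hu).injective
    apply hinj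
    rw [map_zero, Module.algebraMap_end_apply, ← map_smul, ← map_smul]
    rw [← map_smul] at this
    exact this
  have h2 := h _ h1
  rw [← map_smul] at h2
  have h3 : π • m ∈ T := h2
  have h4 := htT _ h3
  obtain ⟨k, rfl⟩ : ∃ k, n = k + 1 := ⟨n - 1, by omega⟩
  rw [pow_succ, mul_assoc, mul_smul, mul_smul, h4, smul_zero]

end Groth.Agent.S6820
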