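import Groth.Statements.S6841
-- import your own Groth.Agent.* helpers here
import Mathlib
import Groth.Agent.Lib.Helper22.SmoothSpec

set_option autoImplicit false
universe u
open Smoothing

namespace Groth.Agent.S6841

open TensorProduct in
/-- Let R ⊆ Λ be an extension of discrete valuation rings of ramification index 1 (m_R Λ = m_Λ), A a
flat R-algebra of finite type with an R-algebra map A → Λ, 𝔮 its kernel and 𝔭 the inverse image of
the maximal ideal of Λ. Assume R → A is smooth at 𝔮. Provided the Λ-module Ω_{A/R} ⊗_A Λ is free,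
the map R → A is also smooth at the prime 𝔭. (The published statement phrases the freeness
hypothesis through a surjection B → A from an R-algebra smooth at the point, with kernel I, as
freeness of the cokernel of I/I² ⊗_A Λ → Ω_{B/R} ⊗_B Λ; that cokernel is Ω_{A/R} ⊗_A Λ, which is how
its proof begins, so the two forms are equivalent.) -/
theorem result {R Λ A : Type u} [CommRing R] [IsDomain R]
    [IsDiscreteValuationRing R] [CommRing Λ] [IsDomain Λ] [IsDiscreteValuationRing Λ] [Algebra R Λ]
    [NoZeroSMulDivisors R Λ] (he : (IsLocalRing.maximalIdeal R).map (algebraMap R Λ) = IsLocalRing.maximalIdeal Λ)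
    [CommRing A] [Algebra R A] [Module.Flat R A] [Algebra.FiniteType R A] [Algebra A Λ] [IsScalarTower R A Λ]
    [(RingHom.ker (algebraMap A Λ)).IsPrime]
    (hq : Algebra.IsSmoothAt R (RingHom.ker (algebraMap A Λ)))
    (hfree : Module.Free Λ (Λ ⊗[A] Ω[A⁄R])) :
    Algebra.IsSmoothAt R ((IsLocalRing.maximalIdeal Λ).comap (algebraMap A Λ)) := by
  haveI : Algebra.FinitePresentation R A := Algebra.FinitePresentation.of_finiteType.mp inferInstance
  have hqp : RingHom.ker (algebraMap A Λ) ≤
      (IsLocalRing.maximalIdeal Λ).comap (algebraMap A Λ) := by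
    intro a ha
    show algebraMap A Λ a ∈ IsLocalRing.maximalIdeal Λ
    rw [RingHom.mem_ker.mp ha]
    exact zero_mem _
  refine Groth.Agent.Lib.Helper22.SmoothSpec.isSmoothAt_of_le R A _ _ hqp hq ?_
  have h3 : ∀ (L : Type u) [Field L] [Algebra Λ L] [Algebra A L] [IsScalarTower A Λ L],
      Module.finrank L (L ⊗[A] Ω[A⁄R]) = Module.finrank Λ (Λ ⊗[A] Ω[A⁄R]) := by
    intro L _ _ _ _
    have e : L ⊗[Λ] (Λ ⊗[A] Ω[A⁄R]) ≃ₗ[L] L ⊗[A] Ω[A⁄R] :=
      TensorProduct.AlgebraTensorModule.cancelBaseChange A Λ L L Ω[A⁄R]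
    rw [← e.finrank_eq, Module.finrank_baseChange]
  have h1 := Groth.Agent.Lib.Helper22.SmoothRank.finrank_tensor_field Ω[A⁄R]
    (RingHom.ker (algebraMap A Λ)) (FractionRing Λ) (fun b => by
      rw [IsScalarTower.algebraMap_apply A Λ (FractionRing Λ), RingHom.mem_ker]
      exact (map_eq_zero_iff _ (IsFractionRing.injective Λ (FractionRing Λ))))
  have h2 := Groth.Agent.Lib.Helper22.SmoothRank.finrank_tensor_field Ω[A⁄R]
    ((IsLocalRing.maximalIdeal Λ).comap (algebraMap A Λ)) (IsLocalRing.ResidueField Λ) (fun b => by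
      rw [IsScalarTower.algebraMap_apply A Λ (IsLocalRing.ResidueField Λ), Ideal.mem_comap]
      exact IsLocalRing.residue_eq_zero_iff _)
  rw [← h1, ← h2, h3 (FractionRing Λ), h3 (IsLocalRing.ResidueField Λ)]

end Groth.Agent.S6841
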