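import Groth.Statements.S6842
import Mathlib
import Groth.Agent.Lib.Helper21.CoprodSec.Core

set_option autoImplicit false
universe u
open CategoryTheory CategoryTheory.Limits TopologicalSpace
open ModSite

namespace Groth.Agent.S6842

/-- Let (X, O) be a ringed space, (F_i)_{i ∈ I} a family of O-modules and U ⊆ X a quasi-compact open.
Then the canonical map ⊕_i F_i(U) → (⊕_i F_i)(U) is bijective: every section of the direct sum over
U is a finite sum of images of sections of the F_i over U (surjectivity), and such a finite sum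
vanishes only if each term's section is zero (injectivity). -/
theorem result {X : TopCat.{u}} (O : TopCat.Sheaf CommRingCat.{u} X)
    {I : Type u} (F : I → ModSite.Mod O) [HasCoproduct F] (U : Opens X) (hU : IsCompact (U : Set X)) :
    (∀ s : ModSite.sect (∐ F) U, ∃ (S : Finset I) (t : ∀ i, ModSite.sect (F i) U),
        s = ∑ i ∈ S, ((Sigma.ι F i).val.app (Opposite.op U)).hom (t i)) ∧
      ∀ (S : Finset I) (t : ∀ i, ModSite.sect (F i) U),
        ∑ i ∈ S, ((Sigma.ι F i).val.app (Opposite.op U)).hom (t i) = 0 → ∀ i ∈ S, t i = 0 := by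
  classical
  have hW : Groth.Agent.Lib.Helper21.CoprodSec.FinCov (Opens.grothendieckTopology X) U := by
    intro R hR
    have hR' : ∀ x : U, ∃ (V : Opens X) (f : V ⟶ U), R f ∧ (x : X) ∈ V := fun x => hR x.1 x.2
    choose V f hf hxV using hR'
    obtain ⟨t, ht⟩ := hU.elim_finite_subcover (fun x : U => ((V x : Opens X) : Set X))
      (fun x => (V x).isOpen) (fun x hx => Set.mem_iUnion.2 ⟨⟨x, hx⟩, hxV ⟨x, hx⟩⟩)
    refine ⟨↥t, inferInstance, fun k => V k.1, fun k => f k.1, fun k => hf k.1, ?_⟩
    intro x hx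
    obtain ⟨k, hk, hxk⟩ := Set.mem_iUnion₂.1 (ht hx)
    exact ⟨V k, f k, ⟨_, 𝟙 _, f k, Presieve.ofArrows.mk (⟨k, hk⟩ : ↥t), Category.id_comp _⟩, hxk⟩
  let c : Cofan F := Cofan.mk (∐ F) (Sigma.ι F)
  have hc : IsColimit c := coproductIsCoproduct F
  refine ⟨fun s => ?_, fun S t h i hi => ?_⟩
  · obtain ⟨S, hS⟩ := Groth.Agent.Lib.Helper21.CoprodSec.exists_finset_sum F c hc hW s
    exact ⟨S, fun i => (Groth.Agent.Lib.Helper21.CoprodSec.π F c hc i).val.app (Opposite.op U) s,
      hS⟩
  · have h1 := congr_arg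
      (fun z => (Groth.Agent.Lib.Helper21.CoprodSec.π F c hc i).val.app (Opposite.op U) z) h
    simp only [map_sum, map_zero] at h1
    rw [Finset.sum_eq_single i] at h1
    · rw [← h1]
      exact (Groth.Agent.Lib.Helper21.CoprodSec.π_inj_apply_self F c hc i U (t i)).symm
    · intro j _ hji
      exact Groth.Agent.Lib.Helper21.CoprodSec.π_inj_apply_ne F c hc i j hji U (t j)
    · intro h'
      exact absurd hi h'

end Groth.Agent.S6842
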