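import Groth.Statements.S6854
import Mathlib
import Groth.Agent.Lib.Helper18.PbD
import Groth.Agent.Lib.Helper18.PbE

set_option autoImplicit false
universe u
open Smoothing

namespace Groth.Agent.S6854

/-- Let k be a field of characteristic p > 0 and Λ an Artinian local k-algebra with residue field K such
that H_1(L_{K/k}) is a finite-dimensional K-vector space. Then Λ is a filtered colimit (a directed
union) of k-subalgebras A ⊆ Λ which are Artinian local and essentially of finite type over k, with A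
→ Λ flat and m_A Λ = m_Λ; stated as: every finite subset of Λ is contained in such a subalgebra. -/
theorem result {k Λ : Type u} [Field k] (p : ℕ) [Fact p.Prime]
    [CharP k p] [CommRing Λ] [Algebra k Λ] [IsArtinianRing Λ] [IsLocalRing Λ]
    (hH : Module.Finite (IsLocalRing.ResidueField Λ) (Algebra.H1Cotangent k (IsLocalRing.ResidueField Λ)))
    (E : Finset Λ) :
    ∃ (A : Subalgebra k Λ) (_ : IsLocalRing A), (↑E : Set Λ) ⊆ A ∧ IsArtinianRing A ∧ Module.Flat A Λ ∧
      Algebra.EssFiniteType k A ∧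
      (IsLocalRing.maximalIdeal A).map (algebraMap A Λ) = IsLocalRing.maximalIdeal Λ := by
  classical
  letI : Algebra (ZMod p) k := ZMod.algebra k p
  obtain ⟨σ, k₀, S₁, hres, hcompat, hgen, hS₁⟩ :=
    Groth.Agent.Lib.Helper18.DR.Pb.exists_coefficient_field p hH
  letI : Algebra (IsLocalRing.ResidueField Λ) Λ := σ.toAlgebra
  haveI : Module.Finite (IsLocalRing.ResidueField Λ) Λ :=
    Groth.Agent.Lib.Helper18.DR.Pb.finite_of_section (fun x => ⟨IsLocalRing.residue Λ x, by
      rw [← Ideal.Quotient.eq_zero_iff_mem, map_sub]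
      show IsLocalRing.residue Λ x - IsLocalRing.residue Λ (σ (IsLocalRing.residue Λ x)) = 0
      rw [hres, sub_self]⟩)
  obtain ⟨T, hT⟩ : (IsLocalRing.maximalIdeal Λ).FG := IsNoetherian.noetherian _
  have halg : ∀ s ∈ S₁, IsAlgebraic k₀ s := by
    intro s hs
    obtain ⟨e, he⟩ := hS₁ s hs
    refine ⟨Polynomial.X ^ p ^ e - Polynomial.C (⟨s ^ p ^ e, he⟩ : k₀),
      Polynomial.X_pow_sub_C_ne_zero (pow_pos (Fact.out : p.Prime).pos e) _, ?_⟩
    simp only [map_sub, map_pow, Polynomial.aeval_X, Polynomial.aeval_C]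
    show s ^ p ^ e - s ^ p ^ e = 0
    exact sub_self _
  obtain ⟨A, hloc, hG, hArt, hflat, hess, hmax⟩ :=
    Groth.Agent.Lib.Helper18.DR.Pb.descend (P := ZMod p) (K := IsLocalRing.ResidueField Λ)
      k₀ hcompat S₁ hgen halg (E ∪ T)
  refine ⟨A, hloc, ?_, hArt, hflat, hess, ?_⟩
  · intro x hx
    exact hG (Finset.mem_coe.mpr (Finset.mem_union_left _ (Finset.mem_coe.mp hx)))
  · apply le_antisymm
    · rw [Ideal.map_le_iff_le_comap]
      intro x hx
      exact (hmax x).mp hx
    · rw [← hT, Ideal.span_le]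
      intro t ht
      have htA : t ∈ A := hG (Finset.mem_coe.mpr (Finset.mem_union_right _ (Finset.mem_coe.mp ht)))
      have htm : t ∈ IsLocalRing.maximalIdeal Λ := by
        rw [← hT]; exact Ideal.subset_span ht
      have : (⟨t, htA⟩ : A) ∈ IsLocalRing.maximalIdeal A := (hmax ⟨t, htA⟩).mpr htm
      exact Ideal.mem_map_of_mem (algebraMap A Λ) this

end Groth.Agent.S6854
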