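import Groth.Statements.S6860
import Mathlib

set_option autoImplicit false
universe u
open Smoothing

namespace Groth.Agent.S6860

open MvPolynomial Algebra

section aux

variable {A : Type u} [CommRing A] {k : ℕ} (e : Fin k → A)

/-- The relations `Xᵢ - eᵢ`. -/
noncomputable def rel (i : Fin k) : MvPolynomial (Fin k) A := X i - C (e i)

lemma sub_C_aeval_mem (p : MvPolynomial (Fin k) A) :
    p - C (aeval e p) ∈ Ideal.span (Set.range (rel e)) := by
  induction p using MvPolynomial.induction_on with
  | C a => simp
  | add p q hp hq =>
    have : p + q - C (aeval e (p + q)) = (p - C (aeval e p)) + (q - C (aeval e q)) := by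
      rw [map_add, map_add]; ring
    rw [this]; exact Ideal.add_mem _ hp hq
  | mul_X p i hp =>
    have : p * X i - C (aeval e (p * X i)) =
        (p - C (aeval e p)) * X i + C (aeval e p) * rel e i := by
      rw [map_mul, aeval_X, map_mul, rel]; ring
    rw [this]
    exact Ideal.add_mem _ (Ideal.mul_mem_right _ _ hp)
      (Ideal.mul_mem_left _ _ (Ideal.subset_span ⟨i, rfl⟩))

/-- `A[X]/(Xᵢ - eᵢ) ≃ A`. -/
noncomputable def quotEquiv :
    (MvPolynomial (Fin k) A ⧸ Ideal.span (Set.range (rel e))) ≃ₐ[A] A :=
  AlgEquiv.ofAlgHom
    (Ideal.Quotient.liftₐ _ (aeval e) (by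
      intro a ha
      have hle : Ideal.span (Set.range (rel e)) ≤ RingHom.ker (aeval e : _ →ₐ[A] A) := by
        rw [Ideal.span_le]
        rintro _ ⟨i, rfl⟩
        simp [rel]
      exact hle ha))
    (Algebra.ofId A _)
    (by ext; )
    (by
      apply AlgHom.ext
      intro x
      obtain ⟨p, rfl⟩ := Ideal.Quotient.mk_surjective x
      simp only [AlgHom.comp_apply, AlgHom.id_apply]
      rw [← Ideal.Quotient.mkₐ_eq_mk A, Ideal.Quotient.liftₐ_apply, Ideal.Quotient.mkₐ_eq_mk,
        Ideal.Quotient.lift_mk, Algebra.ofId_apply]
      symm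
      rw [IsScalarTower.algebraMap_apply A (MvPolynomial (Fin k) A), Ideal.Quotient.algebraMap_eq,
        Ideal.Quotient.eq, MvPolynomial.algebraMap_eq]
      exact sub_C_aeval_mem e p)

/-- The submersive presentation of `A` over `A` with generators `eᵢ` and relations `Xᵢ - eᵢ`. -/
noncomputable def preQ : PreSubmersivePresentation A
    (MvPolynomial (Fin k) A ⧸ Ideal.span (Set.range (rel e))) (Fin k) (Fin k) :=
  PreSubmersivePresentation.naive (v := rel e) id Function.injective_id

lemma preQ_jacobian : (preQ e).jacobian = 1 := by
  classical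
  rw [PreSubmersivePresentation.jacobian_eq_jacobiMatrix_det]
  have : (preQ e).jacobiMatrix = 1 := by
    ext i j
    rw [preQ, PreSubmersivePresentation.jacobiMatrix_naive]
    simp only [rel, id_eq, map_sub, pderiv_C, sub_zero, Matrix.one_apply]
    rw [pderiv_X, Pi.single_apply]
    simp [eq_comm]
  rw [this]
  simp

noncomputable def Q : SubmersivePresentation A A (Fin k) (Fin k) :=
  SubmersivePresentation.ofAlgEquiv
    { toPreSubmersivePresentation := preQ e
      jacobian_isUnit := by rw [preQ_jacobian]; exact isUnit_one } (quotEquiv e)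

lemma Q_val (i : Fin k) : (Q e).val i = e i := by
  simp [Q, preQ, quotEquiv]

lemma Q_map (i : Fin k) : (Q e).map i = i := by
  simp only [Q, preQ, SubmersivePresentation.ofAlgEquiv_toPreSubmersivePresentation,
    PreSubmersivePresentation.ofAlgEquiv_map]
  rfl

end aux

/-- Let R → A be standard smooth and E ⊆ A a finite subset. Then A admits a standard smooth presentation
A = R[x₁, …, x_N]/(f₁, …, f_c) (a submersive presentation: finitely many generators and relations,
an injection from the relations to the variables picking the distinguished variables, and the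
Jacobian of the relations with respect to the distinguished variables invertible in A) in which
every element of E is the class of a distinguished variable. (The published statement arranges E to
be exactly the classes of the first n = |E| variables, all of them distinguished, with c ≥ n; this
row states that E is contained in the set of classes of the distinguished variables, which is what
that arrangement gives.) -/
theorem result {R A : Type u} [CommRing R] [CommRing A] [Algebra R A]
    [Algebra.IsStandardSmooth R A] (E : Finset A) :
    ∃ (ι σ : Type) (_ : Finite ι) (_ : Finite σ) (P : Algebra.SubmersivePresentation R A ι σ),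
      (↑E : Set A) ⊆ Set.range (P.val ∘ P.map) := by
  classical
  obtain ⟨ι, σ, hσ, hι, ⟨P⟩⟩ := (inferInstance : Algebra.IsStandardSmooth R A).out
  let k := E.card
  let e : Fin k → A := fun i => (E.equivFin.symm i : A)
  refine ⟨Fin k ⊕ ι, Fin k ⊕ σ, inferInstance, inferInstance, (Q e).comp P, ?_⟩
  intro a ha
  refine ⟨Sum.inl (E.equivFin ⟨a, ha⟩), ?_⟩
  simp only [Function.comp_apply]
  have h1 : ((Q e).comp P).map (Sum.inl (E.equivFin ⟨a, ha⟩)) =
      Sum.inl ((Q e).map (E.equivFin ⟨a, ha⟩)) := rfl
  rw [h1, Q_map]
  have h2 : ((Q e).comp P).val (Sum.inl (E.equivFin ⟨a, ha⟩)) =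
      (Q e).val (E.equivFin ⟨a, ha⟩) := rfl
  rw [h2, Q_val]
  simp [e]

end Groth.Agent.S6860
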