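import Groth.Statements.S6868
import Groth.Agent.Lib.Helper4.Sk

set_option autoImplicit false
universe u
open CAlg

namespace Groth.Agent.S6868

/-- (1) ⇔ (3) ⇔ (4): for a Noetherian domain `R` and a nonzero finite `R`-module `M`, torsion-freeness
of `M` is equivalent to `(0)` being the unique associated prime of `M`, and also to the conjunction:
`(0)` belongs to the support of `M` and `M` satisfies Serre's condition `(S_1)`. (The published
statement also lists embedding into a finite free module and the absence of embedded associated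
primes; this row states the other three conditions.) -/
theorem result (R : Type u) [CommRing R]
    [IsDomain R] [IsNoetherianRing R] (M : Type u) [AddCommGroup M] [Module R M] [Module.Finite R M] [Nontrivial M] :
    (Module.IsTorsionFree R M ↔ associatedPrimes R M = {⊥}) ∧
    (Module.IsTorsionFree R M ↔
      (⟨⊥, Ideal.isPrime_bot⟩ : PrimeSpectrum R) ∈ Module.support R M ∧ LocCoh.HasSk 1 R M) := by
  have part1 : Module.IsTorsionFree R M ↔ associatedPrimes R M = {⊥} := by
    constructor
    · intro htf
      apply Set.eq_singleton_iff_nonempty_unique_mem.mpr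
      refine ⟨associatedPrimes.nonempty R M, fun p hp => ?_⟩
      obtain ⟨hpp, x, hx⟩ := isAssociatedPrime_iff.mp hp
      have hx0 : x ≠ 0 := by
        rintro rfl
        apply hpp.ne_top
        rw [hx, Ideal.eq_top_iff_one, Submodule.mem_colon_singleton]
        simp
      rw [eq_bot_iff]
      intro r hr
      rw [hx, Submodule.mem_colon_singleton, Submodule.mem_bot] at hr
      rcases smul_eq_zero.mp hr with h | h
      · rw [h]; exact Submodule.zero_mem _
      · exact absurd h hx0
    · intro hass
      refine ⟨fun r hr m₁ m₂ hm => ?_⟩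
      have hm' : r • m₁ = r • m₂ := hm
      have hr0 : r ≠ 0 := hr.ne_zero
      by_contra hne
      have hsub : m₁ - m₂ ≠ 0 := sub_ne_zero.mpr hne
      have hz : r ∈ {r : R | ∃ x : M, x ≠ 0 ∧ r • x = 0} :=
        ⟨m₁ - m₂, hsub, by rw [smul_sub]; exact sub_eq_zero.mpr hm'⟩
      rw [← biUnion_associatedPrimes_eq_zero_divisors, hass] at hz
      simp only [Set.mem_singleton_iff, Set.iUnion_iUnion_eq_left, SetLike.mem_coe,
        Ideal.mem_bot] at hz
      exact hr0 hz
  refine ⟨part1, ?_⟩
  have hmin : (⊥ : Ideal R).minimalPrimes = {⊥} := Ideal.minimalPrimes_eq_subsingleton_self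
  constructor
  · intro htf
    have hass := part1.mp htf
    have hbot : (⊥ : Ideal R) ∈ associatedPrimes R M := by rw [hass]; rfl
    have hsupp : (⟨⊥, Ideal.isPrime_bot⟩ : PrimeSpectrum R) ∈ Module.support R M :=
      Groth.Agent.Lib.Helper4.mem_support_of_mem_associatedPrimes hbot
    refine ⟨hsupp, ?_⟩
    have hann : Module.annihilator R M = ⊥ :=
      eq_bot_iff.mpr (Module.mem_support_iff_of_finite.mp hsupp)
    rw [← Groth.Agent.Lib.Helper4.noEmbedded_iff_hasS1]
    intro p hp
    rw [hass] at hp
    rw [Set.mem_singleton_iff] at hp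
    rw [hp, hann, hmin]
    rfl
  · rintro ⟨hsupp, hS1⟩
    rw [part1]
    have hann : Module.annihilator R M = ⊥ :=
      eq_bot_iff.mpr (Module.mem_support_iff_of_finite.mp hsupp)
    rw [← Groth.Agent.Lib.Helper4.noEmbedded_iff_hasS1] at hS1
    apply Set.eq_singleton_iff_nonempty_unique_mem.mpr
    refine ⟨associatedPrimes.nonempty R M, fun p hp => ?_⟩
    have := hS1 p hp
    rw [hann, hmin] at this
    exact this

end Groth.Agent.S6868
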