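import Groth.Statements.S6881
import Mathlib
import Groth.Agent.S2054
import Groth.Agent.Lib.Helper4.Reflexive2
import Groth.Agent.Lib.Helper4.SerreNormal
import Groth.Agent.Lib.Helper28.DepthLoc


set_option autoImplicit false
universe u
open CAlg

namespace Groth.Agent.S6881

theorem ht_le_one_q {A B : Type u} [CommRing A] [IsDomain A] [IsNoetherianRing A] [IsIntegrallyClosed A]
    [CommRing B] [IsDomain B] [IsIntegrallyClosed B] [Algebra A B] [Module.Finite A B] [FaithfulSMul A B]
    (x : A) (hx : x ≠ 0) (b : B) (hb : b ∉ Ideal.span {algebraMap A B x})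
    (p : Ideal A) [p.IsPrime] (hp : ∀ r ∈ p, algebraMap A B r * b ∈ Ideal.span {algebraMap A B x}) :
    p.height ≤ 1 := by
  classical
  haveI : IsNoetherianRing B := IsNoetherianRing.of_finite A B
  haveI : Algebra.IsIntegral A B := Algebra.IsIntegral.of_finite A B
  set I : Ideal B := Ideal.span {algebraMap A B x} with hI
  let S : Set (Ideal B) := {J | ∃ c : B, c * b ∉ I ∧ J = I.colon {c * b}}
  have hne : S.Nonempty := ⟨I.colon {1 * b}, 1, by rwa [one_mul], rfl⟩
  obtain ⟨q, ⟨c₀, hc₀, rfl⟩, hmax⟩ := (wellFounded_gt (α := Ideal B)).has_min S hne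
  have hmem : ∀ (w r : B), r ∈ I.colon {w} ↔ r * w ∈ I := fun w r => by
    rw [Submodule.mem_colon_singleton, smul_eq_mul]
  have hprime : (I.colon {c₀ * b}).IsPrime := by
    rw [Ideal.isPrime_iff]
    refine ⟨?_, ?_⟩
    · intro htop
      apply hc₀
      have h1 : (1 : B) ∈ I.colon {c₀ * b} := by rw [htop]; exact Submodule.mem_top
      rw [hmem, one_mul] at h1
      exact h1
    · intro r s hrs
      by_contra hcon
      push_neg at hcon
      obtain ⟨hr, hs⟩ := hcon
      rw [hmem] at hr hs hrs
      have hs' : (s * c₀) * b ∉ I := by rw [mul_assoc]; exact hs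
      have hJ' : I.colon {(s * c₀) * b} ∈ S := ⟨s * c₀, hs', rfl⟩
      have hle : I.colon {c₀ * b} ≤ I.colon {(s * c₀) * b} := by
        intro t ht
        rw [hmem] at ht ⊢
        have h2 : t * (s * c₀ * b) = s * (t * (c₀ * b)) := by ring
        rw [h2]
        exact I.mul_mem_left s ht
      have hnot := hmax _ hJ'
      have heq : I.colon {c₀ * b} = I.colon {(s * c₀) * b} := by
        by_contra hne'
        exact hnot (lt_of_le_of_ne hle hne')
      apply hr
      have h3 : r ∈ I.colon {(s * c₀) * b} := by
        rw [hmem]
        have h4 : r * (s * c₀ * b) = r * s * (c₀ * b) := by ring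
        rw [h4]; exact hrs
      rw [← heq, hmem] at h3
      exact h3
  haveI := hprime
  have hS2 : LocCoh.HasSk 2 B B := Groth.Agent.S2054.hasS2_normal_q B
  have hxB : algebraMap A B x ∈ nonZeroDivisors B :=
    mem_nonZeroDivisors_of_ne_zero
      (fun h0 => hx ((FaithfulSMul.algebraMap_injective A B) (by rw [h0, map_zero])))
  have hq1 : (I.colon {c₀ * b}).height ≤ 1 :=
    Groth.Agent.Lib.Helper4.SerreNormal.height_le_one_of_colon hS2 _ hxB _ (c₀ * b)
      (fun r => hmem _ r)
  have hpq : p ≤ (I.colon {c₀ * b}).under A := by
    intro r hr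
    rw [Ideal.under_def, Ideal.mem_comap, hmem]
    have h5 : algebraMap A B r * (c₀ * b) = c₀ * (algebraMap A B r * b) := by ring
    rw [h5]
    exact I.mul_mem_left c₀ (hp r hr)
  have h1 := Ideal.height_eq_height_add_of_liesOver_of_hasGoingDown
    ((I.colon {c₀ * b}).under A) (I.colon {c₀ * b})
  calc p.height ≤ ((I.colon {c₀ * b}).under A).height := Ideal.height_mono hpq
    _ ≤ (I.colon {c₀ * b}).height := by rw [h1]; exact le_self_add
    _ ≤ 1 := hq1

theorem refl_q {A B : Type u} [CommRing A] [IsDomain A] [IsNoetherianRing A] [IsIntegrallyClosed A]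
    [CommRing B] [IsDomain B] [IsIntegrallyClosed B] [Algebra A B] [Module.Finite A B]
    [FaithfulSMul A B] : Module.IsReflexive A B := by
  classical
  haveI : NoZeroSMulDivisors A B := by
    constructor
    intro r b hrb
    rw [Algebra.smul_def, mul_eq_zero] at hrb
    rcases hrb with h | h
    · left; exact (FaithfulSMul.algebraMap_injective A B) (by rw [h, map_zero])
    · right; exact h
  rw [Groth.Agent.Lib.Helper4.isReflexive_iff_forall_localization_or_depth A B]
  intro p hp
  haveI : IsDomain (Localization.AtPrime p) :=
    IsLocalization.isDomain_localization p.primeCompl_le_nonZeroDivisors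
  haveI : Module.IsTorsionFree (Localization.AtPrime p) (LocalizedModule p.primeCompl B) :=
    Groth.Agent.S2054.tf_loc_q p
  by_cases hht : p.height ≤ 1
  · left
    haveI : IsIntegrallyClosed (Localization.AtPrime p) :=
      isIntegrallyClosed_of_isLocalization _ p.primeCompl p.primeCompl_le_nonZeroDivisors
    have hdim : ringKrullDim (Localization.AtPrime p) ≤ 1 := by
      rw [IsLocalization.AtPrime.ringKrullDim_eq_height p (Localization.AtPrime p)]
      exact_mod_cast hht
    haveI : IsPrincipalIdealRing (Localization.AtPrime p) := Groth.Agent.S2054.pid_q _ hdim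
    haveI : Module.Free (Localization.AtPrime p) (LocalizedModule p.primeCompl B) :=
      Module.free_of_finite_type_torsion_free'
    infer_instance
  · right
    have hpbot : p ≠ ⊥ := by
      rintro rfl
      apply hht
      rw [Ideal.height_bot]; exact zero_le_one
    obtain ⟨x, hxp, hx0⟩ := Submodule.exists_mem_ne_zero_of_ne_bot hpbot
    have hreg : IsSMulRegular B x := by
      intro b b' hbb'
      have h0 : x • (b - b') = 0 := by rw [smul_sub]; exact sub_eq_zero.2 hbb'
      rcases NoZeroSMulDivisors.eq_zero_or_eq_zero_of_smul_eq_zero h0 with h | h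
      · exact absurd h hx0
      · exact sub_eq_zero.1 h
    have hdep := Groth.Agent.Lib.Helper28.depth_localization_quotSMulTop (M := B) p hxp hreg
    have hnz : LocCoh.depth (Localization.AtPrime p)
        (LocalizedModule p.primeCompl (QuotSMulTop x B)) ≠ 0 := by
      intro h0
      rw [Groth.Agent.Lib.Helper4.depth_localizedModule_eq_zero_iff] at h0
      obtain ⟨-, nq, hn⟩ := (isAssociatedPrime_iff).1 h0
      obtain ⟨b, rfl⟩ := Submodule.Quotient.mk_surjective _ nq
      have hmem : ∀ r : A, r ∈ p ↔ algebraMap A B r * b ∈ Ideal.span {algebraMap A B x} := by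
        intro r
        rw [hn, Submodule.mem_colon_singleton, Submodule.mem_bot, ← Submodule.Quotient.mk_smul,
          Submodule.Quotient.mk_eq_zero, Submodule.mem_smul_pointwise_iff_exists,
          Ideal.mem_span_singleton']
        constructor
        · rintro ⟨b', -, hb'⟩
          refine ⟨b', ?_⟩
          rw [mul_comm, ← Algebra.smul_def, hb', Algebra.smul_def]
        · rintro ⟨b', hb'⟩
          refine ⟨b', Submodule.mem_top, ?_⟩
          rw [Algebra.smul_def, mul_comm, hb', Algebra.smul_def]
      have hb : b ∉ Ideal.span {algebraMap A B x} := by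
        intro hbI
        apply hp.ne_top
        rw [Ideal.eq_top_iff_one, hmem, map_one, one_mul]
        exact hbI
      exact hht (ht_le_one_q x hx0 b hb p (fun r hr => (hmem r).1 hr))
    have h1 : (1 : ℕ∞) ≤ LocCoh.depth (Localization.AtPrime p)
        (LocalizedModule p.primeCompl (QuotSMulTop x B)) := ENat.one_le_iff_ne_zero.2 hnz
    rw [← hdep, ← one_add_one_eq_two]
    exact add_le_add h1 le_rfl

/-- For `A` a Noetherian integrally closed domain with fraction field `K` and `L/K` a finite field
extension, if the integral closure of `A` in `L` is a finitely generated `A`-module then it is a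
reflexive `A`-module. -/
theorem result (A K L : Type u) [CommRing A] [IsDomain A] [IsNoetherianRing A]
    [IsIntegrallyClosed A] [Field K] [Algebra A K] [IsFractionRing A K] [Field L] [Algebra K L] [FiniteDimensional K L]
    [Algebra A L] [IsScalarTower A K L] [Module.Finite A ↥(integralClosure A L)] :
    Module.IsReflexive A ↥(integralClosure A L) := by
  haveI : IsIntegrallyClosed ↥(integralClosure A L) :=
    integralClosure.isIntegrallyClosedOfFiniteExtension K
  haveI : FaithfulSMul A ↥(integralClosure A L) := by
    rw [faithfulSMul_iff_algebraMap_injective]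
    intro a a' h
    have h' : algebraMap A L a = algebraMap A L a' := by
      have := congrArg (fun z : ↥(integralClosure A L) => (z : L)) h
      simpa using this
    rw [IsScalarTower.algebraMap_apply A K L, IsScalarTower.algebraMap_apply A K L] at h'
    exact IsFractionRing.injective A K ((algebraMap K L).injective h')
  exact refl_q

end Groth.Agent.S6881
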