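import Groth.Statements.S6882
import Mathlib

set_option autoImplicit false
universe u
open CAlg

namespace Groth.Agent.S6882

/-- For a finite module `M` over a discrete valuation ring `R`, the evaluation map from `M` to its
double dual `M**` is surjective. -/
theorem result (R : Type u) [CommRing R] [IsDomain R]
    [IsDiscreteValuationRing R] (M : Type u) [AddCommGroup M] [Module R M] [Module.Finite R M] :
    Function.Surjective (Module.Dual.eval R M) := by
  classical
  -- torsion-free quotient
  let T := Submodule.torsion R M
  have : Module.IsTorsionFree R (M ⧸ T) := inferInstance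
  have : Module.Free R (M ⧸ T) := inferInstance
  have hrefl : Module.IsReflexive R (M ⧸ T) := inferInstance
  -- every functional kills torsion
  have hker : ∀ φ : Module.Dual R M, T ≤ LinearMap.ker φ := by
    intro φ x hx
    rw [Submodule.mem_torsion_iff] at hx
    obtain ⟨a, ha⟩ := hx
    rw [LinearMap.mem_ker]
    have h1 : (a : R) • φ x = 0 := by
      have ha' : (a : R) • x = 0 := ha
      have := congrArg φ ha'
      rwa [map_smul, map_zero] at this
    have ha0 : (a : R) ≠ 0 := nonZeroDivisors.coe_ne_zero a
    rcases smul_eq_zero.1 h1 with h | h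
    · exact absurd h ha0
    · exact h
  intro ψ
  -- transport to the quotient
  let ψ' : Module.Dual R (Module.Dual R (M ⧸ T)) := ψ.comp (T.mkQ.dualMap)
  obtain ⟨q, hq⟩ := (Module.bijective_dual_eval R (M ⧸ T)).2 ψ'
  obtain ⟨m, rfl⟩ := T.mkQ_surjective q
  refine ⟨m, ?_⟩
  ext φ
  have hφ : φ = (T.liftQ φ (hker φ)).comp T.mkQ := by
    ext x; simp
  have h2 := congrArg (fun F => F (T.liftQ φ (hker φ))) hq
  simp only [Module.Dual.eval_apply, ψ', LinearMap.comp_apply] at h2
  rw [Module.Dual.eval_apply]
  conv_rhs => rw [hφ]
  rw [← LinearMap.dualMap_apply', ← h2]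
  simp

end Groth.Agent.S6882
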