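import Groth.Statements.S6886
import Mathlib

set_option autoImplicit false
universe u
open TensorProduct
open CAlg

namespace Groth.Agent.S6886

open Polynomial in
/-- A monic polynomial of degree `d` splits into linear factors over a suitable finite free
extension. -/
theorem exists_splitting (d : ℕ) : ∀ (R : Type u) [CommRing R] (P : R[X]), P.Monic → P.natDegree = d →
    ∃ (R' : Type u) (_ : CommRing R') (_ : Algebra R R'), Module.Finite R R' ∧ Module.Free R R' ∧
      Function.Injective (algebraMap R R') ∧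
      ∃ roots : Fin d → R', P.map (algebraMap R R') = ∏ j, (X - C (roots j)) := by
  induction d with
  | zero =>
    intro R _ P hP hd
    refine ⟨R, inferInstance, Algebra.id R, inferInstance, inferInstance, Function.injective_id,
      Fin.elim0, ?_⟩
    rw [hP.natDegree_eq_zero] at hd
    simp [hd]
  | succ d ih =>
    intro R _ P hP hd
    haveI : Nontrivial R := by
      by_contra h
      rw [not_nontrivial_iff_subsingleton] at h
      have : P.natDegree = 0 := by rw [Subsingleton.elim P 0]; simp
      omega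
    obtain ⟨pb, hpb⟩ : ∃ pb, pb = AdjoinRoot.powerBasis' hP := ⟨_, rfl⟩
    haveI : Module.Finite R (AdjoinRoot P) := pb.finite
    haveI : Module.Free R (AdjoinRoot P) := Module.Free.of_basis pb.basis
    have hdim : pb.dim = d + 1 := by
      rw [hpb, AdjoinRoot.powerBasis'_dim, hd]
    have hinj₁ : Function.Injective (algebraMap R (AdjoinRoot P)) := by
      have h0 : 0 < pb.dim := by omega
      have hb1 : pb.basis ⟨0, h0⟩ = 1 := by rw [pb.basis_eq_pow]; simp
      intro x y hxy
      have h1 : x • (1 : AdjoinRoot P) = y • (1 : AdjoinRoot P) := by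
        rw [← Algebra.algebraMap_eq_smul_one, ← Algebra.algebraMap_eq_smul_one]; exact hxy
      rw [← hb1] at h1
      have h3 : pb.basis.repr (x • pb.basis ⟨0, h0⟩) ⟨0, h0⟩ =
          pb.basis.repr (y • pb.basis ⟨0, h0⟩) ⟨0, h0⟩ := by rw [h1]
      rw [map_smul, map_smul, Module.Basis.repr_self, Finsupp.smul_apply, Finsupp.smul_apply,
        Finsupp.single_eq_same, smul_eq_mul, mul_one, smul_eq_mul, mul_one] at h3
      exact h3
    haveI : Nontrivial (AdjoinRoot P) := hinj₁.nontrivial
    have hroot : (P.map (algebraMap R (AdjoinRoot P))).IsRoot (AdjoinRoot.root P) :=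
      AdjoinRoot.isRoot_root P
    obtain ⟨P₁, hP₁def⟩ : ∃ P₁, P₁ = (P.map (algebraMap R (AdjoinRoot P))) /ₘ (X - C (AdjoinRoot.root P)) :=
      ⟨_, rfl⟩
    have hP₁ : (X - C (AdjoinRoot.root P)) * P₁ = P.map (algebraMap R (AdjoinRoot P)) := by
      rw [hP₁def]; exact mul_divByMonic_eq_iff_isRoot.2 hroot
    have hP₁monic : P₁.Monic := by
      apply Monic.of_mul_monic_left (monic_X_sub_C (AdjoinRoot.root P))
      rw [hP₁]; exact hP.map _
    have hP₁deg : P₁.natDegree = d := by
      rw [hP₁def, natDegree_divByMonic _ (monic_X_sub_C _), natDegree_X_sub_C,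
        natDegree_map_eq_of_injective hinj₁, hd]
      rfl
    obtain ⟨R', _, _, hfin, hfree, hinj, roots, hroots⟩ := ih (AdjoinRoot P) P₁ hP₁monic hP₁deg
    letI : Algebra R R' := ((algebraMap (AdjoinRoot P) R').comp (algebraMap R (AdjoinRoot P))).toAlgebra
    haveI : IsScalarTower R (AdjoinRoot P) R' := IsScalarTower.of_algebraMap_eq fun x => rfl
    refine ⟨R', inferInstance, inferInstance, Module.Finite.trans (AdjoinRoot P) R', ?_, ?_,
      Fin.cons (algebraMap (AdjoinRoot P) R' (AdjoinRoot.root P)) roots, ?_⟩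
    · exact Module.Free.of_basis
        ((Module.Free.chooseBasis R (AdjoinRoot P)).smulTower (Module.Free.chooseBasis (AdjoinRoot P) R'))
    · have : (algebraMap R R' : R → R') = algebraMap (AdjoinRoot P) R' ∘ algebraMap R (AdjoinRoot P) := rfl
      rw [this]
      exact hinj.comp hinj₁
    · have h1 : P.map (algebraMap R R') =
          (P.map (algebraMap R (AdjoinRoot P))).map (algebraMap (AdjoinRoot P) R') := by
        rw [Polynomial.map_map]; rfl
      rw [h1, ← hP₁, Polynomial.map_mul, hroots, Fin.prod_univ_succ]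
      simp

open Polynomial in
/-- Let `R → S` be a finite ring map. One can find an extension `R ⊆ R'` of rings, with `R'` finite and
free as an `R`-module, for which the ring `S ⊗_R R'` arises as a quotient of `R'[T_1, …,
T_n]/(P_1(T_1), …, P_n(T_n))` with each `P_i(T) = ∏_j (T - α_{ij})` a product of linear factors over
`R'`. -/
theorem result (R S : Type u) [CommRing R] [CommRing S] [Algebra R S]
    [Module.Finite R S] :
    ∃ (R' : Type u) (_ : CommRing R') (_ : Algebra R R'), Module.Finite R R' ∧ Module.Free R R' ∧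
      Function.Injective (algebraMap R R') ∧
      ∃ (n : ℕ) (d : Fin n → ℕ) (α : (i : Fin n) → Fin (d i) → R')
        (φ : MvPolynomial (Fin n) R' →ₐ[R'] R' ⊗[R] S), Function.Surjective φ ∧
          ∀ i, φ (∏ j, (MvPolynomial.X i - MvPolynomial.C (α i j))) = 0 := by
  classical
  obtain ⟨n, s, hs⟩ := Submodule.fg_iff_exists_fin_generating_family.1
    (Module.Finite.fg_top : (⊤ : Submodule R S).FG)
  have hint : ∀ i, IsIntegral R (s i) := fun i => Algebra.IsIntegral.isIntegral (s i)
  choose p hpmonic hproot using hint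
  obtain ⟨P, hPdef⟩ : ∃ P : R[X], P = ∏ i, p i := ⟨_, rfl⟩
  have hPmonic : P.Monic := by rw [hPdef]; exact monic_prod_of_monic _ _ (fun i _ => hpmonic i)
  have hProot : ∀ i, Polynomial.aeval (s i) P = 0 := by
    intro i
    rw [hPdef, map_prod]
    apply Finset.prod_eq_zero (Finset.mem_univ i)
    rw [Polynomial.aeval_def]; exact hproot i
  obtain ⟨R', _, _, hfin, hfree, hinj, roots, hroots⟩ := exists_splitting P.natDegree R P hPmonic rfl
  refine ⟨R', inferInstance, inferInstance, hfin, hfree, hinj, n, fun _ => P.natDegree,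
    fun _ => roots, MvPolynomial.aeval (fun i => (1 : R') ⊗ₜ[R] s i), ?_, ?_⟩
  · -- surjectivity
    have hspan : Submodule.span R' (Set.range fun i => (1 : R') ⊗ₜ[R] s i) = ⊤ := by
      have h1 := Submodule.baseChange_span (R := R) (A := R') (Set.range s)
      rw [hs, Submodule.baseChange_top] at h1
      rw [h1]
      congr 1
      ext x
      constructor
      · rintro ⟨i, rfl⟩; exact ⟨s i, ⟨i, rfl⟩, rfl⟩
      · rintro ⟨_, ⟨i, rfl⟩, rfl⟩; exact ⟨i, rfl⟩
    have hle : (⊤ : Submodule R' (R' ⊗[R] S)) ≤ Subalgebra.toSubmodule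
        (MvPolynomial.aeval (fun i => (1 : R') ⊗ₜ[R] s i) : MvPolynomial (Fin n) R' →ₐ[R'] R' ⊗[R] S).range := by
      rw [← hspan, Submodule.span_le]
      rintro _ ⟨i, rfl⟩
      exact ⟨MvPolynomial.X i, by simp⟩
    intro y
    exact hle (Submodule.mem_top : y ∈ ⊤)
  · intro i
    rw [map_prod]
    simp only [map_sub, MvPolynomial.aeval_X, MvPolynomial.aeval_C]
    have h1 : Polynomial.aeval ((1 : R') ⊗ₜ[R] s i) (P.map (algebraMap R R')) = 0 := by
      rw [Polynomial.aeval_map_algebraMap]
      have h2 : (1 : R') ⊗ₜ[R] s i = (Algebra.TensorProduct.includeRight : S →ₐ[R] R' ⊗[R] S) (s i) := rfl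
      rw [h2, Polynomial.aeval_algHom_apply, hProot, map_zero]
    rw [hroots, map_prod] at h1
    simpa using h1

end Groth.Agent.S6886
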