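import Groth.Statements.S6887
import Mathlib

set_option autoImplicit false
universe u
open Polynomial
open CAlg

namespace Groth.Agent.S6887

/-- Let `(A, I)` be a Zariski pair (`I` inside the Jacobson radical) and `A → B` a finite ring map.
Suppose `B/IB ≅ B₁ × B₂` as `A`-algebras with `A → B₁` surjective, and `b ∈ B` maps to `(1, 0)`.
Then there is a monic `f ∈ A[x]` with `f(b) = 0` whose reduction modulo `I` is `(x - 1) x^d` for
some `d ≥ 1`. -/
theorem result (A B : Type u) [CommRing A] [CommRing B]
    [Algebra A B] [Module.Finite A B] (I : Ideal A) (hI : I ≤ Ideal.jacobson (⊥ : Ideal A))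
    (B₁ B₂ : Type u) [CommRing B₁] [CommRing B₂] [Algebra A B₁] [Algebra A B₂]
    (e : (B ⧸ I.map (algebraMap A B)) ≃ₐ[A] B₁ × B₂) (h₁ : Function.Surjective (algebraMap A B₁)) (b : B)
    (hb : e (Ideal.Quotient.mk (I.map (algebraMap A B)) b) = (1, 0)) :
    ∃ (f : A[X]) (d : ℕ), f.Monic ∧ Polynomial.aeval b f = 0 ∧ 1 ≤ d ∧
      f.map (Ideal.Quotient.mk I) = (X - 1) * X ^ d := by
  classical
  obtain ⟨n, s, hs⟩ := Module.Finite.exists_fin (R := A) (M := B)
  let g : Fin (n + 2) → B := Fin.cons b (Fin.cons 1 s)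
  have hg0 : g 0 = b := rfl
  have hg : Submodule.span A (Set.range g) = ⊤ := by
    rw [eq_top_iff, ← hs]
    apply Submodule.span_mono
    rintro _ ⟨i, rfl⟩
    exact ⟨i.succ.succ, by simp [g]⟩
  have key : ∀ (y : B) (a : A),
      (e (Ideal.Quotient.mk (I.map (algebraMap A B)) y)).1 = algebraMap A B₁ a →
      b * y - a • b ∈ I • (⊤ : Submodule A B) := by
    intro y a ha
    rw [Ideal.smul_top_eq_map]
    show b * y - a • b ∈ I.map (algebraMap A B)
    rw [← Ideal.Quotient.eq]
    apply e.injective
    have e1 : Ideal.Quotient.mk (I.map (algebraMap A B)) (a • b) =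
        a • Ideal.Quotient.mk (I.map (algebraMap A B)) b :=
      map_smul (Ideal.Quotient.mkₐ A _) a b
    rw [map_mul, map_mul, hb, e1, map_smul, hb]
    ext
    · simp [ha, Algebra.smul_def]
    · simp
  have hcol : ∀ j : Fin (n + 2), ∃ (a : A) (ε : Fin (n + 2) → A), (∀ i, ε i ∈ I) ∧
      (j = 0 → a = 1) ∧ b * g j = a • b + ∑ i, ε i • g i := by
    intro j
    obtain ⟨a, ha1, ha⟩ : ∃ a : A, (j = 0 → a = 1) ∧
        b * g j - a • b ∈ I • (⊤ : Submodule A B) := by
      by_cases hj : j = 0
      · refine ⟨1, fun _ => rfl, ?_⟩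
        subst hj
        apply key
        rw [hg0, hb, map_one]
      · obtain ⟨a, ha⟩ := h₁ (e (Ideal.Quotient.mk (I.map (algebraMap A B)) (g j))).1
        exact ⟨a, fun h => absurd h hj, key _ a ha.symm⟩
    rw [← hg, Submodule.mem_ideal_smul_span_iff_exists_sum] at ha
    obtain ⟨c, hc, hsum⟩ := ha
    refine ⟨a, fun i => c i, hc, ha1, ?_⟩
    have hsum' : ∑ i, c i • g i = b * g j - a • b := by
      rw [← hsum, Finsupp.sum_fintype]
      intro i; exact zero_smul _ _
    show b * g j = a • b + ∑ i, c i • g i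
    rw [hsum']; abel
  choose a ε hε ha0 hcol using hcol
  let M : Matrix (Fin (n + 2)) (Fin (n + 2)) A :=
    Matrix.of (fun i j => ε j i + if i = 0 then a j else 0)
  let φ : Module.End A B := Algebra.lmul A B b
  have hrep : M.Represents g φ := by
    rw [Matrix.represents_iff']
    intro j
    show ∑ i, (ε j i + if i = 0 then a j else 0) • g i = b * g j
    rw [hcol j]
    simp only [add_smul, Finset.sum_add_distrib, ite_smul, zero_smul, Finset.sum_ite_eq',
      Finset.mem_univ, if_true, hg0]
    abel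
  have hCH : Polynomial.aeval φ M.charpoly = 0 := by
    let M' : Matrix.isRepresentation A g := ⟨M, φ, hrep⟩
    have h1 : Matrix.isRepresentation.toEnd A g hg M' = φ :=
      Matrix.isRepresentation.eq_toEnd_of_represents A g hg M' hrep
    rw [← h1, Polynomial.aeval_algHom_apply,
      ← map_zero (Matrix.isRepresentation.toEnd A g hg)]
    congr 1
    ext1
    rw [Polynomial.aeval_subalgebra_coe, Subalgebra.coe_zero]
    exact Matrix.aeval_self_charpoly M
  have hMbar : M.map (Ideal.Quotient.mk I) =
      Matrix.of (fun i j => if i = 0 then Ideal.Quotient.mk I (a j) else 0) := by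
    ext i j
    simp only [Matrix.map_apply, M, Matrix.of_apply, map_add]
    rw [Ideal.Quotient.eq_zero_iff_mem.mpr (hε j i), zero_add]
    split_ifs <;> simp
  have htri : (M.map (Ideal.Quotient.mk I)).IsUpperTriangular := by
    intro i j hij
    rw [hMbar]
    have hi : i ≠ 0 := by
      rintro rfl
      exact absurd hij (by simp)
    simp [hi]
  refine ⟨M.charpoly, n + 1, Matrix.charpoly_monic M, ?_, by omega, ?_⟩
  · have h2 := congrArg (fun ψ : Module.End A B => ψ 1) hCH
    simp only [LinearMap.zero_apply] at h2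
    have h3 : Polynomial.aeval φ M.charpoly = Algebra.lmul A B (Polynomial.aeval b M.charpoly) :=
      (Polynomial.aeval_algHom_apply (Algebra.lmul A B) b M.charpoly)
    rw [h3] at h2
    simpa using h2
  · rw [← Matrix.charpoly_map, Matrix.charpoly_of_isUpperTriangular _ htri, Fin.prod_univ_succ,
      hMbar]
    simp [ha0 0 rfl, Fin.succ_ne_zero]

end Groth.Agent.S6887
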