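import Groth.Statements.S6888
import Mathlib

set_option autoImplicit false
universe u
open Polynomial
open CAlg

namespace Groth.Agent.S6888

/-- Idempotents that are congruent modulo an ideal in the Jacobson radical are equal. -/
theorem idem_unique {A : Type u} [CommRing A] (I : Ideal A) (hI : I ≤ Ideal.jacobson (⊥ : Ideal A))
    {e e' : A} (he : IsIdempotentElem e) (he' : IsIdempotentElem e') (h : e - e' ∈ I) : e = e' := by
  have hd3 : (e - e') * (1 - (e - e') ^ 2) = 0 := by
    have h1 : e * e = e := he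
    have h2 : e' * e' = e' := he'
    have : (e - e') * (1 - (e - e') ^ 2) = (e - e') - (e * e * e - 3 * (e * e) * e' + 3 * e * (e' * e') - e' * e' * e') := by ring
    rw [this, h1, h1, h2, h2]; ring
  have hmem : -(e - e') ^ 2 ∈ Ideal.jacobson (⊥ : Ideal A) :=
    hI (I.neg_mem (I.pow_mem_of_mem h 2 (by norm_num)))
  have hu : IsUnit (1 - (e - e') ^ 2) := by
    have := Ideal.mem_jacobson_bot.1 hmem 1
    have h3 : -(e - e') ^ 2 * 1 + 1 = 1 - (e - e') ^ 2 := by ring
    rwa [h3] at this
  have : e - e' = 0 := by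
    have := hu.mul_left_eq_zero.1 hd3
    exact this
  exact sub_eq_zero.1 this

theorem key {A : Type u} [CommRing A] (I : Ideal A) (hI : I ≤ Ideal.jacobson (⊥ : Ideal A))
    (hidem : ∀ e : A ⧸ I, IsIdempotentElem e → ∃ e' : A, IsIdempotentElem e' ∧ Ideal.Quotient.mk I e' = e)
    (n : ℕ) (a : Fin n → A) (a₀ : A) (h0 : ∏ i, (a₀ - a i) ∈ I)
    (hD : IsUnit (Ideal.Quotient.mk I (∑ j, ∏ i ∈ Finset.univ.erase j, (a₀ - a i)))) :
    ∃ r : A, ∏ i, (r - a i) = 0 ∧ r - a₀ ∈ I := by
  classical
  set mk := Ideal.Quotient.mk I with hmk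
  set x : Fin n → A ⧸ I := fun i => mk (a₀ - a i) with hx
  have hprod : ∏ i, x i = 0 := by
    rw [hx, ← map_prod]; exact Ideal.Quotient.eq_zero_iff_mem.2 h0
  obtain ⟨D, hDeq⟩ := hD
  have hDval : (D : A ⧸ I) = ∑ j, ∏ i ∈ Finset.univ.erase j, x i := by
    rw [hDeq, map_sum]; simp [hx, map_prod]
  set P : Fin n → A ⧸ I := fun j => ∏ i ∈ Finset.univ.erase j, x i with hP
  set e : Fin n → A ⧸ I := fun j => (↑D⁻¹ : A ⧸ I) * P j with he
  have hsum : ∑ j, e j = 1 := by
    rw [he, ← Finset.mul_sum]; simp only [hP]; rw [← hDval]; simp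
  have hPx : ∀ j, P j * x j = 0 := by
    intro j
    rw [hP]; simp only
    rw [Finset.prod_erase_mul _ _ (Finset.mem_univ j)]; exact hprod
  have hPP : ∀ j k, j ≠ k → P j * P k = 0 := by
    intro j k hjk
    have hk : k ∈ Finset.univ.erase j := Finset.mem_erase.2 ⟨hjk.symm, Finset.mem_univ k⟩
    have : P j = (∏ i ∈ (Finset.univ.erase j).erase k, x i) * x k := by
      rw [hP]; simp only; rw [Finset.prod_erase_mul _ _ hk]
    rw [this, mul_assoc, mul_comm (x k), hPx k, mul_zero]
  have horth : ∀ j k, j ≠ k → e j * e k = 0 := by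
    intro j k hjk
    simp only [he]
    calc (↑D⁻¹ : A ⧸ I) * P j * (↑D⁻¹ * P k) = ↑D⁻¹ * ↑D⁻¹ * (P j * P k) := by ring
      _ = 0 := by rw [hPP j k hjk, mul_zero]
  have hidemp : ∀ j, IsIdempotentElem (e j) := by
    intro j
    show e j * e j = e j
    have : e j = e j * ∑ k, e k := by rw [hsum, mul_one]
    conv_rhs => rw [this]
    rw [Finset.mul_sum, Finset.sum_eq_single j]
    · intro k _ hk; exact horth j k hk.symm
    · intro h; exact absurd (Finset.mem_univ j) h
  have hex : ∀ j, e j * x j = 0 := by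
    intro j; simp only [he]; rw [mul_assoc, hPx j, mul_zero]
  -- lift
  choose e' he'idem he'mk using fun j => hidem (e j) (hidemp j)
  have horth' : ∀ j k, j ≠ k → e' j * e' k = 0 := by
    intro j k hjk
    apply idem_unique I hI ((he'idem j).mul (he'idem k)) IsIdempotentElem.zero
    rw [sub_zero]
    apply Ideal.Quotient.eq_zero_iff_mem.1
    rw [map_mul, he'mk, he'mk, horth j k hjk]
  have hsumidem : IsIdempotentElem (∑ j, e' j) := by
    show (∑ j, e' j) * (∑ j, e' j) = ∑ j, e' j
    rw [Finset.sum_mul]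
    apply Finset.sum_congr rfl
    intro j _
    rw [Finset.mul_sum, Finset.sum_eq_single j]
    · exact he'idem j
    · intro k _ hk; exact horth' j k hk.symm
    · intro h; exact absurd (Finset.mem_univ j) h
  have hsum' : ∑ j, e' j = 1 := by
    apply idem_unique I hI hsumidem IsIdempotentElem.one
    apply Ideal.Quotient.eq_zero_iff_mem.1
    rw [map_sub, map_sum, map_one]
    simp only [he'mk, mk, hsum, sub_self]
  refine ⟨∑ j, e' j * a j, ?_, ?_⟩
  · set r := ∑ j, e' j * a j with hr
    have h1 : ∀ j, e' j * (r - a j) = 0 := by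
      intro j
      rw [mul_sub, hr, Finset.mul_sum, Finset.sum_eq_single j]
      · rw [← mul_assoc, (he'idem j).eq, sub_self]
      · intro k _ hk; rw [← mul_assoc, horth' j k hk.symm, zero_mul]
      · intro h; exact absurd (Finset.mem_univ j) h
    have h2 : ∀ j, e' j * ∏ i, (r - a i) = 0 := by
      intro j
      rw [← Finset.mul_prod_erase _ _ (Finset.mem_univ j), ← mul_assoc, h1 j, zero_mul]
    calc ∏ i, (r - a i) = (∑ j, e' j) * ∏ i, (r - a i) := by rw [hsum', one_mul]
      _ = 0 := by rw [Finset.sum_mul]; exact Finset.sum_eq_zero fun j _ => h2 j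
  · apply Ideal.Quotient.eq_zero_iff_mem.1
    rw [map_sub, map_sum]
    have : mk a₀ = ∑ j, e j * mk a₀ := by rw [← Finset.sum_mul, hsum, one_mul]
    rw [this, ← Finset.sum_sub_distrib]
    apply Finset.sum_eq_zero
    intro j _
    rw [map_mul, he'mk]
    have := hex j
    simp only [hx, map_sub] at this
    rw [← mul_sub, ← neg_sub, mul_neg, this, neg_zero]

/-- Let `A` be absolutely integrally closed (every monic polynomial over `A` is a product of linear
factors) and `I ⊆ A` an ideal contained in the Jacobson radical such that `A → A/I` is surjective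
(hence bijective) on idempotents. Then `(A, I)` is a henselian pair. (The published statement also
records the converse, which holds for every henselian pair; this row states the sufficiency only.) -/
theorem result (A : Type u) [CommRing A]
    (hA : ∀ f : A[X], f.Monic → ∃ s : Multiset A, f = (s.map fun a => X - C a).prod) (I : Ideal A)
    (hI : I ≤ Ideal.jacobson (⊥ : Ideal A))
    (hidem : ∀ e : A ⧸ I, IsIdempotentElem e → ∃ e' : A, IsIdempotentElem e' ∧ Ideal.Quotient.mk I e' = e) :
    HenselianRing A I := by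
  classical
  refine ⟨hI, ?_⟩
  intro f hf a₀ h0 hD
  obtain ⟨s, hs⟩ := hA f hf
  obtain ⟨l, rfl⟩ := Quot.exists_rep s
  -- index by Fin
  set n := l.length with hn
  set a : Fin n → A := fun i => l.get i with ha
  have hl : l = List.ofFn a := by rw [ha]; exact (List.ofFn_get l).symm
  have hfprod : f = ∏ i, (X - C (a i)) := by
    rw [hs]
    show (Multiset.map (fun a => X - C a) (↑l : Multiset A)).prod = _
    rw [Multiset.map_coe, Multiset.prod_coe]
    conv_lhs => rw [hl]
    rw [List.map_ofFn, List.prod_ofFn]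
    rfl
  have heval : ∀ r : A, f.eval r = ∏ i, (r - a i) := by
    intro r; rw [hfprod, Polynomial.eval_prod]; simp
  have hderiv : f.derivative.eval a₀ = ∑ j, ∏ i ∈ Finset.univ.erase j, (a₀ - a i) := by
    rw [hfprod, Polynomial.derivative_prod_finset, Polynomial.eval_finsetSum]
    apply Finset.sum_congr rfl
    intro j _
    simp [Polynomial.eval_prod]
  rw [heval] at h0
  rw [hderiv] at hD
  obtain ⟨r, hr1, hr2⟩ := key I hI hidem n a a₀ h0 hD
  exact ⟨r, by rw [Polynomial.IsRoot, heval]; exact hr1, hr2⟩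

end Groth.Agent.S6888
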