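import Groth.Statements.S6891
import Mathlib

set_option autoImplicit false
universe u
open Fitt

namespace Groth.Agent.S6891

/-- Cramer: if all rows of `a` are relations among the `x j`, then `det a` kills every `x k`. -/
theorem det_smul_eq_zero {R : Type u} [CommRing R] {M : Type u} [AddCommGroup M] [Module R M]
    {n : ℕ} (x : Fin n → M) (a : Matrix (Fin n) (Fin n) R)
    (h : ∀ i : Fin n, ∑ j, a i j • x j = 0) (k : Fin n) : a.det • x k = 0 := by
  classical
  have h1 : ∑ j, (a.adjugate * a) k j • x j = 0 := by
    simp only [Matrix.mul_apply, Finset.sum_smul, mul_smul]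
    rw [Finset.sum_comm]
    apply Finset.sum_eq_zero
    intro i _
    rw [← Finset.smul_sum, h i, smul_zero]
  rw [Matrix.adjugate_mul] at h1
  simp only [Matrix.smul_apply, Matrix.one_apply, smul_eq_mul, mul_ite, mul_one, mul_zero,
    ite_smul, zero_smul] at h1
  rw [Finset.sum_ite_eq] at h1
  simpa using h1

theorem fitt_zero_le_annihilator {R : Type u} [CommRing R] (M : Type u) [AddCommGroup M]
    [Module R M] : Fitt.ideal R M 0 ≤ Module.annihilator R M := by
  unfold Fitt.ideal
  rw [Ideal.span_le]
  rintro d ⟨n, x, a, hx, ha, rfl⟩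
  rw [SetLike.mem_coe, Module.mem_annihilator]
  have hrel : ∀ i : Fin n, ∑ j, a i j • x j = 0 := fun i => ha i (by simp)
  have hle : (⊤ : Submodule R M) ≤ LinearMap.ker (a.det • (LinearMap.id : M →ₗ[R] M)) := by
    rw [← hx, Submodule.span_le]
    rintro _ ⟨k, rfl⟩
    simp only [SetLike.mem_coe, LinearMap.mem_ker, LinearMap.smul_apply, LinearMap.id_apply]
    exact det_smul_eq_zero x a hrel k
  intro m
  have := hle (Submodule.mem_top : m ∈ ⊤)
  simpa using this

/-- Let `M` be a finite `R`-module. Then `Fit_0(M) ⊆ Ann_R(M)`, the closed set `V(Fit_0(M))` equals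
`Supp(M)`, and for an ideal `I` one has `Fit_0(R/I) = I`. -/
theorem result {R : Type u} [CommRing R] (M : Type u) [AddCommGroup M]
    [Module R M] [Module.Finite R M] (I : Ideal R) :
    Fitt.ideal R M 0 ≤ Module.annihilator R M ∧
    PrimeSpectrum.zeroLocus (Fitt.ideal R M 0 : Set R) = Module.support R M ∧
    Fitt.ideal R (R ⧸ I) 0 = I := by
  classical
  refine ⟨fitt_zero_le_annihilator M, ?_, ?_⟩
  · rw [Module.support_eq_zeroLocus]
    obtain ⟨n, x, hx⟩ := Submodule.fg_iff_exists_fin_generating_family.1
      (Module.Finite.fg_top : (⊤ : Submodule R M).FG)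
    -- Ann^n ≤ Fit_0
    have hpow : (Module.annihilator R M) ^ n ≤ Fitt.ideal R M 0 := by
      rw [Submodule.pow_eq_span_pow_set, Submodule.span_le]
      intro d hd
      obtain ⟨f, rfl⟩ := Set.mem_pow.1 hd
      apply Ideal.subset_span
      refine ⟨n, x, Matrix.diagonal (fun i => (f i : R)), hx, ?_, ?_⟩
      · intro i _
        rw [Finset.sum_eq_single i]
        · rw [Matrix.diagonal_apply_eq]
          exact Module.mem_annihilator.1 (f i).2 (x i)
        · intro j _ hji
          rw [Matrix.diagonal_apply_ne _ hji.symm, zero_smul]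
        · intro h; exact absurd (Finset.mem_univ i) h
      · rw [Matrix.det_diagonal, List.prod_ofFn]
    apply Set.Subset.antisymm
    · intro p hp
      rw [PrimeSpectrum.mem_zeroLocus] at hp ⊢
      have h1 : (Module.annihilator R M) ^ n ≤ p.asIdeal := fun y hy => hp (hpow hy)
      exact Ideal.IsPrime.le_of_pow_le h1
    · exact PrimeSpectrum.zeroLocus_anti_mono (fitt_zero_le_annihilator M)
  · apply le_antisymm
    · have := fitt_zero_le_annihilator (R := R) (R ⧸ I)
      rwa [Ideal.annihilator_quotient] at this
    · intro a ha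
      apply Ideal.subset_span
      refine ⟨1, fun _ => (1 : R ⧸ I), Matrix.of (fun _ _ => a), ?_, ?_, ?_⟩
      · rw [eq_top_iff]
        intro y _
        obtain ⟨r, rfl⟩ := Ideal.Quotient.mk_surjective y
        have : (Ideal.Quotient.mk I r) = r • (1 : R ⧸ I) := by
          rw [Algebra.smul_def, mul_one]; rfl
        rw [this]
        exact Submodule.smul_mem _ _ (Submodule.subset_span ⟨0, rfl⟩)
      · intro i _
        simp only [Fin.sum_univ_one, Matrix.of_apply]
        rw [Algebra.smul_def, mul_one]
        exact Ideal.Quotient.eq_zero_iff_mem.2 ha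
      · simp

end Groth.Agent.S6891
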