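import Groth.Statements.S6894
import Mathlib
import Groth.Agent.Lib.Helper18.FittLib4

set_option autoImplicit false
universe u
open TensorProduct
open Fitt

namespace Groth.Agent.S6894

open Groth.Agent.Lib.Helper18

/-- Let `M` be a finite `R`-module, `k ≥ 0` and `𝔭 ⊆ R` a prime. Then each of the following conditions
implies all the others: the Fitting ideal `Fit_k(M)` is not contained in `𝔭`; the fiber `M ⊗_R κ(𝔭)`
has dimension at most `k` over `κ(𝔭)`; some `k` elements span the localization `M_𝔭` over `R_𝔭`; and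
for some `f ∉ 𝔭`, the module `M_f` is spanned over `R_f` by `k` elements. -/
theorem result {R : Type u} [CommRing R] (M : Type u) [AddCommGroup M] [Module R M]
    [Module.Finite R M] (k : ℕ) (p : Ideal R) [p.IsPrime] :
    (¬ Fitt.ideal R M k ≤ p ↔ Module.finrank p.ResidueField (p.ResidueField ⊗[R] M) ≤ k) ∧
    (¬ Fitt.ideal R M k ≤ p ↔
      ∃ g : Fin k → LocalizedModule p.primeCompl M, Submodule.span (Localization.AtPrime p) (Set.range g) = ⊤) ∧
    (¬ Fitt.ideal R M k ≤ p ↔ ∃ f : R, f ∉ p ∧
      ∃ g : Fin k → LocalizedModule (Submonoid.powers f) M,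
        Submodule.span (Localization.Away f) (Set.range g) = ⊤) := by
  classical
  refine ⟨?_, ?_, ?_⟩
  · have hbc := FittLib.fitt_baseChange (R := R) (M := M) p.ResidueField k
    have hbasis := FittLib.fitt_of_basis
      (Module.finBasis p.ResidueField (p.ResidueField ⊗[R] M)) k
    constructor
    · intro h
      by_contra hlt
      rw [if_neg hlt] at hbasis
      rw [hbasis] at hbc
      apply h
      intro a ha
      have h1 : algebraMap R p.ResidueField a ∈
          (Fitt.ideal R M k).map (algebraMap R p.ResidueField) := Ideal.mem_map_of_mem _ ha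
      rw [← hbc] at h1
      exact Ideal.algebraMap_residueField_eq_zero.1 (by simpa using h1)
    · intro hle hcon
      rw [if_pos hle] at hbasis
      rw [hbasis] at hbc
      have hmap : (Fitt.ideal R M k).map (algebraMap R p.ResidueField) ≤ ⊥ := by
        rw [Ideal.map_le_iff_le_comap]
        intro a ha
        rw [Ideal.mem_comap]
        exact (Submodule.mem_bot _).2 (Ideal.algebraMap_residueField_eq_zero.2 (hcon ha))
      rw [← hbc] at hmap
      exact absurd (le_bot_iff.1 hmap) top_ne_bot
  · rw [FittLib.not_fitt_le_prime_iff]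
    constructor
    · rintro ⟨s, hs, m, hm⟩
      exact ⟨_, FittLib.span_mk_eq_top p.primeCompl s hs m hm⟩
    · rintro ⟨g, hg⟩
      obtain ⟨s, hs, m, hm⟩ := FittLib.exists_smul_mem_of_span_eq_top p.primeCompl g hg
      exact ⟨s, hs, m, hm⟩
  · rw [FittLib.not_fitt_le_prime_iff]
    constructor
    · rintro ⟨s, hs, m, hm⟩
      exact ⟨s, hs, _, FittLib.span_mk_eq_top (Submonoid.powers s) s
        (Submonoid.mem_powers s) m hm⟩
    · rintro ⟨f, hf, g, hg⟩
      obtain ⟨s, ⟨e, rfl⟩, m, hm⟩ :=
        FittLib.exists_smul_mem_of_span_eq_top (Submonoid.powers f) g hg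
      exact ⟨f ^ e, fun h => hf (Ideal.IsPrime.mem_of_pow_mem ‹_› e h), m, hm⟩

end Groth.Agent.S6894
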