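import Groth.Statements.S6896
import Mathlib
import Groth.Agent.Lib.Helper18.FittLib4

set_option autoImplicit false
universe u
open Fitt

namespace Groth.Agent.S6896

open Groth.Agent.Lib.Helper18

/-- Let `R` be a local ring, `M` a finite `R`-module and `k ≥ 0` with `Fit_k(M) = (f)` principal. Then
the quotient `M'` of `M` by the submodule `{x ∈ M | f x = 0}` can be generated by `k` elements. -/
theorem result {R : Type u} [CommRing R] [IsLocalRing R]
    (M : Type u) [AddCommGroup M] [Module R M] [Module.Finite R M] (k : ℕ) (f : R)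
    (hf : Fitt.ideal R M k = Ideal.span {f}) :
    ∃ g : Fin k → M ⧸ LinearMap.ker (f • (LinearMap.id : M →ₗ[R] M)),
      Submodule.span R (Set.range g) = ⊤ := by
  classical
  set π := (LinearMap.ker (f • (LinearMap.id : M →ₗ[R] M))).mkQ with hπ
  obtain ⟨n, x, hx⟩ := Module.Finite.exists_fin (R := R) (M := M)
  have hfin : ∀ T : Finset (Fin n), T.card ≤ k →
      Submodule.span R ((fun i => π (x i)) '' (T : Set (Fin n))) = ⊤ →
      ∃ g : Fin k → M ⧸ LinearMap.ker (f • (LinearMap.id : M →ₗ[R] M)),
        Submodule.span R (Set.range g) = ⊤ := by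
    intro T hT hspan
    refine ⟨fun j => if h : (j : ℕ) < T.card then π (x (T.equivFin.symm ⟨j, h⟩)) else 0, ?_⟩
    rw [eq_top_iff, ← hspan]
    refine Submodule.span_mono ?_
    rintro _ ⟨i, hi, rfl⟩
    have hj : ((T.equivFin ⟨i, hi⟩ : Fin T.card) : ℕ) < k :=
      lt_of_lt_of_le (T.equivFin ⟨i, hi⟩).2 hT
    refine ⟨⟨(T.equivFin ⟨i, hi⟩ : Fin T.card), hj⟩, ?_⟩
    simp only [Fin.is_lt, dif_pos, Fin.eta, Equiv.symm_apply_apply]
  by_cases hf0 : f = 0
  · refine ⟨fun _ => 0, ?_⟩
    rw [eq_top_iff]
    rintro q -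
    obtain ⟨y, rfl⟩ := Submodule.mkQ_surjective _ q
    have hy : y ∈ LinearMap.ker (f • (LinearMap.id : M →ₗ[R] M)) := by simp [hf0]
    rw [Submodule.mkQ_apply, (Submodule.Quotient.mk_eq_zero _).2 hy]
    exact zero_mem _
  have hfit := FittLib.fitt_eq_minorIdeal x hx k
  have hmem : f ∈ FittLib.minorIdeal {z : Fin n → R | ∑ i, z i • x i = 0} (n - k) := by
    rw [← hfit, hf]; exact Ideal.mem_span_singleton_self f
  have hle : ∀ d ∈ FittLib.minorIdeal {z : Fin n → R | ∑ i, z i • x i = 0} (n - k),
      ∃ c, c * f = d := by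
    intro d hd
    rw [← hfit, hf] at hd
    exact Ideal.mem_span_singleton'.1 hd
  have hgen : ∃ (z : Fin (n - k) → Fin n → R) (e : Fin (n - k) → Fin n),
      (∀ j, z j ∈ {z : Fin n → R | ∑ i, z i • x i = 0}) ∧
      ∃ u : R, IsUnit u ∧ (Matrix.of fun a b => z b (e a)).det = u * f := by
    by_contra hcon
    push_neg at hcon
    have hsub : FittLib.minorIdeal {z : Fin n → R | ∑ i, z i • x i = 0} (n - k)
        ≤ IsLocalRing.maximalIdeal R * Ideal.span {f} := by
      refine Ideal.span_le.2 ?_
      rintro d ⟨z, e, hz, rfl⟩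
      obtain ⟨c, hc⟩ := hle _ (Ideal.subset_span ⟨z, e, hz, rfl⟩)
      rw [SetLike.mem_coe, Ideal.mem_mul_span_singleton]
      refine ⟨c, ?_, hc⟩
      rw [IsLocalRing.mem_maximalIdeal, mem_nonunits_iff]
      intro hcu
      exact hcon z e hz c hcu hc.symm
    have h1 := hsub hmem
    rw [Ideal.mem_mul_span_singleton] at h1
    obtain ⟨c, hc, hcf⟩ := h1
    have hu := IsLocalRing.isUnit_one_sub_self_of_mem_nonunits c
      ((IsLocalRing.mem_maximalIdeal c).1 hc)
    have h2 : (1 - c) * f = 0 := by rw [sub_mul, one_mul, hcf, sub_self]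
    exact hf0 (hu.mul_right_eq_zero.1 h2)
  obtain ⟨z, e, hz, u, hu, hdet⟩ := hgen
  have he : Function.Injective e := by
    by_contra hne
    simp only [Function.Injective, not_forall] at hne
    obtain ⟨a, a', hee, hne'⟩ := hne
    have h0 : (Matrix.of fun a b => z b (e a)).det = 0 :=
      Matrix.det_zero_of_row_eq hne' (funext fun b => by simp [hee])
    rw [h0] at hdet
    exact hf0 (hu.mul_right_eq_zero.1 hdet.symm)
  set A : Matrix (Fin (n - k)) (Fin (n - k)) R := Matrix.of fun b a => z b (e a) with hA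
  have hAdet : A.det = u * f := by
    rw [← hdet, ← Matrix.det_transpose]
    rfl
  set T : Finset (Fin n) := (Finset.image e Finset.univ)ᶜ with hT
  have hTcard : T.card ≤ k := by
    rw [hT, Finset.card_compl, Finset.card_image_of_injective _ he, Finset.card_univ,
      Fintype.card_fin, Fintype.card_fin]
    omega
  set P := Submodule.span R ((fun i => π (x i)) '' (T : Set (Fin n))) with hP
  have hstep : ∀ a₀ : Fin (n - k), π (x (e a₀)) ∈ P := by
    intro a₀
    set w : Fin n → R := fun i => ∑ b, A.adjugate a₀ b * z b i with hw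
    have hw1 : ∑ i, w i • x i = 0 := by
      calc ∑ i, w i • x i = ∑ i, ∑ b, (A.adjugate a₀ b * z b i) • x i := by
            simp only [hw, Finset.sum_smul]
        _ = ∑ b, ∑ i, (A.adjugate a₀ b * z b i) • x i := Finset.sum_comm
        _ = ∑ b, A.adjugate a₀ b • ∑ i, z b i • x i := by
            simp only [Finset.smul_sum, mul_smul]
        _ = 0 := by
            refine Finset.sum_eq_zero fun b _ => ?_
            rw [show ∑ i, z b i • x i = 0 from hz b, smul_zero]
    have hw2 : ∀ a, w (e a) = if a₀ = a then A.det else 0 := by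
      intro a
      have h1 : w (e a) = (A.adjugate * A) a₀ a := by
        rw [Matrix.mul_apply]
        rfl
      rw [h1, Matrix.adjugate_mul, Matrix.smul_apply, Matrix.one_apply, smul_eq_mul, mul_ite,
        mul_one, mul_zero]
    have hw3 : ∀ i, ∃ c, c * f = w i := by
      intro i
      apply hle
      have h1 : w i = (A.updateCol a₀ (fun b => z b i)).det := by
        rw [← Matrix.cramer_apply, Matrix.cramer_eq_adjugate_mulVec]
        rfl
      rw [h1, ← Matrix.det_transpose]
      refine Ideal.subset_span ⟨z, Function.update e a₀ i, hz, ?_⟩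
      congr 1
      ext a b
      simp only [Matrix.transpose_apply, Matrix.updateCol_apply, Matrix.of_apply, hA,
        Function.update_apply]
      split_ifs <;> rfl
    choose c hc using hw3
    have hsplit : ∑ i, w i • x i
        = A.det • x (e a₀) + f • ∑ i ∈ T, c i • x i := by
      rw [← Finset.sum_add_sum_compl (Finset.image e Finset.univ) (fun i => w i • x i),
        Finset.sum_image (fun a _ b _ h => he h)]
      congr 1
      · simp only [hw2, ite_smul, zero_smul, Finset.sum_ite_eq, Finset.mem_univ, if_true]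
      · rw [Finset.smul_sum]
        refine Finset.sum_congr rfl fun i _ => ?_
        rw [← hc i, mul_comm, mul_smul]
    rw [hw1, hAdet] at hsplit
    have hker : u • x (e a₀) + ∑ i ∈ T, c i • x i
        ∈ LinearMap.ker (f • (LinearMap.id : M →ₗ[R] M)) := by
      rw [LinearMap.mem_ker, LinearMap.smul_apply, LinearMap.id_apply, smul_add, smul_smul,
        mul_comm f u]
      exact hsplit.symm
    have hπ0 : π (u • x (e a₀) + ∑ i ∈ T, c i • x i) = 0 := by
      rw [hπ, Submodule.mkQ_apply, Submodule.Quotient.mk_eq_zero]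
      exact hker
    rw [map_add, map_smul, map_sum] at hπ0
    have h3 : u • π (x (e a₀)) ∈ P := by
      rw [eq_neg_of_add_eq_zero_left hπ0]
      refine P.neg_mem (Submodule.sum_mem _ fun i hi => ?_)
      rw [map_smul]
      exact P.smul_mem _ (Submodule.subset_span ⟨i, hi, rfl⟩)
    have h4 : π (x (e a₀)) = (hu.unit⁻¹ : Rˣ).1 • (u • π (x (e a₀))) := by
      rw [smul_smul]
      have : ((hu.unit⁻¹ : Rˣ) : R) * u = 1 := by
        have := hu.unit.inv_mul
        simp at this
        simpa using this
      rw [this, one_smul]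
    rw [h4]
    exact P.smul_mem _ h3
  have hall : ∀ i, π (x i) ∈ P := by
    intro i
    by_cases hi : i ∈ T
    · exact Submodule.subset_span ⟨i, hi, rfl⟩
    · rw [hT, Finset.mem_compl, not_not, Finset.mem_image] at hi
      obtain ⟨a₀, _, rfl⟩ := hi
      exact hstep a₀
  refine hfin T hTcard ?_
  rw [eq_top_iff]
  rintro q -
  obtain ⟨y, rfl⟩ := Submodule.mkQ_surjective _ q
  have hy : y ∈ Submodule.span R (Set.range x) := by rw [hx]; trivial
  show π y ∈ P
  induction hy using Submodule.span_induction with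
  | mem y hy => obtain ⟨l, rfl⟩ := hy; exact hall l
  | zero => rw [map_zero]; exact zero_mem _
  | add a b _ _ ha hb => rw [map_add]; exact add_mem ha hb
  | smul r a _ ha => rw [map_smul]; exact P.smul_mem _ ha

end Groth.Agent.S6896
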