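import Groth.Statements.S6898
import Mathlib

set_option autoImplicit false
universe u
open TensorProduct
open CAlg

namespace Groth.Agent.S6898

section aux
variable {A : Type u} [CommRing A] [IsLocalRing A] {M N : Type u}
    [AddCommGroup M] [Module A M] [AddCommGroup N] [Module A N]

lemma lTensor_injective_of_torsion (u : M →ₗ[A] N)
    (hu : Function.Injective (u.baseChange (IsLocalRing.ResidueField A)))
    (Q : Type u) [AddCommGroup Q] [Module A Q]
    (hQ : ∀ a ∈ IsLocalRing.maximalIdeal A, ∀ q : Q, a • q = 0) :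
    Function.Injective (u.lTensor Q) := by
  have hT : Module.IsTorsionBySet A Q (IsLocalRing.maximalIdeal A : Set A) :=
    fun q a => hQ a.1 a.2 q
  letI : Module (IsLocalRing.ResidueField A) Q := hT.module
  haveI : IsScalarTower A (IsLocalRing.ResidueField A) Q := hT.isScalarTower
  have h1 : Function.Injective ((u.baseChange (IsLocalRing.ResidueField A)).lTensor Q) :=
    Module.Flat.lTensor_preserves_injective_linearMap _ hu
  let eM := TensorProduct.AlgebraTensorModule.cancelBaseChange A (IsLocalRing.ResidueField A)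
    (IsLocalRing.ResidueField A) Q M
  let eN := TensorProduct.AlgebraTensorModule.cancelBaseChange A (IsLocalRing.ResidueField A)
    (IsLocalRing.ResidueField A) Q N
  have hcomm : ∀ z, (u.lTensor Q) (eM z) =
      eN (((u.baseChange (IsLocalRing.ResidueField A)).lTensor Q) z) := by
    intro z
    induction z using TensorProduct.induction_on with
    | zero => simp
    | tmul q y =>
      induction y using TensorProduct.induction_on with
      | zero => simp
      | tmul c m => simp [eM, eN]
      | add y₁ y₂ h₁ h₂ => simp only [TensorProduct.tmul_add, map_add, h₁, h₂]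
    | add z₁ z₂ h₁ h₂ => simp only [map_add, h₁, h₂]
  rw [injective_iff_map_eq_zero]
  intro w hw
  have h2 : eN (((u.baseChange (IsLocalRing.ResidueField A)).lTensor Q) (eM.symm w)) = 0 := by
    rw [← hcomm, LinearEquiv.apply_symm_apply, hw]
  have h3 : eM.symm w = 0 := by
    apply h1
    rw [map_zero]
    exact eN.injective (by rw [h2, map_zero])
  simpa using congrArg eM h3

/-- the multiplication map `I ⊗ X → X` -/
noncomputable def psi (I : Ideal A) (X : Type u) [AddCommGroup X] [Module A X] :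
    (I ⊗[A] X) →ₗ[A] X :=
  (TensorProduct.lid A X).toLinearMap ∘ₗ (I.subtype.rTensor X)

lemma psi_tmul (I : Ideal A) (X : Type u) [AddCommGroup X] [Module A X] (a : I) (m : X) :
    psi I X (a ⊗ₜ m) = (a : A) • m := by
  simp [psi]

lemma exists_psi_eq (I : Ideal A) (X : Type u) [AddCommGroup X] [Module A X] {x : X}
    (hx : x ∈ I • (⊤ : Submodule A X)) : ∃ ξ, psi I X ξ = x := by
  refine Submodule.smul_induction_on hx ?_ ?_
  · intro a ha m _
    exact ⟨(⟨a, ha⟩ : I) ⊗ₜ m, psi_tmul I X _ m⟩
  · rintro y₁ y₂ ⟨ξ₁, rfl⟩ ⟨ξ₂, rfl⟩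
    exact ⟨ξ₁ + ξ₂, map_add _ _ _⟩

lemma psi_lTensor (I : Ideal A) (u : M →ₗ[A] N) (ξ : I ⊗[A] M) :
    psi I N ((u.lTensor I) ξ) = u (psi I M ξ) := by
  induction ξ using TensorProduct.induction_on with
  | zero => simp
  | tmul a m => simp [psi_tmul]
  | add ξ₁ ξ₂ h₁ h₂ => simp only [map_add, h₁, h₂]

/-- `I → A ⧸ J₁` -/
noncomputable def phi (I J₁ : Ideal A) : I →ₗ[A] A ⧸ J₁ := (Submodule.mkQ J₁).comp I.subtype

lemma quot_phi (I J₁ : Ideal A) (X : Type u) [AddCommGroup X] [Module A X] (ξ : I ⊗[A] X) :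
    TensorProduct.quotTensorEquivQuotSMul X J₁ (((phi I J₁).rTensor X) ξ) =
      Submodule.Quotient.mk (psi I X ξ) := by
  induction ξ using TensorProduct.induction_on with
  | zero => simp
  | tmul a m =>
    rw [LinearMap.rTensor_tmul, psi_tmul]
    exact TensorProduct.quotTensorEquivQuotSMul_mk_tmul J₁ (a : A) m
  | add ξ₁ ξ₂ h₁ h₂ => simp only [map_add, h₁, h₂, Submodule.Quotient.mk_add]

lemma key [Module.Flat A N] (u : M →ₗ[A] N)
    (hu : Function.Injective (u.baseChange (IsLocalRing.ResidueField A)))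
    (I J₁ : Ideal A) (hmI : IsLocalRing.maximalIdeal A • I ≤ J₁) (ξ : I ⊗[A] M)
    (h : u (psi I M ξ) ∈ J₁ • (⊤ : Submodule A N)) :
    psi I M ξ ∈ J₁ • (⊤ : Submodule A M) := by
  have hιN : Function.Injective ((LinearMap.range (phi I J₁)).subtype.rTensor N) :=
    Module.Flat.rTensor_preserves_injective_linearMap _ (Submodule.injective_subtype _)
  have hQ : ∀ a ∈ IsLocalRing.maximalIdeal A, ∀ q : LinearMap.range (phi I J₁), a • q = 0 := by
    rintro a ha ⟨_, b, rfl⟩
    apply Subtype.ext
    show a • phi I J₁ b = 0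
    rw [← map_smul]
    show Submodule.Quotient.mk ((a • b : I) : A) = 0
    rw [Submodule.Quotient.mk_eq_zero]
    exact hmI (Submodule.smul_mem_smul ha b.2)
  have hinjQ := lTensor_injective_of_torsion u hu (LinearMap.range (phi I J₁)) hQ
  have hfac : ∀ ξ' : I ⊗[A] M, ((phi I J₁).rTensor M) ξ' =
      ((LinearMap.range (phi I J₁)).subtype.rTensor M)
        (((phi I J₁).rangeRestrict.rTensor M) ξ') := by
    intro ξ'
    induction ξ' using TensorProduct.induction_on with
    | zero => simp
    | tmul a m => rfl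
    | add ξ₁ ξ₂ h₁ h₂ => simp only [map_add, h₁, h₂]
  have hcomm : ∀ ξ' : I ⊗[A] M,
      ((LinearMap.range (phi I J₁)).subtype.rTensor N)
        ((u.lTensor (LinearMap.range (phi I J₁))) (((phi I J₁).rangeRestrict.rTensor M) ξ')) =
      ((phi I J₁).rTensor N) ((u.lTensor I) ξ') := by
    intro ξ'
    induction ξ' using TensorProduct.induction_on with
    | zero => simp
    | tmul a m => rfl
    | add ξ₁ ξ₂ h₁ h₂ => simp only [map_add, h₁, h₂]
  have hN0 : ((phi I J₁).rTensor N) ((u.lTensor I) ξ) = 0 := by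
    apply (TensorProduct.quotTensorEquivQuotSMul N J₁).injective
    rw [quot_phi, psi_lTensor, map_zero, Submodule.Quotient.mk_eq_zero]
    exact h
  have hζ : ((phi I J₁).rangeRestrict.rTensor M) ξ = 0 := by
    apply hinjQ
    rw [map_zero]
    apply hιN
    rw [map_zero, hcomm, hN0]
  have hM0 : ((phi I J₁).rTensor M) ξ = 0 := by rw [hfac, hζ, map_zero]
  have := quot_phi I J₁ M ξ
  rw [hM0, map_zero] at this
  exact (Submodule.Quotient.mk_eq_zero _).mp this.symm

end aux

/-- Let `(A, 𝔪)` be a local ring and `u : M → N` a linear map between flat `A`-modules whose reduction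
`M/𝔪M → N/𝔪N` is injective. If `I` is the content ideal of some `x ∈ M` (the least ideal `I` with `x
∈ IM`), then `I` is also the least ideal `J` with `u(x) ∈ J·N`. -/
theorem result {A : Type u} [CommRing A] [IsLocalRing A] {M N : Type u}
    [AddCommGroup M] [Module A M] [Module.Flat A M] [AddCommGroup N] [Module A N] [Module.Flat A N] (u : M →ₗ[A] N)
    (hu : Function.Injective (u.baseChange (IsLocalRing.ResidueField A))) (x : M) (I : Ideal A)
    (hx : IsLeast {J : Ideal A | x ∈ J • (⊤ : Submodule A M)} I) :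
    IsLeast {J : Ideal A | u x ∈ J • (⊤ : Submodule A N)} I := by
  classical
  obtain ⟨hxI, hleast⟩ := hx
  have hxI' : x ∈ I • (⊤ : Submodule A M) := hxI
  have hleast' : ∀ K : Ideal A, x ∈ K • (⊤ : Submodule A M) → I ≤ K := fun K hK => hleast hK
  refine ⟨?_, ?_⟩
  · show u x ∈ I • (⊤ : Submodule A N)
    have hmap : (I • (⊤ : Submodule A M)).map u ≤ I • (⊤ : Submodule A N) := by
      rw [Submodule.map_smul'']
      exact Submodule.smul_mono le_rfl le_top
    exact hmap ⟨x, hxI', rfl⟩
  · intro J hJ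
    have hJ' : u x ∈ J • (⊤ : Submodule A N) := hJ
    -- I is finitely generated
    have hfg : I.FG := by
      have : ∃ I₀ : Ideal A, I₀.FG ∧ I₀ ≤ I ∧ x ∈ I₀ • (⊤ : Submodule A M) := by
        refine Submodule.smul_induction_on hxI' ?_ ?_
        · intro a ha m _
          exact ⟨Ideal.span {a}, Submodule.fg_span_singleton a,
            (Ideal.span_singleton_le_iff_mem _).mpr ha,
            Submodule.smul_mem_smul (Ideal.mem_span_singleton_self a) Submodule.mem_top⟩
        · rintro y₁ y₂ ⟨I₁, h1, h1', h1''⟩ ⟨I₂, h2, h2', h2''⟩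
          exact ⟨I₁ ⊔ I₂, Submodule.FG.sup h1 h2, sup_le h1' h2',
            add_mem (Submodule.smul_mono_left le_sup_left h1'')
              (Submodule.smul_mono_left le_sup_right h2'')⟩
      obtain ⟨I₀, h0, h0', h0''⟩ := this
      have : I = I₀ := le_antisymm (hleast' I₀ h0'') h0'
      rw [this]; exact h0
    -- Nakayama
    obtain ⟨J₁, hJ₁⟩ : ∃ J₁ : Ideal A, J₁ = J ⊔ IsLocalRing.maximalIdeal A • I := ⟨_, rfl⟩
    have hJle : J ≤ J₁ := hJ₁ ▸ le_sup_left
    have hmI : IsLocalRing.maximalIdeal A • I ≤ J₁ := hJ₁ ▸ le_sup_right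
    suffices hsuff : I ≤ J₁ from
      Submodule.le_of_le_smul_of_le_jacobson_bot hfg
        (IsLocalRing.jacobson_eq_maximalIdeal ⊥ bot_ne_top).ge (hJ₁ ▸ hsuff)
    apply hleast'
    obtain ⟨ξ, hξ⟩ := exists_psi_eq I M hxI'
    rw [← hξ]
    refine key u hu I J₁ hmI ξ ?_
    rw [hξ]
    exact Submodule.smul_mono_left hJle hJ'

end Groth.Agent.S6898
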