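import Groth.Statements.S6899
import Mathlib

set_option autoImplicit false
universe u
open TensorProduct
open EtAlg

namespace Groth.Agent.S6899

/-- every element of `A ⊗[A'] K` is a pure tensor `1 ⊗ k` when `A' → A` is surjective. -/
theorem exists_one_tmul {A' A : Type u} [CommRing A'] [CommRing A] [Algebra A' A]
    (hs : Function.Surjective (algebraMap A' A)) {K : Type u} [AddCommGroup K] [Module A' K]
    (w : A ⊗[A'] K) : ∃ k : K, w = (1 : A) ⊗ₜ[A'] k := by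
  induction w using TensorProduct.induction_on with
  | zero => exact ⟨0, by simp⟩
  | tmul a k =>
    obtain ⟨a', rfl⟩ := hs a
    refine ⟨a' • k, ?_⟩
    rw [Algebra.algebraMap_eq_smul_one, TensorProduct.smul_tmul]
  | add x y hx hy =>
    obtain ⟨k, rfl⟩ := hx
    obtain ⟨k', rfl⟩ := hy
    exact ⟨k + k', by rw [TensorProduct.tmul_add]⟩

/-- Let `B' = B ×_A A'` be a fibre square of rings with `A' → A` surjective, and let `(N₁, M₁', φ₁) →
(N₂, M₂', φ₂)` be a morphism of glueing data (a `B`-linear `u : N₁ → N₂` and an `A'`-linear `v : M₁'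
→ M₂'` compatible with the `φ_i`) with `u` and `v` surjective. Then the induced map of glued modules
`N₁ ×_{φ₁} M₁' → N₂ ×_{φ₂} M₂'` is surjective. -/
theorem result (B' B A' A : Type u) [CommRing B'] [CommRing B] [CommRing A'] [CommRing A]
    [Algebra B' B] [Algebra B' A'] [Algebra B A] [Algebra A' A] [Algebra B' A] [IsScalarTower B' B A] [IsScalarTower B' A' A]
    (hsq : EtMil.IsFibreSquare B' B A' A)
    {N₁ N₂ M₁' M₂' : Type u} [AddCommGroup N₁] [Module B N₁] [Module B' N₁] [IsScalarTower B' B N₁]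
    [AddCommGroup N₂] [Module B N₂] [Module B' N₂] [IsScalarTower B' B N₂]
    [AddCommGroup M₁'] [Module A' M₁'] [Module B' M₁'] [IsScalarTower B' A' M₁']
    [AddCommGroup M₂'] [Module A' M₂'] [Module B' M₂'] [IsScalarTower B' A' M₂']
    (φ₁ : A ⊗[B] N₁ ≃ₗ[A] A ⊗[A'] M₁') (φ₂ : A ⊗[B] N₂ ≃ₗ[A] A ⊗[A'] M₂') (u : N₁ →ₗ[B] N₂) (v : M₁' →ₗ[A'] M₂')
    (hc : (v.baseChange A).comp φ₁.toLinearMap = φ₂.toLinearMap.comp (u.baseChange A))
    (hu : Function.Surjective u) (hv : Function.Surjective v) :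
    ∀ y : N₂ × M₂', y ∈ EtMil.glue B' φ₂ → ∃ x : N₁ × M₁', x ∈ EtMil.glue B' φ₁ ∧ u x.1 = y.1 ∧ v x.2 = y.2 := by
  rintro ⟨n₂, m₂⟩ hy
  have hy' : φ₂ ((1 : A) ⊗ₜ[B] n₂) = (1 : A) ⊗ₜ[A'] m₂ := hy
  obtain ⟨n₁, rfl⟩ := hu n₂
  obtain ⟨m₁, rfl⟩ := hv m₂
  -- the defect
  set δ : A ⊗[A'] M₁' := φ₁ ((1 : A) ⊗ₜ[B] n₁) - (1 : A) ⊗ₜ[A'] m₁ with hδ
  have hδ0 : (LinearMap.lTensor A v) δ = 0 := by
    have h1 := LinearMap.congr_fun hc ((1 : A) ⊗ₜ[B] n₁)
    simp only [LinearMap.comp_apply, LinearEquiv.coe_coe, LinearMap.baseChange_tmul] at h1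
    rw [hδ, map_sub, LinearMap.lTensor_tmul, ← hy', ← h1]
    simp [LinearMap.baseChange_eq_ltensor]
  have hex : Function.Exact (LinearMap.lTensor A (LinearMap.ker v).subtype) (LinearMap.lTensor A v) :=
    lTensor_exact A (LinearMap.exact_subtype_ker_map v) hv
  obtain ⟨w, hw⟩ := (hex δ).1 hδ0
  obtain ⟨k, rfl⟩ := exists_one_tmul hsq.1 w
  rw [LinearMap.lTensor_tmul] at hw
  refine ⟨(n₁, m₁ + (k : M₁')), ?_, rfl, ?_⟩
  · show φ₁ ((1 : A) ⊗ₜ[B] n₁) = (1 : A) ⊗ₜ[A'] (m₁ + (k : M₁'))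
    rw [TensorProduct.tmul_add]
    have : (1 : A) ⊗ₜ[A'] ((LinearMap.ker v).subtype k) = δ := hw
    rw [Submodule.subtype_apply] at this
    rw [this, hδ]; abel
  · show v (m₁ + (k : M₁')) = v m₁
    rw [map_add, LinearMap.mem_ker.1 k.2, add_zero]

end Groth.Agent.S6899
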