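import Groth.Statements.S6901
import Groth.Agent.Lib.Helper2.Tot.DRing
import Groth.Agent.Lib.Helper2.Tot.Bounded
-- import your own Groth.Agent.* helpers here

set_option autoImplicit false
universe u
open CategoryTheory CategoryTheory.Limits MonoidalCategory
open DRing

namespace Groth.Agent.S6901

/-- A cochain complex `P•` of flat `R`-modules that vanishes in all large degrees is K-flat: `Tot(L• ⊗_R
P•)` is acyclic whenever `L•` is acyclic. -/
theorem result (R : Type u) [CommRing R] (P : DRing.Cx R) (b : ℤ)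
    (hb : DRing.VanishesAbove P b) (hP : DRing.TermwiseFlat P) :
    (∀ L : DRing.Cx R, (∀ i : ℤ, IsZero (L.homology i)) → ∀ i : ℤ, IsZero ((L ⊗ P).homology i)) := by
  rw [Groth.Agent.Lib.Helper2.Tot.DR.kflat_iff]
  haveI : P.IsStrictlyLE b := by
    rw [CochainComplex.isStrictlyLE_iff]
    intro i hi
    exact hb i hi
  haveI : ∀ Y : ModuleCat.{u} R, PreservesColimitsOfShape ℕ
      ((Groth.Agent.Lib.Helper2.Tot.DR.T R).flip.obj Y) := fun Y =>
    inferInstanceAs (PreservesColimitsOfShape ℕ (MonoidalCategory.tensorRight Y))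
  haveI : HasExactColimitsOfShape ℕ (ModuleCat.{u} R) :=
    Groth.Agent.Lib.Helper2.FreeSum.hasExactColimitsOfShape_nat
  refine Groth.Agent.Lib.Helper2.Tot.kflat_of_isStrictlyLE (F := Groth.Agent.Lib.Helper2.Tot.DR.T R)
    P b (fun q => ?_) (fun q => ?_)
  · haveI : Module.Flat R (P.X q) := hP q
    exact inferInstanceAs (PreservesFiniteLimits (MonoidalCategory.tensorRight (P.X q)))
  · exact inferInstanceAs (PreservesFiniteColimits (MonoidalCategory.tensorRight (P.X q)))

end Groth.Agent.S6901
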