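import Groth.Statements.S6909
import Mathlib

set_option autoImplicit false
universe u
open CAlg

namespace Groth.Agent.S6909

section aux

variable {A : Type u} [CommRing A] (I : Ideal A)
variable {M N : Type u} [AddCommGroup M] [Module A M] [AddCommGroup N] [Module A N]

theorem pow_smul_top_anti {m n : ℕ} (h : m ≤ n) :
    I ^ n • (⊤ : Submodule A M) ≤ I ^ m • (⊤ : Submodule A M) :=
  Submodule.smul_mono_left (Ideal.pow_le_pow_right h)

/-- If `h ≡ h'` modulo `I^{c+1}N` then `h - h'` maps `I^r M` into `I^{r+c+1} N`. -/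
theorem diff_mem (h h' : M →ₗ[A] N) (c : ℕ)
    (hh : ∀ y : M, h y - h' y ∈ I ^ (c + 1) • (⊤ : Submodule A N)) (r : ℕ) (a : M)
    (ha : a ∈ I ^ r • (⊤ : Submodule A M)) :
    h a - h' a ∈ I ^ (r + c + 1) • (⊤ : Submodule A N) := by
  have h1 : Submodule.map (h - h') (⊤ : Submodule A M) ≤ I ^ (c + 1) • (⊤ : Submodule A N) := by
    rintro _ ⟨y, -, rfl⟩
    exact hh y
  have h2 : Submodule.map (h - h') (I ^ r • (⊤ : Submodule A M)) ≤
      I ^ (r + c + 1) • (⊤ : Submodule A N) := by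
    rw [Submodule.map_smul'']
    calc I ^ r • Submodule.map (h - h') ⊤ ≤ I ^ r • (I ^ (c + 1) • (⊤ : Submodule A N)) :=
          Submodule.smul_mono le_rfl h1
      _ = I ^ (r + c + 1) • (⊤ : Submodule A N) := by
          rw [← Submodule.smul_assoc, smul_eq_mul, ← pow_add, add_assoc]
  exact h2 ⟨a, ha, rfl⟩

end aux

section main

variable {A : Type u} [CommRing A] [IsNoetherianRing A] (I : Ideal A)
    (hI : I ≤ Ideal.jacobson (⊥ : Ideal A)) {L M N : Type u} [AddCommGroup L] [Module A L] [Module.Finite A L]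
    [AddCommGroup M] [Module A M] [Module.Finite A M] [AddCommGroup N] [Module A N] [Module.Finite A N]
    (f f' : L →ₗ[A] M) (g g' : M →ₗ[A] N) (c : ℕ) (hgf : g.comp f = 0) (hgf' : g'.comp f' = 0)
    (hf : (∀ n : ℕ, c ≤ n → LinearMap.range f ⊓ (I ^ n • (⊤ : Submodule A M)) ≤ Submodule.map f (I ^ (n - c) • (⊤ : Submodule A L))))
    (hg : (∀ n : ℕ, c ≤ n → LinearMap.range g ⊓ (I ^ n • (⊤ : Submodule A N)) ≤ Submodule.map g (I ^ (n - c) • (⊤ : Submodule A M))))
    (hex : Function.Exact f g)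
    (hff' : ∀ x : L, f x - f' x ∈ I ^ (c + 1) • (⊤ : Submodule A M))
    (hgg' : ∀ y : M, g y - g' y ∈ I ^ (c + 1) • (⊤ : Submodule A N))

include hgf' hf hg hex hff' hgg' in
/-- The key successive approximation step. -/
theorem key (n : ℕ) (a : M) (ha : g' a ∈ I ^ n • (⊤ : Submodule A N)) :
    ∀ r : ℕ, r + c ≤ n → ∃ b : L, a - f' b ∈ I ^ r • (⊤ : Submodule A M) := by
  intro r
  induction r with
  | zero => intro _; exact ⟨0, by simp⟩
  | succ r ih =>
    intro hr
    obtain ⟨b₀, hb₀⟩ := ih (by omega)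
    set a₀ := a - f' b₀ with ha₀
    have hg'a₀ : g' a₀ ∈ I ^ n • (⊤ : Submodule A N) := by
      have : g' (f' b₀) = 0 := LinearMap.congr_fun hgf' b₀
      rw [ha₀, map_sub, this, sub_zero]; exact ha
    have hga₀ : g a₀ ∈ I ^ (r + c + 1) • (⊤ : Submodule A N) := by
      have h1 := diff_mem I g g' c hgg' r a₀ hb₀
      have h2 : g' a₀ ∈ I ^ (r + c + 1) • (⊤ : Submodule A N) :=
        pow_smul_top_anti I (by omega) hg'a₀
      have : g a₀ = (g a₀ - g' a₀) + g' a₀ := by abel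
      rw [this]; exact Submodule.add_mem _ h1 h2
    -- Artin-Rees for g
    obtain ⟨a₁, ha₁, ha₁eq⟩ := hg (r + c + 1) (by omega) ⟨⟨a₀, rfl⟩, hga₀⟩
    have ha₁' : a₁ ∈ I ^ (r + 1) • (⊤ : Submodule A M) := by
      have : r + c + 1 - c = r + 1 := by omega
      rwa [this] at ha₁
    -- exactness
    have hker : g (a₀ - a₁) = 0 := by rw [map_sub, ha₁eq, sub_self]
    obtain ⟨b, hb⟩ := (hex (a₀ - a₁)).1 hker
    have hfb : f b ∈ I ^ r • (⊤ : Submodule A M) := by
      rw [hb]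
      exact Submodule.sub_mem _ hb₀ (pow_smul_top_anti I (Nat.le_succ r) ha₁')
    by_cases hrc : c ≤ r
    · -- Artin-Rees for f
      obtain ⟨b', hb', hb'eq⟩ := hf r hrc ⟨⟨b, rfl⟩, hfb⟩
      have h3 : f b' - f' b' ∈ I ^ (r + 1) • (⊤ : Submodule A M) := by
        have := diff_mem I f f' c hff' (r - c) b' hb'
        have e : r - c + c + 1 = r + 1 := by omega
        rwa [e] at this
      refine ⟨b₀ + b', ?_⟩
      have : a - f' (b₀ + b') = (f b' - f' b') + a₁ := by
        rw [map_add, hb'eq, hb, ha₀]; abel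
      rw [this]; exact Submodule.add_mem _ h3 ha₁'
    · have h3 : f b - f' b ∈ I ^ (r + 1) • (⊤ : Submodule A M) :=
        pow_smul_top_anti I (by omega) (hff' b)
      refine ⟨b₀ + b, ?_⟩
      have : a - f' (b₀ + b) = (f b - f' b) + a₁ := by
        rw [map_add, hb, ha₀]; abel
      rw [this]; exact Submodule.add_mem _ h3 ha₁'

include hgf' hf hg hex hff' hgg' in
theorem works_g' : ∀ n : ℕ, c ≤ n → LinearMap.range g' ⊓ (I ^ n • (⊤ : Submodule A N)) ≤
    Submodule.map g' (I ^ (n - c) • (⊤ : Submodule A M)) := by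
  rintro n hn y ⟨⟨a, rfl⟩, hy⟩
  obtain ⟨b, hb⟩ := key I f f' g g' c hgf' hf hg hex hff' hgg' n a hy (n - c) (by omega)
  refine ⟨a - f' b, hb, ?_⟩
  have : g' (f' b) = 0 := LinearMap.congr_fun hgf' b
  rw [map_sub, this, sub_zero]

include hI hgf' hf hg hex hff' hgg' in
theorem exact' : Function.Exact f' g' := by
  intro a
  constructor
  · intro ha
    -- a ∈ range f' + I^r M for all r
    have h1 : ∀ r : ℕ, ∃ b : L, a - f' b ∈ I ^ r • (⊤ : Submodule A M) := by
      intro r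
      exact key I f f' g g' c hgf' hf hg hex hff' hgg' (r + c) a (by rw [ha]; exact Submodule.zero_mem _) r le_rfl
    set Q := LinearMap.range f' with hQ
    have h2 : Q.mkQ a ∈ (⨅ i : ℕ, I ^ i • ⊤ : Submodule A (M ⧸ Q)) := by
      rw [Submodule.mem_iInf]
      intro r
      obtain ⟨b, hb⟩ := h1 r
      have h3 : Q.mkQ a = Q.mkQ (a - f' b) := by
        rw [map_sub]
        have : Q.mkQ (f' b) = 0 := by
          rw [Submodule.mkQ_apply, Submodule.Quotient.mk_eq_zero]; exact ⟨b, rfl⟩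
        rw [this, sub_zero]
      rw [h3]
      have h4 : Submodule.map Q.mkQ (I ^ r • (⊤ : Submodule A M)) ≤ I ^ r • (⊤ : Submodule A (M ⧸ Q)) := by
        rw [Submodule.map_smul'']
        exact Submodule.smul_mono le_rfl le_top
      exact h4 ⟨_, hb, rfl⟩
    rw [Ideal.iInf_pow_smul_eq_bot_of_le_jacobson I hI, Submodule.mem_bot, Submodule.mkQ_apply,
      Submodule.Quotient.mk_eq_zero] at h2
    exact h2
  · rintro ⟨b, rfl⟩
    exact LinearMap.congr_fun hgf' b

end main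

/-- Let `A` be a Noetherian ring, `I ⊆ A` an ideal inside the Jacobson radical, and `L → M → N` two
complexes `(f, g)` and `(f', g')` of finite `A`-modules with `f' ≡ f` modulo `I^{c+1}M` and `g' ≡ g`
modulo `I^{c+1}N`. If `c` works in the Artin–Rees lemma for `f` and for `g` (that is `f(L) ∩ IⁿM ⊆
f(I^{n-c}L)` for `n ≥ c`, and likewise for `g`) and `(f, g)` is exact, then `c` works for `g'` and
`(f', g')` is exact. -/
theorem result {A : Type u} [CommRing A] [IsNoetherianRing A] (I : Ideal A)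
    (hI : I ≤ Ideal.jacobson (⊥ : Ideal A)) {L M N : Type u} [AddCommGroup L] [Module A L] [Module.Finite A L]
    [AddCommGroup M] [Module A M] [Module.Finite A M] [AddCommGroup N] [Module A N] [Module.Finite A N]
    (f f' : L →ₗ[A] M) (g g' : M →ₗ[A] N) (c : ℕ) (hgf : g.comp f = 0) (hgf' : g'.comp f' = 0)
    (hf : (∀ n : ℕ, c ≤ n → LinearMap.range f ⊓ (I ^ n • (⊤ : Submodule A M)) ≤ Submodule.map f (I ^ (n - c) • (⊤ : Submodule A L))))
    (hg : (∀ n : ℕ, c ≤ n → LinearMap.range g ⊓ (I ^ n • (⊤ : Submodule A N)) ≤ Submodule.map g (I ^ (n - c) • (⊤ : Submodule A M))))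
    (hex : Function.Exact f g)
    (hff' : ∀ x : L, f x - f' x ∈ I ^ (c + 1) • (⊤ : Submodule A M))
    (hgg' : ∀ y : M, g y - g' y ∈ I ^ (c + 1) • (⊤ : Submodule A N)) :
    (∀ n : ℕ, c ≤ n → LinearMap.range g' ⊓ (I ^ n • (⊤ : Submodule A N)) ≤ Submodule.map g' (I ^ (n - c) • (⊤ : Submodule A M))) ∧
    Function.Exact f' g' :=
  ⟨works_g' I f f' g g' c hgf' hf hg hex hff' hgg',
    exact' I hI f f' g g' c hgf' hf hg hex hff' hgg'⟩

end Groth.Agent.S6909
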