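import Groth.Statements.S6910
import Groth.Agent.S6909
import Mathlib

set_option autoImplicit false
universe u
open CAlg

namespace Groth.Agent.S6910

open Groth.Agent.S6909 in
/-- One inclusion, for maps congruent modulo `I^{c+1}`, the first of which satisfies Artin-Rees with `c`. -/
theorem half {A : Type u} [CommRing A] (I : Ideal A) {M N : Type u}
    [AddCommGroup M] [Module A M] [AddCommGroup N] [Module A N]
    (g g' : M →ₗ[A] N) (c : ℕ)
    (hg : (∀ n : ℕ, c ≤ n → LinearMap.range g ⊓ (I ^ n • (⊤ : Submodule A N)) ≤ Submodule.map g (I ^ (n - c) • (⊤ : Submodule A M))))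
    (hgg' : ∀ y : M, g y - g' y ∈ I ^ (c + 1) • (⊤ : Submodule A N)) (n : ℕ) :
    LinearMap.range g ⊓ I ^ n • (⊤ : Submodule A N) ≤
      I ^ (n + 1) • (⊤ : Submodule A N) ⊔ (LinearMap.range g' ⊓ I ^ n • (⊤ : Submodule A N)) := by
  rintro x ⟨hx1, hx2⟩
  -- find a with g a = x and g a - g' a ∈ I^{n+1} N
  have hex : ∃ a : M, g a = x ∧ g a - g' a ∈ I ^ (n + 1) • (⊤ : Submodule A N) := by
    by_cases hn : c ≤ n
    · obtain ⟨a, ha, rfl⟩ := hg n hn ⟨hx1, hx2⟩
      refine ⟨a, rfl, ?_⟩
      have := diff_mem I g g' c hgg' (n - c) a ha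
      have e : n - c + c + 1 = n + 1 := by omega
      rwa [e] at this
    · obtain ⟨a, rfl⟩ := hx1
      exact ⟨a, rfl, pow_smul_top_anti I (by omega) (hgg' a)⟩
  obtain ⟨a, rfl, hd⟩ := hex
  have h1 : g' a ∈ I ^ n • (⊤ : Submodule A N) := by
    have : g' a = g a - (g a - g' a) := by abel
    rw [this]
    exact Submodule.sub_mem _ hx2 (pow_smul_top_anti I (Nat.le_succ n) hd)
  have : g a = (g a - g' a) + g' a := by abel
  rw [this]
  exact Submodule.add_mem_sup hd ⟨⟨a, rfl⟩, h1⟩

/-- Let `A` be a Noetherian ring, `I ⊆ A` an ideal inside the Jacobson radical, and `L → M → N` two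
complexes `(f, g)` and `(f', g')` of finite `A`-modules with `f' ≡ f` modulo `I^{c+1}M` and `g' ≡ g`
modulo `I^{c+1}N`, such that the Artin–Rees bound holds with constant `c` for both `f` and `g`, and
`(f, g)` is exact. Then for every `n` the submodules `I^{n+1}N + g(M) ∩ IⁿN` and `I^{n+1}N + g'(M) ∩
IⁿN` of `N` are equal; consequently the associated graded modules of `Coker g` and `Coker g'` with
respect to `I` coincide degreewise as subquotients of `N`. -/
theorem result {A : Type u} [CommRing A] [IsNoetherianRing A] (I : Ideal A)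
    (hI : I ≤ Ideal.jacobson (⊥ : Ideal A)) {L M N : Type u} [AddCommGroup L] [Module A L] [Module.Finite A L]
    [AddCommGroup M] [Module A M] [Module.Finite A M] [AddCommGroup N] [Module A N] [Module.Finite A N]
    (f f' : L →ₗ[A] M) (g g' : M →ₗ[A] N) (c : ℕ) (hgf : g.comp f = 0) (hgf' : g'.comp f' = 0)
    (hf : (∀ n : ℕ, c ≤ n → LinearMap.range f ⊓ (I ^ n • (⊤ : Submodule A M)) ≤ Submodule.map f (I ^ (n - c) • (⊤ : Submodule A L))))
    (hg : (∀ n : ℕ, c ≤ n → LinearMap.range g ⊓ (I ^ n • (⊤ : Submodule A N)) ≤ Submodule.map g (I ^ (n - c) • (⊤ : Submodule A M))))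
    (hex : Function.Exact f g)
    (hff' : ∀ x : L, f x - f' x ∈ I ^ (c + 1) • (⊤ : Submodule A M))
    (hgg' : ∀ y : M, g y - g' y ∈ I ^ (c + 1) • (⊤ : Submodule A N)) (n : ℕ) :
    I ^ (n + 1) • (⊤ : Submodule A N) ⊔ (LinearMap.range g ⊓ I ^ n • (⊤ : Submodule A N)) =
      I ^ (n + 1) • (⊤ : Submodule A N) ⊔ (LinearMap.range g' ⊓ I ^ n • (⊤ : Submodule A N)) := by
  have hg' := Groth.Agent.S6909.works_g' I f f' g g' c hgf' hf hg hex hff' hgg'
  have hg'g : ∀ y : M, g' y - g y ∈ I ^ (c + 1) • (⊤ : Submodule A N) := by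
    intro y
    have : g' y - g y = -(g y - g' y) := by abel
    rw [this]; exact Submodule.neg_mem _ (hgg' y)
  apply le_antisymm
  · exact sup_le le_sup_left (half I g g' c hg hgg' n)
  · exact sup_le le_sup_left (half I g' g c hg' hg'g n)

end Groth.Agent.S6910
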