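import Groth.Statements.S6911
import Mathlib

set_option autoImplicit false
universe u
open TensorProduct
open CAlg

namespace Groth.Agent.S6911

section bc

variable {A B : Type u} [CommRing A] [CommRing B] [Algebra A B]
variable {M N : Type u} [AddCommGroup M] [Module A M] [AddCommGroup N] [Module A N]

theorem bc_map (P : Submodule A M) (f : M →ₗ[A] N) :
    (P.map f).baseChange B = (P.baseChange B).map (f.baseChange B) := by
  rw [Submodule.baseChange_eq_span, Submodule.baseChange_eq_span, Submodule.map_span]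
  congr 1
  ext x
  constructor
  · rintro ⟨_, ⟨p, hp, rfl⟩, rfl⟩
    exact ⟨(1 : B) ⊗ₜ[A] p, ⟨p, hp, rfl⟩, by simp⟩
  · rintro ⟨_, ⟨p, hp, rfl⟩, rfl⟩
    exact ⟨f p, ⟨p, hp, rfl⟩, by simp⟩

theorem bc_range (f : M →ₗ[A] N) :
    LinearMap.range (f.baseChange B) = (LinearMap.range f).baseChange B := by
  rw [LinearMap.range_eq_map, LinearMap.range_eq_map, bc_map, Submodule.baseChange_top]

theorem bc_smul (J : Ideal A) (P : Submodule A M) :
    (J • P).baseChange B = (J.map (algebraMap A B)) • P.baseChange B := by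
  have hone : ∀ (j : A) (p : M), algebraMap A B j • ((1 : B) ⊗ₜ[A] p) = (1 : B) ⊗ₜ[A] (j • p) := by
    intro j p
    rw [TensorProduct.smul_tmul', smul_eq_mul, mul_one, Algebra.algebraMap_eq_smul_one,
      TensorProduct.smul_tmul]
  apply le_antisymm
  · rw [Submodule.baseChange_eq_span, Submodule.span_le]
    rintro _ ⟨x, hx, rfl⟩
    refine Submodule.smul_induction_on hx ?_ ?_
    · intro j hj p hp
      show (1 : B) ⊗ₜ[A] (j • p) ∈ _
      rw [← hone]
      exact Submodule.smul_mem_smul (Ideal.mem_map_of_mem _ hj)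
        (Submodule.tmul_mem_baseChange_of_mem 1 hp)
    · intro x y hx hy
      rw [map_add]; exact Submodule.add_mem _ hx hy
  · rw [Submodule.baseChange_eq_span B P, Ideal.map, Submodule.span_smul_span, Submodule.span_le]
    rintro _ ⟨b, ⟨j, hj, rfl⟩, z, ⟨p, hp, rfl⟩, rfl⟩
    show algebraMap A B j • ((1 : B) ⊗ₜ[A] p) ∈ _
    rw [hone]
    exact Submodule.tmul_mem_baseChange_of_mem 1 (Submodule.smul_mem_smul hj hp)

theorem mem_bc_ker_of_flat [Module.Flat A B] {X : Type u} [AddCommGroup X] [Module A X]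
    (π : N →ₗ[A] X) (z : B ⊗[A] N) (hz : π.lTensor B z = 0) :
    z ∈ (LinearMap.ker π).baseChange B := by
  have hex := Module.Flat.lTensor_exact B (LinearMap.exact_subtype_ker_map π)
  obtain ⟨w, hw⟩ := (hex z).1 hz
  exact ⟨w, hw⟩

theorem lTensor_mkQ_eq_zero (P : Submodule A N) (z : B ⊗[A] N) (hz : z ∈ P.baseChange B) :
    P.mkQ.lTensor B z = 0 := by
  obtain ⟨w, rfl⟩ := hz
  show P.mkQ.lTensor B (P.subtype.lTensor B w) = 0
  rw [← LinearMap.comp_apply, ← LinearMap.lTensor_comp]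
  have : P.mkQ ∘ₗ P.subtype = 0 := by
    ext p
    simp
  rw [this, LinearMap.lTensor_zero, LinearMap.zero_apply]

theorem bc_inf [Module.Flat A B] (P Q : Submodule A N) :
    (P ⊓ Q).baseChange B = P.baseChange B ⊓ Q.baseChange B := by
  apply le_antisymm
  · exact le_inf (Submodule.baseChange_mono B inf_le_left) (Submodule.baseChange_mono B inf_le_right)
  · rintro z ⟨hzP, hzQ⟩
    let π : N →ₗ[A] (N ⧸ P) × (N ⧸ Q) := P.mkQ.prod Q.mkQ
    have hk : LinearMap.ker π = P ⊓ Q := by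
      rw [LinearMap.ker_prod, Submodule.ker_mkQ, Submodule.ker_mkQ]
    have h1 := lTensor_mkQ_eq_zero P z hzP
    have h2 := lTensor_mkQ_eq_zero Q z hzQ
    have hw : π.lTensor B z = 0 := by
      have e : (LinearMap.inl A (N ⧸ P) (N ⧸ Q)) ∘ₗ (LinearMap.fst A (N ⧸ P) (N ⧸ Q)) +
          (LinearMap.inr A (N ⧸ P) (N ⧸ Q)) ∘ₗ (LinearMap.snd A (N ⧸ P) (N ⧸ Q)) = LinearMap.id := by
        ext x <;> simp
      have e1 : (LinearMap.fst A (N ⧸ P) (N ⧸ Q)) ∘ₗ π = P.mkQ := by
        ext x; simp [π]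
      have e2 : (LinearMap.snd A (N ⧸ P) (N ⧸ Q)) ∘ₗ π = Q.mkQ := by
        ext x; simp [π]
      have h3 : π.lTensor B z = (LinearMap.id : (N ⧸ P) × (N ⧸ Q) →ₗ[A] _).lTensor B (π.lTensor B z) := by
        rw [LinearMap.lTensor_id]; rfl
      rw [h3, ← e, LinearMap.lTensor_add, LinearMap.add_apply, LinearMap.lTensor_comp,
        LinearMap.lTensor_comp, LinearMap.comp_apply, LinearMap.comp_apply,
        ← LinearMap.comp_apply (LinearMap.lTensor B (LinearMap.fst A (N ⧸ P) (N ⧸ Q))),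
        ← LinearMap.comp_apply (LinearMap.lTensor B (LinearMap.snd A (N ⧸ P) (N ⧸ Q))),
        ← LinearMap.lTensor_comp, ← LinearMap.lTensor_comp, e1, e2, h1, h2, map_zero, map_zero,
        add_zero]
    have := mem_bc_ker_of_flat π z hw
    rwa [hk] at this

end bc

/-- Let `A → B` be a flat map of Noetherian rings, `I ⊆ A` an ideal and `f : M → N` a map of finite
`A`-modules such that `c` works for `f` in the Artin–Rees lemma (`f(M) ∩ IⁿN ⊆ f(I^{n-c}M)` for `n ≥
c`). Then `c` works for `f ⊗ 1 : M ⊗_A B → N ⊗_A B` and the ideal `IB`. -/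
theorem result {A B : Type u} [CommRing A] [IsNoetherianRing A] [CommRing B]
    [IsNoetherianRing B] [Algebra A B] [Module.Flat A B] (I : Ideal A) {M N : Type u} [AddCommGroup M] [Module A M]
    [Module.Finite A M] [AddCommGroup N] [Module A N] [Module.Finite A N] (f : M →ₗ[A] N) (c : ℕ)
    (hf : (∀ n : ℕ, c ≤ n → LinearMap.range f ⊓ (I ^ n • (⊤ : Submodule A N)) ≤ Submodule.map f (I ^ (n - c) • (⊤ : Submodule A M)))) :
    ∀ n : ℕ, c ≤ n →
      LinearMap.range (f.baseChange B) ⊓ ((I.map (algebraMap A B)) ^ n • (⊤ : Submodule B (B ⊗[A] N))) ≤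
        Submodule.map (f.baseChange B) ((I.map (algebraMap A B)) ^ (n - c) • (⊤ : Submodule B (B ⊗[A] M))) := by
  intro n hn
  have h1 : ∀ (k : ℕ) (X : Type u) [AddCommGroup X] [Module A X],
      (I.map (algebraMap A B)) ^ k • (⊤ : Submodule B (B ⊗[A] X)) =
        (I ^ k • (⊤ : Submodule A X)).baseChange B := by
    intro k X _ _
    rw [bc_smul, Submodule.baseChange_top, Ideal.map_pow]
  rw [h1 n N, h1 (n - c) M, bc_range, ← bc_inf, ← bc_map]
  exact Submodule.baseChange_mono B (hf n hn)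

end Groth.Agent.S6911
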