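import Groth.Statements.S6913
import Mathlib

set_option autoImplicit false
universe u
open CAlg

namespace Groth.Agent.S6913

/-- Let `R` be a domain and `M` a finite `R`-module, of (finite) rank `r`. Then: some linear map `M →
R^r` has torsion kernel and torsion cokernel; some nonzero `f ∈ R` makes `M_f` free of rank `r` over
`R_f`; and some injective linear map `R^r → M` has torsion cokernel. -/
theorem result (R : Type u) [CommRing R] [IsDomain R] (M : Type u) [AddCommGroup M]
    [Module R M] [Module.Finite R M] :
    (∃ h : M →ₗ[R] (Fin (Module.finrank R M) → R),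
      (∀ x : M, h x = 0 → ∃ c : R, c ≠ 0 ∧ c • x = 0) ∧
      (∀ y : Fin (Module.finrank R M) → R, ∃ c : R, c ≠ 0 ∧ c • y ∈ LinearMap.range h)) ∧
    (∃ f : R, f ≠ 0 ∧ Module.Free (Localization.Away f) (LocalizedModule (Submonoid.powers f) M) ∧
      Module.finrank (Localization.Away f) (LocalizedModule (Submonoid.powers f) M) = Module.finrank R M) ∧
    (∃ g : (Fin (Module.finrank R M) → R) →ₗ[R] M, Function.Injective g ∧
      ∀ x : M, ∃ c : R, c ≠ 0 ∧ c • x ∈ LinearMap.range g) := by
  classical
  obtain ⟨r, hr⟩ : ∃ r, r = Module.finrank R M := ⟨_, rfl⟩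
  rw [← hr]
  -- Step 1: a linearly independent family of size r
  obtain ⟨s, hs, hli⟩ := exists_set_linearIndependent_of_isDomain (R := R) (M := M)
  have hcard : Cardinal.mk s = (r : Cardinal) := by rw [hs, hr, Module.finrank_eq_rank]
  obtain ⟨e⟩ := Cardinal.mk_eq_nat_iff.1 hcard
  let v : Fin r → M := fun i => ((e.symm i : s) : M)
  have hv : LinearIndependent R v := by
    have h1 : LinearIndependent R (fun x : s => (x : M)) := hli
    exact h1.comp e.symm e.symm.injective
  let g : (Fin r → R) →ₗ[R] M := Fintype.linearCombination R v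
  have hg_apply : ∀ y, g y = ∑ i, y i • v i := fun y => Fintype.linearCombination_apply R v y
  have hrange : LinearMap.range g = Submodule.span R (Set.range v) :=
    Fintype.range_linearCombination R v
  have hginj : Function.Injective g := by
    rw [← LinearMap.ker_eq_bot, LinearMap.ker_eq_bot']
    intro y hy
    have := Fintype.linearIndependent_iff.1 hv y (by rw [← hg_apply]; exact hy)
    exact funext this
  -- Step 2: torsion cokernel
  have htors : ∀ x : M, ∃ c : R, c ≠ 0 ∧ c • x ∈ LinearMap.range g := by
    intro x
    by_contra hcon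
    push_neg at hcon
    have hli' : LinearIndependent R (Fin.cons x v : Fin (r + 1) → M) := by
      apply LinearIndependent.finCons' x v hv
      intro c y hy hcy
      by_contra hc
      apply hcon c hc
      rw [hrange]
      have : c • x = -y := eq_neg_of_add_eq_zero_left hcy
      rw [this]
      exact Submodule.neg_mem _ hy
    have := hli'.fintype_card_le_finrank
    rw [Fintype.card_fin, ← hr] at this
    omega
  -- Step 3: a uniform denominator
  obtain ⟨T, hT⟩ := (Module.Finite.fg_top : (⊤ : Submodule R M).FG)
  choose c hc0 hcmem using htors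
  obtain ⟨C, hCdef⟩ : ∃ C : R, C = ∏ t ∈ T, c t := ⟨_, rfl⟩
  have hC0 : C ≠ 0 := by
    rw [hCdef]; exact Finset.prod_ne_zero_iff.2 (fun t _ => hc0 t)
  have hCM : ∀ x : M, C • x ∈ LinearMap.range g := by
    have hle : (⊤ : Submodule R M) ≤
        (LinearMap.range g).comap (C • (LinearMap.id : M →ₗ[R] M)) := by
      rw [← hT, Submodule.span_le]
      intro t ht
      show (C • (LinearMap.id : M →ₗ[R] M)) t ∈ LinearMap.range g
      have h1 : C = (∏ t' ∈ T.erase t, c t') * c t := by
        rw [hCdef]; exact (Finset.prod_erase_mul T c ht).symm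
      rw [LinearMap.smul_apply, LinearMap.id_apply, h1, mul_smul]
      exact Submodule.smul_mem _ _ (hcmem t)
    intro x
    have := hle (Submodule.mem_top : x ∈ ⊤)
    simpa using this
  -- Step 4: the map h
  let eg : (Fin r → R) ≃ₗ[R] LinearMap.range g := LinearEquiv.ofInjective g hginj
  let h : M →ₗ[R] (Fin r → R) := eg.symm.toLinearMap ∘ₗ
    ((C • (LinearMap.id : M →ₗ[R] M)).codRestrict (LinearMap.range g) (fun x => by simpa using hCM x))
  have hgh : ∀ x, g (h x) = C • x := by
    intro x
    have h1 : (eg (h x) : M) = C • x := by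
      simp only [h, LinearMap.comp_apply, LinearEquiv.coe_coe, LinearEquiv.apply_symm_apply,
        LinearMap.codRestrict_apply, LinearMap.smul_apply, LinearMap.id_apply]
    rw [← h1]; rfl
  refine ⟨⟨h, ?_, ?_⟩, ⟨C, hC0, ?_⟩, ⟨g, hginj, fun x => ⟨c x, hc0 x, hcmem x⟩⟩⟩
  · intro x hx
    refine ⟨C, hC0, ?_⟩
    rw [← hgh, hx, map_zero]
  · intro y
    refine ⟨C, hC0, g y, ?_⟩
    apply hginj
    rw [hgh, map_smul]
  · -- freeness of the localization
    let mk := LocalizedModule.mkLinearMap (Submonoid.powers C) M
    let w : Fin r → LocalizedModule (Submonoid.powers C) M := mk ∘ v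
    have hw : LinearIndependent (Localization.Away C) w :=
      hv.of_isLocalizedModule (Localization.Away C) (Submonoid.powers C) mk
    have hspan : Submodule.span (Localization.Away C) (Set.range w) = ⊤ := by
      refine top_unique fun x _ => ?_
      obtain ⟨⟨m, s⟩, hms⟩ := IsLocalizedModule.surj (Submonoid.powers C) mk x
      have hms' : (s : R) • x = mk m := hms
      have h1 : mk (C • m) ∈
          (Submodule.span (Localization.Away C) (Set.range w)).restrictScalars R := by
        have h2 : C • m ∈ Submodule.span R (Set.range v) := hrange ▸ hCM m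
        have h3 : Submodule.map mk (Submodule.span R (Set.range v)) ≤
            (Submodule.span (Localization.Away C) (Set.range w)).restrictScalars R := by
          rw [Submodule.map_span, Submodule.span_le]
          rintro _ ⟨_, ⟨i, rfl⟩, rfl⟩
          exact Submodule.subset_span ⟨i, rfl⟩
        exact h3 ⟨_, h2, rfl⟩
      have hCs : C * (s : R) ∈ Submonoid.powers C :=
        Submonoid.mul_mem _ (Submonoid.mem_powers C) s.2
      have hunit : IsUnit (algebraMap R (Localization.Away C) (C * (s : R))) :=
        IsLocalization.map_units (Localization.Away C) (⟨C * (s : R), hCs⟩ : Submonoid.powers C)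
      have h4 : algebraMap R (Localization.Away C) (C * (s : R)) • x = mk (C • m) := by
        rw [algebraMap_smul, mul_smul, hms', map_smul]
      have h5 : x = (↑hunit.unit⁻¹ : Localization.Away C) • mk (C • m) := by
        rw [← h4, smul_smul, hunit.val_inv_mul, one_smul]
      rw [h5]
      exact Submodule.smul_mem _ _ h1
    haveI : IsDomain (Localization.Away C) := Localization.Away.isDomain hC0
    let b : Module.Basis (Fin r) (Localization.Away C) (LocalizedModule (Submonoid.powers C) M) :=
      Module.Basis.mk hw hspan.ge
    refine ⟨Module.Free.of_basis b, ?_⟩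
    rw [Module.finrank_eq_card_basis b, Fintype.card_fin]

end Groth.Agent.S6913
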