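import Groth.Statements.S6915
import Mathlib
import Groth.Agent.Lib.Helper18.FittLib7

set_option autoImplicit false
universe u
open TensorProduct
open Fitt

namespace Groth.Agent.S6915

open Groth.Agent.Lib.Helper18

/-- Let `M` be a finite `R`-module, `k ≥ 0` and `I = Fit_k(M)`, and assume `M_𝔭` is free of rank `k` for
every prime `𝔭` not containing `I`. Then for every `a ∈ I` and (a copy `R₁` of) the affine blow-up
algebra `R[I/a]`, the strict transform `M' = (M ⊗_R R₁)/(a-power torsion)` is finite locally free of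
rank `k`: every prime of `R₁` has a basic open neighbourhood over which `M'` is free of rank `k`. -/
theorem result {R : Type u} [CommRing R] (M : Type u) [AddCommGroup M]
    [Module R M] [Module.Finite R M] (k : ℕ)
    (hfree : ∀ (p : Ideal R) [p.IsPrime], ¬ Fitt.ideal R M k ≤ p →
      Module.Free (Localization.AtPrime p) (LocalizedModule p.primeCompl M) ∧
        Module.finrank (Localization.AtPrime p) (LocalizedModule p.primeCompl M) = k)
    (a : R) (ha : a ∈ Fitt.ideal R M k) (R₁ : Type u) [CommRing R₁] [Algebra R R₁] (e : R₁ ≃ₐ[R] ↥(BlowUp.affineAlgebra R (Fitt.ideal R M k) a)) :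
    ∀ (p' : Ideal R₁) [p'.IsPrime], ∃ g : R₁, g ∉ p' ∧
      Module.Free (Localization.Away g) (LocalizedModule (Submonoid.powers g) ((R₁ ⊗[R] M) ⧸ FlatCA.powTorsion R₁ (algebraMap R R₁ a) (R₁ ⊗[R] M))) ∧
      Module.finrank (Localization.Away g) (LocalizedModule (Submonoid.powers g) ((R₁ ⊗[R] M) ⧸ FlatCA.powTorsion R₁ (algebraMap R R₁ a) (R₁ ⊗[R] M))) = k := by
  classical
  set a₁ := algebraMap R R₁ a with ha₁
  set T := FlatCA.powTorsion R₁ a₁ (R₁ ⊗[R] M) with hT
  have hkill : ∀ j, j < k → ∀ b ∈ Fitt.ideal R M j, ∃ N : ℕ, a ^ N * b = 0 := by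
    intro j hj b hb
    by_contra hcon
    push_neg at hcon
    let Ann : Ideal R := LinearMap.ker (LinearMap.toSpanSingleton R R b)
    have hAnn : ∀ c, c ∈ Ann ↔ c * b = 0 := by
      intro c; simp [Ann, LinearMap.mem_ker, LinearMap.toSpanSingleton_apply]
    have hdisj : Disjoint (Ann : Set R) (Submonoid.powers a : Set R) := by
      rw [Set.disjoint_left]
      rintro c hc ⟨N, rfl⟩
      exact hcon N ((hAnn _).1 hc)
    obtain ⟨p, hp, hAp, hpd⟩ := Ideal.exists_le_prime_disjoint Ann (Submonoid.powers a) hdisj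
    haveI := hp
    have hap : a ∉ p := fun h => Set.disjoint_left.1 hpd h (Submonoid.mem_powers a)
    have hnot : ¬ Fitt.ideal R M k ≤ p := fun h => hap (h ha)
    obtain ⟨hfr, hrk⟩ := hfree p hnot
    have h1 := FittLib.fitt_localizedModule (R := R) (M := M) p.primeCompl j
    have h2 := FittLib.fitt_of_basis (Module.finBasisOfFinrankEq (Localization.AtPrime p)
      (LocalizedModule p.primeCompl M) hrk) j
    rw [if_neg (by omega)] at h2
    rw [h2] at h1
    have h3 : algebraMap R (Localization.AtPrime p) b = 0 := by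
      have : algebraMap R (Localization.AtPrime p) b ∈
          (Fitt.ideal R M j).map (algebraMap R (Localization.AtPrime p)) :=
        Ideal.mem_map_of_mem _ hb
      rw [← h1] at this
      simpa using this
    obtain ⟨⟨s, hs⟩, hsb⟩ := (IsLocalization.map_eq_zero_iff p.primeCompl _ b).1 h3
    exact hs (hAp ((hAnn s).2 hsb))
  have hkill₁ : ∀ j, j < k → ∀ v ∈ (Fitt.ideal R M j).map (algebraMap R R₁),
      ∃ N : ℕ, a₁ ^ N * v = 0 := by
    intro j hj v hv
    rw [Ideal.map] at hv
    induction hv using Submodule.span_induction with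
    | mem v hv =>
      obtain ⟨b, hb, rfl⟩ := hv
      obtain ⟨N, hN⟩ := hkill j hj b hb
      exact ⟨N, by rw [ha₁, ← map_pow, ← map_mul, hN, map_zero]⟩
    | zero => exact ⟨0, by simp⟩
    | add u v _ _ hu hv =>
      obtain ⟨N, hN⟩ := hu
      obtain ⟨N', hN'⟩ := hv
      refine ⟨N + N', ?_⟩
      have : a₁ ^ (N + N') * (u + v) = a₁ ^ N' * (a₁ ^ N * u) + a₁ ^ N * (a₁ ^ N' * v) := by ring
      rw [this, hN, hN']; simp
    | smul r v _ hv =>
      obtain ⟨N, hN⟩ := hv
      exact ⟨N, by rw [smul_eq_mul, mul_left_comm, hN, mul_zero]⟩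
  intro p' _
  refine (FittLib.locFree_iff_fitt (R := R₁) (M := (R₁ ⊗[R] M) ⧸ T) k).2 ⟨?_, ?_⟩ p'
  · intro j hj
    obtain ⟨n, x, hx⟩ := Module.Finite.exists_fin (R := R₁) (M := R₁ ⊗[R] M)
    have hxq : Submodule.span R₁ (Set.range (fun i => T.mkQ (x i))) = ⊤ := by
      have : Set.range (fun i => T.mkQ (x i)) = T.mkQ '' Set.range x := by
        rw [← Set.range_comp]; rfl
      rw [this, ← Submodule.map_span, hx, Submodule.map_top, Submodule.range_mkQ]
    rw [FittLib.fitt_eq_F _ hxq j, eq_bot_iff]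
    refine Ideal.span_le.2 ?_
    rintro d ⟨B, hB, rfl⟩
    rw [SetLike.mem_coe, Ideal.mem_bot]
    have hN : ∀ i : Fin n, ∃ N : ℕ, (i : ℕ) < n - j → a₁ ^ N • ∑ l, B i l • x l = 0 := by
      intro i
      by_cases hi : (i : ℕ) < n - j
      · have h1 := hB i hi
        have h2 : ∑ l, B i l • x l ∈ T := by
          rw [← Submodule.Quotient.mk_eq_zero, ← Submodule.mkQ_apply, map_sum]
          simpa only [map_smul] using h1
        obtain ⟨N, hN⟩ := (FittLib.mem_powTorsion_iff a₁ _).1 h2
        exact ⟨N, fun _ => hN⟩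
      · exact ⟨0, fun h => absurd h hi⟩
    choose N hN using hN
    set Nt := ∑ i, N i with hNt
    have hNt' : ∀ i : Fin n, (i : ℕ) < n - j → a₁ ^ Nt • ∑ l, B i l • x l = 0 := by
      intro i hi
      have hle : N i ≤ Nt := Finset.single_le_sum (fun _ _ => Nat.zero_le _) (Finset.mem_univ i)
      obtain ⟨d', hd'⟩ := Nat.exists_eq_add_of_le hle
      rw [hd', pow_add, mul_comm, mul_smul, hN i hi, smul_zero]
    have hdet : (a₁ ^ Nt) ^ n * B.det ∈ Fitt.ideal R₁ (R₁ ⊗[R] M) j := by
      rw [FittLib.fitt_eq_F x hx j]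
      have : (a₁ ^ Nt) ^ n * B.det = ((a₁ ^ Nt) • B).det := by
        rw [Matrix.det_smul, Fintype.card_fin]
      rw [this]
      refine FittLib.det_mem_F _ fun i hi => ?_
      have := hNt' i hi
      rw [Finset.smul_sum] at this
      simpa [Matrix.smul_apply, mul_smul] using this
    rw [FittLib.fitt_baseChange R₁ j] at hdet
    obtain ⟨N', hN'⟩ := hkill₁ j hj _ hdet
    have h5 : a₁ ^ (N' + Nt * n) * B.det = 0 := by
      rw [pow_add, pow_mul, mul_assoc]; exact hN'
    exact FittLib.blowup_nzd_pow _ a R₁ e _ _ h5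
  · intro j hj
    have htop := FittLib.fitt_strictTransform_eq_top (R := R) (M := M) k a ha R₁ e
    rw [← top_le_iff, ← htop]
    exact FittLib.fitt_mono hj

end Groth.Agent.S6915
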