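import Groth.Statements.S6917
import Mathlib

set_option autoImplicit false
universe u
open CategoryTheory
open EtAlg

namespace Groth.Agent.S6917

open PrimeSpectrum Topology CategoryTheory.Limits

section Milnor
variable {B' B A' A : Type u} [CommRing B'] [CommRing B] [CommRing A'] [CommRing A]
  [Algebra B' B] [Algebra B' A'] [Algebra B A] [Algebra A' A] [Algebra B' A]
  [IsScalarTower B' B A] [IsScalarTower B' A' A]

lemma compat (x : B') :
    algebraMap B A (algebraMap B' B x) = algebraMap A' A (algebraMap B' A' x) := by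
  rw [← IsScalarTower.algebraMap_apply, ← IsScalarTower.algebraMap_apply]

lemma ext' (hsq : EtMil.IsFibreSquare B' B A' A) {x y : B'}
    (h1 : algebraMap B' B x = algebraMap B' B y) (h2 : algebraMap B' A' x = algebraMap B' A' y) :
    x = y := by
  obtain ⟨w, -, hw⟩ := hsq.2 (algebraMap B' B y) (algebraMap B' A' y) (compat (B := B) (A' := A') y)
  rw [hw x ⟨h1, h2⟩, hw y ⟨rfl, rfl⟩]

lemma exists_mk (hsq : EtMil.IsFibreSquare B' B A' A) (b : B) (a' : A')
    (h : algebraMap B A b = algebraMap A' A a') :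
    ∃ x : B', algebraMap B' B x = b ∧ algebraMap B' A' x = a' := (hsq.2 b a' h).exists

lemma surj_B (hsq : EtMil.IsFibreSquare B' B A' A) : Function.Surjective (algebraMap B' B) :=
  fun b => by
    obtain ⟨a', ha'⟩ := hsq.1 (algebraMap B A b)
    obtain ⟨x, hx, -⟩ := exists_mk hsq b a' ha'.symm
    exact ⟨x, hx⟩

lemma comap_comm (r : PrimeSpectrum A) :
    comap (algebraMap B' B) (comap (algebraMap B A) r) =
      comap (algebraMap B' A') (comap (algebraMap A' A) r) := by
  apply PrimeSpectrum.ext
  apply Ideal.ext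
  intro x
  change algebraMap B A (algebraMap B' B x) ∈ r.asIdeal ↔
    algebraMap A' A (algebraMap B' A' x) ∈ r.asIdeal
  rw [compat (B := B) (A' := A') x]

lemma inr_inj_of_not_mem (hsq : EtMil.IsFibreSquare B' B A' A) {Q₁ Q₂ : PrimeSpectrum A'}
    (h : comap (algebraMap B' A') Q₁ = comap (algebraMap B' A') Q₂)
    {i : A'} (hi : algebraMap A' A i = 0) (hiQ : i ∉ Q₁.asIdeal) : Q₁ = Q₂ := by
  have key : ∀ a' : A', i * a' ∈ Q₁.asIdeal ↔ i * a' ∈ Q₂.asIdeal := by
    intro a'
    obtain ⟨x, hx0, hx⟩ := exists_mk hsq (0 : B) (i * a') (by rw [map_zero, map_mul, hi, zero_mul])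
    have h1 : x ∈ (comap (algebraMap B' A') Q₁).asIdeal ↔
        x ∈ (comap (algebraMap B' A') Q₂).asIdeal := by rw [h]
    change algebraMap B' A' x ∈ Q₁.asIdeal ↔ algebraMap B' A' x ∈ Q₂.asIdeal at h1
    rwa [hx] at h1
  have hiQ2 : i ∉ Q₂.asIdeal := by
    intro h2
    apply hiQ
    have := (key 1).mpr (by rwa [mul_one])
    rwa [mul_one] at this
  refine PrimeSpectrum.ext (Ideal.ext fun a' => ⟨fun ha => ?_, fun ha => ?_⟩)
  · have := (key a').mp (Q₁.asIdeal.mul_mem_left i ha)
    exact (Q₂.isPrime.mem_or_mem this).resolve_left hiQ2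
  · have := (key a').mpr (Q₂.asIdeal.mul_mem_left i ha)
    exact (Q₁.isPrime.mem_or_mem this).resolve_left hiQ

lemma exists_point (hsq : EtMil.IsFibreSquare B' B A' A) (P' : PrimeSpectrum B') :
    (∃ P : PrimeSpectrum B, comap (algebraMap B' B) P = P') ∨
    (∃ (Q : PrimeSpectrum A') (i : A'), algebraMap A' A i = 0 ∧ i ∉ Q.asIdeal ∧
      comap (algebraMap B' A') Q = P') := by
  by_cases hJ : RingHom.ker (algebraMap B' B) ≤ P'.asIdeal
  · left
    have : P' ∈ Set.range (comap (algebraMap B' B)) := by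
      rw [range_comap_of_surjective _ _ (surj_B hsq)]
      exact hJ
    exact this
  · right
    obtain ⟨j, hj, hjP⟩ := SetLike.not_le_iff_exists.mp hJ
    have hjB : algebraMap B' B j = 0 := hj
    obtain ⟨i, hjA⟩ : ∃ i, algebraMap B' A' j = i := ⟨_, rfl⟩
    have hi : algebraMap A' A i = 0 := by rw [← hjA, ← compat (B := B) (A' := A') j, hjB, map_zero]
    have hz : ∀ a' : A', ∃ x : B', algebraMap B' B x = 0 ∧ algebraMap B' A' x = i * a' :=
      fun a' => exists_mk hsq 0 (i * a') (by rw [map_zero, map_mul, hi, zero_mul])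
    choose z hz0 hz1 using hz
    have z_add : ∀ a b, z (a + b) = z a + z b := fun a b =>
      ext' hsq (by rw [map_add, hz0, hz0, hz0, add_zero]) (by rw [map_add, hz1, hz1, hz1, mul_add])
    have z_zero : z 0 = 0 := ext' hsq (by rw [hz0, map_zero]) (by rw [hz1, map_zero, mul_zero])
    have z_mul : ∀ a b, z (a * b) * j = z a * z b := fun a b =>
      ext' hsq (by simp only [map_mul, hz0, hjB, mul_zero])
        (by simp only [map_mul, hz1, hjA]; ring)
    have z_one : z 1 = j := ext' hsq (by rw [hz0, hjB]) (by rw [hz1, mul_one, hjA])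
    have z_alg : ∀ x : B', z (algebraMap B' A' x) = x * j := fun x =>
      ext' hsq (by rw [hz0, map_mul, hjB, mul_zero]) (by rw [hz1, map_mul, hjA, mul_comm])
    have z_i : z i = j * j :=
      ext' hsq (by rw [hz0, map_mul, hjB, mul_zero]) (by rw [hz1, map_mul, hjA])
    let Q : Ideal A' :=
      { carrier := {a' | z a' ∈ P'.asIdeal}
        zero_mem' := by
          show z 0 ∈ P'.asIdeal
          rw [z_zero]; exact P'.asIdeal.zero_mem
        add_mem' := fun {a b} ha hb => by
          show z (a + b) ∈ P'.asIdeal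
          rw [z_add]; exact P'.asIdeal.add_mem ha hb
        smul_mem' := fun c a ha => by
          show z (c • a) ∈ P'.asIdeal
          rw [smul_eq_mul]
          have h1 : z (c * a) * j ∈ P'.asIdeal := by
            rw [z_mul]; exact P'.asIdeal.mul_mem_left _ ha
          exact (P'.isPrime.mem_or_mem h1).resolve_right hjP }
    have hQmem : ∀ a', a' ∈ Q ↔ z a' ∈ P'.asIdeal := fun _ => Iff.rfl
    have hQprime : Q.IsPrime := by
      refine ⟨?_, ?_⟩
      · intro htop
        have : (1 : A') ∈ Q := htop ▸ Submodule.mem_top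
        rw [hQmem, z_one] at this
        exact hjP this
      · intro a b hab
        rw [hQmem] at hab
        have h1 : z a * z b ∈ P'.asIdeal := by
          rw [← z_mul]; exact P'.asIdeal.mul_mem_right _ hab
        exact P'.isPrime.mem_or_mem h1
    refine ⟨⟨Q, hQprime⟩, i, hi, ?_, ?_⟩
    · intro hiQ
      change z i ∈ P'.asIdeal at hiQ
      rw [z_i] at hiQ
      rcases P'.isPrime.mem_or_mem hiQ with h | h <;> exact hjP h
    · refine PrimeSpectrum.ext (Ideal.ext fun x => ?_)
      change z (algebraMap B' A' x) ∈ P'.asIdeal ↔ x ∈ P'.asIdeal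
      rw [z_alg]
      constructor
      · intro h
        exact (P'.isPrime.mem_or_mem h).resolve_right hjP
      · intro h
        exact P'.asIdeal.mul_mem_right _ h

lemma isQuotientMap_q (hsq : EtMil.IsFibreSquare B' B A' A) :
    IsQuotientMap (Sum.elim (comap (algebraMap B' B)) (comap (algebraMap B' A')) :
      PrimeSpectrum B ⊕ PrimeSpectrum A' → PrimeSpectrum B') := by
  set q : PrimeSpectrum B ⊕ PrimeSpectrum A' → PrimeSpectrum B' :=
    Sum.elim (comap (algebraMap B' B)) (comap (algebraMap B' A')) with hq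
  have hsurj : Function.Surjective q := by
    intro P'
    rcases exists_point hsq P' with ⟨P, rfl⟩ | ⟨Q, i, -, -, rfl⟩
    · exact ⟨Sum.inl P, rfl⟩
    · exact ⟨Sum.inr Q, rfl⟩
  have hcont : Continuous q := (continuous_comap _).sumElim (continuous_comap _)
  rw [isQuotientMap_iff_isClosed]
  refine ⟨hsurj, fun T => ⟨fun hT => hT.preimage hcont, fun hT => ?_⟩⟩
  rw [isClosed_sum_iff] at hT
  obtain ⟨hTB, hTA⟩ := hT
  set SB : Set (PrimeSpectrum B) := Sum.inl ⁻¹' (q ⁻¹' T) with hSB
  set SA : Set (PrimeSpectrum A') := Sum.inr ⁻¹' (q ⁻¹' T) with hSA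
  have memSB : ∀ P, P ∈ SB ↔ comap (algebraMap B' B) P ∈ T := fun _ => Iff.rfl
  have memSA : ∀ Q, Q ∈ SA ↔ comap (algebraMap B' A') Q ∈ T := fun _ => Iff.rfl
  have hSBcl : ∀ P : PrimeSpectrum B, vanishingIdeal SB ≤ P.asIdeal → P ∈ SB := by
    intro P hP
    have : P ∈ closure SB := by
      rw [← zeroLocus_vanishingIdeal_eq_closure]; exact hP
    rwa [hTB.closure_eq] at this
  have hSAcl : ∀ Q : PrimeSpectrum A', vanishingIdeal SA ≤ Q.asIdeal → Q ∈ SA := by
    intro Q hQ
    have : Q ∈ closure SA := by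
      rw [← zeroLocus_vanishingIdeal_eq_closure]; exact hQ
    rwa [hTA.closure_eq] at this
  have hvan : ∀ x : B', (∀ P ∈ SB, algebraMap B' B x ∈ P.asIdeal) →
      (∀ Q ∈ SA, algebraMap B' A' x ∈ Q.asIdeal) → x ∈ vanishingIdeal T := by
    intro x h1 h2
    rw [mem_vanishingIdeal]
    intro P' hP'
    obtain ⟨s, rfl⟩ := hsurj P'
    cases s with
    | inl P => exact h1 P hP'
    | inr Q => exact h2 Q hP'
  rw [← closure_subset_iff_isClosed]
  intro P' hP'
  rw [← zeroLocus_vanishingIdeal_eq_closure, mem_zeroLocus] at hP'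
  rcases exists_point hsq P' with ⟨P, rfl⟩ | ⟨Q, i, hi, hiQ, rfl⟩
  · apply (memSB P).mp
    apply hSBcl
    intro b hb
    have hrad : algebraMap B A b ∈
        (Ideal.map (algebraMap A' A) (vanishingIdeal SA)).radical := by
      rw [Ideal.radical_eq_sInf, Ideal.mem_sInf]
      rintro r ⟨hr, hrp⟩
      let R : PrimeSpectrum A := ⟨r, hrp⟩
      have h1 : comap (algebraMap A' A) R ∈ SA := by
        apply hSAcl
        intro a' ha'
        exact hr (Ideal.mem_map_of_mem _ ha')
      have h2 : comap (algebraMap B A) R ∈ SB := by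
        rw [memSB, comap_comm (B' := B') (B := B) (A' := A') R]
        exact (memSA _).mp h1
      exact (mem_vanishingIdeal _ _).mp hb _ h2
    obtain ⟨n, hn⟩ := hrad
    have hn' : algebraMap B A (b ^ (n + 1)) ∈
        Ideal.map (algebraMap A' A) (vanishingIdeal SA) := by
      rw [map_pow, pow_succ]; exact Ideal.mul_mem_right _ _ hn
    rw [Ideal.mem_map_iff_of_surjective _ hsq.1] at hn'
    obtain ⟨a', ha'K, ha'⟩ := hn'
    obtain ⟨x, hxB, hxA⟩ := exists_mk hsq (b ^ (n + 1)) a' ha'.symm
    have hxT : x ∈ vanishingIdeal T := hvan x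
      (fun P₁ hP₁ => by
        rw [hxB]
        exact Ideal.pow_mem_of_mem _ ((mem_vanishingIdeal _ _).mp hb _ hP₁) _ (Nat.succ_pos n))
      (fun Q₁ hQ₁ => by rw [hxA]; exact (mem_vanishingIdeal _ _).mp ha'K _ hQ₁)
    have hx := hP' hxT
    change algebraMap B' B x ∈ P.asIdeal at hx
    rw [hxB] at hx
    exact P.isPrime.mem_of_pow_mem _ hx
  · apply (memSA Q).mp
    apply hSAcl
    intro a' ha'
    obtain ⟨x, hxB, hxA⟩ := exists_mk hsq (0 : B) (i * a')
      (by rw [map_zero, map_mul, hi, zero_mul])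
    have hxT : x ∈ vanishingIdeal T := hvan x
      (fun P₁ _ => by rw [hxB]; exact P₁.asIdeal.zero_mem)
      (fun Q₁ hQ₁ => by
        rw [hxA]; exact Q₁.asIdeal.mul_mem_left _ ((mem_vanishingIdeal _ _).mp ha' _ hQ₁))
    have hx := hP' hxT
    change algebraMap B' A' x ∈ Q.asIdeal at hx
    rw [hxA] at hx
    exact (Q.isPrime.mem_or_mem hx).resolve_left hiQ

end Milnor

/-- Let `B' = B ×_A A'` be a fibre square of rings with `A' → A` surjective. Then `Spec(B') = Spec(B)
⨿_{Spec(A)} Spec(A')`: the square of prime spectra is a pushout of topological spaces. -/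
theorem result (B' B A' A : Type u) [CommRing B'] [CommRing B] [CommRing A'] [CommRing A]
    [Algebra B' B] [Algebra B' A'] [Algebra B A] [Algebra A' A] [Algebra B' A] [IsScalarTower B' B A] [IsScalarTower B' A' A]
    (hsq : EtMil.IsFibreSquare B' B A' A) :
    IsPushout (TopCat.ofHom (ContinuousMap.mk (PrimeSpectrum.comap (algebraMap B A)) (PrimeSpectrum.continuous_comap _))) (TopCat.ofHom (ContinuousMap.mk (PrimeSpectrum.comap (algebraMap A' A)) (PrimeSpectrum.continuous_comap _)))
      (TopCat.ofHom (ContinuousMap.mk (PrimeSpectrum.comap (algebraMap B' B)) (PrimeSpectrum.continuous_comap _)))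
      (TopCat.ofHom (ContinuousMap.mk (PrimeSpectrum.comap (algebraMap B' A')) (PrimeSpectrum.continuous_comap _))) := by
  have hq := isQuotientMap_q hsq
  let q : C(PrimeSpectrum B ⊕ PrimeSpectrum A', PrimeSpectrum B') :=
    ⟨Sum.elim (comap (algebraMap B' B)) (comap (algebraMap B' A')), hq.continuous⟩
  have hq' : IsQuotientMap q := hq
  have eq : (TopCat.ofHom (ContinuousMap.mk (PrimeSpectrum.comap (algebraMap B A))
        (PrimeSpectrum.continuous_comap _))) ≫
      (TopCat.ofHom (ContinuousMap.mk (PrimeSpectrum.comap (algebraMap B' B))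
        (PrimeSpectrum.continuous_comap _))) =
      (TopCat.ofHom (ContinuousMap.mk (PrimeSpectrum.comap (algebraMap A' A))
        (PrimeSpectrum.continuous_comap _))) ≫
      (TopCat.ofHom (ContinuousMap.mk (PrimeSpectrum.comap (algebraMap B' A'))
        (PrimeSpectrum.continuous_comap _))) := by
    refine TopCat.hom_ext (ContinuousMap.ext fun r => ?_)
    exact comap_comm (B' := B') (B := B) (A' := A') r
  -- the key compatibility for a cocone
  have key : ∀ (W : TopCat.{u}) (h : C(PrimeSpectrum B, W)) (k : C(PrimeSpectrum A', W)),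
      (∀ r : PrimeSpectrum A, h (comap (algebraMap B A) r) = k (comap (algebraMap A' A) r)) →
      Function.FactorsThrough (⟨Sum.elim h k, h.continuous.sumElim k.continuous⟩ :
        C(PrimeSpectrum B ⊕ PrimeSpectrum A', W)) q := by
    intro W h k hhk
    have key_lr : ∀ (P : PrimeSpectrum B) (Q : PrimeSpectrum A'),
        comap (algebraMap B' B) P = comap (algebraMap B' A') Q → h P = k Q := by
      intro P Q hPQ
      have hQ : Q ∈ Set.range (comap (algebraMap A' A)) := by
        rw [range_comap_of_surjective _ _ hsq.1]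
        intro i hi
        have hi0 : algebraMap A' A i = 0 := hi
        obtain ⟨x, hxB, hxA⟩ := exists_mk hsq (0 : B) (i * 1)
          (by rw [map_zero, map_mul, hi0, zero_mul])
        have h1 : x ∈ (comap (algebraMap B' B) P).asIdeal := by
          change algebraMap B' B x ∈ P.asIdeal
          rw [hxB]; exact P.asIdeal.zero_mem
        rw [hPQ] at h1
        change algebraMap B' A' x ∈ Q.asIdeal at h1
        rwa [hxA, mul_one] at h1
      obtain ⟨r, rfl⟩ := hQ
      rw [← comap_comm (B' := B') (B := B) (A' := A') r] at hPQ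
      have := comap_injective_of_surjective _ (surj_B hsq) hPQ
      rw [this]
      exact hhk r
    intro a b hab
    rcases a with P₁ | Q₁ <;> rcases b with P₂ | Q₂
    · have : P₁ = P₂ := comap_injective_of_surjective _ (surj_B hsq) hab
      rw [this]
    · exact key_lr P₁ Q₂ hab
    · exact (key_lr P₂ Q₁ hab.symm).symm
    · change k Q₁ = k Q₂
      by_cases hker : RingHom.ker (algebraMap A' A) ≤ Q₁.asIdeal
      · have hQ : Q₁ ∈ Set.range (comap (algebraMap A' A)) := by
          rw [range_comap_of_surjective _ _ hsq.1]; exact hker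
        obtain ⟨r, rfl⟩ := hQ
        have h1 : comap (algebraMap B' B) (comap (algebraMap B A) r) =
            comap (algebraMap B' A') Q₂ := by
          rw [comap_comm (B' := B') (B := B) (A' := A') r]; exact hab
        rw [← key_lr _ _ h1]
        exact (hhk r).symm
      · obtain ⟨i, hi, hiQ⟩ := SetLike.not_le_iff_exists.mp hker
        rw [inr_inj_of_not_mem hsq hab hi hiQ]
  refine ⟨⟨eq⟩, ⟨PushoutCocone.IsColimit.mk eq
    (fun s => TopCat.ofHom (hq'.lift ⟨Sum.elim s.inl.hom s.inr.hom,
      s.inl.hom.continuous.sumElim s.inr.hom.continuous⟩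
      (key s.pt s.inl.hom s.inr.hom (fun r => ConcreteCategory.congr_hom s.condition r))))
    ?_ ?_ ?_⟩⟩
  · intro s
    ext P
    exact DFunLike.congr_fun (hq'.lift_comp _ (key s.pt s.inl.hom s.inr.hom
      (fun r => ConcreteCategory.congr_hom s.condition r))) (Sum.inl P)
  · intro s
    ext Q
    exact DFunLike.congr_fun (hq'.lift_comp _ (key s.pt s.inl.hom s.inr.hom
      (fun r => ConcreteCategory.congr_hom s.condition r))) (Sum.inr Q)
  · intro s m hm1 hm2
    ext P'
    obtain ⟨a, rfl⟩ := hq'.surjective P'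
    have h0 := DFunLike.congr_fun (hq'.lift_comp _ (key s.pt s.inl.hom s.inr.hom
      (fun r => ConcreteCategory.congr_hom s.condition r))) a
    rcases a with P | Q
    · have := ConcreteCategory.congr_hom hm1 P
      exact this.trans h0.symm
    · have := ConcreteCategory.congr_hom hm2 Q
      exact this.trans h0.symm

end Groth.Agent.S6917
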