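import Groth.Statements.S6919
import Groth.Agent.Lib.Helper4.FlatDesc
import Groth.Agent.Lib.Helper8.EtSplit

set_option autoImplicit false
universe u
open FlatMor

namespace Groth.Agent.S6919

/-- Let `R → S` be a ring map, `J ⊆ S` an ideal, `M` an `S`-module and `I ⊆ R` an ideal; let `R → R'` be
a ring map and `I' ⊆ R'` an ideal containing `IR'`, and put `S' = S ⊗_R R'`, `M' = M ⊗_R R'`. Assume
that every prime of `R` containing `I` is the contraction of a prime of `R'` containing `I'`, and
that `R'_{𝔭'}` is flat over `R` for every prime `𝔭' ⊇ I'`. If `M'_{𝔮'}` is flat over `R'` for every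
prime `𝔮' ⊇ I'S' + JS'` of `S'`, then `M_𝔮` is flat over `R` for every prime `𝔮 ⊇ IS + J` of `S`.
(The published statement descends from a pair `(R'', I'')` to an arbitrary pair `(R', I')` over `R`;
this row takes `(R', I') = (R, I)`.) -/
theorem result {R S R' S' : Type u} [CommRing R] [CommRing S] [CommRing R'] [CommRing S']
    [Algebra R S] [Algebra R R'] [Algebra S S'] [Algebra R' S'] [Algebra R S'] [IsScalarTower R S S']
    [IsScalarTower R R' S'] [Algebra.IsPushout R S R' S']
    (I : Ideal R) (I' : Ideal R') (hII' : I.map (algebraMap R R') ≤ I')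
    {M M' : Type u} [AddCommGroup M] [Module S M] [Module R M] [IsScalarTower R S M]
    [AddCommGroup M'] [Module S' M'] [Module R' M'] [IsScalarTower R' S' M'] [Module S M'] [IsScalarTower S S' M']
    (f : M →ₗ[S] M') (hf : IsBaseChange S' f) (J : Ideal S)
    (hsurj : ∀ (p : Ideal R) [p.IsPrime], I ≤ p → ∃ (p' : Ideal R') (_ : p'.IsPrime), I' ≤ p' ∧ p'.comap (algebraMap R R') = p)
    (hflat : ∀ (p' : Ideal R') [p'.IsPrime], I' ≤ p' → Module.Flat R (Localization.AtPrime p'))
    (h : (∀ (q : Ideal S') [q.IsPrime], I'.map (algebraMap R' S') ⊔ J.map (algebraMap S S') ≤ q → FlatCA.FlatAt R' q M')) :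
    (∀ (q : Ideal S) [q.IsPrime], I.map (algebraMap R S) ⊔ J ≤ q → FlatCA.FlatAt R q M) := by
  classical
  intro q hqprime hq
  have hIp : I ≤ q.comap (algebraMap R S) := by
    intro x hx
    exact hq (Ideal.mem_sup_left (Ideal.mem_map_of_mem _ hx))
  obtain ⟨p', hp'prime, hI'p', hp'⟩ := hsurj (q.comap (algebraMap R S)) hIp
  haveI := hp'prime
  obtain ⟨P, hPprime, hP1, hP2⟩ :=
    Groth.Agent.Lib.Helper8.EtSplit.exists_prime_tensor (R := R) (R₁ := S) (R₂ := R') q p' hp'.symm
  haveI := hPprime
  let ε : TensorProduct R S R' ≃ₐ[S] S' := Algebra.IsPushout.equiv R S R' S'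
  let φs : S' →+* TensorProduct R S R' := ε.symm.toAlgHom.toRingHom
  obtain ⟨q', hq'def⟩ : ∃ q' : Ideal S', q' = P.comap φs := ⟨_, rfl⟩
  haveI hq'prime : q'.IsPrime := by rw [hq'def]; exact Ideal.comap_isPrime φs P
  have hq'S : q'.comap (algebraMap S S') = q := by
    ext x
    have e1 : φs (algebraMap S S' x) = algebraMap S (TensorProduct R S R') x := ε.symm.commutes x
    rw [Ideal.mem_comap, hq'def, Ideal.mem_comap, e1, ← hP1, Ideal.mem_comap]
  have hq'R' : q'.comap (algebraMap R' S') = p' := by
    ext x
    have e1 : φs (algebraMap R' S' x) = (1 : S) ⊗ₜ[R] x :=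
      Algebra.IsPushout.equiv_symm_algebraMap_right R S R' S' x
    rw [Ideal.mem_comap, hq'def, Ideal.mem_comap, e1, ← hP2, Ideal.mem_comap]
    rfl
  haveI hlo1 : q'.LiesOver q := ⟨hq'S.symm⟩
  haveI hlo2 : q'.LiesOver p' := ⟨hq'R'.symm⟩
  -- algebra structures on the local rings
  letI algST : Algebra (Localization.AtPrime q) (Localization.AtPrime q') :=
    Localization.AtPrime.algebraOfLiesOver q q'
  haveI twS : IsScalarTower S (Localization.AtPrime q) (Localization.AtPrime q') := inferInstance
  haveI hloc : IsLocalHom (algebraMap (Localization.AtPrime q) (Localization.AtPrime q')) :=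
    Localization.isLocalHom_localRingHom _ _ _ _
  letI algR''T : Algebra (Localization.AtPrime p') (Localization.AtPrime q') :=
    Localization.AtPrime.algebraOfLiesOver p' q'
  haveI twR' : IsScalarTower R' (Localization.AtPrime p') (Localization.AtPrime q') := inferInstance
  haveI twR : IsScalarTower R (Localization.AtPrime p') (Localization.AtPrime q') := inferInstance
  haveI hflR'' : Module.Flat R (Localization.AtPrime p') := hflat p' hI'p'
  -- Step D: `T` is flat over `S`
  have hle : Algebra.algebraMapSubmonoid S' p'.primeCompl ≤ q'.primeCompl := by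
    rintro _ ⟨y, hy, rfl⟩
    intro hmem
    apply hy
    rw [← hq'R']
    exact hmem
  have hpo1 : Algebra.IsPushout R' S' (Localization.AtPrime p')
      (Localization (Algebra.algebraMapSubmonoid S' p'.primeCompl)) :=
    Algebra.isPushout_of_isLocalization p'.primeCompl (Localization.AtPrime p') S'
      (Localization (Algebra.algebraMapSubmonoid S' p'.primeCompl))
  haveI hpoRS : Algebra.IsPushout R R' S S' := Algebra.IsPushout.symm inferInstance
  haveI twS₂ : IsScalarTower R (Localization.AtPrime p')
      (Localization (Algebra.algebraMapSubmonoid S' p'.primeCompl)) :=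
    IsScalarTower.of_algebraMap_eq (fun x => by
      rw [IsScalarTower.algebraMap_apply R R' (Localization.AtPrime p'),
        ← IsScalarTower.algebraMap_apply R' (Localization.AtPrime p')
          (Localization (Algebra.algebraMapSubmonoid S' p'.primeCompl)),
        IsScalarTower.algebraMap_apply R' S'
          (Localization (Algebra.algebraMapSubmonoid S' p'.primeCompl)),
        ← IsScalarTower.algebraMap_apply R R' S',
        ← IsScalarTower.algebraMap_apply R S'
          (Localization (Algebra.algebraMapSubmonoid S' p'.primeCompl))])
  have hpo2 : Algebra.IsPushout R (Localization.AtPrime p') S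
      (Localization (Algebra.algebraMapSubmonoid S' p'.primeCompl)) :=
    (Algebra.IsPushout.comp_iff (R := R) (S := R') (T := Localization.AtPrime p')
      (R' := S) (S' := S')
      (T' := Localization (Algebra.algebraMapSubmonoid S' p'.primeCompl))).mpr hpo1.symm
  haveI hflS₂ : Module.Flat S (Localization (Algebra.algebraMapSubmonoid S' p'.primeCompl)) :=
    Module.Flat.isBaseChange (R := R) (M := Localization.AtPrime p') (S := S)
      (Localization (Algebra.algebraMapSubmonoid S' p'.primeCompl)) hpo2.symm.out
  letI algS₂T : Algebra (Localization (Algebra.algebraMapSubmonoid S' p'.primeCompl))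
      (Localization.AtPrime q') :=
    IsLocalization.localizationAlgebraOfSubmonoidLe
      (Localization (Algebra.algebraMapSubmonoid S' p'.primeCompl)) (Localization.AtPrime q')
      (Algebra.algebraMapSubmonoid S' p'.primeCompl) q'.primeCompl hle
  haveI tw1 : IsScalarTower S' (Localization (Algebra.algebraMapSubmonoid S' p'.primeCompl))
      (Localization.AtPrime q') :=
    IsLocalization.localization_isScalarTower_of_submonoid_le
      (Localization (Algebra.algebraMapSubmonoid S' p'.primeCompl)) (Localization.AtPrime q')
      (Algebra.algebraMapSubmonoid S' p'.primeCompl) q'.primeCompl hle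
  haveI hloc2 : IsLocalization (q'.primeCompl.map
      (algebraMap S' (Localization (Algebra.algebraMapSubmonoid S' p'.primeCompl))))
      (Localization.AtPrime q') :=
    IsLocalization.isLocalization_of_submonoid_le
      (Localization (Algebra.algebraMapSubmonoid S' p'.primeCompl)) (Localization.AtPrime q')
      (Algebra.algebraMapSubmonoid S' p'.primeCompl) q'.primeCompl hle
  haveI hflS₂T : Module.Flat (Localization (Algebra.algebraMapSubmonoid S' p'.primeCompl))
      (Localization.AtPrime q') :=
    IsLocalization.flat (Localization.AtPrime q') (q'.primeCompl.map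
      (algebraMap S' (Localization (Algebra.algebraMapSubmonoid S' p'.primeCompl))))
  haveI tw2 : IsScalarTower S (Localization (Algebra.algebraMapSubmonoid S' p'.primeCompl))
      (Localization.AtPrime q') :=
    IsScalarTower.of_algebraMap_eq (fun x => by
      rw [IsScalarTower.algebraMap_apply S S' (Localization.AtPrime q'),
        IsScalarTower.algebraMap_apply S' (Localization (Algebra.algebraMapSubmonoid S' p'.primeCompl))
          (Localization.AtPrime q'),
        ← IsScalarTower.algebraMap_apply S S'
          (Localization (Algebra.algebraMapSubmonoid S' p'.primeCompl))])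
  haveI hflST : Module.Flat S (Localization.AtPrime q') :=
    Module.Flat.trans S (Localization (Algebra.algebraMapSubmonoid S' p'.primeCompl))
      (Localization.AtPrime q')
  haveI hflSqT : Module.Flat (Localization.AtPrime q) (Localization.AtPrime q') :=
    (Module.flat_iff_of_isLocalization (Localization.AtPrime q) q.primeCompl
      (Localization.AtPrime q')).mpr hflST
  haveI hff : Module.FaithfullyFlat (Localization.AtPrime q) (Localization.AtPrime q') :=
    Module.FaithfullyFlat.of_flat_of_isLocalHom
  -- Step A: `N` is flat over `R`
  have hN' : Module.Flat R' (LocalizedModule q'.primeCompl M') := by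
    have := h q' (by
      apply sup_le
      · rw [Ideal.map_le_iff_le_comap, hq'R']; exact hI'p'
      · rw [Ideal.map_le_iff_le_comap, hq'S]; exact le_trans le_sup_right hq)
    exact this
  letI modR''N : Module (Localization.AtPrime p') (LocalizedModule q'.primeCompl M') :=
    Module.compHom (LocalizedModule q'.primeCompl M')
      (algebraMap (Localization.AtPrime p') (Localization.AtPrime q'))
  haveI twN1 : IsScalarTower R' (Localization.AtPrime p') (LocalizedModule q'.primeCompl M') :=
    IsScalarTower.of_algebraMap_smul (fun r n => by
      show algebraMap (Localization.AtPrime p') (Localization.AtPrime q')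
        (algebraMap R' (Localization.AtPrime p') r) • n = r • n
      rw [← IsScalarTower.algebraMap_apply R' (Localization.AtPrime p') (Localization.AtPrime q'),
        algebraMap_smul])
  haveI hN'' : Module.Flat (Localization.AtPrime p') (LocalizedModule q'.primeCompl M') :=
    (Module.flat_iff_of_isLocalization (Localization.AtPrime p') p'.primeCompl
      (LocalizedModule q'.primeCompl M')).mpr hN'
  letI modRN : Module R (LocalizedModule q'.primeCompl M') :=
    Module.compHom (LocalizedModule q'.primeCompl M') (algebraMap R (Localization.AtPrime q'))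
  haveI twN2 : IsScalarTower R (Localization.AtPrime q') (LocalizedModule q'.primeCompl M') :=
    IsScalarTower.of_algebraMap_smul (fun r n => rfl)
  haveI twN3 : IsScalarTower R (Localization.AtPrime p') (LocalizedModule q'.primeCompl M') :=
    IsScalarTower.of_algebraMap_smul (fun r n => by
      show algebraMap (Localization.AtPrime p') (Localization.AtPrime q')
        (algebraMap R (Localization.AtPrime p') r) • n = algebraMap R (Localization.AtPrime q') r • n
      rw [← IsScalarTower.algebraMap_apply R (Localization.AtPrime p') (Localization.AtPrime q')])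
  haveI hNR : Module.Flat R (LocalizedModule q'.primeCompl M') :=
    Module.Flat.trans R (Localization.AtPrime p') (LocalizedModule q'.primeCompl M')
  -- Step C: the module isomorphism
  let e : M' ≃ₗ[S'] TensorProduct S S' M := hf.equiv.symm
  let e1 : LocalizedModule q'.primeCompl M' ≃ₗ[Localization.AtPrime q']
      TensorProduct S' (Localization.AtPrime q') M' :=
    LocalizedModule.equivTensorProduct q'.primeCompl M'
  let e2 : TensorProduct S' (Localization.AtPrime q') M' ≃ₗ[Localization.AtPrime q']
      TensorProduct S' (Localization.AtPrime q') (TensorProduct S S' M) :=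
    TensorProduct.AlgebraTensorModule.congr
      (LinearEquiv.refl (Localization.AtPrime q') (Localization.AtPrime q')) e
  let e3 : TensorProduct S' (Localization.AtPrime q') (TensorProduct S S' M)
      ≃ₗ[Localization.AtPrime q'] TensorProduct S (Localization.AtPrime q') M :=
    TensorProduct.AlgebraTensorModule.cancelBaseChange S S' (Localization.AtPrime q')
      (Localization.AtPrime q') M
  let e4 : TensorProduct (Localization.AtPrime q) (Localization.AtPrime q')
      (TensorProduct S (Localization.AtPrime q) M)
      ≃ₗ[Localization.AtPrime q'] TensorProduct S (Localization.AtPrime q') M :=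
    TensorProduct.AlgebraTensorModule.cancelBaseChange S (Localization.AtPrime q)
      (Localization.AtPrime q') (Localization.AtPrime q') M
  let e5 : LocalizedModule q.primeCompl M ≃ₗ[Localization.AtPrime q]
      TensorProduct S (Localization.AtPrime q) M := LocalizedModule.equivTensorProduct q.primeCompl M
  let e6 : TensorProduct (Localization.AtPrime q) (Localization.AtPrime q')
      (LocalizedModule q.primeCompl M)
      ≃ₗ[Localization.AtPrime q']
      TensorProduct (Localization.AtPrime q) (Localization.AtPrime q')
        (TensorProduct S (Localization.AtPrime q) M) :=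
    TensorProduct.AlgebraTensorModule.congr
      (LinearEquiv.refl (Localization.AtPrime q') (Localization.AtPrime q')) e5
  obtain ⟨E, -⟩ : ∃ E : LocalizedModule q'.primeCompl M' ≃ₗ[Localization.AtPrime q']
      TensorProduct (Localization.AtPrime q) (Localization.AtPrime q')
        (LocalizedModule q.primeCompl M), True :=
    ⟨e1 ≪≫ₗ e2 ≪≫ₗ e3 ≪≫ₗ e4.symm ≪≫ₗ e6.symm, trivial⟩
  haveI twRSqT : IsScalarTower R (Localization.AtPrime q) (Localization.AtPrime q') :=
    IsScalarTower.of_algebraMap_eq (fun r => by
      rw [IsScalarTower.algebraMap_apply R S' (Localization.AtPrime q'),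
        IsScalarTower.algebraMap_apply R S S',
        ← IsScalarTower.algebraMap_apply S S' (Localization.AtPrime q'),
        IsScalarTower.algebraMap_apply S (Localization.AtPrime q) (Localization.AtPrime q'),
        ← IsScalarTower.algebraMap_apply R S (Localization.AtPrime q)])
  have hfl : Module.Flat R (TensorProduct (Localization.AtPrime q) (Localization.AtPrime q')
      (LocalizedModule q.primeCompl M)) :=
    Module.Flat.of_linearEquiv (E.symm.restrictScalars R)
  exact Groth.Agent.Lib.Helper4.FlatDesc.flat_of_faithfullyFlat_tensor
    (LocalizedModule q.primeCompl M) (Localization.AtPrime q') hfl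

end Groth.Agent.S6919
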