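import Groth.Statements.S6920
import Mathlib

set_option autoImplicit false
universe u
open CategoryTheory CategoryTheory.Limits MonoidalCategory
open DRing

namespace Groth.Agent.S6920

open TensorProduct in
/-- For a ring epimorphism `R → S`, every `R`-linear map between `S`-modules is `S`-linear. -/
theorem linear_of_epi {R S : Type u} [CommRing R] [CommRing S] [Algebra R S] [Algebra.IsEpi R S]
    {M N : Type u} [AddCommGroup M] [AddCommGroup N] [Module S M] [Module S N] [Module R M]
    [Module R N] [IsScalarTower R S M] [IsScalarTower R S N] (g : M →ₗ[R] N) (s : S) (m : M) :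
    g (s • m) = s • g m := by
  let β : S →ₗ[R] S →ₗ[R] N := LinearMap.mk₂ R (fun a b => a • g (b • m))
    (fun a a' b => by simp only [add_smul])
    (fun r a b => by simp only [smul_assoc])
    (fun a b b' => by simp only [add_smul, map_add, smul_add])
    (fun r a b => by
      simp only [smul_assoc, map_smul]
      rw [smul_comm])
  have h := congrArg (TensorProduct.lift β)
    ((Algebra.isEpi_iff_forall_one_tmul_eq R S).1 inferInstance s)
  simpa [β] using h

/-- Restriction of scalars along a ring epimorphism is full. -/
theorem full_restrictScalars (R S : Type u) [CommRing R] [CommRing S] (φ : R →+* S)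
    (hφ : Epi (CommRingCat.ofHom φ)) : (ModuleCat.restrictScalars.{u} φ).Full := by
  letI : Algebra R S := φ.toAlgebra
  haveI : Algebra.IsEpi R S := CommRingCat.epi_iff_epi.mp hφ
  refine ⟨fun {M N} g => ?_⟩
  letI : Module R M := Module.compHom M φ
  letI : Module R N := Module.compHom N φ
  haveI : IsScalarTower R S M := IsScalarTower.of_algebraMap_smul fun r m => rfl
  haveI : IsScalarTower R S N := IsScalarTower.of_algebraMap_smul fun r m => rfl
  let g₀ : M →ₗ[R] N := g.hom
  let g' : M →ₗ[S] N :=
    { toFun := g₀
      map_add' := g₀.map_add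
      map_smul' := fun s m => linear_of_epi g₀ s m }
  refine ⟨ModuleCat.ofHom g', ?_⟩
  ext x
  rfl

/-- For an epimorphism of rings `φ : R → S` and a complex `I•` of `S`-modules, if the underlying complex
of `R`-modules of `I•` is K-injective, then `I•` itself is K-injective over `S`. -/
theorem result (R S : Type u) [CommRing R] [CommRing S] (φ : R →+* S)
    (hφ : Epi (CommRingCat.ofHom φ)) (I : DRing.Cx S)
    [CochainComplex.IsKInjective ((DRing.restrictCx φ).obj I)] : CochainComplex.IsKInjective I := by
  haveI : (ModuleCat.restrictScalars.{u} φ).Full := full_restrictScalars R S φ hφ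
  refine ⟨fun {K} f hK => ?_⟩
  have hK' : ((DRing.restrictCx φ).obj K).Acyclic := by
    intro i
    exact (hK i).map (ModuleCat.restrictScalars.{u} φ)
  obtain ⟨H⟩ := CochainComplex.IsKInjective.nonempty_homotopy_zero
    ((DRing.restrictCx φ).map f) hK'
  have H' : Homotopy (((ModuleCat.restrictScalars.{u} φ).mapHomologicalComplex (ComplexShape.up ℤ)).map f)
      (((ModuleCat.restrictScalars.{u} φ).mapHomologicalComplex (ComplexShape.up ℤ)).map 0) :=
    H.trans (Homotopy.ofEq (Functor.map_zero ((ModuleCat.restrictScalars.{u} φ).mapHomologicalComplex (ComplexShape.up ℤ)) K I).symm)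
  exact ⟨(ModuleCat.restrictScalars.{u} φ).preimageHomotopy H'⟩

end Groth.Agent.S6920
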