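import Groth.Statements.S6925
import Mathlib
import Groth.Agent.S6893
import Groth.Agent.Lib.Helper9.FlatSqZero

set_option autoImplicit false
universe u
open TensorProduct
open FlatMor

namespace Groth.Agent.S6925


/-- Krull separation for `P ⊗ M`, `P` a finite `A`-module, `M` finite over Noetherian `B`. -/
theorem sepP {A B : Type u} [CommRing A] [CommRing B] [Algebra A B] [IsNoetherianRing B]
    (I : Ideal A) (hI : I.map (algebraMap A B) ≤ Ideal.jacobson ⊥)
    (M : Type u) [AddCommGroup M] [Module A M] [Module B M] [IsScalarTower A B M]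
    [Module.Finite B M] (P : Type u) [AddCommGroup P] [Module A P] [Module.Finite A P] :
    ⨅ n : ℕ, I ^ n • (⊤ : Submodule A (P ⊗[A] M)) = ⊥ := by
  rw [eq_bot_iff]
  intro x hx
  rw [Submodule.mem_iInf] at hx
  rw [Submodule.mem_bot]
  have : Module.Finite B (M ⊗[A] P) := Groth.Agent.Lib.Helper8.finite_tensor M P
  have hkrull := Ideal.iInf_pow_smul_eq_bot_of_le_jacobson (M := M ⊗[A] P)
    (I.map (algebraMap A B)) hI
  have hmem : (TensorProduct.comm A P M) x ∈
      ⨅ i : ℕ, (I.map (algebraMap A B)) ^ i • (⊤ : Submodule B (M ⊗[A] P)) := by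
    rw [Submodule.mem_iInf]
    intro n
    refine Submodule.smul_induction_on (hx n) ?_ ?_
    · intro j hj t _
      rw [map_smul, ← algebraMap_smul B j ((TensorProduct.comm A P M) t)]
      refine Submodule.smul_mem_smul ?_ Submodule.mem_top
      rw [← Ideal.map_pow]
      exact Ideal.mem_map_of_mem _ hj
    · intro t1 t2 h1 h2
      rw [map_add]
      exact add_mem h1 h2
  rw [hkrull, Submodule.mem_bot] at hmem
  exact (TensorProduct.comm A P M).injective (by rw [hmem, map_zero])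

/-- Local criterion: flat modulo `J + 𝔪ⁿ` for all `n` implies flat modulo `J`. -/
theorem flat_of_flat_sup_pow {R B : Type u} [CommRing R] [IsNoetherianRing R] [CommRing B]
    [Algebra R B] [IsNoetherianRing B] (𝔪 : Ideal R)
    (h𝔪 : 𝔪.map (algebraMap R B) ≤ Ideal.jacobson ⊥)
    (N : Type u) [AddCommGroup N] [Module R N] [Module B N] [IsScalarTower R B N]
    [Module.Finite B N] (J : Ideal R)
    (h : ∀ n : ℕ, Module.Flat (R ⧸ (J ⊔ 𝔪 ^ n)) ((R ⧸ (J ⊔ 𝔪 ^ n)) ⊗[R] N)) :
    Module.Flat (R ⧸ J) ((R ⧸ J) ⊗[R] N) := by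
  apply Groth.Agent.Lib.Helper8.flat_of_forall_flat_quotient_pow (𝔪.map (Ideal.Quotient.mk J))
    ((R ⧸ J) ⊗[R] N)
  · intro n _
    have h0 : ∀ a ∈ J ⊔ 𝔪 ^ n,
        (Algebra.ofId R ((R ⧸ J) ⧸ (𝔪.map (Ideal.Quotient.mk J)) ^ n)) a = 0 := by
      intro a ha
      show Ideal.Quotient.mk ((𝔪.map (Ideal.Quotient.mk J)) ^ n) (Ideal.Quotient.mk J a) = 0
      rw [Ideal.Quotient.eq_zero_iff_mem]
      obtain ⟨j, hj, b, hb, rfl⟩ := Submodule.mem_sup.mp ha
      rw [map_add, Ideal.Quotient.eq_zero_iff_mem.mpr hj, zero_add, ← Ideal.map_pow]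
      exact Ideal.mem_map_of_mem _ hb
    let f : R ⧸ (J ⊔ 𝔪 ^ n) →ₐ[R] (R ⧸ J) ⧸ (𝔪.map (Ideal.Quotient.mk J)) ^ n :=
      Ideal.Quotient.liftₐ (J ⊔ 𝔪 ^ n)
        (Algebra.ofId R ((R ⧸ J) ⧸ (𝔪.map (Ideal.Quotient.mk J)) ^ n)) h0
    haveI := h n
    haveI : Module.Flat ((R ⧸ J) ⧸ (𝔪.map (Ideal.Quotient.mk J)) ^ n)
        (((R ⧸ J) ⧸ (𝔪.map (Ideal.Quotient.mk J)) ^ n) ⊗[R] N) :=
      Groth.Agent.Lib.Helper9.FlatSqZero.flat_of_algHom f N
    exact Module.Flat.of_linearEquiv
      (AlgebraTensorModule.cancelBaseChange R (R ⧸ J)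
        ((R ⧸ J) ⧸ (𝔪.map (Ideal.Quotient.mk J)) ^ n)
        ((R ⧸ J) ⧸ (𝔪.map (Ideal.Quotient.mk J)) ^ n) N)
  · intro 𝔞
    haveI : Module.Finite R (R ⧸ J) :=
      Module.Finite.of_surjective (Algebra.linearMap R (R ⧸ J)) Ideal.Quotient.mk_surjective
    haveI : Module.Finite (R ⧸ J) 𝔞 := inferInstance
    haveI : Module.Finite R 𝔞 := Module.Finite.trans (R ⧸ J) 𝔞
    have hsepR := sepP (A := R) (B := B) 𝔪 h𝔪 N 𝔞
    rw [eq_bot_iff]
    intro x hx
    rw [Submodule.mem_iInf] at hx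
    rw [Submodule.mem_bot]
    have hmem : (AlgebraTensorModule.cancelBaseChange R (R ⧸ J) (R ⧸ J) 𝔞 N) x ∈
        ⨅ n : ℕ, 𝔪 ^ n • (⊤ : Submodule R (𝔞 ⊗[R] N)) := by
      rw [Submodule.mem_iInf]
      intro n
      refine Submodule.smul_induction_on (hx n) ?_ ?_
      · intro j hj t _
        rw [← Ideal.map_pow] at hj
        obtain ⟨r, hr, rfl⟩ :=
          (Ideal.mem_map_iff_of_surjective _ Ideal.Quotient.mk_surjective).mp hj
        rw [map_smul]
        have h1 : (Ideal.Quotient.mk J r) •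
            (AlgebraTensorModule.cancelBaseChange R (R ⧸ J) (R ⧸ J) 𝔞 N) t =
            r • (AlgebraTensorModule.cancelBaseChange R (R ⧸ J) (R ⧸ J) 𝔞 N) t :=
          algebraMap_smul (R ⧸ J) r _
        rw [h1]
        exact Submodule.smul_mem_smul hr Submodule.mem_top
      · intro t1 t2 h1 h2
        rw [map_add]; exact add_mem h1 h2
    rw [hsepR, Submodule.mem_bot] at hmem
    exact (AlgebraTensorModule.cancelBaseChange R (R ⧸ J) (R ⧸ J) 𝔞 N).injective
      (by rw [hmem, map_zero])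

section Main

variable (R S : Type u) [CommRing R] [IsLocalRing R] [IsNoetherianRing R] [CommRing S]
  [Algebra R S] [IsNoetherianRing S]
  (M : Type u) [AddCommGroup M] [Module S M] [Module R M] [IsScalarTower R S M]
  [Module.Finite S M]

/-- the flattening property of an ideal. -/
def PP (J : Ideal R) : Prop :=
  ∀ (q : Ideal S) [q.IsPrime], q.comap (algebraMap R S) = IsLocalRing.maximalIdeal R →
    Module.Flat (R ⧸ J) ((R ⧸ J) ⊗[R] LocalizedModule q.primeCompl M)

theorem PP_mono {J J' : Ideal R} (h : J ≤ J') (hJ : PP R S M J) : PP R S M J' := by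
  intro q _ hq
  haveI := hJ q hq
  exact Groth.Agent.Lib.Helper9.FlatSqZero.flat_of_algHom (Ideal.Quotient.factorₐ R h) _

theorem PP_inf {J₁ J₂ : Ideal R} (h₁ : PP R S M J₁) (h₂ : PP R S M J₂) :
    PP R S M (J₁ ⊓ J₂) := by
  intro q _ hq
  haveI := h₁ q hq
  haveI := h₂ q hq
  exact Groth.Agent.S6893.result _ J₁ J₂

theorem PP_top : PP R S M ⊤ := by
  intro q _ hq
  haveI : Subsingleton (R ⧸ (⊤ : Ideal R)) := Ideal.Quotient.subsingleton_iff.mpr rfl
  haveI : Module.Free (R ⧸ (⊤ : Ideal R))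
      ((R ⧸ (⊤ : Ideal R)) ⊗[R] LocalizedModule q.primeCompl M) := Module.Free.of_subsingleton' _ _
  infer_instance

theorem PP_max : PP R S M (IsLocalRing.maximalIdeal R) := by
  intro q _ hq
  letI : Field (R ⧸ IsLocalRing.maximalIdeal R) := Ideal.Quotient.field _
  infer_instance

theorem PP_of_forall (J : Ideal R)
    (h : ∀ n : ℕ, PP R S M (J ⊔ IsLocalRing.maximalIdeal R ^ n)) : PP R S M J := by
  intro q _ hq
  have hjac : (IsLocalRing.maximalIdeal R).map (algebraMap R (Localization.AtPrime q)) ≤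
      Ideal.jacobson ⊥ := by
    rw [IsLocalRing.jacobson_eq_maximalIdeal ⊥ bot_ne_top,
      IsScalarTower.algebraMap_eq R S (Localization.AtPrime q), ← Ideal.map_map]
    refine (Ideal.map_mono (Ideal.map_le_iff_le_comap.mpr hq.ge)).trans ?_
    rw [Localization.AtPrime.map_eq_maximalIdeal]
  exact flat_of_flat_sup_pow (B := Localization.AtPrime q) _ hjac
    (LocalizedModule q.primeCompl M) J (fun n => h n q hq)

theorem artinian_quot (n : ℕ) : IsArtinianRing (R ⧸ IsLocalRing.maximalIdeal R ^ n) := by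
  haveI : Ring.KrullDimLE 0 (R ⧸ IsLocalRing.maximalIdeal R ^ n) := by
    rw [Ring.krullDimLE_zero_iff]
    intro P hP
    haveI : (P.comap (Ideal.Quotient.mk (IsLocalRing.maximalIdeal R ^ n))).IsPrime :=
      Ideal.comap_isPrime _ P
    have hc : P.comap (Ideal.Quotient.mk (IsLocalRing.maximalIdeal R ^ n)) =
        IsLocalRing.maximalIdeal R := by
      apply le_antisymm (IsLocalRing.le_maximalIdeal (Ideal.IsPrime.ne_top inferInstance))
      apply Ideal.IsPrime.le_of_pow_le (n := n)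
      intro x hx
      rw [Ideal.mem_comap, Ideal.Quotient.eq_zero_iff_mem.mpr hx]
      exact zero_mem _
    have hP' : P = (IsLocalRing.maximalIdeal R).map
        (Ideal.Quotient.mk (IsLocalRing.maximalIdeal R ^ n)) := by
      have h1 := Ideal.map_comap_of_surjective
        (Ideal.Quotient.mk (IsLocalRing.maximalIdeal R ^ n)) Ideal.Quotient.mk_surjective P
      rw [hc] at h1
      exact h1.symm
    rcases Ideal.map_eq_top_or_isMaximal_of_surjective
      (Ideal.Quotient.mk (IsLocalRing.maximalIdeal R ^ n))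
      Ideal.Quotient.mk_surjective (IsLocalRing.maximalIdeal.isMaximal R) with h | h
    · exact absurd (hP'.trans h) hP.ne_top
    · rw [hP']; exact h
  exact IsNoetherianRing.isArtinianRing_of_krullDimLE_zero

theorem krull (J : Ideal R) : ⨅ n : ℕ, (J ⊔ IsLocalRing.maximalIdeal R ^ n) ≤ J := by
  intro x hx
  rw [Submodule.mem_iInf] at hx
  haveI : Module.Finite R (R ⧸ J) :=
    Module.Finite.of_surjective (Algebra.linearMap R (R ⧸ J)) Ideal.Quotient.mk_surjective
  have hk := Ideal.iInf_pow_smul_eq_bot_of_le_jacobson (M := R ⧸ J) (IsLocalRing.maximalIdeal R)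
    (IsLocalRing.jacobson_eq_maximalIdeal ⊥ bot_ne_top).ge
  have hmem : (Ideal.Quotient.mk J x) ∈
      ⨅ i : ℕ, (IsLocalRing.maximalIdeal R) ^ i • (⊤ : Submodule R (R ⧸ J)) := by
    rw [Submodule.mem_iInf]
    intro n
    obtain ⟨j, hj, b, hb, hab⟩ := Submodule.mem_sup.mp (hx n)
    have h2 : Ideal.Quotient.mk J x = b • (Ideal.Quotient.mk J (1 : R)) := by
      have h1 : b • (Ideal.Quotient.mk J (1 : R)) = Ideal.Quotient.mk J (b * 1) := rfl
      rw [h1, mul_one, ← hab, map_add, Ideal.Quotient.eq_zero_iff_mem.mpr hj, zero_add]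
    rw [h2]
    exact Submodule.smul_mem_smul hb Submodule.mem_top
  rw [hk, Submodule.mem_bot] at hmem
  exact Ideal.Quotient.eq_zero_iff_mem.mp hmem

theorem exists_min (n : ℕ) : ∃ I : Ideal R, PP R S M I ∧ IsLocalRing.maximalIdeal R ^ n ≤ I ∧
    ∀ J, PP R S M J → I ≤ J ⊔ IsLocalRing.maximalIdeal R ^ n := by
  haveI := artinian_quot R n
  have hsurj : Function.Surjective (Ideal.Quotient.mk (IsLocalRing.maximalIdeal R ^ n)) :=
    Ideal.Quotient.mk_surjective
  have htop : PP R S M ((⊤ : Ideal (R ⧸ IsLocalRing.maximalIdeal R ^ n)).comap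
      (Ideal.Quotient.mk (IsLocalRing.maximalIdeal R ^ n))) := by
    rw [Ideal.comap_top]; exact PP_top R S M
  have key : ∃ K₀ : Ideal (R ⧸ IsLocalRing.maximalIdeal R ^ n),
      PP R S M (K₀.comap (Ideal.Quotient.mk (IsLocalRing.maximalIdeal R ^ n))) ∧
      ∀ K : Ideal (R ⧸ IsLocalRing.maximalIdeal R ^ n),
        PP R S M (K.comap (Ideal.Quotient.mk (IsLocalRing.maximalIdeal R ^ n))) → ¬ K < K₀ := by
    obtain ⟨K₀, hK₀, hmin⟩ := IsArtinian.set_has_minimal
      {K : Ideal (R ⧸ IsLocalRing.maximalIdeal R ^ n) |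
        PP R S M (K.comap (Ideal.Quotient.mk (IsLocalRing.maximalIdeal R ^ n)))} ⟨⊤, htop⟩
    exact ⟨K₀, hK₀, fun K hK => hmin K hK⟩
  obtain ⟨K₀, hK₀, hmin'⟩ := key
  refine ⟨K₀.comap (Ideal.Quotient.mk (IsLocalRing.maximalIdeal R ^ n)), hK₀, ?_, ?_⟩
  · intro x hx
    rw [Ideal.mem_comap, Ideal.Quotient.eq_zero_iff_mem.mpr hx]
    exact zero_mem _
  · intro J hJ
    have hKc : ((J ⊓ K₀.comap (Ideal.Quotient.mk (IsLocalRing.maximalIdeal R ^ n))).map
        (Ideal.Quotient.mk (IsLocalRing.maximalIdeal R ^ n))).comap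
        (Ideal.Quotient.mk (IsLocalRing.maximalIdeal R ^ n)) =
        (J ⊓ K₀.comap (Ideal.Quotient.mk (IsLocalRing.maximalIdeal R ^ n))) ⊔
          IsLocalRing.maximalIdeal R ^ n := by
      rw [Ideal.comap_map_of_surjective _ hsurj, ← RingHom.ker_eq_comap_bot, Ideal.mk_ker]
    have hKT : PP R S M (((J ⊓ K₀.comap (Ideal.Quotient.mk (IsLocalRing.maximalIdeal R ^ n))).map
        (Ideal.Quotient.mk (IsLocalRing.maximalIdeal R ^ n))).comap
        (Ideal.Quotient.mk (IsLocalRing.maximalIdeal R ^ n))) := by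
      rw [hKc]
      exact PP_mono R S M le_sup_left (PP_inf R S M hJ hK₀)
    have hKle : (J ⊓ K₀.comap (Ideal.Quotient.mk (IsLocalRing.maximalIdeal R ^ n))).map
        (Ideal.Quotient.mk (IsLocalRing.maximalIdeal R ^ n)) ≤ K₀ := by
      refine (Ideal.map_mono inf_le_right).trans ?_
      rw [Ideal.map_comap_of_surjective _ hsurj]
    have hKeq : (J ⊓ K₀.comap (Ideal.Quotient.mk (IsLocalRing.maximalIdeal R ^ n))).map
        (Ideal.Quotient.mk (IsLocalRing.maximalIdeal R ^ n)) = K₀ := by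
      by_contra hne
      exact hmin' _ hKT (lt_of_le_of_ne hKle hne)
    calc K₀.comap (Ideal.Quotient.mk (IsLocalRing.maximalIdeal R ^ n))
        = (J ⊓ K₀.comap (Ideal.Quotient.mk (IsLocalRing.maximalIdeal R ^ n))) ⊔
          IsLocalRing.maximalIdeal R ^ n := by rw [← hKc, hKeq]
      _ ≤ J ⊔ IsLocalRing.maximalIdeal R ^ n := sup_le_sup_right inf_le_left _

end Main



/-- Let `(R, 𝔪)` be a complete Noetherian local ring, `R → S` a ring map with `S` Noetherian and `M` a
finite `S`-module. Then among ideals contained in `𝔪`, there is a smallest one `I` with the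
following property: whenever `𝔮` is a prime of `S` lying over `𝔪`, the module `(M/IM)_𝔮` is
`R/I`-flat. Namely, `I ⊆ 𝔪` has this property, and every ideal `J` with the property contains `I`. -/
theorem result (R S : Type u) [CommRing R] [IsLocalRing R]
    [IsNoetherianRing R] [IsAdicComplete (IsLocalRing.maximalIdeal R) R] [CommRing S] [Algebra R S] [IsNoetherianRing S]
    (M : Type u) [AddCommGroup M] [Module S M] [Module R M] [IsScalarTower R S M] [Module.Finite S M] :
    ∃ I : Ideal R, I ≤ IsLocalRing.maximalIdeal R ∧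
      (∀ (q : Ideal S) [q.IsPrime], q.comap (algebraMap R S) = IsLocalRing.maximalIdeal R →
        Module.Flat (R ⧸ I) ((R ⧸ I) ⊗[R] LocalizedModule q.primeCompl M)) ∧
      ∀ J : Ideal R, (∀ (q : Ideal S) [q.IsPrime], q.comap (algebraMap R S) = IsLocalRing.maximalIdeal R →
        Module.Flat (R ⧸ J) ((R ⧸ J) ⊗[R] LocalizedModule q.primeCompl M)) → I ≤ J := by
  classical
  choose I hIP hIm hImin using exists_min R S M
  have hstep : ∀ n, I (n + 1) ≤ I n := by
    intro n
    calc I (n + 1) ≤ I n ⊔ IsLocalRing.maximalIdeal R ^ (n + 1) := hImin (n + 1) (I n) (hIP n)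
      _ ≤ I n := sup_le le_rfl ((Ideal.pow_le_pow_right (Nat.le_succ n)).trans (hIm n))
  have hanti : Antitone I := antitone_nat_of_succ_le hstep
  have hstep2 : ∀ n, I n ≤ I (n + 1) ⊔ IsLocalRing.maximalIdeal R ^ n :=
    fun n => hImin n (I (n + 1)) (hIP (n + 1))
  have hcompl : ∀ n, I n ≤ (⨅ k, I k) ⊔ IsLocalRing.maximalIdeal R ^ n := by
    intro n x hx
    have stepex : ∀ (m : ℕ) (y : R), ∃ y' : R, y ∈ I m →
        (y' ∈ I (m + 1) ∧ y' - y ∈ IsLocalRing.maximalIdeal R ^ m) := by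
      intro m y
      by_cases hy : y ∈ I m
      · obtain ⟨a, ha, b, hb, hab⟩ := Submodule.mem_sup.mp (hstep2 m hy)
        refine ⟨a, fun _ => ⟨ha, ?_⟩⟩
        have h1 : a - y = -b := by rw [← hab]; ring
        rw [h1]; exact neg_mem hb
      · exact ⟨0, fun h => absurd h hy⟩
    choose f hf using stepex
    let z : ℕ → R := fun m => Nat.rec x (fun m zm => if n ≤ m then f m zm else zm) m
    have hzs : ∀ m, z (m + 1) = if n ≤ m then f m (z m) else z m := fun m => rfl
    have hzle : ∀ m, m ≤ n → z m = x := by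
      intro m
      induction m with
      | zero => intro _; rfl
      | succ m ih =>
        intro hm
        rw [hzs, if_neg (by omega)]
        exact ih (by omega)
    have hzmem : ∀ m, n ≤ m → z m ∈ I m := by
      intro m hm
      induction m, hm using Nat.le_induction with
      | base => rw [hzle n le_rfl]; exact hx
      | succ m hm ih =>
        rw [hzs, if_pos hm]
        exact (hf m (z m) ih).1
    have hzd : ∀ m, z (m + 1) - z m ∈ IsLocalRing.maximalIdeal R ^ m := by
      intro m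
      rw [hzs]
      by_cases hm : n ≤ m
      · rw [if_pos hm]; exact (hf m (z m) (hzmem m hm)).2
      · rw [if_neg hm, sub_self]; exact zero_mem _
    have hcauchy : ∀ {a b : ℕ}, a ≤ b →
        z a ≡ z b [SMOD (IsLocalRing.maximalIdeal R ^ a • ⊤ : Submodule R R)] := by
      intro a b hab
      induction b, hab using Nat.le_induction with
      | base => exact SModEq.refl _
      | succ b hab ih =>
        refine ih.trans ?_
        rw [SModEq.sub_mem]
        have h1 : z b - z (b + 1) = -(z (b + 1) - z b) := by ring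
        rw [h1, smul_eq_mul, Ideal.mul_top]
        exact neg_mem (Ideal.pow_le_pow_right hab (hzd b))
    obtain ⟨L, hL⟩ := IsPrecomplete.prec
      (inferInstance : IsPrecomplete (IsLocalRing.maximalIdeal R) R) (f := z) hcauchy
    have hLd : ∀ m, z m - L ∈ IsLocalRing.maximalIdeal R ^ m := by
      intro m
      have := (SModEq.sub_mem).mp (hL m)
      rwa [smul_eq_mul, Ideal.mul_top] at this
    have hLmem : ∀ m, n ≤ m → L ∈ I m := by
      intro m hm
      have h1 : L = z m - (z m - L) := by ring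
      rw [h1]
      exact sub_mem (hzmem m hm) (hIm m (hLd m))
    have hLinf : L ∈ ⨅ k, I k := by
      rw [Submodule.mem_iInf]
      intro k
      by_cases hk : n ≤ k
      · exact hLmem k hk
      · exact hanti (by omega : k ≤ n) (hLmem n le_rfl)
    have h2 : x = L + (x - L) := by ring
    rw [h2]
    refine Submodule.add_mem_sup hLinf ?_
    have := hLd n
    rwa [hzle n le_rfl] at this
  have hminJ : ∀ J : Ideal R, PP R S M J → (⨅ k, I k) ≤ J := by
    intro J hJ
    have h1 : ∀ n, (⨅ k, I k) ≤ J ⊔ IsLocalRing.maximalIdeal R ^ n :=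
      fun n => (iInf_le _ n).trans (hImin n J hJ)
    exact (le_iInf h1).trans (krull R J)
  refine ⟨⨅ k, I k, hminJ _ (PP_max R S M), ?_, fun J hJ => hminJ J hJ⟩
  have hPP : PP R S M (⨅ k, I k) := by
    apply PP_of_forall
    intro n
    have h1 : (⨅ k, I k) ⊔ IsLocalRing.maximalIdeal R ^ n = I n :=
      le_antisymm (sup_le (iInf_le _ n) (hIm n)) (hcompl n)
    rw [h1]; exact hIP n
  exact hPP

end Groth.Agent.S6925
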