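import Groth.Statements.S6929
import Mathlib

set_option autoImplicit false
universe u
open EtAlg

namespace Groth.Agent.S6929

/-- A finite product of algebras of finite type is of finite type. -/
theorem finiteType_pi (R : Type u) [CommRing R] {ι : Type u} [Fintype ι] (A : ι → Type u)
    [∀ i, CommRing (A i)] [∀ i, Algebra R (A i)] (hA : ∀ i, Algebra.FiniteType R (A i)) :
    Algebra.FiniteType R (∀ i, A i) := by
  classical
  choose G hG using fun i => (hA i).out
  let T : Set (∀ i, A i) :=
    (⋃ i, (Pi.single i : A i → ∀ j, A j) '' (G i : Set (A i))) ∪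
      Set.range (fun i => (Pi.single i (1 : A i) : ∀ j, A j))
  have hTfin : T.Finite :=
    (Set.finite_iUnion fun i => (G i).finite_toSet.image _).union (Set.finite_range _)
  refine ⟨⟨hTfin.toFinset, ?_⟩⟩
  rw [Set.Finite.coe_toFinset]
  have key : ∀ i (a : A i), (Pi.single i a : ∀ j, A j) ∈ Algebra.adjoin R T := by
    intro i a
    have ha : a ∈ Algebra.adjoin R (G i : Set (A i)) := by rw [hG i]; trivial
    induction ha using Algebra.adjoin_induction with
    | mem x hx =>
      exact Algebra.subset_adjoin (Or.inl (Set.mem_iUnion.2 ⟨i, x, hx, rfl⟩))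
    | algebraMap r =>
      have h1 : (Pi.single i (algebraMap R (A i) r) : ∀ j, A j) =
          r • (Pi.single i (1 : A i) : ∀ j, A j) := by
        rw [Algebra.algebraMap_eq_smul_one, Pi.single_smul]
      rw [h1]
      exact (Algebra.adjoin R T).smul_mem (Algebra.subset_adjoin (Or.inr ⟨i, rfl⟩)) r
    | add x y _ _ hx hy => rw [Pi.single_add]; exact (Algebra.adjoin R T).add_mem hx hy
    | mul x y _ _ hx hy => rw [Pi.single_mul]; exact (Algebra.adjoin R T).mul_mem hx hy
  rw [eq_top_iff]
  intro x _
  have hx : x = ∑ i, (Pi.single i (x i) : ∀ j, A j) := (Finset.univ_sum_single x).symm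
  rw [hx]
  exact (Algebra.adjoin R T).sum_mem (fun i _ => key i (x i))

/-- Let `R` be a Noetherian ring, `ι` a finite index type, and `φ_i : A_i → B_i`, `ψ_i : Q → B_i`
surjective `R`-algebra maps, where `Q` and all `A_i`, `B_i` are `R`-algebras of finite type. Then
the fibre product ring `P = Q ×_{∏ B_i} ∏ A_i` (pairs `(q, a)` with `ψ_i(q) = φ_i(a_i)` for all `i`)
is an `R`-algebra of finite type. -/
theorem result (R : Type u) [CommRing R] [IsNoetherianRing R] {ι : Type u} [Fintype ι]
    (Q : Type u) [CommRing Q] [Algebra R Q] [Algebra.FiniteType R Q] (A B : ι → Type u) [∀ i, CommRing (A i)]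
    [∀ i, CommRing (B i)] [∀ i, Algebra R (A i)] [∀ i, Algebra R (B i)] (hA : ∀ i, Algebra.FiniteType R (A i))
    (hB : ∀ i, Algebra.FiniteType R (B i)) (φ : ∀ i, A i →ₐ[R] B i) (ψ : ∀ i, Q →ₐ[R] B i)
    (hφ : ∀ i, Function.Surjective (φ i)) (hψ : ∀ i, Function.Surjective (ψ i)) :
    Algebra.FiniteType R ↥(AlgHom.equalizer ((AlgHom.pi ψ).comp (AlgHom.fst R Q (∀ i, A i)))
      ((AlgHom.pi fun i => (φ i).comp (Pi.evalAlgHom R A i)).comp (AlgHom.snd R Q (∀ i, A i)))) := by
  classical
  set P := AlgHom.equalizer ((AlgHom.pi ψ).comp (AlgHom.fst R Q (∀ i, A i)))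
      ((AlgHom.pi fun i => (φ i).comp (Pi.evalAlgHom R A i)).comp (AlgHom.snd R Q (∀ i, A i))) with hP
  have hmem : ∀ (q : Q) (a : ∀ i, A i), ((q, a) : Q × (∀ i, A i)) ∈ P ↔ ∀ i, ψ i q = φ i (a i) := by
    intro q a
    rw [hP, AlgHom.mem_equalizer]
    constructor
    · intro h i
      exact congrFun h i
    · intro h
      funext i
      exact h i
  haveI : Algebra.FiniteType R (∀ i, A i) := finiteType_pi R A hA
  have hAC : (⊤ : Subalgebra R (Q × (∀ i, A i))).FG := Algebra.FiniteType.out
  have hBCi : Function.Injective (algebraMap P (Q × (∀ i, A i))) := Subtype.val_injective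
  -- the generators
  let eQ : Q × (∀ i, A i) := (1, 0)
  let e : ι → Q × (∀ i, A i) := fun i => (0, Pi.single i 1)
  have hBC : (⊤ : Submodule P (Q × (∀ i, A i))).FG := by
    rw [Submodule.fg_def]
    refine ⟨insert eQ (Set.range e), (Set.finite_range e).insert eQ, ?_⟩
    rw [eq_top_iff]
    rintro ⟨q, a⟩ -
    -- lift of q
    choose a' ha' using fun i => hφ i (ψ i q)
    have hpQ : ((q, a') : Q × (∀ i, A i)) ∈ P := (hmem q a').2 (fun i => (ha' i).symm)
    -- lifts of the a i
    choose q' hq' using fun i => hψ i (φ i (a i))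
    choose a'' ha'' using fun i j => hφ j (ψ j (q' i))
    have hpi : ∀ i, ((q' i, Function.update (a'' i) i (a i)) : Q × (∀ i, A i)) ∈ P := by
      intro i
      rw [hmem]
      intro j
      by_cases hji : j = i
      · subst hji
        rw [Function.update_self, hq']
      · rw [Function.update_of_ne hji, ha'']
    have hdecomp : ((q, a) : Q × (∀ i, A i)) =
        (⟨(q, a'), hpQ⟩ : P) • eQ +
          ∑ i, (⟨(q' i, Function.update (a'' i) i (a i)), hpi i⟩ : P) • e i := by
      have h1 : (⟨(q, a'), hpQ⟩ : P) • eQ = ((q, 0) : Q × (∀ i, A i)) := by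
        show ((q, a') : Q × (∀ i, A i)) * ((1, 0) : Q × (∀ i, A i)) = (q, 0)
        simp
      have h2 : ∀ i, (⟨(q' i, Function.update (a'' i) i (a i)), hpi i⟩ : P) • e i =
          ((0, Pi.single i (a i)) : Q × (∀ i, A i)) := by
        intro i
        show ((q' i, Function.update (a'' i) i (a i)) : Q × (∀ i, A i)) *
          ((0, Pi.single i 1) : Q × (∀ i, A i)) = (0, Pi.single i (a i))
        rw [Prod.mk_mul_mk, mul_zero]
        congr 1
        funext j
        by_cases hji : j = i
        · subst hji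
          simp
        · simp [Pi.single_eq_of_ne hji]
      rw [h1]
      simp_rw [h2]
      have h3 : ∑ i, ((0, Pi.single i (a i)) : Q × (∀ i, A i)) = (0, a) := by
        ext
        · simp [Prod.fst_sum]
        · rw [Prod.snd_sum]
          simp only
          rw [Finset.univ_sum_single]
      rw [h3]
      simp
    rw [hdecomp]
    refine Submodule.add_mem _ (Submodule.smul_mem _ _ (Submodule.subset_span (Set.mem_insert _ _)))
      (Submodule.sum_mem _ fun i _ => Submodule.smul_mem _ _
        (Submodule.subset_span (Set.mem_insert_of_mem _ ⟨i, rfl⟩)))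
  exact ⟨fg_of_fg_of_fg R P (Q × (∀ i, A i)) hAC hBC hBCi⟩

end Groth.Agent.S6929
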