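import Groth.Statements.S6933
import Mathlib

set_option autoImplicit false
universe u
open CategoryTheory
open InjHull

namespace Groth.Agent.S6933

/-- An abelian group `J` that is injective as an object of the category of abelian groups is divisible:
`n J = J` for every nonzero integer `n`. (The published statement is an equivalence; this row states
the implication from injective to divisible.) -/
theorem result (J : Type u) [AddCommGroup J] (hJ : Injective (AddCommGrpCat.of J))
    (n : ℤ) (hn : n ≠ 0) (x : J) : ∃ y : J, n • y = x := by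
  let f₀ : ULift.{u} ℤ →+ ULift.{u} ℤ :=
    { toFun := fun z => ⟨n * z.down⟩
      map_zero' := by simp; rfl
      map_add' := fun a b => by
        apply ULift.ext
        simp [mul_add] }
  let g₀ : ULift.{u} ℤ →+ J :=
    { toFun := fun z => z.down • x
      map_zero' := by simp
      map_add' := fun a b => by simp [add_smul] }
  let f : AddCommGrpCat.of (ULift.{u} ℤ) ⟶ AddCommGrpCat.of (ULift.{u} ℤ) := AddCommGrpCat.ofHom f₀
  let g : AddCommGrpCat.of (ULift.{u} ℤ) ⟶ AddCommGrpCat.of J := AddCommGrpCat.ofHom g₀
  have hf : Mono f := by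
    rw [AddCommGrpCat.mono_iff_injective]
    intro a b hab
    have h1 : (⟨n * a.down⟩ : ULift.{u} ℤ) = ⟨n * b.down⟩ := hab
    have h2 : n * a.down = n * b.down := congrArg ULift.down h1
    exact ULift.ext _ _ (mul_left_cancel₀ hn h2)
  have hfac : f ≫ Injective.factorThru g f = g := Injective.comp_factorThru g f
  refine ⟨(Injective.factorThru g f).hom ⟨1⟩, ?_⟩
  have h3 := congrArg (fun k => k.hom (⟨1⟩ : ULift.{u} ℤ)) hfac
  simp only [AddCommGrpCat.hom_comp, AddMonoidHom.comp_apply] at h3
  have h4 : f.hom (⟨1⟩ : ULift.{u} ℤ) = n • (⟨1⟩ : ULift.{u} ℤ) := by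
    apply ULift.ext
    show n * 1 = (n • (⟨1⟩ : ULift.{u} ℤ)).down
    simp
  have h5 : g.hom (⟨1⟩ : ULift.{u} ℤ) = x := by
    show (1 : ℤ) • x = x
    simp
  rw [h4, map_zsmul, h5] at h3
  exact h3

end Groth.Agent.S6933
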