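import Groth.Statements.S6934
import Mathlib

set_option autoImplicit false
universe u
open EtAlg

namespace Groth.Agent.S6934

/-- Let `s : B → R`, `t : R' → R` be ring maps and `B' = B ×_R R'` the fibre product ring, i.e. a ring
`B'` with maps `p : B' → B`, `q : B' → R'`, `s ∘ p = t ∘ q`, such that `(p, q)` is injective with
image the pairs `(b, r')` with `s(b) = t(r')`. Let `h ∈ B'` with images `g = p(h)`, `f = q(h)`. Then
the square of localizations `B'_h → B_g`, `B'_h → R'_f`, `B_g → R_{s(g)}`, `R'_f → R_{t(f)} =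
R_{s(g)}` (the induced maps) is cartesian as well: `B'_h = B_g ×_{R_{s(g)}} R'_f`. -/
theorem result {B R R' B' : Type u} [CommRing B] [CommRing R] [CommRing R'] [CommRing B']
    (s : B →+* R) (t : R' →+* R) (p : B' →+* B) (q : B' →+* R') (hc : s.comp p = t.comp q)
    (hinj : ∀ x y : B', p x = p y → q x = q y → x = y) (hsurj : ∀ (b : B) (r' : R'), s b = t r' → ∃ x : B', p x = b ∧ q x = r')
    (h : B') (Bh Bg Rf Rsg : Type u) [CommRing Bh] [CommRing Bg] [CommRing Rf] [CommRing Rsg]
    [Algebra B' Bh] [IsLocalization.Away h Bh] [Algebra B Bg] [IsLocalization.Away (p h) Bg]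
    [Algebra R' Rf] [IsLocalization.Away (q h) Rf] [Algebra R Rsg] [IsLocalization.Away (s (p h)) Rsg]
    (pL : Bh →+* Bg) (qL : Bh →+* Rf) (sL : Bg →+* Rsg) (tL : Rf →+* Rsg)
    (hp : pL.comp (algebraMap B' Bh) = (algebraMap B Bg).comp p) (hq : qL.comp (algebraMap B' Bh) = (algebraMap R' Rf).comp q)
    (hs : sL.comp (algebraMap B Bg) = (algebraMap R Rsg).comp s) (ht : tL.comp (algebraMap R' Rf) = (algebraMap R Rsg).comp t) :
    (∀ x y : Bh, pL x = pL y → qL x = qL y → x = y) ∧
    (∀ (b : Bg) (r : Rf), sL b = tL r → ∃ x : Bh, pL x = b ∧ qL x = r) := by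
  have hp' : ∀ a : B', pL (algebraMap B' Bh a) = algebraMap B Bg (p a) := fun a => RingHom.congr_fun hp a
  have hq' : ∀ a : B', qL (algebraMap B' Bh a) = algebraMap R' Rf (q a) := fun a => RingHom.congr_fun hq a
  have hs' : ∀ a : B, sL (algebraMap B Bg a) = algebraMap R Rsg (s a) := fun a => RingHom.congr_fun hs a
  have ht' : ∀ a : R', tL (algebraMap R' Rf a) = algebraMap R Rsg (t a) := fun a => RingHom.congr_fun ht a
  have hc' : ∀ a : B', s (p a) = t (q a) := fun a => RingHom.congr_fun hc a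
  have uh : IsUnit (algebraMap B' Bh h) := IsLocalization.Away.algebraMap_isUnit h
  have ug : IsUnit (algebraMap B Bg (p h)) := IsLocalization.Away.algebraMap_isUnit (p h)
  have uf : IsUnit (algebraMap R' Rf (q h)) := IsLocalization.Away.algebraMap_isUnit (q h)
  have usg : IsUnit (algebraMap R Rsg (s (p h))) := IsLocalization.Away.algebraMap_isUnit (s (p h))
  constructor
  · -- injectivity
    have key : ∀ z : Bh, pL z = 0 → qL z = 0 → z = 0 := by
      intro z hz1 hz2
      obtain ⟨n, a, ha⟩ := IsLocalization.Away.surj h z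
      have h1 : algebraMap B Bg (p a) = 0 := by
        rw [← hp', ← ha, map_mul, hz1, zero_mul]
      have h2 : algebraMap R' Rf (q a) = 0 := by
        rw [← hq', ← ha, map_mul, hz2, zero_mul]
      obtain ⟨m, hm⟩ := IsLocalization.Away.exists_of_eq (p h) (h1.trans (map_zero _).symm)
      obtain ⟨k, hk⟩ := IsLocalization.Away.exists_of_eq (q h) (h2.trans (map_zero _).symm)
      rw [mul_zero] at hm hk
      have h3 : h ^ (m + k) * a = 0 := by
        apply hinj
        · simp only [map_mul, map_pow, map_zero, pow_add]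
          linear_combination (p h ^ k) * hm
        · simp only [map_mul, map_pow, map_zero, pow_add]
          linear_combination (q h ^ m) * hk
      have h4 : algebraMap B' Bh a = 0 := by
        have : algebraMap B' Bh h ^ (m + k) * algebraMap B' Bh a = 0 := by
          rw [← map_pow, ← map_mul, h3, map_zero]
        exact ((uh.pow (m + k)).mul_right_eq_zero).1 this
      rw [h4] at ha
      exact ((uh.pow n).mul_left_eq_zero).1 ha
    intro x y hxy1 hxy2
    have := key (x - y) (by rw [map_sub, hxy1, sub_self]) (by rw [map_sub, hxy2, sub_self])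
    exact sub_eq_zero.1 this
  · -- surjectivity
    intro b r hbr
    obtain ⟨n, b₀, hb₀⟩ := IsLocalization.Away.surj (p h) b
    obtain ⟨n', r₀, hr₀⟩ := IsLocalization.Away.surj (q h) r
    obtain ⟨N, hN⟩ : ∃ N, N = n + n' := ⟨_, rfl⟩
    obtain ⟨b₁, hb₁⟩ : ∃ b₁, b₁ = b₀ * p h ^ n' := ⟨_, rfl⟩
    obtain ⟨r₁, hr₁⟩ : ∃ r₁, r₁ = r₀ * q h ^ n := ⟨_, rfl⟩
    have hb₁' : b * algebraMap B Bg (p h) ^ N = algebraMap B Bg b₁ := by
      rw [hb₁, map_mul, map_pow, ← hb₀, hN, pow_add, mul_assoc]
    have hr₁' : r * algebraMap R' Rf (q h) ^ N = algebraMap R' Rf r₁ := by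
      rw [hr₁, map_mul, map_pow, ← hr₀, hN, pow_add, mul_assoc, mul_comm (algebraMap R' Rf (q h) ^ n)]
    have h1 : algebraMap R Rsg (s b₁) = algebraMap R Rsg (t r₁) := by
      rw [← hs', ← ht', ← hb₁', ← hr₁', map_mul, map_mul, map_pow, map_pow, hs', ht', ← hc', hbr]
    obtain ⟨m, hm⟩ := IsLocalization.Away.exists_of_eq (s (p h)) h1
    have h2 : s (p h ^ m * b₁) = t (q h ^ m * r₁) := by
      rw [map_mul, map_mul, map_pow, map_pow, ← hc' h]
      exact hm
    obtain ⟨x₀, hx₀p, hx₀q⟩ := hsurj _ _ h2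
    have hmem : h ^ (m + N) ∈ Submonoid.powers h := pow_mem (Submonoid.mem_powers h) _
    obtain ⟨x, hx⟩ : ∃ x : Bh, x * algebraMap B' Bh (h ^ (m + N)) = algebraMap B' Bh x₀ :=
      ⟨IsLocalization.mk' Bh x₀ (⟨h ^ (m + N), hmem⟩ : Submonoid.powers h),
        IsLocalization.mk'_spec Bh x₀ (⟨h ^ (m + N), hmem⟩ : Submonoid.powers h)⟩
    refine ⟨x, ?_, ?_⟩
    · have e1 : pL x * algebraMap B Bg (p h) ^ (m + N) = algebraMap B Bg (p h ^ m * b₁) := by
        have := congrArg pL hx
        rw [map_mul, hp', hp', hx₀p, map_pow, map_pow] at this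
        exact this
      have h3 : pL x * algebraMap B Bg (p h) ^ (m + N) = b * algebraMap B Bg (p h) ^ (m + N) := by
        rw [e1, map_mul, map_pow, ← hb₁', pow_add]
        ring
      exact (ug.pow (m + N)).mul_left_injective h3
    · have e1 : qL x * algebraMap R' Rf (q h) ^ (m + N) = algebraMap R' Rf (q h ^ m * r₁) := by
        have := congrArg qL hx
        rw [map_mul, hq', hq', hx₀q, map_pow, map_pow] at this
        exact this
      have h3 : qL x * algebraMap R' Rf (q h) ^ (m + N) = r * algebraMap R' Rf (q h) ^ (m + N) := by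
        rw [e1, map_mul, map_pow, ← hr₁', pow_add]
        ring
      exact (uf.pow (m + N)).mul_left_injective h3

end Groth.Agent.S6934
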