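import Groth.Statements.S6963
import Mathlib
import Groth.Agent.Lib.Helper18.RHomKA
import Groth.Agent.Lib.Helper18.DuC
import Groth.Agent.Lib.Helper18.OmB

set_option autoImplicit false
universe u
open CategoryTheory CategoryTheory.Limits
attribute [local instance] HasDerivedCategory.standard
open DRing

namespace Groth.Agent.S6963

/-- Let A be a commutative ring and K a perfect object of D(A), represented by a cochain complex E for
which RHom_A(E, -) exists; write K^∨ = RHom_A(E, A). Then K^∨ is a perfect object of D(A), and for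
every cochain complex E' representing K^∨ for which RHom_A(E', -) exists, RHom_A(E', A) is
isomorphic to K in D(A) (existence of an isomorphism only; the canonical one is the double-duality
map). -/
theorem result (A : Type u) [CommRing A] (K : Dual.D A) (hK : DRing.IsPerfect A K)
    (E : DRing.Cx A) (eK : DRing.toD E ≅ K) [DRing.HasRHomCx E] :
    DRing.IsPerfect A ((DRing.RHomCx E).obj (Dual.inD A A)) ∧
      ∀ (E' : DRing.Cx A) (eK' : DRing.toD E' ≅ (DRing.RHomCx E).obj (Dual.inD A A)) [DRing.HasRHomCx E'],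
        Nonempty ((DRing.RHomCx E').obj (Dual.inD A A) ≅ K) := by
  obtain ⟨P, a, b, hP, hp, ⟨eP⟩⟩ := hK
  haveI : P.IsKProjective := Groth.Agent.Lib.Helper18.DR.isKProjective_of_vanishesAbove P b
    (Groth.Agent.Lib.Helper18.DR.VanishesOutside.above hP) (fun i => (hp i).2)
  let u : Dual.inD A A ≅ DerivedCategory.Q.obj (MonoidalCategoryStruct.tensorUnit (DRing.Cx A)) :=
    (DerivedCategory.singleFunctorIsoCompQ (ModuleCat.{u} A) 0).app (ModuleCat.of A A)
  obtain ⟨i1⟩ := Groth.Agent.Lib.Helper18.DR.RHomK.nonempty_RHomCx_iso_of_iso E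
    (eP ≪≫ eK.symm) (MonoidalCategoryStruct.tensorUnit (DRing.Cx A))
  have i2 : (DRing.RHomCx E).obj (Dual.inD A A) ≅
      DRing.toD (DRing.homCx P (MonoidalCategoryStruct.tensorUnit (DRing.Cx A))) := (DRing.RHomCx E).mapIso u ≪≫ i1
  refine ⟨Groth.Agent.Lib.Helper18.DR.isPerfect_of_iso i2.symm
    (Groth.Agent.Lib.Helper18.DR.Om.isPerfect_dual P a b hP hp), ?_⟩
  intro E' eK' _
  have hP' := Groth.Agent.Lib.Helper18.DR.Du.vanishesOutside_dual P a b hP
  have hp' := Groth.Agent.Lib.Helper18.DR.Du.termwiseFiniteProjective_dual P hp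
  haveI : (DRing.homCx P (MonoidalCategoryStruct.tensorUnit (DRing.Cx A))).IsKProjective :=
    Groth.Agent.Lib.Helper18.DR.isKProjective_of_vanishesAbove _ (-a)
      (Groth.Agent.Lib.Helper18.DR.VanishesOutside.above hP') (fun i => (hp' i).2)
  obtain ⟨j1⟩ := Groth.Agent.Lib.Helper18.DR.RHomK.nonempty_RHomCx_iso_of_iso E'
    (i2.symm ≪≫ eK'.symm) (MonoidalCategoryStruct.tensorUnit (DRing.Cx A))
  haveI := Groth.Agent.Lib.Helper18.DR.Du.isIso_bid P hp
  exact ⟨(DRing.RHomCx E').mapIso u ≪≫ j1 ≪≫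
    (DerivedCategory.Q.mapIso (asIso (Groth.Agent.Lib.Helper18.DR.Du.bid P))).symm ≪≫ eP⟩

end Groth.Agent.S6963
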