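import Groth.Statements.S6969
import Mathlib

set_option autoImplicit false
universe u
open CAlg

namespace Groth.Agent.S6969

/-- A finitely generated submodule of `ι →₀ R` is contained in the submodule of functions supported
on a finite set. -/
theorem fg_le_supported {R : Type u} [CommRing R] {ι : Type u} (N : Submodule R (ι →₀ R)) (hN : N.FG) :
    ∃ J : Finset ι, N ≤ Finsupp.supported R R (↑J : Set ι) := by
  classical
  obtain ⟨T, rfl⟩ := hN
  refine ⟨T.biUnion fun t => t.support, ?_⟩
  rw [Submodule.span_le]
  intro t ht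
  rw [SetLike.mem_coe, Finsupp.mem_supported]
  intro i hi
  simp only [Finset.coe_biUnion, Set.mem_iUnion]
  exact ⟨t, ht, hi⟩

/-- Let R be a commutative ring and φ : M → N an R-linear map which factors through a projective
R-module. If M is finitely generated, then φ factors through a finitely generated projective
R-module. -/
theorem result (R : Type u) [CommRing R] {M N : Type u} [AddCommGroup M]
    [Module R M] [Module.Finite R M] [AddCommGroup N] [Module R N] (φ : M →ₗ[R] N)
    (h : ∃ (P : Type u) (_ : AddCommGroup P) (_ : Module R P) (_ : Module.Projective R P) (f : M →ₗ[R] P)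
      (g : P →ₗ[R] N), g ∘ₗ f = φ) :
    ∃ (P : Type u) (_ : AddCommGroup P) (_ : Module R P) (_ : Module.Projective R P) (_ : Module.Finite R P)
      (f : M →ₗ[R] P) (g : P →ₗ[R] N), g ∘ₗ f = φ := by
  classical
  obtain ⟨P, _, _, hP, f, g, rfl⟩ := h
  obtain ⟨s, hs⟩ := (Module.projective_def' (R := R) (P := P)).1 hP
  -- the composite M → P → (P →₀ R)
  let F : M →ₗ[R] (P →₀ R) := s ∘ₗ f
  have hFG : (LinearMap.range F).FG := by
    rw [LinearMap.range_eq_map]
    exact Submodule.FG.map F Module.Finite.fg_top
  obtain ⟨J, hJ⟩ := fg_le_supported (LinearMap.range F) hFG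
  let Q := Finsupp.supported R R (↑J : Set P)
  let eQ : Q ≃ₗ[R] ((↑J : Set P) →₀ R) := Finsupp.supportedEquivFinsupp (↑J : Set P)
  have hQproj : Module.Projective R Q := Module.Projective.of_equiv eQ.symm
  have hQfin : Module.Finite R Q := Module.Finite.equiv eQ.symm
  let f' : M →ₗ[R] Q := F.codRestrict Q (fun m => hJ ⟨m, rfl⟩)
  let g' : Q →ₗ[R] N := g ∘ₗ (Finsupp.linearCombination R id) ∘ₗ Q.subtype
  refine ⟨Q, inferInstance, inferInstance, hQproj, hQfin, f', g', ?_⟩
  ext m
  have h1 : (Finsupp.linearCombination R id) (s (f m)) = f m := by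
    have := LinearMap.congr_fun hs (f m)
    simpa using this
  simp only [g', f', F, LinearMap.comp_apply, Submodule.subtype_apply, LinearMap.codRestrict_apply, h1]

end Groth.Agent.S6969
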