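import Groth.Statements.S6970
import Mathlib
import Groth.Agent.Lib.Helper21.LiftCx2
import Groth.Agent.Lib.Helper21.ProjLift
import Groth.Agent.Lib.Helper18.KProjE

set_option autoImplicit false
universe u
open CategoryTheory CategoryTheory.Limits
attribute [local instance] HasDerivedCategory.standard
open DRing

namespace Groth.Agent.S6970

/-- Let R be a commutative ring and I a nilpotent ideal of R such that the derived base change D(R) →
D(R/I) exists. Let K be an object of D(R) and E a bounded above cochain complex of projective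
R/I-modules which is isomorphic in D(R/I) to K ⊗^L_R R/I. Then there is a bounded above cochain
complex P of projective R-modules which is isomorphic to K in D(R) and whose termwise reduction P
⊗_R R/I is isomorphic to E as a complex of R/I-modules. -/
theorem result (R : Type u) [CommRing R] (I : Ideal R)
    (hI : IsNilpotent I) [DRing.HasLBaseChange (Ideal.Quotient.mk I)] (K : Dual.D R)
    (E : DRing.Cx (R ⧸ I)) (b : ℤ) (hEb : DRing.VanishesAbove E b)
    (hEp : ∀ i : ℤ, Module.Projective (R ⧸ I) (E.X i))
    (hE : Nonempty (DRing.toD E ≅ (DRing.LBaseChange (Ideal.Quotient.mk I)).obj K)) :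
    ∃ (P : DRing.Cx R) (b' : ℤ), DRing.VanishesAbove P b' ∧ (∀ i : ℤ, Module.Projective R (P.X i)) ∧
      Nonempty (DRing.toD P ≅ K) ∧ Nonempty ((((ModuleCat.extendScalars (Ideal.Quotient.mk I)).mapHomologicalComplex (ComplexShape.up ℤ)).obj P) ≅ E) := by
  classical
  obtain ⟨eE⟩ := hE
  haveI : (DRing.toD E).IsLE b := Groth.Agent.Lib.Helper18.DR.isLE_toD_of_vanishesAbove E b hEb
  haveI : ((DRing.LBaseChange (Ideal.Quotient.mk I)).obj K).IsLE b :=
    DerivedCategory.TStructure.t.isLE_of_iso eE b
  have hnil : IsNilpotent (RingHom.ker (Ideal.Quotient.mk I)) := by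
    rw [Ideal.mk_ker]; exact hI
  haveI : K.IsLE b := Groth.Agent.Lib.Helper18.DR.isLE_of_LBaseChange_nilpotent
    (Ideal.Quotient.mk I) Ideal.Quotient.mk_surjective hnil K b inferInstance
  obtain ⟨G, hGb, hGfree, ⟨eG⟩⟩ := Groth.Agent.Lib.Helper18.DR.exists_free_resolution K b
  let Pc : ObjectProperty (ModuleCat.{u} R) := fun X => Module.Projective R X
  haveI : Pc.IsClosedUnderIsomorphisms := ⟨fun {X Y} e h => by
    have hX : Module.Projective R X := h
    exact (Module.Projective.of_equiv e.toLinearEquiv : Module.Projective R Y)⟩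
  have h1 : ∀ X : ModuleCat.{u} R, Pc X → Module.Projective R X := fun X h => h
  have h2 : ∀ X Y : ModuleCat.{u} R, Pc X → (Pc (ModuleCat.of R (X × Y)) ↔ Pc Y) := by
    intro X Y hX
    have hX' : Module.Projective R X := hX
    constructor
    · intro h
      have h' : Module.Projective R (X × Y) := h
      exact (Module.Projective.of_split (LinearMap.inr R X Y) (LinearMap.snd R X Y)
        (LinearMap.ext fun _ => rfl) : Module.Projective R Y)
    · intro h
      have h' : Module.Projective R Y := h
      exact (inferInstance : Module.Projective R (X × Y))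
  have h3 : ∀ (X Y : ModuleCat.{u} R) (f : X ⟶ Y), Pc X → Pc Y →
      LinearMap.range f.hom ⊔ I • (⊤ : Submodule R Y) = ⊤ → Function.Surjective f.hom := by
    intro X Y f _ _ h
    exact LinearMap.range_eq_top.1
      (Groth.Agent.Lib.Helper10.eq_top_of_sup_smul_top_of_isNilpotent I hI _ h)
  have hEt : ∀ i : ℤ, ∃ X : ModuleCat.{u} R, Pc X ∧
      Nonempty (TensorProduct R (R ⧸ I) X ≃ₗ[R ⧸ I] E.X i) := by
    intro i
    haveI := hEp i
    obtain ⟨X, hX, hXe⟩ := Groth.Agent.Lib.Helper21.ProjLift.exists_projective_lift I hI (E.X i)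
    exact ⟨X, hX, hXe⟩
  obtain ⟨P, b', hPb, hPpc, ⟨eP⟩, hFP⟩ := Groth.Agent.Lib.Helper21.LiftCx2.main R I Pc h1 h2 h3
    G b hGb (fun i => by
      haveI := hGfree i
      exact (Module.Projective.of_free : Module.Projective R (G.X i)))
    E b hEb hEt (eE ≪≫ (DRing.LBaseChange (Ideal.Quotient.mk I)).mapIso eG.symm)
  exact ⟨P, b', hPb, hPpc, ⟨eP ≪≫ eG⟩, hFP⟩

end Groth.Agent.S6970
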