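import Groth.Statements.S6973
import Mathlib
import Groth.Agent.Lib.Helper21.LiftCx2
import Groth.Agent.Lib.Helper21.ProjLift
import Groth.Agent.S0534

set_option autoImplicit false
universe u
open CategoryTheory CategoryTheory.Limits
attribute [local instance] HasDerivedCategory.standard
open DRing

namespace Groth.Agent.S6973

/-- Let (R, I) be a henselian pair such that the derived base change D(R) → D(R/I) exists, K a
pseudo-coherent object of D(R), and E a bounded above cochain complex of finite projective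
R/I-modules which is isomorphic in D(R/I) to K ⊗^L_R R/I. Then there is a bounded above cochain
complex P of finite projective R-modules, isomorphic to K in D(R), whose termwise reduction P ⊗_R
R/I is isomorphic to E as a complex, and such that P^i is free for every i for which E^i is free. -/
theorem result (R : Type u) [CommRing R]
    (I : Ideal R) [HenselianRing R I] [DRing.HasLBaseChange (Ideal.Quotient.mk I)] (K : Dual.D R)
    (hK : DRing.IsPseudoCoherent' R K) (E : DRing.Cx (R ⧸ I)) (b : ℤ) (hEb : DRing.VanishesAbove E b)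
    (hEp : DRing.TermwiseFiniteProjective E)
    (hE : Nonempty (DRing.toD E ≅ (DRing.LBaseChange (Ideal.Quotient.mk I)).obj K)) :
    ∃ (P : DRing.Cx R) (b' : ℤ), DRing.VanishesAbove P b' ∧ DRing.TermwiseFiniteProjective P ∧
      Nonempty (DRing.toD P ≅ K) ∧ Nonempty ((((ModuleCat.extendScalars (Ideal.Quotient.mk I)).mapHomologicalComplex (ComplexShape.up ℤ)).obj P) ≅ E) ∧
      ∀ i : ℤ, Module.Free (R ⧸ I) (E.X i) → Module.Free R (P.X i) := by
  classical
  have hI : I ≤ Ideal.jacobson (⊥ : Ideal R) := HenselianRing.jac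
  obtain ⟨eE⟩ := hE
  obtain ⟨G, c, hGc, hGff, ⟨eG⟩⟩ := hK
  let Pc : ObjectProperty (ModuleCat.{u} R) :=
    fun X => Module.Finite R X ∧ Module.Projective R X
  haveI : Pc.IsClosedUnderIsomorphisms := ⟨fun {X Y} e h => by
    have hX : Module.Finite R X ∧ Module.Projective R X := h
    have hX1 := hX.1
    have hX2 := hX.2
    exact (⟨Module.Finite.equiv e.toLinearEquiv, Module.Projective.of_equiv e.toLinearEquiv⟩ :
      Module.Finite R Y ∧ Module.Projective R Y)⟩
  have h1 : ∀ X : ModuleCat.{u} R, Pc X → Module.Projective R X := fun X h =>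
    (show Module.Finite R X ∧ Module.Projective R X from h).2
  have h2 : ∀ X Y : ModuleCat.{u} R, Pc X → (Pc (ModuleCat.of R (X × Y)) ↔ Pc Y) := by
    intro X Y hX
    have hX' : Module.Finite R X ∧ Module.Projective R X := hX
    have hX1 := hX'.1
    have hX2 := hX'.2
    constructor
    · intro h
      have h' : Module.Finite R (X × Y) ∧ Module.Projective R (X × Y) := h
      have h'1 := h'.1
      have h'2 := h'.2
      exact (⟨Module.Finite.of_surjective (LinearMap.snd R X Y) LinearMap.snd_surjective,
        Module.Projective.of_split (LinearMap.inr R X Y) (LinearMap.snd R X Y)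
          (LinearMap.ext fun _ => rfl)⟩ : Module.Finite R Y ∧ Module.Projective R Y)
    · intro h
      have h' : Module.Finite R Y ∧ Module.Projective R Y := h
      have h'1 := h'.1
      have h'2 := h'.2
      exact (⟨inferInstance, inferInstance⟩ :
        Module.Finite R (X × Y) ∧ Module.Projective R (X × Y))
  have h3 : ∀ (X Y : ModuleCat.{u} R) (f : X ⟶ Y), Pc X → Pc Y →
      LinearMap.range f.hom ⊔ I • (⊤ : Submodule R Y) = ⊤ → Function.Surjective f.hom := by
    intro X Y f _ hY h
    have hY' : Module.Finite R Y ∧ Module.Projective R Y := hY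
    have hY1 := hY'.1
    rw [← LinearMap.range_eq_top, eq_top_iff]
    apply Submodule.le_of_le_smul_of_le_jacobson_bot Module.Finite.fg_top hI
    exact h.ge
  have hEt : ∀ i : ℤ, ∃ X : ModuleCat.{u} R, Pc X ∧
      Nonempty (TensorProduct R (R ⧸ I) X ≃ₗ[R ⧸ I] E.X i) := by
    intro i
    have hf := (hEp i).1
    have hp := (hEp i).2
    obtain ⟨M, _, _, hMf, hMp, hMe⟩ := Groth.Agent.S0534.result R I (E.X i)
    exact ⟨ModuleCat.of R M, ⟨hMf, hMp⟩, hMe⟩
  obtain ⟨P, b', hPb, hPpc, ⟨eP⟩, ⟨Φ⟩⟩ := Groth.Agent.Lib.Helper21.LiftCx2.main R I Pc h1 h2 h3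
    G c hGc (fun i => ⟨(hGff i).1, by have := (hGff i).2; exact Module.Projective.of_free⟩)
    E b hEb hEt (eE ≪≫ (DRing.LBaseChange (Ideal.Quotient.mk I)).mapIso eG.symm)
  refine ⟨P, b', hPb, hPpc, ⟨eP ≪≫ eG⟩, ⟨Φ⟩, ?_⟩
  intro i hfree
  have hP : Module.Finite R (P.X i) ∧ Module.Projective R (P.X i) := hPpc i
  have hP1 := hP.1
  have hP2 := hP.2
  have hEf := (hEp i).1
  obtain ⟨e⟩ := Groth.Agent.Lib.Helper21.ProjLift.termEquiv I P E Φ i
  exact Groth.Agent.Lib.Helper21.ProjLift.free_of_free_reduction hI (P.X i) (E.X i) e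

end Groth.Agent.S6973
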