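import Groth.Statements.S6988
import Mathlib
import Groth.Agent.Lib.Helper18.DRTop

set_option autoImplicit false
universe u
open CategoryTheory CategoryTheory.Limits
attribute [local instance] HasDerivedCategory.standard
open DRing

namespace Groth.Agent.S6988

/-- Let R be a commutative ring, K a pseudo-coherent object of D(R) and i an integer. Then some finitely
presented R-module M admits a morphism K → M[-i] in D(R) that is injective on H^i (here H^i(M[-i]) =
M). -/
theorem result (R : Type u) [CommRing R] (K : Dual.D R)
    (hK : DRing.IsPseudoCoherent' R K) (i : ℤ) :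
    ∃ (M : Type u) (_ : AddCommGroup M) (_ : Module R M) (_ : Module.FinitePresentation R M)
      (f : K ⟶ (shiftFunctor (Dual.D R) (-i)).obj (Dual.inD R M)),
      Mono ((DerivedCategory.homologyFunctor (ModuleCat.{u} R) i).map f) := by
  obtain ⟨N, hN, f, hf⟩ := Groth.Agent.Lib.Helper18.DR.exists_hom_to_fp K hK i
  refine ⟨N, inferInstance, inferInstance, hN,
    f ≫ (Groth.Agent.Lib.Helper18.DR.SgShiftIso (-i) i 0 (by omega) N).inv, ?_⟩
  rw [Functor.map_comp]
  haveI : Mono ((DerivedCategory.homologyFunctor (ModuleCat.{u} R) i).map f) := hf
  infer_instance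

end Groth.Agent.S6988
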