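import Groth.Statements.S6990
import Mathlib
import Groth.Agent.Lib.Helper18.DRPC

set_option autoImplicit false
universe u
open CategoryTheory CategoryTheory.Limits
attribute [local instance] HasDerivedCategory.standard
open DRing

namespace Groth.Agent.S6990

open CategoryTheory.Pretriangulated in
/-- Let R be a commutative ring, a, b integers, L an object of D(R) isomorphic to a complex of
projective R-modules vanishing outside [a, b], and K an object of D(R). (1) If H^i(K) = 0 for all i
≥ a, then every morphism L → K in D(R) is zero. (2) If H^i(K) = 0 for all i ≥ a + 1, then for every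
distinguished triangle K → M → L → K[1] there is an isomorphism M ≅ K ⊕ L carrying K → M to the
first inclusion and whose composite with the second projection is M → L. -/
theorem result (R : Type u) [CommRing R] (a b : ℤ)
    (L : Dual.D R) (hL : ∃ P : DRing.Cx R, DRing.VanishesOutside P a b ∧ (∀ i : ℤ, Module.Projective R (P.X i)) ∧
      Nonempty (DRing.toD P ≅ L)) (K : Dual.D R) :
    ((∀ i : ℤ, a ≤ i → Subsingleton (Dual.HD R K i)) → Subsingleton (L ⟶ K)) ∧
      ((∀ i : ℤ, a + 1 ≤ i → Subsingleton (Dual.HD R K i)) → ∀ (T : Triangle (Dual.D R)), T ∈ distinguishedTriangles →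
        T.obj₁ = K → T.obj₃ = L → ∀ [HasBinaryBiproduct T.obj₁ T.obj₃],
          ∃ e : T.obj₂ ≅ T.obj₁ ⊞ T.obj₃, T.mor₁ ≫ e.hom = biprod.inl ∧ e.hom ≫ biprod.snd = T.mor₂) := by
  obtain ⟨P, hP, hproj, ⟨e⟩⟩ := hL
  haveI : P.IsKProjective :=
    Groth.Agent.Lib.Helper18.DR.isKProjective_of_vanishesAbove P b
      (Groth.Agent.Lib.Helper18.DR.VanishesOutside.above hP) hproj
  haveI : P.IsStrictlyGE a :=
    Groth.Agent.Lib.Helper18.DR.isStrictlyGE_of_vanishesOutside P a b hP
  have key : ∀ (X : Dual.D R), (∀ i : ℤ, a ≤ i → Subsingleton (Dual.HD R X i)) →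
      ∀ φ : L ⟶ X, φ = 0 := by
    intro X hX φ
    haveI : X.IsLE (a - 1) := by
      rw [DerivedCategory.isLE_iff]
      intro i hi
      haveI := hX i (by omega)
      exact ModuleCat.isZero_of_subsingleton _
    have := Groth.Agent.Lib.Helper18.DR.hom_eq_zero_of_isLE P a X (e.hom ≫ φ)
    rw [← cancel_epi e.hom, this, comp_zero]
  refine ⟨fun h => ⟨fun φ ψ => by rw [key K h φ, key K h ψ]⟩, ?_⟩
  intro h T hT h1 h3 _
  have hz : T.mor₃ = 0 := by
    subst h1 h3
    apply key
    intro i hi
    haveI := h (i + 1) (by omega)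
    exact ((Groth.Agent.Lib.Helper18.DR.HShiftIso R 1 i (i + 1) (by omega)).app
      T.obj₁).toLinearEquiv.toEquiv.subsingleton
  obtain ⟨e', h1', h2'⟩ := CategoryTheory.Pretriangulated.exists_iso_binaryBiproduct_of_distTriang T hT hz
  exact ⟨e', h1', h2'.symm⟩

end Groth.Agent.S6990
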