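import Groth.Statements.S7007
import Groth.Agent.Lib.Helper11.RelFPLocal
import Mathlib

set_option autoImplicit false
universe u
open CAlg

namespace Groth.Agent.S7007

open Groth.Agent.Lib.Helper11

/-- Let R → A be a finite type homomorphism of commutative rings with a surjective R-algebra
homomorphism α : R[x_1, ..., x_n] → A, M an A-module, f_1, ..., f_r elements of A generating the
unit ideal, and for each i a surjective R-algebra homomorphism γ_i : R[z_1, ..., z_(k_i)] → A_(f_i).
Then M is finitely presented as an R[x_1, ..., x_n]-module through α if and only if, for every i,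
the localization M_(f_i) is finitely presented as an R[z_1, ..., z_(k_i)]-module through γ_i. -/
theorem result {R A : Type u} [CommRing R] [CommRing A] [Algebra R A]
    {n : ℕ} (α : MvPolynomial (Fin n) R →ₐ[R] A) (hα : Function.Surjective α) (M : Type u) [AddCommGroup M]
    [Module A M] {r : ℕ} (f : Fin r → A) (hf : Ideal.span (Set.range f) = ⊤) (k : Fin r → ℕ)
    (γ : ∀ i, MvPolynomial (Fin (k i)) R →ₐ[R] Localization.Away (f i)) (hγ : ∀ i, Function.Surjective (γ i)) :
    @Module.FinitePresentation (MvPolynomial (Fin n) R) (M) _ _ (Module.compHom (M) α.toRingHom) ↔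
      ∀ i, @Module.FinitePresentation (MvPolynomial (Fin (k i)) R) (LocalizedModule (Submonoid.powers (f i)) M) _ _ (Module.compHom (LocalizedModule (Submonoid.powers (f i)) M) (γ i).toRingHom) := by
  constructor
  · intro hM i
    haveI : Algebra.FinitePresentation A (Localization.Away (f i)) :=
      IsLocalization.Away.finitePresentation (f i)
    exact relFP_baseChange (R := R) (P := MvPolynomial (Fin n) R) α hα hM
      (LocalizedModule.mkLinearMap (Submonoid.powers (f i)) M)
      (LocalizedModule.isBaseChange (Submonoid.powers (f i)) M) (γ i) (hγ i)
  · intro h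
    exact relFP_of_localizationSpan (R := R) (P := MvPolynomial (Fin n) R) α hα M f hf
      (fun i => Fin (k i)) γ hγ h

end Groth.Agent.S7007
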