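import Groth.Statements.S7008
import Mathlib
import Groth.Agent.Lib.Helper9.PCLocal

set_option autoImplicit false
universe u
open CategoryTheory CategoryTheory.Limits
attribute [local instance] HasDerivedCategory.standard
open DerCA

namespace Groth.Agent.S7008

/-- Let R be a commutative ring, f an element of R, A a finite type R_f-algebra, g an element of A, K a
cochain complex of A-modules and m an integer; write K_g for the termwise localization K ⊗_A A_g, a
complex over the finite type R-algebra A_g. Suppose K is m-pseudo-coherent relative to R_f; then K_g
is m-pseudo-coherent relative to R. Suppose K is pseudo-coherent relative to R_f in every degree;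
then so is K_g relative to R. -/
theorem result {R A : Type u} [CommRing R] [CommRing A] (f : R) [Algebra R A]
    [Algebra (Localization.Away f) A] [IsScalarTower R (Localization.Away f) A]
    [Algebra.FiniteType (Localization.Away f) A] (g : A) (K : DRing.Cx A) (m : ℤ) :
    (DerCA.IsRelPseudoCoherent (Localization.Away f) A m (DRing.toD K) →
      DerCA.IsRelPseudoCoherent R (Localization.Away g) m
        (DRing.toD (((ModuleCat.extendScalars (algebraMap A (Localization.Away g))).mapHomologicalComplex
          (ComplexShape.up ℤ)).obj K))) ∧
      (DerCA.IsRelPseudoCoherentAll (Localization.Away f) A (DRing.toD K) →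
        DerCA.IsRelPseudoCoherentAll R (Localization.Away g)
          (DRing.toD (((ModuleCat.extendScalars (algebraMap A (Localization.Away g))).mapHomologicalComplex
            (ComplexShape.up ℤ)).obj K))) := by
  have hRf : Groth.Agent.Lib.Helper9.PCM.PCAlg R (Localization.Away f) :=
    Groth.Agent.Lib.Helper9.PCM.PCAlg.localization_away f _
  have key : ∀ m' : ℤ, DerCA.IsRelPseudoCoherent (Localization.Away f) A m' (DRing.toD K) →
      DerCA.IsRelPseudoCoherent R (Localization.Away g) m'
        (DRing.toD (((ModuleCat.extendScalars (algebraMap A (Localization.Away g))).mapHomologicalComplex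
          (ComplexShape.up ℤ)).obj K)) := by
    intro m' h
    have h1 := (Groth.Agent.Lib.Helper9.PCM.relPC_tower_iff hRf (DRing.toD K) m').1 h
    exact Groth.Agent.Lib.Helper9.PCM.relPC_of_iso
      (Groth.Agent.Lib.Helper18.DR.mapDToDIso
        (Groth.Agent.Lib.Helper18.DR.extM (A := A) (B := Localization.Away g)) K)
      (Groth.Agent.Lib.Helper9.PCM.relPC_away_of_relPC _ m' g h1)
  exact ⟨key m, fun h m' => key m' (h m')⟩

end Groth.Agent.S7008
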