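import Groth.Statements.S7009
import Mathlib
import Groth.Agent.Lib.Helper21.MatCx

set_option autoImplicit false
universe u
open CategoryTheory CategoryTheory.Limits
attribute [local instance] HasDerivedCategory.standard
open DRing Groth.Agent.Lib.Helper21.MatCx Groth.Agent.Lib.Helper18.DR

namespace Groth.Agent.S7009

/-- Let (R_j) be a diagram of commutative rings over a small filtered category with colimit R, such that
the derived base change D(R_j) → D(R) exists for every j, and let K be a perfect object of D(R).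
Then there exist an index j and a perfect object K_j of D(R_j) such that K_j ⊗^L R is isomorphic to
K in D(R). -/
theorem result {J : Type u} [SmallCategory J] [IsFiltered J]
    (F : J ⥤ CommRingCat.{u}) (c : Cocone F) (hc : IsColimit c)
    [∀ j : J, DRing.HasLBaseChange (c.ι.app j).hom] (K : Dual.D c.pt) (hK : DRing.IsPerfect c.pt K) :
    ∃ (j : J) (Kj : Dual.D (F.obj j)), DRing.IsPerfect (F.obj j) Kj ∧
      Nonempty ((DRing.LBaseChange (c.ι.app j).hom).obj Kj ≅ K) := by
  obtain ⟨E, a, b, hE, hfp, ⟨eK⟩⟩ := hK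
  obtain ⟨n, m, hm0, ⟨eE⟩⟩ := exists_mdata E a b hE hfp
  obtain ⟨j, mj, hmj0, hmj⟩ := exists_descent hc n m a b hm0
  refine ⟨j, DRing.toD mj.C, ⟨mj.C, a, b, mj.vanishesOutside a b hmj0,
    mj.termwiseFiniteProjective, ⟨Iso.refl _⟩⟩, ?_⟩
  obtain ⟨e1⟩ := nonempty_LBaseChange_iso' (c.ι.app j).hom mj b
    (fun i hi => hmj0 i (Or.inr hi))
  have e3 : (mj.map (c.ι.app j).hom).C ≅ m.C := eqToIso (by rw [hmj])
  exact ⟨e1 ≪≫ DerivedCategory.Q.mapIso (e3 ≪≫ eE.symm) ≪≫ eK⟩

end Groth.Agent.S7009
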