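import Groth.Statements.S7015
import Mathlib

set_option autoImplicit false
universe u
open CategoryTheory MonoidalCategory
open DRing

namespace Groth.Agent.S7015

open TensorProduct in
/-- dual basis lemma, finite version -/
theorem finite_projective_of_dualBasis {R M : Type u} [CommRing R] [AddCommGroup M] [Module R M]
    {ι : Type u} [Fintype ι] (v : ι → M) (φ : ι → (M →ₗ[R] R)) (h : ∀ x, x = ∑ i, φ i x • v i) :
    Module.Finite R M ∧ Module.Projective R M := by
  classical
  let f : M →ₗ[R] (ι → R) := LinearMap.pi φ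
  let g : (ι → R) →ₗ[R] M := Fintype.linearCombination R v
  have hgf : g.comp f = LinearMap.id := by
    ext x
    simp only [LinearMap.coe_comp, Function.comp_apply, LinearMap.id_coe, id_eq, g, f,
      Fintype.linearCombination_apply, LinearMap.pi_apply]
    exact (h x).symm
  have hsurj : Function.Surjective g := fun x => ⟨f x, congrArg (fun l : M →ₗ[R] M => l x) hgf⟩
  exact ⟨Module.Finite.of_surjective g hsurj, Module.Projective.of_split f g hgf⟩

/-- Let R be a commutative ring and M, N R-modules such that N is a left dual of M for the tensor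
product of R-modules, i.e. there are a coevaluation R → M ⊗ N and an evaluation N ⊗ M → R satisfying
the triangle identities (an exact pairing). Then M and N are finitely generated projective
R-modules. -/
theorem result (R : Type u) [CommRing R] (M N : Type u) [AddCommGroup M]
    [Module R M] [AddCommGroup N] [Module R N] [ExactPairing (ModuleCat.of R M) (ModuleCat.of R N)] :
    Module.Finite R M ∧ Module.Projective R M ∧ Module.Finite R N ∧ Module.Projective R N := by
  classical
  have h1 := ExactPairing.coevaluation_evaluation' (X := ModuleCat.of R M) (Y := ModuleCat.of R N)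
  have h2 := ExactPairing.evaluation_coevaluation' (X := ModuleCat.of R M) (Y := ModuleCat.of R N)
  let ηl : R →ₗ[R] TensorProduct R M N :=
    (ExactPairing.coevaluation' (X := ModuleCat.of R M) (Y := ModuleCat.of R N)).hom
  let εl : TensorProduct R N M →ₗ[R] R :=
    (ExactPairing.evaluation' (X := ModuleCat.of R M) (Y := ModuleCat.of R N)).hom
  obtain ⟨S, hS⟩ := TensorProduct.exists_finset (ηl 1)
  have key2 : ∀ x : M, x = ∑ i ∈ S, εl (i.2 ⊗ₜ[R] x) • i.1 := by
    intro x
    have e := congrArg (fun f : (𝟙_ (ModuleCat R) ⊗ ModuleCat.of R M ⟶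
      ModuleCat.of R M ⊗ 𝟙_ (ModuleCat R)) => f.hom ((1 : R) ⊗ₜ[R] x)) h2
    have lhs : (εl.lTensor M) ((TensorProduct.assoc R M N M) ((ηl.rTensor M) ((1 : R) ⊗ₜ[R] x))) =
        ∑ i ∈ S, i.1 ⊗ₜ[R] εl (i.2 ⊗ₜ[R] x) := by
      rw [LinearMap.rTensor_tmul, hS, TensorProduct.sum_tmul, map_sum, map_sum]
      apply Finset.sum_congr rfl
      intro i _
      rw [TensorProduct.assoc_tmul, LinearMap.lTensor_tmul]
    have rhs : (TensorProduct.rid R M).symm ((TensorProduct.lid R M) ((1 : R) ⊗ₜ[R] x)) =
        x ⊗ₜ[R] (1 : R) := by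
      rw [TensorProduct.lid_tmul, one_smul, TensorProduct.rid_symm_apply]
    have e' : (εl.lTensor M) ((TensorProduct.assoc R M N M) ((ηl.rTensor M) ((1 : R) ⊗ₜ[R] x))) =
        (TensorProduct.rid R M).symm ((TensorProduct.lid R M) ((1 : R) ⊗ₜ[R] x)) := e
    rw [lhs, rhs] at e'
    have e'' := congrArg (TensorProduct.rid R M) e'
    rw [map_sum, TensorProduct.rid_tmul, one_smul] at e''
    simp only [TensorProduct.rid_tmul] at e''
    exact e''.symm
  have key1 : ∀ y : N, y = ∑ i ∈ S, εl (y ⊗ₜ[R] i.1) • i.2 := by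
    intro y
    have e := congrArg (fun f : (ModuleCat.of R N ⊗ 𝟙_ (ModuleCat R) ⟶
      𝟙_ (ModuleCat R) ⊗ ModuleCat.of R N) => f.hom (y ⊗ₜ[R] (1 : R))) h1
    have lhs : (εl.rTensor N) ((TensorProduct.assoc R N M N).symm ((ηl.lTensor N) (y ⊗ₜ[R] (1 : R)))) =
        ∑ i ∈ S, εl (y ⊗ₜ[R] i.1) ⊗ₜ[R] i.2 := by
      rw [LinearMap.lTensor_tmul, hS, TensorProduct.tmul_sum, map_sum, map_sum]
      apply Finset.sum_congr rfl
      intro i _
      rw [TensorProduct.assoc_symm_tmul, LinearMap.rTensor_tmul]
    have rhs : (TensorProduct.lid R N).symm ((TensorProduct.rid R N) (y ⊗ₜ[R] (1 : R))) =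
        (1 : R) ⊗ₜ[R] y := by
      rw [TensorProduct.rid_tmul, one_smul, TensorProduct.lid_symm_apply]
    have e' : (εl.rTensor N) ((TensorProduct.assoc R N M N).symm ((ηl.lTensor N) (y ⊗ₜ[R] (1 : R)))) =
        (TensorProduct.lid R N).symm ((TensorProduct.rid R N) (y ⊗ₜ[R] (1 : R))) := e
    rw [lhs, rhs] at e'
    have e'' := congrArg (TensorProduct.lid R N) e'
    rw [map_sum, TensorProduct.lid_tmul, one_smul] at e''
    simp only [TensorProduct.lid_tmul] at e''
    exact e''.symm
  have hM := finite_projective_of_dualBasis (R := R) (M := M) (ι := ↥S) (fun i => i.1.1)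
    (fun i => εl.comp (TensorProduct.mk R N M i.1.2)) (fun x => by
      have := key2 x
      rw [← Finset.sum_coe_sort S] at this
      exact this)
  have hN := finite_projective_of_dualBasis (R := R) (M := N) (ι := ↥S) (fun i => i.1.2)
    (fun i => εl.comp ((TensorProduct.mk R N M).flip i.1.1)) (fun y => by
      have := key1 y
      rw [← Finset.sum_coe_sort S] at this
      exact this)
  exact ⟨hM.1, hM.2, hN.1, hN.2⟩

end Groth.Agent.S7015
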