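import Groth.Statements.S7038
import Mathlib

set_option autoImplicit false
universe u
open LocCoh

namespace Groth.Agent.S7038

/-- For an ideal I of a commutative ring R and an R-module M, if every element of M is killed by a power
of I then the support of M is contained in the closed set V(I); conversely, when I is finitely
generated and the support of M is contained in V(I), every element of M is killed by a power of I.
(Finite generation is used only for the converse.) -/
theorem result {R : Type u} [CommRing R] (I : Ideal R)
    (M : Type u) [AddCommGroup M] [Module R M] :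
    (LocCoh.IsPowerTorsion I M → Module.support R M ⊆ PrimeSpectrum.zeroLocus (I : Set R)) ∧
    (I.FG → Module.support R M ⊆ PrimeSpectrum.zeroLocus (I : Set R) → LocCoh.IsPowerTorsion I M) := by
  constructor
  · intro h p hp
    rw [Module.mem_support_iff_exists_annihilator] at hp
    obtain ⟨m, hm⟩ := hp
    obtain ⟨n, hn⟩ := h m
    rw [PrimeSpectrum.mem_zeroLocus]
    have hle : I ^ n ≤ p.asIdeal := fun a ha =>
      hm ((Submodule.mem_annihilator_span_singleton m a).2 (hn a ha))
    exact Ideal.IsPrime.le_of_pow_le hle
  · intro hI hs m
    have hrad : I ≤ ((Submodule.span R ({m} : Set M)).annihilator).radical := by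
      rw [Ideal.radical_eq_sInf]
      refine le_sInf ?_
      rintro p ⟨hp1, hp2⟩
      have hmem : (⟨p, hp2⟩ : PrimeSpectrum R) ∈ Module.support R M :=
        Module.mem_support_iff_exists_annihilator.2 ⟨m, hp1⟩
      have := hs hmem
      rw [PrimeSpectrum.mem_zeroLocus] at this
      exact this
    obtain ⟨n, hn⟩ := Ideal.exists_pow_le_of_le_radical_of_fg hrad hI
    exact ⟨n, fun a ha => (Submodule.mem_annihilator_span_singleton m a).1 (hn ha)⟩

end Groth.Agent.S7038
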