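import Groth.Statements.S7039
import Groth.Agent.Lib.Helper11.PowerTorsion
import Mathlib

set_option autoImplicit false
universe u
open LocCoh

namespace Groth.Agent.S7039

open Groth.Agent.Lib.Helper11

/-- For a finitely generated ideal I of a commutative ring R and any R-module M, the quotient of M by
its submodule of I-power torsion elements has no nonzero element annihilated by I. -/
theorem result {R : Type u} [CommRing R] (I : Ideal R) (hI : I.FG)
    (M : Type u) [AddCommGroup M] [Module R M] :
    LocCoh.torsionBy I (M ⧸ DRing.torsionSub I M) = ⊥ := by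
  rw [eq_bot_iff]
  intro y hy
  obtain ⟨x, rfl⟩ := Submodule.Quotient.mk_surjective _ y
  rw [Submodule.mem_bot, Submodule.Quotient.mk_eq_zero]
  have hy' : ∀ a ∈ I, a • x ∈ DRing.torsionSub I M := by
    intro a ha
    have := (Submodule.mem_torsionBySet_iff (I : Set R) _).1 hy ⟨a, ha⟩
    rw [← Submodule.Quotient.mk_eq_zero]
    exact this
  have h : ∀ a ∈ I ^ 1, ∃ k : ℕ, ∀ b ∈ I ^ k, b • a • x = 0 := by
    intro a ha
    rw [pow_one] at ha
    exact hy' a ha
  exact exists_pow_smul_eq_zero_of_pow I hI x 1 h

end Groth.Agent.S7039
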