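import Groth.Statements.S7040
import Groth.Agent.Lib.Helper11.PowerTorsion
import Mathlib

set_option autoImplicit false
universe u
open CategoryTheory
open LocCoh

namespace Groth.Agent.S7040

open Groth.Agent.Lib.Helper11

/-- For a finitely generated ideal I of a commutative ring R, the property of being an I-power torsion
module (every element killed by a power of I) is a Serre class in the category of R-modules: it
holds for 0 and is closed under subobjects, quotients and extensions. -/
theorem result {R : Type u} [CommRing R] (I : Ideal R) (hI : I.FG) :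
    ObjectProperty.IsSerreClass (C := ModuleCat.{u} R) (fun M => LocCoh.IsPowerTorsion I M) := by
  refine
    { exists_zero := ⟨ModuleCat.of R PUnit, ModuleCat.isZero_of_subsingleton _, fun m => ⟨0, fun a _ =>
        Subsingleton.elim _ _⟩⟩
      prop_of_mono := ?_
      prop_of_epi := ?_
      prop_X₂_of_shortExact := ?_ }
  · intro X Y f hf hY m
    rw [ModuleCat.mono_iff_injective] at hf
    obtain ⟨n, hn⟩ := hY (f m)
    refine ⟨n, fun a ha => hf ?_⟩
    rw [map_smul, hn a ha, map_zero]
  · intro X Y f hf hX y
    rw [ModuleCat.epi_iff_surjective] at hf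
    obtain ⟨x, rfl⟩ := hf y
    obtain ⟨n, hn⟩ := hX x
    refine ⟨n, fun a ha => ?_⟩
    rw [← map_smul, hn a ha, map_zero]
  · intro S hS h₁ h₃ m
    obtain ⟨n, hn⟩ := h₃ (S.g m)
    have hex := (ShortComplex.moduleCat_exact_iff S).1 hS.exact
    have hinj : Function.Injective S.f := (ModuleCat.mono_iff_injective S.f).1 hS.mono_f
    apply exists_pow_smul_eq_zero_of_pow I hI m n
    intro a ha
    obtain ⟨x₁, hx₁⟩ := hex (a • m) (by rw [map_smul, hn a ha])
    obtain ⟨k, hk⟩ := h₁ x₁
    refine ⟨k, fun b hb => ?_⟩
    rw [← hx₁, ← map_smul, hk b hb, map_zero]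

end Groth.Agent.S7040
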