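import Groth.Statements.S7052
import Groth.Agent.Lib.Helper11.TriHom
import Mathlib

set_option autoImplicit false
universe u
attribute [local instance] HasDerivedCategory.standard
open DRing

namespace Groth.Agent.S7052

open CategoryTheory Groth.Agent.Lib.Helper11

/-- For a commutative ring A, an ideal I, an A-module M and a submodule M₁ such that both M₁ and M/M₁
(placed in degree 0) are derived complete with respect to I, the module M is derived complete with
respect to I. -/
theorem result {A : Type u} [CommRing A] (I : Ideal A)
    (M : Type u) [AddCommGroup M] [Module A M] (M₁ : Submodule A M)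
    (h1 : DRing.IsDerivedComplete I (Dual.inD A M₁)) (h3 : DRing.IsDerivedComplete I (Dual.inD A (M ⧸ M₁))) :
    DRing.IsDerivedComplete I (Dual.inD A M) := by
  intro f hf n
  let S : ShortComplex (ModuleCat.{u} A) :=
    ShortComplex.mk (ModuleCat.ofHom M₁.subtype) (ModuleCat.ofHom M₁.mkQ) (by
      ext x
      simp)
  have hS : S.ShortExact := by
    refine ShortComplex.ShortExact.mk' ?_ ?_ ?_
    · rw [ShortComplex.moduleCat_exact_iff]
      intro x hx
      have hx' : M₁.mkQ x = 0 := hx
      rw [Submodule.mkQ_apply, Submodule.Quotient.mk_eq_zero] at hx'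
      exact ⟨⟨x, hx'⟩, rfl⟩
    · exact (ModuleCat.mono_iff_injective _).2 (Subtype.val_injective)
    · exact (ModuleCat.epi_iff_surjective _).2 (Submodule.mkQ_surjective M₁)
  have hT := hS.singleTriangle_distinguished
  exact subsingleton_hom_shift_obj₂ hS.singleTriangle hT _ n (h1 f hf n) (h3 f hf n)

end Groth.Agent.S7052
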