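import Groth.Statements.S7056
import Mathlib
import Groth.Agent.Lib.Helper18.DRDC13

set_option autoImplicit false
universe u
attribute [local instance] HasDerivedCategory.standard
open CategoryTheory
open DRing

namespace Groth.Agent.S7056

/-- (1)⇔(2): for a commutative ring A, a finitely generated ideal I and an object K of D(A) which is
derived complete with respect to I, the cohomology of K vanishes in all positive degrees if and only
if the cohomology of K ⊗^L_A A/I does. The derived tensor product with the module A/I is the total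
left derived functor, assumed to exist. -/
theorem result {A : Type u} [CommRing A]
    (I : Ideal A) (hI : I.FG) [DRing.HasLTensor A (ModuleCat.of A (A ⧸ I))]
    (K : Dual.D A) (hc : DRing.IsDerivedComplete I K) :
    (∀ i : ℤ, 0 < i → Subsingleton (Dual.HD A K i)) ↔
      ∀ i : ℤ, 0 < i → Subsingleton (Dual.HD A ((DRing.LTensor A (ModuleCat.of A (A ⧸ I))).obj K) i) := by
  constructor
  · intro h i hi
    obtain ⟨Q, hQK, hQproj, ⟨eQ⟩⟩ := Groth.Agent.Lib.Helper18.DR.exists_kprojective_resolution K
    haveI := hQK
    haveI : DerivedCategory.IsLE K 0 := by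
      rw [DerivedCategory.isLE_iff]
      intro j hj
      exact Groth.Agent.Lib.Helper18.DR.isZero_H_of_subsingleton K j (h j hj)
    haveI : DerivedCategory.IsLE (DRing.toD Q) 0 :=
      DerivedCategory.TStructure.t.isLE_of_iso eQ.symm 0
    have h1 := Groth.Agent.Lib.Helper18.DR.isZero_H_mapHC_of_isLE_kproj
      (MonoidalCategory.tensorRight (ModuleCat.of A (A ⧸ I))) Q 0 i hi
    apply ModuleCat.subsingleton_of_isZero
    exact h1.of_iso ((Groth.Agent.Lib.Helper18.DR.H A i).mapIso
      ((DRing.LTensor A (ModuleCat.of A (A ⧸ I))).mapIso eQ.symm ≪≫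
        Groth.Agent.Lib.Helper18.DR.LTensorIso (ModuleCat.of A (A ⧸ I)) Q))
  · intro h i hi
    apply ModuleCat.subsingleton_of_isZero
    exact Groth.Agent.Lib.Helper18.DR.isZero_H_of_isDerivedComplete_of_LTensor_quotient I hI K hc 0
      (fun j hj => Groth.Agent.Lib.Helper18.DR.isZero_H_of_subsingleton _ j (h j hj)) i hi

end Groth.Agent.S7056
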