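import Groth.Statements.S7059
import Mathlib
import Groth.Agent.Lib.Helper18.DRDC11
import Groth.Agent.Lib.Helper18.DRDC7
import Groth.Agent.Lib.Helper27.DCPow

set_option autoImplicit false
universe u
attribute [local instance] HasDerivedCategory.standard
open DRing

namespace Groth.Agent.S7059

/-- Let A be a Noetherian commutative ring, I an ideal and M an A-module which, placed in degree 0 of
D(A), is derived complete with respect to I. If M/IM is a finite module, then M is I-adically
complete, and M (identified with its I-adic completion) is a finite module over the I-adic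
completion of A. -/
theorem result {A : Type u} [CommRing A]
    [IsNoetherianRing A] (I : Ideal A) (M : Type u) [AddCommGroup M] [Module A M]
    (hc : DRing.IsDerivedComplete I (Dual.inD A M))
    (hf : Module.Finite A (M ⧸ I • (⊤ : Submodule A M))) :
    IsAdicComplete I M ∧ Module.Finite (AdicCompletion I A) (AdicCompletion I M) := by
  classical
  have hIfg : I.FG := IsNoetherian.noetherian I
  obtain ⟨t, g, hg⟩ := Module.Finite.exists_fin' A (M ⧸ I • (⊤ : Submodule A M))
  obtain ⟨φ, hφ⟩ := Module.projective_lifting_property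
    (Submodule.mkQ (I • (⊤ : Submodule A M))) g (Submodule.mkQ_surjective _)
  have hsurj : Function.Surjective ((I • (⊤ : Submodule A M)).mkQ ∘ₗ φ) := by
    rw [hφ]; exact hg
  have hM : ∀ f ∈ I, Groth.Agent.Lib.Helper18.DR.SeqBij f M := fun f hf =>
    (Groth.Agent.Lib.Helper18.DR.fc_Sg0_iff_seqBij f M).1 (hc f hf)
  have hN : (LinearMap.range φ).FG := by
    rw [LinearMap.range_eq_map]; exact Module.Finite.fg_top.map φ
  have hNM : LinearMap.range φ ⊔ I • (⊤ : Submodule A M) = ⊤ := by
    rw [eq_top_iff]
    rintro m -
    obtain ⟨v, hv⟩ := hsurj ((I • (⊤ : Submodule A M)).mkQ m)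
    have h1 : m - φ v ∈ I • (⊤ : Submodule A M) := (Submodule.Quotient.eq _).1 hv.symm
    have h2 : m = φ v + (m - φ v) := by abel
    rw [h2]
    exact Submodule.add_mem_sup ⟨v, rfl⟩ h1
  have hH : IsHausdorff I M :=
    Groth.Agent.Lib.Helper27.DCPow.isHausdorff_of_seqBij I hM _ hN hNM
  have hPc : IsPrecomplete I M :=
    Groth.Agent.Lib.Helper18.DR.isPrecomplete_of_isDerivedComplete I hIfg hc
  refine ⟨(isAdicComplete_iff I M).2 ⟨hH, hPc⟩, ?_⟩
  haveI : Module.Finite (AdicCompletion I A) (AdicCompletion I (Fin t → A)) :=
    Module.Finite.equiv (AdicCompletion.ofTensorProductEquivOfPiFintype I (Fin t))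
  exact Module.Finite.of_surjective (AdicCompletion.map I φ)
    (AdicCompletion.map_surjective_of_mkQ_comp_surjective hsurj)

end Groth.Agent.S7059
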