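import Groth.Statements.S7062
import Groth.Agent.Lib.Helper14.GlueTor

set_option autoImplicit false
universe u
open EtGlue

namespace Groth.Agent.S7062

/-- For a glueing pair (R → R', f), i.e. R/f^nR → R'/f^nR' is bijective for all n > 0 and the sequence 0
→ R → R' ⊕ R_f → R'_f → 0 is exact, the group Tor_1^R(R', f^n R) vanishes for every n > 0 (Tor
computed by resolving the second argument, the ideal f^n R). -/
theorem result {R R' : Type u} [CommRing R] [CommRing R'] [Algebra R R']
    (f : R) (h : EtGlue.IsGlueingPair R R' f) (n : ℕ) (hn : 0 < n) :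
    Subsingleton (DRing.Tor R 1 R' ↥(Ideal.span ({f ^ n} : Set R))) := by
  let I : Ideal R := Ideal.span ({f ^ n} : Set R)
  let g : I := ⟨f ^ n, Ideal.mem_span_singleton_self _⟩
  let p : R →ₗ[R] I := LinearMap.toSpanSingleton R I g
  have hp : Function.Surjective p := by
    rintro ⟨y, hy⟩
    obtain ⟨a, rfl⟩ := Ideal.mem_span_singleton'.mp hy
    exact ⟨a, Subtype.ext (by simp [p, g])⟩
  let K := LinearMap.ker p
  have hex : Function.Exact K.subtype p := LinearMap.exact_subtype_ker_map p
  rw [Groth.Agent.Lib.Helper14.TorKer.tor_one_subsingleton_iff (A := R) (K := K) (F := R)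
    (N := I) R' K.subtype p hex K.subtype_injective hp]
  have hK : Groth.Agent.Lib.Helper14.GluePair.IsTors f K := by
    rintro ⟨x, hx⟩
    refine ⟨n, ?_⟩
    apply Subtype.ext
    have h1 : p x = 0 := hx
    have h2 := congrArg Subtype.val h1
    simp only [p, g, LinearMap.toSpanSingleton_apply, Submodule.coe_smul, smul_eq_mul,
      ZeroMemClass.coe_zero] at h2
    simp only [Submodule.coe_smul, smul_eq_mul, ZeroMemClass.coe_zero]
    rw [mul_comm]; exact h2
  apply Groth.Agent.Lib.Helper14.GluePair.lTensor_injective_of_ker_torsion (K := K) (F := R) h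
    K.subtype K.subtype_injective
  intro x _
  exact hK.tensor_right R' x

end Groth.Agent.S7062
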