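import Groth.Statements.S7063
import Groth.Agent.Lib.Helper14.GlueTor

set_option autoImplicit false
universe u
open EtGlue

namespace Groth.Agent.S7063

/-- For a glueing pair (R → R', f), the group Tor_1^R(R', R/R[f^∞]) vanishes, where R[f^∞] is the
submodule of elements of R killed by a power of f (Tor computed by resolving the second argument). -/
theorem result {R R' : Type u} [CommRing R] [CommRing R']
    [Algebra R R'] (f : R) (h : EtGlue.IsGlueingPair R R' f) :
    Subsingleton (DRing.Tor R 1 R' (R ⧸ DRing.torsionSub (Ideal.span ({f} : Set R)) R)) := by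
  let K := DRing.torsionSub (Ideal.span ({f} : Set R)) R
  have hex : Function.Exact K.subtype K.mkQ := LinearMap.exact_subtype_mkQ K
  rw [Groth.Agent.Lib.Helper14.TorKer.tor_one_subsingleton_iff (A := R) (K := K) (F := R)
    (N := R ⧸ K) R' K.subtype K.mkQ hex K.subtype_injective K.mkQ_surjective]
  have hK : Groth.Agent.Lib.Helper14.GluePair.IsTors f K := by
    rintro ⟨x, n, hn⟩
    refine ⟨n, ?_⟩
    apply Subtype.ext
    have := hn (f ^ n) (Ideal.pow_mem_pow (Ideal.mem_span_singleton_self f) n)
    simpa using this
  apply Groth.Agent.Lib.Helper14.GluePair.lTensor_injective_of_ker_torsion (K := K) (F := R) h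
    K.subtype K.subtype_injective
  intro x _
  exact hK.tensor_right R' x

end Groth.Agent.S7063
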