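import Groth.Statements.S7064
import Groth.Agent.Lib.Helper14.GlueTor

set_option autoImplicit false
universe u
open EtGlue

namespace Groth.Agent.S7064

/-- For a glueing pair (R → R', f) and any R-module M, the group Tor_1^R(R', Coker(M → M_f)) vanishes,
where M_f is the localization of M at the powers of f (Tor computed by resolving the second
argument). -/
theorem result {R R' : Type u} [CommRing R] [CommRing R']
    [Algebra R R'] (f : R) (h : EtGlue.IsGlueingPair R R' f) (M : Type u) [AddCommGroup M] [Module R M] :
    Subsingleton (DRing.Tor R 1 R'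
      (LocalizedModule (Submonoid.powers f) M ⧸
        LinearMap.range (LocalizedModule.mkLinearMap (Submonoid.powers f) M))) := by
  have hN : Groth.Agent.Lib.Helper14.GluePair.IsTors f
      (LocalizedModule (Submonoid.powers f) M ⧸
        LinearMap.range (LocalizedModule.mkLinearMap (Submonoid.powers f) M)) := by
    intro y
    obtain ⟨y, rfl⟩ := Submodule.mkQ_surjective _ y
    induction y using LocalizedModule.induction_on with
    | h m s =>
      obtain ⟨_, k, rfl⟩ := s
      refine ⟨k, ?_⟩
      rw [← map_smul, Submodule.mkQ_apply, Submodule.Quotient.mk_eq_zero]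
      refine ⟨m, ?_⟩
      rw [LocalizedModule.mkLinearMap_apply, LocalizedModule.smul'_mk]
      exact (LocalizedModule.mk_cancel_common_left (⟨f ^ k, k, rfl⟩ : Submonoid.powers f) 1 m).symm ▸
        (by simp [LocalizedModule.mk_eq]; exact ⟨1, by simp [Submonoid.smul_def]⟩)
  exact Groth.Agent.Lib.Helper14.GluePair.tor_succ_subsingleton_of_torsion h 0 _ hN

end Groth.Agent.S7064
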