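import Groth.Statements.S7065
import Mathlib

set_option autoImplicit false
universe u
open EtGlue

namespace Groth.Agent.S7065

/-- Let R → R' be a homomorphism of commutative rings and f an element of R such that the induced map
R/fR → R'/fR' is bijective. Then Spec(R') ⊔ Spec(R_f) → Spec(R) is surjective: every prime of R is
the contraction of a prime of R' or of a prime of R_f. -/
theorem result {R R' : Type u} [CommRing R] [CommRing R']
    [Algebra R R'] (f : R)
    (hq : Function.Bijective
      (Ideal.quotientMap (Ideal.map (algebraMap R R') (Ideal.span {f})) (algebraMap R R') Ideal.le_comap_map))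
    (p : PrimeSpectrum R) :
    (∃ q : PrimeSpectrum R', PrimeSpectrum.comap (algebraMap R R') q = p) ∨
      ∃ q : PrimeSpectrum (Localization.Away f), PrimeSpectrum.comap (algebraMap R (Localization.Away f)) q = p := by
  by_cases hfp : f ∈ p.asIdeal
  · left
    set J := Ideal.map (algebraMap R R') (Ideal.span {f}) with hJ
    set φ := Ideal.quotientMap J (algebraMap R R') Ideal.le_comap_map with hφ
    -- p comes from R/(f)
    have h1 : p ∈ Set.range (PrimeSpectrum.comap (Ideal.Quotient.mk (Ideal.span {f}))) := by
      rw [range_comap_of_surjective _ _ Ideal.Quotient.mk_surjective, Ideal.mk_ker,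
        PrimeSpectrum.mem_zeroLocus]
      intro x hx
      exact (Ideal.span_singleton_le_iff_mem (I := p.asIdeal)).2 hfp hx
    obtain ⟨pbar, hpbar⟩ := h1
    have h2 : pbar ∈ Set.range (PrimeSpectrum.comap φ) := by
      rw [range_comap_of_surjective _ _ hq.2, (RingHom.injective_iff_ker_eq_bot φ).1 hq.1]
      simp
    obtain ⟨qbar, hqbar⟩ := h2
    refine ⟨PrimeSpectrum.comap (Ideal.Quotient.mk J) qbar, ?_⟩
    have hcomm : φ.comp (Ideal.Quotient.mk (Ideal.span {f})) =
        (Ideal.Quotient.mk J).comp (algebraMap R R') := Ideal.quotientMap_comp_mk _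
    rw [← PrimeSpectrum.comap_comp_apply, ← hcomm, PrimeSpectrum.comap_comp_apply, hqbar, hpbar]
  · right
    have : p ∈ Set.range (PrimeSpectrum.comap (algebraMap R (Localization.Away f))) := by
      rw [PrimeSpectrum.localization_away_comap_range (Localization.Away f) f]
      exact hfp
    exact this

end Groth.Agent.S7065
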