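import Groth.Statements.S7074
import Mathlib
import Groth.Agent.Lib.Helper25.PdFibreFlatFP
import Groth.Agent.Lib.Helper18.KProjH
import Groth.Agent.Lib.Helper18.DRPC4

set_option autoImplicit false
universe u
attribute [local instance] HasDerivedCategory.standard
open CategoryTheory
open Dual2

namespace Groth.Agent.S7074

open CategoryTheory.Limits DerivedCategory TensorProduct
open Groth.Agent.Lib.Helper18.DR


/-- For a flat homomorphism of finite presentation R → A of commutative rings and an object K of D(A), K
is R-perfect (pseudo-coherent over A and of finite tor dimension over R) if and only if K is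
isomorphic in D(A) to a bounded complex whose terms are finitely presented A-modules that are flat
as R-modules. -/
theorem result (R A : Type u) [CommRing R] [CommRing A] [Algebra R A]
    [Module.Flat R A] [Algebra.FinitePresentation R A] (K : Dual.D A) :
    Dual2.IsRelPerfect R A K ↔
      ∃ (E : DRing.Cx A) (a b : ℤ), DRing.VanishesOutside E a b ∧
        (∀ i : ℤ, Module.FinitePresentation A (E.X i) ∧
          Module.Flat R ((ModuleCat.restrictScalars (algebraMap R A)).obj (E.X i))) ∧
        Nonempty (DRing.toD E ≅ K) := by
  constructor
  · rintro ⟨hpc, a, b, hTA⟩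
    haveI hKle : K.IsLE b :=
      isLE_of_restrictD (algebraMap R A) K b (isLE_of_hasTorAmplitudeIn hTA)
    obtain ⟨F, hFb, hFff, ⟨eF⟩⟩ :=
      Groth.Agent.Lib.Helper25.PCFlatFP.exists_finite_free_resolution_le K b hpc
    have hFflat : DRing.TermwiseFlat F := fun i => by
      haveI := (hFff i).2
      infer_instance
    have hGc : DRing.VanishesAbove
        (((ModuleCat.restrictScalars.{u} (algebraMap R A)).mapHomologicalComplex
          (ComplexShape.up ℤ)).obj F) b :=
      vanishesAbove_mapHC (ModuleCat.restrictScalars.{u} (algebraMap R A)) F b hFb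
    have hGflat : DRing.TermwiseFlat
        (((ModuleCat.restrictScalars.{u} (algebraMap R A)).mapHomologicalComplex
          (ComplexShape.up ℤ)).obj F) := fun i => by
      haveI := hFflat i
      exact flat_restrictScalars (F.X i)
    have hTA' : DRing.HasTorAmplitudeIn R a b (DRing.toD
        (((ModuleCat.restrictScalars.{u} (algebraMap R A)).mapHomologicalComplex
          (ComplexShape.up ℤ)).obj F)) :=
      hasTorAmplitudeIn_of_iso
        (((DRing.restrictD (algebraMap R A)).mapIso eF.symm) ≪≫
          ((ModuleCat.restrictScalars.{u} (algebraMap R A)).mapDerivedCategoryFactors.app F)) hTA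
    have hcokR := flat_cok_of_flat_of_hasTorAmplitudeIn _ b hGc hGflat a b hTA'
    have hcokR' := Groth.Agent.Lib.Helper25.PCFlatFP.flat_cok_restrict (F.d (a - 1) a) hcokR
    have hlow : ∀ i, i < a → IsZero ((H A i).obj (DRing.toD F)) := by
      intro i hi
      haveI := isGE_of_hasTorAmplitudeIn hTA
      have h0 : IsZero ((H R i).obj ((DRing.restrictD (algebraMap R A)).obj K)) :=
        DerivedCategory.isZero_of_isGE _ a i hi
      have h2 : IsZero (resM (algebraMap R A) ((H A i).obj K)) :=
        h0.of_iso (homologyRestrictIso (algebraMap R A) K i).symm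
      haveI : Subsingleton (resM (algebraMap R A) ((H A i).obj K)) :=
        ModuleCat.subsingleton_of_isZero h2
      haveI : Subsingleton ((H A i).obj K) :=
        ‹Subsingleton (resM (algebraMap R A) ((H A i).obj K))›
      have h3 : IsZero ((H A i).obj K) := ModuleCat.isZero_of_subsingleton _
      exact h3.of_iso ((H A i).mapIso eF)
    haveI : F.IsStrictlyLE b := isStrictlyLE_of_vanishesAbove F b hFb
    haveI : F.IsGE a := by
      rw [CochainComplex.isGE_iff]
      intro i hi
      rw [← isZero_H_toD_iff_exactAt]
      exact hlow i hi
    refine ⟨F.truncGE a, a, b, ?_, ?_,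
      ⟨(asIso (DerivedCategory.Q.map (F.πTruncGE a))).symm ≪≫ eF⟩⟩
    · rintro i (hi | hi)
      · exact (F.truncGE a).isZero_of_isStrictlyGE a i hi
      · exact (F.truncGE a).isZero_of_isStrictlyLE b i hi
    · intro i
      rcases lt_trichotomy i a with hi | rfl | hi
      · have hz := (F.truncGE a).isZero_of_isStrictlyGE a i hi
        haveI : Subsingleton ((F.truncGE a).X i) := ModuleCat.subsingleton_of_isZero hz
        haveI : Subsingleton ((ModuleCat.restrictScalars (algebraMap R A)).obj ((F.truncGE a).X i)) :=
          ‹Subsingleton ((F.truncGE a).X i)›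
        exact ⟨inferInstance, inferInstance⟩
      · let ι : (F.truncGE i).X i ≅ ModuleCat.of A (cok F (i - 1) i) :=
          (F.truncGEXIsoOpcycles i) ≪≫ opcyclesIsoCok F (i - 1) i (by omega)
        haveI : Module.FinitePresentation A (cok F (i - 1) i) := by
          haveI := (hFff i).1
          haveI := (hFff i).2
          haveI := (hFff (i - 1)).1
          refine Module.finitePresentation_of_free_of_surjective
            (LinearMap.range (F.d (i - 1) i).hom).mkQ (Submodule.mkQ_surjective _) ?_
          rw [Submodule.ker_mkQ, ← Module.Finite.iff_fg]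
          exact Module.Finite.range _
        haveI : Module.Flat R ((ModuleCat.restrictScalars (algebraMap R A)).obj
            (ModuleCat.of A (cok F (i - 1) i))) := hcokR'
        exact ⟨Module.FinitePresentation.of_equiv ι.symm.toLinearEquiv,
          Module.Flat.of_linearEquiv
            (((ModuleCat.restrictScalars (algebraMap R A)).mapIso ι).toLinearEquiv)⟩
      · let ι : (F.truncGE a).X i ≅ F.X i := F.truncGEXIso a i hi
        haveI := (hFff i).1
        haveI := (hFff i).2
        haveI : Module.Flat R ((ModuleCat.restrictScalars (algebraMap R A)).obj (F.X i)) :=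
          flat_restrictScalars (F.X i)
        haveI : Module.FinitePresentation A (F.X i) := Module.finitePresentation_of_projective A _
        exact ⟨Module.FinitePresentation.of_equiv ι.symm.toLinearEquiv,
          Module.Flat.of_linearEquiv
            (((ModuleCat.restrictScalars (algebraMap R A)).mapIso ι).toLinearEquiv)⟩
  · rintro ⟨E, a, b, hE, hterms, ⟨e⟩⟩
    refine isRelPerfect_of_iso R A e ⟨?_, a, b, ?_⟩
    · apply isPseudoCoherent'_of_terms E b (VanishesOutside.above hE)
      intro i
      haveI := (hterms i).1
      letI : Module R (E.X i) := Module.compHom (E.X i) (algebraMap R A)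
      haveI : IsScalarTower R A (E.X i) :=
        ⟨fun r s x => by
          change (r • s) • x = (algebraMap R A r) • (s • x)
          rw [Algebra.smul_def, mul_smul]⟩
      haveI : Module.Flat R (E.X i) := (hterms i).2
      exact Groth.Agent.Lib.Helper25.PCFlatFP.isPseudoCoherentModule'_of_flat_fp_algebra R A (E.X i)
    · exact ⟨((ModuleCat.restrictScalars.{u} (algebraMap R A)).mapHomologicalComplex
        (ComplexShape.up ℤ)).obj E,
        vanishesOutside_mapHC (ModuleCat.restrictScalars.{u} (algebraMap R A)) E a b hE,
        fun i => (hterms i).2,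
        ⟨((ModuleCat.restrictScalars.{u} (algebraMap R A)).mapDerivedCategoryFactors.app E).symm⟩⟩

end Groth.Agent.S7074
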