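import Groth.Statements.S7085
import Mathlib

set_option autoImplicit false
universe u
open LocCoh

namespace Groth.Agent.S7085

theorem torsionBy_pow_eq_bot {R : Type u} [CommRing R] (I : Ideal R) (M : Type u) [AddCommGroup M]
    [Module R M] (h : LocCoh.torsionBy I M = ⊥) : ∀ n : ℕ, ∀ m : M, (∀ a ∈ I ^ n, a • m = 0) → m = 0 := by
  intro n
  induction n with
  | zero =>
    intro m hm
    have := hm 1 (by simp)
    rwa [one_smul] at this
  | succ n ih =>
    intro m hm
    apply ih
    intro b hb
    have hbm : b • m ∈ LocCoh.torsionBy I M := by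
      rw [Submodule.mem_torsionBySet_iff]
      rintro ⟨a, ha⟩
      show a • b • m = 0
      rw [← mul_smul]
      apply hm
      rw [pow_succ', ]
      exact Ideal.mul_mem_mul ha hb
    rw [h] at hbm
    exact hbm

/-- Let R be a commutative ring, I an ideal generated by finitely many elements f_1, …, f_t, and M an
R-module. Then: M has no nonzero element killed by I if and only if it has no nonzero element killed
by I^n for every n ≥ 1; and M has no nonzero element killed by I if and only if an element of M
vanishing in every localization M_{f_i} is zero. -/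
theorem result {R : Type u} [CommRing R] {t : ℕ} (f : Fin t → R)
    (I : Ideal R) (hI : Ideal.span (Set.range f) = I) (M : Type u) [AddCommGroup M] [Module R M] :
    (LocCoh.torsionBy I M = ⊥ ↔ ∀ n : ℕ, 1 ≤ n → LocCoh.torsionBy (I ^ n) M = ⊥) ∧
    (LocCoh.torsionBy I M = ⊥ ↔
      ∀ m : M, (∀ i : Fin t, LocalizedModule.mkLinearMap (Submonoid.powers (f i)) M m = 0) → m = 0) := by
  constructor
  · constructor
    · intro h n hn
      rw [eq_bot_iff]
      intro m hm
      rw [Submodule.mem_bot]
      apply torsionBy_pow_eq_bot I M h n m
      intro a ha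
      exact (Submodule.mem_torsionBySet_iff _ _).1 hm ⟨a, ha⟩
    · intro h
      have := h 1 le_rfl
      rwa [pow_one] at this
  · constructor
    · intro h m hm
      have hrad : I ≤ ((Submodule.span R ({m} : Set M)).annihilator).radical := by
        rw [← hI, Ideal.span_le]
        rintro _ ⟨i, rfl⟩
        obtain ⟨⟨s, k, hk⟩, hs⟩ := (IsLocalizedModule.eq_zero_iff (Submonoid.powers (f i))
          (LocalizedModule.mkLinearMap (Submonoid.powers (f i)) M)).1 (hm i)
        refine ⟨k, ?_⟩
        rw [Submodule.mem_annihilator_span_singleton]
        have hk' : f i ^ k = s := hk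
        rw [hk']
        exact hs
      have hfg : I.FG := by
        rw [← hI]
        exact Submodule.fg_span (Set.finite_range f)
      obtain ⟨N, hN⟩ := Ideal.exists_pow_le_of_le_radical_of_fg hrad hfg
      apply torsionBy_pow_eq_bot I M h N m
      intro a ha
      exact (Submodule.mem_annihilator_span_singleton m a).1 (hN ha)
    · intro h
      rw [eq_bot_iff]
      intro m hm
      rw [Submodule.mem_bot]
      apply h m
      intro i
      rw [IsLocalizedModule.eq_zero_iff (Submonoid.powers (f i))]
      refine ⟨⟨f i, Submonoid.mem_powers _⟩, ?_⟩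
      have hfi : f i ∈ I := by
        rw [← hI]
        exact Ideal.subset_span ⟨i, rfl⟩
      exact (Submodule.mem_torsionBySet_iff _ _).1 hm ⟨f i, hfi⟩

end Groth.Agent.S7085
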