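import Groth.Statements.S7087
import Mathlib

set_option autoImplicit false
universe u
open LocCoh

namespace Groth.Agent.S7087

/-- Let R be a commutative ring and f_1, …, f_n elements generating an ideal I. Let M be the module with
generators e_1, …, e_n and relations f_i e_j = f_j e_i. Then e_i ↦ f_i defines a surjection M → I
whose kernel is annihilated by I. Elementwise: if a tuple (a_1, …, a_n) in R^n satisfies Σ a_i f_i =
0, then for every b in I the tuple b • a lies in the submodule of R^n spanned by the vectors f_i e_j
− f_j e_i. -/
theorem result {R : Type u} [CommRing R] {n : ℕ} (f : Fin n → R)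
    (a : Fin n → R) (ha : ∑ i, a i * f i = 0) (b : R) (hb : b ∈ Ideal.span (Set.range f)) :
    b • a ∈ Submodule.span R {v : Fin n → R | ∃ i j : Fin n, v = f i • Pi.single j (1 : R) - f j • Pi.single i (1 : R)} := by
  classical
  set S := Submodule.span R {v : Fin n → R | ∃ i j : Fin n,
    v = f i • Pi.single j (1 : R) - f j • Pi.single i (1 : R)} with hS
  -- key: f j • a ∈ S for each j
  have key : ∀ j : Fin n, f j • a ∈ S := by
    intro j
    have h1 : f j • a = ∑ i, a i • (f j • Pi.single i (1 : R) - f i • Pi.single j (1 : R)) := by
      ext l
      simp only [Pi.smul_apply, smul_eq_mul, Finset.sum_apply, Pi.sub_apply, Pi.single_apply,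
        mul_ite, mul_one, mul_zero, mul_sub]
      rw [Finset.sum_sub_distrib]
      simp only [Finset.sum_ite_eq, Finset.mem_univ, if_true]
      by_cases hlj : l = j
      · subst hlj
        simp only [if_true]
        rw [ha]
        ring
      · simp only [if_neg hlj, Finset.sum_const_zero, sub_zero]
        ring
    rw [h1]
    refine Submodule.sum_mem _ fun i _ => Submodule.smul_mem _ _ ?_
    exact Submodule.subset_span ⟨j, i, rfl⟩
  obtain ⟨c, rfl⟩ := (Ideal.mem_span_range_iff_exists_fun).1 hb
  rw [Finset.sum_smul]
  refine Submodule.sum_mem _ fun j _ => ?_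
  rw [mul_smul]
  exact Submodule.smul_mem _ _ (key j)

end Groth.Agent.S7087
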