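import Groth.Statements.S7089
import Mathlib


set_option autoImplicit false
universe u
open CategoryTheory
open LocCoh

namespace Groth.Agent.S7089

open CategoryTheory CategoryTheory.Limits

section cover

variable {R : Type u} [CommRing R] (I : Ideal R)

/-- index type of the cover -/
def Idxq (N : Type u) [AddCommGroup N] [Module R N] : Type u :=
  {x : N // ∃ k : ℕ, ∀ a ∈ I ^ k, a • x = 0}

noncomputable def expoq (N : Type u) [AddCommGroup N] [Module R N] (j : Idxq I N) : ℕ :=
  Classical.choose j.2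

theorem expoq_spec (N : Type u) [AddCommGroup N] [Module R N] (j : Idxq I N) :
    ∀ a ∈ I ^ expoq I N j, a • j.1 = 0 := Classical.choose_spec j.2

/-- the covering module -/
abbrev Covq (N : Type u) [AddCommGroup N] [Module R N] : Type u :=
  DirectSum (Idxq I N) fun j => R ⧸ I ^ expoq I N j

open Classical in
noncomputable def covMapq (N : Type u) [AddCommGroup N] [Module R N] : Covq I N →ₗ[R] N :=
  DirectSum.toModule R (Idxq I N) N fun j =>
    Submodule.liftQ (I ^ expoq I N j) (LinearMap.toSpanSingleton R N j.1) (by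
      intro a ha
      rw [LinearMap.mem_ker, LinearMap.toSpanSingleton_apply]
      exact expoq_spec I N j a ha)

open Classical in
theorem covMapq_lof (N : Type u) [AddCommGroup N] [Module R N] (j : Idxq I N) :
    covMapq I N (DirectSum.lof R (Idxq I N) (fun j => R ⧸ I ^ expoq I N j) j
      (Submodule.Quotient.mk 1)) = j.1 := by
  unfold covMapq
  rw [DirectSum.toModule_lof, Submodule.liftQ_apply, LinearMap.toSpanSingleton_apply, one_smul]

theorem covMapq_surj (N : Type u) [AddCommGroup N] [Module R N] (x : N)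
    (hx : ∃ k : ℕ, ∀ a ∈ I ^ k, a • x = 0) : ∃ y, covMapq I N y = x :=
  ⟨_, covMapq_lof I N ⟨x, hx⟩⟩

theorem quot_kill_q (k : ℕ) (a : R) (ha : a ∈ I ^ k) (c : R ⧸ I ^ k) : a • c = 0 := by
  rw [Algebra.smul_def, Ideal.Quotient.algebraMap_eq, Ideal.Quotient.eq_zero_iff_mem.2 ha,
    zero_mul]

open Classical in
theorem covq_torsion (N : Type u) [AddCommGroup N] [Module R N] :
    LocCoh.IsPowerTorsion I (Covq I N) := by
  intro y
  induction y using DirectSum.induction_on with
  | zero => exact ⟨0, fun a _ => smul_zero a⟩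
  | of j c =>
    refine ⟨expoq I N j, fun a ha => ?_⟩
    have h1 : a • DirectSum.of (fun j => R ⧸ I ^ expoq I N j) j c =
        DirectSum.lof R (Idxq I N) (fun j => R ⧸ I ^ expoq I N j) j (a • c) := by
      rw [LinearMap.map_smul]; rfl
    rw [h1, quot_kill_q I _ a ha c, map_zero]
  | add y z hy hz =>
    obtain ⟨k, hk⟩ := hy
    obtain ⟨l, hl⟩ := hz
    refine ⟨max k l, fun a ha => ?_⟩
    rw [smul_add, hk a (Ideal.pow_le_pow_right (le_max_left _ _) ha),
      hl a (Ideal.pow_le_pow_right (le_max_right _ _) ha), add_zero]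

noncomputable def ovq (N : ModuleCat.{u} R) : ModuleCat.{u} R := ModuleCat.of R (Covq I N)

noncomputable def prq (N : ModuleCat.{u} R) : ovq I N ⟶ N := ModuleCat.ofHom (covMapq I N)

noncomputable def kerObjq {X Y : ModuleCat.{u} R} (f : X ⟶ Y) : ModuleCat.{u} R :=
  ModuleCat.of R (LinearMap.ker f.hom)

noncomputable def kerιq {X Y : ModuleCat.{u} R} (f : X ⟶ Y) : kerObjq f ⟶ X :=
  ModuleCat.ofHom (LinearMap.ker f.hom).subtype

theorem kerιq_comp {X Y : ModuleCat.{u} R} (f : X ⟶ Y) : kerιq f ≫ f = 0 := by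
  apply ModuleCat.hom_ext
  apply LinearMap.ext
  intro y
  exact LinearMap.mem_ker.1 y.2

noncomputable def ddq {X Y : ModuleCat.{u} R} (f : X ⟶ Y) : ovq I (kerObjq f) ⟶ X :=
  prq I (kerObjq f) ≫ kerιq f

theorem ddq_comp {X Y : ModuleCat.{u} R} (f : X ⟶ Y) : ddq I f ≫ f = 0 := by
  rw [ddq, Category.assoc, kerιq_comp, comp_zero]

theorem exact_ddq {X Y : ModuleCat.{u} R} (f : X ⟶ Y) (hX : LocCoh.IsPowerTorsion I X) :
    (ShortComplex.mk (ddq I f) f (ddq_comp I f)).Exact := by
  rw [ShortComplex.moduleCat_exact_iff]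
  intro x hx
  have hxk : x ∈ LinearMap.ker f.hom := hx
  obtain ⟨k, hk⟩ := hX x
  obtain ⟨y, hy⟩ := covMapq_surj I (LinearMap.ker f.hom) ⟨x, hxk⟩
    ⟨k, fun a ha => Subtype.ext (hk a ha)⟩
  refine ⟨y, ?_⟩
  show ((covMapq I (LinearMap.ker f.hom) y : LinearMap.ker f.hom) : X) = x
  rw [hy]

noncomputable def cxq (M : ModuleCat.{u} R) : ChainComplex (ModuleCat.{u} R) ℕ :=
  ChainComplex.mk' (ovq I M) (ovq I (kerObjq (prq I M))) (ddq I (prq I M))
    (fun f => ⟨ovq I (kerObjq f), ddq I f, ddq_comp I f⟩)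

theorem cxq_d_1_0 (M : ModuleCat.{u} R) : (cxq I M).d 1 0 = ddq I (prq I M) :=
  ChainComplex.mk'_d_1_0 _ _ _ _

set_option backward.isDefEq.respectTransparency.types false in
theorem cxq_torsion (M : ModuleCat.{u} R) (n : ℕ) :
    LocCoh.IsPowerTorsion I ((cxq I M).X n) := by
  obtain (_ | _ | _ | n) := n <;> exact covq_torsion I _

set_option backward.isDefEq.respectTransparency.types false in
theorem cxq_form (M : ModuleCat.{u} R) (n : ℕ) :
    ∃ (ι : Type u) (k : ι → ℕ),
      Nonempty ((cxq I M).X n ≅ ModuleCat.of R (DirectSum ι fun j => R ⧸ I ^ k j)) := by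
  obtain (_ | _ | _ | n) := n <;> exact ⟨Idxq I _, expoq I _, ⟨Iso.refl _⟩⟩

set_option backward.isDefEq.respectTransparency.types false in
theorem cxq_exactAt_succ (M : ModuleCat.{u} R) (n : ℕ) : (cxq I M).ExactAt (n + 1) := by
  have hX := cxq_torsion I M (n + 1)
  rw [HomologicalComplex.exactAt_iff' _ (n + 1 + 1) (n + 1) n (by simp) (by simp)]
  simp only [HomologicalComplex.sc', HomologicalComplex.shortComplexFunctor', cxq,
    ChainComplex.mk', ChainComplex.mk, ChainComplex.of_d] at hX ⊢
  match n with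
  | 0 => exact exact_ddq I _ hX
  | n + 1 => exact exact_ddq I _ hX

end cover

/-- Let R be a commutative ring, I an ideal and M an R-module in which every element is killed by a
power of I. Then M has a left resolution by modules each of which is a direct sum of copies of R/I^n
for varying n: there are a chain complex K of R-modules, a quasi-isomorphism from K to M placed in
degree 0, and for each i an isomorphism of K_i with such a direct sum. -/
theorem result {R : Type u} [CommRing R] (I : Ideal R)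
    (M : Type u) [AddCommGroup M] [Module R M] (hM : LocCoh.IsPowerTorsion I M) :
    ∃ (K : ChainComplex (ModuleCat.{u} R) ℕ) (π : K ⟶ (ChainComplex.single₀ (ModuleCat.{u} R)).obj (ModuleCat.of R M)),
      QuasiIso π ∧ ∀ i : ℕ, ∃ (ι : Type u) (n : ι → ℕ),
        Nonempty (K.X i ≅ ModuleCat.of R (DirectSum ι fun j => R ⧸ I ^ n j)) := by
  have hepi : Epi (prq I (ModuleCat.of R M)) :=
    (ModuleCat.epi_iff_surjective _).2 (fun x => covMapq_surj I M x (hM x))
  refine ⟨cxq I (ModuleCat.of R M), (ChainComplex.toSingle₀Equiv _ _).symm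
    ⟨prq I (ModuleCat.of R M), ?_⟩, ?_, cxq_form I _⟩
  · rw [cxq_d_1_0]
    exact ddq_comp I _
  · refine ⟨fun n => ?_⟩
    cases n
    · rw [ChainComplex.quasiIsoAt₀_iff, ShortComplex.quasiIso_iff_of_zeros']
      · refine (ShortComplex.exact_and_epi_g_iff_of_iso ?_).2
          ⟨exact_ddq I (prq I (ModuleCat.of R M)) (covq_torsion I _), hepi⟩
        exact ShortComplex.isoMk (Iso.refl _) (Iso.refl _) (Iso.refl _) 
          (by exact (Category.id_comp _).trans (Category.comp_id _).symm)
          (by exact (Category.id_comp _).trans (Category.comp_id _).symm)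
      all_goals rfl
    · rw [quasiIsoAt_iff_exactAt']
      · apply cxq_exactAt_succ
      · apply ChainComplex.exactAt_succ_single_obj

end Groth.Agent.S7089
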