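import Groth.Statements.S7090
import Mathlib
import Groth.Agent.S2009

set_option autoImplicit false
universe u
open TensorProduct
open EtAlg

namespace Groth.Agent.S7090

section Aux

variable {R S : Type u} [CommRing R] [CommRing S] [Algebra R S] [Module.Flat R S]
  {t : ℕ} (f : Fin t → R)

/-- multiplication by all `f i ^ K`. -/
noncomputable def phi (K : ℕ) (M : Type u) [AddCommGroup M] [Module R M] : M →ₗ[R] (Fin t → M) :=
  LinearMap.pi (fun i => (f i ^ K) • LinearMap.id)

theorem phi_apply (K : ℕ) (M : Type u) [AddCommGroup M] [Module R M] (m : M) (i : Fin t) :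
    phi f K M m i = f i ^ K • m := rfl

theorem mem_ker_phi (K : ℕ) (M : Type u) [AddCommGroup M] [Module R M] (m : M) :
    m ∈ LinearMap.ker (phi f K M) ↔ ∀ i, f i ^ K • m = 0 := by
  rw [LinearMap.mem_ker]
  constructor
  · intro h i
    have := congrFun h i
    rwa [phi_apply, Pi.zero_apply] at this
  · intro h
    funext i
    exact h i

theorem smul_eq_zero_of_le {M : Type*} [AddCommGroup M] [Module R M] (a : R) {e E : ℕ}
    (h : e ≤ E) (y : M) (hy : a ^ e • y = 0) : a ^ E • y = 0 := by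
  obtain ⟨d, rfl⟩ := Nat.exists_eq_add_of_le h
  rw [pow_add, mul_comm, mul_smul, hy, smul_zero]

theorem bij_of_killed (hq : Function.Bijective
      (Ideal.quotientMap (Ideal.map (algebraMap R S) (Ideal.span (Set.range f)))
        (algebraMap R S) Ideal.le_comap_map))
    (P : Type u) [AddCommGroup P] [Module R P]
    (hP : ∀ i, ∃ e : ℕ, ∀ p : P, f i ^ e • p = 0) :
    Function.Bijective (TensorProduct.mk R S P 1) := by
  have hrad : Ideal.span (Set.range f) ≤ (Module.annihilator R P).radical := by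
    rw [Ideal.span_le]
    rintro _ ⟨i, rfl⟩
    obtain ⟨e, he⟩ := hP i
    exact ⟨e, Module.mem_annihilator.2 he⟩
  obtain ⟨n, hn⟩ := Ideal.exists_pow_le_of_le_radical_of_fg hrad
    (Submodule.fg_span (Set.finite_range f))
  exact Groth.Agent.S2009.bijective_of_pow_killed _ hq n P
    (fun a ha p => Module.mem_annihilator.1 (hn ha) p)

theorem L0 (hq : Function.Bijective
      (Ideal.quotientMap (Ideal.map (algebraMap R S) (Ideal.span (Set.range f)))
        (algebraMap R S) Ideal.le_comap_map))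
    (M : Type u) [AddCommGroup M] [Module R M] (m : M)
    (hm : ∀ i, ∃ e : ℕ, f i ^ e • m = 0) (h0 : (1 : S) ⊗ₜ[R] m = 0) : m = 0 := by
  choose e he using hm
  obtain ⟨K, hK⟩ : ∃ K, ∀ i, e i ≤ K := ⟨∑ i, e i, fun i =>
    Finset.single_le_sum (fun _ _ => Nat.zero_le _) (Finset.mem_univ i)⟩
  have hKm : ∀ i, f i ^ K • m = 0 := fun i => smul_eq_zero_of_le _ (hK i) _ (he i)
  have hmP : m ∈ LinearMap.ker (phi f K M) := (mem_ker_phi f K M m).2 hKm
  have hbij := bij_of_killed f hq (LinearMap.ker (phi f K M))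
    (fun i => ⟨K, fun p => Subtype.ext (by simpa using (mem_ker_phi f K M p.1).1 p.2 i)⟩)
  have hinj : Function.Injective ((LinearMap.ker (phi f K M)).subtype.lTensor S) :=
    Module.Flat.lTensor_preserves_injective_linearMap _ (Submodule.injective_subtype _)
  have h1 : ((LinearMap.ker (phi f K M)).subtype.lTensor S)
      ((1 : S) ⊗ₜ[R] (⟨m, hmP⟩ : LinearMap.ker (phi f K M))) = 0 := by
    rw [LinearMap.lTensor_tmul]; exact h0
  have h2 : (1 : S) ⊗ₜ[R] (⟨m, hmP⟩ : LinearMap.ker (phi f K M)) = 0 :=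
    hinj (by rw [h1, map_zero])
  have h3 : (⟨m, hmP⟩ : LinearMap.ker (phi f K M)) = 0 := hbij.1 (by
    show (1 : S) ⊗ₜ[R] (⟨m, hmP⟩ : LinearMap.ker (phi f K M)) = TensorProduct.mk R S _ 1 0
    rw [h2, map_zero])
  exact congrArg Subtype.val h3

theorem L1 (hq : Function.Bijective
      (Ideal.quotientMap (Ideal.map (algebraMap R S) (Ideal.span (Set.range f)))
        (algebraMap R S) Ideal.le_comap_map))
    (K : ℕ) (M : Type u) [AddCommGroup M] [Module R M] (y : S ⊗[R] M)
    (hy : ∀ i, f i ^ K • y = 0) :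
    ∃ τ : M, (∀ i, f i ^ K • τ = 0) ∧ (1 : S) ⊗ₜ[R] τ = y := by
  classical
  have hex : Function.Exact ((LinearMap.ker (phi f K M)).subtype.lTensor S)
      ((phi f K M).lTensor S) :=
    Module.Flat.lTensor_exact S (LinearMap.exact_subtype_ker_map (phi f K M))
  have hcomp : ∀ (z : S ⊗[R] M) (i : Fin t),
      TensorProduct.piRightHom R R S (fun _ : Fin t => M) ((phi f K M).lTensor S z) i
        = f i ^ K • z := by
    intro z i
    induction z using TensorProduct.induction_on with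
    | zero => simp
    | tmul s m =>
      rw [LinearMap.lTensor_tmul, TensorProduct.piRightHom_tmul]
      show s ⊗ₜ[R] (phi f K M m i) = _
      rw [phi_apply, TensorProduct.tmul_smul]
    | add a b ha hb => rw [map_add, map_add, Pi.add_apply, ha, hb, smul_add]
  have hz : (phi f K M).lTensor S y = 0 := by
    apply (TensorProduct.piRight R R S (fun _ : Fin t => M)).injective
    rw [map_zero]
    funext i
    rw [TensorProduct.piRight_apply, hcomp, hy i]; rfl
  obtain ⟨z, hz'⟩ := (hex y).1 hz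
  have hbij := bij_of_killed f hq (LinearMap.ker (phi f K M))
    (fun i => ⟨K, fun p => Subtype.ext (by simpa using (mem_ker_phi f K M p.1).1 p.2 i)⟩)
  obtain ⟨τ, hτ⟩ := hbij.2 z
  refine ⟨τ.1, fun i => (mem_ker_phi f K M τ.1).1 τ.2 i, ?_⟩
  rw [← hz', ← hτ]
  show _ = ((LinearMap.ker (phi f K M)).subtype.lTensor S) ((1 : S) ⊗ₜ[R] τ)
  rw [LinearMap.lTensor_tmul]; rfl

theorem tensorOfLoc_mk (a : R) (M : Type u) [AddCommGroup M] [Module R M] (m : M)
    (s : Submonoid.powers a) :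
    EtGlue.tensorOfLoc R S a M (LocalizedModule.mk m s)
      = LocalizedModule.mk ((1 : S) ⊗ₜ[R] m) s := by
  unfold EtGlue.tensorOfLoc
  rw [IsLocalizedModule.mk_eq_mk' s m, IsLocalizedModule.map_mk',
    ← IsLocalizedModule.mk_eq_mk']
  rfl

theorem core (hq : Function.Bijective
      (Ideal.quotientMap (Ideal.map (algebraMap R S) (Ideal.span (Set.range f)))
        (algebraMap R S) Ideal.le_comap_map))
    (M : Type u) [AddCommGroup M] [Module R M] (K : ℕ) (n : Fin t → M) (x : S ⊗[R] M)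
    (hA : ∀ i j, f j ^ K • n i = f i ^ K • n j)
    (hB : ∀ i, f i ^ K • x = (1 : S) ⊗ₜ[R] n i) :
    ∃ μ : M, (1 : S) ⊗ₜ[R] μ = x ∧ ∀ i, f i ^ K • μ = n i := by
  classical
  let W : Submodule R (M × R) :=
    Submodule.span R (Set.range fun i => ((-n i, f i ^ K) : M × R))
  let g : M →ₗ[R] (M × R) ⧸ W := W.mkQ ∘ₗ LinearMap.inl R M R
  let X : (M × R) ⧸ W := W.mkQ ((0, 1) : M × R)
  have hrel : ∀ i, f i ^ K • X = g (n i) := by
    intro i
    show f i ^ K • W.mkQ ((0, 1) : M × R) = W.mkQ ((n i, 0) : M × R)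
    rw [← map_smul, ← sub_eq_zero, ← map_sub, Submodule.mkQ_apply,
      Submodule.Quotient.mk_eq_zero]
    have : f i ^ K • ((0, 1) : M × R) - ((n i, 0) : M × R) = ((-n i, f i ^ K) : M × R) := by
      ext <;> simp
    rw [this]
    exact Submodule.subset_span ⟨i, rfl⟩
  let ψ00 : M × R →ₗ[R] S ⊗[R] M :=
    LinearMap.coprod (TensorProduct.mk R S M 1) (LinearMap.toSpanSingleton R (S ⊗[R] M) x)
  have hW : W ≤ LinearMap.ker ψ00 := by
    rw [Submodule.span_le]
    rintro _ ⟨i, rfl⟩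
    show ψ00 ((-n i, f i ^ K) : M × R) = 0
    simp only [ψ00, LinearMap.coprod_apply, TensorProduct.mk_apply,
      LinearMap.toSpanSingleton_apply, TensorProduct.tmul_neg]
    rw [hB i]; simp
  let ψ0 : (M × R) ⧸ W →ₗ[R] S ⊗[R] M := W.liftQ ψ00 hW
  have hψ0g : ∀ m, ψ0 (g m) = (1 : S) ⊗ₜ[R] m := by
    intro m
    show ψ00 ((m, 0) : M × R) = _
    simp [ψ00]
  let ψ : S ⊗[R] ((M × R) ⧸ W) →ₗ[S] S ⊗[R] M := LinearMap.liftBaseChange S ψ0
  have hψg : ∀ y : S ⊗[R] M, ψ (g.lTensor S y) = y := by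
    intro y
    induction y using TensorProduct.induction_on with
    | zero => simp
    | tmul s m =>
      rw [LinearMap.lTensor_tmul, LinearMap.liftBaseChange_tmul, hψ0g,
        TensorProduct.smul_tmul', smul_eq_mul, mul_one]
    | add a b ha hb => rw [map_add, map_add, ha, hb]
  let IK : Ideal R := Ideal.span (Set.range fun i => f i ^ K)
  let c0 : M × R →ₗ[R] R ⧸ IK :=
    (Ideal.Quotient.mkₐ R IK).toLinearMap ∘ₗ LinearMap.snd R M R
  have hW' : W ≤ LinearMap.ker c0 := by
    rw [Submodule.span_le]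
    rintro _ ⟨i, rfl⟩
    show Ideal.Quotient.mk IK (f i ^ K) = 0
    exact Ideal.Quotient.eq_zero_iff_mem.2 (Ideal.subset_span ⟨i, rfl⟩)
  let c : (M × R) ⧸ W →ₗ[R] R ⧸ IK := W.liftQ c0 hW'
  have hcg : c ∘ₗ g = 0 := by
    ext m
    show Ideal.Quotient.mk IK (0 : R) = 0
    exact map_zero _
  have hker : ∀ z : (M × R) ⧸ W, c z = 0 → ∃ m, g m = z := by
    intro z hz
    obtain ⟨⟨m, r⟩, rfl⟩ := W.mkQ_surjective z
    have hr : r ∈ IK := Ideal.Quotient.eq_zero_iff_mem.1 hz
    obtain ⟨a, ha⟩ := Ideal.mem_span_range_iff_exists_fun.1 hr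
    refine ⟨m + ∑ i, a i • n i, ?_⟩
    show W.mkQ ((m + ∑ i, a i • n i, 0) : M × R) = W.mkQ ((m, r) : M × R)
    rw [← sub_eq_zero, ← map_sub, Submodule.mkQ_apply, Submodule.Quotient.mk_eq_zero]
    have : ((m + ∑ i, a i • n i, 0) : M × R) - (m, r)
        = - ∑ i, a i • ((-n i, f i ^ K) : M × R) := by
      ext
      · simp [Prod.fst_sum]
      · simp [Prod.snd_sum, ← ha]
    rw [this]
    exact W.neg_mem (W.sum_mem fun i _ => W.smul_mem _ (Submodule.subset_span ⟨i, rfl⟩))
  obtain ⟨ξ, hξdef⟩ : ∃ ξ : S ⊗[R] ((M × R) ⧸ W), ξ = (1 : S) ⊗ₜ[R] X - g.lTensor S x :=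
    ⟨_, rfl⟩
  have hξ : ∀ i, f i ^ K • ξ = 0 := by
    intro i
    rw [hξdef, smul_sub, ← TensorProduct.tmul_smul, hrel i, ← map_smul, hB i,
      LinearMap.lTensor_tmul, sub_self]
  obtain ⟨τ, hτ, hτξ⟩ := L1 f hq K ((M × R) ⧸ W) ξ hξ
  have h1 : (1 : S) ⊗ₜ[R] (X - τ) = g.lTensor S x := by
    rw [TensorProduct.tmul_sub, hτξ, hξdef]; abel
  have h2 : (1 : S) ⊗ₜ[R] c (X - τ) = 0 := by
    have := congrArg (c.lTensor S) h1
    rw [LinearMap.lTensor_tmul, ← LinearMap.comp_apply, ← LinearMap.lTensor_comp, hcg,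
      LinearMap.lTensor_zero, LinearMap.zero_apply] at this
    exact this
  have h3 : c (X - τ) = 0 := by
    apply L0 f hq (R ⧸ IK) _ _ h2
    intro i
    refine ⟨K, ?_⟩
    obtain ⟨r, hr⟩ := Ideal.Quotient.mk_surjective (c (X - τ))
    rw [← hr, Algebra.smul_def, Ideal.Quotient.algebraMap_eq, ← map_mul]
    exact Ideal.Quotient.eq_zero_iff_mem.2 (IK.mul_mem_right _ (Ideal.subset_span ⟨i, rfl⟩))
  obtain ⟨μ, hμ⟩ := hker _ h3
  have hμx : (1 : S) ⊗ₜ[R] μ = x := by
    have := congrArg ψ h1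
    rw [← hμ, hψg, LinearMap.liftBaseChange_tmul, one_smul, hψ0g] at this
    exact this
  refine ⟨μ, hμx, fun i => ?_⟩
  rw [← sub_eq_zero]
  apply L0 f hq M
  · have hgw : g (f i ^ K • μ - n i) = 0 := by
      rw [map_sub, map_smul, hμ, ← hrel i, smul_sub, hτ i]; abel
    have hmem : ((f i ^ K • μ - n i, 0) : M × R) ∈ W :=
      (Submodule.Quotient.mk_eq_zero W).1 hgw
    obtain ⟨r, hr⟩ := (Submodule.mem_span_range_iff_exists_fun R).1 hmem
    have hr1 : ∑ j, r j • (- n j) = f i ^ K • μ - n i := by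
      have := congrArg Prod.fst hr
      simpa [Prod.fst_sum] using this
    have hr2 : ∑ j, r j * f j ^ K = 0 := by
      have := congrArg Prod.snd hr
      simpa [Prod.snd_sum] using this
    intro l
    refine ⟨K, ?_⟩
    rw [← hr1, Finset.smul_sum]
    calc ∑ j, f l ^ K • r j • (- n j) = ∑ j, -((r j * f j ^ K) • n l) := by
          refine Finset.sum_congr rfl fun j _ => ?_
          rw [smul_neg, smul_neg, smul_comm, hA j l, smul_smul]
      _ = 0 := by rw [Finset.sum_neg_distrib, ← Finset.sum_smul, hr2, zero_smul, neg_zero]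
  · rw [TensorProduct.tmul_sub, TensorProduct.tmul_smul, hμx, hB i, sub_self]

end Aux


/-- Let R → S be a flat homomorphism of commutative rings and I = (f_1, …, f_t) a finitely generated
ideal such that R/I → S/IS is bijective. Then for every R-module M the glueing complex 0 → M → (S
⊗_R M) × ∏ M_{f_i} → ∏ (S ⊗_R M)_{f_i} × ∏ M_{f_i f_j} is exact. Concretely: an element of M with
zero image in S ⊗_R M and in every M_{f_i} is zero; and given x in S ⊗_R M and elements m_1, …, m_t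
of M and N ≥ 0 such that x and m_i / f_i^N have the same image in (S ⊗_R M)_{f_i} for each i, and
m_i / f_i^N, m_j / f_j^N have the same image in M_{f_i f_j} for all i, j, there is m in M with 1 ⊗ m
= x and m / 1 = m_i / f_i^N in M_{f_i} for every i. -/
theorem result {R S : Type u} [CommRing R] [CommRing S] [Algebra R S] [Module.Flat R S]
    {t : ℕ} (f : Fin t → R) (I : Ideal R) (hI : Ideal.span (Set.range f) = I)
    (hq : Function.Bijective
      (Ideal.quotientMap (Ideal.map (algebraMap R S) I) (algebraMap R S) Ideal.le_comap_map))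
    (M : Type u) [AddCommGroup M] [Module R M] :
    (∀ m : M, (1 : S) ⊗ₜ[R] m = 0 →
        (∀ i : Fin t, LocalizedModule.mkLinearMap (Submonoid.powers (f i)) M m = 0) → m = 0) ∧
    ∀ (x : S ⊗[R] M) (N : ℕ) (m : Fin t → M),
      (∀ i : Fin t, EtGlue.locOfTensor R S (f i) M x =
          EtGlue.tensorOfLoc R S (f i) M (LocalizedModule.mk (m i) ⟨f i ^ N, Submonoid.pow_mem _ (Submonoid.mem_powers (f i)) N⟩)) →
      (∀ i j : Fin t, ∃ e : ℕ, (f i * f j) ^ e • (f j ^ N • m i - f i ^ N • m j) = 0) →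
        ∃ μ : M, (1 : S) ⊗ₜ[R] μ = x ∧
          ∀ i : Fin t, LocalizedModule.mkLinearMap (Submonoid.powers (f i)) M μ =
            LocalizedModule.mk (m i) ⟨f i ^ N, Submonoid.pow_mem _ (Submonoid.mem_powers (f i)) N⟩ := by
  subst hI
  refine ⟨fun m hm hloc => ?_, fun x N m h1 h2 => ?_⟩
  · apply L0 f hq M m _ hm
    intro i
    have := hloc i
    rw [IsLocalizedModule.eq_zero_iff (Submonoid.powers (f i))] at this
    obtain ⟨⟨_, e, rfl⟩, he⟩ := this
    exact ⟨e, he⟩
  · have h1' : ∀ i, ∃ e : ℕ, f i ^ e • (f i ^ N • x - (1 : S) ⊗ₜ[R] m i) = 0 := by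
      intro i
      have := h1 i
      rw [tensorOfLoc_mk, LocalizedModule.mkLinearMap_apply, LocalizedModule.mk_eq] at this
      obtain ⟨⟨_, e, rfl⟩, he⟩ := this
      refine ⟨e, ?_⟩
      simp only [Submonoid.smul_def, one_smul] at he
      rw [smul_sub, he, sub_self]
    choose e1 he1 using h1'
    choose e2 he2 using h2
    obtain ⟨E, hE1, hE2⟩ : ∃ E, (∀ i, e1 i ≤ E) ∧ (∀ i j, e2 i j ≤ E) :=
      ⟨∑ i, e1 i + ∑ i, ∑ j, e2 i j,
        fun i => le_trans (Finset.single_le_sum (fun _ _ => Nat.zero_le _) (Finset.mem_univ i))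
          (Nat.le_add_right _ _),
        fun i j => le_trans (le_trans
          (Finset.single_le_sum (f := fun j => e2 i j) (fun _ _ => Nat.zero_le _)
            (Finset.mem_univ j))
          (Finset.single_le_sum (f := fun i => ∑ j, e2 i j) (fun _ _ => Nat.zero_le _)
            (Finset.mem_univ i))) (Nat.le_add_left _ _)⟩
    have hA' : ∀ i j, f j ^ (N + E) • f i ^ E • m i = f i ^ (N + E) • f j ^ E • m j := by
      intro i j
      have key : f j ^ (N + E) • f i ^ E • m i - f i ^ (N + E) • f j ^ E • m j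
          = (f i * f j) ^ E • (f j ^ N • m i - f i ^ N • m j) := by
        simp only [smul_sub, smul_smul]
        congr 1 <;> (congr 1; ring)
      rw [← sub_eq_zero, key]
      exact smul_eq_zero_of_le _ (hE2 i j) _ (he2 i j)
    have hB' : ∀ i, f i ^ (N + E) • x = (1 : S) ⊗ₜ[R] (f i ^ E • m i) := by
      intro i
      have key : f i ^ (N + E) • x - (1 : S) ⊗ₜ[R] (f i ^ E • m i)
          = f i ^ E • (f i ^ N • x - (1 : S) ⊗ₜ[R] m i) := by
        rw [smul_sub, smul_smul, ← pow_add, add_comm E N, TensorProduct.tmul_smul]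
      rw [← sub_eq_zero, key]
      exact smul_eq_zero_of_le (M := S ⊗[R] M) (f i) (hE1 i) _ (he1 i)
    obtain ⟨μ, hμ1, hμ2⟩ := core f hq M (N + E) (fun i => f i ^ E • m i) x hA' hB'
    refine ⟨μ, hμ1, fun i => ?_⟩
    rw [LocalizedModule.mkLinearMap_apply, LocalizedModule.mk_eq]
    refine ⟨⟨f i ^ E, E, rfl⟩, ?_⟩
    simp only [Submonoid.smul_def, one_smul]
    rw [smul_smul, ← pow_add, add_comm E N]
    exact hμ2 i

end Groth.Agent.S7090
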