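import Groth.Statements.S7113
import Groth.Agent.Lib.Lead.SerreMaxMain

set_option autoImplicit false
universe u
open CAlg

namespace Groth.Agent.S7113

open Module TopologicalSpace Groth.Agent.Lib.Lead.SerreMax

/-- A free direct summand of rank `d + 1` of the localization at `x` forces `dim V(x) ≥ d + 1`. -/
theorem finrank_ge_of_local {R : Type u} [CommRing R] {M : Type u} [AddCommGroup M] [Module R M]
    [Module.FinitePresentation R M] (x : MaximalSpectrum R) (d : ℕ)
    (f : (Fin (d + 1) → Localization.AtPrime x.asIdeal) →ₗ[Localization.AtPrime x.asIdeal]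
      LocalizedModule x.asIdeal.primeCompl M)
    (g : LocalizedModule x.asIdeal.primeCompl M →ₗ[Localization.AtPrime x.asIdeal]
      (Fin (d + 1) → Localization.AtPrime x.asIdeal))
    (hgf : g ∘ₗ f = LinearMap.id) :
    d + 1 ≤ finrank (R ⧸ x.asIdeal) (Vq M x) := by
  classical
  choose mt hmt using fun j : Fin (d + 1) =>
    IsLocalizedModule.surj x.asIdeal.primeCompl
      (LocalizedModule.mkLinearMap x.asIdeal.primeCompl M)
      (f (Pi.single j 1))
  let G : Fin (d + 1) → M →ₗ[R] Localization.AtPrime x.asIdeal := fun i =>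
    ((LinearMap.proj i ∘ₗ g).restrictScalars R) ∘ₗ
      LocalizedModule.mkLinearMap x.asIdeal.primeCompl M
  choose φ u hφ using fun i =>
    Module.FinitePresentation.exists_lift_of_isLocalizedModule x.asIdeal.primeCompl
      (Algebra.linearMap R (Localization.AtPrime x.asIdeal)) (G i)
  have hval : ∀ i j, algebraMap R (Localization.AtPrime x.asIdeal) (φ i (mt j).1) =
      algebraMap R (Localization.AtPrime x.asIdeal) ((u i : R) * ((mt j).2 : R)) *
        (if i = j then 1 else 0) := by
    intro i j
    have h1 : algebraMap R (Localization.AtPrime x.asIdeal) (φ i (mt j).1) =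
        (u i : R) • (g (LocalizedModule.mkLinearMap x.asIdeal.primeCompl M (mt j).1)) i :=
      LinearMap.congr_fun (hφ i) (mt j).1
    have h2 : g (LocalizedModule.mkLinearMap x.asIdeal.primeCompl M (mt j).1) =
        algebraMap R (Localization.AtPrime x.asIdeal) ((mt j).2 : R) •
          (Pi.single j 1 : Fin (d + 1) → Localization.AtPrime x.asIdeal) := by
      rw [← hmt j, Submonoid.smul_def,
        ← algebraMap_smul (Localization.AtPrime x.asIdeal) ((mt j).2 : R) (f (Pi.single j 1)),
        map_smul]
      congr 1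
      exact LinearMap.congr_fun hgf (Pi.single j 1)
    rw [h1, h2, Pi.smul_apply, Pi.single_apply, Algebra.smul_def, smul_eq_mul, map_mul]
    split_ifs <;> ring
  have hval_ne : ∀ i j, i ≠ j → φ i (mt j).1 ∈ x.asIdeal := by
    intro i j hij
    have h1 := hval i j
    rw [if_neg hij, mul_zero] at h1
    obtain ⟨c, hc⟩ := (IsLocalization.map_eq_zero_iff x.asIdeal.primeCompl
      (Localization.AtPrime x.asIdeal) _).1 h1
    have h2 : (c : R) * φ i (mt j).1 ∈ x.asIdeal := by rw [hc]; exact Ideal.zero_mem _
    rcases x.isMaximal.isPrime.mem_or_mem h2 with h3 | h3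
    · exact absurd h3 c.2
    · exact h3
  have hval_eq : ∀ i, φ i (mt i).1 ∉ x.asIdeal := by
    intro i hmem
    have h1 := hval i i
    rw [if_pos rfl, mul_one] at h1
    have h2 : IsUnit (algebraMap R (Localization.AtPrime x.asIdeal) (φ i (mt i).1)) := by
      rw [h1]
      exact IsLocalization.map_units (Localization.AtPrime x.asIdeal) (u i * (mt i).2)
    exact ((IsLocalization.AtPrime.isUnit_to_map_iff (Localization.AtPrime x.asIdeal)
      x.asIdeal _).1 h2) hmem
  have hli : LinearIndependent (R ⧸ x.asIdeal) (fun j => img M x (mt j).1) := by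
    rw [Fintype.linearIndependent_iff]
    intro γ hγ i
    choose rr hrr using fun b => Ideal.Quotient.mk_surjective (γ b)
    have h1 : img M x (∑ b, rr b • (mt b).1) = 0 := by
      rw [img_sum]
      simp only [hrr]
      exact hγ
    have h2 := (img_eq_zero_iff M x _).1 h1 (φ i)
    rw [map_sum, ← Finset.add_sum_erase _ _ (Finset.mem_univ i)] at h2
    have h3 : ∑ b ∈ Finset.univ.erase i, φ i (rr b • (mt b).1) ∈ x.asIdeal :=
      Ideal.sum_mem _ fun b hb => by
        rw [map_smul, smul_eq_mul]
        exact Ideal.mul_mem_left _ _ (hval_ne i b (Finset.ne_of_mem_erase hb).symm)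
    have h4 : φ i (rr i • (mt i).1) ∈ x.asIdeal := (Ideal.add_mem_iff_left _ h3).1 h2
    rw [map_smul, smul_eq_mul] at h4
    rcases x.isMaximal.isPrime.mem_or_mem h4 with h5 | h5
    · rw [← hrr i]
      exact Ideal.Quotient.eq_zero_iff_mem.2 h5
    · exact absurd h5 (hval_eq i)
  haveI := x.isMaximal
  letI : Field (R ⧸ x.asIdeal) := Ideal.Quotient.field x.asIdeal
  have h6 := hli.fintype_card_le_finrank
  rwa [Fintype.card_fin] at h6

/-- Let R be a ring whose set of maximal ideals, with the Zariski topology, is a Noetherian topological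
space of Krull dimension at most d, and let M be an R-module of finite presentation whose
localization M_m at each maximal ideal m contains a free direct summand of rank d + 1. Then M is
isomorphic to R ⊕ M' for some M': there are s in M and a linear form φ on M with φ(s) = 1. (The
published statement takes the dimension equal to d; a space of smaller dimension satisfies the
hypothesis for a smaller d, so the bound form is equivalent.) -/
theorem result (R : Type u) [CommRing R] (d : ℕ)
    [TopologicalSpace.NoetherianSpace (MaximalSpectrum R)]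
    (hdim : topologicalKrullDim (MaximalSpectrum R) ≤ d)
    (M : Type u) [AddCommGroup M] [Module R M] [Module.FinitePresentation R M]
    (hM : ∀ (m : Ideal R) [m.IsMaximal],
      ∃ (f : (Fin (d + 1) → Localization.AtPrime m) →ₗ[Localization.AtPrime m] LocalizedModule m.primeCompl M)
        (g : LocalizedModule m.primeCompl M →ₗ[Localization.AtPrime m] (Fin (d + 1) → Localization.AtPrime m)),
        g ∘ₗ f = LinearMap.id) :
    ∃ (s : M) (φ : M →ₗ[R] R), φ s = 1 := by
  classical
  have H1 : ∀ x : MaximalSpectrum R, 0 + (d + 1) ≤ finrank (R ⧸ x.asIdeal) (Vq M x) := by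
    intro x
    obtain ⟨f, g, hgf⟩ := hM x.asIdeal
    rw [zero_add]
    exact finrank_ge_of_local x d f g hgf
  have H2 : ∀ x : MaximalSpectrum R,
      ¬ LinearIndependent (R ⧸ x.asIdeal) (fun i : Fin 0 => img M x (Fin.elim0 i)) →
        x ∈ (∅ : Set (MaximalSpectrum R)) :=
    fun x hn => absurd linearIndependent_empty_type hn
  obtain ⟨t, F', -, -, hb, hc⟩ := main R M 0 (fun i => Fin.elim0 i) ∅ isClosed_empty 0
    (fun i => Fin.elim0 i) (fun a => Fin.elim0 a) (fun i => Fin.elim0 i) (fun i => Fin.elim0 i)
    (d + 1) H1 H2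
  -- `F'` is empty for dimension reasons
  have hF'empty : ∀ x : MaximalSpectrum R, x ∉ F' := by
    intro x hx
    let Z : IrreducibleCloseds (MaximalSpectrum R) :=
      ⟨{x}, isIrreducible_singleton, isClosed_singleton⟩
    have h1 : ((d + 1 : ℕ) : ℕ∞) ≤ Order.coheight Z :=
      hc Z (Set.singleton_subset_iff.2 hx)
    have h2 : ((Order.coheight Z : ℕ∞) : WithBot ℕ∞) ≤
        topologicalKrullDim (MaximalSpectrum R) := Order.coheight_le_krullDim Z
    have h3 : Order.coheight Z ≤ (d : ℕ∞) := by exact_mod_cast h2.trans hdim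
    have h4 : ((d + 1 : ℕ) : ℕ∞) ≤ (d : ℕ∞) := h1.trans h3
    have h5 : d + 1 ≤ d := by exact_mod_cast h4
    omega
  -- hence `t` is nowhere zero
  have hne : ∀ x : MaximalSpectrum R, ∃ φ : M →ₗ[R] R, φ t ∉ x.asIdeal := by
    intro x
    by_contra hall
    push_neg at hall
    have h0 : img M x t = 0 := (img_eq_zero_iff M x t).2 hall
    have hx := hb x (by
      intro hli
      have h1 := hli.ne_zero (Fin.last 0)
      apply h1
      rw [Fin.snoc_last]
      exact h0)
    rcases hx with hx | hx
    · exact hx
    · exact hF'empty x hx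
  -- the order ideal of `t` is the unit ideal
  let O : Ideal R := LinearMap.range ((LinearMap.applyₗ t : (M →ₗ[R] R) →ₗ[R] R))
  have hO : O = ⊤ := by
    by_contra hne'
    obtain ⟨m, hm, hOm⟩ := Ideal.exists_le_maximal O hne'
    obtain ⟨φ, hφ⟩ := hne ⟨m, hm⟩
    exact hφ (hOm ⟨φ, rfl⟩)
  have h1 : (1 : R) ∈ O := by rw [hO]; exact Submodule.mem_top
  obtain ⟨φ, hφ⟩ := h1
  exact ⟨t, φ, hφ⟩

end Groth.Agent.S7113
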