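import Groth.Statements.S7114
import Mathlib

set_option autoImplicit false
universe u
open CAlg

namespace Groth.Agent.S7114

section aux

variable {R : Type u} [CommRing R] (x : R) (n : ℕ)

/-- natural surjection `R/(x^(n+1)) → R/(x^n)` -/
noncomputable def gmap : (R ⧸ Ideal.span {x ^ (n + 1)}) →ₗ[R] (R ⧸ Ideal.span {x ^ n}) :=
  Submodule.mapQ (Ideal.span {x ^ (n + 1)}) (Ideal.span {x ^ n}) LinearMap.id (by
    intro r hr
    rw [Ideal.mem_span_singleton] at hr
    show r ∈ Ideal.span {x ^ n}
    rw [Ideal.mem_span_singleton]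
    exact dvd_trans (pow_dvd_pow x (Nat.le_succ n)) hr)

/-- multiplication by `x^n`: `R/(x) → R/(x^(n+1))` -/
noncomputable def fmap : (R ⧸ Ideal.span {x}) →ₗ[R] (R ⧸ Ideal.span {x ^ (n + 1)}) :=
  Submodule.mapQ (Ideal.span {x}) (Ideal.span {x ^ (n + 1)}) (LinearMap.lsmul R R (x ^ n)) (by
    intro r hr
    rw [Ideal.mem_span_singleton] at hr
    show x ^ n • r ∈ Ideal.span {x ^ (n + 1)}
    rw [Ideal.mem_span_singleton, smul_eq_mul, pow_succ]
    exact mul_dvd_mul_left _ hr)

theorem gmap_mk (r : R) : gmap x n (Submodule.Quotient.mk r) = Submodule.Quotient.mk r := rfl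

theorem fmap_mk (r : R) : fmap x n (Submodule.Quotient.mk r) = Submodule.Quotient.mk (x ^ n * r) := rfl

theorem gmap_surjective : Function.Surjective (gmap x n) := by
  intro y
  obtain ⟨r, rfl⟩ := Submodule.Quotient.mk_surjective _ y
  exact ⟨Submodule.Quotient.mk r, rfl⟩

theorem exact_fmap_gmap : Function.Exact (fmap x n) (gmap x n) := by
  intro y
  obtain ⟨r, rfl⟩ := Submodule.Quotient.mk_surjective _ y
  rw [gmap_mk, Submodule.Quotient.mk_eq_zero]
  constructor
  · intro hr
    obtain ⟨t, rfl⟩ := Ideal.mem_span_singleton.1 hr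
    exact ⟨Submodule.Quotient.mk t, fmap_mk x n t⟩
  · rintro ⟨z, hz⟩
    obtain ⟨t, rfl⟩ := Submodule.Quotient.mk_surjective _ z
    rw [fmap_mk, Submodule.Quotient.eq] at hz
    have h1 : x ^ n * t - r ∈ Ideal.span {x ^ n} := by
      have hle : Ideal.span {x ^ (n + 1)} ≤ Ideal.span {x ^ n} := by
        rw [Ideal.span_singleton_le_span_singleton]
        exact pow_dvd_pow x (Nat.le_succ n)
      exact hle hz
    have h2 : x ^ n * t ∈ Ideal.span {x ^ n} := Ideal.mem_span_singleton.2 (dvd_mul_right _ _)
    have := Ideal.sub_mem _ h2 h1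
    rwa [sub_sub_cancel] at this

theorem fmap_injective (hx : x ∈ nonZeroDivisors R) : Function.Injective (fmap x n) := by
  rw [← LinearMap.ker_eq_bot, LinearMap.ker_eq_bot']
  intro z hz
  obtain ⟨t, rfl⟩ := Submodule.Quotient.mk_surjective _ z
  rw [fmap_mk, Submodule.Quotient.mk_eq_zero] at hz
  rw [Submodule.Quotient.mk_eq_zero]
  obtain ⟨w, hw⟩ := Ideal.mem_span_singleton.1 hz
  -- x^n * t = x^(n+1) * w
  have hxn : x ^ n ∈ nonZeroDivisors R := pow_mem hx n
  have h : x ^ n * (t - x * w) = 0 := by
    rw [mul_sub, hw, pow_succ]; ring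
  have h' : t - x * w = 0 := by
    have := (mem_nonZeroDivisors_iff.1 hxn).1 (t - x * w)
    rw [mul_comm] at h
    exact (mem_nonZeroDivisors_iff.1 hxn).2 _ h
  rw [sub_eq_zero] at h'
  show t ∈ Ideal.span {x}
  rw [Ideal.mem_span_singleton, h']
  exact dvd_mul_right _ _

theorem length_succ :
    Module.length R (R ⧸ Ideal.span {x ^ (n + 1)}) =
      Module.length R (LinearMap.range (fmap x n)) + Module.length R (R ⧸ Ideal.span {x ^ n}) := by
  have hex : Function.Exact (LinearMap.range (fmap x n)).subtype (gmap x n) := by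
    intro y
    rw [exact_fmap_gmap x n y]
    simp
  exact Module.length_eq_add_of_exact (LinearMap.range (fmap x n)).subtype (gmap x n)
    (Submodule.subtype_injective _) (gmap_surjective x n) hex

end aux

/-- Let R be a Noetherian local ring of Krull dimension one and x an element of the maximal ideal lying
in no minimal prime of R. Then for every n the length of R/xⁿR is at most n times the length of
R/xR, and equality holds when x is a nonzerodivisor. -/
theorem result (R : Type u) [CommRing R] [IsNoetherianRing R] [IsLocalRing R]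
    (hdim : ringKrullDim R = 1) (x : R) (hx : x ∈ IsLocalRing.maximalIdeal R)
    (hmin : ∀ p ∈ minimalPrimes R, x ∉ p) (n : ℕ) :
    Module.length R (R ⧸ Ideal.span {x ^ n}) ≤ (n : ℕ∞) * Module.length R (R ⧸ Ideal.span {x}) ∧
      (x ∈ nonZeroDivisors R →
        Module.length R (R ⧸ Ideal.span {x ^ n}) = (n : ℕ∞) * Module.length R (R ⧸ Ideal.span {x})) := by
  induction n with
  | zero =>
    have h0 : Module.length R (R ⧸ Ideal.span {x ^ 0}) = 0 := by
      rw [Module.length_eq_zero_iff]
      rw [pow_zero, Ideal.span_singleton_one]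
      exact Ideal.Quotient.subsingleton_iff.2 rfl
    refine ⟨by rw [h0]; exact bot_le, fun _ => by rw [h0, Nat.cast_zero, zero_mul]⟩
  | succ n ih =>
    have hle : Module.length R (LinearMap.range (fmap x n)) ≤ Module.length R (R ⧸ Ideal.span {x}) :=
      Module.length_le_of_surjective (fmap x n).rangeRestrict (LinearMap.surjective_rangeRestrict _)
    constructor
    · rw [length_succ x n, Nat.cast_succ, add_mul, one_mul, add_comm]
      exact add_le_add ih.1 hle
    · intro hnzd
      have heq : Module.length R (LinearMap.range (fmap x n)) = Module.length R (R ⧸ Ideal.span {x}) :=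
        (LinearEquiv.ofInjective (fmap x n) (fmap_injective x n hnzd)).length_eq.symm
      rw [length_succ x n, Nat.cast_succ, add_mul, one_mul, add_comm, heq, ih.2 hnzd]

end Groth.Agent.S7114
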