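import Groth.Statements.S7115
import Mathlib

set_option autoImplicit false
universe u
open CAlg

namespace Groth.Agent.S7115

set_option backward.isDefEq.respectTransparency false in
lemma dim_quotient_succ_le {R : Type u} [CommRing R] {r : R}
    (hr : ∀ p ∈ minimalPrimes R, r ∉ p) :
    ringKrullDim (R ⧸ Ideal.span {r}) + 1 ≤ ringKrullDim R := by
  by_cases hr' : Ideal.span {r} = ⊤
  · rw [hr', ringKrullDim_eq_bot_of_subsingleton]
    simp
  have : Nonempty (PrimeSpectrum.zeroLocus (R := R) (Ideal.span {r})) := by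
    rwa [Set.nonempty_coe_sort, Set.nonempty_iff_ne_empty, ne_eq,
      PrimeSpectrum.zeroLocus_empty_iff_eq_top]
  have := Ideal.Quotient.nontrivial_iff.mpr hr'
  have := (Ideal.Quotient.mk (Ideal.span {r})).domain_nontrivial
  rw [ringKrullDim_quotient, Order.krullDim_eq_iSup_length, ringKrullDim,
    Order.krullDim_eq_iSup_length, ← WithBot.coe_one, ← WithBot.coe_add,
    ENat.iSup_add, WithBot.coe_le_coe, iSup_le_iff]
  intro l
  obtain ⟨p, hp, hp'⟩ := Ideal.exists_minimalPrimes_le (J := l.head.1.asIdeal) bot_le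
  let p' : PrimeSpectrum R := ⟨p, hp.1.1⟩
  have hp' : p' < l.head := lt_of_le_of_ne hp' fun h ↦ hr p hp
    (show r ∈ p by simpa [← h] using l.head.2)
  refine le_trans ?_ (le_iSup _ ((l.map Subtype.val (fun _ _ ↦ id)).cons p' hp'))
  simp

/-- Let R be a Noetherian local ring of Krull dimension d > 1 with maximal ideal m, let f be an element
of m contained in no minimal prime, and let k be a natural number. Then there are elements g_1, ...,
g_{d-1} of m lying in m^k such that f, g_1, ..., g_{d-1} form a system of parameters: these d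
elements of m generate an ideal whose radical is m. -/
theorem result (R : Type u) [CommRing R] [IsNoetherianRing R] [IsLocalRing R]
    (d : ℕ) (hd : ringKrullDim R = d) (h1 : 1 < d) (f : R) (hf : f ∈ IsLocalRing.maximalIdeal R)
    (hmin : ∀ p ∈ minimalPrimes R, f ∉ p) (k : ℕ) :
    ∃ g : Fin (d - 1) → R, (∀ i, g i ∈ IsLocalRing.maximalIdeal R ^ k) ∧ (∀ i, g i ∈ IsLocalRing.maximalIdeal R) ∧
      IsLocalRing.maximalIdeal R ≤ (Ideal.span (insert f (Set.range g))).radical := by
  classical
  set I : Ideal R := Ideal.span {f} with hI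
  have hIm : I ≤ IsLocalRing.maximalIdeal R := by
    rw [hI, Ideal.span_le]; simpa using hf
  have hItop : I ≠ ⊤ := by
    intro h
    rw [h] at hIm
    exact (IsLocalRing.maximalIdeal.isMaximal R).ne_top (top_le_iff.mp hIm)
  haveI : Nontrivial (R ⧸ I) := Ideal.Quotient.nontrivial_iff.mpr hItop
  have hsurj : Function.Surjective (Ideal.Quotient.mk I) := Ideal.Quotient.mk_surjective
  haveI : IsLocalRing (R ⧸ I) := IsLocalRing.of_surjective' (Ideal.Quotient.mk I) hsurj
  have hdim : ringKrullDim (R ⧸ I) + 1 ≤ (d : WithBot ℕ∞) := by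
    rw [← hd]; exact dim_quotient_succ_le hmin
  obtain ⟨s, hs1, hs2⟩ := Ideal.exists_finset_card_eq_height_of_isNoetherianRing
    (IsLocalRing.maximalIdeal (R ⧸ I))
  have hcard : s.card ≤ d - 1 := by
    have h3 : ((IsLocalRing.maximalIdeal (R ⧸ I)).height : WithBot ℕ∞) = ringKrullDim (R ⧸ I) :=
      IsLocalRing.maximalIdeal_height_eq_ringKrullDim
    rw [← h3, ← hs2] at hdim
    have h4 : s.card + 1 ≤ d := by exact_mod_cast hdim
    omega
  obtain ⟨ι⟩ : Nonempty (s ↪ Fin (d - 1)) :=
    Function.Embedding.nonempty_of_card_le (by simpa using hcard)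
  choose lift hlift using hsurj
  have hsurj : Function.Surjective (Ideal.Quotient.mk I) := Ideal.Quotient.mk_surjective
  let G : Fin (d - 1) → R ⧸ I := fun i => if h : ∃ x : s, ι x = i then (h.choose : R ⧸ I) else 0
  let g₀ : Fin (d - 1) → R := fun i => lift (G i)
  have hg₀ : ∀ i, Ideal.Quotient.mk I (g₀ i) = G i := fun i => hlift (G i)
  have hGs : ∀ x : s, G (ι x) = x := by
    intro x
    have h : ∃ y : s, ι y = ι x := ⟨x, rfl⟩
    simp only [G, dif_pos h]
    rw [ι.injective h.choose_spec]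
  have hGmem : ∀ i, G i ∈ IsLocalRing.maximalIdeal (R ⧸ I) := by
    intro i
    by_cases h : ∃ x : s, ι x = i
    · simp only [G, dif_pos h]
      exact hs1.1.2 (Ideal.subset_span h.choose.2)
    · simp only [G, dif_neg h]; exact zero_mem _
  have hg₀m : ∀ i, g₀ i ∈ IsLocalRing.maximalIdeal R := by
    intro i
    by_contra hcon
    have hu : IsUnit (g₀ i) := IsLocalRing.notMem_maximalIdeal.mp hcon
    have := hu.map (Ideal.Quotient.mk I)
    rw [hg₀] at this
    exact (IsLocalRing.mem_maximalIdeal _).mp (hGmem i) this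
  refine ⟨fun i => (g₀ i) ^ (k + 1), fun i => ?_, fun i => ?_, ?_⟩
  · have : (g₀ i) ^ (k+1) ∈ IsLocalRing.maximalIdeal R ^ (k+1) := Ideal.pow_mem_pow (hg₀m i) _
    exact Ideal.pow_le_pow_right (Nat.le_succ k) this
  · exact Ideal.pow_mem_of_mem _ (hg₀m i) _ (Nat.succ_pos k)
  · set J : Ideal R := Ideal.span (insert f (Set.range fun i => (g₀ i) ^ (k + 1))) with hJ
    have hfJ : f ∈ J := Ideal.subset_span (Set.mem_insert _ _)
    have hIJ : I ≤ J := by rw [hI, Ideal.span_le]; simpa using hfJ
    have hg₀J : ∀ i, g₀ i ∈ J.radical :=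
      fun i => ⟨k+1, Ideal.subset_span (Set.mem_insert_of_mem _ ⟨i, rfl⟩)⟩
    have hrad : IsLocalRing.maximalIdeal (R ⧸ I) ≤ (Ideal.span (s : Set (R ⧸ I))).radical := by
      rw [← Ideal.sInf_minimalPrimes]
      refine le_sInf fun q hq => ?_
      have hqle : q ≤ IsLocalRing.maximalIdeal (R ⧸ I) := IsLocalRing.le_maximalIdeal hq.1.1.ne_top
      exact hs1.2 hq.1 hqle
    have hcomap : Ideal.comap (Ideal.Quotient.mk I) (IsLocalRing.maximalIdeal (R ⧸ I)) =
        IsLocalRing.maximalIdeal R :=
      IsLocalRing.eq_maximalIdeal (Ideal.comap_isMaximal_of_surjective _ hsurj)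
    have hspan : Ideal.span (s : Set (R ⧸ I)) ≤ Ideal.map (Ideal.Quotient.mk I) J.radical := by
      rw [Ideal.span_le]
      intro a ha
      have : a = Ideal.Quotient.mk I (g₀ (ι ⟨a, Finset.mem_coe.mp ha⟩)) := by rw [hg₀, hGs]
      rw [this]
      exact Ideal.mem_map_of_mem _ (hg₀J _)
    have hcm : Ideal.comap (Ideal.Quotient.mk I) (Ideal.map (Ideal.Quotient.mk I) J.radical) =
        J.radical := by
      rw [Ideal.comap_map_of_surjective _ hsurj, ← RingHom.ker_eq_comap_bot, Ideal.mk_ker]
      exact sup_eq_left.mpr (hIJ.trans Ideal.le_radical)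
    intro x hx
    have hx' : Ideal.Quotient.mk I x ∈ IsLocalRing.maximalIdeal (R ⧸ I) := by
      rw [← hcomap] at hx; exact hx
    obtain ⟨n, hn⟩ := hrad hx'
    have hxn : x ^ n ∈ J.radical := by
      rw [← hcm, Ideal.mem_comap, map_pow]
      exact hspan hn
    have : x ∈ J.radical.radical := ⟨n, hxn⟩
    rwa [Ideal.radical_idem] at this

end Groth.Agent.S7115
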