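import Groth.Statements.S7116
-- import your own Groth.Agent.* helpers here
import Mathlib
import Groth.Agent.Lib.Helper22.SOP

set_option autoImplicit false
universe u
open CAlg

namespace Groth.Agent.S7116

/-- Let R be a Noetherian local ring of Krull dimension d with maximal ideal m and let f be an element
of m contained in no minimal prime. Then there are g_1, ..., g_{d-1} in m and a natural number N
such that f, g_1, ..., g_{d-1} is a system of parameters (these d elements of m generate an ideal
with radical m) and, for every h in m^N, the elements f + h, g_1, ..., g_{d-1} again form a system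
of parameters and the lengths of R/(f, g_1, ..., g_{d-1}) and R/(f + h, g_1, ..., g_{d-1}) agree. -/
theorem result (R : Type u) [CommRing R] [IsNoetherianRing R] [IsLocalRing R]
    (d : ℕ) (hd : ringKrullDim R = d) (f : R) (hf : f ∈ IsLocalRing.maximalIdeal R)
    (hmin : ∀ p ∈ minimalPrimes R, f ∉ p) :
    ∃ (g : Fin (d - 1) → R) (N : ℕ), (∀ i, g i ∈ IsLocalRing.maximalIdeal R) ∧
      IsLocalRing.maximalIdeal R ≤ (Ideal.span (insert f (Set.range g))).radical ∧
      ∀ h ∈ IsLocalRing.maximalIdeal R ^ N,
        IsLocalRing.maximalIdeal R ≤ (Ideal.span (insert (f + h) (Set.range g))).radical ∧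
        Module.length R (R ⧸ Ideal.span (insert f (Set.range g))) =
          Module.length R (R ⧸ Ideal.span (insert (f + h) (Set.range g))) := by
  have hd1 : 1 ≤ d := by
    by_contra hcon
    have hd0 : d = 0 := by omega
    subst hd0
    have h1 : ((IsLocalRing.maximalIdeal R).height : WithBot ℕ∞) = ((0 : ℕ) : WithBot ℕ∞) := by
      rw [IsLocalRing.maximalIdeal_height_eq_ringKrullDim, hd]
    have h2 : (IsLocalRing.maximalIdeal R).height = 0 := by exact_mod_cast h1
    rw [Ideal.height_eq_zero_iff] at h2
    exact hmin _ h2 hf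
  have hK : ∃ n : ℕ, IsLocalRing.maximalIdeal R ^ n ≤ IsLocalRing.maximalIdeal R :=
    ⟨1, by rw [pow_one]⟩
  obtain ⟨g, hg, hrad⟩ := Groth.Agent.Lib.Helper22.SOP.exists_sop d hd hd1 f hmin
    (IsLocalRing.maximalIdeal R) hK
  set I := Ideal.span (insert f (Set.range g)) with hI
  obtain ⟨N₀, hN₀⟩ := Ideal.exists_pow_le_of_le_radical_of_fg hrad
    (IsNoetherian.noetherian (IsLocalRing.maximalIdeal R))
  refine ⟨g, N₀ + 1, hg, hrad, ?_⟩
  intro h hh
  have hmI : h ∈ IsLocalRing.maximalIdeal R * I := by
    rw [pow_succ'] at hh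
    exact Ideal.mul_mono_right hN₀ hh
  have hhI : h ∈ I := Ideal.mul_le_right hmI
  have hfI : f ∈ I := Ideal.subset_span (Set.mem_insert _ _)
  have hgI : ∀ i, g i ∈ I := fun i => Ideal.subset_span (Set.mem_insert_of_mem _ ⟨i, rfl⟩)
  have heq : Ideal.span (insert (f + h) (Set.range g)) = I := by
    apply le_antisymm
    · rw [Ideal.span_le]
      intro y hy
      rcases hy with rfl | ⟨i, rfl⟩
      · exact I.add_mem hfI hhI
      · exact hgI i
    · apply Submodule.le_of_le_smul_of_le_jacobson_bot (I := IsLocalRing.maximalIdeal R)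
        (IsNoetherian.noetherian I)
      · rw [IsLocalRing.jacobson_eq_maximalIdeal ⊥ bot_ne_top]
      · rw [hI, Ideal.span_le]
        intro y hy
        rcases hy with hyf | ⟨i, rfl⟩
        · have h1 : f + h ∈ Ideal.span (insert (f + h) (Set.range g)) :=
            Ideal.subset_span (Set.mem_insert _ _)
          have h3 : -h ∈ IsLocalRing.maximalIdeal R • I := by
            rw [smul_eq_mul]
            exact (Ideal.neg_mem_iff _).2 hmI
          have h4 := Submodule.add_mem_sup h1 h3
          rw [add_neg_cancel_right] at h4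
          rw [hyf]
          exact h4
        · exact Submodule.mem_sup_left
            (Ideal.subset_span (Set.mem_insert_of_mem _ ⟨i, rfl⟩))
  rw [heq]
  exact ⟨hrad, rfl⟩

end Groth.Agent.S7116
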