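import Groth.Statements.S7117
-- import your own Groth.Agent.* helpers here
import Mathlib
import Groth.Agent.Lib.Helper22.Samuel15

set_option autoImplicit false
universe u
open CAlg

namespace Groth.Agent.S7117

/-- Let R be a Noetherian local ring of Krull dimension d with maximal ideal m, and suppose g_1, ...,
g_d in m form a system of parameters (they generate an ideal with radical m). Then the number of
minimal prime ideals p of R with R/p of Krull dimension d is at most the length of R/(g_1, ...,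
g_d). -/
theorem result (R : Type u) [CommRing R] [IsNoetherianRing R] [IsLocalRing R]
    (d : ℕ) (hd : ringKrullDim R = d) (g : Fin d → R) (hg : ∀ i, g i ∈ IsLocalRing.maximalIdeal R)
    (hsop : IsLocalRing.maximalIdeal R ≤ (Ideal.span (Set.range g)).radical) :
    (Set.ncard {p : Ideal R | p ∈ minimalPrimes R ∧ ringKrullDim (R ⧸ p) = d} : ℕ∞) ≤
      Module.length R (R ⧸ Ideal.span (Set.range g)) := by
  set q := Ideal.span (Set.range g) with hq
  have hqm : q ≤ IsLocalRing.maximalIdeal R :=
    Ideal.span_le.2 (by rintro _ ⟨i, rfl⟩; exact hg i)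
  have hpow : ∃ n : ℕ, IsLocalRing.maximalIdeal R ^ n ≤ q :=
    Ideal.exists_pow_le_of_le_radical_of_fg hsop (IsNoetherian.noetherian _)
  haveI := Groth.Agent.Lib.Helper22.Samuel.isArtinianRing_quotient_of_local q ⟨hqm, hpow⟩
  have hIJ := Groth.Agent.Lib.Helper22.Samuel.le_jacobson_of_local q hqm
  obtain ⟨hfin, hle⟩ := Groth.Agent.Lib.Helper22.Samuel.ncard_top_primes_le q hIJ d hd g rfl
  have hfl : IsFiniteLength R (R ⧸ q) := by
    refine Groth.Agent.Lib.Helper22.Samuel.isFiniteLength_of_torsion q _ ?_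
    intro a ha y
    obtain ⟨z, rfl⟩ := Ideal.Quotient.mk_surjective y
    rw [Algebra.smul_def, Ideal.Quotient.algebraMap_eq, Ideal.Quotient.eq_zero_iff_mem.2 ha,
      zero_mul]
  have hne := Module.length_ne_top_iff.2 hfl
  set T : Set (PrimeSpectrum R) := {p : PrimeSpectrum R | ringKrullDim (R ⧸ p.asIdeal) = d} with hT
  have hsub : {p : Ideal R | p ∈ minimalPrimes R ∧ ringKrullDim (R ⧸ p) = d} ⊆
      PrimeSpectrum.asIdeal '' T := by
    rintro p ⟨hpmin, hpd⟩
    exact ⟨⟨p, hpmin.1.1⟩, hpd, rfl⟩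
  have h1 : Set.ncard {p : Ideal R | p ∈ minimalPrimes R ∧ ringKrullDim (R ⧸ p) = d} ≤ T.ncard :=
    (Set.ncard_le_ncard hsub (hfin.image _)).trans (Set.ncard_image_le hfin)
  have h2 : T.ncard ≤ (Module.length R (R ⧸ q)).toNat := by exact_mod_cast hle
  calc (Set.ncard {p : Ideal R | p ∈ minimalPrimes R ∧ ringKrullDim (R ⧸ p) = d} : ℕ∞)
      ≤ ((Module.length R (R ⧸ q)).toNat : ℕ∞) := by exact_mod_cast h1.trans h2
    _ = Module.length R (R ⧸ q) := ENat.coe_toNat hne

end Groth.Agent.S7117
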