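import Groth.Statements.S7119
import Mathlib
import Groth.Agent.Lib.Helper4.SerreNormal

set_option autoImplicit false
universe u
open CAlg

namespace Groth.Agent.S7119


namespace H7119
open IsLocalRing

section
variable (A : Type u) [CommRing A] [IsDomain A] [IsNoetherianRing A]

theorem hasS2_normal [IsIntegrallyClosed A] : LocCoh.HasSk 2 A A := by
  refine ((Groth.Agent.Lib.Helper4.SerreNormal.serre_criterion A).1 ?_).2
  intro p hp
  have hle : p.primeCompl ≤ nonZeroDivisors A := p.primeCompl_le_nonZeroDivisors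
  exact ⟨IsLocalization.isDomain_localization hle,
    isIntegrallyClosed_of_isLocalization _ p.primeCompl hle⟩

theorem pid_q (B : Type u) [CommRing B] [IsDomain B] [IsNoetherianRing B] [IsLocalRing B]
    [IsIntegrallyClosed B] (h : ringKrullDim B ≤ 1) : IsPrincipalIdealRing B := by
  have hprimes : ∀ P : Ideal B, P ≠ ⊥ → P.IsPrime → P = IsLocalRing.maximalIdeal B := by
    intro P hP0 hPp
    by_contra hne
    have hlt : P < IsLocalRing.maximalIdeal B :=
      lt_of_le_of_ne (IsLocalRing.le_maximalIdeal hPp.ne_top) hne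
    have hbot : (⊥ : Ideal B) < P := bot_lt_iff_ne_bot.mpr hP0
    haveI : (⊥ : Ideal B).IsPrime := Ideal.isPrime_bot
    have h1 : (⊥ : Ideal B).height < P.height := Ideal.height_strict_mono_of_isPrime hbot
    have h2 : P.height < (IsLocalRing.maximalIdeal B).height :=
      Ideal.height_strict_mono_of_isPrime hlt
    have h3 : (IsLocalRing.maximalIdeal B).height ≤ 1 := by
      have := IsLocalRing.maximalIdeal_height_eq_ringKrullDim (R := B)
      rw [← this] at h
      exact_mod_cast h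
    have h4 : P.height < 1 := lt_of_lt_of_le h2 h3
    have h5 : P.height = 0 := Order.lt_one_iff.mp h4
    rw [h5] at h1
    exact not_lt_zero h1
  have h30 : (IsIntegrallyClosed B ∧
      ∀ P : Ideal B, P ≠ ⊥ → P.IsPrime → P = IsLocalRing.maximalIdeal B) →
        IsPrincipalIdealRing B :=
    ((tfae_of_isNoetherianRing_of_isLocalRing_of_isDomain B).out 3 0).mp
  exact h30 ⟨inferInstance, hprimes⟩

end

section
variable {A : Type u} [CommRing A] [IsDomain A] [IsNoetherianRing A]

/-- a height-one prime is minimal among nonzero primes -/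
theorem ht1_min (q q' : Ideal A) [q.IsPrime] [q'.IsPrime] (hq : q.height = 1) (hle : q' ≤ q)
    (hne : q' ≠ ⊥) : q' = q := by
  by_contra hcon
  have hlt : q' < q := lt_of_le_of_ne hle hcon
  have hbot : (⊥ : Ideal A) < q' := bot_lt_iff_ne_bot.mpr hne
  haveI : (⊥ : Ideal A).IsPrime := Ideal.isPrime_bot
  have h1 : (⊥ : Ideal A).height < q'.height := Ideal.height_strict_mono_of_isPrime hbot
  have h2 : q'.height < q.height := Ideal.height_strict_mono_of_isPrime hlt
  rw [hq] at h2
  have h5 : q'.height = 0 := Order.lt_one_iff.mp h2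
  rw [h5] at h1
  exact not_lt_zero h1

theorem minf_iff (f : A) (hf : f ≠ 0) (q : Ideal A) :
    q ∈ (Ideal.span {f}).minimalPrimes ↔ q.IsPrime ∧ q.height = 1 ∧ f ∈ q := by
  constructor
  · intro hq
    haveI : q.IsPrime := hq.1.1
    have hfq : f ∈ q := hq.1.2 (Ideal.mem_span_singleton_self f)
    refine ⟨hq.1.1, le_antisymm
      (Ideal.height_le_one_of_isPrincipal_of_mem_minimalPrimes _ q hq) ?_, hfq⟩
    rw [Order.one_le_iff_pos, pos_iff_ne_zero, Ne, Ideal.height_eq_zero_iff_eq_bot]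
    intro hbot
    rw [hbot] at hfq
    exact hf ((Submodule.mem_bot A).mp hfq)
  · rintro ⟨hq, hq1, hfq⟩
    refine ⟨⟨hq, (Ideal.span_singleton_le_iff_mem q).mpr hfq⟩, ?_⟩
    rintro q' ⟨hq', hfq'⟩ hle
    haveI := hq
    haveI := hq'
    have hne : q' ≠ ⊥ := by
      intro hbot
      rw [hbot] at hfq'
      exact hf ((Submodule.mem_bot A).mp (hfq' (Ideal.mem_span_singleton_self f)))
    exact (ht1_min q q' hq1 hle hne).ge

theorem mem_rad (f : A) (hf : f ≠ 0) (x : A) :
    x ∈ (Ideal.span {f}).radical ↔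
      ∀ q : Ideal A, q.IsPrime → q.height = 1 → f ∈ q → x ∈ q := by
  rw [← Ideal.sInf_minimalPrimes, Submodule.mem_sInf]
  constructor
  · intro h q hq hq1 hfq
    exact h q ((minf_iff f hf q).mpr ⟨hq, hq1, hfq⟩)
  · intro h q hq
    obtain ⟨hq', hq1, hfq⟩ := (minf_iff f hf q).mp hq
    exact h q hq' hq1 hfq

theorem exists_c (f : A) (hf : f ≠ 0) (q₁ : Ideal A) [q₁.IsPrime] (hq₁ : q₁.height = 1)
    (I : Ideal A) (hI : ¬ I ≤ q₁) :
    ∃ c ∈ I, c ∉ q₁ ∧
      ∀ q : Ideal A, q.IsPrime → q.height = 1 → f ∈ q → q ≠ q₁ → c ∈ q := by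
  classical
  obtain ⟨T, hT⟩ : ∃ T : Finset (Ideal A), T =
      (Ideal.finite_minimalPrimes_of_isNoetherianRing A (Ideal.span {f})).toFinset.erase q₁ :=
    ⟨_, rfl⟩
  have hnot : ¬ (I ⊓ T.inf id ≤ q₁) := by
    intro hle
    rcases (Ideal.IsPrime.inf_le inferInstance).mp hle with h | h
    · exact hI h
    · obtain ⟨q, hqT, hqle⟩ := (Ideal.IsPrime.inf_le' inferInstance).mp h
      rw [hT, Finset.mem_erase, Set.Finite.mem_toFinset] at hqT
      obtain ⟨hq, hq1, hfq⟩ := (minf_iff f hf q).mp hqT.2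
      haveI := hq
      have hqne : q ≠ ⊥ := by
        intro hbot
        rw [hbot] at hfq
        exact hf ((Submodule.mem_bot A).mp hfq)
      exact hqT.1 (ht1_min q₁ q hq₁ hqle hqne)
  obtain ⟨c, hc, hcq₁⟩ := SetLike.not_le_iff_exists.mp hnot
  refine ⟨c, (Submodule.mem_inf.mp hc).1, hcq₁, ?_⟩
  intro q hq hq1 hfq hne
  have hqT : q ∈ T := by
    rw [hT, Finset.mem_erase, Set.Finite.mem_toFinset]
    exact ⟨hne, (minf_iff f hf q).mpr ⟨hq, hq1, hfq⟩⟩
  exact (Finset.inf_le hqT : T.inf id ≤ id q) (Submodule.mem_inf.mp hc).2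

/-- Hartogs-type lemma for `(S₂)` rings. -/
theorem hartogs (hS2 : LocCoh.HasSk 2 A A) (f x : A) (hf : f ≠ 0)
    (h : ∀ q : Ideal A, q.IsPrime → q.height = 1 → ∃ t, t ∉ q ∧ t * x ∈ Ideal.span {f}) :
    x ∈ Ideal.span {f} := by
  by_contra hx
  have hx' : (Ideal.Quotient.mk (Ideal.span {f}) x) ≠ 0 := by
    rwa [Ne, Ideal.Quotient.eq_zero_iff_mem]
  obtain ⟨P, hP, hle⟩ := exists_le_isAssociatedPrime_of_isNoetherianRing (R := A)
    (M := A ⧸ Ideal.span {f}) (Ideal.Quotient.mk (Ideal.span {f}) x) hx'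
  rw [isAssociatedPrime_iff] at hP
  obtain ⟨hPprime, q, hq⟩ := hP
  obtain ⟨z, rfl⟩ := Ideal.Quotient.mk_surjective q
  have hsmul : ∀ r y : A, r • (Ideal.Quotient.mk (Ideal.span {f}) y) = 0 ↔
      r * y ∈ Ideal.span {f} := by
    intro r y
    rw [Algebra.smul_def, Ideal.Quotient.algebraMap_eq, ← map_mul,
      Ideal.Quotient.eq_zero_iff_mem]
  have hz : ∀ r : A, r ∈ P ↔ r * z ∈ Ideal.span {f} := by
    intro r
    rw [hq, Submodule.mem_colon_singleton, Submodule.mem_bot, hsmul]
  have hann : ∀ r : A, r * x ∈ Ideal.span {f} → r ∈ P := by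
    intro r hr
    apply hle
    rw [Submodule.mem_colon_singleton, Submodule.mem_bot, hsmul]
    exact hr
  haveI := hPprime
  have hht := Groth.Agent.Lib.Helper4.SerreNormal.height_le_one_of_colon hS2 f
    (mem_nonZeroDivisors_of_ne_zero hf) P z hz
  have hfP : f ∈ P := by
    rw [hz]
    exact Ideal.mul_mem_right _ _ (Ideal.mem_span_singleton_self f)
  have hP1 : P.height = 1 := by
    refine le_antisymm hht ?_
    rw [Order.one_le_iff_pos, pos_iff_ne_zero, Ne, Ideal.height_eq_zero_iff_eq_bot]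
    intro hbot
    rw [hbot] at hfP
    exact hf ((Submodule.mem_bot A).mp hfP)
  obtain ⟨t, ht, htx⟩ := h P hPprime hP1
  exact ht (hann t htx)

theorem stepR (hS2 : LocCoh.HasSk 2 A A) (f : A) (hf : f ≠ 0)
    (h : ∀ q : Ideal A, q.IsPrime → q.height = 1 → f ∈ q →
      ∀ x ∈ q, ∃ t, t ∉ q ∧ t * x ∈ Ideal.span {f}) :
    (Ideal.span {f}).radical ≤ Ideal.span {f} := by
  intro x hx
  obtain ⟨n, hn⟩ := Ideal.mem_radical_iff.mp hx
  apply hartogs hS2 f x hf
  intro q hq hq1
  by_cases hfq : f ∈ q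
  · have hxq : x ∈ q :=
      hq.mem_of_pow_mem n (((Ideal.span_singleton_le_iff_mem q).mpr hfq) hn)
    exact h q hq hq1 hfq x hxq
  · exact ⟨f, hfq, Ideal.mul_mem_right _ _ (Ideal.mem_span_singleton_self f)⟩

theorem exists_unif [IsIntegrallyClosed A] (q : Ideal A) [q.IsPrime] (hq : q.height = 1) :
    ∃ π ∈ q, ∀ x ∈ q, ∃ t, t ∉ q ∧ t * x ∈ Ideal.span {π} := by
  have hle : q.primeCompl ≤ nonZeroDivisors A := q.primeCompl_le_nonZeroDivisors
  haveI : IsDomain (Localization.AtPrime q) := IsLocalization.isDomain_localization hle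
  haveI : IsIntegrallyClosed (Localization.AtPrime q) :=
    isIntegrallyClosed_of_isLocalization _ q.primeCompl hle
  have hdimB : ringKrullDim (Localization.AtPrime q) ≤ 1 := by
    rw [IsLocalization.AtPrime.ringKrullDim_eq_height q (Localization.AtPrime q), hq]
    exact le_refl _
  haveI : IsPrincipalIdealRing (Localization.AtPrime q) := pid_q _ hdimB
  have hinj : Function.Injective (algebraMap A (Localization.AtPrime q)) :=
    IsLocalization.injective _ hle
  haveI : (maximalIdeal (Localization.AtPrime q)).IsPrincipal :=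
    IsPrincipalIdealRing.principal _
  have hϖ := Ideal.span_singleton_generator (maximalIdeal (Localization.AtPrime q))
  obtain ⟨a, t, hat⟩ := IsLocalization.exists_mk'_eq q.primeCompl
    (Submodule.IsPrincipal.generator (maximalIdeal (Localization.AtPrime q)))
  rw [← hat] at hϖ
  have ha := IsLocalization.mk'_spec (Localization.AtPrime q) a t
  refine ⟨a, ?_, ?_⟩
  · have h1 : IsLocalization.mk' (Localization.AtPrime q) a t ∈
        maximalIdeal (Localization.AtPrime q) := by
      rw [← hϖ]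
      exact Ideal.mem_span_singleton_self _
    have h2 : algebraMap A (Localization.AtPrime q) a ∈
        maximalIdeal (Localization.AtPrime q) := by
      rw [← ha]
      exact Ideal.mul_mem_right _ _ h1
    exact (IsLocalization.AtPrime.to_map_mem_maximal_iff (Localization.AtPrime q) q a).mp h2
  · intro x hx
    have h2 : algebraMap A (Localization.AtPrime q) x ∈
        maximalIdeal (Localization.AtPrime q) :=
      (IsLocalization.AtPrime.to_map_mem_maximal_iff (Localization.AtPrime q) q x).mpr hx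
    rw [← hϖ] at h2
    obtain ⟨β, hβ⟩ := Ideal.mem_span_singleton'.mp h2
    obtain ⟨b, u, hbu⟩ := IsLocalization.exists_mk'_eq q.primeCompl β
    have hb := IsLocalization.mk'_spec (Localization.AtPrime q) b u
    rw [hbu] at hb
    refine ⟨(u : A) * (t : A), q.primeCompl.mul_mem u.2 t.2, ?_⟩
    rw [Ideal.mem_span_singleton']
    refine ⟨b, hinj ?_⟩
    rw [map_mul, map_mul, map_mul, ← hb, ← ha, ← hβ]
    ring

end

section
variable {A : Type u} [CommRing A] [IsDomain A] [IsNoetherianRing A] [IsLocalRing A]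

theorem ht2 (hm2 : (maximalIdeal A).height = 2) (q P : Ideal A) [q.IsPrime] [P.IsPrime]
    (hq : q ≠ ⊥) (hqP : q < P) : P = maximalIdeal A := by
  by_contra hne
  have hPm : P < maximalIdeal A :=
    lt_of_le_of_ne (IsLocalRing.le_maximalIdeal_of_isPrime P) hne
  haveI : (⊥ : Ideal A).IsPrime := Ideal.isPrime_bot
  have h0 : (⊥ : Ideal A).height < q.height :=
    Ideal.height_strict_mono_of_isPrime (bot_lt_iff_ne_bot.mpr hq)
  have h1 : q.height < P.height := Ideal.height_strict_mono_of_isPrime hqP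
  have h2 : P.height < (maximalIdeal A).height := Ideal.height_strict_mono_of_isPrime hPm
  rw [hm2] at h2
  have h3 : q.height + 1 ≤ P.height := Order.add_one_le_of_lt h1
  have h4 : (1 : ℕ∞) ≤ q.height := Order.one_le_iff_pos.mpr (lt_of_le_of_lt bot_le h0)
  have h5 : (1 : ℕ∞) + 1 ≤ P.height :=
    calc (1 : ℕ∞) + 1 ≤ q.height + 1 := by gcongr
      _ ≤ P.height := h3
  rw [one_add_one_eq_two] at h5
  exact absurd h2 (not_lt.mpr h5)

theorem ht1_ne_max (hm2 : (maximalIdeal A).height = 2) (q : Ideal A) (hq : q.height = 1) :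
    q ≠ maximalIdeal A := by
  intro h
  rw [h, hm2] at hq
  exact absurd hq (by norm_num)

theorem good_add (g f h : A) (J : Ideal A) (hgood : Ideal.span {g} ⊔ Ideal.span {f} = J)
    (hh : h ∈ maximalIdeal A * J) : Ideal.span {g} ⊔ Ideal.span {f + h} = J := by
  have hgJ : g ∈ J := by
    rw [← hgood]; exact Ideal.mem_sup_left (Ideal.mem_span_singleton_self g)
  have hfJ : f ∈ J := by
    rw [← hgood]; exact Ideal.mem_sup_right (Ideal.mem_span_singleton_self f)
  have hhJ : h ∈ J := Ideal.mul_le_right hh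
  apply le_antisymm
  · rw [sup_le_iff, Ideal.span_singleton_le_iff_mem, Ideal.span_singleton_le_iff_mem]
    exact ⟨hgJ, J.add_mem hfJ hhJ⟩
  · apply Submodule.le_of_le_smul_of_le_jacobson_bot (IsNoetherian.noetherian J)
      (IsLocalRing.maximalIdeal_le_jacobson ⊥)
    have h1 : Ideal.span {g} ⊔ Ideal.span {f} ≤
        (Ideal.span {g} ⊔ Ideal.span {f + h}) ⊔ maximalIdeal A • J := by
      rw [sup_le_iff, Ideal.span_singleton_le_iff_mem, Ideal.span_singleton_le_iff_mem]
      refine ⟨Ideal.mem_sup_left (Ideal.mem_sup_left (Ideal.mem_span_singleton_self g)), ?_⟩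
      refine Submodule.mem_sup.mpr ⟨f + h,
        Ideal.mem_sup_right (Ideal.mem_span_singleton_self (f + h)), -h, ?_, by ring⟩
      rw [smul_eq_mul]
      exact neg_mem hh
    rw [hgood] at h1
    exact h1

theorem not_mem_g (hm2 : (maximalIdeal A).height = 2) (g : A) (hg : g ∈ maximalIdeal A)
    (J : Ideal A) (hJ : ∀ P : Ideal A, P.IsPrime → J ≤ P → P = maximalIdeal A) (f : A)
    (hgood : Ideal.span {g} ⊔ Ideal.span {f} = J) : f ∉ Ideal.span {g} := by
  intro hfg
  have hJg : Ideal.span {g} = J := by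
    rw [← hgood]
    exact (sup_eq_left.mpr ((Ideal.span_singleton_le_iff_mem _).mpr hfg)).symm
  have hmin : maximalIdeal A ∈ (Ideal.span {g}).minimalPrimes := by
    refine ⟨⟨inferInstance, (Ideal.span_singleton_le_iff_mem _).mpr hg⟩, ?_⟩
    rintro P ⟨hP, hgP⟩ _
    rw [hJg] at hgP
    rw [hJ P hP hgP]
  have h1 := Ideal.height_le_one_of_isPrincipal_of_mem_minimalPrimes _ _ hmin
  rw [hm2] at h1
  exact absurd h1 (not_le.mpr (by exact_mod_cast (by norm_num : (1 : ℕ) < 2)))

theorem artinian_quot (J : Ideal A)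
    (hJ : ∀ P : Ideal A, P.IsPrime → J ≤ P → P = maximalIdeal A) :
    IsArtinian A (A ⧸ J) := by
  haveI : Ring.KrullDimLE 0 (A ⧸ J) := by
    rw [Ring.krullDimLE_zero_iff]
    intro P hP
    have hp : (P.comap (Ideal.Quotient.mk J)).IsPrime := hP.comap _
    have hle : J ≤ P.comap (Ideal.Quotient.mk J) := by
      intro a ha
      rw [Ideal.mem_comap, Ideal.Quotient.eq_zero_iff_mem.2 ha]
      exact P.zero_mem
    have hmax : (P.comap (Ideal.Quotient.mk J)).IsMaximal := by
      rw [hJ _ hp hle]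
      exact IsLocalRing.maximalIdeal.isMaximal A
    rcases Ideal.map_eq_top_or_isMaximal_of_surjective (Ideal.Quotient.mk J)
      Ideal.Quotient.mk_surjective hmax with h1 | h1
    · rw [Ideal.map_comap_of_surjective _ Ideal.Quotient.mk_surjective] at h1
      exact absurd h1 hP.ne_top
    · rwa [Ideal.map_comap_of_surjective _ Ideal.Quotient.mk_surjective] at h1
  haveI : IsArtinianRing (A ⧸ J) := IsNoetherianRing.isArtinianRing_of_krullDimLE_zero
  exact isArtinian_of_surjective_algebraMap (R := A ⧸ J) (S := A) (M := A ⧸ J)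
    Ideal.Quotient.mk_surjective

theorem stepC [IsIntegrallyClosed A] (hS2 : LocCoh.HasSk 2 A A)
    (hm2 : (maximalIdeal A).height = 2) (g : A)
    (hg : g ∈ maximalIdeal A) (J : Ideal A)
    (hJ : ∀ P : Ideal A, P.IsPrime → J ≤ P → P = maximalIdeal A)
    (f : A) (hf : f ≠ 0) (hgood : Ideal.span {g} ⊔ Ideal.span {f} = J)
    (hnr : ¬ (Ideal.span {f}).radical ≤ Ideal.span {f}) :
    ∃ f' : A, Ideal.span {g} ⊔ Ideal.span {f'} = J ∧
      (∀ q : Ideal A, q.IsPrime → q.height = 1 → f ∈ q → f' ∈ q) ∧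
      (Ideal.span {f'}).radical ≤ (Ideal.span {f}).radical ∧
      ¬ (Ideal.span {f}).radical ≤ (Ideal.span {f'}).radical ⊔ Ideal.span {g} := by
  -- the bad prime
  have hex : ∃ q₁ : Ideal A, q₁.IsPrime ∧ q₁.height = 1 ∧ f ∈ q₁ ∧
      ∃ x₀ ∈ q₁, ∀ t, t ∉ q₁ → t * x₀ ∉ Ideal.span {f} := by
    by_contra hcon
    apply hnr
    apply stepR hS2 f hf
    intro q hq hq1 hfq x hx
    by_contra hno
    apply hcon
    refine ⟨q, hq, hq1, hfq, x, hx, ?_⟩
    intro t ht htx
    exact hno ⟨t, ht, htx⟩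
  obtain ⟨q₁, hq₁, hq₁1, hfq₁, x₀, hx₀, hx₀f⟩ := hex
  haveI := hq₁
  obtain ⟨π, hπ, hLG⟩ := exists_unif q₁ hq₁1
  have hJq : ∀ q : Ideal A, q.IsPrime → q.height = 1 → ¬ J ≤ q := by
    intro q hq hq1 hle
    exact ht1_ne_max hm2 q hq1 (hJ q hq hle)
  have hgq : ∀ q : Ideal A, q.IsPrime → q.height = 1 → f ∈ q → g ∉ q := by
    intro q hq hq1 hfq hgq
    apply hJq q hq hq1
    rw [← hgood, sup_le_iff, Ideal.span_singleton_le_iff_mem, Ideal.span_singleton_le_iff_mem]
    exact ⟨hgq, hfq⟩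
  have hI : ¬ maximalIdeal A * J ≤ q₁ := by
    intro hle
    rcases (Ideal.IsPrime.mul_le hq₁).mp hle with h | h
    · exact ht1_ne_max hm2 q₁ hq₁1
        (le_antisymm (IsLocalRing.le_maximalIdeal_of_isPrime q₁) h)
    · exact hJq q₁ hq₁ hq₁1 h
  obtain ⟨c, hcI, hcq₁, hcq⟩ := exists_c f hf q₁ hq₁1 (maximalIdeal A * J) hI
  obtain ⟨M, hM⟩ := Ideal.exists_radical_pow_le_of_fg (Ideal.span {f})
    (IsNoetherian.noetherian _)
  have hcpow : c ^ (M + 1) ∉ q₁ := fun h => hcq₁ (hq₁.mem_of_pow_mem _ h)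
  have hh_mJ : π * c ^ (M + 1) ∈ maximalIdeal A * J := by
    apply Ideal.mul_mem_left
    rw [pow_succ]
    exact Ideal.mul_mem_left _ _ hcI
  have hgood' : Ideal.span {g} ⊔ Ideal.span {f + π * c ^ (M + 1)} = J :=
    good_add g f _ J hgood hh_mJ
  have hh_q : ∀ q : Ideal A, q.IsPrime → q.height = 1 → f ∈ q → π * c ^ (M + 1) ∈ q := by
    intro q hq hq1 hfq
    by_cases hqq : q = q₁
    · rw [hqq]
      exact Ideal.mul_mem_right _ _ hπ
    · exact Ideal.mul_mem_left _ _
        (Ideal.pow_mem_of_mem _ (hcq q hq hq1 hfq hqq) _ (Nat.succ_pos M))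
  have hf'_q : ∀ q : Ideal A, q.IsPrime → q.height = 1 → f ∈ q →
      f + π * c ^ (M + 1) ∈ q := fun q hq hq1 hfq => q.add_mem hfq (hh_q q hq hq1 hfq)
  have hrad : (Ideal.span {f + π * c ^ (M + 1)}).radical ≤ (Ideal.span {f}).radical := by
    rw [Ideal.radical_le_radical_iff, Ideal.span_singleton_le_iff_mem, mem_rad f hf]
    exact hf'_q
  have hf'0 : f + π * c ^ (M + 1) ≠ 0 := by
    intro h0
    apply not_mem_g hm2 g hg J hJ _ hgood'
    rw [h0]
    exact Ideal.zero_mem _
  -- a new height-one prime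
  have hnew : ∃ q' : Ideal A, q'.IsPrime ∧ q'.height = 1 ∧ f + π * c ^ (M + 1) ∈ q' ∧
      f ∉ q' := by
    by_contra hall
    have hall' : ∀ q' : Ideal A, q'.IsPrime → q'.height = 1 →
        f + π * c ^ (M + 1) ∈ q' → f ∈ q' := by
      intro q' hq' hq'1 hf'q'
      by_contra hfq'
      exact hall ⟨q', hq', hq'1, hf'q', hfq'⟩
    -- case q = q₁
    have caseA : ∃ t, t ∉ q₁ ∧ t * f ∈ Ideal.span {f + π * c ^ (M + 1)} := by
      obtain ⟨s₁, hs₁, hs₁f⟩ := hLG f hfq₁
      obtain ⟨y, hy⟩ := Ideal.mem_span_singleton'.mp hs₁f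
      have hyq : y ∈ q₁ := by
        by_contra hyn
        obtain ⟨s₃, hs₃, hs₃x⟩ := hLG x₀ hx₀
        obtain ⟨z, hz⟩ := Ideal.mem_span_singleton'.mp hs₃x
        apply hx₀f (y * s₃) (fun h => (hq₁.mem_or_mem h).elim hyn hs₃)
        rw [Ideal.mem_span_singleton']
        exact ⟨z * s₁, by linear_combination (-z) * hy + y * hz⟩
      obtain ⟨s₂, hs₂, hs₂y⟩ := hLG y hyq
      obtain ⟨y', hy'⟩ := Ideal.mem_span_singleton'.mp hs₂y
      have hw : y' * π + s₁ * s₂ * c ^ (M + 1) ∉ q₁ := by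
        intro hw
        have h1 : s₁ * s₂ * c ^ (M + 1) ∈ q₁ := by
          have h2 := q₁.sub_mem hw (Ideal.mul_mem_left q₁ y' hπ)
          rwa [add_sub_cancel_left] at h2
        rcases hq₁.mem_or_mem h1 with h3 | h3
        · exact (hq₁.mem_or_mem h3).elim hs₁ hs₂
        · exact hcpow h3
      refine ⟨(y' * π + s₁ * s₂ * c ^ (M + 1)) * s₁ * s₂, ?_, ?_⟩
      · intro h
        rcases hq₁.mem_or_mem h with h3 | h3
        · exact (hq₁.mem_or_mem h3).elim hw hs₁
        · exact hs₂ h3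
      · rw [Ideal.mem_span_singleton']
        exact ⟨y' * π * s₁ * s₂, by
          linear_combination (s₁ * s₂ * c ^ (M + 1)) * (π * hy' + s₂ * hy)⟩
    have hmem : f ∈ Ideal.span {f + π * c ^ (M + 1)} := by
      apply hartogs hS2 _ f hf'0
      intro q hq hq1
      by_cases hf'q : f + π * c ^ (M + 1) ∈ q
      · have hfq := hall' q hq hq1 hf'q
        by_cases hqq : q = q₁
        · rw [hqq]
          exact caseA
        · -- case q ≠ q₁
          haveI := hq
          have hcq' : c ∈ q := hcq q hq hq1 hfq hqq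
          have hnle : ¬ q₁ ≤ q := by
            intro hle
            apply hqq
            have hq₁ne : q₁ ≠ ⊥ := by
              intro hbot
              rw [hbot] at hfq₁
              exact hf ((Submodule.mem_bot A).mp hfq₁)
            exact (ht1_min q q₁ hq1 hle hq₁ne).symm
          obtain ⟨t, htq₁, htq⟩ := SetLike.not_le_iff_exists.mp hnle
          have htc : t * c ∈ (Ideal.span {f}).radical := by
            rw [mem_rad f hf]
            intro q'' hq'' hq''1 hfq''
            by_cases hqq'' : q'' = q₁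
            · rw [hqq'']
              exact Ideal.mul_mem_right _ _ htq₁
            · exact Ideal.mul_mem_left _ _ (hcq q'' hq'' hq''1 hfq'' hqq'')
          have htcM : (t * c) ^ M ∈ Ideal.span {f} := hM (Ideal.pow_mem_pow htc M)
          obtain ⟨z, hz⟩ := Ideal.mem_span_singleton'.mp htcM
          refine ⟨t ^ M + π * c * z, ?_, ?_⟩
          · intro hw
            have h1 : t ^ M ∈ q := by
              have h2 := q.sub_mem hw
                (Ideal.mul_mem_right z q (Ideal.mul_mem_left q π hcq'))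
              rwa [add_sub_cancel_right] at h2
            exact htq (hq.mem_of_pow_mem _ h1)
          · rw [Ideal.mem_span_singleton']
            exact ⟨t ^ M, by linear_combination (-(π * c)) * hz⟩
      · exact ⟨f + π * c ^ (M + 1), hf'q,
          Ideal.mul_mem_right _ _ (Ideal.mem_span_singleton_self _)⟩
    obtain ⟨u, hu⟩ := Ideal.mem_span_singleton'.mp hmem
    by_cases huu : IsUnit u
    · obtain ⟨v, hv⟩ := huu.exists_left_inv
      obtain ⟨s₃, hs₃, hs₃x⟩ := hLG x₀ hx₀
      obtain ⟨z, hz⟩ := Ideal.mem_span_singleton'.mp hs₃x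
      apply hx₀f (s₃ * c ^ (M + 1)) (fun h => (hq₁.mem_or_mem h).elim hs₃ hcpow)
      rw [Ideal.mem_span_singleton']
      exact ⟨z * (v - 1), by
        linear_combination z * ((-v) * hu + (f + π * c ^ (M + 1)) * hv) + c ^ (M + 1) * hz⟩
    · have hum : u ∈ maximalIdeal A :=
        (IsLocalRing.mem_maximalIdeal u).mpr (mem_nonunits_iff.mpr huu)
      have h1 : Ideal.span {f + π * c ^ (M + 1)} ≤
          Ideal.span {g} ⊔ maximalIdeal A • Ideal.span {f + π * c ^ (M + 1)} := by
        have h2 : Ideal.span {f + π * c ^ (M + 1)} ≤ J := by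
          rw [← hgood']; exact le_sup_right
        refine le_trans h2 ?_
        rw [← hgood, sup_le_iff]
        refine ⟨le_sup_left, le_sup_of_le_right ?_⟩
        rw [Ideal.span_singleton_le_iff_mem, smul_eq_mul]
        have h4 : u * (f + π * c ^ (M + 1)) ∈
            maximalIdeal A * Ideal.span {f + π * c ^ (M + 1)} :=
          Ideal.mul_mem_mul hum (Ideal.mem_span_singleton_self _)
        rwa [hu] at h4
      have h3 : Ideal.span {f + π * c ^ (M + 1)} ≤ Ideal.span {g} :=
        Submodule.le_of_le_smul_of_le_jacobson_bot (IsNoetherian.noetherian _)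
          (IsLocalRing.maximalIdeal_le_jacobson ⊥) h1
      exact not_mem_g hm2 g hg J hJ _ hgood' (h3 (Ideal.mem_span_singleton_self _))
  obtain ⟨q', hq', hq'1, hf'q', hfq'⟩ := hnew
  refine ⟨f + π * c ^ (M + 1), hgood', hf'_q, hrad, ?_⟩
  intro hle
  have hK : (Ideal.span {f}).radical ≤
      (Ideal.span {f + π * c ^ (M + 1)}).radical ⊔
        maximalIdeal A • (Ideal.span {f}).radical := by
    intro x hx
    obtain ⟨k', hk', b, hb, hkb⟩ := Submodule.mem_sup.mp (hle hx)
    obtain ⟨a, hab⟩ := Ideal.mem_span_singleton'.mp hb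
    have hag : a * g ∈ (Ideal.span {f}).radical := by
      have h1 := (Ideal.span {f}).radical.sub_mem hx (hrad hk')
      rw [← hkb, add_sub_cancel_left, ← hab] at h1
      exact h1
    have ha : a ∈ (Ideal.span {f}).radical := by
      rw [mem_rad f hf] at hag ⊢
      intro q hq hq1 hfq
      rcases hq.mem_or_mem (hag q hq hq1 hfq) with h | h
      · exact h
      · exact absurd h (hgq q hq hq1 hfq)
    refine Submodule.mem_sup.mpr ⟨k', hk', b, ?_, hkb⟩
    rw [← hab, mul_comm, smul_eq_mul]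
    exact Ideal.mul_mem_mul hg ha
  have hKK' : (Ideal.span {f}).radical ≤ (Ideal.span {f + π * c ^ (M + 1)}).radical :=
    Submodule.le_of_le_smul_of_le_jacobson_bot (IsNoetherian.noetherian _)
      (IsLocalRing.maximalIdeal_le_jacobson ⊥) hK
  have hK'q' : (Ideal.span {f + π * c ^ (M + 1)}).radical ≤ q' := by
    rw [Ideal.IsPrime.radical_le_iff hq', Ideal.span_singleton_le_iff_mem]
    exact hf'q'
  exact hfq' (hK'q' (hKK' (Ideal.le_radical (Ideal.mem_span_singleton_self f))))

theorem exists_f0 (s : Finset (Ideal A)) (hs : ∀ p ∈ s, p.IsPrime ∧ p.height = 1) :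
    ∃ f : A, f ≠ 0 ∧ ∀ p ∈ s, f ∈ p := by
  classical
  induction s using Finset.induction_on with
  | empty => exact ⟨1, one_ne_zero, by simp⟩
  | insert p s hp ih =>
    obtain ⟨f, hf, hfs⟩ := ih (fun q hq => hs q (Finset.mem_insert_of_mem hq))
    have hp1 := (hs p (Finset.mem_insert_self p s)).2
    obtain ⟨a, hap, ha0⟩ :=
      Submodule.exists_mem_ne_zero_of_ne_bot (Ideal.ne_bot_of_height_eq_one hp1)
    refine ⟨a * f, mul_ne_zero ha0 hf, ?_⟩
    intro q hq
    rcases Finset.mem_insert.mp hq with rfl | hq'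
    · exact Ideal.mul_mem_right _ _ hap
    · exact Ideal.mul_mem_left _ _ (hfs q hq')

theorem exists_g (hm2 : (maximalIdeal A).height = 2) (f₀ : A) :
    ∃ g ∈ maximalIdeal A, ∀ q ∈ (Ideal.span {f₀}).minimalPrimes, g ∉ q := by
  classical
  have hfin := Ideal.finite_minimalPrimes_of_isNoetherianRing A (Ideal.span {f₀})
  have hnot : ¬ ((maximalIdeal A : Set A) ⊆ ⋃ i ∈ (↑hfin.toFinset : Set (Ideal A)), (id i : Ideal A)) := by
    intro hsub
    obtain ⟨q, hq, hle⟩ := (Ideal.subset_union_prime (s := hfin.toFinset) (f := id) ⊥ ⊥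
      (fun i hi _ _ => by
        rw [Set.Finite.mem_toFinset] at hi
        exact hi.1.1)).mp hsub
    rw [Set.Finite.mem_toFinset] at hq
    haveI : q.IsPrime := hq.1.1
    have hqm : q = maximalIdeal A :=
      le_antisymm (IsLocalRing.le_maximalIdeal_of_isPrime q) hle
    have h1 := Ideal.height_le_one_of_isPrincipal_of_mem_minimalPrimes _ q hq
    rw [hqm, hm2] at h1
    exact absurd h1 (not_le.mpr (by exact_mod_cast (by norm_num : (1 : ℕ) < 2)))
  obtain ⟨g, hg, hgn⟩ := Set.not_subset.mp hnot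
  refine ⟨g, hg, ?_⟩
  intro q hq hgq
  apply hgn
  refine Set.mem_iUnion₂.mpr ⟨q, ?_, hgq⟩
  rw [Finset.mem_coe, Set.Finite.mem_toFinset]
  exact hq

theorem main [IsIntegrallyClosed A] (hdim : ringKrullDim A = 2)
    (s : Finset (Ideal A)) (hs : ∀ p ∈ s, p.IsPrime ∧ p.height = 1) :
    ∃ f : A, f ≠ 0 ∧ (∀ p ∈ s, f ∈ p) ∧ IsReduced (A ⧸ Ideal.span {f}) := by
  have hS2 : LocCoh.HasSk 2 A A := hasS2_normal A
  have hm2 : (maximalIdeal A).height = 2 := by
    have h := IsLocalRing.maximalIdeal_height_eq_ringKrullDim (R := A)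
    rw [hdim] at h
    have h2 : ((maximalIdeal A).height : WithBot ℕ∞) = ((2 : ℕ∞) : WithBot ℕ∞) := h
    exact WithBot.coe_injective h2
  obtain ⟨f₀, hf₀, hf₀s⟩ := exists_f0 s hs
  obtain ⟨g, hg, hgmin⟩ := exists_g hm2 f₀
  obtain ⟨J, hJdef⟩ : ∃ J : Ideal A, Ideal.span {g} ⊔ Ideal.span {f₀} = J := ⟨_, rfl⟩
  have hJ : ∀ P : Ideal A, P.IsPrime → J ≤ P → P = maximalIdeal A := by
    intro P hP hJP
    haveI := hP
    have hf₀P : Ideal.span {f₀} ≤ P := by
      refine le_trans ?_ hJP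
      rw [← hJdef]; exact le_sup_right
    obtain ⟨q, hqmin, hqP⟩ := Ideal.exists_minimalPrimes_le hf₀P
    haveI : q.IsPrime := hqmin.1.1
    have hf₀q : f₀ ∈ q := hqmin.1.2 (Ideal.mem_span_singleton_self f₀)
    have hqne : q ≠ ⊥ := by
      intro hb
      rw [hb] at hf₀q
      exact hf₀ ((Submodule.mem_bot A).mp hf₀q)
    have hgP : g ∈ P := by
      apply hJP
      rw [← hJdef]
      exact Ideal.mem_sup_left (Ideal.mem_span_singleton_self g)
    have hlt : q < P := lt_of_le_of_ne hqP (fun h => hgmin q hqmin (h ▸ hgP))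
    exact ht2 hm2 q P hqne hlt
  haveI : IsArtinian A (A ⧸ J) := artinian_quot J hJ
  obtain ⟨N₀, ⟨f, hfs, hfgood, hN₀⟩, hmin⟩ := IsArtinian.set_has_minimal
    {N : Submodule A (A ⧸ J) | ∃ f' : A, (∀ p ∈ s, f' ∈ p) ∧
      Ideal.span {g} ⊔ Ideal.span {f'} = J ∧
      N = Submodule.map J.mkQ ((Ideal.span {f'}).radical ⊔ Ideal.span {g})}
    ⟨_, f₀, hf₀s, hJdef, rfl⟩
  have hf0 : f ≠ 0 := by
    intro h0
    apply not_mem_g hm2 g hg J hJ f hfgood
    rw [h0]
    exact Ideal.zero_mem _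
  refine ⟨f, hf0, hfs, ?_⟩
  rw [← Ideal.isRadical_iff_quotient_reduced]
  by_contra hnr
  obtain ⟨f', hg', hq', hrad, hnot⟩ := stepC hS2 hm2 g hg J hJ f hf0 hfgood hnr
  have hf's : ∀ p ∈ s, f' ∈ p := fun p hp => hq' p (hs p hp).1 (hs p hp).2 (hfs p hp)
  apply hmin (Submodule.map J.mkQ ((Ideal.span {f'}).radical ⊔ Ideal.span {g}))
    ⟨f', hf's, hg', rfl⟩
  rw [hN₀]
  refine lt_of_le_of_ne (Submodule.map_mono (sup_le_sup_right hrad _)) ?_
  intro heq
  apply hnot
  intro x hx
  have hx1 : J.mkQ x ∈ Submodule.map J.mkQ ((Ideal.span {f}).radical ⊔ Ideal.span {g}) :=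
    Submodule.mem_map_of_mem (Ideal.mem_sup_left hx)
  rw [← heq] at hx1
  obtain ⟨y, hy, hyx⟩ := Submodule.mem_map.mp hx1
  rw [Submodule.mkQ_apply, Submodule.mkQ_apply] at hyx
  have hd : x - y ∈ J := (Submodule.Quotient.eq J).mp hyx.symm
  have hJle : J ≤ (Ideal.span {f'}).radical ⊔ Ideal.span {g} := by
    rw [← hg', sup_le_iff]
    exact ⟨le_sup_right, le_sup_of_le_left Ideal.le_radical⟩
  have hx2 : x = y + (x - y) := by ring
  rw [hx2]
  exact Ideal.add_mem _ hy (hJle hd)

end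

end H7119

/-- Let R be a Noetherian normal local domain of Krull dimension 2 and let p_1, ..., p_r be finitely
many prime ideals of height one. Then there is a nonzero element f lying in all the p_i such that
R/fR is reduced. -/
theorem result (R : Type u) [CommRing R] [IsDomain R]
    [IsNoetherianRing R] [IsLocalRing R] [IsIntegrallyClosed R] (hdim : ringKrullDim R = 2)
    (s : Finset (Ideal R)) (hs : ∀ p ∈ s, p.IsPrime ∧ p.height = 1) :
    ∃ f : R, f ≠ 0 ∧ (∀ p ∈ s, f ∈ p) ∧ IsReduced (R ⧸ Ideal.span {f}) := by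
  exact H7119.main hdim s hs

end Groth.Agent.S7119
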