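import Groth.Statements.S7118
import Mathlib
import Groth.Agent.S7119

set_option autoImplicit false
universe u
open CAlg

namespace Groth.Agent.S7118


namespace H7118
open IsLocalRing

theorem main {A : Type u} [CommRing A] [IsDomain A] [IsNoetherianRing A]
    [IsLocalRing A] [IsIntegrallyClosed A] (hdim : ringKrullDim A = 2) (a : A) (ha0 : a ≠ 0) :
    ∃ c : A, c ≠ 0 ∧ IsReduced (A ⧸ Ideal.span {c}) ∧ ∃ n : ℕ, a ∣ c ^ n := by
  classical
  obtain ⟨c, hc0, hcs, hred⟩ := Groth.Agent.S7119.result A hdim
    (Ideal.finite_minimalPrimes_of_isNoetherianRing A (Ideal.span {a})).toFinset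
    (fun p hp => by
      rw [Set.Finite.mem_toFinset] at hp
      obtain ⟨h1, h2, -⟩ := (Groth.Agent.S7119.H7119.minf_iff a ha0 p).mp hp
      exact ⟨h1, h2⟩)
  refine ⟨c, hc0, hred, ?_⟩
  have hc : c ∈ (Ideal.span {a}).radical := by
    rw [← Ideal.sInf_minimalPrimes, Submodule.mem_sInf]
    intro p hp
    exact hcs p ((Set.Finite.mem_toFinset _).mpr hp)
  obtain ⟨n, hn⟩ := Ideal.mem_radical_iff.mp hc
  exact ⟨n, Ideal.mem_span_singleton.mp hn⟩

end H7118

/-- Let A be a Noetherian normal local domain of Krull dimension 2 and a a nonzero element of the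
maximal ideal. Then there is a nonzero element c of A such that A/cA is reduced and a divides some
power cⁿ. (The published statement does not require c to be nonzero and is then satisfied by c = 0;
this row requires c ≠ 0.) -/
theorem result (A : Type u) [CommRing A] [IsDomain A] [IsNoetherianRing A]
    [IsLocalRing A] [IsIntegrallyClosed A] (hdim : ringKrullDim A = 2) (a : A)
    (ha : a ∈ IsLocalRing.maximalIdeal A) (ha0 : a ≠ 0) :
    ∃ c : A, c ≠ 0 ∧ IsReduced (A ⧸ Ideal.span {c}) ∧ ∃ n : ℕ, a ∣ c ^ n := by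
  exact H7118.main hdim a ha0

end Groth.Agent.S7118
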