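import Groth.Statements.S7121
import Mathlib
import Groth.Agent.Lib.Helper26.CyclicSummand
import Groth.Agent.Lib.Helper11.Bezout

set_option autoImplicit false
universe u
open CAlg

namespace Groth.Agent.S7121

open Groth.Agent.Lib.Helper26.CyclicSummand

/-- total divisibility in the localization of a Bézout domain at a prime -/
theorem bezout_local_total (R : Type u) [CommRing R] [IsDomain R] [IsBezout R] (m : Ideal R)
    [m.IsPrime] (x y : Localization.AtPrime m) : x ∣ y ∨ y ∣ x := by
  obtain ⟨a, s, rfl⟩ := IsLocalization.exists_mk'_eq m.primeCompl x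
  obtain ⟨b, t, rfl⟩ := IsLocalization.exists_mk'_eq m.primeCompl y
  have hs : IsUnit (algebraMap R (Localization.AtPrime m) s) := IsLocalization.map_units _ s
  have ht : IsUnit (algebraMap R (Localization.AtPrime m) t) := IsLocalization.map_units _ t
  have hXA : IsLocalization.mk' (Localization.AtPrime m) a s ∣ algebraMap R _ a :=
    ⟨_, (IsLocalization.mk'_spec _ a s).symm⟩
  have hAX : algebraMap R _ a ∣ IsLocalization.mk' (Localization.AtPrime m) a s :=
    (hs.dvd_mul_right).1 (by rw [IsLocalization.mk'_spec])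
  have hYB : IsLocalization.mk' (Localization.AtPrime m) b t ∣ algebraMap R _ b :=
    ⟨_, (IsLocalization.mk'_spec _ b t).symm⟩
  have hBY : algebraMap R _ b ∣ IsLocalization.mk' (Localization.AtPrime m) b t :=
    (ht.dvd_mul_right).1 (by rw [IsLocalization.mk'_spec])
  suffices h : algebraMap R (Localization.AtPrime m) a ∣ algebraMap R _ b ∨
      algebraMap R (Localization.AtPrime m) b ∣ algebraMap R _ a by
    rcases h with h | h
    · exact Or.inl (hXA.trans (h.trans hBY))
    · exact Or.inr (hYB.trans (h.trans hAX))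
  obtain ⟨a', ha'⟩ := IsBezout.gcd_dvd_left a b
  obtain ⟨b', hb'⟩ := IsBezout.gcd_dvd_right a b
  obtain ⟨p, q, hpq⟩ := IsBezout.gcd_eq_sum a b
  by_cases hd : IsBezout.gcd a b = 0
  · left
    rw [hb', hd, zero_mul, map_zero]
    exact dvd_zero _
  · have h1 : p * a' + q * b' = 1 := by
      apply mul_left_cancel₀ hd
      rw [mul_one]
      calc IsBezout.gcd a b * (p * a' + q * b')
          = p * (IsBezout.gcd a b * a') + q * (IsBezout.gcd a b * b') := by ring
        _ = IsBezout.gcd a b := by rw [← ha', ← hb', hpq]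
    have hor : a' ∉ m ∨ b' ∉ m := by
      by_contra hcon
      push_neg at hcon
      have : (1 : R) ∈ m := by
        rw [← h1]
        exact m.add_mem (m.mul_mem_left _ hcon.1) (m.mul_mem_left _ hcon.2)
      exact (Ideal.IsPrime.ne_top ‹_›) ((Ideal.eq_top_iff_one m).2 this)
    rcases hor with h | h
    · left
      have hu : IsUnit (algebraMap R (Localization.AtPrime m) a') :=
        IsLocalization.map_units _ (⟨a', h⟩ : m.primeCompl)
      have hAD : algebraMap R (Localization.AtPrime m) a ∣ algebraMap R _ (IsBezout.gcd a b) := by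
        apply (hu.dvd_mul_right).1
        rw [← map_mul, ← ha']
      exact hAD.trans (map_dvd _ (IsBezout.gcd_dvd_right a b))
    · right
      have hu : IsUnit (algebraMap R (Localization.AtPrime m) b') :=
        IsLocalization.map_units _ (⟨b', h⟩ : m.primeCompl)
      have hBD : algebraMap R (Localization.AtPrime m) b ∣ algebraMap R _ (IsBezout.gcd a b) := by
        apply (hu.dvd_mul_right).1
        rw [← map_mul, ← hb']
      exact hBD.trans (map_dvd _ (IsBezout.gcd_dvd_left a b))

/-- Over a Bézout domain R, a finitely presented module M splits as R^r ⊕ M_tors for some r, and its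
torsion part M_tors is a retract (direct summand) of R/f_1R ⊕ … ⊕ R/f_nR for some nonzero f_1, …,
f_n. -/
theorem result (R : Type u) [CommRing R] [IsDomain R] [IsBezout R]
    (M : Type u) [AddCommGroup M] [Module R M] [Module.FinitePresentation R M] :
    (∃ r : ℕ, Nonempty (M ≃ₗ[R] ((Fin r → R) × Submodule.torsion R M))) ∧
      ∃ (n : ℕ) (f : Fin n → R), (∀ j, f j ≠ 0) ∧
        ∃ (i : Submodule.torsion R M →ₗ[R] ((j : Fin n) → R ⧸ Ideal.span {f j}))
          (p : ((j : Fin n) → R ⧸ Ideal.span {f j}) →ₗ[R] Submodule.torsion R M),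
          p ∘ₗ i = LinearMap.id := by
  classical
  have h : ∀ (m : Ideal R) [m.IsMaximal], ∀ a b : Localization.AtPrime m, a ∣ b ∨ b ∣ a :=
    fun m _ a b => bezout_local_total R m a b
  obtain ⟨ι, hι, a, α, β, hid⟩ := exists_retract (M := M) h
  obtain ⟨r₀, hr₀def⟩ : ∃ r₀ : R, r₀ = ∏ i ∈ Finset.univ.filter (fun i => a i ≠ 0), a i := ⟨_, rfl⟩
  have hr₀ : r₀ ≠ 0 := by
    rw [hr₀def]
    exact Finset.prod_ne_zero_iff.2 (fun i hi => (Finset.mem_filter.1 hi).2)
  have hkill : ∀ (c : (i : ι) → R ⧸ Ideal.span {a i}), (∀ i, a i = 0 → c i = 0) → r₀ • c = 0 := by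
    intro c hc
    funext i
    by_cases hi : a i = 0
    · rw [Pi.smul_apply, hc i hi, smul_zero]; rfl
    · obtain ⟨d, hd⟩ := Submodule.Quotient.mk_surjective _ (c i)
      rw [Pi.smul_apply, ← hd, ← Submodule.Quotient.mk_smul]
      show Submodule.Quotient.mk (r₀ • d) = 0
      rw [Submodule.Quotient.mk_eq_zero, smul_eq_mul]
      have hdvd : a i ∣ r₀ := by
        rw [hr₀def]
        exact Finset.dvd_prod_of_mem _ (Finset.mem_filter.2 ⟨Finset.mem_univ _, hi⟩)
      exact Ideal.mem_span_singleton.2 (hdvd.mul_right d)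
  have htors : ∀ z : M, z ∈ Submodule.torsion R M ↔ ∀ i, a i = 0 → α z i = 0 := by
    intro z
    constructor
    · intro hz i hi
      obtain ⟨⟨t, ht⟩, htz⟩ := (Submodule.mem_torsion_iff z).1 hz
      have htz' : t • z = 0 := htz
      have h1 : t • α z i = 0 := by
        have := congrFun (congrArg α htz') i
        rw [map_smul, map_zero] at this
        exact this
      obtain ⟨d, hd⟩ := Submodule.Quotient.mk_surjective _ (α z i)
      rw [← hd, ← Submodule.Quotient.mk_smul, Submodule.Quotient.mk_eq_zero, hi,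
        Ideal.span_singleton_eq_bot.2 rfl, Ideal.mem_bot, smul_eq_mul] at h1
      have hd0 : d = 0 := (mul_eq_zero.1 h1).resolve_left (nonZeroDivisors.ne_zero ht)
      rw [← hd, hd0]
      rfl
    · intro hz
      have h1 : r₀ • α z = 0 := hkill _ hz
      have h2 : r₀ • z = 0 := by
        have := congrArg β h1
        rwa [map_smul, hid, map_zero] at this
      exact (Submodule.mem_torsion_iff z).2 ⟨⟨r₀, mem_nonZeroDivisors_of_ne_zero hr₀⟩, h2⟩
  constructor
  · -- part 1
    have hbij : ∀ j : {i : ι // a i = 0}, Function.Bijective (Submodule.mkQ (Ideal.span {a j.1})) := by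
      intro j
      refine ⟨?_, Submodule.mkQ_surjective _⟩
      rw [← LinearMap.ker_eq_bot, Submodule.ker_mkQ, j.2]
      exact Ideal.span_singleton_eq_bot.2 rfl
    let εj : ∀ j : {i : ι // a i = 0}, (R ⧸ Ideal.span {a j.1}) ≃ₗ[R] R :=
      fun j => (LinearEquiv.ofBijective _ (hbij j)).symm
    let ρ : M →ₗ[R] ({i : ι // a i = 0} → R) :=
      LinearMap.pi (fun j => (εj j).toLinearMap ∘ₗ (LinearMap.proj j.1) ∘ₗ α)
    have hρ : ∀ z, ρ z = 0 ↔ z ∈ Submodule.torsion R M := by
      intro z
      rw [htors]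
      constructor
      · intro h0 i hi
        have := congrFun h0 ⟨i, hi⟩
        exact (εj ⟨i, hi⟩).map_eq_zero_iff.1 this
      · intro h0
        funext j
        show εj j (α z j.1) = 0
        rw [h0 j.1 j.2, map_zero]
    haveI hfree : Module.Free R (LinearMap.range ρ) :=
      Groth.Agent.Lib.Helper11.free_of_fg_submodule_of_free ({i : ι // a i = 0} → R)
        (LinearMap.range ρ) (by rw [LinearMap.range_eq_map]; exact Module.Finite.fg_top.map ρ)
    haveI : Module.Finite R (LinearMap.range ρ) := Module.Finite.range ρ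
    obtain ⟨σ, hσ⟩ := Module.projective_lifting_property ρ.rangeRestrict
      (LinearMap.id : LinearMap.range ρ →ₗ[R] LinearMap.range ρ) ρ.surjective_rangeRestrict
    have hσ' : ∀ w, ρ.rangeRestrict (σ w) = w := fun w => LinearMap.congr_fun hσ w
    have hτmem : ∀ z, ((LinearMap.id : M →ₗ[R] M) - σ ∘ₗ ρ.rangeRestrict) z ∈
        Submodule.torsion R M := by
      intro z
      rw [← hρ]
      show ρ (z - σ (ρ.rangeRestrict z)) = 0
      rw [map_sub, sub_eq_zero]
      have := congrArg Subtype.val (hσ' (ρ.rangeRestrict z))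
      exact this.symm
    let τ : M →ₗ[R] Submodule.torsion R M :=
      LinearMap.codRestrict _ ((LinearMap.id : M →ₗ[R] M) - σ ∘ₗ ρ.rangeRestrict) hτmem
    have hτ : ∀ z, ((τ z : Submodule.torsion R M) : M) = z - σ (ρ.rangeRestrict z) := fun z => rfl
    let Φ : M →ₗ[R] (LinearMap.range ρ) × (Submodule.torsion R M) := ρ.rangeRestrict.prod τ
    have hΦinj : Function.Injective Φ := by
      rw [← LinearMap.ker_eq_bot, LinearMap.ker_eq_bot']
      intro z hz
      have hz1 : ρ.rangeRestrict z = 0 := congrArg Prod.fst hz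
      have hz2 : τ z = 0 := congrArg Prod.snd hz
      have hz3 := congrArg Subtype.val hz2
      rw [hτ, hz1, map_zero, sub_zero] at hz3
      exact hz3
    have hΦsurj : Function.Surjective Φ := by
      rintro ⟨w, t⟩
      have ht0 : ρ.rangeRestrict (t : M) = 0 := by
        apply Subtype.ext
        exact (hρ _).2 t.2
      have e1 : ρ.rangeRestrict (σ w + (t : M)) = w := by
        rw [map_add, hσ', ht0, add_zero]
      refine ⟨σ w + (t : M), Prod.ext e1 (Subtype.ext ?_)⟩
      show ((τ (σ w + (t : M)) : Submodule.torsion R M) : M) = t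
      rw [hτ, e1]
      abel
    refine ⟨Module.finrank R (LinearMap.range ρ), ⟨?_⟩⟩
    exact (LinearEquiv.ofBijective Φ ⟨hΦinj, hΦsurj⟩).trans
      (LinearEquiv.prodCongr (Module.finBasis R (LinearMap.range ρ)).equivFun
        (LinearEquiv.refl R _))
  · -- part 2
    let ext' : ((j : {i : ι // a i ≠ 0}) → R ⧸ Ideal.span {a j.1}) →ₗ[R]
        ((i : ι) → R ⧸ Ideal.span {a i}) :=
      { toFun := fun c i => if hi : a i = 0 then (0 : R ⧸ Ideal.span {a i}) else c ⟨i, hi⟩
        map_add' := by
          intro c c'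
          funext i
          by_cases hi : a i = 0
          · simp only [Pi.add_apply, dif_pos hi, add_zero]
          · simp only [Pi.add_apply, dif_neg hi]
        map_smul' := by
          intro r c
          funext i
          by_cases hi : a i = 0
          · simp only [Pi.smul_apply, dif_pos hi, smul_zero, RingHom.id_apply]
          · simp only [Pi.smul_apply, dif_neg hi, RingHom.id_apply] }
    have hext1 : ∀ c i (hi : a i ≠ 0), ext' c i = c ⟨i, hi⟩ := by
      intro c i hi
      show (if hi : a i = 0 then (0 : R ⧸ Ideal.span {a i}) else c ⟨i, hi⟩) = _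
      rw [dif_neg hi]
    have hext0 : ∀ c i, a i = 0 → ext' c i = 0 := by
      intro c i hi
      show (if hi : a i = 0 then (0 : R ⧸ Ideal.span {a i}) else c ⟨i, hi⟩) = _
      rw [dif_pos hi]
    let res' : ((i : ι) → R ⧸ Ideal.span {a i}) →ₗ[R]
        ((j : {i : ι // a i ≠ 0}) → R ⧸ Ideal.span {a j.1}) :=
      LinearMap.pi (fun j => LinearMap.proj j.1)
    let i₀ : Submodule.torsion R M →ₗ[R] ((j : {i : ι // a i ≠ 0}) → R ⧸ Ideal.span {a j.1}) :=
      res' ∘ₗ α ∘ₗ (Submodule.torsion R M).subtype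
    have hp₀mem : ∀ c, (β ∘ₗ ext') c ∈ Submodule.torsion R M := by
      intro c
      have h1 : r₀ • ext' c = 0 := hkill _ (fun i hi => hext0 c i hi)
      refine (Submodule.mem_torsion_iff _).2 ⟨⟨r₀, mem_nonZeroDivisors_of_ne_zero hr₀⟩, ?_⟩
      show r₀ • β (ext' c) = 0
      rw [← map_smul, h1, map_zero]
    let p₀ : ((j : {i : ι // a i ≠ 0}) → R ⧸ Ideal.span {a j.1}) →ₗ[R] Submodule.torsion R M :=
      LinearMap.codRestrict _ (β ∘ₗ ext') hp₀mem
    have hp₀i₀ : ∀ t : Submodule.torsion R M, p₀ (i₀ t) = t := by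
      intro t
      apply Subtype.ext
      show β (ext' (res' (α (t : M)))) = t
      have : ext' (res' (α (t : M))) = α (t : M) := by
        funext i
        by_cases hi : a i = 0
        · rw [hext0 _ i hi, (htors _).1 t.2 i hi]
        · rw [hext1 _ i hi]
          rfl
      rw [this, hid]
    let e' := Fintype.equivFin {i : ι // a i ≠ 0}
    let E : ((j : {i : ι // a i ≠ 0}) → R ⧸ Ideal.span {a j.1}) ≃ₗ[R]
        ((k : Fin (Fintype.card {i : ι // a i ≠ 0})) → R ⧸ Ideal.span {a (e'.symm k).1}) :=
      LinearEquiv.piCongrLeft' R (fun j : {i : ι // a i ≠ 0} => R ⧸ Ideal.span {a j.1}) e'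
    refine ⟨Fintype.card {i : ι // a i ≠ 0}, fun k => a (e'.symm k).1, fun k => (e'.symm k).2,
      E.toLinearMap ∘ₗ i₀, p₀ ∘ₗ E.symm.toLinearMap, ?_⟩
    ext t
    show ((p₀ (E.symm (E (i₀ t))) : Submodule.torsion R M) : M) = t
    rw [LinearEquiv.symm_apply_apply, hp₀i₀]

end Groth.Agent.S7121
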