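import Groth.Statements.S7122
import Groth.Agent.Lib.Helper11.Bezout
import Mathlib

set_option autoImplicit false
universe u
open CAlg

namespace Groth.Agent.S7122

open Groth.Agent.Lib.Helper11

/-- Let R be a Bézout domain, n ≥ 1, and f_1, ..., f_n elements generating the unit ideal. Then some
invertible n × n matrix over R has (f_1, ..., f_n) as its first row. -/
theorem result (R : Type u) [CommRing R] [IsDomain R] [IsBezout R]
    (n : ℕ) (f : Fin (n + 1) → R) (hf : Ideal.span (Set.range f) = ⊤) :
    ∃ A : Matrix (Fin (n + 1)) (Fin (n + 1)) R, IsUnit A.det ∧ A 0 = f := by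
  classical
  have h1 : (1 : R) ∈ Ideal.span (Set.range f) := by rw [hf]; trivial
  obtain ⟨c, hc⟩ := (Ideal.mem_span_range_iff_exists_fun).1 h1
  -- the functional `φ w = ∑ c i * w i`
  let φ : (Fin (n + 1) → R) →ₗ[R] R :=
    ∑ i, (c i) • (LinearMap.proj i : (Fin (n + 1) → R) →ₗ[R] R)
  have hφ : ∀ w, φ w = ∑ i, c i * w i := by
    intro w
    simp [φ, LinearMap.sum_apply]
  have hφf : φ f = 1 := by rw [hφ]; exact hc
  let ι : R →ₗ[R] (Fin (n + 1) → R) := LinearMap.toSpanSingleton R _ f
  have hsplit : ∀ r : R, φ (ι r) = r := by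
    intro r
    show φ (r • f) = r
    rw [map_smul, hφf, smul_eq_mul, mul_one]
  let e := prodKerEquivOfSplit R ι φ hsplit
  -- the kernel is finite free of rank n
  haveI : Module.Finite R (LinearMap.ker φ) :=
    Module.Finite.of_surjective ((LinearMap.snd R R _).comp e.symm.toLinearMap) (by
      intro k
      exact ⟨e (0, k), by simp⟩)
  haveI : Module.Free R (LinearMap.ker φ) :=
    free_of_fg_submodule_of_free (Fin (n + 1) → R) (LinearMap.ker φ) (Module.Finite.iff_fg.1 inferInstance)
  have hrank : Module.finrank R (LinearMap.ker φ) = n := by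
    have h := e.finrank_eq
    rw [Module.finrank_prod, Module.finrank_self, Module.finrank_fin_fun] at h
    omega
  let bK := Module.finBasisOfFinrankEq R (LinearMap.ker φ) hrank
  let v : Fin (n + 1) → (Fin (n + 1) → R) := Fin.cons f (fun j => (bK j).1)
  refine ⟨Matrix.of v, ?_, rfl⟩
  rw [← Matrix.isUnit_iff_isUnit_det, ← Matrix.vecMul_surjective_iff_isUnit]
  intro w
  have hk : w - φ w • f ∈ LinearMap.ker φ := by
    rw [LinearMap.mem_ker, map_sub, map_smul, hφf, smul_eq_mul, mul_one, sub_self]
  let k : LinearMap.ker φ := ⟨w - φ w • f, hk⟩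
  refine ⟨Fin.cons (φ w) (fun j => bK.repr k j), ?_⟩
  show Matrix.vecMul (Fin.cons (φ w) (fun j => bK.repr k j)) (Matrix.of v) = w
  rw [Matrix.vecMul_eq_sum, Fin.sum_univ_succ]
  have h2 : ∑ j : Fin n, (bK.repr k j) • (bK j).1 = w - φ w • f := by
    have := congrArg Subtype.val (bK.sum_repr k)
    rw [Submodule.coe_sum] at this
    simpa using this
  simp only [Fin.cons_zero, Fin.cons_succ]
  show φ w • v 0 + ∑ j : Fin n, (bK.repr k j) • v j.succ = w
  simp only [v, Fin.cons_zero, Fin.cons_succ]
  rw [h2]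
  abel

end Groth.Agent.S7122
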