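import Groth.Statements.S7123
import Mathlib

set_option autoImplicit false
universe u
open CAlg

namespace Groth.Agent.S7123

open DirectSum

/-- the map `R/(f) → B` sending `1` to `b`, when `f • b = 0` -/
noncomputable def cyc {R : Type u} [CommRing R] {B : Type u} [AddCommGroup B] [Module R B] (f : R) (b : B)
    (h : f • b = 0) : (R ⧸ Ideal.span {f}) →ₗ[R] B :=
  Submodule.liftQ (Ideal.span {f}) (LinearMap.toSpanSingleton R B b) (by
    intro r hr
    obtain ⟨t, rfl⟩ := Ideal.mem_span_singleton.1 hr
    show (f * t) • b = 0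
    rw [mul_comm, mul_smul, h, smul_zero])

theorem cyc_mk {R : Type u} [CommRing R] {B : Type u} [AddCommGroup B] [Module R B] (f : R) (b : B)
    (h : f • b = 0) (r : R) : cyc f b h (Submodule.Quotient.mk r) = r • b := rfl

theorem cyc_ext {R : Type u} [CommRing R] {B : Type u} [AddCommGroup B] [Module R B] (f : R)
    (g₁ g₂ : (R ⧸ Ideal.span {f}) →ₗ[R] B)
    (h : g₁ (Submodule.Quotient.mk 1) = g₂ (Submodule.Quotient.mk 1)) : g₁ = g₂ := by
  ext
  exact h

open DirectSum in
/-- For a module P over a ring R these two conditions are equivalent: (1) P is a retract (direct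
summand) of a direct sum of cyclic modules R/fR, f ranging over R; (2) for every surjection of
R-modules π : B → C whose kernel A satisfies fA = A ∩ fB for every f in R, each linear map P → C
lifts through π. -/
theorem result (R : Type u) [CommRing R] (P : Type u)
    [AddCommGroup P] [Module R P] :
    (∃ (ι : Type u) (f : ι → R) (i : P →ₗ[R] (⨁ j, R ⧸ Ideal.span {f j}))
        (p : (⨁ j, R ⧸ Ideal.span {f j}) →ₗ[R] P), p ∘ₗ i = LinearMap.id) ↔
      ∀ (B C : Type u) [AddCommGroup B] [Module R B] [AddCommGroup C] [Module R C] (π : B →ₗ[R] C),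
        Function.Surjective π →
        (∀ (f : R) (b : B), π (f • b) = 0 → ∃ a : B, π a = 0 ∧ f • a = f • b) →
        ∀ ψ : P →ₗ[R] C, ∃ φ : P →ₗ[R] B, π ∘ₗ φ = ψ := by
  classical
  constructor
  · rintro ⟨ι, f, i, p, hpi⟩ B C _ _ _ _ π hπ hrd ψ
    -- images of generators
    let c : ι → C := fun j => ψ (p (DirectSum.lof R ι (fun j => R ⧸ Ideal.span {f j}) j
      (Submodule.Quotient.mk 1)))
    have hc : ∀ j, f j • c j = 0 := by
      intro j
      show f j • ψ (p _) = 0
      rw [← map_smul, ← map_smul, ← map_smul, ← Submodule.Quotient.mk_smul, smul_eq_mul, mul_one]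
      have : (Submodule.Quotient.mk (f j) : R ⧸ Ideal.span {f j}) = 0 := by
        rw [Submodule.Quotient.mk_eq_zero]
        exact Ideal.mem_span_singleton_self _
      rw [this, map_zero, map_zero, map_zero]
    have hb : ∀ j, ∃ b : B, π b = c j ∧ f j • b = 0 := by
      intro j
      obtain ⟨b, hb⟩ := hπ (c j)
      obtain ⟨a, ha1, ha2⟩ := hrd (f j) b (by rw [map_smul, hb, hc j])
      exact ⟨b - a, by rw [map_sub, ha1, sub_zero, hb], by rw [smul_sub, ha2, sub_self]⟩
    choose b hb1 hb2 using hb
    let Φ : (⨁ j, R ⧸ Ideal.span {f j}) →ₗ[R] B :=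
      DirectSum.toModule R ι B (fun j => cyc (f j) (b j) (hb2 j))
    refine ⟨Φ.comp i, ?_⟩
    have hΦ : π.comp Φ = ψ.comp p := by
      apply DirectSum.linearMap_ext
      intro j
      apply cyc_ext
      simp only [LinearMap.coe_comp, Function.comp_apply]
      rw [show Φ ((DirectSum.lof R ι (fun j => R ⧸ Ideal.span {f j}) j) (Submodule.Quotient.mk 1)) =
        cyc (f j) (b j) (hb2 j) (Submodule.Quotient.mk 1) from DirectSum.toModule_lof R j _]
      rw [cyc_mk, one_smul, hb1 j]
    rw [← LinearMap.comp_assoc, hΦ, LinearMap.comp_assoc, hpi, LinearMap.comp_id]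
  · intro h
    let ι : Type u := {fx : R × P // fx.1 • fx.2 = 0}
    let f : ι → R := fun j => j.1.1
    let π : (⨁ j : ι, R ⧸ Ideal.span {f j}) →ₗ[R] P :=
      DirectSum.toModule R ι P (fun j => cyc (f j) j.1.2 j.2)
    have hπlof : ∀ (j : ι) (r : R), π (DirectSum.lof R ι (fun j => R ⧸ Ideal.span {f j}) j
        (Submodule.Quotient.mk r)) = r • j.1.2 := by
      intro j r
      rw [show π ((DirectSum.lof R ι (fun j => R ⧸ Ideal.span {f j}) j) (Submodule.Quotient.mk r)) =
        cyc (f j) j.1.2 j.2 (Submodule.Quotient.mk r) from DirectSum.toModule_lof R j _, cyc_mk]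
    have hsurj : Function.Surjective π := by
      intro x
      refine ⟨DirectSum.lof R ι (fun j => R ⧸ Ideal.span {f j}) ⟨(0, x), zero_smul R x⟩
        (Submodule.Quotient.mk 1), ?_⟩
      rw [hπlof, one_smul]
    have hrd : ∀ (g : R) (b : ⨁ j : ι, R ⧸ Ideal.span {f j}), π (g • b) = 0 →
        ∃ a, π a = 0 ∧ g • a = g • b := by
      intro g b hgb
      rw [map_smul] at hgb
      let j : ι := ⟨(g, π b), hgb⟩
      let e := DirectSum.lof R ι (fun j => R ⧸ Ideal.span {f j}) j (Submodule.Quotient.mk 1)
      have he1 : π e = π b := by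
        show π (DirectSum.lof R ι (fun j => R ⧸ Ideal.span {f j}) j (Submodule.Quotient.mk 1)) = π b
        rw [hπlof, one_smul]
      have he2 : g • e = 0 := by
        show g • DirectSum.lof R ι (fun j => R ⧸ Ideal.span {f j}) j (Submodule.Quotient.mk 1) = 0
        rw [← map_smul, ← Submodule.Quotient.mk_smul, smul_eq_mul, mul_one]
        have : (Submodule.Quotient.mk g : R ⧸ Ideal.span {f j}) = 0 := by
          rw [Submodule.Quotient.mk_eq_zero]
          exact Ideal.mem_span_singleton_self _
        rw [this, map_zero]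
      exact ⟨b - e, by rw [map_sub, he1, sub_self], by rw [smul_sub, he2, sub_zero]⟩
    obtain ⟨φ, hφ⟩ := h (⨁ j : ι, R ⧸ Ideal.span {f j}) P π hsurj hrd LinearMap.id
    exact ⟨ι, f, φ, π, hφ⟩

end Groth.Agent.S7123
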