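import Mathlib
import Groth.Statements.S7124


set_option autoImplicit false
universe u
open CAlg

namespace Aux7124

open IsLocalRing

section val
variable {A K : Type*} [CommRing A] [IsDomain A] [ValuationRing A] [Field K] [Algebra A K]
  [IsFractionRing A K]

theorem le_one_iff (x : K) :
    ValuationRing.valuation A K x ≤ 1 ↔ ∃ a : A, algebraMap A K a = x := by
  rw [← Valuation.mem_integer_iff, ValuationRing.mem_integer_iff]

theorem val_unit (b : A) (hb : IsUnit b) :
    ValuationRing.valuation A K (algebraMap A K b) = 1 := by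
  obtain ⟨u, rfl⟩ := hb
  have h1 : ValuationRing.valuation A K (algebraMap A K u) ≤ 1 := (le_one_iff _).2 ⟨u, rfl⟩
  have h2 : ValuationRing.valuation A K (algebraMap A K ((u⁻¹ : Aˣ) : A)) ≤ 1 :=
    (le_one_iff _).2 ⟨_, rfl⟩
  have h3 : ValuationRing.valuation A K (algebraMap A K u) *
      ValuationRing.valuation A K (algebraMap A K ((u⁻¹ : Aˣ) : A)) = 1 := by
    rw [← map_mul, ← map_mul, Units.mul_inv, map_one, map_one]
  refine le_antisymm h1 ?_
  calc (1 : ValuationRing.ValueGroup A K) = _ := h3.symm
    _ ≤ ValuationRing.valuation A K (algebraMap A K u) * 1 := mul_le_mul' le_rfl h2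
    _ = _ := mul_one _

theorem unit_of_val_one (x : K) (hx : ValuationRing.valuation A K x = 1) :
    ∃ b : Aˣ, algebraMap A K b = x := by
  have hx0 : x ≠ 0 := by
    rintro rfl
    rw [map_zero] at hx
    exact zero_ne_one hx
  obtain ⟨b, hb⟩ := (le_one_iff x).1 hx.le
  have hinv : ValuationRing.valuation A K x⁻¹ ≤ 1 := by rw [map_inv₀, hx, inv_one]
  obtain ⟨b', hb'⟩ := (le_one_iff x⁻¹).1 hinv
  have hbb : b * b' = 1 := by
    apply IsFractionRing.injective A K
    rw [map_mul, hb, hb', map_one, mul_inv_cancel₀ hx0]
  exact ⟨Units.mkOfMulEqOne b b' hbb, hb⟩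

end val

section main
variable {A B K L : Type u} [CommRing A] [IsDomain A] [ValuationRing A] [CommRing B] [IsDomain B]
  [ValuationRing B] [Field K] [Field L]
  [Algebra A K] [IsFractionRing A K] [Algebra B L] [IsFractionRing B L] [Algebra A B] [Algebra K L]
  [Algebra A L] [IsScalarTower A K L] [IsScalarTower A B L] [IsLocalHom (algebraMap A B)]

theorem key4 {ι : Type*} [Fintype ι] (ω : ι → B)
    (hω : LinearIndependent (ResidueField A) (fun i => residue B (ω i)))
    (c : ι → K) (hc : ∃ i, c i ≠ 0) :
    ∃ a : K, a ≠ 0 ∧ ValuationRing.valuation B L (∑ i, c i • algebraMap B L (ω i)) =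
      ValuationRing.valuation B L (algebraMap K L a) := by
  classical
  obtain ⟨i₁, hi₁⟩ := hc
  obtain ⟨i₀, -, hmax⟩ := Finset.exists_max_image Finset.univ
    (fun i => ValuationRing.valuation A K (c i)) ⟨i₁, Finset.mem_univ _⟩
  have ha0 : c i₀ ≠ 0 := by
    intro h0
    have := hmax i₁ (Finset.mem_univ _)
    rw [h0, map_zero] at this
    exact hi₁ ((Valuation.zero_iff _).1 (le_antisymm this zero_le'))
  refine ⟨c i₀, ha0, ?_⟩
  have hva : 0 < ValuationRing.valuation A K (c i₀) :=
    zero_lt_iff.2 ((Valuation.ne_zero_iff _).2 ha0)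
  have hint : ∀ i, ∃ a' : A, algebraMap A K a' = c i / c i₀ := by
    intro i
    refine (le_one_iff _).1 ?_
    rw [map_div₀]
    exact (div_le_one₀ hva).2 (hmax i (Finset.mem_univ _))
  choose c' hc' using hint
  have hc'0 : c' i₀ = 1 := by
    apply IsFractionRing.injective A K
    rw [hc', div_self ha0, map_one]
  obtain ⟨b, hbdef⟩ : ∃ b : B, b = ∑ i, algebraMap A B (c' i) * ω i := ⟨_, rfl⟩
  have hsum : ∑ i, c i • algebraMap B L (ω i) = algebraMap K L (c i₀) * algebraMap B L b := by
    rw [hbdef, map_sum, Finset.mul_sum]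
    refine Finset.sum_congr rfl fun i _ => ?_
    have e : algebraMap K L (c i₀) * algebraMap K L (c i / c i₀) = algebraMap K L (c i) := by
      rw [← map_mul]; congr 1; field_simp
    rw [map_mul, ← IsScalarTower.algebraMap_apply A B L, IsScalarTower.algebraMap_apply A K L, hc',
      Algebra.smul_def, ← mul_assoc, e]
  have hbu : IsUnit b := by
    by_contra hnu
    have hres : residue B b = 0 := (residue_eq_zero_iff b).2 ((mem_maximalIdeal b).2 hnu)
    have hlin : ∑ i, residue A (c' i) • residue B (ω i) = 0 := by
      rw [← hres, hbdef, map_sum]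
      refine Finset.sum_congr rfl fun i _ => ?_
      rw [map_mul, Algebra.smul_def, ResidueField.algebraMap_residue]
    have := Fintype.linearIndependent_iff.1 hω (fun i => residue A (c' i)) hlin i₀
    rw [hc'0, map_one] at this
    exact one_ne_zero this
  rw [hsum, map_mul, val_unit b hbu, mul_one]

omit [Algebra A B] [IsScalarTower A B L] [IsLocalHom (algebraMap A B)] [IsScalarTower A K L] [Algebra A L] [Algebra K L] [Algebra A K] [IsFractionRing A K] [ValuationRing A] [IsDomain A] in
theorem sum_ne_zero_of_distinct {J : Type*} (S : Finset J) (hS : S.Nonempty) (t : J → L)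
    (ht : ∀ j ∈ S, t j ≠ 0)
    (hinj : ∀ j ∈ S, ∀ j' ∈ S, ValuationRing.valuation B L (t j) =
      ValuationRing.valuation B L (t j') → j = j') :
    ∑ j ∈ S, t j ≠ 0 := by
  classical
  obtain ⟨j₀, hj₀, hmax⟩ := Finset.exists_max_image S
    (fun j => ValuationRing.valuation B L (t j)) hS
  have h := Valuation.map_sum_eq_of_lt (ValuationRing.valuation B L) hj₀ (f := t) (fun i hi => by
    rw [Finset.mem_sdiff, Finset.mem_singleton] at hi
    exact lt_of_le_of_ne (hmax i hi.1) (fun he => hi.2 (hinj i hi.1 j₀ hj₀ he)))
  intro h0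
  rw [h0, map_zero] at h
  exact ht j₀ hj₀ ((Valuation.zero_iff _).1 h.symm)

theorem master [FiniteDimensional K L] {ι : Type*} [Fintype ι] (ω : ι → B)
    (hω : LinearIndependent (ResidueField A) (fun i => residue B (ω i)))
    {J : Type*} [Fintype J] (π : J → Lˣ)
    (hπ : ∀ j j', (∃ (a : K) (u : L), a ≠ 0 ∧ ValuationRing.valuation B L u = 1 ∧
        (π j : L) = algebraMap K L a * u * (π j' : L)) → j = j') :
    Fintype.card ι * Fintype.card J ≤ Module.finrank K L := by
  classical
  have hli : LinearIndependent K (fun p : ι × J => algebraMap B L (ω p.1) * (π p.2 : L)) := by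
    rw [Fintype.linearIndependent_iff]
    intro g hg
    rw [Fintype.sum_prod_type_right] at hg
    obtain ⟨s, hs⟩ : ∃ s : J → L, s = fun j => ∑ i, g (i, j) • algebraMap B L (ω i) := ⟨_, rfl⟩
    have hg' : ∑ j, s j * (π j : L) = 0 := by
      rw [← hg]
      refine Finset.sum_congr rfl fun j _ => ?_
      rw [hs, Finset.sum_mul]
      refine Finset.sum_congr rfl fun i _ => ?_
      rw [smul_mul_assoc]
    have hcol : ∀ j, (∃ i, g (i, j) ≠ 0) → ∃ a : K, a ≠ 0 ∧
        ValuationRing.valuation B L (s j) = ValuationRing.valuation B L (algebraMap K L a) := by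
      intro j hj
      have := key4 (A := A) (K := K) (L := L) ω hω (fun i => g (i, j)) hj
      rw [hs]
      exact this
    have hex : ∀ j, s j ≠ 0 → ∃ i, g (i, j) ≠ 0 := by
      intro j hsj
      by_contra hcon
      push Not at hcon
      apply hsj
      rw [hs]
      exact Finset.sum_eq_zero fun i _ => by rw [hcon i, zero_smul]
    have hs0 : ∀ j, s j = 0 := by
      by_contra hcon
      push Not at hcon
      obtain ⟨j₁, hj₁⟩ := hcon
      have hSne : (Finset.univ.filter (fun j => s j ≠ 0)).Nonempty :=
        ⟨j₁, by rw [Finset.mem_filter]; exact ⟨Finset.mem_univ _, hj₁⟩⟩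
      have hsumS : ∑ j ∈ Finset.univ.filter (fun j => s j ≠ 0), s j * (π j : L) = 0 := by
        rw [Finset.sum_filter_of_ne, hg']
        intro j _ hne hsj
        exact hne (by rw [hsj, zero_mul])
      refine sum_ne_zero_of_distinct (B := B) _ hSne (fun j => s j * (π j : L)) ?_ ?_ hsumS
      · intro j hj
        rw [Finset.mem_filter] at hj
        exact mul_ne_zero hj.2 (π j).ne_zero
      · intro j hj j' hj' hv
        rw [Finset.mem_filter] at hj hj'
        have hv' : ValuationRing.valuation B L (s j * (π j : L)) =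
            ValuationRing.valuation B L (s j' * (π j' : L)) := hv
        obtain ⟨a, ha0, hva⟩ := hcol j (hex j hj.2)
        obtain ⟨a', ha'0, hva'⟩ := hcol j' (hex j' hj'.2)
        refine hπ j j' ⟨a' / a, (algebraMap K L a * (π j : L)) / (algebraMap K L a' * (π j' : L)),
          div_ne_zero ha'0 ha0, ?_, ?_⟩
        · rw [map_div₀, map_mul, map_mul, ← hva, ← hva', ← map_mul, ← map_mul, hv']
          exact div_self ((Valuation.ne_zero_iff _).2 (mul_ne_zero hj'.2 (π j').ne_zero))
        · have h1 : algebraMap K L a ≠ 0 := (map_ne_zero _).2 ha0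
          have h2 : algebraMap K L a' ≠ 0 := (map_ne_zero _).2 ha'0
          have h3 : (π j' : L) ≠ 0 := (π j').ne_zero
          rw [map_div₀]
          field_simp
    intro p
    by_contra hp
    obtain ⟨a, ha0, hva⟩ := hcol p.2 ⟨p.1, hp⟩
    rw [hs0, map_zero] at hva
    exact (map_ne_zero (algebraMap K L)).2 ha0 ((Valuation.zero_iff _).1 hva.symm)
  have := hli.fintype_card_le_finrank
  rwa [Fintype.card_prod] at this

end main

section final
variable (A B K L : Type u) [CommRing A] [IsDomain A] [ValuationRing A] [CommRing B] [IsDomain B]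
  [ValuationRing B] [Field K] [Field L]
  [Algebra A K] [IsFractionRing A K] [Algebra B L] [IsFractionRing B L] [Algebra A B] [Algebra K L]
  [Algebra A L] [IsScalarTower A K L] [IsScalarTower A B L] [IsLocalHom (algebraMap A B)]

abbrev UB : Subgroup Lˣ := (Units.map (algebraMap B L).toMonoidHom).range

abbrev GA : Subgroup (Lˣ ⧸ UB B L) :=
  ((QuotientGroup.mk' (UB B L)).comp (Units.map (algebraMap K L).toMonoidHom)).range

def q : Lˣ → (Lˣ ⧸ UB B L) ⧸ GA B K L := fun x => QuotientGroup.mk (QuotientGroup.mk x)

omit [IsDomain B] [ValuationRing B] [IsFractionRing B L] in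
theorem q_surj : Function.Surjective (q B K L) := by
  intro y
  obtain ⟨y', rfl⟩ := QuotientGroup.mk_surjective y
  obtain ⟨x, rfl⟩ := QuotientGroup.mk_surjective y'
  exact ⟨x, rfl⟩

theorem q_eq (x y : Lˣ) (a : K) (u : L) (ha : a ≠ 0) (hu : ValuationRing.valuation B L u = 1)
    (hxy : (x : L) = algebraMap K L a * u * (y : L)) : q B K L x = q B K L y := by
  obtain ⟨b, hb⟩ := unit_of_val_one (A := B) u hu
  obtain ⟨α, hα⟩ : ∃ α : Lˣ, α = Units.map (algebraMap K L).toMonoidHom (Units.mk0 a ha) :=
    ⟨_, rfl⟩
  obtain ⟨β, hβdef⟩ : ∃ β : Lˣ, β = Units.map (algebraMap B L).toMonoidHom b := ⟨_, rfl⟩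
  have hx : x = α * β * y := by
    apply Units.ext
    rw [hxy, ← hb, hα, hβdef]
    rfl
  have hβ : β ∈ UB B L := ⟨b, hβdef.symm⟩
  unfold q
  symm
  rw [QuotientGroup.eq]
  refine MonoidHom.mem_range.2 ⟨Units.mk0 a ha, ?_⟩
  show (QuotientGroup.mk (Units.map (algebraMap K L).toMonoidHom (Units.mk0 a ha)) : Lˣ ⧸ UB B L) = _
  rw [← hα, hx, ← QuotientGroup.mk_inv, ← QuotientGroup.mk_mul, QuotientGroup.eq]
  have e : α⁻¹ * (y⁻¹ * (α * β * y)) = β := by
    rw [mul_comm (α * β) y, ← mul_assoc y⁻¹, inv_mul_cancel, one_mul, ← mul_assoc, inv_mul_cancel,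
      one_mul]
  rw [e]
  exact hβ

theorem master2 [FiniteDimensional K L] {ι : Type*} [Fintype ι] (ω : ι → B)
    (hω : LinearIndependent (ResidueField A) (fun i => residue B (ω i)))
    (T : Finset ((Lˣ ⧸ UB B L) ⧸ GA B K L)) :
    Fintype.card ι * T.card ≤ Module.finrank K L := by
  classical
  have hex : ∀ t : T, ∃ x : Lˣ, q B K L x = t.1 := fun t => q_surj B K L t.1
  choose π hπ using hex
  have := master (A := A) (K := K) ω hω π (by
    rintro j j' ⟨a, u, ha, hu, hxy⟩
    have h := q_eq B K L (π j) (π j') a u ha hu hxy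
    rw [hπ, hπ] at h
    exact Subtype.ext h)
  rwa [Fintype.card_coe] at this

theorem main' [FiniteDimensional K L] :
    Module.Finite (ResidueField A) (ResidueField B) ∧ (GA B K L).index ≠ 0 ∧
      (GA B K L).index * Module.finrank (ResidueField A) (ResidueField B) ≤ Module.finrank K L := by
  classical
  have hfin : Module.Finite (ResidueField A) (ResidueField B) := by
    rw [← Module.rank_lt_aleph0_iff]
    refine lt_of_le_of_lt (rank_le (n := Module.finrank K L) ?_) (Cardinal.nat_lt_aleph0 _)
    intro s hs
    have hex : ∀ x : s, ∃ b : B, residue B b = x.1 := fun x => residue_surjective x.1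
    choose ω hω using hex
    have hli : LinearIndependent (ResidueField A) (fun i : s => residue B (ω i)) := by
      have : (fun i : s => residue B (ω i)) = fun i : s => (i : ResidueField B) := funext hω
      rw [this]; exact hs
    have := master2 A B K L ω hli {q B K L 1}
    rw [Finset.card_singleton, mul_one, Fintype.card_coe] at this
    exact this
  have hfinJ : Finite ((Lˣ ⧸ UB B L) ⧸ GA B K L) := by
    by_contra hcon
    rw [not_finite_iff_infinite] at hcon
    obtain ⟨T, hT⟩ := Infinite.exists_subset_card_eq ((Lˣ ⧸ UB B L) ⧸ GA B K L)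
      (Module.finrank K L + 1)
    have h1 : LinearIndependent (ResidueField A) (fun _ : Unit => residue B (1 : B)) := by
      rw [linearIndependent_unique_iff, map_one]
      exact one_ne_zero
    have := master2 A B K L (fun _ : Unit => (1 : B)) h1 T
    rw [hT, Fintype.card_unit, one_mul] at this
    omega
  refine ⟨hfin, Subgroup.index_ne_zero_of_finite, ?_⟩
  haveI := Fintype.ofFinite ((Lˣ ⧸ UB B L) ⧸ GA B K L)
  have hidx : (GA B K L).index = (Finset.univ : Finset ((Lˣ ⧸ UB B L) ⧸ GA B K L)).card := by
    rw [Subgroup.index_eq_card, Nat.card_eq_fintype_card, Finset.card_univ]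
  obtain ⟨bas⟩ : Nonempty (Module.Basis (Fin (Module.finrank (ResidueField A) (ResidueField B)))
      (ResidueField A) (ResidueField B)) := ⟨Module.finBasis _ _⟩
  have hex : ∀ i, ∃ b : B, residue B b = bas i := fun i => residue_surjective _
  choose ω hω using hex
  have hli : LinearIndependent (ResidueField A) (fun i => residue B (ω i)) := by
    have : (fun i => residue B (ω i)) = bas := funext hω
    rw [this]; exact bas.linearIndependent
  have := master2 A B K L ω hli Finset.univ
  rw [Fintype.card_fin, ← hidx] at this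
  rw [mul_comm]; exact this

end final

theorem main (A B K L : Type u) [CommRing A] [IsDomain A]
    [ValuationRing A] [CommRing B] [IsDomain B] [ValuationRing B] [Field K] [Field L]
    [Algebra A K] [IsFractionRing A K] [Algebra B L] [IsFractionRing B L] [Algebra A B] [Algebra K L]
    [Algebra A L] [IsScalarTower A K L] [IsScalarTower A B L] (hinj : Function.Injective (algebraMap A B))
    [IsLocalHom (algebraMap A B)] [FiniteDimensional K L] :
    let UB : Subgroup Lˣ := (Units.map (algebraMap B L).toMonoidHom).range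
    let ΓA : Subgroup (Lˣ ⧸ UB) := ((QuotientGroup.mk' UB).comp (Units.map (algebraMap K L).toMonoidHom)).range
    Module.Finite (IsLocalRing.ResidueField A) (IsLocalRing.ResidueField B) ∧ ΓA.index ≠ 0 ∧
      ΓA.index * Module.finrank (IsLocalRing.ResidueField A) (IsLocalRing.ResidueField B) ≤
        Module.finrank K L := by
  intro UB ΓA
  exact main' A B K L

end Aux7124

namespace Groth.Agent.S7124

/-- Let A ⊆ B be an extension of valuation rings (both valuation domains, the inclusion injective and
local) with fraction fields K ⊆ L such that L/K is finite. Then the residue field of B is finite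
over that of A, the value group of A has finite index in the value group of B, and (index of value
groups) · (residue degree) ≤ [L : K]. Here the value group of B is written as Lˣ modulo the units of
B, and that of A as the image of Kˣ in it. -/
theorem result (A B K L : Type u) [CommRing A] [IsDomain A]
    [ValuationRing A] [CommRing B] [IsDomain B] [ValuationRing B] [Field K] [Field L]
    [Algebra A K] [IsFractionRing A K] [Algebra B L] [IsFractionRing B L] [Algebra A B] [Algebra K L]
    [Algebra A L] [IsScalarTower A K L] [IsScalarTower A B L] (hinj : Function.Injective (algebraMap A B))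
    [IsLocalHom (algebraMap A B)] [FiniteDimensional K L] :
    let UB : Subgroup Lˣ := (Units.map (algebraMap B L).toMonoidHom).range
    let ΓA : Subgroup (Lˣ ⧸ UB) := ((QuotientGroup.mk' UB).comp (Units.map (algebraMap K L).toMonoidHom)).range
    Module.Finite (IsLocalRing.ResidueField A) (IsLocalRing.ResidueField B) ∧ ΓA.index ≠ 0 ∧
      ΓA.index * Module.finrank (IsLocalRing.ResidueField A) (IsLocalRing.ResidueField B) ≤
        Module.finrank K L := by
  exact Aux7124.main A B K L hinj

end Groth.Agent.S7124
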