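import Groth.Statements.S7125
import Mathlib
import Groth.Agent.S7119

set_option autoImplicit false
universe u
open CAlg

namespace Groth.Agent.S7125


namespace H7125
open IsDiscreteValuationRing

section gen
variable (R : Type u) [CommRing R] [IsDomain R] [IsNoetherianRing R] [IsIntegrallyClosed R]

theorem dvr_loc (p : Ideal R) [p.IsPrime] (hp : p.height = 1) :
    IsDiscreteValuationRing (Localization.AtPrime p) := by
  have hle : p.primeCompl ≤ nonZeroDivisors R := p.primeCompl_le_nonZeroDivisors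
  haveI : IsIntegrallyClosed (Localization.AtPrime p) :=
    isIntegrallyClosed_of_isLocalization _ p.primeCompl hle
  have hdim : ringKrullDim (Localization.AtPrime p) ≤ 1 := by
    rw [IsLocalization.AtPrime.ringKrullDim_eq_height p (Localization.AtPrime p), hp]
    exact le_refl _
  haveI : IsPrincipalIdealRing (Localization.AtPrime p) :=
    Groth.Agent.S7119.H7119.pid_q _ hdim
  refine { not_a_field' := ?_ }
  intro h
  have h1 := IsLocalRing.maximalIdeal_height_eq_ringKrullDim (R := Localization.AtPrime p)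
  rw [h, Ideal.height_bot,
    IsLocalization.AtPrime.ringKrullDim_eq_height p (Localization.AtPrime p), hp] at h1
  have h2 : ((0 : ℕ∞) : WithBot ℕ∞) = ((1 : ℕ∞) : WithBot ℕ∞) := h1
  exact absurd (WithBot.coe_injective h2) (by norm_num)

noncomputable def vv (p : Ideal R) [p.IsPrime] (hp : p.height = 1) (x : R) : ℕ∞ :=
  haveI := dvr_loc R p hp
  addVal (Localization.AtPrime p) (algebraMap R (Localization.AtPrime p) x)

variable (p : Ideal R) [p.IsPrime] (hp : p.height = 1)

theorem vv_mul (x y : R) : vv R p hp (x * y) = vv R p hp x + vv R p hp y := by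
  unfold vv
  haveI := dvr_loc R p hp
  rw [map_mul]
  exact addVal_mul

theorem vv_pow (x : R) (n : ℕ) : vv R p hp (x ^ n) = n • vv R p hp x := by
  unfold vv
  haveI := dvr_loc R p hp
  rw [map_pow]
  exact addVal_pow _ _

theorem vv_eq_top_iff (x : R) : vv R p hp x = ⊤ ↔ x = 0 := by
  unfold vv
  haveI := dvr_loc R p hp
  rw [addVal_eq_top_iff]
  exact IsLocalization.to_map_eq_zero_iff (Localization.AtPrime p) p.primeCompl_le_nonZeroDivisors

theorem vv_eq_zero_iff (x : R) : vv R p hp x = 0 ↔ x ∉ p := by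
  unfold vv
  haveI := dvr_loc R p hp
  rw [addVal_eq_zero_iff, IsLocalization.AtPrime.isUnit_to_map_iff (Localization.AtPrime p) p x]
  rfl

theorem vv_add (x y : R) : min (vv R p hp x) (vv R p hp y) ≤ vv R p hp (x + y) := by
  unfold vv
  haveI := dvr_loc R p hp
  rw [map_add]
  exact addVal_add

theorem exists_of_vv_le (x y : R) (h : vv R p hp x ≤ vv R p hp y) :
    ∃ σ, σ ∉ p ∧ ∃ b, σ * y = x * b := by
  unfold vv at h
  haveI := dvr_loc R p hp
  rw [addVal_le_iff_dvd] at h
  obtain ⟨z, hz⟩ := h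
  obtain ⟨b, σ, hb⟩ := IsLocalization.exists_mk'_eq p.primeCompl z
  refine ⟨σ, σ.2, b, ?_⟩
  apply IsLocalization.injective (Localization.AtPrime p) p.primeCompl_le_nonZeroDivisors
  rw [map_mul, map_mul, hz, ← hb, mul_comm, mul_assoc, IsLocalization.mk'_spec]

theorem vv_le_of_dvd (x y : R) (h : x ∣ y) : vv R p hp x ≤ vv R p hp y := by
  obtain ⟨z, rfl⟩ := h
  rw [vv_mul]
  exact le_self_add

theorem exists_vv_eq_one : ∃ x ∈ p, vv R p hp x = 1 := by
  haveI := dvr_loc R p hp
  obtain ⟨ϖ, hϖ⟩ := IsDiscreteValuationRing.exists_irreducible (Localization.AtPrime p)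
  obtain ⟨a, σ, ha⟩ := IsLocalization.exists_mk'_eq p.primeCompl ϖ
  have hspec := IsLocalization.mk'_spec (Localization.AtPrime p) a σ
  have hval : vv R p hp a = 1 := by
    unfold vv
    rw [← hspec, ha, addVal_mul, addVal_uniformizer hϖ]
    have : addVal (Localization.AtPrime p) (algebraMap R _ (σ : R)) = 0 := by
      rw [addVal_eq_zero_iff,
        IsLocalization.AtPrime.isUnit_to_map_iff (Localization.AtPrime p) p]
      exact σ.2
    rw [this, add_zero]
  refine ⟨a, ?_, hval⟩
  by_contra hap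
  rw [(vv_eq_zero_iff R p hp a).mpr hap] at hval
  exact zero_ne_one hval

end gen

theorem dvd_of_forall_vv_le (R : Type u) [CommRing R] [IsDomain R] [IsNoetherianRing R]
    [IsIntegrallyClosed R] (x y : R) (hx : x ≠ 0)
    (h : ∀ (p : Ideal R) [p.IsPrime] (hp : p.height = 1), vv R p hp x ≤ vv R p hp y) : x ∣ y := by
  have hS2 := Groth.Agent.S7119.H7119.hasS2_normal R
  have := Groth.Agent.S7119.H7119.hartogs hS2 x y hx (fun q hq hq1 => by
    haveI := hq
    obtain ⟨σ, hσ, b, hb⟩ := exists_of_vv_le R q hq1 x y (h q hq1)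
    exact ⟨σ, hσ, Ideal.mem_span_singleton.mpr ⟨b, hb⟩⟩)
  exact Ideal.mem_span_singleton.mp this


section avoid
variable (R : Type u) [CommRing R] [IsDomain R] [IsNoetherianRing R] [IsIntegrallyClosed R]

/-- the ideal of elements of valuation at least two -/
def P2 (p : Ideal R) [p.IsPrime] (hp : p.height = 1) : Ideal R where
  carrier := {x | 2 ≤ vv R p hp x}
  add_mem' := fun {a b} ha hb => le_trans (le_min ha hb) (vv_add R p hp a b)
  zero_mem' := by
    show 2 ≤ vv R p hp 0
    rw [(vv_eq_top_iff R p hp 0).mpr rfl]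
    exact le_top
  smul_mem' := fun c x hx => by
    show 2 ≤ vv R p hp (c • x)
    rw [smul_eq_mul, vv_mul]
    exact le_trans hx le_add_self

theorem exists_pi (Pf : Finset (Ideal R)) (hPf : ∀ q ∈ Pf, q.IsPrime ∧ q.height = 1)
    (p : Ideal R) [p.IsPrime] (hp : p.height = 1) :
    ∃ π, vv R p hp π = 1 ∧ ∀ q ∈ Pf, q ≠ p → π ∉ q := by
  classical
  obtain ⟨x, hxp, hx1⟩ := exists_vv_eq_one R p hp
  have hx0 : x ≠ 0 := by
    rintro rfl
    rw [(vv_eq_top_iff R p hp 0).mpr rfl] at hx1
    exact ENat.top_ne_one hx1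
  by_contra hcon
  push Not at hcon
  have hsub : (p : Set R) ⊆ ⋃ i ∈ (↑(insert (P2 R p hp) (Pf.erase p)) : Set (Ideal R)),
      (id i : Ideal R) := by
    intro y hy
    by_cases h2 : 2 ≤ vv R p hp y
    · exact Set.mem_iUnion₂.mpr ⟨P2 R p hp, by simp, h2⟩
    · have h1 : vv R p hp y = 1 := by
        have hne : vv R p hp y ≠ 0 := fun h0 => ((vv_eq_zero_iff R p hp y).mp h0) hy
        have hge : 1 ≤ vv R p hp y := Order.one_le_iff_ne_zero.mpr hne
        have h1' : ¬ (1 : ℕ∞) < vv R p hp y := fun hlt => h2 (by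
          rw [← one_add_one_eq_two]
          exact (ENat.add_one_le_iff ENat.one_ne_top).mpr hlt)
        exact le_antisymm (not_lt.mp h1') hge
      obtain ⟨q, hq, hqp, hyq⟩ := hcon y h1
      exact Set.mem_iUnion₂.mpr ⟨q, by simp [hq, hqp], hyq⟩
  obtain ⟨i, hi, hle⟩ := (Ideal.subset_union_prime (s := insert (P2 R p hp) (Pf.erase p))
    (f := id) (P2 R p hp) (P2 R p hp) (fun i hi h1 _ => by
      rcases Finset.mem_insert.mp hi with h | h
      · exact absurd h h1
      · exact (hPf i (Finset.mem_of_mem_erase h)).1)).mp hsub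
  rcases Finset.mem_insert.mp hi with h | h
  · rw [h] at hle
    have h2 : 2 ≤ vv R p hp x := hle hxp
    rw [hx1] at h2
    exact absurd h2 (not_le.mpr (by exact_mod_cast (by norm_num : (1 : ℕ) < 2)))
  · have hiprime := (hPf i (Finset.mem_of_mem_erase h)).1
    have hi1 := (hPf i (Finset.mem_of_mem_erase h)).2
    haveI := hiprime
    have hpbot : p ≠ ⊥ := by
      intro hb
      rw [hb] at hxp
      exact hx0 ((Submodule.mem_bot R).mp hxp)
    have : p = i := Groth.Agent.S7119.H7119.ht1_min i p hi1 hle hpbot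
    exact (Finset.ne_of_mem_erase h) this.symm

theorem exists_t (f : R) (n : ℕ) (Pf : Finset (Ideal R))
    (hPf : ∀ q ∈ Pf, q.IsPrime ∧ q.height = 1)
    (hdiv : ∀ (p : Ideal R) [p.IsPrime] (hp : p.height = 1), p ∈ Pf →
      ∃ m : ℕ, vv R p hp f = n • (m : ℕ∞)) :
    ∀ S : Finset (Ideal R), S ⊆ Pf → ∃ t : R, t ≠ 0 ∧
      (∀ (p : Ideal R) [p.IsPrime] (hp : p.height = 1), p ∈ S →
        n • vv R p hp t = vv R p hp f) ∧
      (∀ (p : Ideal R) [p.IsPrime] (hp : p.height = 1), p ∈ Pf → p ∉ S →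
        vv R p hp t = 0) := by
  classical
  intro S
  induction S using Finset.induction_on with
  | empty =>
    intro _
    refine ⟨1, one_ne_zero, fun p _ hp hpS => absurd hpS (Finset.notMem_empty p),
      fun p _ hp _ _ => ?_⟩
    rw [vv_eq_zero_iff]
    exact fun h => Ideal.IsPrime.ne_top' ((Ideal.eq_top_iff_one p).mpr h)
  | insert p₀ S hp₀ ih =>
    intro hsub
    obtain ⟨t, ht0, htS, htc⟩ := ih (fun q hq => hsub (Finset.mem_insert_of_mem hq))
    have hp₀Pf : p₀ ∈ Pf := hsub (Finset.mem_insert_self p₀ S)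
    haveI := (hPf p₀ hp₀Pf).1
    have hp₀1 := (hPf p₀ hp₀Pf).2
    obtain ⟨m, hm⟩ := hdiv p₀ hp₀1 hp₀Pf
    obtain ⟨π, hπ1, hπq⟩ := exists_pi R Pf hPf p₀ hp₀1
    have hπ0 : π ≠ 0 := by
      rintro rfl
      rw [(vv_eq_top_iff R p₀ hp₀1 0).mpr rfl] at hπ1
      exact ENat.top_ne_one hπ1
    refine ⟨t * π ^ m, mul_ne_zero ht0 (pow_ne_zero _ hπ0), ?_, ?_⟩
    · intro p _ hp hpS
      rcases Finset.mem_insert.mp hpS with h | hpS'
      · subst h
        rw [vv_mul, vv_pow, hπ1, htc p hp hp₀Pf hp₀, zero_add, hm, nsmul_one]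
      · have hne : p ≠ p₀ := fun h => hp₀ (h ▸ hpS')
        have hpPf : p ∈ Pf := hsub (Finset.mem_insert_of_mem hpS')
        have hπp : vv R p hp π = 0 := (vv_eq_zero_iff R p hp π).mpr (hπq p hpPf hne)
        rw [vv_mul, vv_pow, hπp, smul_zero, add_zero]
        exact htS p hp hpS'
    · intro p _ hp hpPf hpnot
      have hne : p ≠ p₀ := fun h => hpnot (h ▸ Finset.mem_insert_self p₀ S)
      have hpS : p ∉ S := fun h => hpnot (Finset.mem_insert_of_mem h)
      have hπp : vv R p hp π = 0 := (vv_eq_zero_iff R p hp π).mpr (hπq p hpPf hne)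
      rw [vv_mul, vv_pow, hπp, smul_zero, add_zero]
      exact htc p hp hpPf hpS

end avoid


section main
variable (A B : Type u) [CommRing A] [IsDomain A] [IsNoetherianRing A] [IsLocalRing A]
  [IsIntegrallyClosed A] [CommRing B] [IsDomain B] [IsNoetherianRing B] [IsLocalRing B]
  [IsIntegrallyClosed B] [Algebra A B]

theorem vv_map_eq (p : Ideal A) [p.IsPrime] (hp : p.height = 1) (q : Ideal B) [q.IsPrime]
    (hq : q.height = 1) (hqp : q.comap (algebraMap A B) = p)
    (hmax : Ideal.map (algebraMap B (Localization.AtPrime q)) (Ideal.map (algebraMap A B) p) =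
      IsLocalRing.maximalIdeal (Localization.AtPrime q)) (a : A) :
    vv B q hq (algebraMap A B a) = vv A p hp a := by
  have hunit : ∀ σ : A, σ ∉ p → vv B q hq (algebraMap A B σ) = 0 := by
    intro σ hσ
    rw [vv_eq_zero_iff]
    intro h
    apply hσ
    rw [← hqp]
    exact h
  have hmemq : ∀ x : A, x ∈ p → algebraMap A B x ∈ q := by
    intro x hx
    rw [← hqp] at hx
    exact hx
  obtain ⟨π, hπp, hπ1⟩ := exists_vv_eq_one A p hp
  have hπB : vv B q hq (algebraMap A B π) = 1 := by
    have hle' : ∀ x : A, x ∈ p →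
        vv B q hq (algebraMap A B π) ≤ vv B q hq (algebraMap A B x) := by
      intro x hx
      have h1 : vv A p hp π ≤ vv A p hp x := by
        rw [hπ1]
        exact Order.one_le_iff_ne_zero.mpr (fun h0 => ((vv_eq_zero_iff A p hp x).mp h0) hx)
      obtain ⟨σ, hσ, b, hb⟩ := exists_of_vv_le A p hp π x h1
      have h2 := congrArg (fun z => vv B q hq (algebraMap A B z)) hb
      simp only [map_mul, vv_mul] at h2
      rw [hunit σ hσ, zero_add] at h2
      rw [h2]
      exact le_self_add
    haveI := dvr_loc B q hq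
    have hirr : Irreducible (algebraMap B (Localization.AtPrime q) (algebraMap A B π)) := by
      rw [IsDiscreteValuationRing.irreducible_iff_uniformizer]
      apply le_antisymm
      · rw [← hmax, Ideal.map_le_iff_le_comap, Ideal.map_le_iff_le_comap]
        intro x hx
        rw [Ideal.mem_comap, Ideal.mem_comap, Ideal.mem_span_singleton]
        have := hle' x hx
        unfold vv at this
        exact addVal_le_iff_dvd.mp this
      · rw [Ideal.span_singleton_le_iff_mem]
        exact (IsLocalization.AtPrime.to_map_mem_maximal_iff (Localization.AtPrime q) q _).mpr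
          (hmemq π hπp)
    unfold vv
    exact addVal_uniformizer hirr
  by_cases ha : a = 0
  · rw [ha, map_zero, (vv_eq_top_iff B q hq 0).mpr rfl, (vv_eq_top_iff A p hp 0).mpr rfl]
  obtain ⟨j, hj⟩ := ENat.ne_top_iff_exists.mp (mt (vv_eq_top_iff A p hp a).mp ha)
  have h1 : vv A p hp (π ^ j) ≤ vv A p hp a := by rw [vv_pow, hπ1, nsmul_one, hj]
  obtain ⟨σ, hσ, b, hb⟩ := exists_of_vv_le A p hp (π ^ j) a h1
  have hbp : b ∉ p := by
    intro hbp
    have h2 := congrArg (vv A p hp) hb
    rw [vv_mul, vv_mul, vv_pow, hπ1, nsmul_one, (vv_eq_zero_iff A p hp σ).mpr hσ, zero_add,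
      ← hj] at h2
    have hb1 : 1 ≤ vv A p hp b :=
      Order.one_le_iff_ne_zero.mpr (fun h0 => ((vv_eq_zero_iff A p hp b).mp h0) hbp)
    have h3 : (j : ℕ∞) + 1 ≤ j := by
      calc (j : ℕ∞) + 1 ≤ j + vv A p hp b := add_le_add le_rfl hb1
        _ = j := h2.symm
    exact absurd ((ENat.add_one_le_iff (ENat.natCast_ne_top j)).mp h3) (lt_irrefl _)
  have h3 := congrArg (fun z => vv B q hq (algebraMap A B z)) hb
  simp only [map_mul, map_pow, vv_mul, vv_pow] at h3
  rw [hunit σ hσ, hunit b hbp, hπB, zero_add, add_zero, nsmul_one] at h3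
  rw [h3, hj]

theorem exists_m (f : A) (h : B) (n : ℕ) (w : Bˣ)
    (hf : algebraMap A B f = (w : B) * h ^ n) (hh0 : h ≠ 0)
    (hram : ∀ (p : Ideal A) [p.IsPrime], p.height = 1 →
      ∃ (q : Ideal B) (_ : q.IsPrime), q.height = 1 ∧ q.comap (algebraMap A B) = p ∧
        Ideal.map (algebraMap B (Localization.AtPrime q)) (Ideal.map (algebraMap A B) p) =
          IsLocalRing.maximalIdeal (Localization.AtPrime q))
    (p : Ideal A) [p.IsPrime] (hp : p.height = 1) :
    ∃ m : ℕ, vv A p hp f = n • (m : ℕ∞) := by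
  obtain ⟨q, hqprime, hq1, hqp, hmax⟩ := hram p hp
  haveI := hqprime
  have h1 := vv_map_eq A B p hp q hq1 hqp hmax f
  rw [hf, vv_mul, vv_pow] at h1
  have hw : vv B q hq1 (w : B) = 0 := (vv_eq_zero_iff B q hq1 w).mpr
    (fun hwq => Ideal.IsPrime.ne_top' (Ideal.eq_top_of_isUnit_mem _ hwq w.isUnit))
  rw [hw, zero_add] at h1
  obtain ⟨m, hm⟩ := ENat.ne_top_iff_exists.mp (mt (vv_eq_top_iff B q hq1 h).mp hh0)
  exact ⟨m, by rw [← h1, ← hm]⟩


theorem main [IsLocalHom (algebraMap A B)] [Module.Flat A B]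
    (f : A) (h : B) (n : ℕ) (hn : 1 < n) (w : Bˣ) (hf : algebraMap A B f = (w : B) * h ^ n)
    (hram : ∀ (p : Ideal A) [p.IsPrime], p.height = 1 →
      ∃ (q : Ideal B) (_ : q.IsPrime), q.height = 1 ∧ q.comap (algebraMap A B) = p ∧
        Ideal.map (algebraMap B (Localization.AtPrime q)) (Ideal.map (algebraMap A B) p) =
          IsLocalRing.maximalIdeal (Localization.AtPrime q)) :
    ∃ (g : A) (u : Aˣ), f = (u : A) * g ^ n := by
  classical
  by_cases hf0 : f = 0
  · exact ⟨0, 1, by rw [hf0, zero_pow (by omega), mul_zero]⟩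
  haveI : Module.FaithfullyFlat A B := Module.FaithfullyFlat.of_flat_of_isLocalHom
  have hinj : Function.Injective (algebraMap A B) := FaithfulSMul.algebraMap_injective A B
  have hh0 : h ≠ 0 := by
    rintro rfl
    rw [zero_pow (by omega), mul_zero] at hf
    exact hf0 (hinj (by rw [hf, map_zero]))
  have hfin := Ideal.finite_minimalPrimes_of_isNoetherianRing A (Ideal.span {f})
  obtain ⟨Pf, hPfdef⟩ : ∃ Pf : Finset (Ideal A), Pf = hfin.toFinset := ⟨_, rfl⟩
  have hPfmem : ∀ q : Ideal A, q ∈ Pf ↔ q.IsPrime ∧ q.height = 1 ∧ f ∈ q := by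
    intro q
    rw [hPfdef, Set.Finite.mem_toFinset]
    exact Groth.Agent.S7119.H7119.minf_iff f hf0 q
  have hPf : ∀ q ∈ Pf, q.IsPrime ∧ q.height = 1 :=
    fun q hq => ⟨((hPfmem q).mp hq).1, ((hPfmem q).mp hq).2.1⟩
  obtain ⟨t, ht0, htS, -⟩ := exists_t A f n Pf hPf
    (fun p _ hp _ => exists_m A B f h n w hf hh0 hram p hp) Pf (Finset.Subset.refl _)
  have hdvd : f ∣ t ^ n := by
    apply dvd_of_forall_vv_le A f (t ^ n) hf0
    intro p _ hp
    by_cases hfp : f ∈ p
    · have hpPf : p ∈ Pf := (hPfmem p).mpr ⟨inferInstance, hp, hfp⟩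
      rw [vv_pow, htS p hp hpPf]
    · rw [(vv_eq_zero_iff A p hp f).mpr hfp]
      exact zero_le
  obtain ⟨s, hs⟩ := hdvd
  have hsp : ∀ (p : Ideal A) [p.IsPrime] (hp : p.height = 1), f ∈ p → s ∉ p := by
    intro p _ hp hfp hsp
    have hpPf : p ∈ Pf := (hPfmem p).mpr ⟨inferInstance, hp, hfp⟩
    have h1 : vv A p hp (t ^ n) = vv A p hp f + vv A p hp s := by rw [hs, vv_mul]
    rw [vv_pow, htS p hp hpPf] at h1
    have hfin' : vv A p hp f ≠ ⊤ := mt (vv_eq_top_iff A p hp f).mp hf0
    have hs1 : 1 ≤ vv A p hp s :=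
      Order.one_le_iff_ne_zero.mpr (fun h0 => ((vv_eq_zero_iff A p hp s).mp h0) hsp)
    have h2 : vv A p hp f + 1 ≤ vv A p hp f := by
      calc vv A p hp f + 1 ≤ vv A p hp f + vv A p hp s := add_le_add le_rfl hs1
        _ = vv A p hp f := h1.symm
    exact absurd ((ENat.add_one_le_iff hfin').mp h2) (lt_irrefl _)
  have ht'0 : algebraMap A B t ≠ 0 := by rwa [Ne, map_eq_zero_iff _ hinj]
  have hs0 : s ≠ 0 := by
    rintro rfl
    rw [mul_zero] at hs
    exact pow_ne_zero n ht0 hs
  have hs'0 : algebraMap A B s ≠ 0 := by rwa [Ne, map_eq_zero_iff _ hinj]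
  have hrelB : (algebraMap A B t) ^ n = (w : B) * h ^ n * algebraMap A B s := by
    rw [← hf, ← map_pow, hs, map_mul]
  have hvalB : ∀ (q : Ideal B) [q.IsPrime] (hq : q.height = 1),
      n • vv B q hq (algebraMap A B t) =
        n • vv B q hq h + vv B q hq (algebraMap A B s) := by
    intro q _ hq
    have h1 := congrArg (vv B q hq) hrelB
    rw [vv_pow, vv_mul, vv_mul, vv_pow] at h1
    have hw : vv B q hq (w : B) = 0 := (vv_eq_zero_iff B q hq w).mpr
      (fun hwq => Ideal.IsPrime.ne_top' (Ideal.eq_top_of_isUnit_mem _ hwq w.isUnit))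
    rw [hw, zero_add] at h1
    exact h1
  have hsup : algebraMap A B t ∣ algebraMap A B s * h := by
    apply dvd_of_forall_vv_le B _ _ ht'0
    intro q _ hq
    rw [vv_mul]
    have hrel := hvalB q hq
    obtain ⟨a, ha⟩ := ENat.ne_top_iff_exists.mp
      (mt (vv_eq_top_iff B q hq (algebraMap A B t)).mp ht'0)
    obtain ⟨b, hb⟩ := ENat.ne_top_iff_exists.mp (mt (vv_eq_top_iff B q hq h).mp hh0)
    obtain ⟨c, hc⟩ := ENat.ne_top_iff_exists.mp
      (mt (vv_eq_top_iff B q hq (algebraMap A B s)).mp hs'0)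
    rw [← ha, ← hb, ← hc] at hrel ⊢
    simp only [nsmul_eq_mul] at hrel
    have hrel' : n * a = n * b + c := by exact_mod_cast hrel
    have h3 : n * a ≤ n * (c + b) := by
      rw [hrel', mul_add]
      have : c ≤ n * c := Nat.le_mul_of_pos_left c (by omega)
      omega
    have h4 : a ≤ c + b := Nat.le_of_mul_le_mul_left h3 (by omega)
    exact_mod_cast h4
  have hsubB : ∀ y : B, algebraMap A B t ∣ algebraMap A B s * y → h ∣ y := by
    intro y hy
    apply dvd_of_forall_vv_le B h y hh0
    intro q _ hq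
    have hrel := hvalB q hq
    have hle := vv_le_of_dvd B q hq _ _ hy
    rw [vv_mul] at hle
    by_cases hsq : algebraMap A B s ∈ q
    · have hhq : h ∉ q := by
        intro hhq
        have hfq : algebraMap A B f ∈ q := by
          rw [hf]
          exact Ideal.mul_mem_left _ _ (Ideal.pow_mem_of_mem _ hhq n (by omega))
        haveI : q.LiesOver (q.comap (algebraMap A B)) := ⟨rfl⟩
        have hht := Ideal.height_eq_height_add_of_liesOver_of_hasGoingDown
          (q.comap (algebraMap A B)) q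
        have hp1 : (q.comap (algebraMap A B)).height = 1 := by
          apply le_antisymm
          · rw [← hq, hht]
            exact le_self_add
          · rw [Order.one_le_iff_pos, pos_iff_ne_zero, Ne, Ideal.height_eq_zero_iff_eq_bot]
            intro hbot
            have : f ∈ q.comap (algebraMap A B) := hfq
            rw [hbot] at this
            exact hf0 ((Submodule.mem_bot A).mp this)
        exact hsp (q.comap (algebraMap A B)) hp1 hfq hsq
      rw [(vv_eq_zero_iff B q hq h).mpr hhq]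
      exact zero_le
    · rw [(vv_eq_zero_iff B q hq _).mpr hsq, add_zero] at hrel
      rw [(vv_eq_zero_iff B q hq _).mpr hsq, zero_add] at hle
      obtain ⟨a, ha⟩ := ENat.ne_top_iff_exists.mp
        (mt (vv_eq_top_iff B q hq (algebraMap A B t)).mp ht'0)
      obtain ⟨b, hb⟩ := ENat.ne_top_iff_exists.mp (mt (vv_eq_top_iff B q hq h).mp hh0)
      have heq : vv B q hq (algebraMap A B t) = vv B q hq h := by
        rw [← ha, ← hb] at hrel ⊢
        simp only [nsmul_eq_mul] at hrel
        have hrel' : n * a = n * b := by exact_mod_cast hrel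
        have : a = b := Nat.eq_of_mul_eq_mul_left (by omega) hrel'
        rw [this]
      rw [← heq]
      exact hle
  obtain ⟨I, hI⟩ : ∃ I : Ideal A, ∀ x, x ∈ I ↔ t ∣ s * x := by
    refine ⟨{ carrier := {x | t ∣ s * x}, add_mem' := ?_, zero_mem' := ?_, smul_mem' := ?_ },
      fun x => Iff.rfl⟩
    · intro a b ha hb
      show t ∣ s * (a + b)
      rw [mul_add]
      exact dvd_add ha hb
    · show t ∣ s * 0
      rw [mul_zero]
      exact dvd_zero t
    · intro c x hx
      show t ∣ s * (c • x)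
      rw [smul_eq_mul, mul_left_comm]
      exact Dvd.dvd.mul_left hx c
  have hImap_le : I.map (algebraMap A B) ≤ Ideal.span {h} := by
    rw [Ideal.map_le_iff_le_comap]
    intro x hx
    rw [Ideal.mem_comap, Ideal.mem_span_singleton]
    apply hsubB
    obtain ⟨z, hz⟩ := (hI x).mp hx
    exact ⟨algebraMap A B z, by rw [← map_mul, hz, map_mul]⟩
  have hhI : h ∈ I.map (algebraMap A B) := by
    obtain ⟨b, hb⟩ := hsup
    obtain ⟨k, a, y, hxy, hcol⟩ := Module.Flat.isTrivialRelation_of_sum_smul_eq_zero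
      (R := A) (M := B) (f := ![s, -t]) (x := ![h, b]) (by
        rw [Fin.sum_univ_two]
        simp only [Matrix.cons_val_zero, Matrix.cons_val_one]
        rw [Algebra.smul_def, Algebra.smul_def, map_neg, hb]
        ring)
    have h0 := hxy 0
    simp only [Matrix.cons_val_zero] at h0
    rw [h0]
    refine Ideal.sum_mem _ (fun j _ => ?_)
    rw [Algebra.smul_def]
    refine Ideal.mul_mem_right _ _ (Ideal.mem_map_of_mem _ ?_)
    rw [hI]
    have hc := hcol j
    rw [Fin.sum_univ_two] at hc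
    simp only [Matrix.cons_val_zero, Matrix.cons_val_one] at hc
    exact ⟨a 1 j, by linear_combination hc⟩
  have hex : ∃ x ∈ I, ∃ c : Bˣ, algebraMap A B x = c * h := by
    by_contra hcon
    push Not at hcon
    have hle : I.map (algebraMap A B) ≤ IsLocalRing.maximalIdeal B * Ideal.span {h} := by
      rw [Ideal.map_le_iff_le_comap]
      intro x hx
      rw [Ideal.mem_comap]
      have hxh : algebraMap A B x ∈ Ideal.span {h} := hImap_le (Ideal.mem_map_of_mem _ hx)
      obtain ⟨c, hc⟩ := Ideal.mem_span_singleton'.mp hxh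
      have hcm : c ∈ IsLocalRing.maximalIdeal B := by
        rw [IsLocalRing.mem_maximalIdeal, mem_nonunits_iff]
        intro hcu
        exact hcon x hx hcu.unit (by rw [IsUnit.unit_spec]; exact hc.symm)
      rw [← hc]
      exact Ideal.mul_mem_mul hcm (Ideal.mem_span_singleton_self h)
    obtain ⟨μ, hμ, hμh⟩ := Ideal.mem_mul_span_singleton.mp (hle hhI)
    have h1 : (μ - 1) * h = 0 := by rw [sub_mul, one_mul, hμh, sub_self]
    rcases mul_eq_zero.mp h1 with h2 | h2
    · have h3 : μ = 1 := sub_eq_zero.mp h2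
      rw [h3] at hμ
      exact (IsLocalRing.maximalIdeal.isMaximal B).ne_top ((Ideal.eq_top_iff_one _).mpr hμ)
    · exact hh0 h2
  obtain ⟨g, -, c, hgc⟩ := hex
  have hdesc : ∀ a b : A, algebraMap A B a ∣ algebraMap A B b → a ∣ b := by
    intro a b hab
    have h1 : b ∈ ((Ideal.span {a}).map (algebraMap A B)).comap (algebraMap A B) := by
      rw [Ideal.mem_comap, Ideal.map_span, Set.image_singleton]
      exact Ideal.mem_span_singleton.mpr hab
    rw [Ideal.comap_map_eq_self_of_faithfullyFlat] at h1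
    exact Ideal.mem_span_singleton.mp h1
  have hww : (w : B) * ((w⁻¹ : Bˣ) : B) = 1 := Units.mul_inv w
  have hcc : (c : B) * ((c⁻¹ : Bˣ) : B) = 1 := Units.mul_inv c
  have h1 : f ∣ g ^ n := by
    apply hdesc
    rw [map_pow, hgc, hf, mul_pow]
    exact ⟨(c : B) ^ n * ((w⁻¹ : Bˣ) : B), by
      linear_combination (-(c : B) ^ n * h ^ n) * hww⟩
  have h2 : g ^ n ∣ f := by
    apply hdesc
    rw [map_pow, hgc, hf, mul_pow]
    refine ⟨(w : B) * ((c⁻¹ : Bˣ) : B) ^ n, ?_⟩
    calc (w : B) * h ^ n = (w : B) * h ^ n * ((c : B) * ((c⁻¹ : Bˣ) : B)) ^ n := by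
          rw [hcc, one_pow, mul_one]
      _ = _ := by ring
  obtain ⟨a, ha⟩ := h2
  obtain ⟨a', ha'⟩ := h1
  have haa' : a * a' = 1 := by
    have h3 : f * (a' * a) = f * 1 := by rw [← mul_assoc, ← ha', ← ha, mul_one]
    have h4 := mul_left_cancel₀ hf0 h3
    rw [mul_comm]
    exact h4
  exact ⟨g, Units.mkOfMulEqOne a a' haa', by rw [Units.val_mkOfMulEqOne, ha, mul_comm]⟩

end main

end H7125

/-- Let A and B be Noetherian local normal domains and A → B a flat homomorphism that is local, and let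
f in A, h in B, n > 1 and a unit w of B satisfy f = w·hⁿ in B. Assume that for every height-one
prime p of A there is a height-one prime q of B lying over p such that A_p ⊆ B_q is weakly
unramified, i.e. p generates the maximal ideal of B_q. Then f = u·gⁿ for some g in A and some unit u
of A. -/
theorem result (A B : Type u) [CommRing A] [IsDomain A]
    [IsNoetherianRing A] [IsLocalRing A] [IsIntegrallyClosed A] [CommRing B] [IsDomain B] [IsNoetherianRing B]
    [IsLocalRing B] [IsIntegrallyClosed B] [Algebra A B] [IsLocalHom (algebraMap A B)] [Module.Flat A B]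
    (f : A) (h : B) (n : ℕ) (hn : 1 < n) (w : Bˣ) (hf : algebraMap A B f = (w : B) * h ^ n)
    (hram : ∀ (p : Ideal A) [p.IsPrime], p.height = 1 →
      ∃ (q : Ideal B) (_ : q.IsPrime), q.height = 1 ∧ q.comap (algebraMap A B) = p ∧
        Ideal.map (algebraMap B (Localization.AtPrime q)) (Ideal.map (algebraMap A B) p) =
          IsLocalRing.maximalIdeal (Localization.AtPrime q)) :
    ∃ (g : A) (u : Aˣ), f = (u : A) * g ^ n := by
  exact H7125.main A B f h n hn w hf hram

end Groth.Agent.S7125
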