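import Groth.Statements.S7129
import Groth.Agent.Lib.Helper11.AbsFlat
import Mathlib

set_option autoImplicit false
universe u
open EtAlg

namespace Groth.Agent.S7129

open Groth.Agent.Lib.Helper11

/-- Every module over a product of fields ∏ K_i is flat over it (the product is an absolutely flat
ring). -/
theorem result (ι : Type u) (K : ι → Type u) [∀ i, Field (K i)] (M : Type u)
    [AddCommGroup M] [Module (∀ i, K i) M] : Module.Flat (∀ i, K i) M := by
  have hvnr : ∀ a : (∀ i, K i), ∃ b : (∀ i, K i), a = a * a * b := by
    intro a
    refine ⟨fun i => (a i)⁻¹, ?_⟩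
    funext i
    by_cases h : a i = 0
    · simp [h]
    · simp only [Pi.mul_apply]
      rw [mul_inv_cancel_right₀ h]
  obtain ⟨hred, hmax⟩ := isReduced_and_maximal_of_vnr hvnr
  exact flat_of_isField_localization
    (fun p _ => isField_localization_of_reduced_of_maximal hmax p) M

end Groth.Agent.S7129
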