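import Groth.Statements.S7130
import Groth.Agent.Lib.Helper11.AbsFlat
import Mathlib

set_option autoImplicit false
universe u
open EtAlg

namespace Groth.Agent.S7130

open Groth.Agent.Lib.Helper11

/-- (2) ⇔ (3) ⇔ (4): for a ring A the following are equivalent: every A-module is flat; A is reduced of
Krull dimension zero, in the sense that every prime ideal of A is maximal; the local ring A_p is a
field for every prime p. (The further equivalent condition 'A has weak dimension at most zero'
coincides with the first condition by definition and is not listed separately.) -/
theorem result (A : Type u) [CommRing A] :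
    List.TFAE [∀ (M : Type u) [AddCommGroup M] [Module A M], Module.Flat A M,
      IsReduced A ∧ ∀ p : Ideal A, p.IsPrime → p.IsMaximal,
      ∀ (p : Ideal A) [p.IsPrime], IsField (Localization.AtPrime p)] := by
  tfae_have 1 → 2 := by
    intro h
    apply isReduced_and_maximal_of_vnr
    intro a
    haveI : Module.Flat A (A ⧸ Ideal.span {a}) := h _
    exact exists_eq_mul_self_mul_of_flat a
  tfae_have 2 → 3 := by
    rintro ⟨hred, hmax⟩ p hp
    exact isField_localization_of_reduced_of_maximal hmax p
  tfae_have 3 → 1 := by
    intro h M _ _
    exact flat_of_isField_localization (fun p _ => h p) M
  tfae_finish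

end Groth.Agent.S7130
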