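import Groth.Statements.S7131
import Groth.Agent.Lib.Helper7.WEtaleFlat

set_option autoImplicit false
universe u
open EtAlg

namespace Groth.Agent.S7131

/-- Suppose A → B is weakly étale and every A-module has tor dimension at most d. Then every B-module
has tor dimension at most d over B (weak dimension at most d ascends along weakly étale maps). -/
theorem result (A B : Type u) [CommRing A] [CommRing B] [Algebra A B]
    [Algebra.WeaklyEtale A B] (d : ℕ)
    (hA : ∀ (M : Type u) [AddCommGroup M] [Module A M], DRing.HasTorDimLE A d M)
    (N : Type u) [AddCommGroup N] [Module B N] : DRing.HasTorDimLE B d N := by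
  letI : Module A N := Module.compHom N (algebraMap A B)
  haveI : IsScalarTower A B N := IsScalarTower.of_algebraMap_smul (fun r x => rfl)
  intro N' _ _ p hp
  have hz := Groth.Agent.Lib.Helper7.tor_isZero_ascends (Algebra.WeaklyEtale.flat_lmul' A B) d N
    (fun M _ _ q hq => by
      haveI := hA N M q hq
      exact ModuleCat.isZero_of_subsingleton _) N' p hp
  exact ModuleCat.subsingleton_of_isZero hz

end Groth.Agent.S7131
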