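import Groth.Statements.S7132
import Mathlib

set_option autoImplicit false
universe u
open EtAlg

namespace Groth.Agent.S7132

section Aux
open IsLocalRing

variable {A B : Type*} [CommRing A] [IsDomain A] [IsDiscreteValuationRing A] [CommRing B]
  [IsDomain B] [IsDiscreteValuationRing B] [Algebra A B] [IsLocalHom (algebraMap A B)]

theorem eq_zero_of_forall_pow_dvd {πA : A} (hπA : Irreducible πA) (a : A)
    (h : ∀ N : ℕ, πA ^ N ∣ a) : a = 0 := by
  by_contra ha
  obtain ⟨k, v, hv⟩ := IsDiscreteValuationRing.eq_unit_mul_pow_irreducible ha hπA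
  have h1 := h (k + 1)
  rw [hv] at h1
  have h2 : πA ^ (k + 1) ∣ πA ^ k := Units.dvd_mul_left.mp h1
  have h3 := (pow_dvd_pow_iff hπA.ne_zero hπA.not_isUnit).mp h2
  omega

theorem step {πA : A} (hπA : Irreducible πA) {πB : B} (hπB : Irreducible πB)
    {e : ℕ} {u : Bˣ} (hu : algebraMap A B πA = ↑u * πB ^ e)
    {s : ℕ} (c : Fin s → B)
    (hc : LinearIndependent (ResidueField A) (fun l => residue B (c l)))
    (x : Fin s → Fin e → A)
    (hx : ∑ m : Fin e, (∑ l : Fin s, algebraMap A B (x l m) * c l) * πB ^ (m : ℕ) = 0) :
    ∀ (m : Fin e) (l : Fin s), πA ∣ x l m := by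
  obtain ⟨y, hy⟩ : ∃ y : Fin e → B, ∀ m', y m' = ∑ l : Fin s, algebraMap A B (x l m') * c l :=
    ⟨_, fun _ => rfl⟩
  have hx' : ∑ m' : Fin e, y m' * πB ^ (m' : ℕ) = 0 := by simpa only [hy] using hx
  have key : ∀ n : ℕ, ∀ (m : Fin e), (m : ℕ) = n → ∀ l, πA ∣ x l m := by
    intro n
    induction n using Nat.strong_induction_on with
    | _ n ih =>
      intro m hm l
      have hme : (m : ℕ) < e := m.isLt
      have hdiv : ∀ m' : Fin e, m' ≠ m → πB ^ ((m : ℕ) + 1) ∣ y m' * πB ^ (m' : ℕ) := by
        intro m' hne
        rcases lt_or_gt_of_ne hne with hlt | hgt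
        · have hlt' : (m' : ℕ) < (m : ℕ) := hlt
          have h1 : πB ^ e ∣ y m' := by
            rw [hy]
            apply Finset.dvd_sum
            intro l' _
            obtain ⟨x', hx''⟩ := ih (m' : ℕ) (by rw [← hm]; exact hlt') m' rfl l'
            rw [hx'', map_mul, hu]
            exact Dvd.intro (↑u * algebraMap A B x' * c l') (by ring)
          have h2 : πB ^ ((m : ℕ) + 1) ∣ πB ^ e := pow_dvd_pow _ (by omega)
          exact Dvd.dvd.mul_right (h2.trans h1) _
        · have hgt' : (m : ℕ) < (m' : ℕ) := hgt
          exact Dvd.dvd.mul_left (pow_dvd_pow _ (by omega)) _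
      have hsum : y m * πB ^ (m : ℕ) =
          - ∑ m' ∈ Finset.univ.erase m, y m' * πB ^ (m' : ℕ) := by
        rw [eq_neg_iff_add_eq_zero]
        have h0 := Finset.add_sum_erase Finset.univ (fun m' : Fin e => y m' * πB ^ (m' : ℕ))
          (Finset.mem_univ m)
        exact h0.trans hx'
      have h3 : πB ^ ((m : ℕ) + 1) ∣ y m * πB ^ (m : ℕ) := by
        rw [hsum, dvd_neg]
        exact Finset.dvd_sum (fun m' hm' => hdiv m' (Finset.ne_of_mem_erase hm'))
      have h4 : πB ∣ y m := by
        rw [pow_succ, mul_comm (y m)] at h3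
        exact (mul_dvd_mul_iff_left (pow_ne_zero _ hπB.ne_zero)).mp h3
      have h5 : residue B (y m) = 0 := by
        rw [residue_eq_zero_iff, hπB.maximalIdeal_eq, Ideal.mem_span_singleton]
        exact h4
      rw [hy, map_sum] at h5
      have h6 : ∑ l' : Fin s, residue A (x l' m) • residue B (c l') = 0 := by
        rw [← h5]
        refine Finset.sum_congr rfl (fun l' _ => ?_)
        rw [map_mul, Algebra.smul_def, ResidueField.algebraMap_residue]
      have h7 := Fintype.linearIndependent_iff.mp hc (fun l' => residue A (x l' m)) h6 l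
      rw [residue_eq_zero_iff, hπA.maximalIdeal_eq, Ideal.mem_span_singleton] at h7
      exact h7
  exact fun m l => key m m rfl l

theorem descent (hinj : Function.Injective (algebraMap A B)) {πA : A} (hπA : Irreducible πA)
    {πB : B} (hπB : Irreducible πB)
    {e : ℕ} {u : Bˣ} (hu : algebraMap A B πA = ↑u * πB ^ e)
    {s : ℕ} (c : Fin s → B)
    (hc : LinearIndependent (ResidueField A) (fun l => residue B (c l))) (N : ℕ) :
    ∀ (x : Fin s → Fin e → A),
      (∑ m : Fin e, (∑ l : Fin s, algebraMap A B (x l m) * c l) * πB ^ (m : ℕ) = 0) →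
      ∀ (m : Fin e) (l : Fin s), πA ^ N ∣ x l m := by
  induction N with
  | zero => intro x _ m l; rw [pow_zero]; exact one_dvd _
  | succ N ih =>
    intro x hx m l
    have h1 := step hπA hπB hu c hc x hx
    choose x' hx' using h1
    have h2 : algebraMap A B πA *
        ∑ m : Fin e, (∑ l : Fin s, algebraMap A B (x' m l) * c l) * πB ^ (m : ℕ)
        = ∑ m : Fin e, (∑ l : Fin s, algebraMap A B (x l m) * c l) * πB ^ (m : ℕ) := by
      rw [Finset.mul_sum]
      refine Finset.sum_congr rfl (fun m' _ => ?_)
      rw [← mul_assoc, Finset.mul_sum]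
      congr 1
      refine Finset.sum_congr rfl (fun l' _ => ?_)
      rw [hx' m' l', map_mul, mul_assoc]
    rw [hx] at h2
    have hπ0 : algebraMap A B πA ≠ 0 := fun h => hπA.ne_zero (hinj (by rw [h, map_zero]))
    have h3 := (mul_eq_zero.mp h2).resolve_left hπ0
    have h4 := ih (fun l m => x' m l) h3 m l
    rw [hx' m l, pow_succ']
    exact mul_dvd_mul_left _ h4

theorem card_le (K L : Type*) [Field K] [Field L] [Algebra A K] [IsFractionRing A K] [Algebra B L]
    [IsFractionRing B L] [Algebra K L] [Algebra A L] [IsScalarTower A K L] [IsScalarTower A B L]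
    [FiniteDimensional K L]
    (hinj : Function.Injective (algebraMap A B)) {πA : A} (hπA : Irreducible πA) {πB : B}
    (hπB : Irreducible πB) {e : ℕ} {u : Bˣ} (hu : algebraMap A B πA = ↑u * πB ^ e)
    {s : ℕ} (c : Fin s → B)
    (hc : LinearIndependent (ResidueField A) (fun l => residue B (c l))) :
    s * e ≤ Module.finrank K L := by
  have hli : LinearIndependent A
      (fun p : Fin s × Fin e => algebraMap B L (c p.1 * πB ^ (p.2 : ℕ))) := by
    rw [Fintype.linearIndependent_iff]
    intro g hg
    have h1 : ∑ m : Fin e, (∑ l : Fin s, algebraMap A B (g (l, m)) * c l) * πB ^ (m : ℕ) = 0 := by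
      apply IsFractionRing.injective B L
      rw [map_zero (algebraMap B L), ← hg, map_sum, Fintype.sum_prod_type_right]
      refine Finset.sum_congr rfl (fun m _ => ?_)
      rw [Finset.sum_mul, map_sum]
      refine Finset.sum_congr rfl (fun l _ => ?_)
      rw [Algebra.smul_def, IsScalarTower.algebraMap_apply A B L, ← map_mul, mul_assoc]
    intro p
    apply eq_zero_of_forall_pow_dvd hπA
    intro N
    exact descent hinj hπA hπB hu c hc N (fun l m => g (l, m)) h1 p.2 p.1
  have hliK : LinearIndependent K
      (fun p : Fin s × Fin e => algebraMap B L (c p.1 * πB ^ (p.2 : ℕ))) :=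
    (LinearIndependent.iff_fractionRing A K).mp hli
  have h2 := hliK.fintype_card_le_finrank
  rw [Fintype.card_prod, Fintype.card_fin, Fintype.card_fin] at h2
  exact h2

end Aux

/-- For an injective local homomorphism A → B of discrete valuation rings whose fraction fields K ⊆ L
form a finite extension, the residue field of B is finite over that of A, and the ramification index
e times the residue degree f is at most [L : K]. -/
theorem result (A B K L : Type u) [CommRing A] [IsDomain A]
    [IsDiscreteValuationRing A] [CommRing B] [IsDomain B] [IsDiscreteValuationRing B] [Algebra A B]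
    (hinj : Function.Injective (algebraMap A B)) [IsLocalHom (algebraMap A B)]
    [Field K] [Field L] [Algebra A K] [IsFractionRing A K] [Algebra B L] [IsFractionRing B L]
    [Algebra K L] [Algebra A L] [IsScalarTower A K L] [IsScalarTower A B L] [FiniteDimensional K L] :
    Module.Finite (IsLocalRing.ResidueField A) (IsLocalRing.ResidueField B) ∧
      Ideal.ramificationIdx' (IsLocalRing.maximalIdeal A) (IsLocalRing.maximalIdeal B) *
          Module.finrank (IsLocalRing.ResidueField A) (IsLocalRing.ResidueField B) ≤
        Module.finrank K L := by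
  obtain ⟨πA, hπA⟩ := IsDiscreteValuationRing.exists_irreducible A
  obtain ⟨πB, hπB⟩ := IsDiscreteValuationRing.exists_irreducible B
  have hπA0 : algebraMap A B πA ≠ 0 := fun h => hπA.ne_zero (hinj (by rw [h, map_zero]))
  obtain ⟨e, u, hu⟩ := IsDiscreteValuationRing.eq_unit_mul_pow_irreducible hπA0 hπB
  have he1 : 1 ≤ e := by
    by_contra h
    have he0 : e = 0 := by omega
    rw [he0, pow_zero, mul_one] at hu
    have h1 : IsUnit (algebraMap A B πA) := by rw [hu]; exact u.isUnit
    exact hπA.not_isUnit (isUnit_of_map_unit (algebraMap A B) πA h1)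
  have hram : Ideal.ramificationIdx' (IsLocalRing.maximalIdeal A) (IsLocalRing.maximalIdeal B) = e := by
    apply Ideal.ramificationIdx'_spec
    · rw [hπA.maximalIdeal_eq, hπB.maximalIdeal_eq, Ideal.map_span, Set.image_singleton, hu,
        Ideal.span_singleton_pow, Ideal.span_singleton_le_span_singleton]
      exact Dvd.intro_left _ rfl
    · rw [hπA.maximalIdeal_eq, hπB.maximalIdeal_eq, Ideal.map_span, Set.image_singleton, hu,
        Ideal.span_singleton_pow, Ideal.span_singleton_le_span_singleton]
      intro hdvd
      have h1 : πB ^ (e + 1) ∣ πB ^ e := Units.dvd_mul_left.mp hdvd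
      have h2 := (pow_dvd_pow_iff hπB.ne_zero hπB.not_isUnit).mp h1
      omega
  have hbound : ∀ (s : ℕ) (cb : Fin s → IsLocalRing.ResidueField B),
      LinearIndependent (IsLocalRing.ResidueField A) cb → s * e ≤ Module.finrank K L := by
    intro s cb hli
    choose c hc using fun l => IsLocalRing.residue_surjective (cb l)
    have h1 : (fun l => IsLocalRing.residue B (c l)) = cb := funext hc
    exact card_le K L hinj hπA hπB hu c (by rw [h1]; exact hli)
  have hfin : Module.Finite (IsLocalRing.ResidueField A) (IsLocalRing.ResidueField B) := by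
    rw [← Module.rank_lt_aleph0_iff]
    have hrank : Module.rank (IsLocalRing.ResidueField A) (IsLocalRing.ResidueField B) ≤
        ((Module.finrank K L : ℕ) : Cardinal) := by
      apply rank_le
      intro t ht
      have h1 := hbound t.card
        (fun i => ((t.equivFin.symm i : t) : IsLocalRing.ResidueField B))
        (ht.comp _ t.equivFin.symm.injective)
      calc t.card = t.card * 1 := (mul_one _).symm
        _ ≤ t.card * e := Nat.mul_le_mul_left _ he1
        _ ≤ Module.finrank K L := h1
    exact lt_of_le_of_lt hrank (Cardinal.nat_lt_aleph0 _)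
  refine ⟨hfin, ?_⟩
  rw [hram, mul_comm]
  exact hbound _ _
    (Module.finBasis (IsLocalRing.ResidueField A) (IsLocalRing.ResidueField B)).linearIndependent

end Groth.Agent.S7132
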