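import Groth.Statements.S7133
import Mathlib

set_option autoImplicit false
universe u
open EtAlg

namespace Groth.Agent.S7133


/-- For an injective local homomorphism A → B of discrete valuation rings whose fields of fractions are
K ⊆ L: if K has characteristic p > 0 and L/K is purely inseparable, then the ramification index of B
over A is a power of p. -/
theorem result (A B K L : Type u) [CommRing A] [IsDomain A]
    [IsDiscreteValuationRing A] [CommRing B] [IsDomain B] [IsDiscreteValuationRing B] [Algebra A B]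
    (hinj : Function.Injective (algebraMap A B)) [IsLocalHom (algebraMap A B)]
    [Field K] [Field L] [Algebra A K] [IsFractionRing A K] [Algebra B L] [IsFractionRing B L]
    [Algebra K L] [Algebra A L] [IsScalarTower A K L] [IsScalarTower A B L]
    (p : ℕ) (hp : p.Prime) [CharP K p] [IsPurelyInseparable K L] :
    ∃ k : ℕ, Ideal.ramificationIdx' (IsLocalRing.maximalIdeal A) (IsLocalRing.maximalIdeal B) =
      p ^ k := by
  haveI : ExpChar K p := ExpChar.prime hp
  obtain ⟨πA, hπA⟩ := IsDiscreteValuationRing.exists_irreducible A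
  obtain ⟨πB, hπB⟩ := IsDiscreteValuationRing.exists_irreducible B
  have hπA0 : algebraMap A B πA ≠ 0 := fun h => hπA.ne_zero (hinj (by rw [h, map_zero]))
  obtain ⟨e, u, hu⟩ := IsDiscreteValuationRing.eq_unit_mul_pow_irreducible hπA0 hπB
  have himg : ∀ a : A, a ≠ 0 → ∃ (i : ℕ) (w : B), IsUnit w ∧
      algebraMap A B a = w * πB ^ (e * i) := by
    intro a ha
    obtain ⟨i, v, hv⟩ := IsDiscreteValuationRing.eq_unit_mul_pow_irreducible ha hπA
    refine ⟨i, algebraMap A B ↑v * (↑u) ^ i, ?_, ?_⟩
    · exact ((v.isUnit).map (algebraMap A B)).mul ((u.isUnit).pow i)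
    · rw [hv, map_mul, map_pow, hu, mul_pow, ← pow_mul, mul_assoc]
  have he : Ideal.ramificationIdx' (IsLocalRing.maximalIdeal A) (IsLocalRing.maximalIdeal B) = e := by
    apply Ideal.ramificationIdx'_spec
    · rw [hπA.maximalIdeal_eq, hπB.maximalIdeal_eq, Ideal.map_span, Set.image_singleton, hu,
        Ideal.span_singleton_pow, Ideal.span_singleton_le_span_singleton]
      exact Dvd.intro_left _ rfl
    · rw [hπA.maximalIdeal_eq, hπB.maximalIdeal_eq, Ideal.map_span, Set.image_singleton, hu,
        Ideal.span_singleton_pow, Ideal.span_singleton_le_span_singleton]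
      intro hdvd
      have h1 : πB ^ (e + 1) ∣ πB ^ e := Units.dvd_mul_left.mp hdvd
      have h2 := (pow_dvd_pow_iff hπB.ne_zero hπB.not_isUnit).mp h1
      omega
  obtain ⟨n, c, hc⟩ := IsPurelyInseparable.pow_mem K p (algebraMap B L πB)
  obtain ⟨a, s, hs, hcs⟩ := IsFractionRing.div_surjective (A := A) c
  have hs0 : s ≠ 0 := nonZeroDivisors.ne_zero hs
  have hsK : algebraMap A K s ≠ 0 :=
    fun h => hs0 ((IsFractionRing.injective A K) (by rw [h, map_zero]))
  have h1 : algebraMap A K a = c * algebraMap A K s := (div_eq_iff hsK).mp hcs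
  have hL : algebraMap A L a = (algebraMap B L πB) ^ p ^ n * algebraMap A L s := by
    rw [IsScalarTower.algebraMap_apply A K L a, IsScalarTower.algebraMap_apply A K L s, h1,
      map_mul, hc]
  have hB : algebraMap A B a = πB ^ p ^ n * algebraMap A B s := by
    apply IsFractionRing.injective B L
    rw [map_mul, map_pow, ← IsScalarTower.algebraMap_apply A B L,
      ← IsScalarTower.algebraMap_apply A B L]
    exact hL
  have hsB : algebraMap A B s ≠ 0 := fun h => hs0 (hinj (by rw [h, map_zero]))
  have ha0 : a ≠ 0 := by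
    rintro rfl
    rw [map_zero] at hB
    rcases mul_eq_zero.mp hB.symm with h | h
    · exact pow_ne_zero _ hπB.ne_zero h
    · exact hsB h
  obtain ⟨i, w₁, hw₁, h₁⟩ := himg a ha0
  obtain ⟨j, w₂, hw₂, h₂⟩ := himg s hs0
  obtain ⟨w₁', rfl⟩ := hw₁
  obtain ⟨w₂', rfl⟩ := hw₂
  have h3 : (↑w₁' : B) * πB ^ (e * i) = ↑w₂' * πB ^ (p ^ n + e * j) := by
    rw [← h₁, hB, h₂, pow_add]; ring
  have h4 : e * i = p ^ n + e * j :=
    IsDiscreteValuationRing.unit_mul_pow_congr_pow hπB hπB w₁' w₂' _ _ h3
  have h5 : e ∣ p ^ n := by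
    have h6 : p ^ n = e * i - e * j := by omega
    exact ⟨i - j, by rw [Nat.mul_sub]; exact h6⟩
  obtain ⟨k, -, hk⟩ := (Nat.dvd_prime_pow hp).mp h5
  exact ⟨k, by rw [he, hk]⟩

end Groth.Agent.S7133
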