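import Groth.Statements.S7135
import Mathlib
import Groth.Agent.S2098

set_option autoImplicit false
universe u
open CAlg

namespace Groth.Agent.S7135

/-- Let A be a Noetherian ring, I an ideal and M, N finite A-modules. If M/IⁿM and N/IⁿN are isomorphic
for every n, then the I-adic completions of M and N are isomorphic as modules over the I-adic
completion of A. -/
theorem result (A : Type u) [CommRing A] [IsNoetherianRing A] (I : Ideal A)
    (M N : Type u) [AddCommGroup M] [Module A M] [Module.Finite A M] [AddCommGroup N] [Module A N]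
    [Module.Finite A N]
    (h : ∀ n : ℕ, Nonempty ((M ⧸ (I ^ n • ⊤ : Submodule A M)) ≃ₗ[A] (N ⧸ (I ^ n • ⊤ : Submodule A N)))) :
    Nonempty (AdicCompletion I M ≃ₗ[AdicCompletion I A] AdicCompletion I N) := by
  classical
  obtain ⟨c1, hc1⟩ := Groth.Agent.S2098.exists_lift_mod I M N 1
  obtain ⟨c2, hc2⟩ := Groth.Agent.S2098.exists_lift_mod I N M 1
  obtain ⟨e⟩ := h (1 + max c1 c2)
  obtain ⟨φ, hφ⟩ := hc1 (1 + max c1 c2) (by omega) (e.toLinearMap ∘ₗ Submodule.mkQ _)
  obtain ⟨φ', hφ'⟩ := hc2 (1 + max c1 c2) (by omega) (e.symm.toLinearMap ∘ₗ Submodule.mkQ _)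
  have hs1 : Function.Surjective (Submodule.mkQ (I • ⊤ : Submodule A N) ∘ₗ φ) := by
    intro y
    obtain ⟨y, rfl⟩ := Submodule.mkQ_surjective _ y
    obtain ⟨x, hx⟩ := Submodule.mkQ_surjective _ (e.symm (Submodule.Quotient.mk y))
    refine ⟨x, ?_⟩
    have h1 : (e.toLinearMap ∘ₗ Submodule.mkQ _) x = Submodule.Quotient.mk y := by
      simp only [LinearMap.comp_apply, LinearEquiv.coe_coe, hx, LinearEquiv.apply_symm_apply]
    have h2 := hφ x y h1
    rw [pow_one] at h2
    simp only [LinearMap.comp_apply, Submodule.mkQ_apply]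
    exact (Submodule.Quotient.eq _).mpr h2
  have hs2 : Function.Surjective (Submodule.mkQ (I • ⊤ : Submodule A M) ∘ₗ φ') := by
    intro y
    obtain ⟨y, rfl⟩ := Submodule.mkQ_surjective _ y
    obtain ⟨x, hx⟩ := Submodule.mkQ_surjective _ (e (Submodule.Quotient.mk y))
    refine ⟨x, ?_⟩
    have h1 : (e.symm.toLinearMap ∘ₗ Submodule.mkQ _) x = Submodule.Quotient.mk y := by
      simp only [LinearMap.comp_apply, LinearEquiv.coe_coe, hx, LinearEquiv.symm_apply_apply]
    have h2 := hφ' x y h1
    rw [pow_one] at h2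
    simp only [LinearMap.comp_apply, Submodule.mkQ_apply]
    exact (Submodule.Quotient.eq _).mpr h2
  have hS1 : Function.Surjective (AdicCompletion.map I φ) :=
    AdicCompletion.map_surjective_of_mkQ_comp_surjective hs1
  have hS2 : Function.Surjective (AdicCompletion.map I φ') :=
    AdicCompletion.map_surjective_of_mkQ_comp_surjective hs2
  haveI : Module.Finite (AdicCompletion I A) (AdicCompletion I M) :=
    Module.Finite.of_surjective (AdicCompletion.ofTensorProduct I M)
      (AdicCompletion.ofTensorProduct_surjective_of_finite I M)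
  have hinj : Function.Injective ((AdicCompletion.map I φ') ∘ₗ (AdicCompletion.map I φ)) := by
    apply OrzechProperty.injective_of_surjective_endomorphism
    rw [LinearMap.coe_comp]
    exact hS2.comp hS1
  have hinj1 : Function.Injective (AdicCompletion.map I φ) := by
    intro x y hxy
    apply hinj
    simp only [LinearMap.comp_apply, hxy]
  exact ⟨LinearEquiv.ofBijective (AdicCompletion.map I φ) ⟨hinj1, hS1⟩⟩

end Groth.Agent.S7135
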