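import Groth.Statements.S7153
import Mathlib

set_option autoImplicit false
universe u
open CAlg

namespace Groth.Agent.S7153

/-- Let A be a Noetherian ring, I an ideal and K → L → M a complex of finite A-modules with maps α, β
and homology H = Ker β / Im α; for n ≥ 0 let H_n be the homology of the induced complex K/IⁿK →
L/IⁿL → M/IⁿM, which is β⁻¹(IⁿM)/(Im α + IⁿL). Then there is c > 0 such that for every n: (i) the
image of H_(n+c) → H_n is contained in, hence equal to, the image of H → H_n; (ii) the kernel and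
the cokernel of H/IⁿH → H_n are annihilated by I^c. Everything is phrased with representatives in L. -/
theorem result (A : Type u) [CommRing A] [IsNoetherianRing A] (I : Ideal A)
    (K L M : Type u) [AddCommGroup K] [Module A K] [Module.Finite A K] [AddCommGroup L] [Module A L]
    [Module.Finite A L] [AddCommGroup M] [Module A M] [Module.Finite A M]
    (α : K →ₗ[A] L) (β : L →ₗ[A] M) (hαβ : β ∘ₗ α = 0) :
    ∃ c : ℕ, 0 < c ∧ ∀ n : ℕ,
      (∀ y ∈ (I ^ (n + c) • ⊤ : Submodule A M).comap β,
        ∃ z ∈ LinearMap.ker β, y - z ∈ LinearMap.range α ⊔ (I ^ n • ⊤ : Submodule A L)) ∧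
      (∀ z ∈ LinearMap.ker β, z ∈ LinearMap.range α ⊔ (I ^ n • ⊤ : Submodule A L) →
        ∀ a ∈ I ^ c, a • z ∈ LinearMap.range α ⊔ I ^ n • LinearMap.ker β) ∧
      (∀ y ∈ (I ^ n • ⊤ : Submodule A M).comap β, ∀ a ∈ I ^ c,
        ∃ z ∈ LinearMap.ker β, a • y - z ∈ LinearMap.range α ⊔ (I ^ n • ⊤ : Submodule A L)) := by
  obtain ⟨c1, h1⟩ := Ideal.exists_pow_inf_eq_pow_smul I (LinearMap.range β)
  obtain ⟨c2, h2⟩ := Ideal.exists_pow_inf_eq_pow_smul I (LinearMap.ker β)
  have keyA : ∀ n : ℕ, ∀ y : L, β y ∈ (I ^ (n + (max c1 c2 + 1)) • ⊤ : Submodule A M) →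
      ∃ y' ∈ (I ^ n • ⊤ : Submodule A L), β y' = β y := by
    intro n y hy
    have hmem : β y ∈ (I ^ (n + (max c1 c2 + 1)) • ⊤ : Submodule A M) ⊓ LinearMap.range β :=
      ⟨hy, LinearMap.mem_range_self β y⟩
    rw [h1 (n + (max c1 c2 + 1)) (by omega)] at hmem
    have hle : (I ^ (n + (max c1 c2 + 1) - c1) •
        ((I ^ c1 • ⊤ : Submodule A M) ⊓ LinearMap.range β)) ≤
        Submodule.map β (I ^ n • ⊤ : Submodule A L) := by
      rw [Submodule.map_smul'', Submodule.map_top]
      refine (Submodule.smul_mono le_rfl inf_le_right).trans ?_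
      exact Submodule.smul_mono_left (Ideal.pow_le_pow_right (by omega))
    obtain ⟨y', hy', hy'e⟩ := hle hmem
    exact ⟨y', hy', hy'e⟩
  refine ⟨max c1 c2 + 1, by omega, fun n => ⟨?_, ?_, ?_⟩⟩
  · intro y hy
    obtain ⟨y', hy', hy'e⟩ := keyA n y hy
    refine ⟨y - y', ?_, ?_⟩
    · simp [LinearMap.mem_ker, hy'e]
    · have : y - (y - y') = y' := by abel
      rw [this]; exact Submodule.mem_sup_right hy'
  · intro z hz hzs a ha
    obtain ⟨w, ⟨k, rfl⟩, l, hl, rfl⟩ := Submodule.mem_sup.mp hzs
    have hlker : l ∈ LinearMap.ker β := by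
      have h0 : β (α k) = 0 := by
        have := LinearMap.congr_fun hαβ k
        simpa using this
      have := LinearMap.mem_ker.mp hz
      rw [map_add, h0, zero_add] at this
      exact LinearMap.mem_ker.mpr this
    have hal : a • l ∈ (I ^ n • LinearMap.ker β : Submodule A L) := by
      by_cases hn : c2 ≤ n
      · have hmem : l ∈ (I ^ n • ⊤ : Submodule A L) ⊓ LinearMap.ker β := ⟨hl, hlker⟩
        rw [h2 n hn] at hmem
        have hle : (I ^ (n - c2) • ((I ^ c2 • ⊤ : Submodule A L) ⊓ LinearMap.ker β)) ≤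
            I ^ (n - c2) • LinearMap.ker β := Submodule.smul_mono le_rfl inf_le_right
        have hl' := hle hmem
        have ha' : a ∈ I ^ c2 := Ideal.pow_le_pow_right (by omega) ha
        have := Submodule.smul_mem_smul ha' hl'
        rwa [← Submodule.mul_smul, ← pow_add, Nat.add_sub_cancel' hn] at this
      · have ha' : a ∈ I ^ n := Ideal.pow_le_pow_right (by omega) ha
        exact Submodule.smul_mem_smul ha' hlker
    rw [smul_add]
    exact Submodule.add_mem_sup ⟨a • k, by simp⟩ hal
  · intro y hy a ha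
    have hay : β (a • y) ∈ (I ^ (n + (max c1 c2 + 1)) • ⊤ : Submodule A M) := by
      rw [map_smul, add_comm n, pow_add, Submodule.mul_smul]
      exact Submodule.smul_mem_smul ha hy
    obtain ⟨y', hy', hy'e⟩ := keyA n (a • y) hay
    refine ⟨a • y - y', ?_, ?_⟩
    · simp [LinearMap.mem_ker, hy'e]
    · have : a • y - (a • y - y') = y' := by abel
      rw [this]; exact Submodule.mem_sup_right hy'

end Groth.Agent.S7153
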