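import Groth.Statements.S7136
import Mathlib
import Groth.Agent.S7153

set_option autoImplicit false
universe u
open CAlg

namespace Groth.Agent.S7136

section lemmas

variable {A : Type u} [CommRing A]

/-- Maps in `J • ⊤` have image in `J • ⊤`. -/
lemma apply_mem_of_mem_smul_top {F N : Type*} [AddCommGroup F] [Module A F] [AddCommGroup N]
    [Module A N] (J : Ideal A) {h : F →ₗ[A] N}
    (hh : h ∈ (J • ⊤ : Submodule A (F →ₗ[A] N))) (f : F) :
    h f ∈ (J • ⊤ : Submodule A N) := by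
  refine Submodule.smul_induction_on hh ?_ ?_
  · intro a ha h' _
    rw [LinearMap.smul_apply]
    exact Submodule.smul_mem_smul ha Submodule.mem_top
  · intro x y hx hy
    rw [LinearMap.add_apply]
    exact Submodule.add_mem _ hx hy

/-- A map from a finite free module with image in `J • ⊤` lies in `J • ⊤`. -/
lemma mem_smul_top_of_apply_mem {r : ℕ} {N : Type*} [AddCommGroup N] [Module A N]
    (J : Ideal A) (h : (Fin r → A) →ₗ[A] N) (hh : ∀ f, h f ∈ (J • ⊤ : Submodule A N)) :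
    h ∈ (J • ⊤ : Submodule A ((Fin r → A) →ₗ[A] N)) := by
  classical
  have hdecomp : h = ∑ i, (LinearMap.smulRightₗ (LinearMap.proj i : (Fin r → A) →ₗ[A] A))
      (h (Pi.single i 1)) := by
    refine LinearMap.pi_ext' (fun i => LinearMap.ext_ring ?_)
    simp [LinearMap.sum_apply, Pi.single_apply, Finset.sum_ite_eq]
  rw [hdecomp]
  refine Submodule.sum_mem _ (fun i _ => ?_)
  have := Submodule.mem_map_of_mem
    (f := LinearMap.smulRightₗ (LinearMap.proj i : (Fin r → A) →ₗ[A] A)) (hh (Pi.single i 1))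
  rw [Submodule.map_smul''] at this
  exact Submodule.smul_mono le_rfl le_top this

lemma exists_factor {F M N : Type*} [AddCommGroup F] [Module A F] [AddCommGroup M] [Module A M]
    [AddCommGroup N] [Module A N] (π : F →ₗ[A] M) (hπ : Function.Surjective π)
    (z : F →ₗ[A] N) (hz : LinearMap.ker π ≤ LinearMap.ker z) :
    ∃ φ : M →ₗ[A] N, φ ∘ₗ π = z := by
  refine ⟨(Submodule.liftQ (LinearMap.ker π) z hz) ∘ₗ
    (π.quotKerEquivOfSurjective hπ).symm.toLinearMap, ?_⟩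
  refine LinearMap.ext fun f => ?_
  simp [LinearMap.quotKerEquivOfSurjective_symm_apply]

end lemmas


/-- Let A be a Noetherian ring, I an ideal, and M, N finite A-modules; write N_n = N/IⁿN, so that
Hom_A(M/IⁿM, N_n) = Hom_A(M, N_n). Then (1) the inverse system (Hom_A(M, N_n))_n, with transition
maps induced by the projections N_k → N_n, is Mittag-Leffler; (2) there is c ≥ 0 such that for all n
the kernel and the cokernel of Hom_A(M, N)/IⁿHom_A(M, N) → Hom_A(M, N_n) are annihilated by I^c. -/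
theorem result (A : Type u) [CommRing A] [IsNoetherianRing A]
    (I : Ideal A) (M N : Type u) [AddCommGroup M] [Module A M] [Module.Finite A M] [AddCommGroup N] [Module A N]
    [Module.Finite A N] :
    let Nq : ℕ → Submodule A N := fun n => I ^ n • ⊤
    let pr : ∀ n k : ℕ, n ≤ k → (N ⧸ Nq k) →ₗ[A] (N ⧸ Nq n) :=
      fun n k hnk => Submodule.mapQ (Nq k) (Nq n) (LinearMap.id : N →ₗ[A] N) (Submodule.smul_mono_left (Ideal.pow_le_pow_right hnk))
    let red : ∀ n : ℕ, (M →ₗ[A] N) → (M →ₗ[A] N ⧸ Nq n) := fun n φ => (Nq n).mkQ ∘ₗ φ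
    (∀ n : ℕ, ∃ m : ℕ, n ≤ m ∧ ∀ (k : ℕ) (hmk : m ≤ k) (hnm : n ≤ m) (ψ : M →ₗ[A] N ⧸ Nq m),
        ∃ ψ' : M →ₗ[A] N ⧸ Nq k, pr n k (hnm.trans hmk) ∘ₗ ψ' = pr n m hnm ∘ₗ ψ) ∧
    ∃ c : ℕ, ∀ n : ℕ,
      (∀ φ : M →ₗ[A] N, red n φ = 0 → ∀ a ∈ I ^ c, a • φ ∈ (I ^ n • ⊤ : Submodule A (M →ₗ[A] N))) ∧
      (∀ (ψ : M →ₗ[A] N ⧸ Nq n), ∀ a ∈ I ^ c, ∃ φ : M →ₗ[A] N, red n φ = a • ψ) := by
  intro Nq pr red
  obtain ⟨r, π, hπ⟩ := Module.Finite.exists_fin' A M
  haveI : Module.Finite A (LinearMap.ker π) := inferInstance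
  obtain ⟨s, ρ₀, hρ₀⟩ := Module.Finite.exists_fin' A (LinearMap.ker π)
  let ρ : (Fin s → A) →ₗ[A] (Fin r → A) := (LinearMap.ker π).subtype ∘ₗ ρ₀
  have hρ : LinearMap.range ρ = LinearMap.ker π := by
    rw [LinearMap.range_comp, LinearMap.range_eq_top.mpr hρ₀, Submodule.map_top,
      Submodule.range_subtype]
  have hπρ : ∀ g, π (ρ g) = 0 := fun g => (ρ₀ g).2
  let β : ((Fin r → A) →ₗ[A] N) →ₗ[A] ((Fin s → A) →ₗ[A] N) := LinearMap.lcomp A N ρ
  obtain ⟨c, hc, H⟩ := Groth.Agent.S7153.result A I ((Fin r → A) →ₗ[A] N)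
    ((Fin r → A) →ₗ[A] N) ((Fin s → A) →ₗ[A] N) 0 β (by simp)
  simp only [LinearMap.range_zero, bot_sup_eq] at H
  have F1 : ∀ (m : ℕ) (ψ : M →ₗ[A] N ⧸ Nq m), ∃ y : (Fin r → A) →ₗ[A] N,
      (Nq m).mkQ ∘ₗ y = ψ ∘ₗ π ∧
        β y ∈ (I ^ m • ⊤ : Submodule A ((Fin s → A) →ₗ[A] N)) := by
    intro m ψ
    obtain ⟨y, hy⟩ := Module.projective_lifting_property (Nq m).mkQ (ψ ∘ₗ π)
      (Submodule.mkQ_surjective _)
    refine ⟨y, hy, mem_smul_top_of_apply_mem _ _ (fun g => ?_)⟩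
    have h1 : (Nq m).mkQ (y (ρ g)) = ψ (π (ρ g)) := LinearMap.congr_fun hy (ρ g)
    rw [hπρ g, map_zero] at h1
    exact (Submodule.Quotient.mk_eq_zero _).mp h1
  have F2 : ∀ z ∈ LinearMap.ker β, ∃ φ : M →ₗ[A] N, φ ∘ₗ π = z := by
    intro z hz
    apply exists_factor π hπ z
    intro f hf
    rw [← hρ] at hf
    obtain ⟨g, rfl⟩ := hf
    exact LinearMap.congr_fun (LinearMap.mem_ker.mp hz) g
  have F3 : ∀ (n : ℕ) (h : (Fin r → A) →ₗ[A] N),
      h ∈ (I ^ n • ⊤ : Submodule A ((Fin r → A) →ₗ[A] N)) → (Nq n).mkQ ∘ₗ h = 0 := by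
    intro n h hh
    refine LinearMap.ext fun f => ?_
    exact (Submodule.Quotient.mk_eq_zero _).mpr (apply_mem_of_mem_smul_top _ hh f)
  refine ⟨?_, ?_⟩
  · intro n
    refine ⟨n + c, Nat.le_add_right n c, ?_⟩
    intro k hmk hnm ψ
    obtain ⟨y, hy, hβy⟩ := F1 (n + c) ψ
    obtain ⟨z, hz, hyz⟩ := (H n).1 y hβy
    obtain ⟨φ, hφ⟩ := F2 z hz
    refine ⟨red k φ, ?_⟩
    rw [← LinearMap.cancel_right hπ]
    have e1 : (pr n k (hnm.trans hmk) ∘ₗ red k φ) ∘ₗ π = (Nq n).mkQ ∘ₗ z := by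
      rw [← hφ]
      exact LinearMap.ext fun f => rfl
    have e2 : (pr n (n + c) hnm ∘ₗ ψ) ∘ₗ π = (Nq n).mkQ ∘ₗ y := by
      rw [LinearMap.comp_assoc, ← hy]
      exact LinearMap.ext fun f => rfl
    rw [e1, e2]
    have := F3 n (y - z) hyz
    rw [LinearMap.comp_sub, sub_eq_zero] at this
    exact this.symm
  · refine ⟨c, fun n => ⟨?_, ?_⟩⟩
    · intro φ hφ0 a ha
      have hz : φ ∘ₗ π ∈ LinearMap.ker β := by
        refine LinearMap.mem_ker.mpr (LinearMap.ext fun g => ?_)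
        show φ (π (ρ g)) = 0
        rw [hπρ g, map_zero]
      have hzn : φ ∘ₗ π ∈ (I ^ n • ⊤ : Submodule A ((Fin r → A) →ₗ[A] N)) := by
        apply mem_smul_top_of_apply_mem
        intro f
        have h0 : (Nq n).mkQ (φ (π f)) = 0 := LinearMap.congr_fun hφ0 (π f)
        exact (Submodule.Quotient.mk_eq_zero _).mp h0
      have h2 := (H n).2.1 (φ ∘ₗ π) hz hzn a ha
      let θ : (M →ₗ[A] N) →ₗ[A] ((Fin r → A) →ₗ[A] N) := LinearMap.lcomp A N π
      have hθ : LinearMap.ker β ≤ Submodule.map θ ⊤ := by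
        intro z hz
        obtain ⟨φ', hφ'⟩ := F2 z hz
        exact ⟨φ', trivial, hφ'⟩
      have h3 : a • (φ ∘ₗ π) ∈ Submodule.map θ (I ^ n • ⊤) := by
        rw [Submodule.map_smul'']
        exact Submodule.smul_mono le_rfl hθ h2
      obtain ⟨φ', hφ'mem, hφ'⟩ := h3
      have hφ'' : φ' = a • φ :=
        (LinearMap.cancel_right hπ).mp (hφ'.trans (LinearMap.smul_comp a φ π).symm)
      rw [← hφ'']
      exact hφ'mem
    · intro ψ a ha
      obtain ⟨y, hy, hβy⟩ := F1 n ψ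
      obtain ⟨z, hz, hyz⟩ := (H n).2.2 y hβy a ha
      obtain ⟨φ, hφ⟩ := F2 z hz
      refine ⟨φ, ?_⟩
      apply (LinearMap.cancel_right hπ).mp
      have e1 : red n φ ∘ₗ π = (Nq n).mkQ ∘ₗ z := by
        rw [← hφ]
        rfl
      have e2 : (a • ψ) ∘ₗ π = (Nq n).mkQ ∘ₗ (a • y) := by
        rw [LinearMap.smul_comp, ← hy, LinearMap.comp_smul]
      rw [e1, e2]
      have := F3 n (a • y - z) hyz
      rw [LinearMap.comp_sub, sub_eq_zero] at this
      exact this.symm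

end Groth.Agent.S7136
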