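import Groth.Statements.S7137
import Mathlib
import Groth.Agent.Lib.Helper7.AusBuch
import Groth.Agent.Lib.Helper7.PdRestrict
import Groth.Agent.Lib.Helper4.FiniteExt

set_option autoImplicit false
universe u
open CategoryTheory
open CAlg

namespace Groth.Agent.S7137

/-- Take a Noetherian local ring R, an ideal I and a finite module E ≠ 0 over R/I. Suppose that R/I, as
an R-module, and E, as an R/I-module, both have finite projective dimension. Then E, as an R-module,
has finite projective dimension too, and it equals pd_R(R/I) + pd_{R/I}(E). -/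
theorem result (R : Type u) [CommRing R] [IsNoetherianRing R] [IsLocalRing R]
    (I : Ideal R) (E : Type u) [AddCommGroup E] [Module (R ⧸ I) E] [Module R E] [IsScalarTower R (R ⧸ I) E]
    [Module.Finite (R ⧸ I) E] [Nontrivial E]
    (h1 : projectiveDimension (ModuleCat.of R (R ⧸ I)) ≠ ⊤)
    (h2 : projectiveDimension (ModuleCat.of (R ⧸ I) E) ≠ ⊤) :
    projectiveDimension (ModuleCat.of R E) ≠ ⊤ ∧
      projectiveDimension (ModuleCat.of R E) =
        projectiveDimension (ModuleCat.of R (R ⧸ I)) + projectiveDimension (ModuleCat.of (R ⧸ I) E) := by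
  classical
  haveI : Nontrivial (R ⧸ I) := by
    by_contra h
    rw [not_nontrivial_iff_subsingleton] at h
    haveI := h
    exact not_subsingleton E (Module.subsingleton (R ⧸ I) E)
  haveI : IsLocalRing (R ⧸ I) :=
    IsLocalRing.of_surjective' (Ideal.Quotient.mk I) Ideal.Quotient.mk_surjective
  haveI : Module.Finite R E := Module.Finite.trans (R ⧸ I) E
  have hQne : ¬ Limits.IsZero (ModuleCat.of R (R ⧸ I)) := fun h =>
    not_subsingleton (R ⧸ I) (ModuleCat.subsingleton_of_isZero h)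
  have hEne : ¬ Limits.IsZero (ModuleCat.of (R ⧸ I) E) := fun h =>
    not_subsingleton E (ModuleCat.subsingleton_of_isZero h)
  have hEne' : ¬ Limits.IsZero (ModuleCat.of R E) := fun h =>
    not_subsingleton E (ModuleCat.subsingleton_of_isZero h)
  obtain ⟨a, ha, ha1, ha2⟩ := Groth.Agent.Lib.Helper7.PdRestrict.exists_nat_pd _ hQne h1
  obtain ⟨s, hs, hs1, hs2⟩ := Groth.Agent.Lib.Helper7.PdRestrict.exists_nat_pd _ hEne h2
  have hER : HasProjectiveDimensionLT (ModuleCat.of R E) (a + s + 1) :=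
    Groth.Agent.Lib.Helper7.PdRestrict.pd_restrict_le R (R ⧸ I) a ha1 s E hs1
  have hfin : projectiveDimension (ModuleCat.of R E) ≠ ⊤ :=
    (projectiveDimension_ne_top_iff _).2 ⟨a + s, hER⟩
  obtain ⟨t, ht, ht1, ht2⟩ := Groth.Agent.Lib.Helper7.PdRestrict.exists_nat_pd _ hEne' hfin
  have AB1 := Groth.Agent.Lib.Helper7.AusBuch.depth_eq_add R a (R ⧸ I) ha1 ha2
  have AB2 := Groth.Agent.Lib.Helper7.AusBuch.depth_eq_add (R ⧸ I) s E hs1 hs2
  have AB3 := Groth.Agent.Lib.Helper7.AusBuch.depth_eq_add R t E ht1 ht2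
  have hm := Groth.Agent.Lib.Helper7.PdRestrict.map_maximalIdeal_quotient R I
  have hd1 : LocCoh.depth R (R ⧸ I) = LocCoh.depth (R ⧸ I) (R ⧸ I) := by
    show LocCoh.idealDepth (IsLocalRing.maximalIdeal R) (R ⧸ I) =
      LocCoh.idealDepth (IsLocalRing.maximalIdeal (R ⧸ I)) (R ⧸ I)
    rw [Groth.Agent.Lib.Helper4.idealDepth_map_eq (B := R ⧸ I) (IsLocalRing.maximalIdeal R) (R ⧸ I), hm]
  have hd2 : LocCoh.depth R E = LocCoh.depth (R ⧸ I) E := by
    show LocCoh.idealDepth (IsLocalRing.maximalIdeal R) E =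
      LocCoh.idealDepth (IsLocalRing.maximalIdeal (R ⧸ I)) E
    rw [Groth.Agent.Lib.Helper4.idealDepth_map_eq (B := R ⧸ I) (IsLocalRing.maximalIdeal R) E, hm]
  obtain ⟨dE, hdE⟩ := ENat.ne_top_iff_exists.1
    (Groth.Agent.Lib.Helper7.AusBuch.depth_ne_top (R ⧸ I) E)
  rw [hd1, AB2, ← hdE] at AB1
  rw [hd2, ← hdE] at AB3
  have hsum : (a : ℕ∞) + (s + dE) = t + dE := AB1.symm.trans AB3
  have hts : t = a + s := by
    have : a + (s + dE) = t + dE := by exact_mod_cast hsum
    omega
  refine ⟨hfin, ?_⟩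
  rw [ht, ha, hs, hts]
  push_cast
  rfl

end Groth.Agent.S7137
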