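import Groth.Statements.S7139
import Mathlib
import Groth.Agent.Lib.Helper27.InvEt
open Groth.Agent.Lib.Helper27
open scoped Pointwise

set_option autoImplicit false
universe u
open EtAlg

namespace Groth.Agent.S7139

/-- A is a discrete valuation ring, K its field of fractions, and L/K is finite Galois with Galois group
G. Write B for the integral closure of A in L, equipped with the induced G-action, m a maximal ideal
of B and I ⊆ G its inertia group. Denote by B' the integral closure of A inside the fixed field L^I,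
with a map to B compatible with L^I ⊆ L. Then the image of B' in B is the ring of invariants B^I,
and A → B'_{m'} is étale, where m' = m ∩ B'. -/
theorem result (A K L B : Type u) [CommRing A] [IsDomain A]
    [IsDiscreteValuationRing A] [Field K] [Field L] [Algebra A K] [IsFractionRing A K] [Algebra K L]
    [Algebra A L] [IsScalarTower A K L] [FiniteDimensional K L] [IsGalois K L]
    [CommRing B] [Algebra A B] [Algebra B L] [IsScalarTower A B L] [IsIntegralClosure B A L]
    [MulSemiringAction (L ≃ₐ[K] L) B]
    (hact : ∀ (σ : L ≃ₐ[K] L) (b : B), algebraMap B L (σ • b) = σ (algebraMap B L b))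
    (m : Ideal B) [m.IsMaximal]
    (B' : Type u) [CommRing B'] [Algebra A B'] [Algebra B' B] [IsScalarTower A B' B] [Algebra B' L]
    [IsScalarTower B' B L]
    [Algebra B' (IntermediateField.fixedField (m.inertia (L ≃ₐ[K] L)))]
    [IsScalarTower B' (IntermediateField.fixedField (m.inertia (L ≃ₐ[K] L))) L]
    [IsIntegralClosure B' A (IntermediateField.fixedField (m.inertia (L ≃ₐ[K] L)))] :
    (∀ b : B, (∀ σ ∈ m.inertia (L ≃ₐ[K] L), σ • b = b) ↔ b ∈ Set.range (algebraMap B' B)) ∧
      Algebra.Etale A (Localization.AtPrime (m.comap (algebraMap B' B))) := by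
  classical
  have hBL : Function.Injective (algebraMap B L) := IsIntegralClosure.algebraMap_injective B A L
  have hAL : Function.Injective (algebraMap A L) := by
    rw [IsScalarTower.algebraMap_eq A K L]
    exact (algebraMap K L).injective.comp (IsFractionRing.injective A K)
  have hAB : Function.Injective (algebraMap A B) := by
    have : Function.Injective ((algebraMap B L).comp (algebraMap A B)) := by
      rw [← IsScalarTower.algebraMap_eq A B L]
      exact hAL
    rw [RingHom.coe_comp] at this
    exact Function.Injective.of_comp this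
  have hB'E : Function.Injective
      (algebraMap B' (IntermediateField.fixedField (m.inertia (L ≃ₐ[K] L)))) :=
    IsIntegralClosure.algebraMap_injective B' A _
  have hB'L : Function.Injective (algebraMap B' L) := by
    rw [IsScalarTower.algebraMap_eq B' (IntermediateField.fixedField (m.inertia (L ≃ₐ[K] L))) L]
    exact (algebraMap _ L).injective.comp hB'E
  have hB'B : Function.Injective (algebraMap B' B) := by
    have : Function.Injective ((algebraMap B L).comp (algebraMap B' B)) := by
      rw [← IsScalarTower.algebraMap_eq B' B L]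
      exact hB'L
    rw [RingHom.coe_comp] at this
    exact Function.Injective.of_comp this
  have hAB'L : ∀ a : A, algebraMap A L a = algebraMap B' L (algebraMap A B' a) := by
    intro a
    rw [IsScalarTower.algebraMap_apply A B L, IsScalarTower.algebraMap_apply A B' B,
      ← IsScalarTower.algebraMap_apply B' B L]
  haveI : IsScalarTower A (IntermediateField.fixedField (m.inertia (L ≃ₐ[K] L))) L :=
    IsScalarTower.of_algebraMap_eq (fun a => rfl)
  haveI : IsScalarTower A B' (IntermediateField.fixedField (m.inertia (L ≃ₐ[K] L))) := by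
    refine IsScalarTower.of_algebraMap_eq fun a => ?_
    apply (algebraMap (IntermediateField.fixedField (m.inertia (L ≃ₐ[K] L))) L).injective
    rw [← IsScalarTower.algebraMap_apply A _ L, ← IsScalarTower.algebraMap_apply B' _ L, hAB'L]
  haveI : Algebra.IsIntegral A B := IsIntegralClosure.isIntegral_algebra A L
  haveI : Algebra.IsIntegral A B' :=
    IsIntegralClosure.isIntegral_algebra A (IntermediateField.fixedField (m.inertia (L ≃ₐ[K] L)))
  haveI : Algebra.IsIntegral B' B := Algebra.IsIntegral.tower_top A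
  haveI : IsDomain B' := Function.Injective.isDomain (algebraMap B' L) hB'L
  have hAinv : ∀ (σ : L ≃ₐ[K] L) (a : A), σ • algebraMap A B a = algebraMap A B a := by
    intro σ a
    apply hBL
    rw [hact, ← IsScalarTower.algebraMap_apply A B L, IsScalarTower.algebraMap_apply A K L,
      σ.commutes]
  have hG0 : ∀ b : B, (∀ σ : (L ≃ₐ[K] L), σ • b = b) → ∃ a : A, algebraMap A B a = b := by
    intro b hb
    have h1 : algebraMap B L b ∈ (⊥ : IntermediateField K L) := by
      rw [IsGalois.mem_bot_iff_fixed]
      intro σ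
      rw [← hact, hb σ]
    obtain ⟨k, hk⟩ := IntermediateField.mem_bot.mp h1
    have h2 : IsIntegral A k := by
      have : IsIntegral A (algebraMap K L k) :=
        hk ▸ (IsIntegralClosure.isIntegral_iff (A := B)).mpr ⟨b, rfl⟩
      exact (isIntegral_algebraMap_iff (algebraMap K L).injective).mp this
    obtain ⟨a, ha⟩ := IsIntegrallyClosed.isIntegral_iff.mp h2
    refine ⟨a, hBL ?_⟩
    rw [← IsScalarTower.algebraMap_apply A B L, IsScalarTower.algebraMap_apply A K L, ha, hk]
  have hG1 : ∀ b : B, (∀ σ ∈ m.inertia (L ≃ₐ[K] L), σ • b = b) ↔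
      b ∈ Set.range (algebraMap B' B) := by
    intro b
    constructor
    · intro hb
      have hmem : algebraMap B L b ∈ IntermediateField.fixedField (m.inertia (L ≃ₐ[K] L)) := by
        rw [IntermediateField.mem_fixedField_iff]
        intro σ hσ
        rw [← hact, hb σ hσ]
      have hint : IsIntegral A
          (⟨algebraMap B L b, hmem⟩ : IntermediateField.fixedField (m.inertia (L ≃ₐ[K] L))) := by
        have h1 : IsIntegral A (algebraMap B L b) :=
          (IsIntegralClosure.isIntegral_iff (A := B)).mpr ⟨b, rfl⟩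
        exact (isIntegral_algebraMap_iff
          (algebraMap (IntermediateField.fixedField (m.inertia (L ≃ₐ[K] L))) L).injective).mp h1
      obtain ⟨y, hy⟩ := (IsIntegralClosure.isIntegral_iff (A := B')).mp hint
      refine ⟨y, hBL ?_⟩
      rw [← IsScalarTower.algebraMap_apply B' B L,
        IsScalarTower.algebraMap_apply B' (IntermediateField.fixedField (m.inertia (L ≃ₐ[K] L))) L,
        hy]
      rfl
    · rintro ⟨y, rfl⟩ σ hσ
      apply hBL
      rw [hact, ← IsScalarTower.algebraMap_apply B' B L,
        IsScalarTower.algebraMap_apply B' (IntermediateField.fixedField (m.inertia (L ≃ₐ[K] L))) L]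
      exact (IntermediateField.mem_fixedField_iff _ _).mp
        (algebraMap B' (IntermediateField.fixedField (m.inertia (L ≃ₐ[K] L))) y).2 σ hσ
  haveI : SMulCommClass (L ≃ₐ[K] L) A B := ⟨fun σ a b => by
    rw [Algebra.smul_def, Algebra.smul_def, smul_mul', hAinv]⟩
  haveI : Algebra.IsInvariant A B (L ≃ₐ[K] L) := ⟨hG0⟩
  -- the two ring isomorphisms
  let φA : A →+* FixedPoints.subring B (L ≃ₐ[K] L) :=
    (algebraMap A B).codRestrict (FixedPoints.subring B (L ≃ₐ[K] L)) (fun a σ => hAinv σ a)
  have hφA : Function.Bijective φA := by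
    constructor
    · intro a a' h
      exact hAB (congrArg Subtype.val h)
    · rintro ⟨b, hb⟩
      obtain ⟨a, ha⟩ := hG0 b hb
      exact ⟨a, Subtype.ext ha⟩
  let eA : A ≃+* FixedPoints.subring B (L ≃ₐ[K] L) := RingEquiv.ofBijective φA hφA
  let φB : B' →+* FixedPoints.subring B (m.inertia (L ≃ₐ[K] L)) :=
    (algebraMap B' B).codRestrict (FixedPoints.subring B (m.inertia (L ≃ₐ[K] L)))
      (fun y σ => ((hG1 _).mpr ⟨y, rfl⟩) (σ : L ≃ₐ[K] L) σ.2)
  have hφB : Function.Bijective φB := by
    constructor
    · intro y y' h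
      exact hB'B (congrArg Subtype.val h)
    · rintro ⟨b, hb⟩
      obtain ⟨y, hy⟩ := (hG1 b).mp (fun σ hσ => hb ⟨σ, hσ⟩)
      exact ⟨y, Subtype.ext hy⟩
  let eB : B' ≃+* FixedPoints.subring B (m.inertia (L ≃ₐ[K] L)) := RingEquiv.ofBijective φB hφB
  -- the separating element and the auxiliary element
  obtain ⟨θ, hθ1, hθ2⟩ := InvEt.exists_theta (G := (L ≃ₐ[K] L)) m
  have hθ : ∀ σ : (L ≃ₐ[K] L), σ ∈ m.inertia (L ≃ₐ[K] L) ↔ σ • θ = θ := fun σ =>
    ⟨hθ1 σ, fun h => by_contra fun hn => hθ2 σ hn (by rw [h, sub_self]; exact m.zero_mem)⟩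
  obtain ⟨s, hs1, hs2, hs3⟩ := InvEt.exists_s (G := (L ≃ₐ[K] L)) m
  have hg0m : InvEt.g0 (L ≃ₐ[K] L) θ ∉ m := by
    refine InvEt.g0_not_mem m θ ?_
    intro a ha hane hmem'
    obtain ⟨σ, rfl⟩ := InvEt.mem_orb.mp ha
    have hσ : σ ∉ m.inertia (L ≃ₐ[K] L) := fun h => hane ((hθ σ).mp h)
    apply hθ2 σ hσ
    have := m.neg_mem hmem'
    rwa [neg_sub] at this
  obtain ⟨g, hg⟩ : ∃ g : FixedPoints.subring B (m.inertia (L ≃ₐ[K] L)),
      (g : B) = InvEt.g0 (L ≃ₐ[K] L) θ :=
    ⟨⟨_, fun h => InvEt.g0_smul (m.inertia (L ≃ₐ[K] L)) θ hθ h h.2⟩, rfl⟩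
  obtain ⟨t, ht⟩ : ∃ t : FixedPoints.subring B (m.inertia (L ≃ₐ[K] L)), (t : B) = s :=
    ⟨⟨s, fun σ => hs1 σ (InvEt.inertia_le_Ds m σ.2)⟩, rfl⟩
  obtain ⟨s', hs'⟩ : ∃ s' : B', eB s' = g * t := ⟨eB.symm (g * t), eB.apply_symm_apply _⟩
  have hs'B : algebraMap B' B s' = InvEt.g0 (L ≃ₐ[K] L) θ * s := by
    have := congrArg Subtype.val hs'
    rw [Subring.coe_mul, hg, ht] at this
    exact this
  have hs'm : s' ∉ m.comap (algebraMap B' B) := by
    intro h
    rw [Ideal.mem_comap, hs'B] at h
    rcases (inferInstance : m.IsPrime).mem_or_mem h with h | h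
    · exact hg0m h
    · exact hs2 h
  have hle : Submonoid.powers s' ≤ (m.comap (algebraMap B' B)).primeCompl :=
    Submonoid.powers_le.mpr hs'm
  have hdvd : ∀ u ∈ (m.comap (algebraMap B' B)).primeCompl,
      ∃ w ∈ Submonoid.powers s', u ∣ w := by
    intro u hu
    have hu' : u ∉ m.comap (algebraMap B' B) := hu
    by_contra hcon
    have hcon' : ∀ w ∈ Submonoid.powers s', ¬ u ∣ w := fun w hw hd => hcon ⟨w, hw, hd⟩
    have hdisj : Disjoint ((Ideal.span {u} : Ideal B') : Set B')
        (Submonoid.powers s' : Set B') :=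
      Set.disjoint_left.mpr (fun w hw hw' => hcon' w hw' (Ideal.mem_span_singleton.mp hw))
    obtain ⟨p', hp', hup', hdis'⟩ :=
      Ideal.exists_le_prime_disjoint (Ideal.span {u}) (Submonoid.powers s') hdisj
    have hu_p' : u ∈ p' := hup' (Ideal.mem_span_singleton_self u)
    have hs'_p' : s' ∉ p' := fun h => Set.disjoint_left.mp hdis' h (Submonoid.mem_powers s')
    have hu0 : u ≠ 0 := fun h => hu' (by rw [h]; exact Ideal.zero_mem _)
    haveI := hp'
    have hpA : p'.comap (algebraMap A B') = IsLocalRing.maximalIdeal A := by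
      have hne : p'.comap (algebraMap A B') ≠ ⊥ := fun h => by
        have := Ideal.eq_bot_of_comap_eq_bot h
        rw [this] at hu_p'
        exact hu0 (Ideal.mem_bot.mp hu_p')
      have hmax : (p'.comap (algebraMap A B')).IsMaximal :=
        Ideal.IsPrime.isMaximal (Ideal.comap_isPrime _ _) hne
      exact IsLocalRing.eq_maximalIdeal hmax
    obtain ⟨P, -, hPprime, hPover⟩ :=
      Ideal.exists_ideal_over_prime_of_isIntegral p' (⊥ : Ideal B)
        (by rw [Ideal.comap_bot_of_injective _ hB'B]; exact bot_le)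
    haveI := hPprime
    have hP_under : P.under A = IsLocalRing.maximalIdeal A := by
      rw [Ideal.under_def, IsScalarTower.algebraMap_eq A B' B, ← Ideal.comap_comap, hPover, hpA]
    have hm_under : m.under A = IsLocalRing.maximalIdeal A := by
      rw [Ideal.under_def]
      exact IsLocalRing.eq_maximalIdeal (Ideal.isMaximal_comap_of_isIntegral_of_isMaximal m)
    obtain ⟨σ, hσ⟩ := Algebra.IsInvariant.exists_smul_of_under_eq A B (L ≃ₐ[K] L) m P
      (hm_under.trans hP_under.symm)
    by_cases hσD : σ ∈ InvEt.Ds (L ≃ₐ[K] L) m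
    · have hPm : P = m := by
        rw [hσ]
        ext x
        rw [Ideal.mem_pointwise_smul_iff_inv_smul_mem]
        exact (InvEt.mem_Ds m).mp ((InvEt.Ds (L ≃ₐ[K] L) m).inv_mem hσD) x
      rw [← hPover, hPm] at hu_p'
      exact hu' hu_p'
    · have hsP : s ∈ P := by
        rw [hσ, Ideal.mem_pointwise_smul_iff_inv_smul_mem]
        exact hs3 σ⁻¹ (fun h => hσD (by simpa using (InvEt.Ds (L ≃ₐ[K] L) m).inv_mem h))
      apply hs'_p'
      rw [← hPover, Ideal.mem_comap, hs'B]
      exact P.mul_mem_left _ hsP
  have hloc : IsLocalization (Submonoid.powers s')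
      (Localization.AtPrime (m.comap (algebraMap B' B))) := by
    rw [IsLocalization.iff_of_le_of_exists_dvd (M := Submonoid.powers s')
      (m.comap (algebraMap B' B)).primeCompl hle hdvd]
    infer_instance
  refine ⟨hG1, ?_⟩
  haveI : Algebra.Etale (FixedPoints.subring B (L ≃ₐ[K] L)) (Localization.Away (g * t)) :=
    InvEt.etale_away_mul (m.inertia (L ≃ₐ[K] L)) θ hθ g hg t
  haveI := hloc
  let eS : Localization.AtPrime (m.comap (algebraMap B' B)) ≃+* Localization.Away (g * t) :=
    IsLocalization.ringEquivOfRingEquiv (M := Submonoid.powers s')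
      (T := Submonoid.powers (g * t)) _ _ eB (by
        rw [Submonoid.map_powers]
        congr 1)
  refine InvEt.etale_of_ringEquiv eA eS (fun a => ?_)
  rw [IsScalarTower.algebraMap_apply A B' (Localization.AtPrime (m.comap (algebraMap B' B))),
    IsLocalization.ringEquivOfRingEquiv_eq,
    IsScalarTower.algebraMap_apply (FixedPoints.subring B (L ≃ₐ[K] L))
      (FixedPoints.subring B (m.inertia (L ≃ₐ[K] L))) (Localization.Away (g * t))]
  congr 1
  exact Subtype.ext (IsScalarTower.algebraMap_apply A B' B a).symm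

end Groth.Agent.S7139
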