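import Groth.Statements.S7140
import Mathlib

set_option autoImplicit false
universe u
open EtAlg

namespace Groth.Agent.S7140

section aux
open Polynomial

instance isDomainU (p : ℕ) [hp : Fact p.Prime] : IsDomain (AdjoinRoot (cyclotomic p ℤ)) :=
  AdjoinRoot.isDomain_of_prime
    ((UniqueFactorizationMonoid.irreducible_iff_prime).1 (cyclotomic.irreducible hp.out.pos))

theorem natCast_ne_zero_U (p : ℕ) (hp : p.Prime) (n : ℕ) (hn : n ≠ 0) :
    ((n : ℕ) : AdjoinRoot (cyclotomic p ℤ)) ≠ 0 := by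
  have hinj : Function.Injective (AdjoinRoot.of (cyclotomic p ℤ)) :=
    AdjoinRoot.of.injective_of_degree_ne_zero (degree_cyclotomic_pos p ℤ hp.pos).ne'
  rw [← map_natCast (AdjoinRoot.of (cyclotomic p ℤ))]
  intro h
  have h1 := hinj (h.trans (map_zero _).symm)
  exact hn (by exact_mod_cast h1)

theorem root_primitive (p : ℕ) [hp : Fact p.Prime] :
    IsPrimitiveRoot (AdjoinRoot.root (cyclotomic p ℤ)) p := by
  haveI : NeZero ((p : ℕ) : AdjoinRoot (cyclotomic p ℤ)) :=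
    ⟨natCast_ne_zero_U p hp.out p hp.out.ne_zero⟩
  have h1 := AdjoinRoot.isRoot_root (cyclotomic p ℤ)
  rw [map_cyclotomic] at h1
  exact isRoot_cyclotomic_iff.1 h1

variable {D : Type*} [CommRing D] [IsDomain D]

theorem eps_exists {p : ℕ} [hp : Fact p.Prime] {μ : D} (hμ : IsPrimitiveRoot μ p) :
    ∃ ε : D, (p : D) = (1 - μ) ^ (p - 1) * ε ∧ ε + 1 ∈ Ideal.span {1 - μ} := by
  obtain ⟨n, rfl⟩ : ∃ n, p = n + 1 := ⟨p - 1, by have := hp.out.pos; omega⟩
  have hn : n ≠ 0 := by have := hp.out.two_le; omega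
  obtain ⟨ε, hε⟩ : ∃ ε : D, ε = ∏ k ∈ Finset.range n, ∑ l ∈ Finset.range (k + 1), μ ^ l :=
    ⟨_, rfl⟩
  have hfirst : ((n + 1 : ℕ) : D) = (1 - μ) ^ n * ε := by
    have hprod := hμ.prod_one_sub_pow_eq_order
    have h1 : ∏ k ∈ Finset.range n, (1 - μ ^ (k + 1)) =
        (1 - μ) ^ n * ∏ k ∈ Finset.range n, ∑ l ∈ Finset.range (k + 1), μ ^ l := by
      have h2 : (1 - μ) ^ n = ∏ _k ∈ Finset.range n, (1 - μ) := by
        rw [Finset.prod_const, Finset.card_range]
      rw [h2, ← Finset.prod_mul_distrib]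
      exact Finset.prod_congr rfl fun k _ => (mul_neg_geom_sum μ (k + 1)).symm
    rw [hε, ← h1, hprod, Nat.cast_succ]
  refine ⟨ε, by rw [Nat.add_sub_cancel]; exact hfirst, ?_⟩
  rw [← Ideal.Quotient.eq_zero_iff_mem]
  have hμ1 : Ideal.Quotient.mk (Ideal.span {1 - μ}) μ = 1 := by
    rw [← map_one (Ideal.Quotient.mk (Ideal.span {1 - μ})), eq_comm, Ideal.Quotient.eq]
    exact Ideal.subset_span rfl
  have hwil : ((Nat.factorial n + 1 : ℕ) : ZMod (n + 1)) = 0 := by
    have h1 := ZMod.wilsons_lemma (p := n + 1)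
    rw [Nat.add_sub_cancel] at h1
    rw [Nat.cast_succ, h1, neg_add_cancel]
  obtain ⟨c, hc⟩ := (ZMod.natCast_eq_zero_iff _ _).1 hwil
  have hpz : Ideal.Quotient.mk (Ideal.span {1 - μ}) ((n + 1 : ℕ) : D) = 0 := by
    rw [hfirst, map_mul, map_pow]
    have h1 : Ideal.Quotient.mk (Ideal.span {1 - μ}) (1 - μ) = 0 :=
      Ideal.Quotient.eq_zero_iff_mem.2 (Ideal.subset_span rfl)
    rw [h1, zero_pow hn, zero_mul]
  have hεq : Ideal.Quotient.mk (Ideal.span {1 - μ}) ε =
      ((Nat.factorial n : ℕ) : D ⧸ Ideal.span {1 - μ}) := by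
    rw [hε, map_prod]
    simp only [map_sum, map_pow, hμ1, one_pow, Finset.sum_const, Finset.card_range,
      nsmul_eq_mul, mul_one]
    rw [← Finset.prod_range_add_one_eq_factorial, Nat.cast_prod]
  rw [map_add, map_one, hεq]
  have h3 : ((Nat.factorial n : ℕ) : D ⧸ Ideal.span {1 - μ}) + 1 =
      ((Nat.factorial n + 1 : ℕ) : D ⧸ Ideal.span {1 - μ}) := (Nat.cast_succ _).symm
  rw [h3, hc, Nat.cast_mul, ← map_natCast (Ideal.Quotient.mk (Ideal.span {1 - μ})) (n + 1), hpz,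
    zero_mul]

theorem P_exists {p : ℕ} [hp : Fact p.Prime] {μ : D} (hμ : IsPrimitiveRoot μ p) :
    ∃ (P : D[X]) (a : ℕ → D),
      C ((1 - μ) ^ p) * P = (1 + C (1 - μ) * X) ^ p - 1 ∧
      (∀ i, a i ∈ Ideal.span {1 - μ}) ∧
      P = X ^ p - X + (Finset.Ioo 0 p).sum (fun i => C (a i) * X ^ i) := by
  have h2 : 2 ≤ p := hp.out.two_le
  obtain ⟨ε, hε, hε1⟩ := eps_exists hμ
  obtain ⟨w, hw⟩ : ∃ w : D, w = 1 - μ := ⟨_, rfl⟩
  rw [← hw] at hε hε1 ⊢
  have hw0 : w ≠ 0 := by
    rw [hw]; exact sub_ne_zero.2 (hμ.ne_one (by omega)).symm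
  have hwp0 : w ^ p ≠ 0 := pow_ne_zero p hw0
  have hcomp : ((1 + X : D[X]) ^ p).comp (C w * X) = (1 + C w * X) ^ p := by
    rw [pow_comp, add_comp, one_comp, X_comp]
  have hcoef : ∀ i, ((1 + C w * X) ^ p - 1 : D[X]).coeff i =
      (p.choose i : D) * w ^ i - (if i = 0 then 1 else 0) := by
    intro i
    rw [coeff_sub, ← hcomp, comp_C_mul_X_coeff, coeff_one_add_X_pow, coeff_one]
  have hpw : ∀ j, (p : D) * w ^ (j + 1) = w ^ p * (ε * w ^ j) := by
    intro j
    have h3 : w ^ p = w ^ (p - 1) * w := by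
      rw [← pow_succ]; congr 1; omega
    rw [hε, h3]; ring
  have hdvd : ∀ i, w ^ p ∣ ((1 + C w * X) ^ p - 1 : D[X]).coeff i := by
    intro i
    rw [hcoef]
    rcases Nat.eq_zero_or_pos i with h0 | hpos
    · subst h0
      simp
    · rw [if_neg (by omega : ¬ i = 0), sub_zero]
      rcases lt_or_ge i p with hlt | hge
      · obtain ⟨c, hc⟩ := hp.out.dvd_choose_self (by omega : i ≠ 0) hlt
        obtain ⟨j, rfl⟩ : ∃ j, i = j + 1 := ⟨i - 1, by omega⟩
        have h4 : ((p * c : ℕ) : D) * w ^ (j + 1) = w ^ p * (ε * w ^ j * c) := by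
          rw [Nat.cast_mul]; linear_combination (c : D) * hpw j
        rw [hc, h4]; exact dvd_mul_right _ _
      · exact Dvd.dvd.mul_left (pow_dvd_pow w hge) _
  obtain ⟨P, hP⟩ := (C_dvd_iff_dvd_coeff (w ^ p) _).2 hdvd
  have hc : ∀ i, w ^ p * P.coeff i =
      (p.choose i : D) * w ^ i - (if i = 0 then 1 else 0) := by
    intro i
    rw [← hcoef, hP, coeff_C_mul]
  have hP0 : P.coeff 0 = 0 := by
    apply mul_left_cancel₀ hwp0
    rw [hc 0]; simp
  have hPp : P.coeff p = 1 := by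
    apply mul_left_cancel₀ hwp0
    rw [hc p, if_neg (by omega : ¬ p = 0), Nat.choose_self, Nat.cast_one, one_mul, sub_zero,
      mul_one]
  have hPgt : ∀ i, p < i → P.coeff i = 0 := by
    intro i hi
    apply mul_left_cancel₀ hwp0
    rw [hc i, if_neg (by omega : ¬ i = 0), Nat.choose_eq_zero_of_lt hi, Nat.cast_zero, zero_mul,
      sub_zero, mul_zero]
  have hP1 : P.coeff 1 = ε := by
    apply mul_left_cancel₀ hwp0
    rw [hc 1, if_neg (by omega : ¬ 1 = 0), Nat.choose_one_right, sub_zero]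
    have h5 := hpw 0
    rw [zero_add, pow_zero, mul_one] at h5
    exact h5
  have hPmid : ∀ i, 2 ≤ i → i < p → P.coeff i ∈ Ideal.span {w} := by
    intro i hi2 hip
    obtain ⟨c, hc'⟩ := hp.out.dvd_choose_self (by omega : i ≠ 0) hip
    obtain ⟨j, rfl⟩ : ∃ j, i = j + 2 := ⟨i - 2, by omega⟩
    have h4 : P.coeff (j + 2) = w * (ε * w ^ j * c) := by
      apply mul_left_cancel₀ hwp0
      rw [hc (j + 2), if_neg (by omega : ¬ j + 2 = 0), sub_zero, hc', Nat.cast_mul]
      have h5 := hpw (j + 1)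
      linear_combination (c : D) * h5
    rw [h4]
    exact Ideal.mul_mem_right _ _ (Ideal.subset_span rfl)
  refine ⟨P, fun i => if i ∈ Finset.Ioo 0 p then P.coeff i + (if i = 1 then 1 else 0) else 0,
    hP.symm, ?_, ?_⟩
  · intro i
    show (if i ∈ Finset.Ioo 0 p then P.coeff i + (if i = 1 then 1 else 0) else 0) ∈
      Ideal.span {w}
    by_cases hmem : i ∈ Finset.Ioo 0 p
    · rw [if_pos hmem]
      obtain ⟨h0, hip⟩ := Finset.mem_Ioo.1 hmem
      by_cases h1 : i = 1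
      · rw [if_pos h1, h1, hP1]; exact hε1
      · rw [if_neg h1, add_zero]; exact hPmid i (by omega) hip
    · rw [if_neg hmem]; exact Submodule.zero_mem _
  · ext n
    rw [coeff_add, coeff_sub, coeff_X_pow, coeff_X, finsetSum_coeff]
    simp only [coeff_C_mul_X_pow]
    rw [Finset.sum_ite_eq]
    rcases Nat.lt_trichotomy n p with hlt | heq | hgt
    · rcases Nat.eq_zero_or_pos n with h0 | hpos
      · have hmem : n ∉ Finset.Ioo 0 p := by rw [Finset.mem_Ioo]; omega
        rw [if_neg (by omega : ¬ n = p), if_neg (by omega : ¬ 1 = n), if_neg hmem, h0, hP0]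
        ring
      · have hmem : n ∈ Finset.Ioo 0 p := Finset.mem_Ioo.2 ⟨hpos, hlt⟩
        rw [if_neg (by omega : ¬ n = p), if_pos hmem, if_pos hmem]
        by_cases h1 : n = 1
        · rw [if_pos h1.symm, if_pos h1]; ring
        · rw [if_neg (fun h => h1 h.symm), if_neg h1]; ring
    · have hmem : n ∉ Finset.Ioo 0 p := by rw [Finset.mem_Ioo]; omega
      rw [if_pos heq, if_neg (by omega : ¬ 1 = n), if_neg hmem, heq, hPp]
      ring
    · have hmem : n ∉ Finset.Ioo 0 p := by rw [Finset.mem_Ioo]; omega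
      rw [if_neg (by omega : ¬ n = p), if_neg (by omega : ¬ 1 = n), if_neg hmem, hPgt n hgt]
      ring

theorem fe {p : ℕ} (w : D) (hw : w ≠ 0) (P : D[X])
    (hP : C (w ^ p) * P = (1 + C w * X) ^ p - 1) :
    aeval ((MvPolynomial.X 0 + MvPolynomial.X 1 +
        MvPolynomial.C w * MvPolynomial.X 0 * MvPolynomial.X 1 : MvPolynomial (Fin 2) D)) P =
      aeval (MvPolynomial.X 0 : MvPolynomial (Fin 2) D) P +
        aeval (MvPolynomial.X 1 : MvPolynomial (Fin 2) D) P +
        MvPolynomial.C (w ^ p) * aeval (MvPolynomial.X 0 : MvPolynomial (Fin 2) D) P *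
          aeval (MvPolynomial.X 1 : MvPolynomial (Fin 2) D) P := by
  obtain ⟨ω, hω⟩ : ∃ ω : MvPolynomial (Fin 2) D, ω = MvPolynomial.C w := ⟨_, rfl⟩
  have hω0 : ω ^ p ≠ 0 := by
    rw [hω]
    exact pow_ne_zero p
      (fun h => hw (MvPolynomial.C_injective (Fin 2) D (by rw [h, map_zero])))
  have H : ∀ t : MvPolynomial (Fin 2) D, ω ^ p * aeval t P = (1 + ω * t) ^ p - 1 := by
    intro t
    have h1 := congrArg (aeval t) hP
    simp only [map_mul, map_sub, map_pow, map_add, map_one, aeval_C, aeval_X,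
      MvPolynomial.algebraMap_eq] at h1
    rw [hω]; exact h1
  rw [map_pow, ← hω]
  apply mul_left_cancel₀ hω0
  have Hx := H (MvPolynomial.X 0)
  have Hy := H (MvPolynomial.X 1)
  have Hs := H (MvPolynomial.X 0 + MvPolynomial.X 1 + ω * MvPolynomial.X 0 * MvPolynomial.X 1)
  have hab : (1 + ω * (MvPolynomial.X 0 + MvPolynomial.X 1 +
      ω * MvPolynomial.X 0 * MvPolynomial.X 1) : MvPolynomial (Fin 2) D) =
      (1 + ω * MvPolynomial.X 0) * (1 + ω * MvPolynomial.X 1) := by ring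
  rw [hab, mul_pow] at Hs
  rw [Hs]
  linear_combination (-(ω ^ p * aeval (MvPolynomial.X 1 : MvPolynomial (Fin 2) D) P + 1)) * Hx -
    ((1 + ω * MvPolynomial.X 0) ^ p) * Hy

end aux

open Polynomial in
/-- Let p be a prime and A a ring with an element ζ satisfying 1 + ζ + ... + ζ^(p-1) = 0 (so that A is
an algebra over the ring of integers of the p-th cyclotomic field); set w = 1 - ζ. Then the
polynomial ((1 + wz)^p - 1)/w^p makes sense in A[z]: there is P in A[z] with w^p·P = (1 + wz)^p - 1,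
of the form z^p - z + Σ_{0<i<p} a_i z^i with all a_i in the ideal (w), and P(z₁ + z₂ + w z₁ z₂) =
P(z₁) + P(z₂) + w^p P(z₁)P(z₂) for all z₁, z₂ in any A-algebra. (The published statement asks only
for a primitive p-th root of unity; this row asks that ζ be a root of the p-th cyclotomic
polynomial, the case its proof treats. With ζ only of multiplicative order p the published statement
fails, for example for ζ = (1, e^{2πi/p}) in ℂ × ℂ.) -/
theorem result (p : ℕ) (hp : p.Prime) (A : Type u) [CommRing A] (ζ : A)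
    (hζ : aeval ζ (cyclotomic p ℤ) = 0) :
    ∃ P : A[X], C ((1 - ζ) ^ p) * P = (1 + C (1 - ζ) * X) ^ p - 1 ∧
      (∃ a : ℕ → A, (∀ i, a i ∈ Ideal.span {1 - ζ}) ∧
        P = X ^ p - X + (Finset.Ioo 0 p).sum (fun i => C (a i) * X ^ i)) ∧
      ∀ (S : Type u) [CommRing S] [Algebra A S] (z₁ z₂ : S),
        aeval (z₁ + z₂ + algebraMap A S (1 - ζ) * z₁ * z₂) P =
          aeval z₁ P + aeval z₂ P + algebraMap A S ((1 - ζ) ^ p) * aeval z₁ P * aeval z₂ P := by
  haveI : Fact p.Prime := ⟨hp⟩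
  have hμ := root_primitive p
  obtain ⟨PU, aU, hPU, haU, hPUform⟩ := P_exists hμ
  have hw0 : (1 - AdjoinRoot.root (cyclotomic p ℤ)) ≠ 0 :=
    sub_ne_zero.2 (hμ.ne_one hp.one_lt).symm
  have hζ' : (cyclotomic p ℤ).eval₂ (Int.castRingHom A) ζ = 0 := by
    rw [← algebraMap_int_eq, ← aeval_def]; exact hζ
  obtain ⟨φ, hφ⟩ : ∃ φ : AdjoinRoot (cyclotomic p ℤ) →+* A,
      φ (AdjoinRoot.root (cyclotomic p ℤ)) = ζ :=
    ⟨AdjoinRoot.lift (Int.castRingHom A) ζ hζ', AdjoinRoot.lift_root hζ'⟩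
  have hφw : φ (1 - AdjoinRoot.root (cyclotomic p ℤ)) = 1 - ζ := by
    rw [map_sub, map_one, hφ]
  refine ⟨PU.map φ, ?_, ⟨fun i => φ (aU i), ?_, ?_⟩, ?_⟩
  · have h1 := congrArg (Polynomial.map φ) hPU
    rw [Polynomial.map_mul, Polynomial.map_C, map_pow, hφw, Polynomial.map_sub,
      Polynomial.map_pow, Polynomial.map_add, Polynomial.map_one, Polynomial.map_mul,
      Polynomial.map_C, hφw, Polynomial.map_X] at h1
    exact h1
  · intro i
    obtain ⟨c, hc⟩ := Ideal.mem_span_singleton'.1 (haU i)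
    exact Ideal.mem_span_singleton'.2 ⟨φ c, by rw [← hφw, ← map_mul, hc]⟩
  · have h1 := congrArg (Polynomial.map φ) hPUform
    rw [Polynomial.map_add, Polynomial.map_sub, Polynomial.map_pow, Polynomial.map_X,
      Polynomial.map_sum] at h1
    simp only [Polynomial.map_mul, Polynomial.map_C, Polynomial.map_pow, Polynomial.map_X] at h1
    exact h1
  · intro S _ _ z₁ z₂
    obtain ⟨θ, hθ⟩ : ∃ θ : MvPolynomial (Fin 2) (AdjoinRoot (cyclotomic p ℤ)) →+* S,
        θ = MvPolynomial.eval₂Hom ((algebraMap A S).comp φ) ![z₁, z₂] := ⟨_, rfl⟩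
    have hθC : ∀ u, θ (MvPolynomial.C u) = algebraMap A S (φ u) := by
      intro u; rw [hθ, MvPolynomial.eval₂Hom_C]; rfl
    have hθX0 : θ (MvPolynomial.X 0) = z₁ := by
      rw [hθ, MvPolynomial.eval₂Hom_X']; rfl
    have hθX1 : θ (MvPolynomial.X 1) = z₂ := by
      rw [hθ, MvPolynomial.eval₂Hom_X']; rfl
    have hcomp : θ.comp (algebraMap (AdjoinRoot (cyclotomic p ℤ))
        (MvPolynomial (Fin 2) (AdjoinRoot (cyclotomic p ℤ)))) = (algebraMap A S).comp φ :=
      RingHom.ext fun u => by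
        rw [RingHom.comp_apply, MvPolynomial.algebraMap_eq, hθC]; rfl
    have hθP : ∀ t : MvPolynomial (Fin 2) (AdjoinRoot (cyclotomic p ℤ)),
        θ (aeval t PU) = aeval (θ t) (PU.map φ) := by
      intro t
      rw [aeval_def, hom_eval₂, aeval_def, eval₂_map, hcomp]
    have h := congrArg θ (fe (p := p) (1 - AdjoinRoot.root (cyclotomic p ℤ)) hw0 PU hPU)
    simp only [map_add, map_mul, hθP, hθX0, hθX1, hθC] at h
    rw [map_pow φ, hφw] at h
    exact h

end Groth.Agent.S7140
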