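import Groth.Statements.S7141
import Mathlib
import Groth.Agent.Lib.Helper8.WEField

set_option autoImplicit false
universe u
open EtAlg TensorProduct Groth.Agent.Lib.Helper8.WEField

namespace Groth.Agent.S7141

/-- Let K be a field and, for a K-algebra A, let B_max(A) be its largest weakly étale K-subalgebra. (2)
For a K-subalgebra A' ⊆ A one has B_max(A') = B_max(A) ∩ A'. (4) The quotient map A → A_red =
A/nilradical restricts to a bijection B_max(A) → B_max(A_red). (6) If A ≠ 0 and its only idempotents
are 0 and 1, then B_max(A) is a field, algebraic and separable over K. (The published statement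
omits A ≠ 0; this row assumes it, since for A = 0 the largest weakly étale subalgebra is the zero
ring.) -/
theorem result (K : Type u) [Field K] (A : Type u) [CommRing A] [Algebra K A] :
    (∀ A' : Subalgebra K A,
      (EtAlgD.maxWeaklyEtale K A').map A'.val = EtAlgD.maxWeaklyEtale K A ⊓ A') ∧
    (Set.BijOn (Ideal.Quotient.mkₐ K (nilradical A)) (EtAlgD.maxWeaklyEtale K A)
      (EtAlgD.maxWeaklyEtale K (A ⧸ nilradical A))) ∧
    ((∀ e : A, IsIdempotentElem e → e = 0 ∨ e = 1) → Nontrivial A →
      IsField (EtAlgD.maxWeaklyEtale K A) ∧ Algebra.IsSeparable K (EtAlgD.maxWeaklyEtale K A)) := by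
  refine ⟨fun A' => ?_, ?_, fun hidem hnt => ?_⟩
  · rw [maxWeaklyEtale_eq, maxWeaklyEtale_eq]
    ext x
    simp only [Subalgebra.mem_map, Algebra.mem_inf, mem_sepSubalgebra]
    constructor
    · rintro ⟨a, ha, rfl⟩
      exact ⟨ha.map A'.val, a.2⟩
    · rintro ⟨hx, hxA'⟩
      exact ⟨⟨x, hxA'⟩, IsSepElem.of_map A'.val Subtype.val_injective hx, rfl⟩
  · rw [maxWeaklyEtale_eq, maxWeaklyEtale_eq]
    refine ⟨fun x hx => IsSepElem.map _ hx, ?_, ?_⟩
    · intro x hx y hy hxy
      haveI : Algebra.WeaklyEtale K (sepSubalgebra K A) :=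
        weaklyEtale_of_le_sepSubalgebra _ le_rfl
      haveI : IsReduced (sepSubalgebra K A) := isReduced K
      have hmem : x - y ∈ sepSubalgebra K A := Subalgebra.sub_mem _ hx hy
      have hnil : IsNilpotent (x - y) := by
        have : x - y ∈ nilradical A := by
          rw [← Ideal.Quotient.eq_zero_iff_mem, map_sub, sub_eq_zero]
          exact hxy
        exact this
      have hnil' : IsNilpotent (⟨x - y, hmem⟩ : sepSubalgebra K A) := by
        obtain ⟨n, hn⟩ := hnil
        exact ⟨n, Subtype.ext (by simpa using hn)⟩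
      have h0 := hnil'.eq_zero
      exact sub_eq_zero.mp (congrArg Subtype.val h0)
    · intro ybar hybar
      obtain ⟨Q, hQ, hQ0⟩ := hybar
      obtain ⟨y, rfl⟩ := Ideal.Quotient.mkₐ_surjective K (nilradical A) ybar
      have hnil : IsNilpotent (Polynomial.aeval y Q) := by
        have : Polynomial.aeval y Q ∈ nilradical A := by
          rw [← Ideal.Quotient.eq_zero_iff_mem, ← Ideal.Quotient.mkₐ_eq_mk K,
            ← Polynomial.aeval_algHom_apply]
          exact hQ0
        exact this
      obtain ⟨y', hy', hyy'⟩ := exists_root_of_separable_of_isNilpotent Q hQ y hnil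
      refine ⟨y', ⟨Q, hQ, hy'⟩, ?_⟩
      have : y' - y ∈ nilradical A := hyy'
      rw [← Ideal.Quotient.eq_zero_iff_mem, map_sub, sub_eq_zero] at this
      exact this
  · rw [maxWeaklyEtale_eq]
    haveI : Algebra.WeaklyEtale K (sepSubalgebra K A) :=
      weaklyEtale_of_le_sepSubalgebra _ le_rfl
    refine ⟨⟨⟨0, 1, fun h => zero_ne_one (congrArg Subtype.val h)⟩, mul_comm, ?_⟩, ⟨fun s => ?_⟩⟩
    · intro s hs
      obtain ⟨h, hh⟩ := exists_eq_sq_mul (K := K) s
      refine ⟨h, ?_⟩
      have hid : IsIdempotentElem ((s * h : sepSubalgebra K A) : A) := by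
        have : (s * h) * (s * h) = s * h := by
          calc (s * h) * (s * h) = (s * s * h) * h := by ring
            _ = s * h := by rw [← hh]
        exact congrArg Subtype.val this
      rcases hidem _ hid with h0 | h1
      · exfalso
        apply hs
        have h0' : s * h = 0 := Subtype.ext h0
        calc s = s * s * h := hh
          _ = s * (s * h) := by ring
          _ = 0 := by rw [h0', mul_zero]
      · exact Subtype.ext h1
    · have := isSepElem_of_weaklyEtale (K := K) s
      exact (isSepElem_iff_isSeparable s).mp this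

end Groth.Agent.S7141
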