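import Groth.Statements.S7144
import Mathlib

set_option autoImplicit false
universe u
open CAlg

namespace Groth.Agent.S7144

/-- (1) ⇔ (2): let R be a nonzero ring. Then for all a, b in R one of a, b divides the other if and only
if R is local and every finitely generated ideal of R is principal. (The further equivalence with
the total ordering of the set of ideals by inclusion is standard and not restated here.) -/
theorem result (R : Type u) [CommRing R] [Nontrivial R] :
    PreValuationRing R ↔ IsLocalRing R ∧ IsBezout R := by
  constructor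
  · intro h
    refine ⟨inferInstance, ?_⟩
    rw [IsBezout.iff_span_pair_isPrincipal]
    intro x y
    rw [Ideal.span_insert]
    rcases (PreValuationRing.iff_ideal_total.1 h).total (Ideal.span {x}) (Ideal.span {y}) with h' | h'
    · rw [sup_eq_right.mpr h']; exact ⟨⟨_, rfl⟩⟩
    · rw [sup_eq_left.mpr h']; exact ⟨⟨_, rfl⟩⟩
  · rintro ⟨hl, hb⟩
    rw [PreValuationRing.iff_dvd_total]
    refine ⟨fun a b => ?_⟩
    obtain ⟨g, e : _ = Ideal.span _⟩ := IsBezout.span_pair_isPrincipal a b
    obtain ⟨a', rfl⟩ := Ideal.mem_span_singleton'.mp
      (show a ∈ Ideal.span {g} by rw [← e]; exact Ideal.subset_span (by simp))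
    obtain ⟨b', rfl⟩ := Ideal.mem_span_singleton'.mp
      (show b ∈ Ideal.span {g} by rw [← e]; exact Ideal.subset_span (by simp))
    obtain ⟨x, y, e'⟩ := Ideal.mem_span_pair.mp
      (show g ∈ Ideal.span {a' * g, b' * g} by rw [e]; exact Ideal.subset_span (by simp))
    have hu : (1 - (x * a' + y * b')) * g = 0 := by linear_combination -e'
    rcases IsLocalRing.isUnit_or_isUnit_one_sub_self (x * a' + y * b') with hu1 | hu2
    · rcases IsLocalRing.isUnit_or_isUnit_of_isUnit_add hu1 with h' | h'
      · left
        exact mul_dvd_mul_right (isUnit_iff_forall_dvd.mp (isUnit_of_mul_isUnit_right h') _) _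
      · right
        exact mul_dvd_mul_right (isUnit_iff_forall_dvd.mp (isUnit_of_mul_isUnit_right h') _) _
    · have hg : g = 0 := (hu2.mul_right_eq_zero).1 hu
      left
      rw [hg, mul_zero, mul_zero]

end Groth.Agent.S7144
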