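import Groth.Statements.S7145
import Mathlib

set_option autoImplicit false
universe u
open CategoryTheory CategoryTheory.Limits
open CAlg

namespace Groth.Agent.S7145

section construction

variable {R : Type u} [CommRing R] (F : CochainComplex (ModuleCat.{u} R) ℤ)
  [∀ n : ℤ, Module.Free R (F.X n)]

/-- Support of an element with respect to the chosen basis. -/
noncomputable def supp {n : ℤ} (x : F.X n) : Finset (Module.Free.ChooseBasisIndex R (F.X n)) :=
  ((Module.Free.chooseBasis R (F.X n)).repr x).support

variable {N : ℕ} (deg : Fin N → ℤ) (f : ∀ i : Fin N, F.X (deg i))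

open Classical in
/-- Basis indices needed for the given elements of degree `n`. -/
noncomputable def E (n : ℤ) : Finset (Module.Free.ChooseBasisIndex R (F.X n)) :=
  Finset.univ.biUnion fun i : Fin N => if h : deg i = n then supp F (h ▸ f i) else ∅

open Classical in
/-- Basis indices reachable in at most `k` applications of the differential. -/
noncomputable def U : ℕ → ∀ n : ℤ, Finset (Module.Free.ChooseBasisIndex R (F.X n))
  | 0, n => E F deg f n
  | k + 1, n => E F deg f n ∪ (U k (n - 1)).biUnion
      (fun j => supp F ((F.d (n - 1) n).hom (Module.Free.chooseBasis R (F.X (n - 1)) j)))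

lemma supp_subset_E (i : Fin N) : supp F (f i) ⊆ E F deg f (deg i) := by
  classical
  intro j hj
  unfold E
  rw [Finset.mem_biUnion]
  exact ⟨i, Finset.mem_univ _, by rw [dif_pos rfl]; exact hj⟩

lemma E_eq_empty (n : ℤ) (h : ∀ i, deg i ≠ n) : E F deg f n = ∅ := by
  classical
  unfold E
  apply Finset.eq_empty_of_forall_notMem
  intro j hj
  rw [Finset.mem_biUnion] at hj
  obtain ⟨i, _, hi⟩ := hj
  rw [dif_neg (h i)] at hi
  exact absurd hi (Finset.notMem_empty _)

lemma E_subset_U (k : ℕ) (n : ℤ) : E F deg f n ⊆ U F deg f k n := by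
  classical
  cases k with
  | zero => exact le_of_eq rfl
  | succ k =>
    show _ ⊆ E F deg f n ∪ _
    exact Finset.subset_union_left

lemma step (k : ℕ) (m n : ℤ) (h : m + 1 = n) (j : Module.Free.ChooseBasisIndex R (F.X m))
    (hj : j ∈ U F deg f k m) :
    supp F ((F.d m n).hom (Module.Free.chooseBasis R (F.X m) j)) ⊆ U F deg f (k + 1) n := by
  classical
  obtain rfl : m = n - 1 := by omega
  show _ ⊆ E F deg f n ∪ _
  intro x hx
  exact Finset.mem_union_right _ (Finset.mem_biUnion.mpr ⟨j, hj, hx⟩)

end construction


/-- Let R be a ring and F a cochain complex of free R-modules that is zero in all sufficiently large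
degrees. Given finitely many elements f_i of F, f_i lying in degree n_i, there is a subcomplex G of
F (a map of complexes G → F injective in every degree) through which every f_i passes, such that G
is zero outside a finite range of degrees and each term of G is a finitely generated free R-module. -/
theorem result (R : Type u) [CommRing R]
    (F : CochainComplex (ModuleCat.{u} R) ℤ) (hfree : ∀ n : ℤ, Module.Free R (F.X n))
    (b : ℤ) (hb : ∀ n : ℤ, b < n → IsZero (F.X n))
    (N : ℕ) (deg : Fin N → ℤ) (f : ∀ i : Fin N, F.X (deg i)) :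
    ∃ (G : CochainComplex (ModuleCat.{u} R) ℤ) (ι : G ⟶ F),
      (∀ n : ℤ, Function.Injective (ι.f n)) ∧
      (∃ a c : ℤ, ∀ n : ℤ, (n < a ∨ c < n) → IsZero (G.X n)) ∧
      (∀ n : ℤ, Module.Finite R (G.X n) ∧ Module.Free R (G.X n)) ∧
      ∀ i : Fin N, f i ∈ Set.range (ι.f (deg i)) := by
  classical
  haveI := hfree
  obtain ⟨a, ha⟩ : ∃ a : ℤ, ∀ i, a ≤ deg i := by
    obtain ⟨a, ha⟩ := (Finset.univ.image deg).bddBelow
    exact ⟨a, fun i => ha (Finset.mem_coe.mpr (Finset.mem_image_of_mem _ (Finset.mem_univ i)))⟩
  let S : ∀ n : ℤ, Finset (Module.Free.ChooseBasisIndex R (F.X n)) :=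
    fun n => U F deg f ((n - a).toNat) n
  have P1 : ∀ i, supp F (f i) ⊆ S (deg i) :=
    fun i => (supp_subset_E F deg f i).trans (E_subset_U F deg f _ _)
  have P2 : ∀ n, n < a → S n = ∅ := by
    intro n hn
    have h0 : (n - a).toNat = 0 := by omega
    show U F deg f ((n - a).toNat) n = ∅
    rw [h0]
    exact E_eq_empty F deg f n (fun i hi => by have := ha i; omega)
  have P3 : ∀ n, ∀ j ∈ S n,
      supp F ((F.d n (n + 1)).hom (Module.Free.chooseBasis R (F.X n) j)) ⊆ S (n + 1) := by
    intro n j hj
    by_cases hn : n < a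
    · rw [P2 n hn] at hj
      exact absurd hj (Finset.notMem_empty _)
    · have h1 : (n + 1 - a).toNat = (n - a).toNat + 1 := by omega
      show _ ⊆ U F deg f ((n + 1 - a).toNat) (n + 1)
      rw [h1]
      exact step F deg f _ n (n + 1) rfl j hj
  let P : ∀ n : ℤ, Submodule R (F.X n) := fun n =>
    Submodule.span R (Set.range (fun j : S n => Module.Free.chooseBasis R (F.X n) j))
  have Q1 : ∀ n (x : F.X n), x ∈ P n ↔ supp F x ⊆ S n := by
    intro n x
    have hr : Set.range (fun j : S n => Module.Free.chooseBasis R (F.X n) j) =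
        (Module.Free.chooseBasis R (F.X n)) '' (S n : Set _) := by
      ext y
      constructor
      · rintro ⟨j, rfl⟩
        exact ⟨j.1, j.2, rfl⟩
      · rintro ⟨j, hj, rfl⟩
        exact ⟨⟨j, hj⟩, rfl⟩
    show x ∈ Submodule.span R _ ↔ _
    rw [hr, Module.Basis.mem_span_image]
    exact Finset.coe_subset
  have hd : ∀ i j : ℤ, ∀ x ∈ P i, (F.d i j).hom x ∈ P j := by
    intro i j
    by_cases hij : i + 1 = j
    · subst hij
      intro x hx
      have hle : P i ≤ Submodule.comap (F.d i (i + 1)).hom (P (i + 1)) := by
        apply Submodule.span_le.mpr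
        rintro _ ⟨j, rfl⟩
        exact (Q1 _ _).mpr (P3 i j.1 j.2)
      exact hle hx
    · intro x _
      have h0 : F.d i j = 0 := F.shape i j hij
      rw [h0]
      exact (P j).zero_mem
  let G : CochainComplex (ModuleCat.{u} R) ℤ :=
    { X := fun n => ModuleCat.of R (P n)
      d := fun i j => ModuleCat.ofHom ((F.d i j).hom.restrict (hd i j))
      shape := fun i j hij => by
        ext x
        have h0 : F.d i j = 0 := F.shape i j hij
        show (F.d i j).hom x.1 = 0
        rw [h0]
        rfl
      d_comp_d' := fun i j k _ _ => by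
        ext x
        have h0 := ConcreteCategory.congr_hom (F.d_comp_d i j k) x.1
        exact h0 }
  let ι : G ⟶ F :=
    { f := fun n => ModuleCat.ofHom (P n).subtype
      comm' := fun i j _ => by
        ext x
        rfl }
  refine ⟨G, ι, ?_, ⟨a, b, ?_⟩, ?_, ?_⟩
  · intro n x y hxy
    exact Subtype.ext hxy
  · intro n hn
    haveI : Subsingleton (P n) := by
      rcases hn with hn | hn
      · have hbot : P n = ⊥ := by
          show Submodule.span R _ = ⊥
          rw [Submodule.span_eq_bot]
          rintro _ ⟨j, rfl⟩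
          exact absurd j.2 (Finset.eq_empty_iff_forall_notMem.mp (P2 n hn) j.1)
        rw [hbot]
        infer_instance
      · haveI : Subsingleton (F.X n) := ModuleCat.subsingleton_of_isZero (hb n hn)
        exact ⟨fun x y => Subtype.ext (Subsingleton.elim _ _)⟩
    exact ModuleCat.isZero_of_subsingleton _
  · intro n
    have li : LinearIndependent R (fun j : S n => Module.Free.chooseBasis R (F.X n) j) :=
      (Module.Free.chooseBasis R (F.X n)).linearIndependent.comp _ Subtype.val_injective
    show Module.Finite R (P n) ∧ Module.Free R (P n)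
    exact ⟨Module.Finite.of_basis (Module.Basis.span li), Module.Free.of_basis (Module.Basis.span li)⟩
  · intro i
    exact ⟨⟨f i, (Q1 _ _).mpr (P1 i)⟩, rfl⟩

end Groth.Agent.S7145
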