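import Groth.Statements.S7146
import Mathlib

set_option autoImplicit false
universe u
open Filter
open CAlg

namespace Groth.Agent.S7146

/-- A submodule spanned by finitely many elements killed by `I` has length at most
`card * length (R/I)`. -/
lemma length_span_le {R : Type*} [CommRing R] (I : Ideal R) {M : Type*} [AddCommGroup M]
    [Module R M] (s : Finset M) (hs : ∀ x ∈ s, ∀ a ∈ I, a • x = 0) :
    Module.length R (Submodule.span R (s : Set M)) ≤ s.card * Module.length R (R ⧸ I) := by
  classical
  induction s using Finset.induction_on with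
  | empty =>
    rw [Finset.coe_empty, Submodule.span_empty, Module.length_bot]
    exact zero_le
  | insert x s hx ih =>
    have ih' := ih (fun y hy => hs y (Finset.mem_insert_of_mem hy))
    rw [Finset.coe_insert, Submodule.span_insert, Finset.card_insert_of_notMem hx]
    have h1 : Module.length R ↥(Submodule.span R {x} ⊔ Submodule.span R (s : Set M)) ≤
        Module.length R (Submodule.span R {x}) +
          Module.length R (Submodule.span R (s : Set M)) := by
      let φ : (↥(Submodule.span R {x}) × ↥(Submodule.span R (s : Set M))) →ₗ[R]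
          ↥(Submodule.span R {x} ⊔ Submodule.span R (s : Set M)) :=
        (Submodule.inclusion le_sup_left).coprod (Submodule.inclusion le_sup_right)
      have hφ : Function.Surjective φ := by
        rintro ⟨z, hz⟩
        obtain ⟨a, ha, b, hb, rfl⟩ := Submodule.mem_sup.mp hz
        exact ⟨(⟨a, ha⟩, ⟨b, hb⟩), Subtype.ext rfl⟩
      have := Module.length_le_of_surjective φ hφ
      rwa [Module.length_prod] at this
    have h2 : Module.length R (Submodule.span R {x}) ≤ Module.length R (R ⧸ I) := by
      have hker : I ≤ LinearMap.ker (LinearMap.toSpanSingleton R M x) := by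
        intro a ha
        rw [LinearMap.mem_ker, LinearMap.toSpanSingleton_apply]
        exact hs x (Finset.mem_insert_self x s) a ha
      let ψ : (R ⧸ I) →ₗ[R] M := Submodule.liftQ I (LinearMap.toSpanSingleton R M x) hker
      have hrange : LinearMap.range ψ = Submodule.span R {x} := by
        rw [Submodule.range_liftQ, LinearMap.range_toSpanSingleton]
      have h3 := Module.length_le_of_surjective ψ.rangeRestrict ψ.surjective_rangeRestrict
      rwa [(LinearEquiv.ofEq _ _ hrange).length_eq] at h3
    calc Module.length R ↥(Submodule.span R {x} ⊔ Submodule.span R (s : Set M))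
        ≤ Module.length R (Submodule.span R {x}) +
          Module.length R (Submodule.span R (s : Set M)) := h1
      _ ≤ Module.length R (R ⧸ I) + s.card * Module.length R (R ⧸ I) := add_le_add h2 ih'
      _ = ((s.card + 1 : ℕ) : ℕ∞) * Module.length R (R ⧸ I) := by
        rw [Nat.cast_add, Nat.cast_one, add_mul, one_mul, add_comm]

lemma pow_sup_succ {R : Type*} [CommRing R] (a : R) (J : Ideal R) (n : ℕ) :
    (Ideal.span {a} ⊔ J) ^ (n + 1) =
      Ideal.span {a} * (Ideal.span {a} ⊔ J) ^ n ⊔ J ^ (n + 1) := by
  induction n with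
  | zero => simp
  | succ n ih =>
    have hJI : J * (Ideal.span {a} ⊔ J) ^ (n + 1) ≤
        Ideal.span {a} * (Ideal.span {a} ⊔ J) ^ (n + 1) ⊔ J ^ (n + 1 + 1) := by
      have h1 : J * (Ideal.span {a} * (Ideal.span {a} ⊔ J) ^ n) ≤
          Ideal.span {a} * (Ideal.span {a} ⊔ J) ^ (n + 1) := by
        rw [mul_left_comm, pow_succ' _ n]
        exact Ideal.mul_mono_right (Ideal.mul_mono_left le_sup_right)
      have h2 : J * J ^ (n + 1) = J ^ (n + 1 + 1) := (pow_succ' J (n + 1)).symm
      calc J * (Ideal.span {a} ⊔ J) ^ (n + 1)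
          = J * (Ideal.span {a} * (Ideal.span {a} ⊔ J) ^ n ⊔ J ^ (n + 1)) := by rw [ih]
        _ = J * (Ideal.span {a} * (Ideal.span {a} ⊔ J) ^ n) ⊔ J * J ^ (n + 1) :=
            Ideal.mul_sup _ _ _
        _ ≤ _ := sup_le (h1.trans le_sup_left) (h2.le.trans le_sup_right)
    apply le_antisymm
    · rw [pow_succ' _ (n + 1), Ideal.sup_mul]
      exact sup_le le_sup_left hJI
    · refine sup_le ?_ (Ideal.pow_right_mono le_sup_right _)
      rw [pow_succ' _ (n + 1)]
      exact Ideal.mul_mono_left le_sup_left

/-- The `n`-th power of an ideal generated by `1 + L` elements is generated by at most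
`choose (n + L) L` elements. -/
lemma exists_gens {R : Type*} [CommRing R] : ∀ (l : List R) (a : R) (n : ℕ),
    ∃ t : Finset R, t.card ≤ Nat.choose (n + l.length) l.length ∧
      Ideal.span (t : Set R) = (Ideal.span {x | x ∈ a :: l}) ^ n := by
  classical
  intro l
  induction l with
  | nil =>
    intro a n
    refine ⟨{a ^ n}, by simp, ?_⟩
    have : {x | x ∈ [a]} = ({a} : Set R) := by ext; simp
    rw [this, Ideal.span_singleton_pow]
    simp
  | cons b l ih =>
    intro a n
    have hI : Ideal.span {x | x ∈ a :: b :: l} =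
        Ideal.span {a} ⊔ Ideal.span {x | x ∈ b :: l} := by
      have : {x | x ∈ a :: b :: l} = ({a} : Set R) ∪ {x | x ∈ b :: l} := by
        ext; simp
      rw [this, Ideal.span_union]
    rw [hI]
    induction n with
    | zero => exact ⟨{1}, by simp, by simp⟩
    | succ n ihn =>
      obtain ⟨t1, ht1c, ht1⟩ := ihn
      obtain ⟨t2, ht2c, ht2⟩ := ih b (n + 1)
      refine ⟨t1.image (a * ·) ∪ t2, ?_, ?_⟩
      · calc (t1.image (a * ·) ∪ t2).card
            ≤ (t1.image (a * ·)).card + t2.card := Finset.card_union_le _ _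
          _ ≤ t1.card + t2.card := Nat.add_le_add_right Finset.card_image_le _
          _ ≤ Nat.choose (n + (b :: l).length) (b :: l).length +
                Nat.choose (n + 1 + l.length) l.length := Nat.add_le_add ht1c ht2c
          _ = Nat.choose (n + 1 + (b :: l).length) (b :: l).length := by
              simp only [List.length_cons]
              rw [show n + 1 + (l.length + 1) = (n + 1 + l.length) + 1 by ring,
                Nat.choose_succ_succ, show n + (l.length + 1) = n + 1 + l.length by ring,
                add_comm]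
      · rw [pow_sup_succ, ← ht1, ← ht2, Finset.coe_union, Ideal.span_union, Finset.coe_image]
        congr 1
        rw [Ideal.span_mul_span', Set.singleton_mul]

lemma length_quot_pow_le {R : Type u} [CommRing R] (l : List R) (a : R) (n : ℕ) :
    Module.length R (R ⧸ (Ideal.span {x | x ∈ a :: l}) ^ n) ≤
      (Nat.choose (n + l.length) (l.length + 1) : ℕ∞) *
        Module.length R (R ⧸ Ideal.span {x | x ∈ a :: l}) := by
  classical
  generalize hI : Ideal.span {x | x ∈ a :: l} = I
  induction n with
  | zero =>
    rw [pow_zero, Ideal.one_eq_top]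
    haveI : Subsingleton (R ⧸ (⊤ : Ideal R)) := Ideal.Quotient.subsingleton_iff.mpr rfl
    rw [Module.length_eq_zero]
    exact zero_le
  | succ n ih =>
    let g : (R ⧸ I ^ (n + 1)) →ₗ[R] (R ⧸ I ^ n) :=
      Submodule.mapQ (I ^ (n + 1)) (I ^ n) LinearMap.id (Ideal.pow_le_pow_right (Nat.le_succ n))
    have hg : Function.Surjective g := by
      intro y
      obtain ⟨r, rfl⟩ := Submodule.mkQ_surjective _ y
      exact ⟨Submodule.Quotient.mk r, rfl⟩
    have hlen := Module.length_eq_add_of_exact (LinearMap.ker g).subtype g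
      (Submodule.subtype_injective _) hg (LinearMap.exact_subtype_ker_map g)
    obtain ⟨t, htc, ht⟩ := exists_gens l a n
    rw [hI] at ht
    let ts : Finset (R ⧸ I ^ (n + 1)) := t.image (Submodule.mkQ (I ^ (n + 1)))
    let T : Submodule R (R ⧸ I ^ (n + 1)) := Submodule.span R (ts : Set (R ⧸ I ^ (n + 1)))
    have hker : LinearMap.ker g ≤ T := by
      intro y hy
      obtain ⟨r, rfl⟩ := Submodule.mkQ_surjective _ y
      have hr : r ∈ I ^ n := by
        have h0 : g (Submodule.Quotient.mk r) = 0 := hy
        exact (Submodule.Quotient.mk_eq_zero _).mp h0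
      rw [← ht] at hr
      have hT : T = Submodule.map (Submodule.mkQ (I ^ (n + 1)))
          (Submodule.span R (t : Set R)) := by
        rw [Submodule.map_span]
        simp only [T, ts, Finset.coe_image]
      rw [hT]
      exact Submodule.mem_map_of_mem hr
    have hkill : ∀ x ∈ ts, ∀ c ∈ I, c • x = 0 := by
      intro x hx c hc
      obtain ⟨r, hr, rfl⟩ := Finset.mem_image.mp hx
      have hrI : r ∈ I ^ n := ht ▸ Ideal.subset_span hr
      rw [← map_smul]
      refine (Submodule.Quotient.mk_eq_zero _).mpr ?_
      rw [pow_succ', smul_eq_mul]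
      exact Ideal.mul_mem_mul hc hrI
    have h1 : Module.length R T ≤ ts.card * Module.length R (R ⧸ I) :=
      length_span_le I ts hkill
    have h2 : Module.length R (LinearMap.ker g) ≤ Module.length R T :=
      Module.length_le_of_injective (R := R) (M := T) (N := LinearMap.ker g)
        (Submodule.inclusion hker) (Submodule.inclusion_injective hker)
    have h3 : (ts.card : ℕ∞) ≤ (Nat.choose (n + l.length) l.length : ℕ∞) := by
      have : ts.card ≤ Nat.choose (n + l.length) l.length := Finset.card_image_le.trans htc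
      exact_mod_cast this
    have h4 : (ts.card : ℕ∞) * Module.length R (R ⧸ I) ≤
        (Nat.choose (n + l.length) l.length : ℕ∞) * Module.length R (R ⧸ I) := by
      gcongr
    rw [hlen]
    calc Module.length R (LinearMap.ker g) + Module.length R (R ⧸ I ^ n)
        ≤ (Nat.choose (n + l.length) l.length : ℕ∞) * Module.length R (R ⧸ I) +
          (Nat.choose (n + l.length) (l.length + 1) : ℕ∞) * Module.length R (R ⧸ I) :=
          add_le_add ((h2.trans h1).trans h4) ih
      _ = (Nat.choose (n + 1 + l.length) (l.length + 1) : ℕ∞) * Module.length R (R ⧸ I) := by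
          rw [← add_mul, ← Nat.cast_add, show n + 1 + l.length = (n + l.length) + 1 by ring,
            Nat.choose_succ_succ]


/-- Let R be a Noetherian local ring of Krull dimension d and I the ideal generated by a system of
parameters g_1, ..., g_d (d elements of the maximal ideal generating an ideal with radical the
maximal ideal); let e_I be the multiplicity of I, i.e. d! times the top coefficient of the numerical
polynomial n ↦ length(R/I^(n+1)), equivalently the limit of d!·length(R/Iⁿ)/n^d. Then e_I ≤
length(R/I). (Stated for a natural number e equal to that limit.) -/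
theorem result (R : Type u) [CommRing R] [IsNoetherianRing R] [IsLocalRing R]
    (d : ℕ) (hd : ringKrullDim R = d) (g : Fin d → R) (hg : ∀ i, g i ∈ IsLocalRing.maximalIdeal R)
    (hsop : IsLocalRing.maximalIdeal R ≤ (Ideal.span (Set.range g)).radical) (e : ℕ)
    (he : Tendsto (fun n : ℕ => (d.factorial : ℝ) * ((Module.length R (R ⧸ Ideal.span (Set.range g) ^ n)).toNat : ℝ) / (n : ℝ) ^ d)
      atTop (nhds (e : ℝ))) :
    (e : ℕ∞) ≤ Module.length R (R ⧸ Ideal.span (Set.range g)) := by
  classical
  generalize hI : Ideal.span (Set.range g) = I at he ⊢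
  by_cases htop : Module.length R (R ⧸ I) = ⊤
  · rw [htop]
    exact le_top
  obtain ⟨ℓ₀, hℓ₀⟩ := ENat.ne_top_iff_exists.mp htop
  rcases Nat.eq_zero_or_pos d with rfl | hdpos
  · have hI0 : I = ⊥ := by
      rw [← hI]
      simp
    have hev : ∀ n : ℕ, 1 ≤ n → (ℓ₀ : ℝ) = ((0 : ℕ).factorial : ℝ) *
        ((Module.length R (R ⧸ I ^ n)).toNat : ℝ) / (n : ℝ) ^ 0 := by
      intro n hn
      have hpow : I ^ n = I := by
        rw [hI0]
        exact Ideal.bot_pow (by omega)
      rw [hpow, ← hℓ₀]
      simp
    have hconst : Tendsto (fun n : ℕ => ((0 : ℕ).factorial : ℝ) *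
        ((Module.length R (R ⧸ I ^ n)).toNat : ℝ) / (n : ℝ) ^ 0) atTop (nhds (ℓ₀ : ℝ)) :=
      tendsto_const_nhds.congr' (eventually_atTop.mpr ⟨1, hev⟩)
    have he' : (e : ℝ) = ℓ₀ := tendsto_nhds_unique he hconst
    have he'' : e = ℓ₀ := by exact_mod_cast he'
    rw [he'', hℓ₀]
  · obtain ⟨d', rfl⟩ : ∃ d', d = d' + 1 := ⟨d - 1, by omega⟩
    have hlist : Set.range g = {x | x ∈ g 0 :: List.ofFn (fun i : Fin d' => g i.succ)} := by
      ext x
      constructor
      · rintro ⟨y, rfl⟩
        refine Fin.cases ?_ (fun i => ?_) y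
        · exact List.mem_cons_self
        · exact List.mem_cons_of_mem _ (by simp)
      · intro hx
        rcases List.mem_cons.mp hx with rfl | hx
        · exact ⟨0, rfl⟩
        · rw [List.mem_ofFn] at hx
          obtain ⟨i, rfl⟩ := hx
          exact ⟨i.succ, rfl⟩
    have hbound : ∀ n, Module.length R (R ⧸ I ^ n) ≤
        (Nat.choose (n + d') (d' + 1) : ℕ∞) * Module.length R (R ⧸ I) := by
      intro n
      have := length_quot_pow_le (List.ofFn (fun i : Fin d' => g i.succ)) (g 0) n
      rw [List.length_ofFn, ← hlist, hI] at this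
      exact this
    have hle : ∀ n : ℕ, 1 ≤ n → ((d' + 1).factorial : ℝ) *
        ((Module.length R (R ⧸ I ^ n)).toNat : ℝ) / (n : ℝ) ^ (d' + 1) ≤
          (ℓ₀ : ℝ) * (1 + (d' : ℝ) / n) ^ (d' + 1) := by
      intro n hn
      have h1 : (Module.length R (R ⧸ I ^ n)).toNat ≤ Nat.choose (n + d') (d' + 1) * ℓ₀ := by
        have := hbound n
        rw [← hℓ₀, ← Nat.cast_mul] at this
        exact ENat.toNat_le_of_le_natCast this
      have h2 : (d' + 1).factorial * Nat.choose (n + d') (d' + 1) ≤ (n + d') ^ (d' + 1) := by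
        rw [← Nat.descFactorial_eq_factorial_mul_choose]
        exact Nat.descFactorial_le_pow _ _
      have hnpos : (0 : ℝ) < n := by exact_mod_cast hn
      rw [div_le_iff₀ (pow_pos hnpos _)]
      have h3 : (ℓ₀ : ℝ) * (1 + (d' : ℝ) / n) ^ (d' + 1) * (n : ℝ) ^ (d' + 1) =
          ℓ₀ * ((n : ℝ) + d') ^ (d' + 1) := by
        rw [mul_assoc, ← mul_pow]
        congr 2
        field_simp
      rw [h3]
      have h1' : ((Module.length R (R ⧸ I ^ n)).toNat : ℝ) ≤
          ((Nat.choose (n + d') (d' + 1) * ℓ₀ : ℕ) : ℝ) := by exact_mod_cast h1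
      have h2' : (((d' + 1).factorial * Nat.choose (n + d') (d' + 1) : ℕ) : ℝ) ≤
          (((n + d') ^ (d' + 1) : ℕ) : ℝ) := by exact_mod_cast h2
      calc ((d' + 1).factorial : ℝ) * ((Module.length R (R ⧸ I ^ n)).toNat : ℝ)
          ≤ ((d' + 1).factorial : ℝ) * ((Nat.choose (n + d') (d' + 1) * ℓ₀ : ℕ) : ℝ) :=
            mul_le_mul_of_nonneg_left h1' (Nat.cast_nonneg _)
        _ = (ℓ₀ : ℝ) * (((d' + 1).factorial * Nat.choose (n + d') (d' + 1) : ℕ) : ℝ) := by
            push_cast
            ring
        _ ≤ (ℓ₀ : ℝ) * (((n + d') ^ (d' + 1) : ℕ) : ℝ) :=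
            mul_le_mul_of_nonneg_left h2' (Nat.cast_nonneg _)
        _ = ℓ₀ * ((n : ℝ) + d') ^ (d' + 1) := by
            push_cast
            ring
    have hlim : Tendsto (fun n : ℕ => (ℓ₀ : ℝ) * (1 + (d' : ℝ) / n) ^ (d' + 1)) atTop
        (nhds ((ℓ₀ : ℝ) * (1 + 0) ^ (d' + 1))) :=
      (((tendsto_const_div_atTop_nhds_zero_nat (d' : ℝ)).const_add 1).pow (d' + 1)).const_mul _
    have hfin := le_of_tendsto_of_tendsto he hlim
      (eventually_atTop.mpr ⟨1, fun n hn => hle n hn⟩)
    have hreal : (e : ℝ) ≤ ℓ₀ := by simpa using hfin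
    have hnat : e ≤ ℓ₀ := by exact_mod_cast hreal
    rw [← hℓ₀]
    exact_mod_cast hnat

end Groth.Agent.S7146
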