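import Groth.Statements.S7147
import Mathlib.Algebra.Module.FinitePresentation
import Mathlib.RingTheory.Localization.Module
import Mathlib.LinearAlgebra.Dual.Lemmas
import Mathlib.LinearAlgebra.Matrix.NonsingularInverse
import Mathlib.LinearAlgebra.Matrix.ToLin
import Mathlib.RingTheory.Ideal.Quotient.Basic
import Mathlib.Algebra.Module.Torsion.Basic
import Mathlib.RingTheory.Localization.Away.Basic

set_option autoImplicit false
universe u
open CAlg

namespace Groth.Agent.S7147

section aux

variable {R : Type u} [CommRing R] {M : Type u} [AddCommGroup M] [Module R M]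
  (x : Ideal R)

/-- elements of `Bx` come from elements on which every linear form takes values in `x`. -/
lemma mem_Bx_imp (m : M)
    (hm : (x • ⊤ : Submodule R M).mkQ m ∈
      Submodule.span (R ⧸ x) ((x • ⊤ : Submodule R M).mkQ '' {m : M | ∀ φ : M →ₗ[R] R, φ m ∈ x})) :
    ∀ φ : M →ₗ[R] R, φ m ∈ x := by
  -- every element of the span is the class of an element of the set
  have key : ∀ v ∈ Submodule.span (R ⧸ x)
      ((x • ⊤ : Submodule R M).mkQ '' {m : M | ∀ φ : M →ₗ[R] R, φ m ∈ x}),
      ∃ b : M, (∀ φ : M →ₗ[R] R, φ b ∈ x) ∧ (x • ⊤ : Submodule R M).mkQ b = v := by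
    intro v hv
    induction hv using Submodule.span_induction with
    | mem v hv =>
      obtain ⟨b, hb, rfl⟩ := hv
      exact ⟨b, hb, rfl⟩
    | zero => exact ⟨0, fun φ => by rw [map_zero]; exact zero_mem _, map_zero _⟩
    | add v w _ _ hv hw =>
      obtain ⟨b, hb, rfl⟩ := hv
      obtain ⟨c, hc, rfl⟩ := hw
      exact ⟨b + c, fun φ => by rw [map_add]; exact add_mem (hb φ) (hc φ), map_add _ _ _⟩
    | smul c v _ hv =>
      obtain ⟨b, hb, rfl⟩ := hv
      obtain ⟨a, rfl⟩ := Ideal.Quotient.mk_surjective c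
      exact ⟨a • b, fun φ => by rw [map_smul]; exact Ideal.mul_mem_left _ _ (hb φ), rfl⟩
  obtain ⟨b, hb, hbm⟩ := key _ hm
  intro φ
  have hsub : m - b ∈ (x • ⊤ : Submodule R M) := by
    rw [← Submodule.Quotient.mk_eq_zero, Submodule.Quotient.mk_sub]
    change (x • ⊤ : Submodule R M).mkQ m - (x • ⊤ : Submodule R M).mkQ b = 0
    rw [hbm, sub_self]
  have hφsub : φ (m - b) ∈ x := by
    have hle : (x • ⊤ : Submodule R M) ≤ Submodule.comap φ x := by
      rw [Submodule.smul_le]
      intro a ha n _
      rw [Submodule.mem_comap, map_smul]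
      exact Ideal.mul_mem_right _ _ ha
    exact hle hsub
  have : φ m = φ b + φ (m - b) := by rw [← map_add]; congr 1; abel
  rw [this]
  exact add_mem (hb φ) hφsub

/-- direction (1) ⇒ (2) -/
lemma dir1 [Module.FinitePresentation R M] [x.IsMaximal] (r : ℕ) (s : Fin r → M)
    (f : R) (hf : f ∉ x)
    (g : LocalizedModule (Submonoid.powers f) M →ₗ[Localization.Away f]
      (Fin r → Localization.Away f))
    (hg : g ∘ₗ Fintype.linearCombination (Localization.Away f)
        (fun i => LocalizedModule.mkLinearMap (Submonoid.powers f) M (s i)) = LinearMap.id) :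
    LinearIndependent (R ⧸ x) (fun i =>
      (Submodule.span (R ⧸ x) ((x • ⊤ : Submodule R M).mkQ ''
        {m : M | ∀ φ : M →ₗ[R] R, φ m ∈ x})).mkQ ((x • ⊤ : Submodule R M).mkQ (s i))) := by
  classical
  letI := Ideal.Quotient.field x
  -- the residue map on R_f
  have hfu : IsUnit (Ideal.Quotient.mk x f) := by
    rw [isUnit_iff_ne_zero, Ne, Ideal.Quotient.eq_zero_iff_mem]; exact hf
  let ρ : Localization.Away f →+* R ⧸ x := IsLocalization.Away.lift f hfu
  have hρ : ∀ a : R, ρ (algebraMap R (Localization.Away f) a) = Ideal.Quotient.mk x a :=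
    fun a => IsLocalization.Away.lift_eq f hfu a
  -- coordinates of g
  have hgs : ∀ i j, g (LocalizedModule.mkLinearMap (Submonoid.powers f) M (s i)) j =
      if j = i then 1 else 0 := by
    intro i j
    have := LinearMap.congr_fun hg (Pi.single i 1)
    rw [LinearMap.comp_apply, Fintype.linearCombination_apply_single, one_smul,
      LinearMap.id_apply] at this
    rw [this, Pi.single_apply]
  -- lift the coordinates to linear forms on M
  have hlift : ∀ j : Fin r, ∃ (φ : M →ₗ[R] R) (t : R), t ∉ x ∧ ∀ i,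
      Ideal.Quotient.mk x (φ (s i)) = Ideal.Quotient.mk x t * (if j = i then 1 else 0) := by
    intro j
    let gj : M →ₗ[R] Localization.Away f :=
      ((LinearMap.proj j : (Fin r → Localization.Away f) →ₗ[Localization.Away f]
        Localization.Away f).restrictScalars R) ∘ₗ (g.restrictScalars R) ∘ₗ
        LocalizedModule.mkLinearMap (Submonoid.powers f) M
    obtain ⟨φ, t, hφ⟩ := Module.FinitePresentation.exists_lift_of_isLocalizedModule
      (Submonoid.powers f) (Algebra.linearMap R (Localization.Away f)) gj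
    refine ⟨φ, t.1, ?_, fun i => ?_⟩
    · obtain ⟨n, hn⟩ := t.2
      rw [← hn]
      exact fun h => hf (Ideal.IsPrime.mem_of_pow_mem inferInstance n h)
    · have h1 := LinearMap.congr_fun hφ (s i)
      rw [LinearMap.comp_apply, Algebra.linearMap_apply, LinearMap.smul_apply] at h1
      have h2 : gj (s i) = if j = i then 1 else 0 := hgs i j
      rw [h2, Submonoid.smul_def, Algebra.smul_def] at h1
      have h3 := congrArg ρ h1
      rw [hρ, map_mul, hρ] at h3
      rw [h3]
      split_ifs <;> simp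
  choose φ t ht hφt using hlift
  rw [Fintype.linearIndependent_iff]
  intro c hc j
  -- lift coefficients
  choose a ha using fun i => Ideal.Quotient.mk_surjective (c i)
  have hsum : (Submodule.span (R ⧸ x) ((x • ⊤ : Submodule R M).mkQ ''
        {m : M | ∀ φ : M →ₗ[R] R, φ m ∈ x})).mkQ
        ((x • ⊤ : Submodule R M).mkQ (∑ i, a i • s i)) = 0 := by
    rw [← hc, map_sum, map_sum]
    refine Finset.sum_congr rfl fun i _ => ?_
    rw [← ha i]
    rfl
  rw [Submodule.mkQ_apply, Submodule.Quotient.mk_eq_zero] at hsum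
  have hmem := mem_Bx_imp x _ hsum (φ j)
  rw [map_sum] at hmem
  have h4 : Ideal.Quotient.mk x (∑ i, φ j (a i • s i)) = c j * Ideal.Quotient.mk x (t j) := by
    rw [map_sum]
    have : ∀ i ∈ Finset.univ, Ideal.Quotient.mk x (φ j (a i • s i)) =
        if i = j then c j * Ideal.Quotient.mk x (t j) else 0 := by
      intro i _
      rw [map_smul, smul_eq_mul, map_mul, ha i, hφt j i]
      by_cases hij : i = j
      · subst hij; simp
      · rw [if_neg (Ne.symm hij), if_neg hij, mul_zero, mul_zero]
    rw [Finset.sum_congr rfl this, Finset.sum_ite_eq' Finset.univ j, if_pos (Finset.mem_univ j)]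
  rw [Ideal.Quotient.eq_zero_iff_mem.2 hmem] at h4
  have htj : Ideal.Quotient.mk x (t j) ≠ 0 := by
    rw [Ne, Ideal.Quotient.eq_zero_iff_mem]; exact ht j
  exact (mul_eq_zero.1 h4.symm).resolve_right htj

/-- the functional on `M/xM` induced by a linear form on `M`. -/
noncomputable def tilde (Φ : M →ₗ[R] R) :
    (M ⧸ (x • ⊤ : Submodule R M)) →ₗ[R ⧸ x] (R ⧸ x) :=
  LinearMap.extendScalarsOfSurjective Ideal.Quotient.mk_surjective
    (Submodule.liftQ (x • ⊤ : Submodule R M) ((Ideal.Quotient.mkₐ R x).toLinearMap ∘ₗ Φ) (by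
      rw [Submodule.smul_le]
      intro a ha n _
      rw [LinearMap.mem_ker, LinearMap.comp_apply, map_smul, smul_eq_mul]
      change Ideal.Quotient.mk x (a * Φ n) = 0
      rw [Ideal.Quotient.eq_zero_iff_mem]
      exact Ideal.mul_mem_right _ _ ha))

lemma tilde_mk (Φ : M →ₗ[R] R) (m : M) :
    tilde x Φ ((x • ⊤ : Submodule R M).mkQ m) = Ideal.Quotient.mk x (Φ m) := rfl

lemma tilde_add (Φ Ψ : M →ₗ[R] R) : tilde x (Φ + Ψ) = tilde x Φ + tilde x Ψ := by
  refine LinearMap.ext fun v => ?_
  obtain ⟨m, rfl⟩ := (x • ⊤ : Submodule R M).mkQ_surjective v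
  rw [LinearMap.add_apply, tilde_mk, tilde_mk, tilde_mk, LinearMap.add_apply, map_add]

lemma tilde_smul (a : R) (Φ : M →ₗ[R] R) :
    tilde x (a • Φ) = Ideal.Quotient.mk x a • tilde x Φ := by
  refine LinearMap.ext fun v => ?_
  obtain ⟨m, rfl⟩ := (x • ⊤ : Submodule R M).mkQ_surjective v
  rw [LinearMap.smul_apply, tilde_mk, tilde_mk, LinearMap.smul_apply, smul_eq_mul, map_mul,
    smul_eq_mul]

lemma tilde_zero : tilde x (0 : M →ₗ[R] R) = 0 := by
  refine LinearMap.ext fun v => ?_
  obtain ⟨m, rfl⟩ := (x • ⊤ : Submodule R M).mkQ_surjective v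
  rw [tilde_mk, LinearMap.zero_apply, LinearMap.zero_apply, map_zero]

/-- existence of linear forms dual to the `s i` modulo `x`. -/
lemma exists_forms [Module.Finite R M] [x.IsMaximal] (r : ℕ) (s : Fin r → M)
    (hli : LinearIndependent (R ⧸ x) (fun i =>
      (Submodule.span (R ⧸ x) ((x • ⊤ : Submodule R M).mkQ ''
        {m : M | ∀ φ : M →ₗ[R] R, φ m ∈ x})).mkQ ((x • ⊤ : Submodule R M).mkQ (s i)))) :
    ∃ Φ : Fin r → (M →ₗ[R] R), ∀ j i,
      Ideal.Quotient.mk x (Φ j (s i)) = if j = i then 1 else 0 := by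
  classical
  letI := Ideal.Quotient.field x
  set Bx : Submodule (R ⧸ x) (M ⧸ (x • ⊤ : Submodule R M)) :=
    Submodule.span (R ⧸ x) ((x • ⊤ : Submodule R M).mkQ ''
        {m : M | ∀ φ : M →ₗ[R] R, φ m ∈ x}) with hBx
  haveI : Module.Finite (R ⧸ x) (M ⧸ (x • ⊤ : Submodule R M)) :=
    Module.Finite.of_restrictScalars_finite R _ _
  let W : Subspace (R ⧸ x) (Module.Dual (R ⧸ x) (M ⧸ (x • ⊤ : Submodule R M))) :=
    Submodule.span (R ⧸ x) (Set.range (tilde x))
  have hWco : W.dualCoannihilator ≤ Bx := by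
    intro v hv
    obtain ⟨m, rfl⟩ := (x • ⊤ : Submodule R M).mkQ_surjective v
    rw [Submodule.mem_dualCoannihilator] at hv
    refine Submodule.subset_span ⟨m, fun φ => ?_, rfl⟩
    have := hv (tilde x φ) (Submodule.subset_span ⟨φ, rfl⟩)
    rw [tilde_mk] at this
    exact Ideal.Quotient.eq_zero_iff_mem.1 this
  have hWall : ∀ ψ ∈ W, ∃ Φ : M →ₗ[R] R, tilde x Φ = ψ := by
    intro ψ hψ
    induction hψ using Submodule.span_induction with
    | mem ψ hψ => obtain ⟨Φ, rfl⟩ := hψ; exact ⟨Φ, rfl⟩
    | zero => exact ⟨0, tilde_zero x⟩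
    | add ψ₁ ψ₂ _ _ h₁ h₂ =>
      obtain ⟨Φ₁, rfl⟩ := h₁
      obtain ⟨Φ₂, rfl⟩ := h₂
      exact ⟨Φ₁ + Φ₂, tilde_add x _ _⟩
    | smul c ψ _ h =>
      obtain ⟨Φ, rfl⟩ := h
      obtain ⟨a, rfl⟩ := Ideal.Quotient.mk_surjective c
      exact ⟨a • Φ, tilde_smul x _ _⟩
  -- dual functionals on the quotient
  let T : (Fin r → R ⧸ x) →ₗ[R ⧸ x] ((M ⧸ (x • ⊤ : Submodule R M)) ⧸ Bx) :=
    Fintype.linearCombination (R ⧸ x)
      (fun i => Bx.mkQ ((x • ⊤ : Submodule R M).mkQ (s i)))
  have hT : Function.Injective T := hli.fintypeLinearCombination_injective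
  have hdual := LinearMap.dualMap_surjective_of_injective hT
  have hex : ∀ j : Fin r, ∃ Φ : M →ₗ[R] R, ∀ i,
      Ideal.Quotient.mk x (Φ (s i)) = if j = i then 1 else 0 := by
    intro j
    obtain ⟨ψ', hψ'⟩ := hdual (LinearMap.proj j)
    let ψ : Module.Dual (R ⧸ x) (M ⧸ (x • ⊤ : Submodule R M)) := ψ' ∘ₗ Bx.mkQ
    have hψW : ψ ∈ W := by
      rw [← Subspace.dualCoannihilator_dualAnnihilator_eq (W := W),
        Submodule.mem_dualAnnihilator]
      intro v hv
      have hvB : v ∈ Bx := hWco hv
      change ψ' (Bx.mkQ v) = 0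
      rw [Submodule.mkQ_apply, (Submodule.Quotient.mk_eq_zero Bx).2 hvB, map_zero]
    obtain ⟨Φ, hΦ⟩ := hWall ψ hψW
    refine ⟨Φ, fun i => ?_⟩
    rw [← tilde_mk, hΦ]
    change ψ' (Bx.mkQ ((x • ⊤ : Submodule R M).mkQ (s i))) = _
    have h1 : T (Pi.single i 1) = Bx.mkQ ((x • ⊤ : Submodule R M).mkQ (s i)) := by
      rw [Fintype.linearCombination_apply_single, one_smul]
    rw [← h1]
    have h2 := LinearMap.congr_fun hψ' (Pi.single i 1)
    rw [LinearMap.dualMap_apply] at h2
    rw [h2, LinearMap.proj_apply, Pi.single_apply]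
  choose Φ hΦ using hex
  exact ⟨Φ, hΦ⟩

lemma dir2 [x.IsMaximal] (r : ℕ) (s : Fin r → M) (Φ : Fin r → (M →ₗ[R] R))
    (hΦ : ∀ j i, Ideal.Quotient.mk x (Φ j (s i)) = if j = i then 1 else 0) :
    ∃ f : R, f ∉ x ∧
      ∃ g : LocalizedModule (Submonoid.powers f) M →ₗ[Localization.Away f]
          (Fin r → Localization.Away f),
        g ∘ₗ Fintype.linearCombination (Localization.Away f)
            (fun i => LocalizedModule.mkLinearMap (Submonoid.powers f) M (s i)) =
          LinearMap.id := by
  classical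
  let A : Matrix (Fin r) (Fin r) R := Matrix.of fun j i => Φ j (s i)
  have hA1 : (Ideal.Quotient.mk x).mapMatrix A = 1 := by
    ext j i
    rw [RingHom.mapMatrix_apply, Matrix.map_apply, Matrix.one_apply]
    exact hΦ j i
  obtain ⟨f, hf⟩ : ∃ f, f = A.det := ⟨_, rfl⟩
  have hfx : f ∉ x := by
    intro h
    have h0 : Ideal.Quotient.mk x A.det = 0 := Ideal.Quotient.eq_zero_iff_mem.2 (hf ▸ h)
    rw [RingHom.map_det, hA1, Matrix.det_one] at h0
    exact one_ne_zero h0
  refine ⟨f, hfx, ?_⟩
  · let Af : Matrix (Fin r) (Fin r) (Localization.Away f) :=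
      (algebraMap R (Localization.Away f)).mapMatrix A
    have hdet : IsUnit Af.det := by
      have : Af.det = algebraMap R (Localization.Away f) f := by
        calc Af.det = algebraMap R (Localization.Away f) A.det := (RingHom.map_det _ _).symm
          _ = algebraMap R (Localization.Away f) f := by rw [← hf]
      rw [this]
      exact IsLocalization.Away.algebraMap_isUnit f
    let G : LocalizedModule (Submonoid.powers f) M →ₗ[Localization.Away f]
        (Fin r → Localization.Away f) :=
      LinearMap.pi fun j => IsLocalizedModule.mapExtendScalars (Submonoid.powers f)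
        (LocalizedModule.mkLinearMap (Submonoid.powers f) M)
        (Algebra.linearMap R (Localization.Away f)) (Localization.Away f) (Φ j)
    have hG : ∀ i, G (LocalizedModule.mkLinearMap (Submonoid.powers f) M (s i)) =
        Af.mulVec (Pi.single i 1) := by
      intro i
      ext j
      rw [Matrix.mulVec_single_one]
      change IsLocalizedModule.mapExtendScalars (Submonoid.powers f)
        (LocalizedModule.mkLinearMap (Submonoid.powers f) M)
        (Algebra.linearMap R (Localization.Away f)) (Localization.Away f) (Φ j)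
        (LocalizedModule.mkLinearMap (Submonoid.powers f) M (s i)) = _
      rw [IsLocalizedModule.mapExtendScalars_apply_apply, IsLocalizedModule.map_apply]
      rfl
    refine ⟨(Matrix.toLin' Af⁻¹) ∘ₗ G, ?_⟩
    refine LinearMap.pi_ext fun i c => ?_
    rw [LinearMap.comp_apply, LinearMap.comp_apply, Fintype.linearCombination_apply_single,
      map_smul, hG, map_smul, Matrix.toLin'_apply, Matrix.mulVec_mulVec,
      Matrix.nonsing_inv_mul _ hdet, Matrix.one_mulVec, LinearMap.id_apply]
    ext k
    simp [Pi.single_apply]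

end aux


/-- Let R be a ring, M a finitely presented R-module and x a maximal ideal of R with residue field κ(x);
write M(x) = M/xM and let B(x) ⊆ M(x) be the orthogonal of the image of Hom_R(M, R) in the dual of
M(x), i.e. the classes of those m in M with φ(m) in x for every linear form φ on M, and V(x) =
M(x)/B(x). For s_1, ..., s_r in M the following are equivalent: (1) there is f in R, f not in x,
such that the map R_f^r → M_f given by the s_i is the inclusion of a direct summand; (2) the images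
of s_1, ..., s_r in V(x) are linearly independent over κ(x). -/
theorem result (R : Type u) [CommRing R] (M : Type u)
    [AddCommGroup M] [Module R M] [Module.FinitePresentation R M] (x : Ideal R) [x.IsMaximal]
    (r : ℕ) (s : Fin r → M) :
    let Mx := M ⧸ (x • ⊤ : Submodule R M)
    let Bx : Submodule (R ⧸ x) Mx :=
      Submodule.span (R ⧸ x) ((x • ⊤ : Submodule R M).mkQ '' {m : M | ∀ φ : M →ₗ[R] R, φ m ∈ x})
    (∃ f : R, f ∉ x ∧
      ∃ g : LocalizedModule (Submonoid.powers f) M →ₗ[Localization.Away f] (Fin r → Localization.Away f),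
        g ∘ₗ Fintype.linearCombination (Localization.Away f)
            (fun i => LocalizedModule.mkLinearMap (Submonoid.powers f) M (s i)) = LinearMap.id) ↔
    LinearIndependent (R ⧸ x) (fun i => Bx.mkQ ((x • ⊤ : Submodule R M).mkQ (s i))) := by
  intro Mx Bx
  constructor
  · rintro ⟨f, hf, g, hg⟩
    exact dir1 x r s f hf g hg
  · intro hli
    obtain ⟨Φ, hΦ⟩ := exists_forms x r s hli
    exact dir2 x r s Φ hΦ

end Groth.Agent.S7147
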