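import Groth.Statements.S7157
import Mathlib
import Groth.Agent.S1987

set_option autoImplicit false
universe u
open EtAlg

namespace Groth.Agent.S7157

open Polynomial IntermediateField
open Groth.Agent.S1987 (decomp V0 val_lt_one_iff)

section abstractPart

variable {A : Type*} [CommRing A] [IsLocalRing A] {B : Type*} [CommRing B] [Algebra A B]

lemma span_max' (π : A) (hπ : IsLocalRing.maximalIdeal A = Ideal.span {π}) (x : B)
    (hπx : algebraMap A B π ∈ Ideal.span {x}) (hgen : ∀ b : B, ∃ p : A[X], b = aeval x p)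
    (hnu : ¬ IsUnit x) : (Ideal.span {x} : Ideal B).IsMaximal := by
  rw [Ideal.isMaximal_iff]
  refine ⟨fun h1 => hnu ?_, fun J b hJ hb hbJ => ?_⟩
  · rw [Ideal.mem_span_singleton'] at h1
    obtain ⟨a, ha⟩ := h1
    exact IsUnit.of_mul_eq_one a (by rw [mul_comm]; exact ha)
  · obtain ⟨a, c, rfl⟩ := decomp x hgen b
    have hxJ : x ∈ J := hJ (Ideal.mem_span_singleton_self x)
    have ha : IsUnit a := by
      by_contra hna
      have hmem : a ∈ IsLocalRing.maximalIdeal A := (IsLocalRing.mem_maximalIdeal a).2 hna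
      rw [hπ, Ideal.mem_span_singleton'] at hmem
      obtain ⟨a', rfl⟩ := hmem
      apply hb
      rw [map_mul]
      exact Ideal.add_mem _ (Ideal.mul_mem_left _ _ hπx)
        (Ideal.mul_mem_right _ _ (Ideal.mem_span_singleton_self x))
    have h2 : algebraMap A B a ∈ J := by
      have := J.sub_mem hbJ (J.mul_mem_right c hxJ)
      simpa using this
    have h3 : IsUnit (algebraMap A B a) := ha.map _
    exact (J.eq_top_iff_one).1 (Ideal.eq_top_of_isUnit_mem J h2 h3)

lemma unique_max' [Algebra.IsIntegral A B] (π : A)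
    (hπ : IsLocalRing.maximalIdeal A = Ideal.span {π}) (x : B) (N : ℕ) (c : B)
    (hxN : x ^ N = algebraMap A B π * c) (hmax : (Ideal.span {x} : Ideal B).IsMaximal)
    (M : Ideal B) (hM : M.IsMaximal) : M = Ideal.span {x} := by
  have h1 : (M.comap (algebraMap A B)).IsMaximal :=
    Ideal.isMaximal_comap_of_isIntegral_of_isMaximal M
  have h2 : M.comap (algebraMap A B) = IsLocalRing.maximalIdeal A := IsLocalRing.eq_maximalIdeal h1
  have h3 : π ∈ M.comap (algebraMap A B) := by
    rw [h2, hπ]; exact Ideal.mem_span_singleton_self π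
  have h4 : x ^ N ∈ M := by rw [hxN]; exact M.mul_mem_right _ h3
  have h5 : x ∈ M := hM.isPrime.mem_of_pow_mem N h4
  exact (hmax.eq_of_le hM.ne_top ((Ideal.span_singleton_le_iff_mem _).2 h5)).symm

theorem dvr' [IsDomain B] [IsNoetherianRing B] [Algebra.IsIntegral A B] (π : A)
    (hπ : IsLocalRing.maximalIdeal A = Ideal.span {π}) (x : B) (N : ℕ) (c : B)
    (hxN : x ^ N = algebraMap A B π * c) (hπx : algebraMap A B π ∈ Ideal.span {x})
    (hgen : ∀ b : B, ∃ p : A[X], b = aeval x p)
    (hnu : ¬ IsUnit x) (hx0 : x ≠ 0) : IsDiscreteValuationRing B := by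
  have hmax := span_max' π hπ x hπx hgen hnu
  haveI : IsLocalRing B := IsLocalRing.of_unique_max_ideal
    ⟨Ideal.span {x}, hmax, fun M hM => unique_max' π hπ x N c hxN hmax M hM⟩
  have hnf : ¬ IsField B := fun hF => hnu (by
    obtain ⟨b, hb⟩ := hF.mul_inv_cancel hx0
    exact IsUnit.of_mul_eq_one b hb)
  refine ((IsDiscreteValuationRing.TFAE B hnf).out 0 4).2 ?_
  rw [← IsLocalRing.eq_maximalIdeal hmax]
  exact ⟨⟨x, rfl⟩⟩

end abstractPart

theorem totRam' {A : Type u} [CommRing A] [IsLocalRing A] {B : Type u} [CommRing B] [IsDomain B]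
    [IsDiscreteValuationRing B] [Algebra A B] [Algebra.IsIntegral A B]
    (π : A) (hπ : IsLocalRing.maximalIdeal A = Ideal.span {π}) (x : B) (N : ℕ) (hN : N ≠ 0)
    (c : B) (hxN : x ^ N = algebraMap A B π * c) (hπx : algebraMap A B π ∈ Ideal.span {x})
    (hgen : ∀ b : B, ∃ p : A[X], b = aeval x p)
    (hmB : IsLocalRing.maximalIdeal B = Ideal.span {x})
    (K₁ : Type u) [Field K₁] [Algebra B K₁] [IsFractionRing B K₁] :
    EtRam.IsTotallyRamified A ((algebraMap B K₁).comp (algebraMap A B)) := by
  have hinj : Function.Injective (algebraMap B K₁) := IsFractionRing.injective B K₁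
  have hstar : ∀ b : B, b ∈ IsLocalRing.maximalIdeal B → algebraMap B K₁ b ≠ 0 →
      (algebraMap B K₁ b)⁻¹ ∉ V0 B K₁ := by
    rintro b hb hb0 ⟨c, hc⟩
    have h2 : algebraMap B K₁ (b * c) = algebraMap B K₁ 1 := by
      rw [map_mul, hc, map_one, mul_inv_cancel₀ hb0]
    have h1 : b * c = 1 := hinj h2
    exact (IsLocalRing.mem_maximalIdeal b).1 hb (IsUnit.of_mul_eq_one c h1)
  have hmA : ∀ a ∈ IsLocalRing.maximalIdeal A,
      algebraMap A B a ∈ IsLocalRing.maximalIdeal B := by
    intro a ha
    rw [hπ, Ideal.mem_span_singleton'] at ha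
    obtain ⟨a', rfl⟩ := ha
    rw [hmB, map_mul]
    exact Ideal.mul_mem_left _ _ hπx
  have hdom0 : EtRam.Dominates A ((algebraMap B K₁).comp (algebraMap A B)) (V0 B K₁) := by
    refine ⟨fun a => ⟨algebraMap A B a, rfl⟩, fun a ha => ?_⟩
    by_cases h0 : ((algebraMap B K₁).comp (algebraMap A B)) a = 0
    · rw [h0, map_zero]; exact zero_lt_one
    · exact (val_lt_one_iff _ h0).2 (hstar _ (hmA a ha) h0)
  have hleAll : ∀ V : ValuationSubring K₁,
      EtRam.Dominates A ((algebraMap B K₁).comp (algebraMap A B)) V →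
      ∀ b : B, algebraMap B K₁ b ∈ V := by
    intro V hV b
    obtain ⟨P, hPm, hP0⟩ := Algebra.IsIntegral.isIntegral (R := A) b
    have hint : IsIntegral V (algebraMap B K₁ b) := by
      refine ⟨P.map (RingHom.codRestrict ((algebraMap B K₁).comp (algebraMap A B)) V hV.1),
        hPm.map _, ?_⟩
      rw [eval₂_map]
      have hcomp : (algebraMap V K₁).comp
          (RingHom.codRestrict ((algebraMap B K₁).comp (algebraMap A B)) V hV.1) =
          (algebraMap B K₁).comp (algebraMap A B) := by
        ext a; rfl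
      rw [hcomp, ← hom_eval₂, hP0, map_zero]
    obtain ⟨y, hy⟩ := IsIntegrallyClosed.algebraMap_eq_of_integral hint
    rw [← hy]
    exact y.2
  have hxvAll : ∀ V : ValuationSubring K₁,
      EtRam.Dominates A ((algebraMap B K₁).comp (algebraMap A B)) V →
      V.valuation (algebraMap B K₁ x) < 1 := by
    intro V hV
    have h1 : V.valuation (((algebraMap B K₁).comp (algebraMap A B)) π) < 1 :=
      hV.2 π (by rw [hπ]; exact Ideal.mem_span_singleton_self π)
    have h2 : (algebraMap B K₁ x) ^ N =
        ((algebraMap B K₁).comp (algebraMap A B)) π * algebraMap B K₁ c := by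
      rw [← map_pow, hxN, map_mul]; rfl
    have h3 : V.valuation (algebraMap B K₁ x) ^ N < 1 := by
      rw [← map_pow, h2, map_mul]
      exact mul_lt_one_of_nonneg_of_lt_one_left zero_le' h1
        ((V.valuation_le_one_iff _).2 (hleAll V hV c))
    exact (pow_lt_one_iff hN).1 h3
  have huniq : ∀ V : ValuationSubring K₁,
      EtRam.Dominates A ((algebraMap B K₁).comp (algebraMap A B)) V → V = V0 B K₁ := by
    intro V hV
    have hxv := hxvAll V hV
    have hle := hleAll V hV
    apply le_antisymm
    · intro y hy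
      by_contra hy0
      have hyinv : y⁻¹ ∈ V0 B K₁ := ((V0 B K₁).mem_or_inv_mem y).resolve_left hy0
      obtain ⟨b, hb⟩ := hyinv
      have hyne : y ≠ 0 := fun h => hy0 (h ▸ (V0 B K₁).zero_mem)
      have hbnu : b ∈ IsLocalRing.maximalIdeal B := by
        rw [IsLocalRing.mem_maximalIdeal]
        intro hbu
        obtain ⟨u, rfl⟩ := hbu
        apply hy0
        refine ⟨((u⁻¹ : Bˣ) : B), ?_⟩
        have h3 : algebraMap B K₁ ((u⁻¹ : Bˣ) : B) * algebraMap B K₁ (u : B) = 1 := by
          rw [← map_mul, Units.inv_mul, map_one]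
        rw [hb] at h3
        exact (mul_inv_eq_one₀ hyne).1 h3
      rw [hmB, Ideal.mem_span_singleton'] at hbnu
      obtain ⟨c, rfl⟩ := hbnu
      have hlt : V.valuation y⁻¹ < 1 := by
        rw [← hb, map_mul, map_mul, mul_comm]
        exact mul_lt_one_of_nonneg_of_lt_one_left zero_le' hxv
          ((V.valuation_le_one_iff _).2 (hle c))
      have h4 := (val_lt_one_iff V (inv_ne_zero hyne)).1 hlt
      rw [inv_inv] at h4
      exact h4 hy
    · intro y hy
      obtain ⟨b, rfl⟩ := hy
      exact hle b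
  refine ⟨⟨V0 B K₁, hdom0⟩, fun V V' h h' => (huniq V h).trans (huniq V' h').symm,
    fun V hV z => ?_⟩
  obtain ⟨⟨y, hyV⟩, rfl⟩ := IsLocalRing.residue_surjective z
  have hy0 : y ∈ V0 B K₁ := huniq V hV ▸ hyV
  obtain ⟨b, rfl⟩ := hy0
  obtain ⟨a, c, rfl⟩ := decomp x hgen b
  refine ⟨a, ?_⟩
  symm
  show IsLocalRing.residue V ⟨_, hyV⟩ = IsLocalRing.residue V
    (RingHom.codRestrict ((algebraMap B K₁).comp (algebraMap A B)) V hV.1 a)
  rw [← sub_eq_zero, ← map_sub, IsLocalRing.residue_eq_zero_iff,
    ValuationSubring.valuation_lt_one_iff]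
  have h5 : ((⟨algebraMap B K₁ (algebraMap A B a + x * c), hyV⟩ -
      RingHom.codRestrict ((algebraMap B K₁).comp (algebraMap A B)) V hV.1 a : V) : K₁)
      = algebraMap B K₁ x * algebraMap B K₁ c := by
    simp [map_add, map_mul]
  rw [h5, map_mul]
  exact mul_lt_one_of_nonneg_of_lt_one_left zero_le' (hxvAll V hV)
    ((V.valuation_le_one_iff _).2 (hleAll V hV c))

theorem main (A : Type u) [CommRing A] [IsDomain A] [IsDiscreteValuationRing A] (π : A)
    (hπA : IsLocalRing.maximalIdeal A = Ideal.span {π}) (n : ℕ) (hn : 1 < n) (q : ℕ) (hq : 2 ≤ q)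
    (f : A[X]) (hf : f = X ^ q - (C (π ^ n) * X + C π)) :
    f.Monic ∧ f.natDegree = q ∧ Irreducible f ∧
    ∃ (_ : IsDomain (AdjoinRoot f)) (_ : IsDiscreteValuationRing (AdjoinRoot f)),
      Algebra.IsIntegral A (AdjoinRoot f) ∧
      IsUnit (1 + algebraMap A (AdjoinRoot f) (π ^ (n - 1)) * AdjoinRoot.root f) ∧
      (AdjoinRoot.root f) ^ q = algebraMap A (AdjoinRoot f) π *
        (1 + algebraMap A (AdjoinRoot f) (π ^ (n - 1)) * AdjoinRoot.root f) ∧
      ∀ (K₁ : Type u) [Field K₁] [Algebra (AdjoinRoot f) K₁] [IsFractionRing (AdjoinRoot f) K₁],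
        EtRam.IsTotallyRamified A
          ((algebraMap (AdjoinRoot f) K₁).comp (algebraMap A (AdjoinRoot f))) := by
  have hπ : Irreducible π := (IsDiscreteValuationRing.irreducible_iff_uniformizer π).2 hπA
  have hq0 : q ≠ 0 := by omega
  have hmonic : f.Monic := by
    rw [hf]
    apply Polynomial.monic_X_pow_sub
    exact lt_of_le_of_lt Polynomial.degree_linear_le (by exact_mod_cast (by omega : 1 < q))
  have hnat : f.natDegree = q := by
    rw [hf, Polynomial.natDegree_sub_eq_left_of_natDegree_lt, natDegree_X_pow]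
    rw [natDegree_X_pow]
    exact lt_of_le_of_lt Polynomial.natDegree_linear_le (by omega)
  have hdeg : f.degree = q := by rw [degree_eq_natDegree hmonic.ne_zero, hnat]
  have hpowmem : π ^ n ∈ (Ideal.span {π} : Ideal A) :=
    Ideal.pow_mem_of_mem _ (Ideal.mem_span_singleton_self π) n (by omega)
  have hirr : Irreducible f := by
    have hP : (Ideal.span {π} : Ideal A).IsPrime :=
      (Ideal.span_singleton_prime hπ.ne_zero).2 hπ.prime
    refine Polynomial.irreducible_of_eisenstein_criterion hP ?_ ?_ ?_ ?_ hmonic.isPrimitive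
    · rw [hmonic.leadingCoeff]; exact (Ideal.ne_top_iff_one _).1 hP.ne_top
    · intro k hk
      rw [hdeg] at hk
      have hk' : k < q := by exact_mod_cast hk
      rw [hf, coeff_sub, coeff_add, coeff_X_pow, if_neg hk'.ne, coeff_C_mul, coeff_X, coeff_C,
        zero_sub]
      refine neg_mem (add_mem (Ideal.mul_mem_right _ _ hpowmem) ?_)
      split_ifs
      · exact Ideal.mem_span_singleton_self π
      · exact zero_mem _
    · rw [hdeg]; exact_mod_cast Nat.pos_of_ne_zero hq0
    · rw [hf, coeff_sub, coeff_add, coeff_X_pow, if_neg (Ne.symm hq0), coeff_C_mul, coeff_X,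
        coeff_C, if_neg (by norm_num), if_pos rfl, mul_zero, zero_add, zero_sub,
        Ideal.span_singleton_pow, Ideal.mem_span_singleton, dvd_neg]
      intro hdvd
      obtain ⟨c, hc⟩ := hdvd
      have h1 : π * 1 = π * (π * c) := by rw [mul_one]; rw [← mul_assoc, ← pow_two]; exact hc
      have h2 := mul_left_cancel₀ hπ.ne_zero h1
      exact hπ.not_isUnit (IsUnit.of_mul_eq_one c h2.symm)
  have hdom : IsDomain (AdjoinRoot f) := AdjoinRoot.isDomain_of_prime hirr.prime
  haveI := hdom
  haveI : Module.Finite A (AdjoinRoot f) := hmonic.finite_adjoinRoot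
  haveI hint : Algebra.IsIntegral A (AdjoinRoot f) := Algebra.IsIntegral.of_finite A _
  have hrel : (AdjoinRoot.root f) ^ q = algebraMap A (AdjoinRoot f) (π ^ n) * AdjoinRoot.root f +
      algebraMap A (AdjoinRoot f) π := by
    have h1 : AdjoinRoot.mk f (X ^ q - (C (π ^ n) * X + C π)) = 0 := by
      rw [← hf]; exact AdjoinRoot.mk_self
    rw [map_sub, map_pow, map_add, map_mul, AdjoinRoot.mk_X, AdjoinRoot.mk_C, AdjoinRoot.mk_C,
      sub_eq_zero] at h1
    rw [AdjoinRoot.algebraMap_eq]; exact h1
  have hpown : π ^ n = π * π ^ (n - 1) := by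
    rw [← pow_succ']; congr 1; omega
  have hx : (AdjoinRoot.root f) ^ q = algebraMap A (AdjoinRoot f) π *
      (1 + algebraMap A (AdjoinRoot f) (π ^ (n - 1)) * AdjoinRoot.root f) := by
    rw [hrel, hpown, map_mul]; ring
  have hπx : algebraMap A (AdjoinRoot f) π ∈ Ideal.span {AdjoinRoot.root f} := by
    rw [Ideal.mem_span_singleton']
    refine ⟨(AdjoinRoot.root f) ^ (q - 1) - algebraMap A (AdjoinRoot f) (π ^ n), ?_⟩
    have h1 : (AdjoinRoot.root f) ^ (q - 1) * AdjoinRoot.root f = (AdjoinRoot.root f) ^ q := by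
      rw [← pow_succ]; congr 1; omega
    rw [sub_mul, h1, hrel]; ring
  have hgen : ∀ b : AdjoinRoot f, ∃ p : A[X], b = aeval (AdjoinRoot.root f) p := by
    intro b
    obtain ⟨p, rfl⟩ := AdjoinRoot.mk_surjective b
    exact ⟨p, (AdjoinRoot.aeval_eq p).symm⟩
  have hnu : ¬ IsUnit (AdjoinRoot.root f) := by
    intro hu
    have hne : (Ideal.span {π} : Ideal A) ≠ ⊤ := by
      rw [Ne, Ideal.span_singleton_eq_top]; exact hπ.not_isUnit
    haveI : Nontrivial (A ⧸ (Ideal.span {π} : Ideal A)) := Ideal.Quotient.nontrivial_iff.2 hne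
    let ε : AdjoinRoot f →+* A ⧸ (Ideal.span {π} : Ideal A) :=
      AdjoinRoot.lift (Ideal.Quotient.mk _) 0 (by
        rw [hf, eval₂_sub, eval₂_pow, eval₂_X, eval₂_add, eval₂_mul, eval₂_C, eval₂_X, eval₂_C,
          zero_pow hq0, mul_zero, zero_add, zero_sub, neg_eq_zero]
        exact Ideal.Quotient.eq_zero_iff_mem.2 (Ideal.mem_span_singleton_self π))
    have h1 : IsUnit (ε (AdjoinRoot.root f)) := hu.map ε
    rw [AdjoinRoot.lift_root] at h1
    exact not_isUnit_zero h1
  have hinjof : Function.Injective (algebraMap A (AdjoinRoot f)) := by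
    rw [AdjoinRoot.algebraMap_eq]
    exact AdjoinRoot.of.injective_of_degree_ne_zero (by rw [hdeg]; exact_mod_cast hq0)
  have hx0 : AdjoinRoot.root f ≠ 0 := by
    intro h0
    rw [h0, zero_pow hq0, mul_zero, zero_add] at hrel
    exact hπ.ne_zero (hinjof (by rw [← hrel, map_zero]))
  have hdvr : IsDiscreteValuationRing (AdjoinRoot f) :=
    dvr' π hπA _ q _ hx hπx hgen hnu hx0
  haveI := hdvr
  have hmax := span_max' π hπA (AdjoinRoot.root f) hπx hgen hnu
  have hmB : IsLocalRing.maximalIdeal (AdjoinRoot f) = Ideal.span {AdjoinRoot.root f} :=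
    (IsLocalRing.eq_maximalIdeal hmax).symm
  have hunit : IsUnit (1 + algebraMap A (AdjoinRoot f) (π ^ (n - 1)) * AdjoinRoot.root f) := by
    by_contra hnot
    have h1 : 1 + algebraMap A (AdjoinRoot f) (π ^ (n - 1)) * AdjoinRoot.root f ∈
        IsLocalRing.maximalIdeal (AdjoinRoot f) := (IsLocalRing.mem_maximalIdeal _).2 hnot
    have h2 : algebraMap A (AdjoinRoot f) (π ^ (n - 1)) * AdjoinRoot.root f ∈
        IsLocalRing.maximalIdeal (AdjoinRoot f) := by
      rw [hmB]; exact Ideal.mul_mem_left _ _ (Ideal.mem_span_singleton_self _)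
    have h3 : (1 : AdjoinRoot f) ∈ IsLocalRing.maximalIdeal (AdjoinRoot f) := by
      have := Ideal.sub_mem _ h1 h2
      simpa using this
    exact (Ideal.ne_top_iff_one _).1 (IsLocalRing.maximalIdeal.isMaximal _).ne_top h3
  exact ⟨hmonic, hnat, hirr, hdom, hdvr, hint, hunit, hx,
    fun K₁ _ _ _ => totRam' π hπA _ q hq0 _ hx hπx hgen hmB K₁⟩


section fieldPart

variable (A K : Type u) [CommRing A] [IsDomain A] [IsDiscreteValuationRing A] [Field K]
  [Algebra A K] [IsFractionRing A K]
variable (B : Type u) [CommRing B] [IsDomain B] [Algebra A B] [Algebra.IsIntegral A B]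
variable (x : B)

local notation "L" => FractionRing B
local notation "xb" => algebraMap B (FractionRing B) x

theorem field_part (hinjAB : Function.Injective (algebraMap A B))
    (π : A) (n q : ℕ) (hn : 1 < n) (hq : 2 ≤ q) (f : A[X])
    (hf : f = X ^ q - (C (π ^ n) * X + C π)) (hπ0 : π ≠ 0)
    (hmonic : f.Monic) (hnat : f.natDegree = q) (hirr : Irreducible f)
    (hfx : aeval x f = 0) (hgen : ∀ b : B, ∃ p : A[X], b = aeval x p)
    (hunit : IsUnit (1 + algebraMap A B (π ^ (n - 1)) * x))
    (hx : x ^ q = algebraMap A B π * (1 + algebraMap A B (π ^ (n - 1)) * x))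
    (htot : ∀ (K₁ : Type u) [Field K₁] [Algebra B K₁] [IsFractionRing B K₁],
        EtRam.IsTotallyRamified A ((algebraMap B K₁).comp (algebraMap A B))) :
    ∃ (L' : Type u) (_ : Field L') (_ : Algebra K L') (_ : Algebra A L') (_ : IsScalarTower A K L'),
      Module.finrank K L' = q ∧ Algebra.IsSeparable K L' ∧
      EtRam.IsTotallyRamified A (algebraMap A L') ∧
      ∃ πB b b' : L', πB ∈ integralClosure A L' ∧ b ∈ integralClosure A L' ∧
        b' ∈ integralClosure A L' ∧
        πB ^ q = algebraMap A L' π + algebraMap A L' π ^ n * b ∧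
        πB ^ q = algebraMap A L' π + πB ^ (n * q) * b' := by
  have hinjBL : Function.Injective (algebraMap B L) := IsFractionRing.injective B _
  have hinjAL : Function.Injective (algebraMap A L) := by
    rw [IsScalarTower.algebraMap_eq A B L]
    exact hinjBL.comp hinjAB
  letI algKL : Algebra K L := (IsFractionRing.lift hinjAL).toAlgebra
  haveI tow : IsScalarTower A K L := IsScalarTower.of_algebraMap_eq (fun a =>
    (IsFractionRing.lift_algebraMap hinjAL a).symm)
  have hfx' : aeval xb (f.map (algebraMap A K)) = 0 := by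
    rw [aeval_map_algebraMap, aeval_algebraMap_apply, hfx, map_zero]
  have hirrK : Irreducible (f.map (algebraMap A K)) :=
    (Polynomial.Monic.irreducible_iff_irreducible_map_fraction_map hmonic).1 hirr
  have hmin : minpoly K xb = f.map (algebraMap A K) :=
    (minpoly.eq_of_irreducible_of_monic hirrK hfx' (hmonic.map _)).symm
  have hintx : IsIntegral K xb :=
    ⟨f.map (algebraMap A K), hmonic.map _, by rw [← aeval_def]; exact hfx'⟩
  have hB : ∀ b : B, algebraMap B L b ∈ K⟮xb⟯ := by
    intro b
    obtain ⟨P, rfl⟩ := hgen b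
    rw [← aeval_algebraMap_apply, aeval_eq_sum_range]
    refine sum_mem (fun i _ => ?_)
    rw [Algebra.smul_def, IsScalarTower.algebraMap_apply A K L]
    exact mul_mem (IntermediateField.algebraMap_mem _ _)
      (pow_mem (mem_adjoin_simple_self K xb) i)
  have htop : K⟮xb⟯ = ⊤ := by
    rw [eq_top_iff]
    intro y _
    obtain ⟨b₁, b₂, _, rfl⟩ := IsFractionRing.div_surjective (A := B) y
    exact div_mem (hB b₁) (hB b₂)
  have hintL : ∀ b : B, algebraMap B L b ∈ integralClosure A L := fun b =>
    (Algebra.IsIntegral.isIntegral (R := A) b).map (IsScalarTower.toAlgHom A B L)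
  refine ⟨L, inferInstance, algKL, inferInstance, tow, ?_, ?_, ?_, ?_⟩
  · rw [← IntermediateField.finrank_top', ← htop, IntermediateField.adjoin.finrank hintx, hmin,
      hmonic.natDegree_map, hnat]
  · have hsepx : IsSeparable K xb := by
      show (minpoly K xb).Separable
      rw [hmin, Polynomial.separable_iff_derivative_ne_zero hirrK, Polynomial.derivative_map]
      intro h0
      have hder : derivative f = C (q : A) * X ^ (q - 1) - C (π ^ n) := by
        rw [hf]
        simp only [derivative_sub, derivative_X_pow, derivative_add, derivative_C_mul,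
          derivative_X, derivative_C, mul_one, add_zero]
      have h1 : (derivative f).coeff 0 = -(π ^ n) := by
        rw [hder, coeff_sub, coeff_C_mul, coeff_X_pow, coeff_C_zero, if_neg (by omega), mul_zero,
          zero_sub]
      have h2 := congrArg (fun g => g.coeff 0) h0
      simp only [coeff_map, coeff_zero] at h2
      rw [h1, map_neg, neg_eq_zero, map_pow] at h2
      have h3 : algebraMap A K π = 0 := (pow_eq_zero_iff (by omega)).1 h2
      exact hπ0 ((IsFractionRing.injective A K) (by rw [map_zero]; exact h3))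
    haveI : Algebra.IsSeparable K K⟮xb⟯ :=
      (IntermediateField.isSeparable_adjoin_simple_iff_isSeparable K L).2 hsepx
    exact ⟨fun y => IntermediateField.isSeparable_of_mem_isSeparable K L
      (show y ∈ K⟮xb⟯ by rw [htop]; trivial)⟩
  · rw [IsScalarTower.algebraMap_eq A B L]
    exact htot L
  · obtain ⟨w, hw⟩ := hunit.exists_right_inv
    have hπw : algebraMap A B π = x ^ q * w := by rw [hx, mul_assoc, hw, mul_one]
    have hpown : π ^ n = π * π ^ (n - 1) := by
      rw [← pow_succ']; congr 1; omega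
    have hrelB : x ^ q = algebraMap A B π + (algebraMap A B π) ^ n * x := by
      rw [hx, ← map_pow, hpown, map_mul]; ring
    have hrelB' : x ^ q = algebraMap A B π + x ^ (n * q) * (w ^ n * x) := by
      rw [hrelB]
      congr 1
      rw [hπw, mul_pow, ← pow_mul, mul_comm q n]; ring
    refine ⟨xb, xb, algebraMap B L (w ^ n * x), hintL x, hintL x, hintL _, ?_, ?_⟩
    · simpa only [map_pow, map_add, map_mul, ← IsScalarTower.algebraMap_apply A B L] using
        congrArg (algebraMap B L) hrelB
    · simpa only [map_pow, map_add, map_mul, ← IsScalarTower.algebraMap_apply A B L] using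
        congrArg (algebraMap B L) hrelB'

end fieldPart

theorem case_one (A K : Type u) [CommRing A] [IsDomain A] [IsDiscreteValuationRing A] [Field K]
    [Algebra A K] [IsFractionRing A K] (π : A)
    (hπ : IsLocalRing.maximalIdeal A = Ideal.span {π}) (n : ℕ) (q : ℕ) (hq : q = 1) :
    ∃ (L : Type u) (_ : Field L) (_ : Algebra K L) (_ : Algebra A L) (_ : IsScalarTower A K L),
      Module.finrank K L = q ∧ Algebra.IsSeparable K L ∧
      EtRam.IsTotallyRamified A (algebraMap A L) ∧
      ∃ πB b b' : L, πB ∈ integralClosure A L ∧ b ∈ integralClosure A L ∧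
        b' ∈ integralClosure A L ∧
        πB ^ q = algebraMap A L π + algebraMap A L π ^ n * b ∧
        πB ^ q = algebraMap A L π + πB ^ (n * q) * b' := by
  subst hq
  have h := totRam' (A := A) (B := A) π hπ π 1 one_ne_zero 1 (by simp)
    (Ideal.mem_span_singleton_self _) (fun b => ⟨C b, by simp⟩) hπ K
  have e : (algebraMap A K).comp (algebraMap A A) = algebraMap A K := RingHom.ext fun a => rfl
  rw [e] at h
  refine ⟨K, inferInstance, inferInstance, inferInstance, inferInstance, Module.finrank_self K,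
    inferInstance, h, algebraMap A K π, 0, 0, isIntegral_algebraMap, isIntegral_zero,
    isIntegral_zero, by simp, by simp⟩

theorem case_ge (A K : Type u) [CommRing A] [IsDomain A] [IsDiscreteValuationRing A] [Field K]
    [Algebra A K] [IsFractionRing A K] (π : A)
    (hπ : IsLocalRing.maximalIdeal A = Ideal.span {π}) (n : ℕ) (hn : 1 < n) (q : ℕ)
    (hq : 2 ≤ q) :
    ∃ (L : Type u) (_ : Field L) (_ : Algebra K L) (_ : Algebra A L) (_ : IsScalarTower A K L),
      Module.finrank K L = q ∧ Algebra.IsSeparable K L ∧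
      EtRam.IsTotallyRamified A (algebraMap A L) ∧
      ∃ πB b b' : L, πB ∈ integralClosure A L ∧ b ∈ integralClosure A L ∧
        b' ∈ integralClosure A L ∧
        πB ^ q = algebraMap A L π + algebraMap A L π ^ n * b ∧
        πB ^ q = algebraMap A L π + πB ^ (n * q) * b' := by
  have hπ0 : π ≠ 0 := ((IsDiscreteValuationRing.irreducible_iff_uniformizer π).2 hπ).ne_zero
  obtain ⟨hmonic, hnat, hirr, hdom, hdvr, hint, hunit, hx, htot⟩ :=
    main A π hπ n hn q hq (X ^ q - (C (π ^ n) * X + C π)) rfl
  have hinjAB : Function.Injective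
      (algebraMap A (AdjoinRoot (X ^ q - (C (π ^ n) * X + C π) : A[X]))) := by
    rw [AdjoinRoot.algebraMap_eq]
    refine AdjoinRoot.of.injective_of_degree_ne_zero ?_
    rw [degree_eq_natDegree hmonic.ne_zero, hnat]
    exact_mod_cast (by omega : q ≠ 0)
  refine field_part A K (AdjoinRoot (X ^ q - (C (π ^ n) * X + C π) : A[X]))
    (AdjoinRoot.root _) hinjAB π n q hn hq _ rfl hπ0 hmonic hnat hirr ?_ ?_ hunit hx htot
  · rw [AdjoinRoot.aeval_eq]; exact AdjoinRoot.mk_self
  · intro b
    obtain ⟨P, rfl⟩ := AdjoinRoot.mk_surjective b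
    exact ⟨P, (AdjoinRoot.aeval_eq P).symm⟩

/-- Let A be a discrete valuation ring, π a uniformizer, K its field of fractions, and suppose the
residue field of A has characteristic p > 0. For every n > 1 and every power q of p there is a
separable degree-q extension L/K that is totally ramified with respect to A and whose ring of
integers B (the integral closure of A in L) contains elements π_B, b, b' with π_B^q = π + πⁿ·b and
π_B^q = π + π_B^(nq)·b' (π_B is then a uniformizer of B and the ramification index is q). -/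
theorem result (p : ℕ) (hp : p.Prime) (A K : Type u)
    [CommRing A] [IsDomain A] [IsDiscreteValuationRing A] [Field K] [Algebra A K] [IsFractionRing A K]
    [CharP (IsLocalRing.ResidueField A) p] (π : A) (hπ : IsLocalRing.maximalIdeal A = Ideal.span {π})
    (n : ℕ) (hn : 1 < n) (k : ℕ) :
    ∃ (L : Type u) (_ : Field L) (_ : Algebra K L) (_ : Algebra A L) (_ : IsScalarTower A K L),
      Module.finrank K L = p ^ k ∧ Algebra.IsSeparable K L ∧ EtRam.IsTotallyRamified A (algebraMap A L) ∧
      ∃ πB b b' : L, πB ∈ integralClosure A L ∧ b ∈ integralClosure A L ∧ b' ∈ integralClosure A L ∧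
        πB ^ (p ^ k) = algebraMap A L π + algebraMap A L π ^ n * b ∧
        πB ^ (p ^ k) = algebraMap A L π + πB ^ (n * p ^ k) * b' := by
  rcases Nat.eq_zero_or_pos k with hk | hk
  · have hq : p ^ k = 1 := by rw [hk, pow_zero]
    exact case_one A K π hπ n (p ^ k) hq
  · have hq : 2 ≤ p ^ k := by
      calc 2 ≤ p := hp.two_le
        _ = p ^ 1 := (pow_one p).symm
        _ ≤ p ^ k := Nat.pow_le_pow_right hp.pos hk
    exact case_ge A K π hπ n hn (p ^ k) hq

end Groth.Agent.S7157
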