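import Groth.Statements.S7161
import Mathlib
import Groth.Agent.Lib.Helper21.TorNull
import Groth.Agent.Lib.Helper21.TorPow

set_option autoImplicit false
universe u
open CategoryTheory
open CAlg

namespace Groth.Agent.S7161

/-- Let A be a Noetherian ring, I an ideal, M a finite A-module and N an A-module annihilated by I. Then
there is an integer n > 0 such that the maps Tor_p^A(IⁿM, N) → Tor_p^A(M, N) induced by IⁿM ⊆ M are
zero for all p ≥ 0. -/
theorem result (A : Type u) [CommRing A] [IsNoetherianRing A] (I : Ideal A)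
    (M N : Type u) [AddCommGroup M] [Module A M] [Module.Finite A M] [AddCommGroup N] [Module A N]
    (hN : ∀ a ∈ I, ∀ y : N, a • y = 0) :
    ∃ n : ℕ, 0 < n ∧ ∀ p : ℕ,
      ((CategoryTheory.Tor (ModuleCat.{u} A) p).map (ModuleCat.ofHom (I ^ n • ⊤ : Submodule A M).subtype)).app
        (ModuleCat.of A N) = 0 := by
  classical
  let Nc : ModuleCat.{u} A := ModuleCat.of A N
  let Pr : CategoryTheory.ProjectiveResolution Nc := CategoryTheory.projectiveResolution Nc
  have hflat : ∀ k, Module.Flat A (Pr.complex.X k) :=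
    fun k => Groth.Agent.Lib.Helper21.TorNull.flat_of_projectiveResolution Pr k
  let C : Groth.Agent.Lib.Helper21.TorPow.NullClass A I :=
    { Z := fun h => Groth.Agent.Lib.Helper21.TorNull.Null Pr.complex h
      comp_left := fun g _ hh => Groth.Agent.Lib.Helper21.TorNull.Null.comp_left g hh
      comp_right := fun g hh => Groth.Agent.Lib.Helper21.TorNull.Null.comp_right g hh
      add := fun hh hh' => Groth.Agent.Lib.Helper21.TorNull.Null.add hh hh'
      smul := fun a ha X => Groth.Agent.Lib.Helper21.TorNull.null_smul Pr a (fun y => hN a ha y) X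
      mv := fun hS' hS φ _ ψ h₁ h₂ =>
        Groth.Agent.Lib.Helper21.TorNull.null_mv Pr.complex hflat hS' hS φ ψ h₁ h₂ }
  obtain ⟨n, hn, hZ⟩ := Groth.Agent.Lib.Helper21.TorPow.main C I le_rfl M
  exact ⟨n, hn, fun p => Groth.Agent.Lib.Helper21.TorNull.tor_map_app_eq_zero Pr _ hZ p⟩

end Groth.Agent.S7161
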