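import Groth.Statements.S7172
import Mathlib
import Groth.Agent.Lib.Helper25.PCFlatFP
import Groth.Agent.Lib.Helper18.DRTorZ2

set_option autoImplicit false
universe u
attribute [local instance] HasDerivedCategory.standard
open FlatMor

namespace Groth.Agent.S7172

open Groth.Agent.Lib.Helper18.DR Groth.Agent.Lib.Helper25.PCFlatFP in
/-- ring level: a flat ring map of finite presentation is perfect -/
theorem isPerfectHom_of_flat_fp (A B : Type u) [CommRing A] [CommRing B] [Algebra A B]
    [Module.Flat A B] [Algebra.FinitePresentation A B] : MoreMor.IsPerfectHom A B := by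
  refine ⟨?_, ⟨0, (hasTorDimLE_iff_hasTorAmplitudeIn_single A B 0).2.2 inferInstance⟩⟩
  obtain ⟨n, φ, hφ, hker⟩ := Algebra.FinitePresentation.out (R := A) (A := B)
  refine ⟨n, φ, hφ, ?_⟩
  letI : Algebra (MvPolynomial (Fin n) A) B := φ.toRingHom.toAlgebra
  haveI : IsScalarTower A (MvPolynomial (Fin n) A) B :=
    IsScalarTower.of_algebraMap_eq (fun a => (φ.commutes a).symm)
  haveI : Module.FinitePresentation (MvPolynomial (Fin n) A) B := by
    refine Module.finitePresentation_of_surjective
      (Algebra.linearMap (MvPolynomial (Fin n) A) B) hφ ?_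
    exact hker
  exact isPseudoCoherentModule'_of_flat_fp A n B


open AlgebraicGeometry CategoryTheory Limits in
/-- A flat morphism locally of finite presentation is perfect. -/
theorem result {X S : Scheme.{u}} (f : X ⟶ S) [Flat f] [LocallyOfFinitePresentation f] :
    MoreMor.IsPerfectMor f := by
  intro U V hU hV hUV
  letI := (f.appLE V U hUV).hom.toAlgebra
  have h1 : (f.appLE V U hUV).hom.Flat :=
    (HasRingHomProperty.iff_appLE (P := @Flat)).mp inferInstance ⟨V, hV⟩ ⟨U, hU⟩ hUV
  have h2 : (f.appLE V U hUV).hom.FinitePresentation :=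
    (HasRingHomProperty.iff_appLE (P := @LocallyOfFinitePresentation)).mp inferInstance
      ⟨V, hV⟩ ⟨U, hU⟩ hUV
  haveI : Module.Flat Γ(S, V) Γ(X, U) := h1
  haveI : Algebra.FinitePresentation Γ(S, V) Γ(X, U) := h2
  exact isPerfectHom_of_flat_fp _ _

end Groth.Agent.S7172
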