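import Groth.Statements.S7174
import Groth.Agent.Lib.Helper9.PerfStalk

set_option autoImplicit false
universe u
attribute [local instance] HasDerivedCategory.standard
open FlatMor

namespace Groth.Agent.S7174


open Groth.Agent.Lib.Helper9.PCM in
open AlgebraicGeometry CategoryTheory Limits in
/-- `⇒` of the main result -/
theorem ftd_stalkMap_of_perf {X S : Scheme.{u}} (f : X ⟶ S) (hperf : MoreMor.IsPerfectMor f)
    (x : X) : FTDRingHom (f.stalkMap x).hom := by
  obtain ⟨V, hV, hxV, -⟩ := exists_isAffineOpen_mem_and_subset (X := S) (x := f x) (U := ⊤) trivial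
  obtain ⟨U, hU, hxU, hUV⟩ :=
    exists_isAffineOpen_mem_and_subset (X := X) (x := x) (U := f ⁻¹ᵁ V) hxV
  have hUV' : U ≤ f ⁻¹ᵁ V := hUV
  have h1 : FTDRingHom (f.appLE V U hUV').hom := (hperf U V hU hV hUV').2
  refine (ftd_isLocal.respectsIso.arrow_mk_iso_iff
    (IsAffineOpen.arrowStalkMapIso f V hV U hU hUV' hxU)).2 ?_
  simp only [CommRingCat.hom_ofHom]
  exact ftd_localRingHom_of_ftd _ h1 _ _ _

open Groth.Agent.Lib.Helper9.PCM in
open AlgebraicGeometry CategoryTheory Limits in
/-- `⇐` of the main result -/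
theorem perf_of_ftd_stalkMap {X S : Scheme.{u}} (f : X ⟶ S) (hf : MoreMor.IsPseudoCoherentMor f)
    (h : ∀ x : X, FTDRingHom (f.stalkMap x).hom) : MoreMor.IsPerfectMor f := by
  intro U V hU hV hUV
  change PerfRingHom (f.appLE V U hUV).hom
  refine perfRingHom_of_forall_localRingHom _ (hf U V hU hV hUV) ?_
  intro q hq
  let y : PrimeSpectrum Γ(X, U) := ⟨q, hq⟩
  let x : U := hU.isoSpec.inv y
  have hy : hU.primeIdealOf x = y := by
    change hU.isoSpec.hom (hU.isoSpec.inv y) = y
    rw [← Scheme.Hom.comp_apply, Iso.inv_hom_id]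
    rfl
  have h2 := (ftd_isLocal.respectsIso.arrow_mk_iso_iff
    (IsAffineOpen.arrowStalkMapIso f V hV U hU hUV x.2)).1 (h x.1)
  simp only [CommRingCat.hom_ofHom] at h2
  exact ftd_localRingHom_congr _ _ _ _ q _ rfl (congrArg PrimeSpectrum.asIdeal hy) h2

open AlgebraicGeometry CategoryTheory Limits in
/-- (1) ⇔ (3): for a pseudo-coherent f : X → S, f is perfect exactly when, at every point x of X, the
stalk O_{X,x}, viewed as a module over O_{S,f(x)} through the stalk map, is of finite tor dimension.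
(The intermediate condition on the structure sheaf as a sheaf of f⁻¹O_S-modules is not restated.) -/
theorem result {X S : Scheme.{u}} (f : X ⟶ S) (hf : MoreMor.IsPseudoCoherentMor f) :
    MoreMor.IsPerfectMor f ↔ ∀ x : X,
      (letI := (f.stalkMap x).hom.toAlgebra
       DRing.HasFiniteTorDim ↑(S.presheaf.stalk (f x)) ↑(X.presheaf.stalk x)) := by
  exact ⟨fun hperf x => ftd_stalkMap_of_perf f hperf x, fun h => perf_of_ftd_stalkMap f hf h⟩

end Groth.Agent.S7174
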