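import Groth.Statements.S7178
import Mathlib

set_option autoImplicit false
universe u
open FlatMor

namespace Groth.Agent.S7178

open AlgebraicGeometry CategoryTheory Limits TensorProduct

theorem weaklyEtale_SpecMap_iff {R S : CommRingCat.{u}} (φ : R ⟶ S) :
    WeaklyEtale (Spec.map φ) ↔ (letI := φ.hom.toAlgebra; Algebra.WeaklyEtale R S) := by
  algebraize [φ.hom]
  have hφ : φ = CommRingCat.ofHom (algebraMap R S) := rfl
  rw [weaklyEtale_iff, Algebra.weaklyEtale_iff]
  refine and_congr ?_ ?_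
  · rw [Flat.SpecMap_iff]
    exact RingHom.flat_algebraMap_iff
  · rw [hφ, diagonal_SpecMap R S, MorphismProperty.cancel_right_of_respectsIso (P := @Flat),
      Flat.SpecMap_iff]
    rfl

/-- the property of ring maps "Spec is weakly étale" -/
def Q : MorphismProperty CommRingCat.{u} := fun _ _ φ => WeaklyEtale (Spec.map φ)

instance : (Q.{u}).RespectsIso := by
  apply MorphismProperty.RespectsIso.mk
  · intro R S T e φ hφ
    change WeaklyEtale (Spec.map (e.hom ≫ φ))
    rw [Spec.map_comp]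
    exact (MorphismProperty.cancel_right_of_respectsIso (P := @WeaklyEtale) _ _).mpr hφ
  · intro R S T e φ hφ
    change WeaklyEtale (Spec.map (φ ≫ e.hom))
    rw [Spec.map_comp]
    exact (MorphismProperty.cancel_left_of_respectsIso (P := @WeaklyEtale) _ _).mpr hφ

theorem weaklyEtale_resLE_iff {X S : Scheme.{u}} (f : X ⟶ S) (U : X.Opens) (V : S.Opens)
    (hU : IsAffineOpen U) (hV : IsAffineOpen V) (e : U ≤ f ⁻¹ᵁ V) :
    WeaklyEtale (f.resLE V U e) ↔
      (letI := (f.appLE V U e).hom.toAlgebra; Algebra.WeaklyEtale Γ(S, V) Γ(X, U)) := by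
  haveI : IsAffine (U : Scheme.{u}) := hU
  haveI : IsAffine (V : Scheme.{u}) := hV
  rw [MorphismProperty.arrow_mk_iso_iff @WeaklyEtale (arrowIsoSpecΓOfIsAffine (f.resLE V U e)),
    ← weaklyEtale_SpecMap_iff]
  exact MorphismProperty.arrow_mk_iso_iff Q (arrowResLEAppIso f V U e)

instance : MorphismProperty.RespectsRight @WeaklyEtale @IsOpenImmersion where
  postcomp i hi f hf := by
    haveI := hi
    haveI := hf
    infer_instance

open AlgebraicGeometry CategoryTheory Limits in
/-- (1) ⇔ (2): f : X → S is weakly étale if and only if, whenever U ⊆ X and V ⊆ S are affine opens and f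
maps U into V, the ring O_X(U) is a weakly étale O_S(V)-algebra (flat, with flat multiplication map
O_X(U) ⊗ O_X(U) → O_X(U) over O_S(V)). -/
theorem result {X S : Scheme.{u}} (f : X ⟶ S) :
    WeaklyEtale f ↔ ∀ (U : X.Opens) (V : S.Opens) (_ : IsAffineOpen U) (_ : IsAffineOpen V) (hUV : U ≤ f ⁻¹ᵁ V),
      (letI := (f.appLE V U hUV).hom.toAlgebra
       Algebra.WeaklyEtale Γ(S, V) Γ(X, U)) := by

  constructor
  · intro hf U V hU hV hUV
    exact (weaklyEtale_resLE_iff f U V hU hV hUV).mp (IsZariskiLocalAtSource.resLE hUV hf)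
  · intro h
    rw [IsZariskiLocalAtSource.iff_exists_resLE (P := @WeaklyEtale)]
    intro x
    obtain ⟨_, ⟨V, hV, rfl⟩, hxV, -⟩ := S.isBasis_affineOpens.exists_subset_of_mem_open
      (Set.mem_univ (f x)) isOpen_univ
    obtain ⟨_, ⟨U, hU, rfl⟩, hxU, hUV⟩ := X.isBasis_affineOpens.exists_subset_of_mem_open
      (show x ∈ (f ⁻¹ᵁ V : Set X) from hxV) (f ⁻¹ᵁ V).isOpen
    exact ⟨V, U, hxU, hUV, (weaklyEtale_resLE_iff f U V hU hV hUV).mpr (h U V hU hV hUV)⟩

end Groth.Agent.S7178
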