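import Groth.Statements.S7179
import Mathlib
import Groth.Agent.Lib.Helper7.WEtaleFlat2
import Groth.Agent.Lib.Helper1.WeaklyEtaleLib

set_option autoImplicit false
universe u
open FlatMor

namespace Groth.Agent.S7179

open AlgebraicGeometry CategoryTheory Limits in
/-- The source of a weakly étale morphism with reduced target is reduced. -/
theorem result {X Y : Scheme.{u}} (f : X ⟶ Y) [WeaklyEtale f] [IsReduced Y] : IsReduced X := by
  wlog hY : ∃ R, Y = Spec R generalizing X Y
  · have hr : IsReduced Y := ‹IsReduced Y›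
    have hw : WeaklyEtale f := ‹WeaklyEtale f›
    have h1 : ∀ i : Y.affineCover.I₀, IsReduced (pullback f (Y.affineCover.f i)) := fun i =>
      @this _ _ (pullback.snd f (Y.affineCover.f i)) inferInstance
        (isReduced_of_isOpenImmersion (Y.affineCover.f i)) ⟨_, rfl⟩
    have h2 : ∀ i, IsReduced ((Y.affineCover.pullback₁ f).X i) := h1
    exact IsReduced.of_openCover X (Y.affineCover.pullback₁ f)
  obtain ⟨R, rfl⟩ := hY
  wlog hX : ∃ S, X = Spec S generalizing X
  · have hr : IsReduced (Spec R) := ‹IsReduced (Spec R)›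
    have hw : WeaklyEtale f := ‹WeaklyEtale f›
    have h1 : ∀ i, IsReduced (X.affineCover.X i) := fun i =>
      @this _ (X.affineCover.f i ≫ f) inferInstance ⟨_, rfl⟩
    exact IsReduced.of_openCover X X.affineCover
  obtain ⟨S, rfl⟩ := hX
  obtain ⟨φ, rfl : Spec.map φ = f⟩ := Spec.homEquiv.symm.surjective f
  have hwe := Groth.Agent.Lib.Helper1.WeaklyEtale.algebra_weaklyEtale_of_SpecMap φ
  algebraize [φ.hom]
  have hR : _root_.IsReduced R := (affine_isReduced_iff R).1 inferInstance
  have hwe' : Algebra.WeaklyEtale R S := hwe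
  have hS := Groth.Agent.Lib.Helper7.isReduced_of_weaklyEtale R S
  exact (affine_isReduced_iff S).2 hS

end Groth.Agent.S7179
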