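import Groth.Statements.S7183
import Groth.Agent.Lib.Helper28.Pinch.MorphProps

set_option autoImplicit false
universe u
open FlatMor

namespace Groth.Agent.S7183

open AlgebraicGeometry CategoryTheory Limits in
/-- Let i : Z → X, j : Z → Y be closed immersions with pushout P, let X' → X and Y' → Y be morphisms
whose base changes to Z are identified (a scheme Z' cartesian over both), let P' be the pushout of
Z' → X' and Z' → Y' and h : P' → P the induced morphism. Then h is locally of finite type (resp.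
flat, resp. flat and locally of finite presentation, resp. smooth, resp. étale) if and only if X' →
X and Y' → Y both are. -/
theorem result {X Y Z P X' Y' Z' P' : Scheme.{u}}
    (i : Z ⟶ X) (j : Z ⟶ Y) [IsClosedImmersion i] [IsClosedImmersion j] (a : X ⟶ P) (b : Y ⟶ P) (hP : IsPushout i j a b)
    (f : X' ⟶ X) (g : Y' ⟶ Y) (i' : Z' ⟶ X') (j' : Z' ⟶ Y') (c : Z' ⟶ Z) (hX : IsPullback i' c f i) (hY : IsPullback j' c g j)
    (a' : X' ⟶ P') (b' : Y' ⟶ P') (hP' : IsPushout i' j' a' b') (h : P' ⟶ P) (ha : a' ≫ h = f ≫ a) (hb : b' ≫ h = g ≫ b) :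
    (LocallyOfFiniteType h ↔ LocallyOfFiniteType f ∧ LocallyOfFiniteType g) ∧
    (Flat h ↔ Flat f ∧ Flat g) ∧
    ((Flat h ∧ LocallyOfFinitePresentation h) ↔ (Flat f ∧ LocallyOfFinitePresentation f) ∧ (Flat g ∧ LocallyOfFinitePresentation g)) ∧
    (Smooth h ↔ Smooth f ∧ Smooth g) ∧
    (Etale h ↔ Etale f ∧ Etale g) := by
  haveI : IsClosedImmersion i' := MorphismProperty.of_isPullback hX.flip inferInstance
  haveI : IsClosedImmersion j' := MorphismProperty.of_isPullback hY.flip inferInstance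
  have hpY := Groth.Agent.Lib.Helper28.Pinch.hY_of_isClosedImmersion i j
  have hpY' := Groth.Agent.Lib.Helper28.Pinch.hY_of_isClosedImmersion i' j'
  have cp := fun (W₀ : P.Opens) (W₁ : P'.Opens)
      (hW₀ : Groth.Agent.Lib.Helper28.Pinch.IsChart a b hP.w W₀)
      (hW₁ : Groth.Agent.Lib.Helper28.Pinch.IsChart a' b' hP'.w W₁) (e : W₁ ≤ h ⁻¹ᵁ W₀)
      (eX : a' ⁻¹ᵁ W₁ ≤ f ⁻¹ᵁ (a ⁻¹ᵁ W₀)) (eY : b' ⁻¹ᵁ W₁ ≤ g ⁻¹ᵁ (b ⁻¹ᵁ W₀)) =>
    Groth.Agent.Lib.Helper28.Pinch.chart_props f g c h hX hY hP hP' ha hb hW₀ hW₁ e eX eY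
  have sFT : RingHom.StableUnderCompositionWithLocalizationAwaySource @RingHom.FiniteType :=
    (RingHom.finiteType_stableUnderComposition.stableUnderCompositionWithLocalizationAway
      RingHom.finiteType_holdsForLocalizationAway).left
  have sFl : RingHom.StableUnderCompositionWithLocalizationAwaySource @RingHom.Flat :=
    (RingHom.Flat.stableUnderComposition.stableUnderCompositionWithLocalizationAway
      RingHom.Flat.holdsForLocalizationAway).left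
  have sFP : RingHom.StableUnderCompositionWithLocalizationAwaySource
      @RingHom.FinitePresentation :=
    (RingHom.finitePresentation_stableUnderComposition.stableUnderCompositionWithLocalizationAway
      RingHom.finitePresentation_holdsForLocalizationAway).left
  have sSm : RingHom.StableUnderCompositionWithLocalizationAwaySource @RingHom.Smooth :=
    (RingHom.Smooth.stableUnderComposition.stableUnderCompositionWithLocalizationAway
      RingHom.Smooth.holdsForLocalizationAway).left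
  have sEt : RingHom.StableUnderCompositionWithLocalizationAwaySource @RingHom.Etale :=
    (RingHom.Etale.stableUnderComposition.stableUnderCompositionWithLocalizationAway
      (RingHom.Etale.propertyIsLocal.HoldsForLocalizationAway
        RingHom.Etale.containsIdentities)).left
  refine ⟨⟨fun hh => ?_, fun ⟨hf, hg⟩ => ?_⟩, ⟨fun hh => ?_, fun ⟨hf, hg⟩ => ?_⟩,
    ⟨fun ⟨hh, hh'⟩ => ?_, fun ⟨⟨hf, hf'⟩, ⟨hg, hg'⟩⟩ => ?_⟩, ⟨fun hh => ?_, fun ⟨hf, hg⟩ => ?_⟩,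
    ⟨fun hh => ?_, fun ⟨hf, hg⟩ => ?_⟩⟩
  · exact Groth.Agent.Lib.Helper28.Pinch.components_of_morph f g h hP hP' ha hb hpY hpY'
      (P₁ := @LocallyOfFiniteType) (P₂ := @LocallyOfFiniteType) sFT
      (fun W₀ W₁ hW₀ hW₁ e eX eY _ h2 => (cp W₀ W₁ hW₀ hW₁ e eX eY).1.mp h2) hh hh
  · exact Groth.Agent.Lib.Helper28.Pinch.morph_of_components f g h hP hP' ha hb hpY hpY'
      (P₁ := @LocallyOfFiniteType) (P₂ := @LocallyOfFiniteType) sFT
      (fun W₀ W₁ hW₀ hW₁ e eX eY _ h2 _ h4 => (cp W₀ W₁ hW₀ hW₁ e eX eY).1.mpr ⟨h2, h4⟩)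
      hf hf hg hg
  · exact Groth.Agent.Lib.Helper28.Pinch.components_of_morph f g h hP hP' ha hb hpY hpY'
      (P₁ := @Flat) (P₂ := @Flat) sFl
      (fun W₀ W₁ hW₀ hW₁ e eX eY _ h2 => (cp W₀ W₁ hW₀ hW₁ e eX eY).2.1.mp h2) hh hh
  · exact Groth.Agent.Lib.Helper28.Pinch.morph_of_components f g h hP hP' ha hb hpY hpY'
      (P₁ := @Flat) (P₂ := @Flat) sFl
      (fun W₀ W₁ hW₀ hW₁ e eX eY _ h2 _ h4 => (cp W₀ W₁ hW₀ hW₁ e eX eY).2.1.mpr ⟨h2, h4⟩)
      hf hf hg hg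
  · have h1 := Groth.Agent.Lib.Helper28.Pinch.components_of_morph f g h hP hP' ha hb hpY hpY'
      (P₁ := @Flat) (P₂ := @Flat) sFl
      (fun W₀ W₁ hW₀ hW₁ e eX eY _ h2 => (cp W₀ W₁ hW₀ hW₁ e eX eY).2.1.mp h2) hh hh
    have h2 := Groth.Agent.Lib.Helper28.Pinch.components_of_morph f g h hP hP' ha hb hpY hpY'
      (P₁ := @Flat) (P₂ := @LocallyOfFinitePresentation) sFP
      (fun W₀ W₁ hW₀ hW₁ e eX eY k1 k2 =>
        ⟨((cp W₀ W₁ hW₀ hW₁ e eX eY).2.2.1.mp ⟨k1, k2⟩).1.2,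
          ((cp W₀ W₁ hW₀ hW₁ e eX eY).2.2.1.mp ⟨k1, k2⟩).2.2⟩) hh hh'
    exact ⟨⟨h1.1, h2.1⟩, ⟨h1.2, h2.2⟩⟩
  · refine ⟨?_, ?_⟩
    · exact Groth.Agent.Lib.Helper28.Pinch.morph_of_components f g h hP hP' ha hb hpY hpY'
        (P₁ := @Flat) (P₂ := @Flat) sFl
        (fun W₀ W₁ hW₀ hW₁ e eX eY _ h2 _ h4 => (cp W₀ W₁ hW₀ hW₁ e eX eY).2.1.mpr ⟨h2, h4⟩)
        hf hf hg hg
    · exact Groth.Agent.Lib.Helper28.Pinch.morph_of_components f g h hP hP' ha hb hpY hpY'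
        (P₁ := @Flat) (P₂ := @LocallyOfFinitePresentation) sFP
        (fun W₀ W₁ hW₀ hW₁ e eX eY k1 k2 k3 k4 =>
          ((cp W₀ W₁ hW₀ hW₁ e eX eY).2.2.1.mpr ⟨⟨k1, k2⟩, ⟨k3, k4⟩⟩).2)
        hf hf' hg hg'
  · exact Groth.Agent.Lib.Helper28.Pinch.components_of_morph f g h hP hP' ha hb hpY hpY'
      (P₁ := @Smooth) (P₂ := @Smooth) sSm
      (fun W₀ W₁ hW₀ hW₁ e eX eY _ h2 => (cp W₀ W₁ hW₀ hW₁ e eX eY).2.2.2.1.mp h2) hh hh
  · exact Groth.Agent.Lib.Helper28.Pinch.morph_of_components f g h hP hP' ha hb hpY hpY'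
      (P₁ := @Smooth) (P₂ := @Smooth) sSm
      (fun W₀ W₁ hW₀ hW₁ e eX eY _ h2 _ h4 =>
        (cp W₀ W₁ hW₀ hW₁ e eX eY).2.2.2.1.mpr ⟨h2, h4⟩)
      hf hf hg hg
  · exact Groth.Agent.Lib.Helper28.Pinch.components_of_morph f g h hP hP' ha hb hpY hpY'
      (P₁ := @Etale) (P₂ := @Etale) sEt
      (fun W₀ W₁ hW₀ hW₁ e eX eY _ h2 => (cp W₀ W₁ hW₀ hW₁ e eX eY).2.2.2.2.mp h2) hh hh
  · exact Groth.Agent.Lib.Helper28.Pinch.morph_of_components f g h hP hP' ha hb hpY hpY'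
      (P₁ := @Etale) (P₂ := @Etale) sEt
      (fun W₀ W₁ hW₀ hW₁ e eX eY _ h2 _ h4 =>
        (cp W₀ W₁ hW₀ hW₁ e eX eY).2.2.2.2.mpr ⟨h2, h4⟩)
      hf hf hg hg

end Groth.Agent.S7183
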