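import Groth.Statements.S7185
import Mathlib

set_option autoImplicit false
universe u
open FlatMor

namespace Groth.Agent.S7185

open AlgebraicGeometry CategoryTheory Limits

theorem finSepDegree_congr_hom {A B : Type u} [Field A] [Field B] {χ χ' : A →+* B} (h : χ = χ') :
    @Field.finSepDegree A B _ _ χ.toAlgebra = @Field.finSepDegree A B _ _ χ'.toAlgebra := by
  subst h; rfl

theorem finSepDegree_comp_equiv {A B C : Type u} [Field A] [Field B] [Field C] (β : A →+* B)
    (γ : B →+* C) (hγ : Function.Bijective γ) :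
    @Field.finSepDegree A C _ _ (γ.comp β).toAlgebra =
      @Field.finSepDegree A B _ _ β.toAlgebra := by
  letI := β.toAlgebra
  letI := (γ.comp β).toAlgebra
  exact (Field.finSepDegree_eq_of_equiv A B C
    (AlgEquiv.ofRingEquiv (f := RingEquiv.ofBijective γ hγ) (fun a => rfl))).symm

theorem fibreIntegral_iso {U' U V : Scheme.{u}} (e : U' ≅ U) (π : U ⟶ V) (w₀ : U → ℤ) (v : V) :
    MoreMor.fibreIntegral (e.hom ≫ π) (fun u' => w₀ (e.hom u')) v =
      MoreMor.fibreIntegral π w₀ v := by
  unfold MoreMor.fibreIntegral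
  let E : {u' : U' // (e.hom ≫ π) u' = v} → {u : U // π u = v} := fun u' => ⟨e.hom u'.1, u'.2⟩
  have hE : Function.Bijective E := by
    constructor
    · intro a b hab
      apply Subtype.ext
      have h1 : e.hom a.1 = e.hom b.1 := congrArg Subtype.val hab
      have h2 := congrArg (fun x => e.inv x) h1
      simpa using h2
    · intro u
      refine ⟨⟨e.inv u.1, ?_⟩, ?_⟩
      · show (e.hom ≫ π) (e.inv u.1) = v
        rw [Scheme.Hom.comp_apply]
        have : e.hom (e.inv u.1) = u.1 := by
          rw [← Scheme.Hom.comp_apply, e.inv_hom_id]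
          rfl
        rw [this]
        exact u.2
      · apply Subtype.ext
        show e.hom (e.inv u.1) = u.1
        rw [← Scheme.Hom.comp_apply, e.inv_hom_id]
        rfl
  refine finsum_eq_of_bijective E hE ?_
  intro u'
  congr 1
  have hcomp : ((e.hom ≫ π).residueFieldMap u'.1).hom =
      ((e.hom.residueFieldMap u'.1).hom).comp ((π.residueFieldMap (e.hom u'.1)).hom) := by
    rw [Scheme.residueFieldMap_comp]
    rfl
  have hbij : Function.Bijective (e.hom.residueFieldMap u'.1).hom :=
    ConcreteCategory.bijective_of_isIso (e.hom.residueFieldMap u'.1)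
  have h := (finSepDegree_congr_hom hcomp).trans
    (finSepDegree_comp_equiv (π.residueFieldMap (e.hom u'.1)).hom
      (e.hom.residueFieldMap u'.1).hom hbij)
  exact_mod_cast h

open AlgebraicGeometry CategoryTheory Limits in
/-- The restriction of a weighting of a locally quasi-finite morphism f : X → Y (locally of finite type
with discrete fibres) to an open subscheme X' of X is a weighting of X' → Y. -/
theorem result {X Y : Scheme.{u}} (f : X ⟶ Y) [LocallyQuasiFinite f] [LocallyOfFiniteType f] (w : X → ℤ)
    (hw : MoreMor.IsWeighting f w) (X' : X.Opens) : MoreMor.IsWeighting (X'.ι ≫ f) (fun x => w (X'.ι x)) := by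

  intro V g _ U' hfin
  let f' := X'.ι ≫ f
  let j : pullback f' g ⟶ pullback f g :=
    pullback.map f' g f g X'.ι (𝟙 V) (𝟙 Y) (by simp [f']) (by simp)
  haveI : IsOpenImmersion j := inferInstance
  let U : (pullback f g).Opens := j ''ᵁ U'
  let e : (U' : Scheme.{u}) ≅ (U : Scheme.{u}) := j.isoImage U'
  have he : e.hom ≫ U.ι = U'.ι ≫ j := j.isoImage_hom_ι U'
  have hsnd : j ≫ pullback.snd f g = pullback.snd f' g :=
    (pullback.lift_snd _ _ _).trans (Category.comp_id _)
  have hfst : j ≫ pullback.fst f g = pullback.fst f' g ≫ X'.ι :=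
    pullback.lift_fst _ _ _
  have hπ : e.hom ≫ (U.ι ≫ pullback.snd f g) = U'.ι ≫ pullback.snd f' g := by
    rw [← Category.assoc, he, Category.assoc, hsnd]
  haveI : IsFinite (U'.ι ≫ pullback.snd f' g) := hfin
  have hfinU : IsFinite (U.ι ≫ pullback.snd f g) := by
    have h1 : U.ι ≫ pullback.snd f g = e.inv ≫ (U'.ι ≫ pullback.snd f' g) := by
      rw [← hπ, Iso.inv_hom_id_assoc]
    rw [h1]
    infer_instance
  have hmain := hw V g U hfinU
  have hEq : MoreMor.fibreIntegral (U'.ι ≫ pullback.snd f' g)
        (fun u => (fun x => w (X'.ι x)) (pullback.fst f' g (U'.ι u))) =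
      MoreMor.fibreIntegral (U.ι ≫ pullback.snd f g)
        (fun u => w (pullback.fst f g (U.ι u))) := by
    funext v
    rw [← fibreIntegral_iso e (U.ι ≫ pullback.snd f g)
      (fun u => w (pullback.fst f g (U.ι u))) v]
    have hw' : (fun u' : ↥(U' : Scheme.{u}) => w (pullback.fst f g (U.ι (e.hom u')))) =
        (fun u => (fun x => w (X'.ι x)) (pullback.fst f' g (U'.ι u))) := by
      funext u'
      show w (pullback.fst f g (U.ι (e.hom u'))) = w (X'.ι (pullback.fst f' g (U'.ι u')))
      congr 1
      have h1 : (U.ι (e.hom u')) = j (U'.ι u') := by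
        rw [← Scheme.Hom.comp_apply, he, Scheme.Hom.comp_apply]
      rw [h1, ← Scheme.Hom.comp_apply, hfst, Scheme.Hom.comp_apply]
    rw [hw']
    congr 1
    exact hπ.symm
  show IsLocallyConstant (MoreMor.fibreIntegral (U'.ι ≫ pullback.snd f' g)
        (fun u => (fun x => w (X'.ι x)) (pullback.fst f' g (U'.ι u))))
  rw [hEq]
  exact hmain

end Groth.Agent.S7185
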