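import Groth.Statements.S7201
import Groth.Agent.Lib.Helper27.ApxB
import Groth.Agent.Lib.Helper27.ApxC

set_option autoImplicit false
universe u
open FlatMor

namespace Groth.Agent.S7201

open AlgebraicGeometry CategoryTheory Limits in
/-- Let h : T → S be a morphism of finite type between Noetherian schemes, t a point of T with image s,
and σ : O_{T,t} → O_{S,s}^∧ a local O_{S,s}-algebra map to the completion. For every N ≥ 1 there is
a morphism of finite type g : T' → T and a point t' over t such that σ factors through O_{T,t} →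
O_{T',t'}, and any local O_{S,s}-algebra map σ' : O_{T,t} → O_{S,s}^∧ factoring through O_{T,t} →
O_{T',t'} agrees with σ modulo m_s^N. -/
theorem result {T S : Scheme.{u}} [IsNoetherian T] [IsNoetherian S]
    (h : T ⟶ S) [LocallyOfFiniteType h] [QuasiCompact h] (t : T)
    (σ : ↑(T.presheaf.stalk t) →+* (AdicCompletion (IsLocalRing.maximalIdeal ↑(S.presheaf.stalk (h t))) ↑(S.presheaf.stalk (h t))))
    (hσ : σ.comp (h.stalkMap t).hom = algebraMap ↑(S.presheaf.stalk (h t)) (AdicCompletion (IsLocalRing.maximalIdeal ↑(S.presheaf.stalk (h t))) ↑(S.presheaf.stalk (h t))))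
    (hloc : ∀ a ∈ IsLocalRing.maximalIdeal ↑(T.presheaf.stalk t),
      σ a ∈ (IsLocalRing.maximalIdeal ↑(S.presheaf.stalk (h t))).map (algebraMap ↑(S.presheaf.stalk (h t)) (AdicCompletion (IsLocalRing.maximalIdeal ↑(S.presheaf.stalk (h t))) ↑(S.presheaf.stalk (h t)))))
    (N : ℕ) (hN : 1 ≤ N) :
    ∃ (T' : Scheme.{u}) (g : T' ⟶ T) (t' : T') (hg : g t' = t) (τ : ↑(T'.presheaf.stalk t') →+* (AdicCompletion (IsLocalRing.maximalIdeal ↑(S.presheaf.stalk (h t))) ↑(S.presheaf.stalk (h t)))),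
      LocallyOfFiniteType g ∧ QuasiCompact g ∧
      τ.comp ((g.stalkMap t').hom.comp (T.presheaf.stalkCongr (Inseparable.of_eq hg)).inv.hom) = σ ∧
      ∀ (σ' : ↑(T.presheaf.stalk t) →+* (AdicCompletion (IsLocalRing.maximalIdeal ↑(S.presheaf.stalk (h t))) ↑(S.presheaf.stalk (h t)))),
        σ'.comp (h.stalkMap t).hom = algebraMap ↑(S.presheaf.stalk (h t)) (AdicCompletion (IsLocalRing.maximalIdeal ↑(S.presheaf.stalk (h t))) ↑(S.presheaf.stalk (h t))) →
        (∀ a ∈ IsLocalRing.maximalIdeal ↑(T.presheaf.stalk t),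
          σ' a ∈ (IsLocalRing.maximalIdeal ↑(S.presheaf.stalk (h t))).map (algebraMap ↑(S.presheaf.stalk (h t)) (AdicCompletion (IsLocalRing.maximalIdeal ↑(S.presheaf.stalk (h t))) ↑(S.presheaf.stalk (h t))))) →
        (∃ τ' : ↑(T'.presheaf.stalk t') →+* (AdicCompletion (IsLocalRing.maximalIdeal ↑(S.presheaf.stalk (h t))) ↑(S.presheaf.stalk (h t))),
          τ'.comp ((g.stalkMap t').hom.comp (T.presheaf.stalkCongr (Inseparable.of_eq hg)).inv.hom) = σ') →
        ∀ a : ↑(T.presheaf.stalk t), σ a - σ' a ∈ (IsLocalRing.maximalIdeal ↑(S.presheaf.stalk (h t)) ^ N).map (algebraMap ↑(S.presheaf.stalk (h t)) (AdicCompletion (IsLocalRing.maximalIdeal ↑(S.presheaf.stalk (h t))) ↑(S.presheaf.stalk (h t)))) := by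
  classical
  obtain ⟨V, hV, hsV, -⟩ := exists_isAffineOpen_mem_and_subset (X := S) (x := h t) (U := ⊤) trivial
  obtain ⟨U, hU, htU, hUV⟩ := exists_isAffineOpen_mem_and_subset (X := T) (x := t)
    (U := h ⁻¹ᵁ V) hsV
  have e : U ≤ h ⁻¹ᵁ V := hUV
  let sV : V := ⟨h t, hsV⟩
  let tU : U := ⟨t, htU⟩
  letI algAR := S.presheaf.algebra_section_stalk sV
  haveI locR := hV.isLocalization_stalk sV
  letI algBO := T.presheaf.algebra_section_stalk tU
  haveI locO := hU.isLocalization_stalk tU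
  letI algAB : Algebra Γ(S, V) Γ(T, U) := (h.appLE V U e).hom.toAlgebra
  haveI ftAB : Algebra.FiniteType Γ(S, V) Γ(T, U) :=
    HasRingHomProperty.appLE (P := @LocallyOfFiniteType) h inferInstance ⟨V, hV⟩ ⟨U, hU⟩ e
  have hlam : (h.stalkMap t).hom.comp (algebraMap Γ(S, V) (S.presheaf.stalk (h t))) =
      (algebraMap Γ(T, U) (T.presheaf.stalk t)).comp (algebraMap Γ(S, V) Γ(T, U)) := by
    refine RingHom.ext fun a => ?_
    exact Groth.Agent.Lib.Helper27.ApxC.stalkMap_germ_appLE h V U e t htU a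
  obtain ⟨B', instB', algB', hft, β', hβ', hctrl⟩ := Groth.Agent.Lib.Helper27.ApxB.core
    (hV.primeIdealOf sV).asIdeal (hU.primeIdealOf tU).asIdeal (h.stalkMap t).hom hlam σ hσ N
  haveI : IsNoetherianRing Γ(T, U) := IsLocallyNoetherian.component_noetherian ⟨U, hU⟩
  haveI : IsNoetherianRing B' := Algebra.FiniteType.isNoetherianRing Γ(T, U) B'
  let ψ : Γ(T, U) ⟶ CommRingCat.of B' := CommRingCat.ofHom (algebraMap Γ(T, U) B')
  -- locality of σ
  have hσloc : (IsLocalRing.maximalIdeal (AdicCompletion (IsLocalRing.maximalIdeal ↑(S.presheaf.stalk (h t)))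
      ↑(S.presheaf.stalk (h t)))).comap σ = IsLocalRing.maximalIdeal ↑(T.presheaf.stalk t) := by
    ext a
    rw [Ideal.mem_comap]
    constructor
    · intro ha
      by_contra hna
      have hu : IsUnit a := by
        by_contra hnu
        exact hna hnu
      exact (IsLocalRing.mem_maximalIdeal _).1 ha (hu.map σ)
    · intro ha
      rw [AdicCompletion.maximalIdeal_eq_map]
      exact hloc a ha
  let t' : Spec (CommRingCat.of B') :=
    ⟨(IsLocalRing.maximalIdeal (AdicCompletion (IsLocalRing.maximalIdeal ↑(S.presheaf.stalk (h t)))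
      ↑(S.presheaf.stalk (h t)))).comap β', inferInstance⟩
  have hg : (Spec.map ψ ≫ hU.fromSpec) t' = t := by
    change hU.fromSpec (Spec.map ψ t') = t
    have h1 : Spec.map ψ t' = hU.primeIdealOf tU := by
      apply PrimeSpectrum.ext
      change Ideal.comap (algebraMap Γ(T, U) B') ((IsLocalRing.maximalIdeal _).comap β') = _
      rw [Ideal.comap_comap, hβ', ← Ideal.comap_comap, hσloc]
      exact IsLocalization.AtPrime.comap_maximalIdeal (T.presheaf.stalk t)
        (hU.primeIdealOf tU).asIdeal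
    rw [h1]
    exact hU.fromSpec_primeIdealOf tU
  obtain ⟨τ, hτ⟩ := Groth.Agent.Lib.Helper27.ApxC.exists_tau t' β' (by
    intro b hb
    by_contra hnu
    exact hb hnu)
  have hgU : (Spec.map ψ ≫ hU.fromSpec) t' ∈ U :=
    Groth.Agent.Lib.Helper27.ApxC.top_le_preimage hU ψ trivial
  have hsc : ∀ b : Γ(T, U), (T.presheaf.stalkCongr (Inseparable.of_eq hg)).inv.hom
      (T.presheaf.germ U t htU b) = T.presheaf.germ U ((Spec.map ψ ≫ hU.fromSpec) t') hgU b := by
    intro b
    have h1 := T.presheaf.germ_stalkSpecializes htU (Inseparable.of_eq hg).le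
    exact congrArg (fun f => f.hom b) h1
  have hθ : ∀ b : Γ(T, U), ((Spec.map ψ ≫ hU.fromSpec).stalkMap t').hom
      ((T.presheaf.stalkCongr (Inseparable.of_eq hg)).inv.hom (T.presheaf.germ U t htU b)) =
      (Spec (CommRingCat.of B')).presheaf.germ ⊤ t' trivial
        ((Scheme.ΓSpecIso (CommRingCat.of B')).inv (algebraMap Γ(T, U) B' b)) := by
    intro b
    rw [hsc b]
    exact Groth.Agent.Lib.Helper27.ApxC.stalkMap_germ hU ψ t' b
  haveI : LocallyOfFiniteType (Spec.map ψ) :=
    (HasRingHomProperty.Spec_iff (P := @LocallyOfFiniteType)).2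
      (RingHom.finiteType_algebraMap.2 hft)
  refine ⟨Spec (CommRingCat.of B'), Spec.map ψ ≫ hU.fromSpec, t', hg, τ, inferInstance,
    ⟨fun W _ _ => TopologicalSpace.NoetherianSpace.isCompact _⟩, ?_, ?_⟩
  · apply Groth.Agent.Lib.Helper27.ApxC.stalk_ringHom_ext hU t htU
    intro b
    rw [RingHom.comp_apply, RingHom.comp_apply, hθ b, hτ]
    exact RingHom.congr_fun hβ' b
  · intro σ' hσ' _ hex a
    obtain ⟨τ', hτ'⟩ := hex
    refine hctrl σ' hσ' (τ'.comp (((Spec (CommRingCat.of B')).presheaf.germ ⊤ t' trivial).hom.comp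
      (Scheme.ΓSpecIso (CommRingCat.of B')).inv.hom)) ?_ a
    refine RingHom.ext fun b => ?_
    rw [RingHom.comp_apply, RingHom.comp_apply, RingHom.comp_apply, RingHom.comp_apply, ← hτ']
    rw [RingHom.comp_apply, RingHom.comp_apply]
    congr 1
    exact (hθ b).symm

end Groth.Agent.S7201
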