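import Groth.Statements.S7223
import Groth.Agent.Lib.Helper19.NLbc
import Groth.Agent.Lib.Helper19.KRegCot
import Groth.Agent.S9269

set_option autoImplicit false
universe u
open CategoryTheory CategoryTheory.Limits TensorProduct
attribute [local instance] HasDerivedCategory.standard
open FlatMor

namespace Groth.Agent.S7223

open Groth.Agent.Lib.Helper19

section Aux

variable {R S R' S' : Type u} [CommRing R] [CommRing S] [CommRing R'] [CommRing S']
  [Algebra R S] [Algebra R' S'] [Algebra R R'] [Algebra S S'] [Algebra R S']
  [IsScalarTower R R' S'] [IsScalarTower R S S']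
  {ι : Type} (G : Algebra.Generators R S ι) (G' : Algebra.Generators R' S' ι)
  (f₀ : G.Hom G') (hf₀ : ∀ i, f₀.val i = MvPolynomial.X i)

include hf₀ in
theorem adjoin_range :
    Algebra.adjoin R' (Set.range f₀.toExtensionHom.toRingHom) = ⊤ := by
  have h1 : Algebra.adjoin R' (Set.range (MvPolynomial.X : ι → MvPolynomial ι R')) = ⊤ :=
    MvPolynomial.adjoin_range_X
  have h2 : Set.range (MvPolynomial.X : ι → MvPolynomial ι R') ⊆
      Set.range f₀.toExtensionHom.toRingHom := by
    rintro _ ⟨i, rfl⟩
    exact ⟨MvPolynomial.X i, (Algebra.Generators.Hom.toAlgHom_X _ i).trans (hf₀ i)⟩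
  exact le_antisymm le_top (h1.symm.le.trans (Algebra.adjoin_mono h2))

include hf₀ in
theorem cotangentSpace_bc_bijective :
    Function.Bijective (LinearMap.liftBaseChange S'
      (Algebra.Extension.CotangentSpace.map f₀.toExtensionHom)) := by
  have key : LinearMap.liftBaseChange S'
      (Algebra.Extension.CotangentSpace.map f₀.toExtensionHom) =
      ((G.cotangentSpaceBasis.baseChange S').equiv G'.cotangentSpaceBasis
        (Equiv.refl ι)).toLinearMap := by
    apply (G.cotangentSpaceBasis.baseChange S').ext
    intro i
    have e1 : Algebra.Extension.CotangentSpace.map f₀.toExtensionHom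
        (G.cotangentSpaceBasis i) = G'.cotangentSpaceBasis i := by
      have a1 := Algebra.Extension.CotangentSpace.map_tmul
        f₀.toExtensionHom (1 : S) (MvPolynomial.X i)
      rw [Algebra.Generators.cotangentSpaceBasis_apply,
        Algebra.Generators.cotangentSpaceBasis_apply]
      refine a1.trans ?_
      rw [map_one]
      have e0 : f₀.toExtensionHom.toAlgHom (MvPolynomial.X i) =
          MvPolynomial.X i := (Algebra.Generators.Hom.toAlgHom_X _ i).trans (hf₀ i)
      rw [e0]
      rfl
    have e2 : LinearMap.liftBaseChange S'
        (Algebra.Extension.CotangentSpace.map f₀.toExtensionHom)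
        ((G.cotangentSpaceBasis.baseChange S') i) = G'.cotangentSpaceBasis i := by
      rw [Module.Basis.baseChange_apply, LinearMap.liftBaseChange_tmul, one_smul, e1]
    rw [e2]
    show _ = ((G.cotangentSpaceBasis.baseChange S').equiv G'.cotangentSpaceBasis
      (Equiv.refl ι)) ((G.cotangentSpaceBasis.baseChange S') i)
    rw [Module.Basis.equiv_apply]
    rfl
  rw [key]
  exact LinearEquiv.bijective _

end Aux

/-- Let A → B and A → A' be ring homomorphisms and B' an algebra over A' and over B making the square
cocartesian, B' = B ⊗_A A'. If A → B and A' → B' are both local complete intersection homomorphisms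
(of finite type, with Koszul-regular kernel for a polynomial presentation), then the kernel of the
canonical map H^{-1}(NL_{B/A} ⊗_B B') → H^{-1}(NL_{B'/A'}) (presentations on all elements) is a
finite projective B'-module. -/
theorem result (A B A' B' : Type u) [CommRing A] [CommRing B]
    [CommRing A'] [CommRing B'] [Algebra A B] [Algebra A' B'] [Algebra A A'] [Algebra B B'] [Algebra A B']
    [IsScalarTower A A' B'] [IsScalarTower A B B'] [Algebra.IsPushout A A' B B']
    (hB : LCI.IsLCI A B) (hB' : LCI.IsLCI A' B') :
    Module.Finite B' (LinearMap.ker (NLCx.bcH1Map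
        ((Algebra.Generators.self A B).defaultHom (Algebra.Generators.self A' B')).toExtensionHom)) ∧
      Module.Projective B' (LinearMap.ker (NLCx.bcH1Map
        ((Algebra.Generators.self A B).defaultHom (Algebra.Generators.self A' B')).toExtensionHom)) := by
  obtain ⟨-, n, α, hα, hKα⟩ := hB
  obtain ⟨-, m, β, hβ, hKβ⟩ := hB'
  let G : Algebra.Generators A B (Fin n) := Algebra.Generators.ofAlgHom α hα
  have hGα : (MvPolynomial.aeval (R := A) G.val : MvPolynomial (Fin n) A →ₐ[A] B) = α := by
    apply MvPolynomial.algHom_ext
    intro i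
    rw [MvPolynomial.aeval_X]; rfl
  let val' : Fin n → B' := fun i => algebraMap B B' (G.val i)
  have key : ∀ p : MvPolynomial (Fin n) A,
      MvPolynomial.aeval (R := A') val' (MvPolynomial.map (algebraMap A A') p) =
        algebraMap B B' (MvPolynomial.aeval (R := A) G.val p) := by
    intro p
    induction p using MvPolynomial.induction_on with
    | C a =>
      rw [MvPolynomial.map_C, MvPolynomial.aeval_C, MvPolynomial.aeval_C,
        ← IsScalarTower.algebraMap_apply A A' B', ← IsScalarTower.algebraMap_apply A B B']
    | add p q hp hq => rw [map_add, map_add, map_add, map_add, hp, hq]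
    | mul_X p i hp =>
      rw [map_mul, map_mul, map_mul, map_mul, hp, MvPolynomial.map_X, MvPolynomial.aeval_X,
        MvPolynomial.aeval_X]
  have hα' : Function.Surjective (MvPolynomial.aeval (R := A') val') := by
    intro x
    have hbc : IsBaseChange A' (IsScalarTower.toAlgHom A B B').toLinearMap :=
      Algebra.IsPushout.out (R := A) (S := A') (R' := B) (S' := B')
    refine hbc.inductionOn x
      (fun x => x ∈ (MvPolynomial.aeval (R := A') val').range) ?_ ?_ ?_ ?_
    · exact Subalgebra.zero_mem _
    · intro b
      obtain ⟨p, rfl⟩ := hα b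
      refine ⟨MvPolynomial.map (algebraMap A A') p, ?_⟩
      show MvPolynomial.aeval val' (MvPolynomial.map (algebraMap A A') p) =
        algebraMap B B' (α p)
      rw [key p, hGα]
    · intro r' n hn
      exact Subalgebra.smul_mem _ hn r'
    · intro n₁ n₂ h₁ h₂
      exact Subalgebra.add_mem _ h₁ h₂
  let α' : MvPolynomial (Fin n) A' →ₐ[A'] B' := MvPolynomial.aeval val'
  have hKα' : LCI.IsKoszulRegularIdeal (RingHom.ker α'.toRingHom) :=
    Groth.Agent.S9269.result A' B' m n β hβ α' hα' hKβ
  let G' : Algebra.Generators A' B' (Fin n) := Algebra.Generators.ofSurjective val' hα'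
  let f₀ : G.Hom G' := ⟨fun i => MvPolynomial.X i, fun i => by
    rw [MvPolynomial.aeval_X]; rfl⟩
  have hkG : LCI.IsKoszulRegularIdeal G.toExtension.ker := by
    have h0 : G.toExtension.ker = RingHom.ker α.toRingHom := by
      ext x
      show algebraMap G.Ring B x = 0 ↔ α x = 0
      rw [Algebra.Generators.algebraMap_apply, hGα]
    rw [h0]; exact hKα
  have hkG' : LCI.IsKoszulRegularIdeal G'.toExtension.ker := by
    have h0 : G'.toExtension.ker = RingHom.ker α'.toRingHom := by
      ext x
      show algebraMap G'.Ring B' x = 0 ↔ α' x = 0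
      rw [Algebra.Generators.algebraMap_apply]
      rfl
    rw [h0]; exact hKα'
  obtain ⟨hfin, hproj⟩ := KRegCot.extension_cotangent_finite_projective G.toExtension hkG
  obtain ⟨hfin', hproj'⟩ := KRegCot.extension_cotangent_finite_projective G'.toExtension hkG'
  haveI := hfin
  haveI := hproj
  haveI := hfin'
  haveI := hproj'
  have hφ : Function.Surjective (LinearMap.liftBaseChange B'
      (Algebra.Extension.Cotangent.map f₀.toExtensionHom)) :=
    Groth.Agent.S7221.cotangent_bc_surjective _
      (Groth.Agent.S7221.ker_le_map_of_adjoin _ (adjoin_range G G' f₀ (fun i => rfl)))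
  have hψ := (cotangentSpace_bc_bijective (S' := B') G G' f₀ (fun i => rfl)).1
  have h1 := NLbc.ker_finite_projective _ hφ
  have h2 := NLbc.ker_bcH1Map_finite_projective_of f₀.toExtensionHom hψ h1
  exact NLbc.transfer
    (u := (G.defaultHom (Algebra.Generators.self A B)).toExtensionHom)
    (u' := ((Algebra.Generators.self A B).defaultHom G).toExtensionHom)
    (w := ((Algebra.Generators.self A' B').defaultHom G').toExtensionHom)
    (w' := (G'.defaultHom (Algebra.Generators.self A' B')).toExtensionHom)
    f₀.toExtensionHom _ h2

end Groth.Agent.S7223
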