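import Groth.Statements.S7225
import Mathlib

set_option autoImplicit false
universe u
open CategoryTheory CategoryTheory.Limits TensorProduct
attribute [local instance] HasDerivedCategory.standard
open FlatMor

namespace Groth.Agent.S7225

section Poly

attribute [local instance] MvPolynomial.algebraMvPolynomial

variable {A A' B : Type u} [CommRing A] [CommRing A'] [CommRing B] [Algebra A A']
  (M : Submonoid A) [IsLocalization M A'] {ι : Type u}

theorem exists_lift (q : MvPolynomial ι A') :
    ∃ m ∈ M, ∃ p : MvPolynomial ι A,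
      MvPolynomial.map (algebraMap A A') p = MvPolynomial.C (algebraMap A A' m) * q := by
  obtain ⟨⟨p, s⟩, hp⟩ := IsLocalization.surj (M.map (MvPolynomial.C (σ := ι))) q
  obtain ⟨m, hm, hms⟩ := Submonoid.mem_map.mp s.2
  refine ⟨m, hm, p, ?_⟩
  have hp' : q * MvPolynomial.map (algebraMap A A') (s : MvPolynomial ι A) =
      MvPolynomial.map (algebraMap A A') p := hp
  rw [← hp', ← hms, MvPolynomial.map_C, mul_comm]

theorem exists_mul_mem (I : Ideal (MvPolynomial ι A)) (p : MvPolynomial ι A)
    (hp : MvPolynomial.map (algebraMap A A') p ∈ I.map (MvPolynomial.map (algebraMap A A'))) :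
    ∃ m ∈ M, MvPolynomial.C m * p ∈ I := by
  have hp' : algebraMap (MvPolynomial ι A) (MvPolynomial ι A') p ∈
      I.map (algebraMap (MvPolynomial ι A) (MvPolynomial ι A')) := hp
  rw [IsLocalization.mem_map_algebraMap_iff (M.map (MvPolynomial.C (σ := ι)))
    (MvPolynomial ι A')] at hp'
  obtain ⟨⟨i, s⟩, hs⟩ := hp'
  have hs' : algebraMap (MvPolynomial ι A) (MvPolynomial ι A') (p * (s : MvPolynomial ι A)) =
      algebraMap (MvPolynomial ι A) (MvPolynomial ι A') (i : MvPolynomial ι A) := by
    rw [map_mul]; exact hs
  rw [IsLocalization.eq_iff_exists (M.map (MvPolynomial.C (σ := ι))) (MvPolynomial ι A')] at hs'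
  obtain ⟨c, hc⟩ := hs'
  obtain ⟨m1, hm1, hc1⟩ := Submonoid.mem_map.mp c.2
  obtain ⟨m2, hm2, hs2⟩ := Submonoid.mem_map.mp s.2
  refine ⟨m1 * m2, M.mul_mem hm1 hm2, ?_⟩
  have e : MvPolynomial.C (m1 * m2) * p = (c : MvPolynomial ι A) * (i : MvPolynomial ι A) := by
    rw [← hc, ← hc1, ← hs2, map_mul]; ring
  rw [e]
  exact I.mul_mem_left _ i.2

theorem map_under_eq (M : Submonoid A) [IsLocalization M A'] (J : Ideal (MvPolynomial ι A')) :
    (J.comap (MvPolynomial.map (algebraMap A A'))).map (MvPolynomial.map (algebraMap A A')) = J :=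
  IsLocalization.map_under (M.map (MvPolynomial.C (σ := ι))) (MvPolynomial ι A') J

theorem exists_mul_mem_sq (g : MvPolynomial ι A →+* B) (g' : MvPolynomial ι A' →+* B)
    (hgg : ∀ p, g' (MvPolynomial.map (algebraMap A A') p) = g p) (p : MvPolynomial ι A)
    (hp : MvPolynomial.map (algebraMap A A') p ∈ RingHom.ker g' ^ 2) :
    ∃ m ∈ M, MvPolynomial.C m * p ∈ RingHom.ker g ^ 2 := by
  have hcomap : (RingHom.ker g').comap (MvPolynomial.map (algebraMap A A')) = RingHom.ker g := by
    ext x
    rw [Ideal.mem_comap, RingHom.mem_ker, RingHom.mem_ker, hgg]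
  have hkermap : (RingHom.ker g).map (MvPolynomial.map (algebraMap A A')) = RingHom.ker g' := by
    rw [← hcomap]; exact map_under_eq M _
  refine exists_mul_mem (A' := A') M _ p ?_
  rw [Ideal.map_pow, hkermap]
  exact hp

end Poly

theorem aeval_X_eq_map {A A' : Type u} [CommRing A] [CommRing A'] [Algebra A A'] {ι : Type u}
    (p : MvPolynomial ι A) :
    MvPolynomial.aeval (R := A) (fun i => (MvPolynomial.X i : MvPolynomial ι A')) p =
      MvPolynomial.map (algebraMap A A') p := by
  induction p using MvPolynomial.induction_on with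
  | C a => rw [MvPolynomial.aeval_C, MvPolynomial.map_C]; rfl
  | add p q hp hq => rw [map_add, map_add, hp, hq]
  | mul_X p i hp => rw [map_mul, map_mul, hp, MvPolynomial.aeval_X, MvPolynomial.map_X]

theorem isIso_map_of_bijective {R S R' : Type u} [CommRing R] [CommRing S] [Algebra R S]
    [CommRing R'] [Algebra R' S] [Algebra R R'] [IsScalarTower R R' S]
    {P : Algebra.Extension.{u} R S} {P' : Algebra.Extension.{u} R' S} (f : P.Hom P')
    (h1 : Function.Bijective (Algebra.Extension.Cotangent.map f))
    (h2 : Function.Bijective (Algebra.Extension.CotangentSpace.map f)) :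
    IsIso (NLCx.map f) := by
  have : ∀ n : ℤ, IsIso ((NLCx.map f).f n) := by
    intro n
    by_cases hn : n = -1
    · subst hn
      unfold NLCx.map
      rw [HomologicalComplex.mkHomFromDouble_f₀]
      refine IsIso.comp_isIso' inferInstance (IsIso.comp_isIso' ?_ inferInstance)
      exact (ConcreteCategory.isIso_iff_bijective _).mpr h1
    · by_cases hn0 : n = 0
      · subst hn0
        unfold NLCx.map
        rw [HomologicalComplex.mkHomFromDouble_f₁]
        refine IsIso.comp_isIso' inferInstance (IsIso.comp_isIso' ?_ inferInstance)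
        exact (ConcreteCategory.isIso_iff_bijective _).mpr h2
      · have z1 : IsZero ((NLCx.cx P).X n) := HomologicalComplex.isZero_double_X _ _ n hn hn0
        have z2 : IsZero ((NLCx.cx P').X n) := HomologicalComplex.isZero_double_X _ _ n hn hn0
        exact ⟨⟨0, z1.eq_of_src _ _, z2.eq_of_src _ _⟩⟩
  exact HomologicalComplex.Hom.isIso_of_components _

theorem cotangent_map_bijective {R S R' : Type u} [CommRing R] [CommRing S] [Algebra R S]
    [CommRing R'] [Algebra R' S] [Algebra R R'] [IsScalarTower R R' S]
    {P : Algebra.Extension.{u} R S} {P' : Algebra.Extension.{u} R' S} (f : P.Hom P')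
    (M : Submonoid R)
    (H1 : ∀ q : P'.Ring, ∃ m ∈ M, ∃ p : P.Ring,
      f.toRingHom p = algebraMap R' P'.Ring (algebraMap R R' m) * q)
    (H2 : ∀ p : P.Ring, f.toRingHom p ∈ P'.ker ^ 2 →
      ∃ m ∈ M, algebraMap R P.Ring m * p ∈ P.ker ^ 2)
    (H4 : ∀ m ∈ M, IsUnit (algebraMap R S m)) :
    Function.Bijective (Algebra.Extension.Cotangent.map f) := by
  have hcomm : ∀ p : P.Ring, algebraMap P'.Ring S (f.toRingHom p) = algebraMap P.Ring S p :=
    fun p => f.algebraMap_toRingHom p
  have hN : ∀ m : R, algebraMap P.Ring S (algebraMap R P.Ring m) = algebraMap R S m :=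
    fun m => (IsScalarTower.algebraMap_apply R P.Ring S m).symm
  constructor
  · rw [injective_iff_map_eq_zero]
    intro x hx
    obtain ⟨⟨p, hp⟩, rfl⟩ := Algebra.Extension.Cotangent.mk_surjective x
    rw [Algebra.Extension.Cotangent.map_mk, Algebra.Extension.Cotangent.mk_eq_zero_iff] at hx
    obtain ⟨m, hm, hmp⟩ := H2 p hx
    have h0 : (algebraMap R P.Ring m) • Algebra.Extension.Cotangent.mk (⟨p, hp⟩ : P.ker) = 0 := by
      rw [← LinearMap.map_smul, Algebra.Extension.Cotangent.mk_eq_zero_iff]
      exact hmp
    have h1 : (algebraMap R S m) • Algebra.Extension.Cotangent.mk (⟨p, hp⟩ : P.ker) = 0 := by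
      rw [← hN m, algebraMap_smul]; exact h0
    exact (H4 m hm).smul_eq_zero.mp h1
  · intro y
    obtain ⟨⟨q, hq⟩, rfl⟩ := Algebra.Extension.Cotangent.mk_surjective y
    obtain ⟨m, hm, p, hpq⟩ := H1 q
    rw [← f.toRingHom_algebraMap m] at hpq
    have hp : p ∈ P.ker := by
      rw [RingHom.mem_ker, ← hcomm p, hpq, map_mul, RingHom.mem_ker.mp hq, mul_zero]
    obtain ⟨b, hb⟩ := (H4 m hm).exists_left_inv
    refine ⟨b • Algebra.Extension.Cotangent.mk ⟨p, hp⟩, ?_⟩
    have e1 : Algebra.Extension.Cotangent.map f (Algebra.Extension.Cotangent.mk ⟨p, hp⟩) =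
        (f.toRingHom (algebraMap R P.Ring m)) •
          Algebra.Extension.Cotangent.mk (⟨q, hq⟩ : P'.ker) := by
      rw [Algebra.Extension.Cotangent.map_mk, ← LinearMap.map_smul]
      congr 1
      exact Subtype.ext hpq
    have e2 : (f.toRingHom (algebraMap R P.Ring m)) •
          Algebra.Extension.Cotangent.mk (⟨q, hq⟩ : P'.ker) =
        (algebraMap R S m) • Algebra.Extension.Cotangent.mk (⟨q, hq⟩ : P'.ker) := by
      rw [← hN m, ← hcomm, algebraMap_smul]
    rw [LinearMap.map_smul, e1, e2, smul_smul, hb, one_smul]

section Main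

variable {A A' B : Type u} [CommRing A] [CommRing A'] [CommRing B]
  [Algebra A A'] [Algebra A' B] [Algebra A B] [IsScalarTower A A' B]
  {ι : Type u} (G : Algebra.Generators A B ι) (G' : Algebra.Generators A' B ι)
  (hval : G'.val = G.val)

/-- The morphism of extensions `A[x] → A'[x]` given by mapping coefficients. -/
noncomputable def baseHom : G.toExtension.Hom G'.toExtension where
  toRingHom := MvPolynomial.map (algebraMap A A')
  toRingHom_algebraMap := fun a => MvPolynomial.map_C _ a
  algebraMap_toRingHom := fun p => by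
    show algebraMap G'.Ring B (MvPolynomial.map (algebraMap A A') p) = algebraMap G.Ring B p
    rw [Algebra.Generators.algebraMap_apply, Algebra.Generators.algebraMap_apply,
      MvPolynomial.aeval_map_algebraMap A' G'.val p, hval]

theorem cotangentSpace_map_bijective :
    Function.Bijective (Algebra.Extension.CotangentSpace.map (baseHom G G' hval)) := by
  have key : Algebra.Extension.CotangentSpace.map (baseHom G G' hval) =
      (G.cotangentSpaceBasis.equiv G'.cotangentSpaceBasis (Equiv.refl ι)).toLinearMap := by
    apply G.cotangentSpaceBasis.ext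
    intro i
    have e1 : Algebra.Extension.CotangentSpace.map (baseHom G G' hval) (G.cotangentSpaceBasis i) =
        G'.cotangentSpaceBasis i := by
      have a1 := Algebra.Extension.CotangentSpace.map_tmul (baseHom G G' hval) (1 : B)
        (MvPolynomial.X i)
      rw [Algebra.Generators.cotangentSpaceBasis_apply,
        Algebra.Generators.cotangentSpaceBasis_apply]
      refine a1.trans ?_
      rw [map_one]
      have e0 : (baseHom G G' hval).toAlgHom (MvPolynomial.X i) = MvPolynomial.X i :=
        MvPolynomial.map_X _ i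
      rw [e0]
      rfl
    rw [e1]
    simp
  rw [key]
  exact LinearEquiv.bijective _

end Main

/-- Let A be a ring, M a submonoid of A, A' a localization of A at M and B an A'-algebra, viewed also as
an A-algebra. Let G be a presentation of B over A by a polynomial algebra and G' the presentation of
B over A' with the same generators (G'(i) = G(i), written through the identity algebra map of B).
Then the canonical chain map NL(G) → NL(G') from the naive cotangent complex of the presentation
over A to that of the presentation over A' is an isomorphism of complexes (so that NL_{B/A} →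
NL_{B/A'} is a homotopy equivalence). -/
theorem result (A A' B : Type u) [CommRing A] [CommRing A'] [CommRing B]
    [Algebra A A'] (M : Submonoid A) [IsLocalization M A'] [Algebra A' B] [Algebra A B] [IsScalarTower A A' B]
    {ι : Type u} (G : Algebra.Generators A B ι) (G' : Algebra.Generators A' B ι) (h : ∀ i, G'.val i = algebraMap B B (G.val i)) :
    IsIso (NLCx.map (NLCx.sameVarsHom (S' := B) G G' h).toExtensionHom) := by
  have hval : G'.val = G.val := funext fun i => (h i).trans rfl
  have hf : (NLCx.sameVarsHom (S' := B) G G' h).toExtensionHom = baseHom G G' hval :=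
    Algebra.Extension.Hom.ext (RingHom.ext fun p => aeval_X_eq_map p)
  rw [hf]
  refine isIso_map_of_bijective _ (cotangent_map_bijective _ M ?_ ?_ ?_)
    (cotangentSpace_map_bijective G G' hval)
  · intro q
    exact exists_lift M q
  · intro p hp
    exact exists_mul_mem_sq M (algebraMap G.Ring B) (algebraMap G'.Ring B)
      (baseHom G G' hval).algebraMap_toRingHom p hp
  · intro m hm
    rw [IsScalarTower.algebraMap_apply A A' B]
    exact (IsLocalization.map_units A' ⟨m, hm⟩).map (algebraMap A' B)

end Groth.Agent.S7225
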