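import Groth.Statements.S7254
import Groth.Agent.Lib.Helper13.KInjSch
import Groth.Agent.Lib.Helper13.CycleVanish

set_option autoImplicit false
universe u
open CategoryTheory CategoryTheory.Limits AlgebraicGeometry
attribute [local instance] HasDerivedCategory.standard
open Perf

namespace Groth.Agent.S7254

/-- Let X be a scheme, F an additive functor from O_X-modules to abelian groups and N ≥ 0 an integer
such that F commutes with countable direct products and RᵖF(G) = 0 (right derived functors computed
with injective resolutions) for every p ≥ N and every quasi-coherent O_X-module G. Assume the total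
right derived functor RF : D(O_X) ⥤ D(Ab) exists. If E ∈ D(O_X) has quasi-coherent cohomology
sheaves and Hⁱ(E) = 0 for i ∉ [a, b], then Hⁱ(RF(E)) = 0 for i ∉ [a, b + N - 1]. -/
theorem result {X : Scheme.{u}} (F : X.Modules ⥤ AddCommGrpCat.{u}) [F.Additive]
    [PreservesLimitsOfShape (Discrete ℕ) F] [HasInjectiveResolutions X.Modules] (N : ℕ)
    (hF : ∀ G : X.Modules, Coh.IsQCoh G → ∀ p : ℕ, N ≤ p → IsZero ((F.rightDerived p).obj G))
    [(F.mapHomotopyCategory (ComplexShape.up ℤ) ⋙ DerivedCategory.Qh).HasRightDerivedFunctor (HomotopyCategory.quasiIso X.Modules (ComplexShape.up ℤ))]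
    (E : DCoh.D X) (hE : DCoh.IsQCohD E) (a b : ℤ) (hab : ∀ i : ℤ, i < a ∨ b < i → IsZero (DCoh.HD E i))
    (i : ℤ) (hi : i < a ∨ b + N - 1 < i) :
    IsZero ((DerivedCategory.homologyFunctor AddCommGrpCat.{u} i).obj
      (((F.mapHomotopyCategory (ComplexShape.up ℤ) ⋙ DerivedCategory.Qh).totalRightDerived DerivedCategory.Qh
        (HomotopyCategory.quasiIso X.Modules (ComplexShape.up ℤ))).obj E)) := by
  haveI : EnoughInjectives X.Modules :=
    Groth.Agent.Lib.Helper13.ModGrothendieck.enoughInjectives X.ringCatSheaf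
  haveI : E.IsGE a := (DerivedCategory.isGE_iff E a).2 (fun j hj => hab j (Or.inl hj))
  obtain ⟨K, hK, ⟨e⟩⟩ := DerivedCategory.exists_iso_Q_obj_of_isGE E a
  obtain ⟨L, ι, hι, hL, hLn⟩ :=
    CochainComplex.Plus.modelCategoryQuillen.exists_quasiIso_injective K a
  have hLK : L.IsKInjective := CochainComplex.isKInjective_of_injective L a
  haveI : IsIso (DerivedCategory.Q.map ι) := (DerivedCategory.isIso_Q_map_iff_quasiIso _ ι).2 hι
  let eL : E ≅ DerivedCategory.Q.obj L := e ≪≫ asIso (DerivedCategory.Q.map ι)
  have e2 : ((F.mapHomotopyCategory (ComplexShape.up ℤ) ⋙ DerivedCategory.Qh).totalRightDerived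
      DerivedCategory.Qh (HomotopyCategory.quasiIso X.Modules (ComplexShape.up ℤ))).obj E ≅
      DerivedCategory.Q.obj ((F.mapHomologicalComplex (ComplexShape.up ℤ)).obj L) :=
    ((F.mapHomotopyCategory (ComplexShape.up ℤ) ⋙ DerivedCategory.Qh).totalRightDerived
      DerivedCategory.Qh (HomotopyCategory.quasiIso X.Modules (ComplexShape.up ℤ))).mapIso eL ≪≫
      Groth.Agent.Lib.Helper13.KInjCompute.iso F
        (Groth.Agent.Lib.Helper13.KInjSch.hasKInj X) L hLK
  have e3 : (DerivedCategory.homologyFunctor AddCommGrpCat.{u} i).obj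
      (((F.mapHomotopyCategory (ComplexShape.up ℤ) ⋙ DerivedCategory.Qh).totalRightDerived
        DerivedCategory.Qh (HomotopyCategory.quasiIso X.Modules (ComplexShape.up ℤ))).obj E) ≅
      ((F.mapHomologicalComplex (ComplexShape.up ℤ)).obj L).homology i :=
    (DerivedCategory.homologyFunctor AddCommGrpCat.{u} i).mapIso e2 ≪≫
      (DerivedCategory.homologyFunctorFactors AddCommGrpCat.{u} i).app _
  refine IsZero.of_iso ?_ e3
  rw [← HomologicalComplex.exactAt_iff_isZero_homology]
  rcases hi with hi | hi
  · exact HomologicalComplex.ExactAt.of_isZero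
      (F.map_isZero (CochainComplex.isZero_of_isStrictlyGE L a i hi))
  · have eH : ∀ k : ℤ, L.homology k ≅ DCoh.HD E k := fun k =>
      ((DerivedCategory.homologyFunctorFactors X.Modules k).app L).symm ≪≫
        (DerivedCategory.homologyFunctor X.Modules k).mapIso eL.symm
    refine Groth.Agent.Lib.Helper13.CycleVanish.exactAt_map L F a b N ?_ ?_ i hi
    · intro k p hp
      exact IsZero.of_iso (hF _ (hE k) p hp) ((F.rightDerived p).mapIso (eH k))
    · intro k hk
      exact IsZero.of_iso (hab k (Or.inr hk)) (eH k)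

end Groth.Agent.S7254
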