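import Groth.Statements.S7289
import Mathlib
import Groth.Agent.Lib.Helper8.IndEtStar

set_option autoImplicit false
open CategoryTheory CategoryTheory.Limits AlgebraicGeometry Opposite
universe u
open ProEtW

namespace Groth.Agent.S7289

/-- Ind-etale A-algebras are stable under filtered colimits, i.e. any colimit over a filtered index
category of such algebras is again ind-etale over A. Concretely: if D is a filtered diagram of rings
under A all of whose values are ind-etale A-algebras, and the A-algebra B is a colimit of D in the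
category of rings under A, then B is ind-etale over A. -/
theorem result (A B : Type u) [CommRing A] [CommRing B] [Algebra A B]
    {J : Type u} [SmallCategory J] [IsFiltered J] (D : J ⥤ Under (CommRingCat.of A))
    (hD : ∀ j, letI := (D.obj j).hom.hom.toAlgebra; EtPBC.IsIndEtale A ↥(D.obj j).right)
    (c : Cocone D) (hc : IsColimit c)
    (e : c.pt ≅ Under.mk (CommRingCat.ofHom (algebraMap A B))) :
    EtPBC.IsIndEtale A B := by
  open Groth.Agent.Lib.Helper8.IndEt Groth.Agent.Lib.Helper8.WeakColim in
  obtain ⟨alg, halg, tr, φ, hW⟩ := exists_isWeakColim_of_isColimit D c hc e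
  open Groth.Agent.Lib.Helper8.IndEt Groth.Agent.Lib.Helper8.WeakColim in
  have hst : ∀ j, IndEtaleStar A (D.obj j).right := fun j => by
    have := hD j
    rw [← halg j] at this
    exact indEtaleStar_of_isIndEtale this
  apply Groth.Agent.Lib.Helper8.IndEt.IndEtaleStar.isIndEtale
  refine ⟨fun b => ?_, fun E _ _ _ ψ x hx => ?_⟩
  · obtain ⟨j, y, rfl⟩ := hW.surj b
    obtain ⟨E, _, _, _, χ, z, rfl⟩ := (hst j).1 y
    exact ⟨E, inferInstance, inferInstance, inferInstance, (φ j).comp χ, z, rfl⟩
  · obtain ⟨j₀⟩ := hW.nonempty_index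
    obtain ⟨j, -, σ, hσ⟩ := hW.exists_lift_of_finitePresentation ψ j₀
    have h0 : φ j (σ x) = 0 := by
      have := AlgHom.congr_fun hσ x
      simp only [AlgHom.comp_apply] at this
      rw [this, hx]
    obtain ⟨k, f, hk⟩ := hW.ker j _ h0
    obtain ⟨E', _, _, _, ψ', χ', h1, h2⟩ := (hst k).2 E ((tr f).comp σ) x hk
    refine ⟨E', inferInstance, inferInstance, inferInstance, ψ', (φ k).comp χ', ?_, h2⟩
    rw [AlgHom.comp_assoc, h1, ← AlgHom.comp_assoc, hW.alg_compat, hσ]

end Groth.Agent.S7289
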