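import Groth.Statements.S7290
import Mathlib

set_option autoImplicit false
open CategoryTheory CategoryTheory.Limits AlgebraicGeometry Opposite
universe u
open ProEtW

namespace Groth.Agent.S7290

/-- Constructible subsets of `Spec A` are determined by a finite vanishing pattern. -/
lemma exists_finset_saturated (A : Type u) [CommRing A] {T : Set (PrimeSpectrum A)}
    (hT : Topology.IsConstructible T) :
    ∃ E : Finset A, ∀ y y' : PrimeSpectrum A,
      (∀ f ∈ E, f ∈ y.asIdeal ↔ f ∈ y'.asIdeal) → (y ∈ T ↔ y' ∈ T) := by
  classical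
  induction hT using Topology.IsConstructible.empty_union_induction with
  | open_retrocompact U hUopen hUcomp =>
    obtain ⟨t, rfl⟩ := PrimeSpectrum.isCompact_isOpen_iff.mp ⟨hUcomp.isCompact, hUopen⟩
    refine ⟨t, fun y y' h => ?_⟩
    simp only [Set.mem_compl_iff, PrimeSpectrum.mem_zeroLocus, Set.subset_def, Finset.mem_coe,
      SetLike.mem_coe]
    constructor
    · intro hy hall
      exact hy (fun f hf => (h f hf).mpr (hall f hf))
    · intro hy hall
      exact hy (fun f hf => (h f hf).mp (hall f hf))
  | union s hs t ht ihs iht =>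
    obtain ⟨E1, h1⟩ := ihs
    obtain ⟨E2, h2⟩ := iht
    refine ⟨E1 ∪ E2, fun y y' h => ?_⟩
    have e1 := h1 y y' (fun f hf => h f (Finset.mem_union_left _ hf))
    have e2 := h2 y y' (fun f hf => h f (Finset.mem_union_right _ hf))
    simp only [Set.mem_union, e1, e2]
  | compl s hs ih =>
    obtain ⟨E, h⟩ := ih
    exact ⟨E, fun y y' hyy' => by simp only [Set.mem_compl_iff, h y y' hyy']⟩


/-- Let A be a ring and let Spec A be the disjoint union of finitely many constructible subsets T_i.
Then there is a finite subset E of A such that the stratification of Spec A according to which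
elements of E vanish at a point refines the given one: each nonempty stratum, consisting of the
primes whose intersection with E is a prescribed subset, is contained in one of the T_i. -/
theorem result (A : Type u) [CommRing A] {ι : Type u} [Finite ι]
    (T : ι → Set (PrimeSpectrum A)) (hT : ∀ i, Topology.IsConstructible (T i))
    (hcov : ⋃ i, T i = Set.univ) (hdisj : Pairwise fun i j => Disjoint (T i) (T j)) :
    ∃ E : Finset A, ∀ E'' : Finset A, E'' ⊆ E →
      ∀ x : PrimeSpectrum A, (∀ f ∈ E, f ∈ x.asIdeal ↔ f ∈ E'') →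
        ∃ i, {y : PrimeSpectrum A | ∀ f ∈ E, f ∈ y.asIdeal ↔ f ∈ E''} ⊆ T i := by
  classical
  haveI := Fintype.ofFinite ι
  choose E hE using fun i => exists_finset_saturated A (hT i)
  refine ⟨Finset.univ.biUnion E, fun E'' _ x hx => ?_⟩
  have hxmem : x ∈ ⋃ i, T i := hcov ▸ Set.mem_univ x
  obtain ⟨i, hi⟩ := Set.mem_iUnion.mp hxmem
  refine ⟨i, fun y hy => ?_⟩
  refine (hE i y x (fun f hf => ?_)).mpr hi
  have hfE : f ∈ Finset.univ.biUnion E := Finset.mem_biUnion.mpr ⟨i, Finset.mem_univ i, hf⟩
  exact (hy f hfE).trans (hx f hfE).symm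

end Groth.Agent.S7290
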