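import Groth.Statements.S7291
-- import your own Groth.Agent.* helpers here
import Mathlib
import Groth.Agent.Lib.Helper12.HCoverNoeth
import Groth.Agent.Lib.Helper12.SrcLimSubtr
import Groth.Agent.S14768

set_option autoImplicit false
open CategoryTheory CategoryTheory.Limits AlgebraicGeometry Opposite
universe w u
open HTop

namespace Groth.Agent.S7291

set_option backward.isDefEq.respectTransparency false

attribute [local instance] IsCofiltered.isConnected

lemma hasValLift_singleton_univ {X Y : Scheme.{u}} (f : X ⟶ Y)
    (h : HTop.HasValLift (PreZeroHypercover.singleton.{w} f)) :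
    HTop.HasValLift (PreZeroHypercover.singleton.{u} f) := by
  intro V _ _ g
  obtain ⟨W, hW1, hW2, φ, hφ, j, g', hg'⟩ := h V g
  exact ⟨W, hW1, hW2, φ, hφ, PUnit.unit, g', hg'⟩

lemma hasValLift_singleton_univ' {X Y : Scheme.{u}} (f : X ⟶ Y)
    (h : HTop.HasValLift (PreZeroHypercover.singleton.{u} f)) :
    HTop.HasValLift (PreZeroHypercover.singleton.{w} f) := by
  intro V _ _ g
  obtain ⟨W, hW1, hW2, φ, hφ, j, g', hg'⟩ := h V g
  exact ⟨W, hW1, hW2, φ, hφ, PUnit.unit, g', hg'⟩


/-- Let Y be an affine scheme and let X be the limit (as a scheme) of a cofiltered system of affine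
schemes X_i over Y. Then the one-member family X over Y is a standard V covering exactly when, for
every i, the one-member family X_i over Y is a standard V covering. -/
theorem result {Y : Scheme.{u}} [IsAffine Y]
    {I : Type u} [SmallCategory I] [IsCofiltered I] (D : I ⥤ Over Y) [∀ i, IsAffine (D.obj i).left]
    (c : Cone D) (hc : IsLimit ((Over.forget Y).mapCone c)) :
    HTop.IsStandardV (PreZeroHypercover.singleton.{w} c.pt.hom) ↔
      ∀ i, HTop.IsStandardV (PreZeroHypercover.singleton.{w} (D.obj i).hom) := by
  classical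
  constructor
  · intro h i
    refine ⟨inferInstance, inferInstanceAs (Finite PUnit), fun _ => inferInstanceAs (IsAffine (D.obj i).left), ?_⟩
    intro V _ _ g
    obtain ⟨W, hW1, hW2, φ, hφ, j, g', hg'⟩ := h.lift V g
    let g'' : Spec W ⟶ c.pt.left := g'
    have hg'' : g'' ≫ c.pt.hom = Spec.map φ ≫ g := hg'
    refine ⟨W, hW1, hW2, φ, hφ, PUnit.unit, (show Spec W ⟶ (D.obj i).left from g'' ≫ (c.π.app i).left), ?_⟩
    show (g'' ≫ (c.π.app i).left) ≫ (D.obj i).hom = Spec.map φ ≫ g
    rw [Category.assoc, Over.w]
    exact hg''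
  · intro h
    haveI hAffD : ∀ i, IsAffine ((D ⋙ Over.forget Y).obj i) := fun i =>
      inferInstanceAs (IsAffine (D.obj i).left)
    haveI hAffPt : IsAffine c.pt.left := Scheme.isAffine_of_isLimit _ hc
    refine ⟨inferInstance, inferInstanceAs (Finite PUnit), fun _ => hAffPt, ?_⟩
    apply hasValLift_singleton_univ'
    haveI : QuasiCompact c.pt.hom := inferInstance
    apply Groth.Agent.Lib.Helper12.HCoverNoeth.hasValLift_singleton_of_univSSubtrusive
    rw [Groth.Agent.S14768.result]
    intro V _ _ _ g
    -- the stages are S-subtrusive after base change to `Spec V`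
    have hst : ∀ i, Subtr.IsSSubtrusive (pullback.snd (D.obj i).hom g) := by
      intro i
      have h1 := hasValLift_singleton_univ _ (h i).lift
      haveI : QuasiCompact (D.obj i).hom := inferInstance
      rw [(Groth.Agent.S7476.result.{u, 0, 0, u} (D.obj i).hom).2] at h1
      intro z z' hzz'
      obtain ⟨w', w, hww', hw', hw⟩ := h1 _ g z' z hzz'
      let e : pullback g (D.obj i).hom ⟶ pullback (D.obj i).hom g :=
        (pullbackSymmetry g (D.obj i).hom).hom
      have he : e ≫ pullback.snd (D.obj i).hom g = pullback.fst g (D.obj i).hom :=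
        pullbackSymmetry_hom_comp_snd _ _
      refine ⟨e w, e w', hww'.map e.continuous, ?_, ?_⟩
      · rw [← Scheme.Hom.comp_apply, he]; exact hw
      · rw [← Scheme.Hom.comp_apply, he]; exact hw'
    -- the limit of the base changes
    have hcO : IsLimit c := isLimitOfReflects (Over.forget Y) hc
    have hcZ : IsLimit ((Over.pullback g).mapCone c) := isLimitOfPreserves (Over.pullback g) hcO
    have hcS : IsLimit ((Over.forget _).mapCone ((Over.pullback g).mapCone c)) :=
      isLimitOfPreserves (Over.forget _) hcZ
    haveI : ∀ i, IsAffine ((D ⋙ Over.pullback g ⋙ Over.forget _).obj i) := fun i =>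
      inferInstanceAs (IsAffine (pullback (D.obj i).hom g))
    refine Groth.Agent.Lib.Helper12.SrcLimSubtr.isSSubtrusive_of_isLimit
      (D ⋙ Over.pullback g ⋙ Over.forget _) _ hcS
      (fun i => pullback.snd (D.obj i).hom g) ?_ hst _ ?_
    · intro i j a
      exact Over.w ((Over.pullback g).map (D.map a))
    · intro i
      exact Over.w ((Over.pullback g).map (c.π.app i))

end Groth.Agent.S7291
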