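import Groth.Statements.S7296
import Mathlib

set_option autoImplicit false
open CategoryTheory CategoryTheory.Limits AlgebraicGeometry Opposite
universe u
open ProEtS

namespace Groth.Agent.S7296

section Aux
variable {C : Type*} [Category C] [Abelian C] [HasInjectiveResolutions C]
  {D : Type*} [Category D] [Abelian D]

/-- The higher right derived functors of an exact functor vanish (with `HasInjectiveResolutions`). -/
theorem isZero_rightDerived_succ_of_exact' (F : C ⥤ D) [F.Additive] [PreservesFiniteLimits F]
    [PreservesFiniteColimits F] (n : ℕ) (X : C) :
    IsZero ((F.rightDerived (n + 1)).obj X) := by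
  let I : InjectiveResolution X := Classical.choice (HasInjectiveResolution.out (Z := X))
  refine IsZero.of_iso ?_ (I.isoRightDerivedObj F (n + 1))
  erw [← HomologicalComplex.exactAt_iff_isZero_homology]
  have h : I.cocomplex.ExactAt (n + 1) := I.cocomplex_exactAt_succ n
  exact ShortComplex.Exact.map h F
end Aux

set_option backward.isDefEq.respectTransparency.types false in
theorem topology_eq_restricted (S : Scheme.{u}) : Scheme.ProEt.topology S =
    (Scheme.ProEt.forget S).restrictedTopology (Scheme.proetaleTopology.over S) :=
  MorphismProperty.toGrothendieck_comap_forget_eq_restrictedTopology (P := @WeaklyEtale) _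
    Scheme.proetalePrecoverage_le_precoverage_weaklyEtale

theorem isCocontinuous_forget (S : Scheme.{u}) :
    (Scheme.ProEt.forget S).IsCocontinuous (Scheme.ProEt.topology S)
      (Scheme.proetaleTopology.over S) := by
  rw [topology_eq_restricted]
  infer_instance

theorem isIso_ranCounit (S : Scheme.{u}) (G : (Scheme.ProEt S)ᵒᵖ ⥤ AddCommGrpCat.{u + 1}) :
    IsIso ((Scheme.ProEt.forget S).op.ranCounit.app G) := by
  infer_instance


/-- For an abelian sheaf F on the small pro-etale site of a scheme S: write u for the inclusion of the
small pro-etale site into the big pro-etale site of S (schemes over S with the pro-etale topology),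
u_s for pullback of abelian sheaves along u (left adjoint to the restriction u^s). Then the unit F →
u^s u_s F is an isomorphism and R^q u^s (u_s F) = 0 for every q > 0; together these say that F → R
u^s (u_s F) is an isomorphism. (Additivity of the restriction functor and the existence of injective
resolutions for abelian sheaves on the big pro-etale site, both of which hold, are recorded as
instance hypotheses.) -/
theorem result (S : Scheme.{u})
    [((Scheme.ProEt.forget S).sheafPushforwardContinuous AddCommGrpCat.{u + 1} (Scheme.ProEt.topology S)
      (Scheme.proetaleTopology.over S)).Additive]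
    [HasInjectiveResolutions (Sheaf (Scheme.proetaleTopology.over S) AddCommGrpCat.{u + 1})]
    (F : ProEtS.AbP S) :
    IsIso (((Scheme.ProEt.forget S).sheafAdjunctionContinuous AddCommGrpCat.{u + 1}
      (Scheme.ProEt.topology S) (Scheme.proetaleTopology.over S)).unit.app F) ∧
    ∀ q : ℕ, 0 < q →
      IsZero ((((Scheme.ProEt.forget S).sheafPushforwardContinuous AddCommGrpCat.{u + 1}
        (Scheme.ProEt.topology S) (Scheme.proetaleTopology.over S)).rightDerived q).obj
        (((Scheme.ProEt.forget S).sheafPullback AddCommGrpCat.{u + 1} (Scheme.ProEt.topology S)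
          (Scheme.proetaleTopology.over S)).obj F)) := by
  haveI hcoc : (Scheme.ProEt.forget S).IsCocontinuous (Scheme.ProEt.topology S)
      (Scheme.proetaleTopology.over S) := isCocontinuous_forget S
  let adj₁ := (Scheme.ProEt.forget S).sheafAdjunctionContinuous AddCommGrpCat.{u + 1}
      (Scheme.ProEt.topology S) (Scheme.proetaleTopology.over S)
  let adj₂ := (Scheme.ProEt.forget S).sheafAdjunctionCocontinuous AddCommGrpCat.{u + 1}
      (Scheme.ProEt.topology S) (Scheme.proetaleTopology.over S)
  refine ⟨?_, ?_⟩
  · let t : Adjunction.Triple _ _ _ := ⟨adj₁, adj₂⟩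
    have hc : IsIso adj₂.counit := by
      rw [NatTrans.isIso_iff_isIso_app]
      intro G
      have h1 : IsIso ((sheafToPresheaf _ _).map (adj₂.counit.app G)) := by
        change IsIso (adj₂.counit.app G).hom
        rw [Functor.sheafAdjunctionCocontinuous_counit_app_hom, Functor.ranAdjunction_counit]
        exact isIso_ranCounit S G.obj
      exact isIso_of_fully_faithful (sheafToPresheaf _ _) _
    have hu : IsIso adj₁.unit := (t.isIso_unit_iff_isIso_counit).2 hc
    infer_instance
  · intro q hq
    obtain ⟨n, rfl⟩ : ∃ n, q = n + 1 := ⟨q - 1, by omega⟩
    haveI : PreservesFiniteColimits ((Scheme.ProEt.forget S).sheafPushforwardContinuous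
        AddCommGrpCat.{u + 1} (Scheme.ProEt.topology S) (Scheme.proetaleTopology.over S)) := by
      have : PreservesColimitsOfSize.{0, 0} ((Scheme.ProEt.forget S).sheafPushforwardContinuous
        AddCommGrpCat.{u + 1} (Scheme.ProEt.topology S) (Scheme.proetaleTopology.over S)) :=
        adj₂.leftAdjoint_preservesColimits
      exact PreservesColimitsOfSize.preservesFiniteColimits.{0, 0} _
    haveI : PreservesFiniteLimits ((Scheme.ProEt.forget S).sheafPushforwardContinuous
        AddCommGrpCat.{u + 1} (Scheme.ProEt.topology S) (Scheme.proetaleTopology.over S)) := by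
      have : PreservesLimitsOfSize.{0, 0} ((Scheme.ProEt.forget S).sheafPushforwardContinuous
        AddCommGrpCat.{u + 1} (Scheme.ProEt.topology S) (Scheme.proetaleTopology.over S)) :=
        adj₁.rightAdjoint_preservesLimits
      exact PreservesLimitsOfSize.preservesFiniteLimits.{0, 0} _
    exact isZero_rightDerived_succ_of_exact' _ n _

end Groth.Agent.S7296
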