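import Groth.Statements.S7317
import Mathlib

set_option autoImplicit false
open Finset
open Models Models.NumericalType

namespace Groth.Agent.S7317

lemma aii_neg {n : ℕ} (T : Models.NumericalType n) (hn : 1 < n) (i : Fin n) : T.a i i < 0 := by
  classical
  have hne : ({i} : Finset (Fin n)) ≠ Finset.univ := by
    intro h
    have := congrArg Finset.card h
    simp at this
    omega
  obtain ⟨i', hi', j, hj, hij⟩ := T.connected {i} (Finset.singleton_nonempty i) hne
  have hi'' : i' = i := Finset.mem_singleton.mp hi'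
  rw [hi''] at hij
  have hji : j ≠ i := fun h => hj (Finset.mem_singleton.mpr h)
  have hpos : 0 < T.a i j := lt_of_le_of_ne (T.offDiag_nonneg i j (Ne.symm hji)) (Ne.symm hij)
  have hsum : ∑ k, T.a i k * T.m k = 0 := by
    have := congrFun T.mulVec_m i
    simpa [Matrix.mulVec, dotProduct] using this
  rw [← Finset.add_sum_erase Finset.univ _ (Finset.mem_univ i)] at hsum
  have hrest : 0 < ∑ k ∈ Finset.univ.erase i, T.a i k * T.m k := by
    have hjmem : j ∈ Finset.univ.erase i := Finset.mem_erase.mpr ⟨hji, Finset.mem_univ j⟩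
    have hnonneg : ∀ k ∈ Finset.univ.erase i, 0 ≤ T.a i k * T.m k := fun k hk =>
      mul_nonneg (T.offDiag_nonneg i k (Ne.symm (Finset.ne_of_mem_erase hk))) (T.m_pos k).le
    calc 0 < T.a i j * T.m j := mul_pos hpos (T.m_pos j)
      _ ≤ _ := Finset.single_le_sum hnonneg hjmem
  have hlt : T.a i i * T.m i < 0 := by linarith
  by_contra hcon
  push_neg at hcon
  have := mul_nonneg hcon (T.m_pos i).le
  linarith


/-- Let T be a numerical type on n > 1 indices and i an index whose contribution m_i (w_i (g_i - 1) -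
a_ii / 2) to the genus is zero (stated as m_i (2 w_i (g_i - 1) - a_ii) = 0). Then g_i = 0 and a_ii =
-2 w_i, i.e. i is a (-2)-index. -/
theorem result {n : ℕ} (T : Models.NumericalType n) (hn : 1 < n) (i : Fin n)
    (h : T.m i * (2 * T.w i * (T.g i - 1) - T.a i i) = 0) : T.IsMinusTwo i := by
  have ha := aii_neg T hn i
  obtain ⟨k, hk⟩ := T.w_dvd i i
  have hw := T.w_pos i
  have hg := T.g_nonneg i
  have hm := T.m_pos i
  have h1 : 2 * T.w i * (T.g i - 1) - T.a i i = 0 := (mul_eq_zero.mp h).resolve_left hm.ne'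
  rw [hk] at h1 ha
  have hk_neg : k < 0 := by
    by_contra hcon
    push_neg at hcon
    have := mul_nonneg hw.le hcon
    linarith
  have h2 : 2 * (T.g i - 1) - k = 0 := by
    have h3 : T.w i * (2 * (T.g i - 1) - k) = 0 := by
      rw [← h1]
      ring
    exact (mul_eq_zero.mp h3).resolve_left hw.ne'
  have hg0 : T.g i = 0 := by omega
  have hk1 : k = -2 := by omega
  exact ⟨hg0, by rw [hk, hk1]; ring⟩

end Groth.Agent.S7317
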