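import Groth.Statements.S7318
import Mathlib

set_option autoImplicit false
open Finset
open Models Models.NumericalType

namespace Groth.Agent.S7318

/-- For a numerical type T on n indices with e pairs i < j such that a_ij > 0, the topological genus 1 -
n + e is ≥ 0. -/
theorem result {n : ℕ} (T : Models.NumericalType n) : 0 ≤ T.topGenus := by
  classical
  let G : SimpleGraph (Fin n) := SimpleGraph.fromRel (fun i j => 0 < T.a i j)
  have hadj : ∀ i j, i ≠ j → T.a i j ≠ 0 → G.Adj i j := fun i j hij ha =>
    (SimpleGraph.fromRel_adj _ _ _).mpr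
      ⟨hij, Or.inl (lt_of_le_of_ne (T.offDiag_nonneg i j hij) (Ne.symm ha))⟩
  have hconn : G.Connected := by
    rw [SimpleGraph.connected_iff_exists_forall_reachable]
    refine ⟨⟨0, T.pos⟩, ?_⟩
    by_contra hcon
    push_neg at hcon
    obtain ⟨w, hw⟩ := hcon
    let I : Finset (Fin n) := Finset.univ.filter (fun v => G.Reachable ⟨0, T.pos⟩ v)
    have hI1 : I.Nonempty :=
      ⟨⟨0, T.pos⟩, Finset.mem_filter.mpr ⟨Finset.mem_univ _, SimpleGraph.Reachable.refl _⟩⟩
    have hI2 : I ≠ Finset.univ := by
      intro h
      have hmem : w ∈ I := h ▸ Finset.mem_univ w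
      exact hw (Finset.mem_filter.mp hmem).2
    obtain ⟨i, hi, j, hj, hij⟩ := T.connected I hI1 hI2
    have hne : i ≠ j := fun h => hj (h ▸ hi)
    have hri : G.Reachable ⟨0, T.pos⟩ i := (Finset.mem_filter.mp hi).2
    exact hj (Finset.mem_filter.mpr
      ⟨Finset.mem_univ _, hri.trans (hadj i j hne hij).reachable⟩)
  have hcard : G.edgeFinset.card ≤ T.edgeCount := by
    unfold Models.NumericalType.edgeCount
    apply Finset.card_le_card_of_surjOn (fun p : Fin n × Fin n => s(p.1, p.2))
    intro e he
    rw [Finset.mem_coe, SimpleGraph.mem_edgeFinset] at he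
    induction e using Sym2.ind with
    | _ i j =>
      rw [SimpleGraph.mem_edgeSet, SimpleGraph.fromRel_adj] at he
      obtain ⟨hne, h⟩ := he
      have hpos : 0 < T.a i j := by
        rcases h with h | h
        · exact h
        · rw [← T.symm.apply i j]
          exact h
      have hpos' : 0 < T.a j i := by
        rw [T.symm.apply i j]
        exact hpos
      rcases lt_or_gt_of_ne hne with hlt | hgt
      · exact ⟨(i, j), by simp [hlt, hpos], rfl⟩
      · exact ⟨(j, i), by simp [hgt, hpos'], Sym2.eq_swap⟩
  have h1 := hconn.card_vert_le_card_edgeSet_add_one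
  rw [Nat.card_eq_fintype_card, Fintype.card_fin, Nat.card_eq_fintype_card,
    ← SimpleGraph.edgeFinset_card] at h1
  unfold Models.NumericalType.topGenus
  omega

end Groth.Agent.S7318
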