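import Groth.Statements.S7341
import Mathlib
import Groth.Agent.Lib.Helper11.NumType

set_option autoImplicit false
open Finset
open Models Models.NumericalType

namespace Groth.Agent.S7341
theorem chain3 {n : ℕ} (T : Models.NumericalType n) (hn : 3 < n)
    (v : Fin 3 ↪ Fin n) (hv : ∀ j, T.IsMinusTwo (v j)) (h01 : T.a (v 0) (v 1) ≠ 0) (h12 : T.a (v 1) (v 2) ≠ 0) :
    T.a (v 0) (v 2) = 0 ∧
    ∃ (u : Fin 3 → Fin n) (w : ℤ), ((∀ j, u j = v j) ∨ (∀ j, u j = v (Fin.rev j))) ∧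
      ((T.w (u 0) = w ∧ T.w (u 1) = w ∧ T.w (u 2) = w ∧ T.a (u 0) (u 1) = w ∧ T.a (u 1) (u 2) = w ∧ T.m (u 1) ≤ 2 * T.m (u 0) ∧ T.m (u 0) + T.m (u 2) ≤ 2 * T.m (u 1) ∧ T.m (u 1) ≤ 2 * T.m (u 2)) ∨
      (T.w (u 0) = w ∧ T.w (u 1) = w ∧ T.w (u 2) = 2 * w ∧ T.a (u 0) (u 1) = w ∧ T.a (u 1) (u 2) = 2 * w ∧ T.m (u 1) ≤ 2 * T.m (u 0) ∧ T.m (u 0) + 2 * T.m (u 2) ≤ 2 * T.m (u 1) ∧ T.m (u 1) ≤ 2 * T.m (u 2)) ∨
      (T.w (u 0) = 2 * w ∧ T.w (u 1) = 2 * w ∧ T.w (u 2) = w ∧ T.a (u 0) (u 1) = 2 * w ∧ T.a (u 1) (u 2) = 2 * w ∧ T.m (u 1) ≤ 2 * T.m (u 0) ∧ T.m (u 0) + T.m (u 2) ≤ 2 * T.m (u 1) ∧ T.m (u 1) ≤ T.m (u 2))) := by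
  have hd := Lib.Helper11.NumType.config_diag T v hv
  have hm : ∀ t, 0 < T.m (v t) := fun t => T.m_pos (v t)
  have htot := Lib.Helper11.NumType.sum_sum_config_lt T v (by norm_num) hn
  have r0 := Lib.Helper11.NumType.sum_config_le T v 0
  have r1 := Lib.Helper11.NumType.sum_config_le T v 1
  have r2 := Lib.Helper11.NumType.sum_config_le T v 2
  have p0_1 := Lib.Helper11.NumType.config_mul_nonneg T v (show (0 : Fin 3) ≠ 1 by decide)
  have p0_2 := Lib.Helper11.NumType.config_mul_nonneg T v (show (0 : Fin 3) ≠ 2 by decide)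
  have p1_0 := Lib.Helper11.NumType.config_mul_nonneg T v (show (1 : Fin 3) ≠ 0 by decide)
  have p1_2 := Lib.Helper11.NumType.config_mul_nonneg T v (show (1 : Fin 3) ≠ 2 by decide)
  have p2_0 := Lib.Helper11.NumType.config_mul_nonneg T v (show (2 : Fin 3) ≠ 0 by decide)
  have p2_1 := Lib.Helper11.NumType.config_mul_nonneg T v (show (2 : Fin 3) ≠ 1 by decide)
  have c0_1 := Lib.Helper11.NumType.config_one_le T v (show (0 : Fin 3) ≠ 1 by decide) h01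
  have c1_0 := Lib.Helper11.NumType.config_one_le' T v (show (0 : Fin 3) ≠ 1 by decide) h01
  have e0_1 : T.m (v 1) ≤ Lib.Helper11.NumType.c T (v 0) (v 1) * T.m (v 1) := le_mul_of_one_le_left (hm 1).le c0_1
  have e1_0 : T.m (v 0) ≤ Lib.Helper11.NumType.c T (v 1) (v 0) * T.m (v 0) := le_mul_of_one_le_left (hm 0).le c1_0
  have c1_2 := Lib.Helper11.NumType.config_one_le T v (show (1 : Fin 3) ≠ 2 by decide) h12
  have c2_1 := Lib.Helper11.NumType.config_one_le' T v (show (1 : Fin 3) ≠ 2 by decide) h12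
  have e1_2 : T.m (v 2) ≤ Lib.Helper11.NumType.c T (v 1) (v 2) * T.m (v 2) := le_mul_of_one_le_left (hm 2).le c1_2
  have e2_1 : T.m (v 1) ≤ Lib.Helper11.NumType.c T (v 2) (v 1) * T.m (v 1) := le_mul_of_one_le_left (hm 1).le c2_1
  simp only [Fin.sum_univ_three, hd] at htot r0 r1 r2
  have hm0 := hm 0
  have hm1 := hm 1
  have hm2 := hm 2
  have z0_2 : Lib.Helper11.NumType.c T (v 0) (v 2) = 0 := by
    by_contra hne
    have h0 := Lib.Helper11.NumType.config_nonneg T v (show (0 : Fin 3) ≠ 2 by decide)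
    have h1 : 1 ≤ Lib.Helper11.NumType.c T (v 0) (v 2) := by omega
    have h1' : 1 ≤ Lib.Helper11.NumType.c T (v 2) (v 0) := Lib.Helper11.NumType.c_pos_symm T (fun h' => absurd (v.injective h') (by decide)) h1
    have hp : T.m (v 2) ≤ Lib.Helper11.NumType.c T (v 0) (v 2) * T.m (v 2) := le_mul_of_one_le_left (hm 2).le h1
    have hp' : T.m (v 0) ≤ Lib.Helper11.NumType.c T (v 2) (v 0) * T.m (v 0) := le_mul_of_one_le_left (hm 0).le h1'
    linarith
  have z2_0 : Lib.Helper11.NumType.c T (v 2) (v 0) = 0 := Lib.Helper11.NumType.c_eq_zero_symm T z0_2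
  have b0_1 : Lib.Helper11.NumType.c T (v 0) (v 1) ≤ 2 := by
    by_contra hne
    have h3 : 3 ≤ Lib.Helper11.NumType.c T (v 0) (v 1) := by omega
    have hp : 3 * T.m (v 1) ≤ Lib.Helper11.NumType.c T (v 0) (v 1) * T.m (v 1) := mul_le_mul_of_nonneg_right h3 (hm 1).le
    linarith
  have b1_0 : Lib.Helper11.NumType.c T (v 1) (v 0) ≤ 2 := by
    by_contra hne
    have h3 : 3 ≤ Lib.Helper11.NumType.c T (v 1) (v 0) := by omega
    have hp : 3 * T.m (v 0) ≤ Lib.Helper11.NumType.c T (v 1) (v 0) * T.m (v 0) := mul_le_mul_of_nonneg_right h3 (hm 0).le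
    linarith
  have b1_2 : Lib.Helper11.NumType.c T (v 1) (v 2) ≤ 2 := by
    by_contra hne
    have h3 : 3 ≤ Lib.Helper11.NumType.c T (v 1) (v 2) := by omega
    have hp : 3 * T.m (v 2) ≤ Lib.Helper11.NumType.c T (v 1) (v 2) * T.m (v 2) := mul_le_mul_of_nonneg_right h3 (hm 2).le
    linarith
  have b2_1 : Lib.Helper11.NumType.c T (v 2) (v 1) ≤ 2 := by
    by_contra hne
    have h3 : 3 ≤ Lib.Helper11.NumType.c T (v 2) (v 1) := by omega
    have hp : 3 * T.m (v 1) ≤ Lib.Helper11.NumType.c T (v 2) (v 1) * T.m (v 1) := mul_le_mul_of_nonneg_right h3 (hm 1).le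
    linarith
  have x0_1_1_0 : Lib.Helper11.NumType.c T (v 0) (v 1) + Lib.Helper11.NumType.c T (v 1) (v 0) ≤ 3 := by
    by_contra hne
    have h2 : 2 ≤ Lib.Helper11.NumType.c T (v 0) (v 1) := by omega
    have h2' : 2 ≤ Lib.Helper11.NumType.c T (v 1) (v 0) := by omega
    have hp : 2 * T.m (v 1) ≤ Lib.Helper11.NumType.c T (v 0) (v 1) * T.m (v 1) := mul_le_mul_of_nonneg_right h2 (hm 1).le
    have hp' : 2 * T.m (v 0) ≤ Lib.Helper11.NumType.c T (v 1) (v 0) * T.m (v 0) := mul_le_mul_of_nonneg_right h2' (hm 0).le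
    linarith
  have x0_1_1_2 : Lib.Helper11.NumType.c T (v 0) (v 1) + Lib.Helper11.NumType.c T (v 1) (v 2) ≤ 3 := by
    by_contra hne
    have h2 : 2 ≤ Lib.Helper11.NumType.c T (v 0) (v 1) := by omega
    have h2' : 2 ≤ Lib.Helper11.NumType.c T (v 1) (v 2) := by omega
    have hp : 2 * T.m (v 1) ≤ Lib.Helper11.NumType.c T (v 0) (v 1) * T.m (v 1) := mul_le_mul_of_nonneg_right h2 (hm 1).le
    have hp' : 2 * T.m (v 2) ≤ Lib.Helper11.NumType.c T (v 1) (v 2) * T.m (v 2) := mul_le_mul_of_nonneg_right h2' (hm 2).le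
    linarith
  have x0_1_2_1 : Lib.Helper11.NumType.c T (v 0) (v 1) + Lib.Helper11.NumType.c T (v 2) (v 1) ≤ 3 := by
    by_contra hne
    have h2 : 2 ≤ Lib.Helper11.NumType.c T (v 0) (v 1) := by omega
    have h2' : 2 ≤ Lib.Helper11.NumType.c T (v 2) (v 1) := by omega
    have hp : 2 * T.m (v 1) ≤ Lib.Helper11.NumType.c T (v 0) (v 1) * T.m (v 1) := mul_le_mul_of_nonneg_right h2 (hm 1).le
    have hp' : 2 * T.m (v 1) ≤ Lib.Helper11.NumType.c T (v 2) (v 1) * T.m (v 1) := mul_le_mul_of_nonneg_right h2' (hm 1).le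
    linarith
  have x1_0_1_2 : Lib.Helper11.NumType.c T (v 1) (v 0) + Lib.Helper11.NumType.c T (v 1) (v 2) ≤ 3 := by
    by_contra hne
    have h2 : 2 ≤ Lib.Helper11.NumType.c T (v 1) (v 0) := by omega
    have h2' : 2 ≤ Lib.Helper11.NumType.c T (v 1) (v 2) := by omega
    have hp : 2 * T.m (v 0) ≤ Lib.Helper11.NumType.c T (v 1) (v 0) * T.m (v 0) := mul_le_mul_of_nonneg_right h2 (hm 0).le
    have hp' : 2 * T.m (v 2) ≤ Lib.Helper11.NumType.c T (v 1) (v 2) * T.m (v 2) := mul_le_mul_of_nonneg_right h2' (hm 2).le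
    linarith
  have x1_0_2_1 : Lib.Helper11.NumType.c T (v 1) (v 0) + Lib.Helper11.NumType.c T (v 2) (v 1) ≤ 3 := by
    by_contra hne
    have h2 : 2 ≤ Lib.Helper11.NumType.c T (v 1) (v 0) := by omega
    have h2' : 2 ≤ Lib.Helper11.NumType.c T (v 2) (v 1) := by omega
    have hp : 2 * T.m (v 0) ≤ Lib.Helper11.NumType.c T (v 1) (v 0) * T.m (v 0) := mul_le_mul_of_nonneg_right h2 (hm 0).le
    have hp' : 2 * T.m (v 1) ≤ Lib.Helper11.NumType.c T (v 2) (v 1) * T.m (v 1) := mul_le_mul_of_nonneg_right h2' (hm 1).le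
    linarith
  have x1_2_2_1 : Lib.Helper11.NumType.c T (v 1) (v 2) + Lib.Helper11.NumType.c T (v 2) (v 1) ≤ 3 := by
    by_contra hne
    have h2 : 2 ≤ Lib.Helper11.NumType.c T (v 1) (v 2) := by omega
    have h2' : 2 ≤ Lib.Helper11.NumType.c T (v 2) (v 1) := by omega
    have hp : 2 * T.m (v 2) ≤ Lib.Helper11.NumType.c T (v 1) (v 2) * T.m (v 2) := mul_le_mul_of_nonneg_right h2 (hm 2).le
    have hp' : 2 * T.m (v 1) ≤ Lib.Helper11.NumType.c T (v 2) (v 1) * T.m (v 1) := mul_le_mul_of_nonneg_right h2' (hm 1).le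
    linarith
  refine ⟨by rw [Lib.Helper11.NumType.a_eq, z0_2, mul_zero], ?_⟩
  have hrev0 : Fin.rev (0 : Fin 3) = 2 := by decide
  have hrev1 : Fin.rev (1 : Fin 3) = 1 := by decide
  have hrev2 : Fin.rev (2 : Fin 3) = 0 := by decide
  by_cases q0_1 : Lib.Helper11.NumType.c T (v 0) (v 1) = 2
  · have u0_1 : Lib.Helper11.NumType.c T (v 0) (v 1) = 2 := q0_1
    have u1_0 : Lib.Helper11.NumType.c T (v 1) (v 0) = 1 := by omega
    have u1_2 : Lib.Helper11.NumType.c T (v 1) (v 2) = 1 := by omega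
    have u2_1 : Lib.Helper11.NumType.c T (v 2) (v 1) = 1 := by omega
    have ws0 := Lib.Helper11.NumType.w_mul_c_symm T (v 0) (v 1)
    rw [u0_1, u1_0] at ws0
    have ha0_1 := Lib.Helper11.NumType.a_eq T (v 0) (v 1)
    rw [u0_1] at ha0_1
    have ha1_0 := Lib.Helper11.NumType.a_eq T (v 1) (v 0)
    rw [u1_0] at ha1_0
    have ws1 := Lib.Helper11.NumType.w_mul_c_symm T (v 1) (v 2)
    rw [u1_2, u2_1] at ws1
    have ha1_2 := Lib.Helper11.NumType.a_eq T (v 1) (v 2)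
    rw [u1_2] at ha1_2
    have ha2_1 := Lib.Helper11.NumType.a_eq T (v 2) (v 1)
    rw [u2_1] at ha2_1
    simp only [u0_1, u1_0, u1_2, u2_1, z0_2, z2_0, one_mul, zero_mul, add_zero] at r0 r1 r2
    refine ⟨fun j => v (Fin.rev j), T.w (v 0), Or.inr (fun _ => rfl), ?_⟩
    simp only [hrev0, hrev1, hrev2]
    refine Or.inr (Or.inr (⟨?_, ?_, ?_, ?_, ?_, ?_, ?_, ?_⟩)) <;> first | trivial | linarith
  by_cases q1_0 : Lib.Helper11.NumType.c T (v 1) (v 0) = 2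
  · have u1_0 : Lib.Helper11.NumType.c T (v 1) (v 0) = 2 := q1_0
    have u0_1 : Lib.Helper11.NumType.c T (v 0) (v 1) = 1 := by omega
    have u1_2 : Lib.Helper11.NumType.c T (v 1) (v 2) = 1 := by omega
    have u2_1 : Lib.Helper11.NumType.c T (v 2) (v 1) = 1 := by omega
    have ws0 := Lib.Helper11.NumType.w_mul_c_symm T (v 0) (v 1)
    rw [u0_1, u1_0] at ws0
    have ha0_1 := Lib.Helper11.NumType.a_eq T (v 0) (v 1)
    rw [u0_1] at ha0_1
    have ha1_0 := Lib.Helper11.NumType.a_eq T (v 1) (v 0)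
    rw [u1_0] at ha1_0
    have ws1 := Lib.Helper11.NumType.w_mul_c_symm T (v 1) (v 2)
    rw [u1_2, u2_1] at ws1
    have ha1_2 := Lib.Helper11.NumType.a_eq T (v 1) (v 2)
    rw [u1_2] at ha1_2
    have ha2_1 := Lib.Helper11.NumType.a_eq T (v 2) (v 1)
    rw [u2_1] at ha2_1
    simp only [u0_1, u1_0, u1_2, u2_1, z0_2, z2_0, one_mul, zero_mul, add_zero] at r0 r1 r2
    refine ⟨fun j => v (Fin.rev j), T.w (v 2), Or.inr (fun _ => rfl), ?_⟩
    simp only [hrev0, hrev1, hrev2]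
    refine Or.inr (Or.inl ⟨?_, ?_, ?_, ?_, ?_, ?_, ?_, ?_⟩) <;> first | trivial | linarith
  by_cases q1_2 : Lib.Helper11.NumType.c T (v 1) (v 2) = 2
  · have u1_2 : Lib.Helper11.NumType.c T (v 1) (v 2) = 2 := q1_2
    have u0_1 : Lib.Helper11.NumType.c T (v 0) (v 1) = 1 := by omega
    have u1_0 : Lib.Helper11.NumType.c T (v 1) (v 0) = 1 := by omega
    have u2_1 : Lib.Helper11.NumType.c T (v 2) (v 1) = 1 := by omega
    have ws0 := Lib.Helper11.NumType.w_mul_c_symm T (v 0) (v 1)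
    rw [u0_1, u1_0] at ws0
    have ha0_1 := Lib.Helper11.NumType.a_eq T (v 0) (v 1)
    rw [u0_1] at ha0_1
    have ha1_0 := Lib.Helper11.NumType.a_eq T (v 1) (v 0)
    rw [u1_0] at ha1_0
    have ws1 := Lib.Helper11.NumType.w_mul_c_symm T (v 1) (v 2)
    rw [u1_2, u2_1] at ws1
    have ha1_2 := Lib.Helper11.NumType.a_eq T (v 1) (v 2)
    rw [u1_2] at ha1_2
    have ha2_1 := Lib.Helper11.NumType.a_eq T (v 2) (v 1)
    rw [u2_1] at ha2_1
    simp only [u0_1, u1_0, u1_2, u2_1, z0_2, z2_0, one_mul, zero_mul, add_zero] at r0 r1 r2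
    refine ⟨v, T.w (v 0), Or.inl (fun _ => rfl), ?_⟩
    refine Or.inr (Or.inl ⟨?_, ?_, ?_, ?_, ?_, ?_, ?_, ?_⟩) <;> first | trivial | linarith
  by_cases q2_1 : Lib.Helper11.NumType.c T (v 2) (v 1) = 2
  · have u2_1 : Lib.Helper11.NumType.c T (v 2) (v 1) = 2 := q2_1
    have u0_1 : Lib.Helper11.NumType.c T (v 0) (v 1) = 1 := by omega
    have u1_0 : Lib.Helper11.NumType.c T (v 1) (v 0) = 1 := by omega
    have u1_2 : Lib.Helper11.NumType.c T (v 1) (v 2) = 1 := by omega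
    have ws0 := Lib.Helper11.NumType.w_mul_c_symm T (v 0) (v 1)
    rw [u0_1, u1_0] at ws0
    have ha0_1 := Lib.Helper11.NumType.a_eq T (v 0) (v 1)
    rw [u0_1] at ha0_1
    have ha1_0 := Lib.Helper11.NumType.a_eq T (v 1) (v 0)
    rw [u1_0] at ha1_0
    have ws1 := Lib.Helper11.NumType.w_mul_c_symm T (v 1) (v 2)
    rw [u1_2, u2_1] at ws1
    have ha1_2 := Lib.Helper11.NumType.a_eq T (v 1) (v 2)
    rw [u1_2] at ha1_2
    have ha2_1 := Lib.Helper11.NumType.a_eq T (v 2) (v 1)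
    rw [u2_1] at ha2_1
    simp only [u0_1, u1_0, u1_2, u2_1, z0_2, z2_0, one_mul, zero_mul, add_zero] at r0 r1 r2
    refine ⟨v, T.w (v 2), Or.inl (fun _ => rfl), ?_⟩
    refine Or.inr (Or.inr (⟨?_, ?_, ?_, ?_, ?_, ?_, ?_, ?_⟩)) <;> first | trivial | linarith
  have u0_1 : Lib.Helper11.NumType.c T (v 0) (v 1) = 1 := by omega
  have u1_0 : Lib.Helper11.NumType.c T (v 1) (v 0) = 1 := by omega
  have u1_2 : Lib.Helper11.NumType.c T (v 1) (v 2) = 1 := by omega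
  have u2_1 : Lib.Helper11.NumType.c T (v 2) (v 1) = 1 := by omega
  have ws0 := Lib.Helper11.NumType.w_mul_c_symm T (v 0) (v 1)
  rw [u0_1, u1_0] at ws0
  have ha0_1 := Lib.Helper11.NumType.a_eq T (v 0) (v 1)
  rw [u0_1] at ha0_1
  have ha1_0 := Lib.Helper11.NumType.a_eq T (v 1) (v 0)
  rw [u1_0] at ha1_0
  have ws1 := Lib.Helper11.NumType.w_mul_c_symm T (v 1) (v 2)
  rw [u1_2, u2_1] at ws1
  have ha1_2 := Lib.Helper11.NumType.a_eq T (v 1) (v 2)
  rw [u1_2] at ha1_2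
  have ha2_1 := Lib.Helper11.NumType.a_eq T (v 2) (v 1)
  rw [u2_1] at ha2_1
  simp only [u0_1, u1_0, u1_2, u2_1, z0_2, z2_0, one_mul, zero_mul, add_zero] at r0 r1 r2
  refine ⟨v, T.w (v 0), Or.inl (fun _ => rfl), ?_⟩
  refine Or.inl ⟨?_, ?_, ?_, ?_, ?_, ?_, ?_, ?_⟩ <;> first | trivial | linarith


/-- Classification of proper subgraphs which are chains of three vertices: let T be a numerical type on
n > 3 indices and i, j, k distinct (-2)-indices with a_ij > 0 and a_jk > 0. Then a_ik = 0 and, up to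
reversing the order of i, j, k, one of the following holds for some integer w: (A3) w_i = w_j = w_k
= w, a_ij = a_jk = w, with 2 m_i ≥ m_j, 2 m_j ≥ m_i + m_k, 2 m_k ≥ m_j; (C3) w_i = w_j = w, w_k =
2w, a_ij = w, a_jk = 2w, with 2 m_i ≥ m_j, 2 m_j ≥ m_i + 2 m_k, 2 m_k ≥ m_j; (B3) w_i = w_j = 2w,
w_k = w, a_ij = a_jk = 2w, with 2 m_i ≥ m_j, 2 m_j ≥ m_i + m_k, m_k ≥ m_j. -/
theorem result {n : ℕ} (T : Models.NumericalType n) (hn : 3 < n) (i j k : Fin n)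
    (hij : i ≠ j) (hjk : j ≠ k) (hik : i ≠ k) (hi : T.IsMinusTwo i) (hj : T.IsMinusTwo j) (hk : T.IsMinusTwo k)
    (h1 : 0 < T.a i j) (h2 : 0 < T.a j k) :
    T.a i k = 0 ∧ ∃ (i' k' : Fin n) (w : ℤ), ((i' = i ∧ k' = k) ∨ (i' = k ∧ k' = i)) ∧
      ((T.w i' = w ∧ T.w j = w ∧ T.w k' = w ∧ T.a i' j = w ∧ T.a j k' = w ∧
          T.m j ≤ 2 * T.m i' ∧ T.m i' + T.m k' ≤ 2 * T.m j ∧ T.m j ≤ 2 * T.m k') ∨
        (T.w i' = w ∧ T.w j = w ∧ T.w k' = 2 * w ∧ T.a i' j = w ∧ T.a j k' = 2 * w ∧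
          T.m j ≤ 2 * T.m i' ∧ T.m i' + 2 * T.m k' ≤ 2 * T.m j ∧ T.m j ≤ 2 * T.m k') ∨
        (T.w i' = 2 * w ∧ T.w j = 2 * w ∧ T.w k' = w ∧ T.a i' j = 2 * w ∧ T.a j k' = 2 * w ∧
          T.m j ≤ 2 * T.m i' ∧ T.m i' + T.m k' ≤ 2 * T.m j ∧ T.m j ≤ T.m k')) := by
  have hinj : Function.Injective ![i, j, k] := by
    intro a b hab
    fin_cases a <;> fin_cases b <;>
      first
        | rfl
        | exact absurd hab hij
        | exact absurd hab.symm hij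
        | exact absurd hab hjk
        | exact absurd hab.symm hjk
        | exact absurd hab hik
        | exact absurd hab.symm hik
  obtain ⟨h02, u, w, hu, H⟩ := chain3 T hn ⟨![i, j, k], hinj⟩
    (by intro a; fin_cases a <;> first | exact hi | exact hj | exact hk) h1.ne' h2.ne'
  refine ⟨h02, u 0, u 2, w, ?_, ?_⟩
  · rcases hu with hu | hu
    · exact Or.inl ⟨hu 0, hu 2⟩
    · exact Or.inr ⟨hu 0, hu 2⟩
  · have e1 : u 1 = j := by
      rcases hu with hu | hu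
      · exact hu 1
      · exact hu 1
    rw [e1] at H
    exact H

end Groth.Agent.S7341
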