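import Groth.Statements.S7342
import Mathlib
import Groth.Agent.Lib.Helper11.NumType
import Groth.Agent.Lib.Helper11.NumTypeGen

set_option autoImplicit false
open Finset
open Models Models.NumericalType

namespace Groth.Agent.S7342

/-- Let T be a numerical type on n indices, t ≥ 4 and n > t + 2. Then no t + 2 (-2)-indices of T,
pairwise distinct and numbered i_0, …, i_{t+1}, satisfy: a_{i_j i_{j+1}} > 0 for 1 ≤ j ≤ t - 1,
a_{i_0 i_2} > 0 and a_{i_{t-1} i_{t+1}} > 0. -/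
theorem result {n : ℕ} (T : Models.NumericalType n) (t : ℕ) (ht : 4 ≤ t) (hn : t + 2 < n)
    (v : Fin (t + 2) ↪ Fin n) (hv : ∀ j, T.IsMinusTwo (v j))
    (hchain : ∀ j j' : Fin (t + 2), 1 ≤ j.val → j.val + 1 ≤ t → j'.val = j.val + 1 → 0 < T.a (v j) (v j'))
    (h02 : ∀ j j' : Fin (t + 2), j.val = 0 → j'.val = 2 → 0 < T.a (v j) (v j'))
    (hlast : ∀ j j' : Fin (t + 2), j.val = t - 1 → j'.val = t + 1 → 0 < T.a (v j) (v j')) : False := by
  classical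
  have hadj : ∀ j j' : Fin (t + 2), 0 < T.a (v j) (v j') → j.val ≠ j'.val →
      1 ≤ Lib.Helper11.NumType.c T (v j) (v j') ∧ 1 ≤ Lib.Helper11.NumType.c T (v j') (v j) :=
    fun j j' ha hne =>
      ⟨Lib.Helper11.NumType.config_one_le T v (fun e => hne (congrArg Fin.val e)) ha.ne',
        Lib.Helper11.NumType.config_one_le' T v (fun e => hne (congrArg Fin.val e)) ha.ne'⟩
  have hne : ∀ a b : Fin (t + 2), a.val ≠ b.val → a ≠ b := fun a b h e => h (congrArg Fin.val e)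
  let y : Fin (t + 2) → ℤ := fun s => if s.val ≤ 1 ∨ t ≤ s.val then 1 else 2
  have hy1 : ∀ s : Fin (t + 2), (s.val ≤ 1 ∨ t ≤ s.val) → y s = 1 := fun s h => if_pos h
  have hy2 : ∀ s : Fin (t + 2), ¬ (s.val ≤ 1 ∨ t ≤ s.val) → y s = 2 := fun s h => if_neg h
  have hypos : ∀ s ∈ (Finset.univ : Finset (Fin (t + 2))), 0 < y s := by
    intro s _
    by_cases h : s.val ≤ 1 ∨ t ≤ s.val
    · rw [hy1 s h]; norm_num
    · rw [hy2 s h]; norm_num
  have hy0 : ∀ s ∈ (Finset.univ : Finset (Fin (t + 2))), 0 ≤ y s := fun s hs => (hypos s hs).le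
  refine Lib.Helper11.NumType.not_col_nonneg T Finset.univ v v.injective.injOn Finset.univ_nonempty
    (by simpa using hn) y hypos ?_
  intro t' _
  have hd := Lib.Helper11.NumType.config_diag T v hv t'
  have ht'lt := t'.isLt
  rcases (show t'.val = 0 ∨ t'.val = 1 ∨ t'.val = 2 ∨ (3 ≤ t'.val ∧ t'.val + 2 ≤ t) ∨
      t'.val + 1 = t ∨ t'.val = t ∨ t'.val = t + 1 by omega) with h | h | h | h | h | h | h
  · -- column 0
    have hs1 : (2 : ℕ) < t + 2 := by omega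
    have c1 := (hadj t' ⟨2, hs1⟩ (h02 t' ⟨2, hs1⟩ h rfl) (by show t'.val ≠ 2; omega)).2
    refine Lib.Helper11.NumType.col_nonneg_one T Finset.univ v v.injective.injOn y hy0
      (Finset.mem_univ _) (Finset.mem_univ ⟨2, hs1⟩) (hne _ _ (by show 2 ≠ t'.val; omega)) ?_
    rw [hd, hy1 t' (by omega), hy2 ⟨2, hs1⟩ (by show ¬ (2 ≤ 1 ∨ t ≤ 2); omega)]
    linarith
  · -- column 1
    have hs1 : (2 : ℕ) < t + 2 := by omega
    have c1 := (hadj t' ⟨2, hs1⟩ (hchain t' ⟨2, hs1⟩ (by omega) (by omega) (by show 2 = t'.val + 1; omega))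
      (by show t'.val ≠ 2; omega)).2
    refine Lib.Helper11.NumType.col_nonneg_one T Finset.univ v v.injective.injOn y hy0
      (Finset.mem_univ _) (Finset.mem_univ ⟨2, hs1⟩) (hne _ _ (by show 2 ≠ t'.val; omega)) ?_
    rw [hd, hy1 t' (by omega), hy2 ⟨2, hs1⟩ (by show ¬ (2 ≤ 1 ∨ t ≤ 2); omega)]
    linarith
  · -- column 2
    have hs0 : (0 : ℕ) < t + 2 := by omega
    have hs1 : (1 : ℕ) < t + 2 := by omega
    have hs3 : (3 : ℕ) < t + 2 := by omega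
    have c0 := (hadj ⟨0, hs0⟩ t' (h02 ⟨0, hs0⟩ t' rfl h) (by show 0 ≠ t'.val; omega)).1
    have c1 := (hadj ⟨1, hs1⟩ t' (hchain ⟨1, hs1⟩ t' (by show 1 ≤ 1; omega) (by show 1 + 1 ≤ t; omega)
      (by show t'.val = 1 + 1; omega)) (by show 1 ≠ t'.val; omega)).1
    have c3 := (hadj t' ⟨3, hs3⟩ (hchain t' ⟨3, hs3⟩ (by omega) (by omega) (by show 3 = t'.val + 1; omega))
      (by show t'.val ≠ 3; omega)).2
    refine Lib.Helper11.NumType.col_nonneg_three T Finset.univ v v.injective.injOn y hy0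
      (Finset.mem_univ _) (Finset.mem_univ ⟨0, hs0⟩) (Finset.mem_univ ⟨1, hs1⟩) (Finset.mem_univ ⟨3, hs3⟩)
      (hne _ _ (by show 0 ≠ t'.val; omega)) (hne _ _ (by show 1 ≠ t'.val; omega))
      (hne _ _ (by show 3 ≠ t'.val; omega)) (hne _ _ (by show 0 ≠ 1; omega))
      (hne _ _ (by show 0 ≠ 3; omega)) (hne _ _ (by show 1 ≠ 3; omega)) ?_
    rw [hd, hy2 t' (by omega), hy1 ⟨0, hs0⟩ (by show (0 ≤ 1 ∨ t ≤ 0); omega),
      hy1 ⟨1, hs1⟩ (by show (1 ≤ 1 ∨ t ≤ 1); omega), hy2 ⟨3, hs3⟩ (by show ¬ (3 ≤ 1 ∨ t ≤ 3); omega)]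
    linarith
  · -- middle columns
    have hs1 : t'.val - 1 < t + 2 := by omega
    have hs2 : t'.val + 1 < t + 2 := by omega
    have c1 := (hadj ⟨t'.val - 1, hs1⟩ t' (hchain ⟨t'.val - 1, hs1⟩ t' (by show 1 ≤ t'.val - 1; omega)
      (by show t'.val - 1 + 1 ≤ t; omega) (by show t'.val = t'.val - 1 + 1; omega))
      (by show t'.val - 1 ≠ t'.val; omega)).1
    have c2 := (hadj t' ⟨t'.val + 1, hs2⟩ (hchain t' ⟨t'.val + 1, hs2⟩ (by omega) (by omega) rfl)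
      (by show t'.val ≠ t'.val + 1; omega)).2
    refine Lib.Helper11.NumType.col_nonneg_two T Finset.univ v v.injective.injOn y hy0
      (Finset.mem_univ _) (Finset.mem_univ ⟨t'.val - 1, hs1⟩) (Finset.mem_univ ⟨t'.val + 1, hs2⟩)
      (hne _ _ (by show t'.val - 1 ≠ t'.val; omega)) (hne _ _ (by show t'.val + 1 ≠ t'.val; omega))
      (hne _ _ (by show t'.val - 1 ≠ t'.val + 1; omega)) ?_
    rw [hd, hy2 t' (by omega), hy2 ⟨t'.val - 1, hs1⟩ (by show ¬ (t'.val - 1 ≤ 1 ∨ t ≤ t'.val - 1); omega),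
      hy2 ⟨t'.val + 1, hs2⟩ (by show ¬ (t'.val + 1 ≤ 1 ∨ t ≤ t'.val + 1); omega)]
    linarith
  · -- column t - 1
    have hs1 : t'.val - 1 < t + 2 := by omega
    have hs2 : t < t + 2 := by omega
    have hs3 : t + 1 < t + 2 := by omega
    have c1 := (hadj ⟨t'.val - 1, hs1⟩ t' (hchain ⟨t'.val - 1, hs1⟩ t' (by show 1 ≤ t'.val - 1; omega)
      (by show t'.val - 1 + 1 ≤ t; omega) (by show t'.val = t'.val - 1 + 1; omega))
      (by show t'.val - 1 ≠ t'.val; omega)).1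
    have c2 := (hadj t' ⟨t, hs2⟩ (hchain t' ⟨t, hs2⟩ (by omega) (by omega) (by show t = t'.val + 1; omega))
      (by show t'.val ≠ t; omega)).2
    have c3 := (hadj t' ⟨t + 1, hs3⟩ (hlast t' ⟨t + 1, hs3⟩ (by omega) rfl)
      (by show t'.val ≠ t + 1; omega)).2
    refine Lib.Helper11.NumType.col_nonneg_three T Finset.univ v v.injective.injOn y hy0
      (Finset.mem_univ _) (Finset.mem_univ ⟨t'.val - 1, hs1⟩) (Finset.mem_univ ⟨t, hs2⟩)
      (Finset.mem_univ ⟨t + 1, hs3⟩)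
      (hne _ _ (by show t'.val - 1 ≠ t'.val; omega)) (hne _ _ (by show t ≠ t'.val; omega))
      (hne _ _ (by show t + 1 ≠ t'.val; omega)) (hne _ _ (by show t'.val - 1 ≠ t; omega))
      (hne _ _ (by show t'.val - 1 ≠ t + 1; omega)) (hne _ _ (by show t ≠ t + 1; omega)) ?_
    rw [hd, hy2 t' (by omega), hy2 ⟨t'.val - 1, hs1⟩ (by show ¬ (t'.val - 1 ≤ 1 ∨ t ≤ t'.val - 1); omega),
      hy1 ⟨t, hs2⟩ (by show (t ≤ 1 ∨ t ≤ t); omega), hy1 ⟨t + 1, hs3⟩ (by show (t + 1 ≤ 1 ∨ t ≤ t + 1); omega)]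
    linarith
  · -- column t
    have hs1 : t - 1 < t + 2 := by omega
    have c1 := (hadj ⟨t - 1, hs1⟩ t' (hchain ⟨t - 1, hs1⟩ t' (by show 1 ≤ t - 1; omega)
      (by show t - 1 + 1 ≤ t; omega) (by show t'.val = t - 1 + 1; omega))
      (by show t - 1 ≠ t'.val; omega)).1
    refine Lib.Helper11.NumType.col_nonneg_one T Finset.univ v v.injective.injOn y hy0
      (Finset.mem_univ _) (Finset.mem_univ ⟨t - 1, hs1⟩) (hne _ _ (by show t - 1 ≠ t'.val; omega)) ?_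
    rw [hd, hy1 t' (by omega), hy2 ⟨t - 1, hs1⟩ (by show ¬ (t - 1 ≤ 1 ∨ t ≤ t - 1); omega)]
    linarith
  · -- column t + 1
    have hs1 : t - 1 < t + 2 := by omega
    have c1 := (hadj ⟨t - 1, hs1⟩ t' (hlast ⟨t - 1, hs1⟩ t' rfl h)
      (by show t - 1 ≠ t'.val; omega)).1
    refine Lib.Helper11.NumType.col_nonneg_one T Finset.univ v v.injective.injOn y hy0
      (Finset.mem_univ _) (Finset.mem_univ ⟨t - 1, hs1⟩) (hne _ _ (by show t - 1 ≠ t'.val; omega)) ?_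
    rw [hd, hy1 t' (by omega), hy2 ⟨t - 1, hs1⟩ (by show ¬ (t - 1 ≤ 1 ∨ t ≤ t - 1); omega)]
    linarith

end Groth.Agent.S7342
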