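import Groth.Statements.S7344
import Mathlib
import Groth.Agent.Lib.Helper11.NumType

set_option autoImplicit false
open Finset
open Models Models.NumericalType

namespace Groth.Agent.S7344

/-- Let T be a numerical type on n > 8 indices. Then no eight (-2)-indices of T, pairwise distinct and
named e, f, g, h, i, j, k, l, have a_ef, a_fg, a_gh, a_hi, a_ij, a_jk and a_lh all nonzero (a chain
of seven, e to k, with l joined to its fourth vertex h). -/
theorem result {n : ℕ} (T : Models.NumericalType n) (hn : 8 < n)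
    (v : Fin 8 ↪ Fin n) (hv : ∀ j, T.IsMinusTwo (v j))
    (h01 : T.a (v 0) (v 1) ≠ 0) (h12 : T.a (v 1) (v 2) ≠ 0) (h23 : T.a (v 2) (v 3) ≠ 0)
    (h34 : T.a (v 3) (v 4) ≠ 0) (h45 : T.a (v 4) (v 5) ≠ 0) (h56 : T.a (v 5) (v 6) ≠ 0)
    (h73 : T.a (v 7) (v 3) ≠ 0) : False := by
  have hd := Lib.Helper11.NumType.config_diag T v hv
  have hm : ∀ t, 0 < T.m (v t) := fun t => T.m_pos (v t)
  have htot := Lib.Helper11.NumType.sum_sum_config_lt T v (by norm_num) hn
  have r0 := Lib.Helper11.NumType.sum_config_le T v 0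
  have r1 := Lib.Helper11.NumType.sum_config_le T v 1
  have r2 := Lib.Helper11.NumType.sum_config_le T v 2
  have r3 := Lib.Helper11.NumType.sum_config_le T v 3
  have r4 := Lib.Helper11.NumType.sum_config_le T v 4
  have r5 := Lib.Helper11.NumType.sum_config_le T v 5
  have r6 := Lib.Helper11.NumType.sum_config_le T v 6
  have r7 := Lib.Helper11.NumType.sum_config_le T v 7
  have p0_1 := Lib.Helper11.NumType.config_mul_nonneg T v (show (0 : Fin 8) ≠ 1 by decide)
  have p0_2 := Lib.Helper11.NumType.config_mul_nonneg T v (show (0 : Fin 8) ≠ 2 by decide)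
  have p0_3 := Lib.Helper11.NumType.config_mul_nonneg T v (show (0 : Fin 8) ≠ 3 by decide)
  have p0_4 := Lib.Helper11.NumType.config_mul_nonneg T v (show (0 : Fin 8) ≠ 4 by decide)
  have p0_5 := Lib.Helper11.NumType.config_mul_nonneg T v (show (0 : Fin 8) ≠ 5 by decide)
  have p0_6 := Lib.Helper11.NumType.config_mul_nonneg T v (show (0 : Fin 8) ≠ 6 by decide)
  have p0_7 := Lib.Helper11.NumType.config_mul_nonneg T v (show (0 : Fin 8) ≠ 7 by decide)
  have p1_0 := Lib.Helper11.NumType.config_mul_nonneg T v (show (1 : Fin 8) ≠ 0 by decide)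
  have p1_2 := Lib.Helper11.NumType.config_mul_nonneg T v (show (1 : Fin 8) ≠ 2 by decide)
  have p1_3 := Lib.Helper11.NumType.config_mul_nonneg T v (show (1 : Fin 8) ≠ 3 by decide)
  have p1_4 := Lib.Helper11.NumType.config_mul_nonneg T v (show (1 : Fin 8) ≠ 4 by decide)
  have p1_5 := Lib.Helper11.NumType.config_mul_nonneg T v (show (1 : Fin 8) ≠ 5 by decide)
  have p1_6 := Lib.Helper11.NumType.config_mul_nonneg T v (show (1 : Fin 8) ≠ 6 by decide)
  have p1_7 := Lib.Helper11.NumType.config_mul_nonneg T v (show (1 : Fin 8) ≠ 7 by decide)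
  have p2_0 := Lib.Helper11.NumType.config_mul_nonneg T v (show (2 : Fin 8) ≠ 0 by decide)
  have p2_1 := Lib.Helper11.NumType.config_mul_nonneg T v (show (2 : Fin 8) ≠ 1 by decide)
  have p2_3 := Lib.Helper11.NumType.config_mul_nonneg T v (show (2 : Fin 8) ≠ 3 by decide)
  have p2_4 := Lib.Helper11.NumType.config_mul_nonneg T v (show (2 : Fin 8) ≠ 4 by decide)
  have p2_5 := Lib.Helper11.NumType.config_mul_nonneg T v (show (2 : Fin 8) ≠ 5 by decide)
  have p2_6 := Lib.Helper11.NumType.config_mul_nonneg T v (show (2 : Fin 8) ≠ 6 by decide)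
  have p2_7 := Lib.Helper11.NumType.config_mul_nonneg T v (show (2 : Fin 8) ≠ 7 by decide)
  have p3_0 := Lib.Helper11.NumType.config_mul_nonneg T v (show (3 : Fin 8) ≠ 0 by decide)
  have p3_1 := Lib.Helper11.NumType.config_mul_nonneg T v (show (3 : Fin 8) ≠ 1 by decide)
  have p3_2 := Lib.Helper11.NumType.config_mul_nonneg T v (show (3 : Fin 8) ≠ 2 by decide)
  have p3_4 := Lib.Helper11.NumType.config_mul_nonneg T v (show (3 : Fin 8) ≠ 4 by decide)
  have p3_5 := Lib.Helper11.NumType.config_mul_nonneg T v (show (3 : Fin 8) ≠ 5 by decide)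
  have p3_6 := Lib.Helper11.NumType.config_mul_nonneg T v (show (3 : Fin 8) ≠ 6 by decide)
  have p3_7 := Lib.Helper11.NumType.config_mul_nonneg T v (show (3 : Fin 8) ≠ 7 by decide)
  have p4_0 := Lib.Helper11.NumType.config_mul_nonneg T v (show (4 : Fin 8) ≠ 0 by decide)
  have p4_1 := Lib.Helper11.NumType.config_mul_nonneg T v (show (4 : Fin 8) ≠ 1 by decide)
  have p4_2 := Lib.Helper11.NumType.config_mul_nonneg T v (show (4 : Fin 8) ≠ 2 by decide)
  have p4_3 := Lib.Helper11.NumType.config_mul_nonneg T v (show (4 : Fin 8) ≠ 3 by decide)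
  have p4_5 := Lib.Helper11.NumType.config_mul_nonneg T v (show (4 : Fin 8) ≠ 5 by decide)
  have p4_6 := Lib.Helper11.NumType.config_mul_nonneg T v (show (4 : Fin 8) ≠ 6 by decide)
  have p4_7 := Lib.Helper11.NumType.config_mul_nonneg T v (show (4 : Fin 8) ≠ 7 by decide)
  have p5_0 := Lib.Helper11.NumType.config_mul_nonneg T v (show (5 : Fin 8) ≠ 0 by decide)
  have p5_1 := Lib.Helper11.NumType.config_mul_nonneg T v (show (5 : Fin 8) ≠ 1 by decide)
  have p5_2 := Lib.Helper11.NumType.config_mul_nonneg T v (show (5 : Fin 8) ≠ 2 by decide)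
  have p5_3 := Lib.Helper11.NumType.config_mul_nonneg T v (show (5 : Fin 8) ≠ 3 by decide)
  have p5_4 := Lib.Helper11.NumType.config_mul_nonneg T v (show (5 : Fin 8) ≠ 4 by decide)
  have p5_6 := Lib.Helper11.NumType.config_mul_nonneg T v (show (5 : Fin 8) ≠ 6 by decide)
  have p5_7 := Lib.Helper11.NumType.config_mul_nonneg T v (show (5 : Fin 8) ≠ 7 by decide)
  have p6_0 := Lib.Helper11.NumType.config_mul_nonneg T v (show (6 : Fin 8) ≠ 0 by decide)
  have p6_1 := Lib.Helper11.NumType.config_mul_nonneg T v (show (6 : Fin 8) ≠ 1 by decide)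
  have p6_2 := Lib.Helper11.NumType.config_mul_nonneg T v (show (6 : Fin 8) ≠ 2 by decide)
  have p6_3 := Lib.Helper11.NumType.config_mul_nonneg T v (show (6 : Fin 8) ≠ 3 by decide)
  have p6_4 := Lib.Helper11.NumType.config_mul_nonneg T v (show (6 : Fin 8) ≠ 4 by decide)
  have p6_5 := Lib.Helper11.NumType.config_mul_nonneg T v (show (6 : Fin 8) ≠ 5 by decide)
  have p6_7 := Lib.Helper11.NumType.config_mul_nonneg T v (show (6 : Fin 8) ≠ 7 by decide)
  have p7_0 := Lib.Helper11.NumType.config_mul_nonneg T v (show (7 : Fin 8) ≠ 0 by decide)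
  have p7_1 := Lib.Helper11.NumType.config_mul_nonneg T v (show (7 : Fin 8) ≠ 1 by decide)
  have p7_2 := Lib.Helper11.NumType.config_mul_nonneg T v (show (7 : Fin 8) ≠ 2 by decide)
  have p7_3 := Lib.Helper11.NumType.config_mul_nonneg T v (show (7 : Fin 8) ≠ 3 by decide)
  have p7_4 := Lib.Helper11.NumType.config_mul_nonneg T v (show (7 : Fin 8) ≠ 4 by decide)
  have p7_5 := Lib.Helper11.NumType.config_mul_nonneg T v (show (7 : Fin 8) ≠ 5 by decide)
  have p7_6 := Lib.Helper11.NumType.config_mul_nonneg T v (show (7 : Fin 8) ≠ 6 by decide)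
  have c0_1 := Lib.Helper11.NumType.config_one_le T v (show (0 : Fin 8) ≠ 1 by decide) h01
  have c1_0 := Lib.Helper11.NumType.config_one_le' T v (show (0 : Fin 8) ≠ 1 by decide) h01
  have e0_1 : T.m (v 1) ≤ Lib.Helper11.NumType.c T (v 0) (v 1) * T.m (v 1) := le_mul_of_one_le_left (hm 1).le c0_1
  have e1_0 : T.m (v 0) ≤ Lib.Helper11.NumType.c T (v 1) (v 0) * T.m (v 0) := le_mul_of_one_le_left (hm 0).le c1_0
  have c1_2 := Lib.Helper11.NumType.config_one_le T v (show (1 : Fin 8) ≠ 2 by decide) h12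
  have c2_1 := Lib.Helper11.NumType.config_one_le' T v (show (1 : Fin 8) ≠ 2 by decide) h12
  have e1_2 : T.m (v 2) ≤ Lib.Helper11.NumType.c T (v 1) (v 2) * T.m (v 2) := le_mul_of_one_le_left (hm 2).le c1_2
  have e2_1 : T.m (v 1) ≤ Lib.Helper11.NumType.c T (v 2) (v 1) * T.m (v 1) := le_mul_of_one_le_left (hm 1).le c2_1
  have c2_3 := Lib.Helper11.NumType.config_one_le T v (show (2 : Fin 8) ≠ 3 by decide) h23
  have c3_2 := Lib.Helper11.NumType.config_one_le' T v (show (2 : Fin 8) ≠ 3 by decide) h23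
  have e2_3 : T.m (v 3) ≤ Lib.Helper11.NumType.c T (v 2) (v 3) * T.m (v 3) := le_mul_of_one_le_left (hm 3).le c2_3
  have e3_2 : T.m (v 2) ≤ Lib.Helper11.NumType.c T (v 3) (v 2) * T.m (v 2) := le_mul_of_one_le_left (hm 2).le c3_2
  have c3_4 := Lib.Helper11.NumType.config_one_le T v (show (3 : Fin 8) ≠ 4 by decide) h34
  have c4_3 := Lib.Helper11.NumType.config_one_le' T v (show (3 : Fin 8) ≠ 4 by decide) h34
  have e3_4 : T.m (v 4) ≤ Lib.Helper11.NumType.c T (v 3) (v 4) * T.m (v 4) := le_mul_of_one_le_left (hm 4).le c3_4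
  have e4_3 : T.m (v 3) ≤ Lib.Helper11.NumType.c T (v 4) (v 3) * T.m (v 3) := le_mul_of_one_le_left (hm 3).le c4_3
  have c4_5 := Lib.Helper11.NumType.config_one_le T v (show (4 : Fin 8) ≠ 5 by decide) h45
  have c5_4 := Lib.Helper11.NumType.config_one_le' T v (show (4 : Fin 8) ≠ 5 by decide) h45
  have e4_5 : T.m (v 5) ≤ Lib.Helper11.NumType.c T (v 4) (v 5) * T.m (v 5) := le_mul_of_one_le_left (hm 5).le c4_5
  have e5_4 : T.m (v 4) ≤ Lib.Helper11.NumType.c T (v 5) (v 4) * T.m (v 4) := le_mul_of_one_le_left (hm 4).le c5_4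
  have c5_6 := Lib.Helper11.NumType.config_one_le T v (show (5 : Fin 8) ≠ 6 by decide) h56
  have c6_5 := Lib.Helper11.NumType.config_one_le' T v (show (5 : Fin 8) ≠ 6 by decide) h56
  have e5_6 : T.m (v 6) ≤ Lib.Helper11.NumType.c T (v 5) (v 6) * T.m (v 6) := le_mul_of_one_le_left (hm 6).le c5_6
  have e6_5 : T.m (v 5) ≤ Lib.Helper11.NumType.c T (v 6) (v 5) * T.m (v 5) := le_mul_of_one_le_left (hm 5).le c6_5
  have c7_3 := Lib.Helper11.NumType.config_one_le T v (show (7 : Fin 8) ≠ 3 by decide) h73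
  have c3_7 := Lib.Helper11.NumType.config_one_le' T v (show (7 : Fin 8) ≠ 3 by decide) h73
  have e7_3 : T.m (v 3) ≤ Lib.Helper11.NumType.c T (v 7) (v 3) * T.m (v 3) := le_mul_of_one_le_left (hm 3).le c7_3
  have e3_7 : T.m (v 7) ≤ Lib.Helper11.NumType.c T (v 3) (v 7) * T.m (v 7) := le_mul_of_one_le_left (hm 7).le c3_7
  simp only [Fin.sum_univ_eight, hd] at htot r0 r1 r2 r3 r4 r5 r6 r7
  linarith

end Groth.Agent.S7344
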