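import Groth.Statements.S7346
import Mathlib
import Groth.Agent.Lib.Helper11.NumType

set_option autoImplicit false
open Finset
open Models Models.NumericalType

namespace Groth.Agent.S7346

/-- Classification of proper subgraphs of type D4 (one vertex joined to three others): let T be a
numerical type on n > 4 indices and i_1, …, i_4 distinct (-2)-indices with a_{12}, a_{13}, a_{14}
nonzero. Then for some integer w all w_{i_j} equal w, these intersection numbers equal w, all other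
a_{i_j i_k} (j ≠ k) vanish, and 2 m_1 ≥ m_2 + m_3 + m_4, 2 m_2 ≥ m_1, 2 m_3 ≥ m_1, 2 m_4 ≥ m_1. -/
theorem result {n : ℕ} (T : Models.NumericalType n) (hn : 4 < n)
    (v : Fin 4 ↪ Fin n) (hv : ∀ j, T.IsMinusTwo (v j)) (h01 : T.a (v 0) (v 1) ≠ 0) (h02 : T.a (v 0) (v 2) ≠ 0) (h03 : T.a (v 0) (v 3) ≠ 0) :
    ∃ w : ℤ, (∀ j : Fin 4, T.w (v j) = w) ∧
      T.a (v 0) (v 1) = w ∧
      T.a (v 0) (v 2) = w ∧
      T.a (v 0) (v 3) = w ∧
      T.a (v 1) (v 2) = 0 ∧
      T.a (v 1) (v 3) = 0 ∧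
      T.a (v 2) (v 3) = 0 ∧
      T.m (v 1) + T.m (v 2) + T.m (v 3) ≤ 2 * T.m (v 0) ∧
      T.m (v 0) ≤ 2 * T.m (v 1) ∧
      T.m (v 0) ≤ 2 * T.m (v 2) ∧
      T.m (v 0) ≤ 2 * T.m (v 3) := by
  have hd := Lib.Helper11.NumType.config_diag T v hv
  have hm : ∀ t, 0 < T.m (v t) := fun t => T.m_pos (v t)
  have htot := Lib.Helper11.NumType.sum_sum_config_lt T v (by norm_num) hn
  have r0 := Lib.Helper11.NumType.sum_config_le T v 0
  have r1 := Lib.Helper11.NumType.sum_config_le T v 1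
  have r2 := Lib.Helper11.NumType.sum_config_le T v 2
  have r3 := Lib.Helper11.NumType.sum_config_le T v 3
  have p0_1 := Lib.Helper11.NumType.config_mul_nonneg T v (show (0 : Fin 4) ≠ 1 by decide)
  have p0_2 := Lib.Helper11.NumType.config_mul_nonneg T v (show (0 : Fin 4) ≠ 2 by decide)
  have p0_3 := Lib.Helper11.NumType.config_mul_nonneg T v (show (0 : Fin 4) ≠ 3 by decide)
  have p1_0 := Lib.Helper11.NumType.config_mul_nonneg T v (show (1 : Fin 4) ≠ 0 by decide)
  have p1_2 := Lib.Helper11.NumType.config_mul_nonneg T v (show (1 : Fin 4) ≠ 2 by decide)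
  have p1_3 := Lib.Helper11.NumType.config_mul_nonneg T v (show (1 : Fin 4) ≠ 3 by decide)
  have p2_0 := Lib.Helper11.NumType.config_mul_nonneg T v (show (2 : Fin 4) ≠ 0 by decide)
  have p2_1 := Lib.Helper11.NumType.config_mul_nonneg T v (show (2 : Fin 4) ≠ 1 by decide)
  have p2_3 := Lib.Helper11.NumType.config_mul_nonneg T v (show (2 : Fin 4) ≠ 3 by decide)
  have p3_0 := Lib.Helper11.NumType.config_mul_nonneg T v (show (3 : Fin 4) ≠ 0 by decide)
  have p3_1 := Lib.Helper11.NumType.config_mul_nonneg T v (show (3 : Fin 4) ≠ 1 by decide)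
  have p3_2 := Lib.Helper11.NumType.config_mul_nonneg T v (show (3 : Fin 4) ≠ 2 by decide)
  have c0_1 := Lib.Helper11.NumType.config_one_le T v (show (0 : Fin 4) ≠ 1 by decide) h01
  have c1_0 := Lib.Helper11.NumType.config_one_le' T v (show (0 : Fin 4) ≠ 1 by decide) h01
  have e0_1 : T.m (v 1) ≤ Lib.Helper11.NumType.c T (v 0) (v 1) * T.m (v 1) := le_mul_of_one_le_left (hm 1).le c0_1
  have e1_0 : T.m (v 0) ≤ Lib.Helper11.NumType.c T (v 1) (v 0) * T.m (v 0) := le_mul_of_one_le_left (hm 0).le c1_0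
  have c0_2 := Lib.Helper11.NumType.config_one_le T v (show (0 : Fin 4) ≠ 2 by decide) h02
  have c2_0 := Lib.Helper11.NumType.config_one_le' T v (show (0 : Fin 4) ≠ 2 by decide) h02
  have e0_2 : T.m (v 2) ≤ Lib.Helper11.NumType.c T (v 0) (v 2) * T.m (v 2) := le_mul_of_one_le_left (hm 2).le c0_2
  have e2_0 : T.m (v 0) ≤ Lib.Helper11.NumType.c T (v 2) (v 0) * T.m (v 0) := le_mul_of_one_le_left (hm 0).le c2_0
  have c0_3 := Lib.Helper11.NumType.config_one_le T v (show (0 : Fin 4) ≠ 3 by decide) h03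
  have c3_0 := Lib.Helper11.NumType.config_one_le' T v (show (0 : Fin 4) ≠ 3 by decide) h03
  have e0_3 : T.m (v 3) ≤ Lib.Helper11.NumType.c T (v 0) (v 3) * T.m (v 3) := le_mul_of_one_le_left (hm 3).le c0_3
  have e3_0 : T.m (v 0) ≤ Lib.Helper11.NumType.c T (v 3) (v 0) * T.m (v 0) := le_mul_of_one_le_left (hm 0).le c3_0
  simp only [Fin.sum_univ_four, hd] at htot r0 r1 r2 r3
  have u0_1 : Lib.Helper11.NumType.c T (v 0) (v 1) = 1 := by
    by_contra hne
    have h2 : 2 ≤ Lib.Helper11.NumType.c T (v 0) (v 1) := by omega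
    have hp : 2 * T.m (v 1) ≤ Lib.Helper11.NumType.c T (v 0) (v 1) * T.m (v 1) := mul_le_mul_of_nonneg_right h2 (hm 1).le
    linarith
  have u1_0 : Lib.Helper11.NumType.c T (v 1) (v 0) = 1 := by
    by_contra hne
    have h2 : 2 ≤ Lib.Helper11.NumType.c T (v 1) (v 0) := by omega
    have hp : 2 * T.m (v 0) ≤ Lib.Helper11.NumType.c T (v 1) (v 0) * T.m (v 0) := mul_le_mul_of_nonneg_right h2 (hm 0).le
    linarith
  have u0_2 : Lib.Helper11.NumType.c T (v 0) (v 2) = 1 := by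
    by_contra hne
    have h2 : 2 ≤ Lib.Helper11.NumType.c T (v 0) (v 2) := by omega
    have hp : 2 * T.m (v 2) ≤ Lib.Helper11.NumType.c T (v 0) (v 2) * T.m (v 2) := mul_le_mul_of_nonneg_right h2 (hm 2).le
    linarith
  have u2_0 : Lib.Helper11.NumType.c T (v 2) (v 0) = 1 := by
    by_contra hne
    have h2 : 2 ≤ Lib.Helper11.NumType.c T (v 2) (v 0) := by omega
    have hp : 2 * T.m (v 0) ≤ Lib.Helper11.NumType.c T (v 2) (v 0) * T.m (v 0) := mul_le_mul_of_nonneg_right h2 (hm 0).le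
    linarith
  have u0_3 : Lib.Helper11.NumType.c T (v 0) (v 3) = 1 := by
    by_contra hne
    have h2 : 2 ≤ Lib.Helper11.NumType.c T (v 0) (v 3) := by omega
    have hp : 2 * T.m (v 3) ≤ Lib.Helper11.NumType.c T (v 0) (v 3) * T.m (v 3) := mul_le_mul_of_nonneg_right h2 (hm 3).le
    linarith
  have u3_0 : Lib.Helper11.NumType.c T (v 3) (v 0) = 1 := by
    by_contra hne
    have h2 : 2 ≤ Lib.Helper11.NumType.c T (v 3) (v 0) := by omega
    have hp : 2 * T.m (v 0) ≤ Lib.Helper11.NumType.c T (v 3) (v 0) * T.m (v 0) := mul_le_mul_of_nonneg_right h2 (hm 0).le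
    linarith
  have z1_2 : Lib.Helper11.NumType.c T (v 1) (v 2) = 0 := by
    by_contra hne
    have h0 := Lib.Helper11.NumType.config_nonneg T v (show (1 : Fin 4) ≠ 2 by decide)
    have h1 : 1 ≤ Lib.Helper11.NumType.c T (v 1) (v 2) := by omega
    have h1' : 1 ≤ Lib.Helper11.NumType.c T (v 2) (v 1) := Lib.Helper11.NumType.c_pos_symm T (fun h' => absurd (v.injective h') (by decide)) h1
    have hp : T.m (v 2) ≤ Lib.Helper11.NumType.c T (v 1) (v 2) * T.m (v 2) := le_mul_of_one_le_left (hm 2).le h1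
    have hp' : T.m (v 1) ≤ Lib.Helper11.NumType.c T (v 2) (v 1) * T.m (v 1) := le_mul_of_one_le_left (hm 1).le h1'
    linarith
  have z2_1 : Lib.Helper11.NumType.c T (v 2) (v 1) = 0 := Lib.Helper11.NumType.c_eq_zero_symm T z1_2
  have z1_3 : Lib.Helper11.NumType.c T (v 1) (v 3) = 0 := by
    by_contra hne
    have h0 := Lib.Helper11.NumType.config_nonneg T v (show (1 : Fin 4) ≠ 3 by decide)
    have h1 : 1 ≤ Lib.Helper11.NumType.c T (v 1) (v 3) := by omega
    have h1' : 1 ≤ Lib.Helper11.NumType.c T (v 3) (v 1) := Lib.Helper11.NumType.c_pos_symm T (fun h' => absurd (v.injective h') (by decide)) h1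
    have hp : T.m (v 3) ≤ Lib.Helper11.NumType.c T (v 1) (v 3) * T.m (v 3) := le_mul_of_one_le_left (hm 3).le h1
    have hp' : T.m (v 1) ≤ Lib.Helper11.NumType.c T (v 3) (v 1) * T.m (v 1) := le_mul_of_one_le_left (hm 1).le h1'
    linarith
  have z3_1 : Lib.Helper11.NumType.c T (v 3) (v 1) = 0 := Lib.Helper11.NumType.c_eq_zero_symm T z1_3
  have z2_3 : Lib.Helper11.NumType.c T (v 2) (v 3) = 0 := by
    by_contra hne
    have h0 := Lib.Helper11.NumType.config_nonneg T v (show (2 : Fin 4) ≠ 3 by decide)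
    have h1 : 1 ≤ Lib.Helper11.NumType.c T (v 2) (v 3) := by omega
    have h1' : 1 ≤ Lib.Helper11.NumType.c T (v 3) (v 2) := Lib.Helper11.NumType.c_pos_symm T (fun h' => absurd (v.injective h') (by decide)) h1
    have hp : T.m (v 3) ≤ Lib.Helper11.NumType.c T (v 2) (v 3) * T.m (v 3) := le_mul_of_one_le_left (hm 3).le h1
    have hp' : T.m (v 2) ≤ Lib.Helper11.NumType.c T (v 3) (v 2) * T.m (v 2) := le_mul_of_one_le_left (hm 2).le h1'
    linarith
  have z3_2 : Lib.Helper11.NumType.c T (v 3) (v 2) = 0 := Lib.Helper11.NumType.c_eq_zero_symm T z2_3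
  have w0_1 : T.w (v 0) = T.w (v 1) := by
    have := Lib.Helper11.NumType.w_mul_c_symm T (v 0) (v 1)
    rw [u0_1, u1_0] at this
    linarith
  have w0_2 : T.w (v 0) = T.w (v 2) := by
    have := Lib.Helper11.NumType.w_mul_c_symm T (v 0) (v 2)
    rw [u0_2, u2_0] at this
    linarith
  have w0_3 : T.w (v 0) = T.w (v 3) := by
    have := Lib.Helper11.NumType.w_mul_c_symm T (v 0) (v 3)
    rw [u0_3, u3_0] at this
    linarith
  have hw : ∀ j : Fin 4, T.w (v j) = T.w (v 0) := by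
    intro j
    fin_cases j
    · show T.w (v 0) = T.w (v 0)
      linarith [w0_1, w0_2, w0_3]
    · show T.w (v 1) = T.w (v 0)
      linarith [w0_1, w0_2, w0_3]
    · show T.w (v 2) = T.w (v 0)
      linarith [w0_1, w0_2, w0_3]
    · show T.w (v 3) = T.w (v 0)
      linarith [w0_1, w0_2, w0_3]
  simp only [u0_1, u0_2, u0_3, u1_0, u2_0, u3_0, z1_2, z1_3, z2_3, z2_1, z3_1, z3_2, one_mul, zero_mul, add_zero] at r0 r1 r2 r3
  refine ⟨T.w (v 0), hw, ?_, ?_, ?_, ?_, ?_, ?_, ?_, ?_, ?_, ?_⟩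
  · have hthis := Lib.Helper11.NumType.a_eq T (v 0) (v 1)
    rw [u0_1, mul_one] at hthis
    linarith [w0_1, w0_2, w0_3]
  · have hthis := Lib.Helper11.NumType.a_eq T (v 0) (v 2)
    rw [u0_2, mul_one] at hthis
    linarith [w0_1, w0_2, w0_3]
  · have hthis := Lib.Helper11.NumType.a_eq T (v 0) (v 3)
    rw [u0_3, mul_one] at hthis
    linarith [w0_1, w0_2, w0_3]
  · rw [Lib.Helper11.NumType.a_eq, z1_2, mul_zero]
  · rw [Lib.Helper11.NumType.a_eq, z1_3, mul_zero]
  · rw [Lib.Helper11.NumType.a_eq, z2_3, mul_zero]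
  · linarith
  · linarith
  · linarith
  · linarith

end Groth.Agent.S7346
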