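import Groth.Statements.S7349
import Mathlib
import Groth.Agent.Lib.Helper11.NumType

set_option autoImplicit false
open Finset
open Models Models.NumericalType

namespace Groth.Agent.S7349

/-- Classification of proper subgraphs of type E7 (a chain i_1 … i_6 with i_7 joined to i_4): let T be a
numerical type on n > 7 indices and i_1, …, i_7 distinct (-2)-indices with a_{12}, a_{23}, a_{34},
a_{45}, a_{56}, a_{47} nonzero. Then for some integer w all w_{i_j} equal w, these intersection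
numbers equal w, all other a_{i_j i_k} (j ≠ k) vanish, and 2 m_1 ≥ m_2, 2 m_2 ≥ m_1 + m_3, 2 m_3 ≥
m_2 + m_4, 2 m_4 ≥ m_3 + m_5 + m_7, 2 m_5 ≥ m_4 + m_6, 2 m_6 ≥ m_5, 2 m_7 ≥ m_4. -/
theorem result {n : ℕ} (T : Models.NumericalType n) (hn : 7 < n)
    (v : Fin 7 ↪ Fin n) (hv : ∀ j, T.IsMinusTwo (v j)) (h01 : T.a (v 0) (v 1) ≠ 0) (h12 : T.a (v 1) (v 2) ≠ 0) (h23 : T.a (v 2) (v 3) ≠ 0) (h34 : T.a (v 3) (v 4) ≠ 0) (h45 : T.a (v 4) (v 5) ≠ 0) (h36 : T.a (v 3) (v 6) ≠ 0) :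
    ∃ w : ℤ, (∀ j : Fin 7, T.w (v j) = w) ∧
      T.a (v 0) (v 1) = w ∧
      T.a (v 1) (v 2) = w ∧
      T.a (v 2) (v 3) = w ∧
      T.a (v 3) (v 4) = w ∧
      T.a (v 4) (v 5) = w ∧
      T.a (v 3) (v 6) = w ∧
      T.a (v 0) (v 2) = 0 ∧
      T.a (v 0) (v 3) = 0 ∧
      T.a (v 0) (v 4) = 0 ∧
      T.a (v 0) (v 5) = 0 ∧
      T.a (v 0) (v 6) = 0 ∧
      T.a (v 1) (v 3) = 0 ∧
      T.a (v 1) (v 4) = 0 ∧
      T.a (v 1) (v 5) = 0 ∧
      T.a (v 1) (v 6) = 0 ∧
      T.a (v 2) (v 4) = 0 ∧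
      T.a (v 2) (v 5) = 0 ∧
      T.a (v 2) (v 6) = 0 ∧
      T.a (v 3) (v 5) = 0 ∧
      T.a (v 4) (v 6) = 0 ∧
      T.a (v 5) (v 6) = 0 ∧
      T.m (v 1) ≤ 2 * T.m (v 0) ∧
      T.m (v 0) + T.m (v 2) ≤ 2 * T.m (v 1) ∧
      T.m (v 1) + T.m (v 3) ≤ 2 * T.m (v 2) ∧
      T.m (v 2) + T.m (v 4) + T.m (v 6) ≤ 2 * T.m (v 3) ∧
      T.m (v 3) + T.m (v 5) ≤ 2 * T.m (v 4) ∧
      T.m (v 4) ≤ 2 * T.m (v 5) ∧
      T.m (v 3) ≤ 2 * T.m (v 6) := by
  have hd := Lib.Helper11.NumType.config_diag T v hv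
  have hm : ∀ t, 0 < T.m (v t) := fun t => T.m_pos (v t)
  have htot := Lib.Helper11.NumType.sum_sum_config_lt T v (by norm_num) hn
  have r0 := Lib.Helper11.NumType.sum_config_le T v 0
  have r1 := Lib.Helper11.NumType.sum_config_le T v 1
  have r2 := Lib.Helper11.NumType.sum_config_le T v 2
  have r3 := Lib.Helper11.NumType.sum_config_le T v 3
  have r4 := Lib.Helper11.NumType.sum_config_le T v 4
  have r5 := Lib.Helper11.NumType.sum_config_le T v 5
  have r6 := Lib.Helper11.NumType.sum_config_le T v 6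
  have p0_1 := Lib.Helper11.NumType.config_mul_nonneg T v (show (0 : Fin 7) ≠ 1 by decide)
  have p0_2 := Lib.Helper11.NumType.config_mul_nonneg T v (show (0 : Fin 7) ≠ 2 by decide)
  have p0_3 := Lib.Helper11.NumType.config_mul_nonneg T v (show (0 : Fin 7) ≠ 3 by decide)
  have p0_4 := Lib.Helper11.NumType.config_mul_nonneg T v (show (0 : Fin 7) ≠ 4 by decide)
  have p0_5 := Lib.Helper11.NumType.config_mul_nonneg T v (show (0 : Fin 7) ≠ 5 by decide)
  have p0_6 := Lib.Helper11.NumType.config_mul_nonneg T v (show (0 : Fin 7) ≠ 6 by decide)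
  have p1_0 := Lib.Helper11.NumType.config_mul_nonneg T v (show (1 : Fin 7) ≠ 0 by decide)
  have p1_2 := Lib.Helper11.NumType.config_mul_nonneg T v (show (1 : Fin 7) ≠ 2 by decide)
  have p1_3 := Lib.Helper11.NumType.config_mul_nonneg T v (show (1 : Fin 7) ≠ 3 by decide)
  have p1_4 := Lib.Helper11.NumType.config_mul_nonneg T v (show (1 : Fin 7) ≠ 4 by decide)
  have p1_5 := Lib.Helper11.NumType.config_mul_nonneg T v (show (1 : Fin 7) ≠ 5 by decide)
  have p1_6 := Lib.Helper11.NumType.config_mul_nonneg T v (show (1 : Fin 7) ≠ 6 by decide)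
  have p2_0 := Lib.Helper11.NumType.config_mul_nonneg T v (show (2 : Fin 7) ≠ 0 by decide)
  have p2_1 := Lib.Helper11.NumType.config_mul_nonneg T v (show (2 : Fin 7) ≠ 1 by decide)
  have p2_3 := Lib.Helper11.NumType.config_mul_nonneg T v (show (2 : Fin 7) ≠ 3 by decide)
  have p2_4 := Lib.Helper11.NumType.config_mul_nonneg T v (show (2 : Fin 7) ≠ 4 by decide)
  have p2_5 := Lib.Helper11.NumType.config_mul_nonneg T v (show (2 : Fin 7) ≠ 5 by decide)
  have p2_6 := Lib.Helper11.NumType.config_mul_nonneg T v (show (2 : Fin 7) ≠ 6 by decide)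
  have p3_0 := Lib.Helper11.NumType.config_mul_nonneg T v (show (3 : Fin 7) ≠ 0 by decide)
  have p3_1 := Lib.Helper11.NumType.config_mul_nonneg T v (show (3 : Fin 7) ≠ 1 by decide)
  have p3_2 := Lib.Helper11.NumType.config_mul_nonneg T v (show (3 : Fin 7) ≠ 2 by decide)
  have p3_4 := Lib.Helper11.NumType.config_mul_nonneg T v (show (3 : Fin 7) ≠ 4 by decide)
  have p3_5 := Lib.Helper11.NumType.config_mul_nonneg T v (show (3 : Fin 7) ≠ 5 by decide)
  have p3_6 := Lib.Helper11.NumType.config_mul_nonneg T v (show (3 : Fin 7) ≠ 6 by decide)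
  have p4_0 := Lib.Helper11.NumType.config_mul_nonneg T v (show (4 : Fin 7) ≠ 0 by decide)
  have p4_1 := Lib.Helper11.NumType.config_mul_nonneg T v (show (4 : Fin 7) ≠ 1 by decide)
  have p4_2 := Lib.Helper11.NumType.config_mul_nonneg T v (show (4 : Fin 7) ≠ 2 by decide)
  have p4_3 := Lib.Helper11.NumType.config_mul_nonneg T v (show (4 : Fin 7) ≠ 3 by decide)
  have p4_5 := Lib.Helper11.NumType.config_mul_nonneg T v (show (4 : Fin 7) ≠ 5 by decide)
  have p4_6 := Lib.Helper11.NumType.config_mul_nonneg T v (show (4 : Fin 7) ≠ 6 by decide)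
  have p5_0 := Lib.Helper11.NumType.config_mul_nonneg T v (show (5 : Fin 7) ≠ 0 by decide)
  have p5_1 := Lib.Helper11.NumType.config_mul_nonneg T v (show (5 : Fin 7) ≠ 1 by decide)
  have p5_2 := Lib.Helper11.NumType.config_mul_nonneg T v (show (5 : Fin 7) ≠ 2 by decide)
  have p5_3 := Lib.Helper11.NumType.config_mul_nonneg T v (show (5 : Fin 7) ≠ 3 by decide)
  have p5_4 := Lib.Helper11.NumType.config_mul_nonneg T v (show (5 : Fin 7) ≠ 4 by decide)
  have p5_6 := Lib.Helper11.NumType.config_mul_nonneg T v (show (5 : Fin 7) ≠ 6 by decide)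
  have p6_0 := Lib.Helper11.NumType.config_mul_nonneg T v (show (6 : Fin 7) ≠ 0 by decide)
  have p6_1 := Lib.Helper11.NumType.config_mul_nonneg T v (show (6 : Fin 7) ≠ 1 by decide)
  have p6_2 := Lib.Helper11.NumType.config_mul_nonneg T v (show (6 : Fin 7) ≠ 2 by decide)
  have p6_3 := Lib.Helper11.NumType.config_mul_nonneg T v (show (6 : Fin 7) ≠ 3 by decide)
  have p6_4 := Lib.Helper11.NumType.config_mul_nonneg T v (show (6 : Fin 7) ≠ 4 by decide)
  have p6_5 := Lib.Helper11.NumType.config_mul_nonneg T v (show (6 : Fin 7) ≠ 5 by decide)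
  have c0_1 := Lib.Helper11.NumType.config_one_le T v (show (0 : Fin 7) ≠ 1 by decide) h01
  have c1_0 := Lib.Helper11.NumType.config_one_le' T v (show (0 : Fin 7) ≠ 1 by decide) h01
  have e0_1 : T.m (v 1) ≤ Lib.Helper11.NumType.c T (v 0) (v 1) * T.m (v 1) := le_mul_of_one_le_left (hm 1).le c0_1
  have e1_0 : T.m (v 0) ≤ Lib.Helper11.NumType.c T (v 1) (v 0) * T.m (v 0) := le_mul_of_one_le_left (hm 0).le c1_0
  have c1_2 := Lib.Helper11.NumType.config_one_le T v (show (1 : Fin 7) ≠ 2 by decide) h12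
  have c2_1 := Lib.Helper11.NumType.config_one_le' T v (show (1 : Fin 7) ≠ 2 by decide) h12
  have e1_2 : T.m (v 2) ≤ Lib.Helper11.NumType.c T (v 1) (v 2) * T.m (v 2) := le_mul_of_one_le_left (hm 2).le c1_2
  have e2_1 : T.m (v 1) ≤ Lib.Helper11.NumType.c T (v 2) (v 1) * T.m (v 1) := le_mul_of_one_le_left (hm 1).le c2_1
  have c2_3 := Lib.Helper11.NumType.config_one_le T v (show (2 : Fin 7) ≠ 3 by decide) h23
  have c3_2 := Lib.Helper11.NumType.config_one_le' T v (show (2 : Fin 7) ≠ 3 by decide) h23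
  have e2_3 : T.m (v 3) ≤ Lib.Helper11.NumType.c T (v 2) (v 3) * T.m (v 3) := le_mul_of_one_le_left (hm 3).le c2_3
  have e3_2 : T.m (v 2) ≤ Lib.Helper11.NumType.c T (v 3) (v 2) * T.m (v 2) := le_mul_of_one_le_left (hm 2).le c3_2
  have c3_4 := Lib.Helper11.NumType.config_one_le T v (show (3 : Fin 7) ≠ 4 by decide) h34
  have c4_3 := Lib.Helper11.NumType.config_one_le' T v (show (3 : Fin 7) ≠ 4 by decide) h34
  have e3_4 : T.m (v 4) ≤ Lib.Helper11.NumType.c T (v 3) (v 4) * T.m (v 4) := le_mul_of_one_le_left (hm 4).le c3_4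
  have e4_3 : T.m (v 3) ≤ Lib.Helper11.NumType.c T (v 4) (v 3) * T.m (v 3) := le_mul_of_one_le_left (hm 3).le c4_3
  have c4_5 := Lib.Helper11.NumType.config_one_le T v (show (4 : Fin 7) ≠ 5 by decide) h45
  have c5_4 := Lib.Helper11.NumType.config_one_le' T v (show (4 : Fin 7) ≠ 5 by decide) h45
  have e4_5 : T.m (v 5) ≤ Lib.Helper11.NumType.c T (v 4) (v 5) * T.m (v 5) := le_mul_of_one_le_left (hm 5).le c4_5
  have e5_4 : T.m (v 4) ≤ Lib.Helper11.NumType.c T (v 5) (v 4) * T.m (v 4) := le_mul_of_one_le_left (hm 4).le c5_4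
  have c3_6 := Lib.Helper11.NumType.config_one_le T v (show (3 : Fin 7) ≠ 6 by decide) h36
  have c6_3 := Lib.Helper11.NumType.config_one_le' T v (show (3 : Fin 7) ≠ 6 by decide) h36
  have e3_6 : T.m (v 6) ≤ Lib.Helper11.NumType.c T (v 3) (v 6) * T.m (v 6) := le_mul_of_one_le_left (hm 6).le c3_6
  have e6_3 : T.m (v 3) ≤ Lib.Helper11.NumType.c T (v 6) (v 3) * T.m (v 3) := le_mul_of_one_le_left (hm 3).le c6_3
  simp only [Fin.sum_univ_seven, hd] at htot r0 r1 r2 r3 r4 r5 r6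
  have u0_1 : Lib.Helper11.NumType.c T (v 0) (v 1) = 1 := by
    by_contra hne
    have h2 : 2 ≤ Lib.Helper11.NumType.c T (v 0) (v 1) := by omega
    have hp : 2 * T.m (v 1) ≤ Lib.Helper11.NumType.c T (v 0) (v 1) * T.m (v 1) := mul_le_mul_of_nonneg_right h2 (hm 1).le
    linarith
  have u1_0 : Lib.Helper11.NumType.c T (v 1) (v 0) = 1 := by
    by_contra hne
    have h2 : 2 ≤ Lib.Helper11.NumType.c T (v 1) (v 0) := by omega
    have hp : 2 * T.m (v 0) ≤ Lib.Helper11.NumType.c T (v 1) (v 0) * T.m (v 0) := mul_le_mul_of_nonneg_right h2 (hm 0).le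
    linarith
  have u1_2 : Lib.Helper11.NumType.c T (v 1) (v 2) = 1 := by
    by_contra hne
    have h2 : 2 ≤ Lib.Helper11.NumType.c T (v 1) (v 2) := by omega
    have hp : 2 * T.m (v 2) ≤ Lib.Helper11.NumType.c T (v 1) (v 2) * T.m (v 2) := mul_le_mul_of_nonneg_right h2 (hm 2).le
    linarith
  have u2_1 : Lib.Helper11.NumType.c T (v 2) (v 1) = 1 := by
    by_contra hne
    have h2 : 2 ≤ Lib.Helper11.NumType.c T (v 2) (v 1) := by omega
    have hp : 2 * T.m (v 1) ≤ Lib.Helper11.NumType.c T (v 2) (v 1) * T.m (v 1) := mul_le_mul_of_nonneg_right h2 (hm 1).le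
    linarith
  have u2_3 : Lib.Helper11.NumType.c T (v 2) (v 3) = 1 := by
    by_contra hne
    have h2 : 2 ≤ Lib.Helper11.NumType.c T (v 2) (v 3) := by omega
    have hp : 2 * T.m (v 3) ≤ Lib.Helper11.NumType.c T (v 2) (v 3) * T.m (v 3) := mul_le_mul_of_nonneg_right h2 (hm 3).le
    linarith
  have u3_2 : Lib.Helper11.NumType.c T (v 3) (v 2) = 1 := by
    by_contra hne
    have h2 : 2 ≤ Lib.Helper11.NumType.c T (v 3) (v 2) := by omega
    have hp : 2 * T.m (v 2) ≤ Lib.Helper11.NumType.c T (v 3) (v 2) * T.m (v 2) := mul_le_mul_of_nonneg_right h2 (hm 2).le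
    linarith
  have u3_4 : Lib.Helper11.NumType.c T (v 3) (v 4) = 1 := by
    by_contra hne
    have h2 : 2 ≤ Lib.Helper11.NumType.c T (v 3) (v 4) := by omega
    have hp : 2 * T.m (v 4) ≤ Lib.Helper11.NumType.c T (v 3) (v 4) * T.m (v 4) := mul_le_mul_of_nonneg_right h2 (hm 4).le
    linarith
  have u4_3 : Lib.Helper11.NumType.c T (v 4) (v 3) = 1 := by
    by_contra hne
    have h2 : 2 ≤ Lib.Helper11.NumType.c T (v 4) (v 3) := by omega
    have hp : 2 * T.m (v 3) ≤ Lib.Helper11.NumType.c T (v 4) (v 3) * T.m (v 3) := mul_le_mul_of_nonneg_right h2 (hm 3).le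
    linarith
  have u4_5 : Lib.Helper11.NumType.c T (v 4) (v 5) = 1 := by
    by_contra hne
    have h2 : 2 ≤ Lib.Helper11.NumType.c T (v 4) (v 5) := by omega
    have hp : 2 * T.m (v 5) ≤ Lib.Helper11.NumType.c T (v 4) (v 5) * T.m (v 5) := mul_le_mul_of_nonneg_right h2 (hm 5).le
    linarith
  have u5_4 : Lib.Helper11.NumType.c T (v 5) (v 4) = 1 := by
    by_contra hne
    have h2 : 2 ≤ Lib.Helper11.NumType.c T (v 5) (v 4) := by omega
    have hp : 2 * T.m (v 4) ≤ Lib.Helper11.NumType.c T (v 5) (v 4) * T.m (v 4) := mul_le_mul_of_nonneg_right h2 (hm 4).le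
    linarith
  have u3_6 : Lib.Helper11.NumType.c T (v 3) (v 6) = 1 := by
    by_contra hne
    have h2 : 2 ≤ Lib.Helper11.NumType.c T (v 3) (v 6) := by omega
    have hp : 2 * T.m (v 6) ≤ Lib.Helper11.NumType.c T (v 3) (v 6) * T.m (v 6) := mul_le_mul_of_nonneg_right h2 (hm 6).le
    linarith
  have u6_3 : Lib.Helper11.NumType.c T (v 6) (v 3) = 1 := by
    by_contra hne
    have h2 : 2 ≤ Lib.Helper11.NumType.c T (v 6) (v 3) := by omega
    have hp : 2 * T.m (v 3) ≤ Lib.Helper11.NumType.c T (v 6) (v 3) * T.m (v 3) := mul_le_mul_of_nonneg_right h2 (hm 3).le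
    linarith
  have z0_2 : Lib.Helper11.NumType.c T (v 0) (v 2) = 0 := by
    by_contra hne
    have h0 := Lib.Helper11.NumType.config_nonneg T v (show (0 : Fin 7) ≠ 2 by decide)
    have h1 : 1 ≤ Lib.Helper11.NumType.c T (v 0) (v 2) := by omega
    have h1' : 1 ≤ Lib.Helper11.NumType.c T (v 2) (v 0) := Lib.Helper11.NumType.c_pos_symm T (fun h' => absurd (v.injective h') (by decide)) h1
    have hp : T.m (v 2) ≤ Lib.Helper11.NumType.c T (v 0) (v 2) * T.m (v 2) := le_mul_of_one_le_left (hm 2).le h1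
    have hp' : T.m (v 0) ≤ Lib.Helper11.NumType.c T (v 2) (v 0) * T.m (v 0) := le_mul_of_one_le_left (hm 0).le h1'
    linarith
  have z2_0 : Lib.Helper11.NumType.c T (v 2) (v 0) = 0 := Lib.Helper11.NumType.c_eq_zero_symm T z0_2
  have z0_3 : Lib.Helper11.NumType.c T (v 0) (v 3) = 0 := by
    by_contra hne
    have h0 := Lib.Helper11.NumType.config_nonneg T v (show (0 : Fin 7) ≠ 3 by decide)
    have h1 : 1 ≤ Lib.Helper11.NumType.c T (v 0) (v 3) := by omega
    have h1' : 1 ≤ Lib.Helper11.NumType.c T (v 3) (v 0) := Lib.Helper11.NumType.c_pos_symm T (fun h' => absurd (v.injective h') (by decide)) h1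
    have hp : T.m (v 3) ≤ Lib.Helper11.NumType.c T (v 0) (v 3) * T.m (v 3) := le_mul_of_one_le_left (hm 3).le h1
    have hp' : T.m (v 0) ≤ Lib.Helper11.NumType.c T (v 3) (v 0) * T.m (v 0) := le_mul_of_one_le_left (hm 0).le h1'
    linarith
  have z3_0 : Lib.Helper11.NumType.c T (v 3) (v 0) = 0 := Lib.Helper11.NumType.c_eq_zero_symm T z0_3
  have z0_4 : Lib.Helper11.NumType.c T (v 0) (v 4) = 0 := by
    by_contra hne
    have h0 := Lib.Helper11.NumType.config_nonneg T v (show (0 : Fin 7) ≠ 4 by decide)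
    have h1 : 1 ≤ Lib.Helper11.NumType.c T (v 0) (v 4) := by omega
    have h1' : 1 ≤ Lib.Helper11.NumType.c T (v 4) (v 0) := Lib.Helper11.NumType.c_pos_symm T (fun h' => absurd (v.injective h') (by decide)) h1
    have hp : T.m (v 4) ≤ Lib.Helper11.NumType.c T (v 0) (v 4) * T.m (v 4) := le_mul_of_one_le_left (hm 4).le h1
    have hp' : T.m (v 0) ≤ Lib.Helper11.NumType.c T (v 4) (v 0) * T.m (v 0) := le_mul_of_one_le_left (hm 0).le h1'
    linarith
  have z4_0 : Lib.Helper11.NumType.c T (v 4) (v 0) = 0 := Lib.Helper11.NumType.c_eq_zero_symm T z0_4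
  have z0_5 : Lib.Helper11.NumType.c T (v 0) (v 5) = 0 := by
    by_contra hne
    have h0 := Lib.Helper11.NumType.config_nonneg T v (show (0 : Fin 7) ≠ 5 by decide)
    have h1 : 1 ≤ Lib.Helper11.NumType.c T (v 0) (v 5) := by omega
    have h1' : 1 ≤ Lib.Helper11.NumType.c T (v 5) (v 0) := Lib.Helper11.NumType.c_pos_symm T (fun h' => absurd (v.injective h') (by decide)) h1
    have hp : T.m (v 5) ≤ Lib.Helper11.NumType.c T (v 0) (v 5) * T.m (v 5) := le_mul_of_one_le_left (hm 5).le h1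
    have hp' : T.m (v 0) ≤ Lib.Helper11.NumType.c T (v 5) (v 0) * T.m (v 0) := le_mul_of_one_le_left (hm 0).le h1'
    linarith
  have z5_0 : Lib.Helper11.NumType.c T (v 5) (v 0) = 0 := Lib.Helper11.NumType.c_eq_zero_symm T z0_5
  have z0_6 : Lib.Helper11.NumType.c T (v 0) (v 6) = 0 := by
    by_contra hne
    have h0 := Lib.Helper11.NumType.config_nonneg T v (show (0 : Fin 7) ≠ 6 by decide)
    have h1 : 1 ≤ Lib.Helper11.NumType.c T (v 0) (v 6) := by omega
    have h1' : 1 ≤ Lib.Helper11.NumType.c T (v 6) (v 0) := Lib.Helper11.NumType.c_pos_symm T (fun h' => absurd (v.injective h') (by decide)) h1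
    have hp : T.m (v 6) ≤ Lib.Helper11.NumType.c T (v 0) (v 6) * T.m (v 6) := le_mul_of_one_le_left (hm 6).le h1
    have hp' : T.m (v 0) ≤ Lib.Helper11.NumType.c T (v 6) (v 0) * T.m (v 0) := le_mul_of_one_le_left (hm 0).le h1'
    linarith
  have z6_0 : Lib.Helper11.NumType.c T (v 6) (v 0) = 0 := Lib.Helper11.NumType.c_eq_zero_symm T z0_6
  have z1_3 : Lib.Helper11.NumType.c T (v 1) (v 3) = 0 := by
    by_contra hne
    have h0 := Lib.Helper11.NumType.config_nonneg T v (show (1 : Fin 7) ≠ 3 by decide)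
    have h1 : 1 ≤ Lib.Helper11.NumType.c T (v 1) (v 3) := by omega
    have h1' : 1 ≤ Lib.Helper11.NumType.c T (v 3) (v 1) := Lib.Helper11.NumType.c_pos_symm T (fun h' => absurd (v.injective h') (by decide)) h1
    have hp : T.m (v 3) ≤ Lib.Helper11.NumType.c T (v 1) (v 3) * T.m (v 3) := le_mul_of_one_le_left (hm 3).le h1
    have hp' : T.m (v 1) ≤ Lib.Helper11.NumType.c T (v 3) (v 1) * T.m (v 1) := le_mul_of_one_le_left (hm 1).le h1'
    linarith
  have z3_1 : Lib.Helper11.NumType.c T (v 3) (v 1) = 0 := Lib.Helper11.NumType.c_eq_zero_symm T z1_3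
  have z1_4 : Lib.Helper11.NumType.c T (v 1) (v 4) = 0 := by
    by_contra hne
    have h0 := Lib.Helper11.NumType.config_nonneg T v (show (1 : Fin 7) ≠ 4 by decide)
    have h1 : 1 ≤ Lib.Helper11.NumType.c T (v 1) (v 4) := by omega
    have h1' : 1 ≤ Lib.Helper11.NumType.c T (v 4) (v 1) := Lib.Helper11.NumType.c_pos_symm T (fun h' => absurd (v.injective h') (by decide)) h1
    have hp : T.m (v 4) ≤ Lib.Helper11.NumType.c T (v 1) (v 4) * T.m (v 4) := le_mul_of_one_le_left (hm 4).le h1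
    have hp' : T.m (v 1) ≤ Lib.Helper11.NumType.c T (v 4) (v 1) * T.m (v 1) := le_mul_of_one_le_left (hm 1).le h1'
    linarith
  have z4_1 : Lib.Helper11.NumType.c T (v 4) (v 1) = 0 := Lib.Helper11.NumType.c_eq_zero_symm T z1_4
  have z1_5 : Lib.Helper11.NumType.c T (v 1) (v 5) = 0 := by
    by_contra hne
    have h0 := Lib.Helper11.NumType.config_nonneg T v (show (1 : Fin 7) ≠ 5 by decide)
    have h1 : 1 ≤ Lib.Helper11.NumType.c T (v 1) (v 5) := by omega
    have h1' : 1 ≤ Lib.Helper11.NumType.c T (v 5) (v 1) := Lib.Helper11.NumType.c_pos_symm T (fun h' => absurd (v.injective h') (by decide)) h1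
    have hp : T.m (v 5) ≤ Lib.Helper11.NumType.c T (v 1) (v 5) * T.m (v 5) := le_mul_of_one_le_left (hm 5).le h1
    have hp' : T.m (v 1) ≤ Lib.Helper11.NumType.c T (v 5) (v 1) * T.m (v 1) := le_mul_of_one_le_left (hm 1).le h1'
    linarith
  have z5_1 : Lib.Helper11.NumType.c T (v 5) (v 1) = 0 := Lib.Helper11.NumType.c_eq_zero_symm T z1_5
  have z1_6 : Lib.Helper11.NumType.c T (v 1) (v 6) = 0 := by
    by_contra hne
    have h0 := Lib.Helper11.NumType.config_nonneg T v (show (1 : Fin 7) ≠ 6 by decide)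
    have h1 : 1 ≤ Lib.Helper11.NumType.c T (v 1) (v 6) := by omega
    have h1' : 1 ≤ Lib.Helper11.NumType.c T (v 6) (v 1) := Lib.Helper11.NumType.c_pos_symm T (fun h' => absurd (v.injective h') (by decide)) h1
    have hp : T.m (v 6) ≤ Lib.Helper11.NumType.c T (v 1) (v 6) * T.m (v 6) := le_mul_of_one_le_left (hm 6).le h1
    have hp' : T.m (v 1) ≤ Lib.Helper11.NumType.c T (v 6) (v 1) * T.m (v 1) := le_mul_of_one_le_left (hm 1).le h1'
    linarith
  have z6_1 : Lib.Helper11.NumType.c T (v 6) (v 1) = 0 := Lib.Helper11.NumType.c_eq_zero_symm T z1_6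
  have z2_4 : Lib.Helper11.NumType.c T (v 2) (v 4) = 0 := by
    by_contra hne
    have h0 := Lib.Helper11.NumType.config_nonneg T v (show (2 : Fin 7) ≠ 4 by decide)
    have h1 : 1 ≤ Lib.Helper11.NumType.c T (v 2) (v 4) := by omega
    have h1' : 1 ≤ Lib.Helper11.NumType.c T (v 4) (v 2) := Lib.Helper11.NumType.c_pos_symm T (fun h' => absurd (v.injective h') (by decide)) h1
    have hp : T.m (v 4) ≤ Lib.Helper11.NumType.c T (v 2) (v 4) * T.m (v 4) := le_mul_of_one_le_left (hm 4).le h1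
    have hp' : T.m (v 2) ≤ Lib.Helper11.NumType.c T (v 4) (v 2) * T.m (v 2) := le_mul_of_one_le_left (hm 2).le h1'
    linarith
  have z4_2 : Lib.Helper11.NumType.c T (v 4) (v 2) = 0 := Lib.Helper11.NumType.c_eq_zero_symm T z2_4
  have z2_5 : Lib.Helper11.NumType.c T (v 2) (v 5) = 0 := by
    by_contra hne
    have h0 := Lib.Helper11.NumType.config_nonneg T v (show (2 : Fin 7) ≠ 5 by decide)
    have h1 : 1 ≤ Lib.Helper11.NumType.c T (v 2) (v 5) := by omega
    have h1' : 1 ≤ Lib.Helper11.NumType.c T (v 5) (v 2) := Lib.Helper11.NumType.c_pos_symm T (fun h' => absurd (v.injective h') (by decide)) h1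
    have hp : T.m (v 5) ≤ Lib.Helper11.NumType.c T (v 2) (v 5) * T.m (v 5) := le_mul_of_one_le_left (hm 5).le h1
    have hp' : T.m (v 2) ≤ Lib.Helper11.NumType.c T (v 5) (v 2) * T.m (v 2) := le_mul_of_one_le_left (hm 2).le h1'
    linarith
  have z5_2 : Lib.Helper11.NumType.c T (v 5) (v 2) = 0 := Lib.Helper11.NumType.c_eq_zero_symm T z2_5
  have z2_6 : Lib.Helper11.NumType.c T (v 2) (v 6) = 0 := by
    by_contra hne
    have h0 := Lib.Helper11.NumType.config_nonneg T v (show (2 : Fin 7) ≠ 6 by decide)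
    have h1 : 1 ≤ Lib.Helper11.NumType.c T (v 2) (v 6) := by omega
    have h1' : 1 ≤ Lib.Helper11.NumType.c T (v 6) (v 2) := Lib.Helper11.NumType.c_pos_symm T (fun h' => absurd (v.injective h') (by decide)) h1
    have hp : T.m (v 6) ≤ Lib.Helper11.NumType.c T (v 2) (v 6) * T.m (v 6) := le_mul_of_one_le_left (hm 6).le h1
    have hp' : T.m (v 2) ≤ Lib.Helper11.NumType.c T (v 6) (v 2) * T.m (v 2) := le_mul_of_one_le_left (hm 2).le h1'
    linarith
  have z6_2 : Lib.Helper11.NumType.c T (v 6) (v 2) = 0 := Lib.Helper11.NumType.c_eq_zero_symm T z2_6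
  have z3_5 : Lib.Helper11.NumType.c T (v 3) (v 5) = 0 := by
    by_contra hne
    have h0 := Lib.Helper11.NumType.config_nonneg T v (show (3 : Fin 7) ≠ 5 by decide)
    have h1 : 1 ≤ Lib.Helper11.NumType.c T (v 3) (v 5) := by omega
    have h1' : 1 ≤ Lib.Helper11.NumType.c T (v 5) (v 3) := Lib.Helper11.NumType.c_pos_symm T (fun h' => absurd (v.injective h') (by decide)) h1
    have hp : T.m (v 5) ≤ Lib.Helper11.NumType.c T (v 3) (v 5) * T.m (v 5) := le_mul_of_one_le_left (hm 5).le h1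
    have hp' : T.m (v 3) ≤ Lib.Helper11.NumType.c T (v 5) (v 3) * T.m (v 3) := le_mul_of_one_le_left (hm 3).le h1'
    linarith
  have z5_3 : Lib.Helper11.NumType.c T (v 5) (v 3) = 0 := Lib.Helper11.NumType.c_eq_zero_symm T z3_5
  have z4_6 : Lib.Helper11.NumType.c T (v 4) (v 6) = 0 := by
    by_contra hne
    have h0 := Lib.Helper11.NumType.config_nonneg T v (show (4 : Fin 7) ≠ 6 by decide)
    have h1 : 1 ≤ Lib.Helper11.NumType.c T (v 4) (v 6) := by omega
    have h1' : 1 ≤ Lib.Helper11.NumType.c T (v 6) (v 4) := Lib.Helper11.NumType.c_pos_symm T (fun h' => absurd (v.injective h') (by decide)) h1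
    have hp : T.m (v 6) ≤ Lib.Helper11.NumType.c T (v 4) (v 6) * T.m (v 6) := le_mul_of_one_le_left (hm 6).le h1
    have hp' : T.m (v 4) ≤ Lib.Helper11.NumType.c T (v 6) (v 4) * T.m (v 4) := le_mul_of_one_le_left (hm 4).le h1'
    linarith
  have z6_4 : Lib.Helper11.NumType.c T (v 6) (v 4) = 0 := Lib.Helper11.NumType.c_eq_zero_symm T z4_6
  have z5_6 : Lib.Helper11.NumType.c T (v 5) (v 6) = 0 := by
    by_contra hne
    have h0 := Lib.Helper11.NumType.config_nonneg T v (show (5 : Fin 7) ≠ 6 by decide)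
    have h1 : 1 ≤ Lib.Helper11.NumType.c T (v 5) (v 6) := by omega
    have h1' : 1 ≤ Lib.Helper11.NumType.c T (v 6) (v 5) := Lib.Helper11.NumType.c_pos_symm T (fun h' => absurd (v.injective h') (by decide)) h1
    have hp : T.m (v 6) ≤ Lib.Helper11.NumType.c T (v 5) (v 6) * T.m (v 6) := le_mul_of_one_le_left (hm 6).le h1
    have hp' : T.m (v 5) ≤ Lib.Helper11.NumType.c T (v 6) (v 5) * T.m (v 5) := le_mul_of_one_le_left (hm 5).le h1'
    linarith
  have z6_5 : Lib.Helper11.NumType.c T (v 6) (v 5) = 0 := Lib.Helper11.NumType.c_eq_zero_symm T z5_6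
  have w0_1 : T.w (v 0) = T.w (v 1) := by
    have := Lib.Helper11.NumType.w_mul_c_symm T (v 0) (v 1)
    rw [u0_1, u1_0] at this
    linarith
  have w1_2 : T.w (v 1) = T.w (v 2) := by
    have := Lib.Helper11.NumType.w_mul_c_symm T (v 1) (v 2)
    rw [u1_2, u2_1] at this
    linarith
  have w2_3 : T.w (v 2) = T.w (v 3) := by
    have := Lib.Helper11.NumType.w_mul_c_symm T (v 2) (v 3)
    rw [u2_3, u3_2] at this
    linarith
  have w3_4 : T.w (v 3) = T.w (v 4) := by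
    have := Lib.Helper11.NumType.w_mul_c_symm T (v 3) (v 4)
    rw [u3_4, u4_3] at this
    linarith
  have w4_5 : T.w (v 4) = T.w (v 5) := by
    have := Lib.Helper11.NumType.w_mul_c_symm T (v 4) (v 5)
    rw [u4_5, u5_4] at this
    linarith
  have w3_6 : T.w (v 3) = T.w (v 6) := by
    have := Lib.Helper11.NumType.w_mul_c_symm T (v 3) (v 6)
    rw [u3_6, u6_3] at this
    linarith
  have hw : ∀ j : Fin 7, T.w (v j) = T.w (v 0) := by
    intro j
    fin_cases j
    · show T.w (v 0) = T.w (v 0)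
      linarith [w0_1, w1_2, w2_3, w3_4, w4_5, w3_6]
    · show T.w (v 1) = T.w (v 0)
      linarith [w0_1, w1_2, w2_3, w3_4, w4_5, w3_6]
    · show T.w (v 2) = T.w (v 0)
      linarith [w0_1, w1_2, w2_3, w3_4, w4_5, w3_6]
    · show T.w (v 3) = T.w (v 0)
      linarith [w0_1, w1_2, w2_3, w3_4, w4_5, w3_6]
    · show T.w (v 4) = T.w (v 0)
      linarith [w0_1, w1_2, w2_3, w3_4, w4_5, w3_6]
    · show T.w (v 5) = T.w (v 0)
      linarith [w0_1, w1_2, w2_3, w3_4, w4_5, w3_6]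
    · show T.w (v 6) = T.w (v 0)
      linarith [w0_1, w1_2, w2_3, w3_4, w4_5, w3_6]
  simp only [u0_1, u1_2, u2_3, u3_4, u4_5, u3_6, u1_0, u2_1, u3_2, u4_3, u5_4, u6_3, z0_2, z0_3, z0_4, z0_5, z0_6, z1_3, z1_4, z1_5, z1_6, z2_4, z2_5, z2_6, z3_5, z4_6, z5_6, z2_0, z3_0, z4_0, z5_0, z6_0, z3_1, z4_1, z5_1, z6_1, z4_2, z5_2, z6_2, z5_3, z6_4, z6_5, one_mul, zero_mul, add_zero] at r0 r1 r2 r3 r4 r5 r6
  refine ⟨T.w (v 0), hw, ?_, ?_, ?_, ?_, ?_, ?_, ?_, ?_, ?_, ?_, ?_, ?_, ?_, ?_, ?_, ?_, ?_, ?_, ?_, ?_, ?_, ?_, ?_, ?_, ?_, ?_, ?_, ?_⟩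
  · have hthis := Lib.Helper11.NumType.a_eq T (v 0) (v 1)
    rw [u0_1, mul_one] at hthis
    linarith [w0_1, w1_2, w2_3, w3_4, w4_5, w3_6]
  · have hthis := Lib.Helper11.NumType.a_eq T (v 1) (v 2)
    rw [u1_2, mul_one] at hthis
    linarith [w0_1, w1_2, w2_3, w3_4, w4_5, w3_6]
  · have hthis := Lib.Helper11.NumType.a_eq T (v 2) (v 3)
    rw [u2_3, mul_one] at hthis
    linarith [w0_1, w1_2, w2_3, w3_4, w4_5, w3_6]
  · have hthis := Lib.Helper11.NumType.a_eq T (v 3) (v 4)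
    rw [u3_4, mul_one] at hthis
    linarith [w0_1, w1_2, w2_3, w3_4, w4_5, w3_6]
  · have hthis := Lib.Helper11.NumType.a_eq T (v 4) (v 5)
    rw [u4_5, mul_one] at hthis
    linarith [w0_1, w1_2, w2_3, w3_4, w4_5, w3_6]
  · have hthis := Lib.Helper11.NumType.a_eq T (v 3) (v 6)
    rw [u3_6, mul_one] at hthis
    linarith [w0_1, w1_2, w2_3, w3_4, w4_5, w3_6]
  · rw [Lib.Helper11.NumType.a_eq, z0_2, mul_zero]
  · rw [Lib.Helper11.NumType.a_eq, z0_3, mul_zero]
  · rw [Lib.Helper11.NumType.a_eq, z0_4, mul_zero]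
  · rw [Lib.Helper11.NumType.a_eq, z0_5, mul_zero]
  · rw [Lib.Helper11.NumType.a_eq, z0_6, mul_zero]
  · rw [Lib.Helper11.NumType.a_eq, z1_3, mul_zero]
  · rw [Lib.Helper11.NumType.a_eq, z1_4, mul_zero]
  · rw [Lib.Helper11.NumType.a_eq, z1_5, mul_zero]
  · rw [Lib.Helper11.NumType.a_eq, z1_6, mul_zero]
  · rw [Lib.Helper11.NumType.a_eq, z2_4, mul_zero]
  · rw [Lib.Helper11.NumType.a_eq, z2_5, mul_zero]
  · rw [Lib.Helper11.NumType.a_eq, z2_6, mul_zero]
  · rw [Lib.Helper11.NumType.a_eq, z3_5, mul_zero]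
  · rw [Lib.Helper11.NumType.a_eq, z4_6, mul_zero]
  · rw [Lib.Helper11.NumType.a_eq, z5_6, mul_zero]
  · linarith
  · linarith
  · linarith
  · linarith
  · linarith
  · linarith
  · linarith

end Groth.Agent.S7349
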