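import Groth.Statements.S7350
import Mathlib
import Groth.Agent.Lib.Helper11.NumType

set_option autoImplicit false
open Finset
open Models Models.NumericalType

namespace Groth.Agent.S7350

theorem arith (m0 m1 m2 m3 m4 m5 m6 m7 : ℤ)
    (c0_1 c0_2 c0_3 c0_4 c0_5 c0_6 c0_7 c1_0 c1_2 c1_3 c1_4 c1_5 c1_6 c1_7 c2_0 c2_1 c2_3 c2_4 c2_5 c2_6 c2_7 c3_0 c3_1 c3_2 c3_4 c3_5 c3_6 c3_7 c4_0 c4_1 c4_2 c4_3 c4_5 c4_6 c4_7 c5_0 c5_1 c5_2 c5_3 c5_4 c5_6 c5_7 c6_0 c6_1 c6_2 c6_3 c6_4 c6_5 c6_7 c7_0 c7_1 c7_2 c7_3 c7_4 c7_5 c7_6 : ℤ)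
    (hm0 : 0 < m0) (hm1 : 0 < m1) (hm2 : 0 < m2) (hm3 : 0 < m3) (hm4 : 0 < m4) (hm5 : 0 < m5) (hm6 : 0 < m6) (hm7 : 0 < m7)
    (n0_1 : 0 ≤ c0_1) (n0_2 : 0 ≤ c0_2) (n0_3 : 0 ≤ c0_3) (n0_4 : 0 ≤ c0_4) (n0_5 : 0 ≤ c0_5) (n0_6 : 0 ≤ c0_6) (n0_7 : 0 ≤ c0_7) (n1_0 : 0 ≤ c1_0) (n1_2 : 0 ≤ c1_2) (n1_3 : 0 ≤ c1_3) (n1_4 : 0 ≤ c1_4) (n1_5 : 0 ≤ c1_5) (n1_6 : 0 ≤ c1_6) (n1_7 : 0 ≤ c1_7) (n2_0 : 0 ≤ c2_0) (n2_1 : 0 ≤ c2_1) (n2_3 : 0 ≤ c2_3) (n2_4 : 0 ≤ c2_4) (n2_5 : 0 ≤ c2_5) (n2_6 : 0 ≤ c2_6) (n2_7 : 0 ≤ c2_7) (n3_0 : 0 ≤ c3_0) (n3_1 : 0 ≤ c3_1) (n3_2 : 0 ≤ c3_2) (n3_4 : 0 ≤ c3_4) (n3_5 : 0 ≤ c3_5) (n3_6 : 0 ≤ c3_6) (n3_7 : 0 ≤ c3_7) (n4_0 : 0 ≤ c4_0) (n4_1 : 0 ≤ c4_1) (n4_2 : 0 ≤ c4_2) (n4_3 : 0 ≤ c4_3) (n4_5 : 0 ≤ c4_5) (n4_6 : 0 ≤ c4_6) (n4_7 : 0 ≤ c4_7) (n5_0 : 0 ≤ c5_0) (n5_1 : 0 ≤ c5_1) (n5_2 : 0 ≤ c5_2) (n5_3 : 0 ≤ c5_3) (n5_4 : 0 ≤ c5_4) (n5_6 : 0 ≤ c5_6) (n5_7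 : 0 ≤ c5_7) (n6_0 : 0 ≤ c6_0) (n6_1 : 0 ≤ c6_1) (n6_2 : 0 ≤ c6_2) (n6_3 : 0 ≤ c6_3) (n6_4 : 0 ≤ c6_4) (n6_5 : 0 ≤ c6_5) (n6_7 : 0 ≤ c6_7) (n7_0 : 0 ≤ c7_0) (n7_1 : 0 ≤ c7_1) (n7_2 : 0 ≤ c7_2) (n7_3 : 0 ≤ c7_3) (n7_4 : 0 ≤ c7_4) (n7_5 : 0 ≤ c7_5) (n7_6 : 0 ≤ c7_6)
    (l0_1 : 1 ≤ c0_1) (l1_0 : 1 ≤ c1_0) (l1_2 : 1 ≤ c1_2) (l2_1 : 1 ≤ c2_1) (l2_3 : 1 ≤ c2_3) (l3_2 : 1 ≤ c3_2) (l3_4 : 1 ≤ c3_4) (l4_3 : 1 ≤ c4_3) (l4_5 : 1 ≤ c4_5) (l5_4 : 1 ≤ c5_4) (l5_6 : 1 ≤ c5_6) (l6_5 : 1 ≤ c6_5) (l4_7 : 1 ≤ c4_7) (l7_4 : 1 ≤ c7_4)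
    (s0_2 : 1 ≤ c0_2 → 1 ≤ c2_0) (s0_3 : 1 ≤ c0_3 → 1 ≤ c3_0) (s0_4 : 1 ≤ c0_4 → 1 ≤ c4_0) (s0_5 : 1 ≤ c0_5 → 1 ≤ c5_0) (s0_6 : 1 ≤ c0_6 → 1 ≤ c6_0) (s0_7 : 1 ≤ c0_7 → 1 ≤ c7_0) (s1_3 : 1 ≤ c1_3 → 1 ≤ c3_1) (s1_4 : 1 ≤ c1_4 → 1 ≤ c4_1) (s1_5 : 1 ≤ c1_5 → 1 ≤ c5_1) (s1_6 : 1 ≤ c1_6 → 1 ≤ c6_1) (s1_7 : 1 ≤ c1_7 → 1 ≤ c7_1) (s2_4 : 1 ≤ c2_4 → 1 ≤ c4_2) (s2_5 : 1 ≤ c2_5 → 1 ≤ c5_2) (s2_6 : 1 ≤ c2_6 → 1 ≤ c6_2) (s2_7 : 1 ≤ c2_7 → 1 ≤ c7_2) (s3_5 : 1 ≤ c3_5 → 1 ≤ c5_3) (s3_6 : 1 ≤ c3_6 → 1 ≤ c6_3) (s3_7 : 1 ≤ c3_7 → 1 ≤ c7_3) (s4_6 : 1 ≤ c4_6 → 1 ≤ c6_4) (s5_7 : 1 ≤ c5_7 → 1 ≤ c7_5) (s6_7 : 1 ≤ c6_7 → 1 ≤ c7_6)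
    (r0 : -2 * m0 + c0_1 * m1 + c0_2 * m2 + c0_3 * m3 + c0_4 * m4 + c0_5 * m5 + c0_6 * m6 + c0_7 * m7 ≤ 0)
    (r1 : c1_0 * m0 + -2 * m1 + c1_2 * m2 + c1_3 * m3 + c1_4 * m4 + c1_5 * m5 + c1_6 * m6 + c1_7 * m7 ≤ 0)
    (r2 : c2_0 * m0 + c2_1 * m1 + -2 * m2 + c2_3 * m3 + c2_4 * m4 + c2_5 * m5 + c2_6 * m6 + c2_7 * m7 ≤ 0)
    (r3 : c3_0 * m0 + c3_1 * m1 + c3_2 * m2 + -2 * m3 + c3_4 * m4 + c3_5 * m5 + c3_6 * m6 + c3_7 * m7 ≤ 0)
    (r4 : c4_0 * m0 + c4_1 * m1 + c4_2 * m2 + c4_3 * m3 + -2 * m4 + c4_5 * m5 + c4_6 * m6 + c4_7 * m7 ≤ 0)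
    (r5 : c5_0 * m0 + c5_1 * m1 + c5_2 * m2 + c5_3 * m3 + c5_4 * m4 + -2 * m5 + c5_6 * m6 + c5_7 * m7 ≤ 0)
    (r6 : c6_0 * m0 + c6_1 * m1 + c6_2 * m2 + c6_3 * m3 + c6_4 * m4 + c6_5 * m5 + -2 * m6 + c6_7 * m7 ≤ 0)
    (r7 : c7_0 * m0 + c7_1 * m1 + c7_2 * m2 + c7_3 * m3 + c7_4 * m4 + c7_5 * m5 + c7_6 * m6 + -2 * m7 ≤ 0)
    (htot : (-2 * m0 + c0_1 * m1 + c0_2 * m2 + c0_3 * m3 + c0_4 * m4 + c0_5 * m5 + c0_6 * m6 + c0_7 * m7) + (c1_0 * m0 + -2 * m1 + c1_2 * m2 + c1_3 * m3 + c1_4 * m4 + c1_5 * m5 + c1_6 * m6 + c1_7 * m7) + (c2_0 * m0 + c2_1 * m1 + -2 * m2 + c2_3 * m3 + c2_4 * m4 + c2_5 * m5 + c2_6 * m6 + c2_7 * m7) + (c3_0 * m0 + c3_1 * m1 + c3_2 * m2 + -2 * m3 + c3_4 * m4 + c3_5 * m5 + c3_6 * m6 + c3_7 * m7) + (c4_0 * m0 + c4_1 * m1 + c4_2 * m2 + c4_3 * m3 + -2 * m4 + c4_5 * m5 + c4_6 * m6 + c4_7 * m7) + (c5_0 * m0 + c5_1 * m1 + c5_2 * m2 + c5_3 * m3 + c5_4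 * m4 + -2 * m5 + c5_6 * m6 + c5_7 * m7) + (c6_0 * m0 + c6_1 * m1 + c6_2 * m2 + c6_3 * m3 + c6_4 * m4 + c6_5 * m5 + -2 * m6 + c6_7 * m7) + (c7_0 * m0 + c7_1 * m1 + c7_2 * m2 + c7_3 * m3 + c7_4 * m4 + c7_5 * m5 + c7_6 * m6 + -2 * m7) < 0) :
    c0_1 = 1 ∧ c1_0 = 1 ∧ c1_2 = 1 ∧ c2_1 = 1 ∧ c2_3 = 1 ∧ c3_2 = 1 ∧ c3_4 = 1 ∧ c4_3 = 1 ∧ c4_5 = 1 ∧ c5_4 = 1 ∧ c5_6 = 1 ∧ c6_5 = 1 ∧ c4_7 = 1 ∧ c7_4 = 1 ∧ c0_2 = 0 ∧ c0_3 = 0 ∧ c0_4 = 0 ∧ c0_5 = 0 ∧ c0_6 = 0 ∧ c0_7 = 0 ∧ c1_3 = 0 ∧ c1_4 = 0 ∧ c1_5 = 0 ∧ c1_6 = 0 ∧ c1_7 = 0 ∧ c2_4 = 0 ∧ c2_5 = 0 ∧ c2_6 = 0 ∧ c2_7 = 0 ∧ c3_5 = 0 ∧ c3_6 = 0 ∧ c3_7 = 0 ∧ c4_6 = 0 ∧ c5_7 = 0 ∧ c6_7 = 0 := by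
  have p0_1 : 0 ≤ c0_1 * m1 := mul_nonneg n0_1 hm1.le
  have p0_2 : 0 ≤ c0_2 * m2 := mul_nonneg n0_2 hm2.le
  have p0_3 : 0 ≤ c0_3 * m3 := mul_nonneg n0_3 hm3.le
  have p0_4 : 0 ≤ c0_4 * m4 := mul_nonneg n0_4 hm4.le
  have p0_5 : 0 ≤ c0_5 * m5 := mul_nonneg n0_5 hm5.le
  have p0_6 : 0 ≤ c0_6 * m6 := mul_nonneg n0_6 hm6.le
  have p0_7 : 0 ≤ c0_7 * m7 := mul_nonneg n0_7 hm7.le
  have p1_0 : 0 ≤ c1_0 * m0 := mul_nonneg n1_0 hm0.le
  have p1_2 : 0 ≤ c1_2 * m2 := mul_nonneg n1_2 hm2.le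
  have p1_3 : 0 ≤ c1_3 * m3 := mul_nonneg n1_3 hm3.le
  have p1_4 : 0 ≤ c1_4 * m4 := mul_nonneg n1_4 hm4.le
  have p1_5 : 0 ≤ c1_5 * m5 := mul_nonneg n1_5 hm5.le
  have p1_6 : 0 ≤ c1_6 * m6 := mul_nonneg n1_6 hm6.le
  have p1_7 : 0 ≤ c1_7 * m7 := mul_nonneg n1_7 hm7.le
  have p2_0 : 0 ≤ c2_0 * m0 := mul_nonneg n2_0 hm0.le
  have p2_1 : 0 ≤ c2_1 * m1 := mul_nonneg n2_1 hm1.le
  have p2_3 : 0 ≤ c2_3 * m3 := mul_nonneg n2_3 hm3.le
  have p2_4 : 0 ≤ c2_4 * m4 := mul_nonneg n2_4 hm4.le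
  have p2_5 : 0 ≤ c2_5 * m5 := mul_nonneg n2_5 hm5.le
  have p2_6 : 0 ≤ c2_6 * m6 := mul_nonneg n2_6 hm6.le
  have p2_7 : 0 ≤ c2_7 * m7 := mul_nonneg n2_7 hm7.le
  have p3_0 : 0 ≤ c3_0 * m0 := mul_nonneg n3_0 hm0.le
  have p3_1 : 0 ≤ c3_1 * m1 := mul_nonneg n3_1 hm1.le
  have p3_2 : 0 ≤ c3_2 * m2 := mul_nonneg n3_2 hm2.le
  have p3_4 : 0 ≤ c3_4 * m4 := mul_nonneg n3_4 hm4.le
  have p3_5 : 0 ≤ c3_5 * m5 := mul_nonneg n3_5 hm5.le
  have p3_6 : 0 ≤ c3_6 * m6 := mul_nonneg n3_6 hm6.le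
  have p3_7 : 0 ≤ c3_7 * m7 := mul_nonneg n3_7 hm7.le
  have p4_0 : 0 ≤ c4_0 * m0 := mul_nonneg n4_0 hm0.le
  have p4_1 : 0 ≤ c4_1 * m1 := mul_nonneg n4_1 hm1.le
  have p4_2 : 0 ≤ c4_2 * m2 := mul_nonneg n4_2 hm2.le
  have p4_3 : 0 ≤ c4_3 * m3 := mul_nonneg n4_3 hm3.le
  have p4_5 : 0 ≤ c4_5 * m5 := mul_nonneg n4_5 hm5.le
  have p4_6 : 0 ≤ c4_6 * m6 := mul_nonneg n4_6 hm6.le
  have p4_7 : 0 ≤ c4_7 * m7 := mul_nonneg n4_7 hm7.le
  have p5_0 : 0 ≤ c5_0 * m0 := mul_nonneg n5_0 hm0.le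
  have p5_1 : 0 ≤ c5_1 * m1 := mul_nonneg n5_1 hm1.le
  have p5_2 : 0 ≤ c5_2 * m2 := mul_nonneg n5_2 hm2.le
  have p5_3 : 0 ≤ c5_3 * m3 := mul_nonneg n5_3 hm3.le
  have p5_4 : 0 ≤ c5_4 * m4 := mul_nonneg n5_4 hm4.le
  have p5_6 : 0 ≤ c5_6 * m6 := mul_nonneg n5_6 hm6.le
  have p5_7 : 0 ≤ c5_7 * m7 := mul_nonneg n5_7 hm7.le
  have p6_0 : 0 ≤ c6_0 * m0 := mul_nonneg n6_0 hm0.le
  have p6_1 : 0 ≤ c6_1 * m1 := mul_nonneg n6_1 hm1.le
  have p6_2 : 0 ≤ c6_2 * m2 := mul_nonneg n6_2 hm2.le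
  have p6_3 : 0 ≤ c6_3 * m3 := mul_nonneg n6_3 hm3.le
  have p6_4 : 0 ≤ c6_4 * m4 := mul_nonneg n6_4 hm4.le
  have p6_5 : 0 ≤ c6_5 * m5 := mul_nonneg n6_5 hm5.le
  have p6_7 : 0 ≤ c6_7 * m7 := mul_nonneg n6_7 hm7.le
  have p7_0 : 0 ≤ c7_0 * m0 := mul_nonneg n7_0 hm0.le
  have p7_1 : 0 ≤ c7_1 * m1 := mul_nonneg n7_1 hm1.le
  have p7_2 : 0 ≤ c7_2 * m2 := mul_nonneg n7_2 hm2.le
  have p7_3 : 0 ≤ c7_3 * m3 := mul_nonneg n7_3 hm3.le
  have p7_4 : 0 ≤ c7_4 * m4 := mul_nonneg n7_4 hm4.le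
  have p7_5 : 0 ≤ c7_5 * m5 := mul_nonneg n7_5 hm5.le
  have p7_6 : 0 ≤ c7_6 * m6 := mul_nonneg n7_6 hm6.le
  have e0_1 : m1 ≤ c0_1 * m1 := le_mul_of_one_le_left hm1.le l0_1
  have e1_0 : m0 ≤ c1_0 * m0 := le_mul_of_one_le_left hm0.le l1_0
  have e1_2 : m2 ≤ c1_2 * m2 := le_mul_of_one_le_left hm2.le l1_2
  have e2_1 : m1 ≤ c2_1 * m1 := le_mul_of_one_le_left hm1.le l2_1
  have e2_3 : m3 ≤ c2_3 * m3 := le_mul_of_one_le_left hm3.le l2_3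
  have e3_2 : m2 ≤ c3_2 * m2 := le_mul_of_one_le_left hm2.le l3_2
  have e3_4 : m4 ≤ c3_4 * m4 := le_mul_of_one_le_left hm4.le l3_4
  have e4_3 : m3 ≤ c4_3 * m3 := le_mul_of_one_le_left hm3.le l4_3
  have e4_5 : m5 ≤ c4_5 * m5 := le_mul_of_one_le_left hm5.le l4_5
  have e5_4 : m4 ≤ c5_4 * m4 := le_mul_of_one_le_left hm4.le l5_4
  have e5_6 : m6 ≤ c5_6 * m6 := le_mul_of_one_le_left hm6.le l5_6
  have e6_5 : m5 ≤ c6_5 * m5 := le_mul_of_one_le_left hm5.le l6_5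
  have e4_7 : m7 ≤ c4_7 * m7 := le_mul_of_one_le_left hm7.le l4_7
  have e7_4 : m4 ≤ c7_4 * m4 := le_mul_of_one_le_left hm4.le l7_4
  have u0_1 : c0_1 = 1 := by
    by_contra hne
    have h2 : 2 ≤ c0_1 := by omega
    have hp : 2 * m1 ≤ c0_1 * m1 := mul_le_mul_of_nonneg_right h2 hm1.le
    linarith
  have u1_0 : c1_0 = 1 := by
    by_contra hne
    have h2 : 2 ≤ c1_0 := by omega
    have hp : 2 * m0 ≤ c1_0 * m0 := mul_le_mul_of_nonneg_right h2 hm0.le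
    linarith
  have u1_2 : c1_2 = 1 := by
    by_contra hne
    have h2 : 2 ≤ c1_2 := by omega
    have hp : 2 * m2 ≤ c1_2 * m2 := mul_le_mul_of_nonneg_right h2 hm2.le
    linarith
  have u2_1 : c2_1 = 1 := by
    by_contra hne
    have h2 : 2 ≤ c2_1 := by omega
    have hp : 2 * m1 ≤ c2_1 * m1 := mul_le_mul_of_nonneg_right h2 hm1.le
    linarith
  have u2_3 : c2_3 = 1 := by
    by_contra hne
    have h2 : 2 ≤ c2_3 := by omega
    have hp : 2 * m3 ≤ c2_3 * m3 := mul_le_mul_of_nonneg_right h2 hm3.le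
    linarith
  have u3_2 : c3_2 = 1 := by
    by_contra hne
    have h2 : 2 ≤ c3_2 := by omega
    have hp : 2 * m2 ≤ c3_2 * m2 := mul_le_mul_of_nonneg_right h2 hm2.le
    linarith
  have u3_4 : c3_4 = 1 := by
    by_contra hne
    have h2 : 2 ≤ c3_4 := by omega
    have hp : 2 * m4 ≤ c3_4 * m4 := mul_le_mul_of_nonneg_right h2 hm4.le
    linarith
  have u4_3 : c4_3 = 1 := by
    by_contra hne
    have h2 : 2 ≤ c4_3 := by omega
    have hp : 2 * m3 ≤ c4_3 * m3 := mul_le_mul_of_nonneg_right h2 hm3.le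
    linarith
  have u4_5 : c4_5 = 1 := by
    by_contra hne
    have h2 : 2 ≤ c4_5 := by omega
    have hp : 2 * m5 ≤ c4_5 * m5 := mul_le_mul_of_nonneg_right h2 hm5.le
    linarith
  have u5_4 : c5_4 = 1 := by
    by_contra hne
    have h2 : 2 ≤ c5_4 := by omega
    have hp : 2 * m4 ≤ c5_4 * m4 := mul_le_mul_of_nonneg_right h2 hm4.le
    linarith
  have u5_6 : c5_6 = 1 := by
    by_contra hne
    have h2 : 2 ≤ c5_6 := by omega
    have hp : 2 * m6 ≤ c5_6 * m6 := mul_le_mul_of_nonneg_right h2 hm6.le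
    linarith
  have u6_5 : c6_5 = 1 := by
    by_contra hne
    have h2 : 2 ≤ c6_5 := by omega
    have hp : 2 * m5 ≤ c6_5 * m5 := mul_le_mul_of_nonneg_right h2 hm5.le
    linarith
  have u4_7 : c4_7 = 1 := by
    by_contra hne
    have h2 : 2 ≤ c4_7 := by omega
    have hp : 2 * m7 ≤ c4_7 * m7 := mul_le_mul_of_nonneg_right h2 hm7.le
    linarith
  have u7_4 : c7_4 = 1 := by
    by_contra hne
    have h2 : 2 ≤ c7_4 := by omega
    have hp : 2 * m4 ≤ c7_4 * m4 := mul_le_mul_of_nonneg_right h2 hm4.le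
    linarith
  have z0_2 : c0_2 = 0 := by
    by_contra hne
    have h1 : 1 ≤ c0_2 := by omega
    have h1' := s0_2 h1
    have hp : m2 ≤ c0_2 * m2 := le_mul_of_one_le_left hm2.le h1
    have hp' : m0 ≤ c2_0 * m0 := le_mul_of_one_le_left hm0.le h1'
    linarith
  have z0_3 : c0_3 = 0 := by
    by_contra hne
    have h1 : 1 ≤ c0_3 := by omega
    have h1' := s0_3 h1
    have hp : m3 ≤ c0_3 * m3 := le_mul_of_one_le_left hm3.le h1
    have hp' : m0 ≤ c3_0 * m0 := le_mul_of_one_le_left hm0.le h1'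
    linarith
  have z0_4 : c0_4 = 0 := by
    by_contra hne
    have h1 : 1 ≤ c0_4 := by omega
    have h1' := s0_4 h1
    have hp : m4 ≤ c0_4 * m4 := le_mul_of_one_le_left hm4.le h1
    have hp' : m0 ≤ c4_0 * m0 := le_mul_of_one_le_left hm0.le h1'
    linarith
  have z0_5 : c0_5 = 0 := by
    by_contra hne
    have h1 : 1 ≤ c0_5 := by omega
    have h1' := s0_5 h1
    have hp : m5 ≤ c0_5 * m5 := le_mul_of_one_le_left hm5.le h1
    have hp' : m0 ≤ c5_0 * m0 := le_mul_of_one_le_left hm0.le h1'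
    linarith
  have z0_6 : c0_6 = 0 := by
    by_contra hne
    have h1 : 1 ≤ c0_6 := by omega
    have h1' := s0_6 h1
    have hp : m6 ≤ c0_6 * m6 := le_mul_of_one_le_left hm6.le h1
    have hp' : m0 ≤ c6_0 * m0 := le_mul_of_one_le_left hm0.le h1'
    linarith
  have z0_7 : c0_7 = 0 := by
    by_contra hne
    have h1 : 1 ≤ c0_7 := by omega
    have h1' := s0_7 h1
    have hp : m7 ≤ c0_7 * m7 := le_mul_of_one_le_left hm7.le h1
    have hp' : m0 ≤ c7_0 * m0 := le_mul_of_one_le_left hm0.le h1'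
    linarith
  have z1_3 : c1_3 = 0 := by
    by_contra hne
    have h1 : 1 ≤ c1_3 := by omega
    have h1' := s1_3 h1
    have hp : m3 ≤ c1_3 * m3 := le_mul_of_one_le_left hm3.le h1
    have hp' : m1 ≤ c3_1 * m1 := le_mul_of_one_le_left hm1.le h1'
    linarith
  have z1_4 : c1_4 = 0 := by
    by_contra hne
    have h1 : 1 ≤ c1_4 := by omega
    have h1' := s1_4 h1
    have hp : m4 ≤ c1_4 * m4 := le_mul_of_one_le_left hm4.le h1
    have hp' : m1 ≤ c4_1 * m1 := le_mul_of_one_le_left hm1.le h1'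
    linarith
  have z1_5 : c1_5 = 0 := by
    by_contra hne
    have h1 : 1 ≤ c1_5 := by omega
    have h1' := s1_5 h1
    have hp : m5 ≤ c1_5 * m5 := le_mul_of_one_le_left hm5.le h1
    have hp' : m1 ≤ c5_1 * m1 := le_mul_of_one_le_left hm1.le h1'
    linarith
  have z1_6 : c1_6 = 0 := by
    by_contra hne
    have h1 : 1 ≤ c1_6 := by omega
    have h1' := s1_6 h1
    have hp : m6 ≤ c1_6 * m6 := le_mul_of_one_le_left hm6.le h1
    have hp' : m1 ≤ c6_1 * m1 := le_mul_of_one_le_left hm1.le h1'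
    linarith
  have z1_7 : c1_7 = 0 := by
    by_contra hne
    have h1 : 1 ≤ c1_7 := by omega
    have h1' := s1_7 h1
    have hp : m7 ≤ c1_7 * m7 := le_mul_of_one_le_left hm7.le h1
    have hp' : m1 ≤ c7_1 * m1 := le_mul_of_one_le_left hm1.le h1'
    linarith
  have z2_4 : c2_4 = 0 := by
    by_contra hne
    have h1 : 1 ≤ c2_4 := by omega
    have h1' := s2_4 h1
    have hp : m4 ≤ c2_4 * m4 := le_mul_of_one_le_left hm4.le h1
    have hp' : m2 ≤ c4_2 * m2 := le_mul_of_one_le_left hm2.le h1'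
    linarith
  have z2_5 : c2_5 = 0 := by
    by_contra hne
    have h1 : 1 ≤ c2_5 := by omega
    have h1' := s2_5 h1
    have hp : m5 ≤ c2_5 * m5 := le_mul_of_one_le_left hm5.le h1
    have hp' : m2 ≤ c5_2 * m2 := le_mul_of_one_le_left hm2.le h1'
    linarith
  have z2_6 : c2_6 = 0 := by
    by_contra hne
    have h1 : 1 ≤ c2_6 := by omega
    have h1' := s2_6 h1
    have hp : m6 ≤ c2_6 * m6 := le_mul_of_one_le_left hm6.le h1
    have hp' : m2 ≤ c6_2 * m2 := le_mul_of_one_le_left hm2.le h1'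
    linarith
  have z2_7 : c2_7 = 0 := by
    by_contra hne
    have h1 : 1 ≤ c2_7 := by omega
    have h1' := s2_7 h1
    have hp : m7 ≤ c2_7 * m7 := le_mul_of_one_le_left hm7.le h1
    have hp' : m2 ≤ c7_2 * m2 := le_mul_of_one_le_left hm2.le h1'
    linarith
  have z3_5 : c3_5 = 0 := by
    by_contra hne
    have h1 : 1 ≤ c3_5 := by omega
    have h1' := s3_5 h1
    have hp : m5 ≤ c3_5 * m5 := le_mul_of_one_le_left hm5.le h1
    have hp' : m3 ≤ c5_3 * m3 := le_mul_of_one_le_left hm3.le h1'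
    linarith
  have z3_6 : c3_6 = 0 := by
    by_contra hne
    have h1 : 1 ≤ c3_6 := by omega
    have h1' := s3_6 h1
    have hp : m6 ≤ c3_6 * m6 := le_mul_of_one_le_left hm6.le h1
    have hp' : m3 ≤ c6_3 * m3 := le_mul_of_one_le_left hm3.le h1'
    linarith
  have z3_7 : c3_7 = 0 := by
    by_contra hne
    have h1 : 1 ≤ c3_7 := by omega
    have h1' := s3_7 h1
    have hp : m7 ≤ c3_7 * m7 := le_mul_of_one_le_left hm7.le h1
    have hp' : m3 ≤ c7_3 * m3 := le_mul_of_one_le_left hm3.le h1'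
    linarith
  have z4_6 : c4_6 = 0 := by
    by_contra hne
    have h1 : 1 ≤ c4_6 := by omega
    have h1' := s4_6 h1
    have hp : m6 ≤ c4_6 * m6 := le_mul_of_one_le_left hm6.le h1
    have hp' : m4 ≤ c6_4 * m4 := le_mul_of_one_le_left hm4.le h1'
    linarith
  have z5_7 : c5_7 = 0 := by
    by_contra hne
    have h1 : 1 ≤ c5_7 := by omega
    have h1' := s5_7 h1
    have hp : m7 ≤ c5_7 * m7 := le_mul_of_one_le_left hm7.le h1
    have hp' : m5 ≤ c7_5 * m5 := le_mul_of_one_le_left hm5.le h1'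
    linarith
  have z6_7 : c6_7 = 0 := by
    by_contra hne
    have h1 : 1 ≤ c6_7 := by omega
    have h1' := s6_7 h1
    have hp : m7 ≤ c6_7 * m7 := le_mul_of_one_le_left hm7.le h1
    have hp' : m6 ≤ c7_6 * m6 := le_mul_of_one_le_left hm6.le h1'
    linarith
  exact ⟨u0_1, u1_0, u1_2, u2_1, u2_3, u3_2, u3_4, u4_3, u4_5, u5_4, u5_6, u6_5, u4_7, u7_4, z0_2, z0_3, z0_4, z0_5, z0_6, z0_7, z1_3, z1_4, z1_5, z1_6, z1_7, z2_4, z2_5, z2_6, z2_7, z3_5, z3_6, z3_7, z4_6, z5_7, z6_7⟩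


/-- Classification of proper subgraphs of type E8 (a chain i_1 … i_7 with i_8 joined to i_5): let T be a
numerical type on n > 8 indices and i_1, …, i_8 distinct (-2)-indices with a_{12}, a_{23}, a_{34},
a_{45}, a_{56}, a_{67}, a_{58} nonzero. Then for some integer w all w_{i_j} equal w, these
intersection numbers equal w, all other a_{i_j i_k} (j ≠ k) vanish, and 2 m_1 ≥ m_2, 2 m_2 ≥ m_1 +
m_3, 2 m_3 ≥ m_2 + m_4, 2 m_4 ≥ m_3 + m_5, 2 m_5 ≥ m_4 + m_6 + m_8, 2 m_6 ≥ m_5 + m_7, 2 m_7 ≥ m_6,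
2 m_8 ≥ m_5. (The published statement lists a_{65} and a_{57} among the nonzero entries, which
contradicts its own conclusion a_{57} = 0; this row uses the edges of the E8 graph, a_{67} and
a_{58}, as the pictured graph and the matrix give them.) -/
theorem result {n : ℕ} (T : Models.NumericalType n) (hn : 8 < n)
    (v : Fin 8 ↪ Fin n) (hv : ∀ j, T.IsMinusTwo (v j)) (h01 : T.a (v 0) (v 1) ≠ 0) (h12 : T.a (v 1) (v 2) ≠ 0) (h23 : T.a (v 2) (v 3) ≠ 0) (h34 : T.a (v 3) (v 4) ≠ 0) (h45 : T.a (v 4) (v 5) ≠ 0) (h56 : T.a (v 5) (v 6) ≠ 0) (h47 : T.a (v 4) (v 7) ≠ 0) :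
    ∃ w : ℤ, (∀ j : Fin 8, T.w (v j) = w) ∧
      T.a (v 0) (v 1) = w ∧
      T.a (v 1) (v 2) = w ∧
      T.a (v 2) (v 3) = w ∧
      T.a (v 3) (v 4) = w ∧
      T.a (v 4) (v 5) = w ∧
      T.a (v 5) (v 6) = w ∧
      T.a (v 4) (v 7) = w ∧
      T.a (v 0) (v 2) = 0 ∧
      T.a (v 0) (v 3) = 0 ∧
      T.a (v 0) (v 4) = 0 ∧
      T.a (v 0) (v 5) = 0 ∧
      T.a (v 0) (v 6) = 0 ∧
      T.a (v 0) (v 7) = 0 ∧
      T.a (v 1) (v 3) = 0 ∧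
      T.a (v 1) (v 4) = 0 ∧
      T.a (v 1) (v 5) = 0 ∧
      T.a (v 1) (v 6) = 0 ∧
      T.a (v 1) (v 7) = 0 ∧
      T.a (v 2) (v 4) = 0 ∧
      T.a (v 2) (v 5) = 0 ∧
      T.a (v 2) (v 6) = 0 ∧
      T.a (v 2) (v 7) = 0 ∧
      T.a (v 3) (v 5) = 0 ∧
      T.a (v 3) (v 6) = 0 ∧
      T.a (v 3) (v 7) = 0 ∧
      T.a (v 4) (v 6) = 0 ∧
      T.a (v 5) (v 7) = 0 ∧
      T.a (v 6) (v 7) = 0 ∧
      T.m (v 1) ≤ 2 * T.m (v 0) ∧
      T.m (v 0) + T.m (v 2) ≤ 2 * T.m (v 1) ∧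
      T.m (v 1) + T.m (v 3) ≤ 2 * T.m (v 2) ∧
      T.m (v 2) + T.m (v 4) ≤ 2 * T.m (v 3) ∧
      T.m (v 3) + T.m (v 5) + T.m (v 7) ≤ 2 * T.m (v 4) ∧
      T.m (v 4) + T.m (v 6) ≤ 2 * T.m (v 5) ∧
      T.m (v 5) ≤ 2 * T.m (v 6) ∧
      T.m (v 4) ≤ 2 * T.m (v 7) := by
  have hd := Lib.Helper11.NumType.config_diag T v hv
  have hm : ∀ t, 0 < T.m (v t) := fun t => T.m_pos (v t)
  have htot := Lib.Helper11.NumType.sum_sum_config_lt T v (by norm_num) hn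
  have r0 := Lib.Helper11.NumType.sum_config_le T v 0
  have r1 := Lib.Helper11.NumType.sum_config_le T v 1
  have r2 := Lib.Helper11.NumType.sum_config_le T v 2
  have r3 := Lib.Helper11.NumType.sum_config_le T v 3
  have r4 := Lib.Helper11.NumType.sum_config_le T v 4
  have r5 := Lib.Helper11.NumType.sum_config_le T v 5
  have r6 := Lib.Helper11.NumType.sum_config_le T v 6
  have r7 := Lib.Helper11.NumType.sum_config_le T v 7
  simp only [Fin.sum_univ_eight, hd] at htot r0 r1 r2 r3 r4 r5 r6 r7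
  obtain ⟨u0_1, u1_0, u1_2, u2_1, u2_3, u3_2, u3_4, u4_3, u4_5, u5_4, u5_6, u6_5, u4_7, u7_4, z0_2, z0_3, z0_4, z0_5, z0_6, z0_7, z1_3, z1_4, z1_5, z1_6, z1_7, z2_4, z2_5, z2_6, z2_7, z3_5, z3_6, z3_7, z4_6, z5_7, z6_7⟩ := arith
    (T.m (v 0))
    (T.m (v 1))
    (T.m (v 2))
    (T.m (v 3))
    (T.m (v 4))
    (T.m (v 5))
    (T.m (v 6))
    (T.m (v 7))
    (Lib.Helper11.NumType.c T (v 0) (v 1))
    (Lib.Helper11.NumType.c T (v 0) (v 2))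
    (Lib.Helper11.NumType.c T (v 0) (v 3))
    (Lib.Helper11.NumType.c T (v 0) (v 4))
    (Lib.Helper11.NumType.c T (v 0) (v 5))
    (Lib.Helper11.NumType.c T (v 0) (v 6))
    (Lib.Helper11.NumType.c T (v 0) (v 7))
    (Lib.Helper11.NumType.c T (v 1) (v 0))
    (Lib.Helper11.NumType.c T (v 1) (v 2))
    (Lib.Helper11.NumType.c T (v 1) (v 3))
    (Lib.Helper11.NumType.c T (v 1) (v 4))
    (Lib.Helper11.NumType.c T (v 1) (v 5))
    (Lib.Helper11.NumType.c T (v 1) (v 6))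
    (Lib.Helper11.NumType.c T (v 1) (v 7))
    (Lib.Helper11.NumType.c T (v 2) (v 0))
    (Lib.Helper11.NumType.c T (v 2) (v 1))
    (Lib.Helper11.NumType.c T (v 2) (v 3))
    (Lib.Helper11.NumType.c T (v 2) (v 4))
    (Lib.Helper11.NumType.c T (v 2) (v 5))
    (Lib.Helper11.NumType.c T (v 2) (v 6))
    (Lib.Helper11.NumType.c T (v 2) (v 7))
    (Lib.Helper11.NumType.c T (v 3) (v 0))
    (Lib.Helper11.NumType.c T (v 3) (v 1))
    (Lib.Helper11.NumType.c T (v 3) (v 2))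
    (Lib.Helper11.NumType.c T (v 3) (v 4))
    (Lib.Helper11.NumType.c T (v 3) (v 5))
    (Lib.Helper11.NumType.c T (v 3) (v 6))
    (Lib.Helper11.NumType.c T (v 3) (v 7))
    (Lib.Helper11.NumType.c T (v 4) (v 0))
    (Lib.Helper11.NumType.c T (v 4) (v 1))
    (Lib.Helper11.NumType.c T (v 4) (v 2))
    (Lib.Helper11.NumType.c T (v 4) (v 3))
    (Lib.Helper11.NumType.c T (v 4) (v 5))
    (Lib.Helper11.NumType.c T (v 4) (v 6))
    (Lib.Helper11.NumType.c T (v 4) (v 7))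
    (Lib.Helper11.NumType.c T (v 5) (v 0))
    (Lib.Helper11.NumType.c T (v 5) (v 1))
    (Lib.Helper11.NumType.c T (v 5) (v 2))
    (Lib.Helper11.NumType.c T (v 5) (v 3))
    (Lib.Helper11.NumType.c T (v 5) (v 4))
    (Lib.Helper11.NumType.c T (v 5) (v 6))
    (Lib.Helper11.NumType.c T (v 5) (v 7))
    (Lib.Helper11.NumType.c T (v 6) (v 0))
    (Lib.Helper11.NumType.c T (v 6) (v 1))
    (Lib.Helper11.NumType.c T (v 6) (v 2))
    (Lib.Helper11.NumType.c T (v 6) (v 3))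
    (Lib.Helper11.NumType.c T (v 6) (v 4))
    (Lib.Helper11.NumType.c T (v 6) (v 5))
    (Lib.Helper11.NumType.c T (v 6) (v 7))
    (Lib.Helper11.NumType.c T (v 7) (v 0))
    (Lib.Helper11.NumType.c T (v 7) (v 1))
    (Lib.Helper11.NumType.c T (v 7) (v 2))
    (Lib.Helper11.NumType.c T (v 7) (v 3))
    (Lib.Helper11.NumType.c T (v 7) (v 4))
    (Lib.Helper11.NumType.c T (v 7) (v 5))
    (Lib.Helper11.NumType.c T (v 7) (v 6))
    (hm 0)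
    (hm 1)
    (hm 2)
    (hm 3)
    (hm 4)
    (hm 5)
    (hm 6)
    (hm 7)
    (Lib.Helper11.NumType.config_nonneg T v (show (0 : Fin 8) ≠ 1 by decide))
    (Lib.Helper11.NumType.config_nonneg T v (show (0 : Fin 8) ≠ 2 by decide))
    (Lib.Helper11.NumType.config_nonneg T v (show (0 : Fin 8) ≠ 3 by decide))
    (Lib.Helper11.NumType.config_nonneg T v (show (0 : Fin 8) ≠ 4 by decide))
    (Lib.Helper11.NumType.config_nonneg T v (show (0 : Fin 8) ≠ 5 by decide))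
    (Lib.Helper11.NumType.config_nonneg T v (show (0 : Fin 8) ≠ 6 by decide))
    (Lib.Helper11.NumType.config_nonneg T v (show (0 : Fin 8) ≠ 7 by decide))
    (Lib.Helper11.NumType.config_nonneg T v (show (1 : Fin 8) ≠ 0 by decide))
    (Lib.Helper11.NumType.config_nonneg T v (show (1 : Fin 8) ≠ 2 by decide))
    (Lib.Helper11.NumType.config_nonneg T v (show (1 : Fin 8) ≠ 3 by decide))
    (Lib.Helper11.NumType.config_nonneg T v (show (1 : Fin 8) ≠ 4 by decide))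
    (Lib.Helper11.NumType.config_nonneg T v (show (1 : Fin 8) ≠ 5 by decide))
    (Lib.Helper11.NumType.config_nonneg T v (show (1 : Fin 8) ≠ 6 by decide))
    (Lib.Helper11.NumType.config_nonneg T v (show (1 : Fin 8) ≠ 7 by decide))
    (Lib.Helper11.NumType.config_nonneg T v (show (2 : Fin 8) ≠ 0 by decide))
    (Lib.Helper11.NumType.config_nonneg T v (show (2 : Fin 8) ≠ 1 by decide))
    (Lib.Helper11.NumType.config_nonneg T v (show (2 : Fin 8) ≠ 3 by decide))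
    (Lib.Helper11.NumType.config_nonneg T v (show (2 : Fin 8) ≠ 4 by decide))
    (Lib.Helper11.NumType.config_nonneg T v (show (2 : Fin 8) ≠ 5 by decide))
    (Lib.Helper11.NumType.config_nonneg T v (show (2 : Fin 8) ≠ 6 by decide))
    (Lib.Helper11.NumType.config_nonneg T v (show (2 : Fin 8) ≠ 7 by decide))
    (Lib.Helper11.NumType.config_nonneg T v (show (3 : Fin 8) ≠ 0 by decide))
    (Lib.Helper11.NumType.config_nonneg T v (show (3 : Fin 8) ≠ 1 by decide))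
    (Lib.Helper11.NumType.config_nonneg T v (show (3 : Fin 8) ≠ 2 by decide))
    (Lib.Helper11.NumType.config_nonneg T v (show (3 : Fin 8) ≠ 4 by decide))
    (Lib.Helper11.NumType.config_nonneg T v (show (3 : Fin 8) ≠ 5 by decide))
    (Lib.Helper11.NumType.config_nonneg T v (show (3 : Fin 8) ≠ 6 by decide))
    (Lib.Helper11.NumType.config_nonneg T v (show (3 : Fin 8) ≠ 7 by decide))
    (Lib.Helper11.NumType.config_nonneg T v (show (4 : Fin 8) ≠ 0 by decide))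
    (Lib.Helper11.NumType.config_nonneg T v (show (4 : Fin 8) ≠ 1 by decide))
    (Lib.Helper11.NumType.config_nonneg T v (show (4 : Fin 8) ≠ 2 by decide))
    (Lib.Helper11.NumType.config_nonneg T v (show (4 : Fin 8) ≠ 3 by decide))
    (Lib.Helper11.NumType.config_nonneg T v (show (4 : Fin 8) ≠ 5 by decide))
    (Lib.Helper11.NumType.config_nonneg T v (show (4 : Fin 8) ≠ 6 by decide))
    (Lib.Helper11.NumType.config_nonneg T v (show (4 : Fin 8) ≠ 7 by decide))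
    (Lib.Helper11.NumType.config_nonneg T v (show (5 : Fin 8) ≠ 0 by decide))
    (Lib.Helper11.NumType.config_nonneg T v (show (5 : Fin 8) ≠ 1 by decide))
    (Lib.Helper11.NumType.config_nonneg T v (show (5 : Fin 8) ≠ 2 by decide))
    (Lib.Helper11.NumType.config_nonneg T v (show (5 : Fin 8) ≠ 3 by decide))
    (Lib.Helper11.NumType.config_nonneg T v (show (5 : Fin 8) ≠ 4 by decide))
    (Lib.Helper11.NumType.config_nonneg T v (show (5 : Fin 8) ≠ 6 by decide))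
    (Lib.Helper11.NumType.config_nonneg T v (show (5 : Fin 8) ≠ 7 by decide))
    (Lib.Helper11.NumType.config_nonneg T v (show (6 : Fin 8) ≠ 0 by decide))
    (Lib.Helper11.NumType.config_nonneg T v (show (6 : Fin 8) ≠ 1 by decide))
    (Lib.Helper11.NumType.config_nonneg T v (show (6 : Fin 8) ≠ 2 by decide))
    (Lib.Helper11.NumType.config_nonneg T v (show (6 : Fin 8) ≠ 3 by decide))
    (Lib.Helper11.NumType.config_nonneg T v (show (6 : Fin 8) ≠ 4 by decide))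
    (Lib.Helper11.NumType.config_nonneg T v (show (6 : Fin 8) ≠ 5 by decide))
    (Lib.Helper11.NumType.config_nonneg T v (show (6 : Fin 8) ≠ 7 by decide))
    (Lib.Helper11.NumType.config_nonneg T v (show (7 : Fin 8) ≠ 0 by decide))
    (Lib.Helper11.NumType.config_nonneg T v (show (7 : Fin 8) ≠ 1 by decide))
    (Lib.Helper11.NumType.config_nonneg T v (show (7 : Fin 8) ≠ 2 by decide))
    (Lib.Helper11.NumType.config_nonneg T v (show (7 : Fin 8) ≠ 3 by decide))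
    (Lib.Helper11.NumType.config_nonneg T v (show (7 : Fin 8) ≠ 4 by decide))
    (Lib.Helper11.NumType.config_nonneg T v (show (7 : Fin 8) ≠ 5 by decide))
    (Lib.Helper11.NumType.config_nonneg T v (show (7 : Fin 8) ≠ 6 by decide))
    (Lib.Helper11.NumType.config_one_le T v (show (0 : Fin 8) ≠ 1 by decide) h01)
    (Lib.Helper11.NumType.config_one_le' T v (show (0 : Fin 8) ≠ 1 by decide) h01)
    (Lib.Helper11.NumType.config_one_le T v (show (1 : Fin 8) ≠ 2 by decide) h12)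
    (Lib.Helper11.NumType.config_one_le' T v (show (1 : Fin 8) ≠ 2 by decide) h12)
    (Lib.Helper11.NumType.config_one_le T v (show (2 : Fin 8) ≠ 3 by decide) h23)
    (Lib.Helper11.NumType.config_one_le' T v (show (2 : Fin 8) ≠ 3 by decide) h23)
    (Lib.Helper11.NumType.config_one_le T v (show (3 : Fin 8) ≠ 4 by decide) h34)
    (Lib.Helper11.NumType.config_one_le' T v (show (3 : Fin 8) ≠ 4 by decide) h34)
    (Lib.Helper11.NumType.config_one_le T v (show (4 : Fin 8) ≠ 5 by decide) h45)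
    (Lib.Helper11.NumType.config_one_le' T v (show (4 : Fin 8) ≠ 5 by decide) h45)
    (Lib.Helper11.NumType.config_one_le T v (show (5 : Fin 8) ≠ 6 by decide) h56)
    (Lib.Helper11.NumType.config_one_le' T v (show (5 : Fin 8) ≠ 6 by decide) h56)
    (Lib.Helper11.NumType.config_one_le T v (show (4 : Fin 8) ≠ 7 by decide) h47)
    (Lib.Helper11.NumType.config_one_le' T v (show (4 : Fin 8) ≠ 7 by decide) h47)
    (Lib.Helper11.NumType.c_pos_symm T (fun h' => absurd (v.injective h') (by decide)))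
    (Lib.Helper11.NumType.c_pos_symm T (fun h' => absurd (v.injective h') (by decide)))
    (Lib.Helper11.NumType.c_pos_symm T (fun h' => absurd (v.injective h') (by decide)))
    (Lib.Helper11.NumType.c_pos_symm T (fun h' => absurd (v.injective h') (by decide)))
    (Lib.Helper11.NumType.c_pos_symm T (fun h' => absurd (v.injective h') (by decide)))
    (Lib.Helper11.NumType.c_pos_symm T (fun h' => absurd (v.injective h') (by decide)))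
    (Lib.Helper11.NumType.c_pos_symm T (fun h' => absurd (v.injective h') (by decide)))
    (Lib.Helper11.NumType.c_pos_symm T (fun h' => absurd (v.injective h') (by decide)))
    (Lib.Helper11.NumType.c_pos_symm T (fun h' => absurd (v.injective h') (by decide)))
    (Lib.Helper11.NumType.c_pos_symm T (fun h' => absurd (v.injective h') (by decide)))
    (Lib.Helper11.NumType.c_pos_symm T (fun h' => absurd (v.injective h') (by decide)))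
    (Lib.Helper11.NumType.c_pos_symm T (fun h' => absurd (v.injective h') (by decide)))
    (Lib.Helper11.NumType.c_pos_symm T (fun h' => absurd (v.injective h') (by decide)))
    (Lib.Helper11.NumType.c_pos_symm T (fun h' => absurd (v.injective h') (by decide)))
    (Lib.Helper11.NumType.c_pos_symm T (fun h' => absurd (v.injective h') (by decide)))
    (Lib.Helper11.NumType.c_pos_symm T (fun h' => absurd (v.injective h') (by decide)))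
    (Lib.Helper11.NumType.c_pos_symm T (fun h' => absurd (v.injective h') (by decide)))
    (Lib.Helper11.NumType.c_pos_symm T (fun h' => absurd (v.injective h') (by decide)))
    (Lib.Helper11.NumType.c_pos_symm T (fun h' => absurd (v.injective h') (by decide)))
    (Lib.Helper11.NumType.c_pos_symm T (fun h' => absurd (v.injective h') (by decide)))
    (Lib.Helper11.NumType.c_pos_symm T (fun h' => absurd (v.injective h') (by decide)))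
    r0
    r1
    r2
    r3
    r4
    r5
    r6
    r7
    htot
  have z2_0 : Lib.Helper11.NumType.c T (v 2) (v 0) = 0 := Lib.Helper11.NumType.c_eq_zero_symm T z0_2
  have z3_0 : Lib.Helper11.NumType.c T (v 3) (v 0) = 0 := Lib.Helper11.NumType.c_eq_zero_symm T z0_3
  have z4_0 : Lib.Helper11.NumType.c T (v 4) (v 0) = 0 := Lib.Helper11.NumType.c_eq_zero_symm T z0_4
  have z5_0 : Lib.Helper11.NumType.c T (v 5) (v 0) = 0 := Lib.Helper11.NumType.c_eq_zero_symm T z0_5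
  have z6_0 : Lib.Helper11.NumType.c T (v 6) (v 0) = 0 := Lib.Helper11.NumType.c_eq_zero_symm T z0_6
  have z7_0 : Lib.Helper11.NumType.c T (v 7) (v 0) = 0 := Lib.Helper11.NumType.c_eq_zero_symm T z0_7
  have z3_1 : Lib.Helper11.NumType.c T (v 3) (v 1) = 0 := Lib.Helper11.NumType.c_eq_zero_symm T z1_3
  have z4_1 : Lib.Helper11.NumType.c T (v 4) (v 1) = 0 := Lib.Helper11.NumType.c_eq_zero_symm T z1_4
  have z5_1 : Lib.Helper11.NumType.c T (v 5) (v 1) = 0 := Lib.Helper11.NumType.c_eq_zero_symm T z1_5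
  have z6_1 : Lib.Helper11.NumType.c T (v 6) (v 1) = 0 := Lib.Helper11.NumType.c_eq_zero_symm T z1_6
  have z7_1 : Lib.Helper11.NumType.c T (v 7) (v 1) = 0 := Lib.Helper11.NumType.c_eq_zero_symm T z1_7
  have z4_2 : Lib.Helper11.NumType.c T (v 4) (v 2) = 0 := Lib.Helper11.NumType.c_eq_zero_symm T z2_4
  have z5_2 : Lib.Helper11.NumType.c T (v 5) (v 2) = 0 := Lib.Helper11.NumType.c_eq_zero_symm T z2_5
  have z6_2 : Lib.Helper11.NumType.c T (v 6) (v 2) = 0 := Lib.Helper11.NumType.c_eq_zero_symm T z2_6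
  have z7_2 : Lib.Helper11.NumType.c T (v 7) (v 2) = 0 := Lib.Helper11.NumType.c_eq_zero_symm T z2_7
  have z5_3 : Lib.Helper11.NumType.c T (v 5) (v 3) = 0 := Lib.Helper11.NumType.c_eq_zero_symm T z3_5
  have z6_3 : Lib.Helper11.NumType.c T (v 6) (v 3) = 0 := Lib.Helper11.NumType.c_eq_zero_symm T z3_6
  have z7_3 : Lib.Helper11.NumType.c T (v 7) (v 3) = 0 := Lib.Helper11.NumType.c_eq_zero_symm T z3_7
  have z6_4 : Lib.Helper11.NumType.c T (v 6) (v 4) = 0 := Lib.Helper11.NumType.c_eq_zero_symm T z4_6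
  have z7_5 : Lib.Helper11.NumType.c T (v 7) (v 5) = 0 := Lib.Helper11.NumType.c_eq_zero_symm T z5_7
  have z7_6 : Lib.Helper11.NumType.c T (v 7) (v 6) = 0 := Lib.Helper11.NumType.c_eq_zero_symm T z6_7
  have w0_1 : T.w (v 0) = T.w (v 1) := by
    have := Lib.Helper11.NumType.w_mul_c_symm T (v 0) (v 1)
    rw [u0_1, u1_0] at this
    linarith
  have w1_2 : T.w (v 1) = T.w (v 2) := by
    have := Lib.Helper11.NumType.w_mul_c_symm T (v 1) (v 2)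
    rw [u1_2, u2_1] at this
    linarith
  have w2_3 : T.w (v 2) = T.w (v 3) := by
    have := Lib.Helper11.NumType.w_mul_c_symm T (v 2) (v 3)
    rw [u2_3, u3_2] at this
    linarith
  have w3_4 : T.w (v 3) = T.w (v 4) := by
    have := Lib.Helper11.NumType.w_mul_c_symm T (v 3) (v 4)
    rw [u3_4, u4_3] at this
    linarith
  have w4_5 : T.w (v 4) = T.w (v 5) := by
    have := Lib.Helper11.NumType.w_mul_c_symm T (v 4) (v 5)
    rw [u4_5, u5_4] at this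
    linarith
  have w5_6 : T.w (v 5) = T.w (v 6) := by
    have := Lib.Helper11.NumType.w_mul_c_symm T (v 5) (v 6)
    rw [u5_6, u6_5] at this
    linarith
  have w4_7 : T.w (v 4) = T.w (v 7) := by
    have := Lib.Helper11.NumType.w_mul_c_symm T (v 4) (v 7)
    rw [u4_7, u7_4] at this
    linarith
  have hw : ∀ j : Fin 8, T.w (v j) = T.w (v 0) := by
    intro j
    fin_cases j
    · show T.w (v 0) = T.w (v 0)
      linarith only [w0_1, w1_2, w2_3, w3_4, w4_5, w5_6, w4_7]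
    · show T.w (v 1) = T.w (v 0)
      linarith only [w0_1, w1_2, w2_3, w3_4, w4_5, w5_6, w4_7]
    · show T.w (v 2) = T.w (v 0)
      linarith only [w0_1, w1_2, w2_3, w3_4, w4_5, w5_6, w4_7]
    · show T.w (v 3) = T.w (v 0)
      linarith only [w0_1, w1_2, w2_3, w3_4, w4_5, w5_6, w4_7]
    · show T.w (v 4) = T.w (v 0)
      linarith only [w0_1, w1_2, w2_3, w3_4, w4_5, w5_6, w4_7]
    · show T.w (v 5) = T.w (v 0)
      linarith only [w0_1, w1_2, w2_3, w3_4, w4_5, w5_6, w4_7]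
    · show T.w (v 6) = T.w (v 0)
      linarith only [w0_1, w1_2, w2_3, w3_4, w4_5, w5_6, w4_7]
    · show T.w (v 7) = T.w (v 0)
      linarith only [w0_1, w1_2, w2_3, w3_4, w4_5, w5_6, w4_7]
  simp only [u0_1, u1_0, u1_2, u2_1, u2_3, u3_2, u3_4, u4_3, u4_5, u5_4, u5_6, u6_5, u4_7, u7_4, z0_2, z0_3, z0_4, z0_5, z0_6, z0_7, z1_3, z1_4, z1_5, z1_6, z1_7, z2_4, z2_5, z2_6, z2_7, z3_5, z3_6, z3_7, z4_6, z5_7, z6_7, z2_0, z3_0, z4_0, z5_0, z6_0, z7_0, z3_1, z4_1, z5_1, z6_1, z7_1, z4_2, z5_2, z6_2, z7_2, z5_3, z6_3, z7_3, z6_4, z7_5, z7_6, one_mul, zero_mul, add_zero] at r0 r1 r2 r3 r4 r5 r6 r7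
  refine ⟨T.w (v 0), hw, ?_, ?_, ?_, ?_, ?_, ?_, ?_, ?_, ?_, ?_, ?_, ?_, ?_, ?_, ?_, ?_, ?_, ?_, ?_, ?_, ?_, ?_, ?_, ?_, ?_, ?_, ?_, ?_, ?_, ?_, ?_, ?_, ?_, ?_, ?_, ?_⟩
  · have hthis := Lib.Helper11.NumType.a_eq T (v 0) (v 1)
    rw [u0_1, mul_one] at hthis
    linarith only [hthis, w0_1, w1_2, w2_3, w3_4, w4_5, w5_6, w4_7]
  · have hthis := Lib.Helper11.NumType.a_eq T (v 1) (v 2)
    rw [u1_2, mul_one] at hthis
    linarith only [hthis, w0_1, w1_2, w2_3, w3_4, w4_5, w5_6, w4_7]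
  · have hthis := Lib.Helper11.NumType.a_eq T (v 2) (v 3)
    rw [u2_3, mul_one] at hthis
    linarith only [hthis, w0_1, w1_2, w2_3, w3_4, w4_5, w5_6, w4_7]
  · have hthis := Lib.Helper11.NumType.a_eq T (v 3) (v 4)
    rw [u3_4, mul_one] at hthis
    linarith only [hthis, w0_1, w1_2, w2_3, w3_4, w4_5, w5_6, w4_7]
  · have hthis := Lib.Helper11.NumType.a_eq T (v 4) (v 5)
    rw [u4_5, mul_one] at hthis
    linarith only [hthis, w0_1, w1_2, w2_3, w3_4, w4_5, w5_6, w4_7]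
  · have hthis := Lib.Helper11.NumType.a_eq T (v 5) (v 6)
    rw [u5_6, mul_one] at hthis
    linarith only [hthis, w0_1, w1_2, w2_3, w3_4, w4_5, w5_6, w4_7]
  · have hthis := Lib.Helper11.NumType.a_eq T (v 4) (v 7)
    rw [u4_7, mul_one] at hthis
    linarith only [hthis, w0_1, w1_2, w2_3, w3_4, w4_5, w5_6, w4_7]
  · rw [Lib.Helper11.NumType.a_eq, z0_2, mul_zero]
  · rw [Lib.Helper11.NumType.a_eq, z0_3, mul_zero]
  · rw [Lib.Helper11.NumType.a_eq, z0_4, mul_zero]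
  · rw [Lib.Helper11.NumType.a_eq, z0_5, mul_zero]
  · rw [Lib.Helper11.NumType.a_eq, z0_6, mul_zero]
  · rw [Lib.Helper11.NumType.a_eq, z0_7, mul_zero]
  · rw [Lib.Helper11.NumType.a_eq, z1_3, mul_zero]
  · rw [Lib.Helper11.NumType.a_eq, z1_4, mul_zero]
  · rw [Lib.Helper11.NumType.a_eq, z1_5, mul_zero]
  · rw [Lib.Helper11.NumType.a_eq, z1_6, mul_zero]
  · rw [Lib.Helper11.NumType.a_eq, z1_7, mul_zero]
  · rw [Lib.Helper11.NumType.a_eq, z2_4, mul_zero]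
  · rw [Lib.Helper11.NumType.a_eq, z2_5, mul_zero]
  · rw [Lib.Helper11.NumType.a_eq, z2_6, mul_zero]
  · rw [Lib.Helper11.NumType.a_eq, z2_7, mul_zero]
  · rw [Lib.Helper11.NumType.a_eq, z3_5, mul_zero]
  · rw [Lib.Helper11.NumType.a_eq, z3_6, mul_zero]
  · rw [Lib.Helper11.NumType.a_eq, z3_7, mul_zero]
  · rw [Lib.Helper11.NumType.a_eq, z4_6, mul_zero]
  · rw [Lib.Helper11.NumType.a_eq, z5_7, mul_zero]
  · rw [Lib.Helper11.NumType.a_eq, z6_7, mul_zero]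
  · linarith only [r0, r1, r2, r3, r4, r5, r6, r7]
  · linarith only [r0, r1, r2, r3, r4, r5, r6, r7]
  · linarith only [r0, r1, r2, r3, r4, r5, r6, r7]
  · linarith only [r0, r1, r2, r3, r4, r5, r6, r7]
  · linarith only [r0, r1, r2, r3, r4, r5, r6, r7]
  · linarith only [r0, r1, r2, r3, r4, r5, r6, r7]
  · linarith only [r0, r1, r2, r3, r4, r5, r6, r7]
  · linarith only [r0, r1, r2, r3, r4, r5, r6, r7]

end Groth.Agent.S7350
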