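import Groth.Statements.S7351
import Mathlib
import Groth.Agent.Lib.Helper11.NumType

set_option autoImplicit false
open Finset
open Models Models.NumericalType

namespace Groth.Agent.S7351

/-- Let T be a numerical type on n > 5 indices. There do not exist five distinct (-2)-indices h, i, j,
k, l with a_hi > 0, a_hj > 0, a_hk > 0 and a_hl > 0. -/
theorem result {n : ℕ} (T : Models.NumericalType n) (hn : 5 < n)
    (v : Fin 5 ↪ Fin n) (hv : ∀ j, T.IsMinusTwo (v j))
    (h01 : 0 < T.a (v 0) (v 1)) (h02 : 0 < T.a (v 0) (v 2)) (h03 : 0 < T.a (v 0) (v 3)) (h04 : 0 < T.a (v 0) (v 4)) : False := by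
  have hd := Lib.Helper11.NumType.config_diag T v hv
  have hm : ∀ t, 0 < T.m (v t) := fun t => T.m_pos (v t)
  have htot := Lib.Helper11.NumType.sum_sum_config_lt T v (by norm_num) hn
  have r0 := Lib.Helper11.NumType.sum_config_le T v 0
  have r1 := Lib.Helper11.NumType.sum_config_le T v 1
  have r2 := Lib.Helper11.NumType.sum_config_le T v 2
  have r3 := Lib.Helper11.NumType.sum_config_le T v 3
  have r4 := Lib.Helper11.NumType.sum_config_le T v 4
  have p0_1 := Lib.Helper11.NumType.config_mul_nonneg T v (show (0 : Fin 5) ≠ 1 by decide)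
  have p0_2 := Lib.Helper11.NumType.config_mul_nonneg T v (show (0 : Fin 5) ≠ 2 by decide)
  have p0_3 := Lib.Helper11.NumType.config_mul_nonneg T v (show (0 : Fin 5) ≠ 3 by decide)
  have p0_4 := Lib.Helper11.NumType.config_mul_nonneg T v (show (0 : Fin 5) ≠ 4 by decide)
  have p1_0 := Lib.Helper11.NumType.config_mul_nonneg T v (show (1 : Fin 5) ≠ 0 by decide)
  have p1_2 := Lib.Helper11.NumType.config_mul_nonneg T v (show (1 : Fin 5) ≠ 2 by decide)
  have p1_3 := Lib.Helper11.NumType.config_mul_nonneg T v (show (1 : Fin 5) ≠ 3 by decide)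
  have p1_4 := Lib.Helper11.NumType.config_mul_nonneg T v (show (1 : Fin 5) ≠ 4 by decide)
  have p2_0 := Lib.Helper11.NumType.config_mul_nonneg T v (show (2 : Fin 5) ≠ 0 by decide)
  have p2_1 := Lib.Helper11.NumType.config_mul_nonneg T v (show (2 : Fin 5) ≠ 1 by decide)
  have p2_3 := Lib.Helper11.NumType.config_mul_nonneg T v (show (2 : Fin 5) ≠ 3 by decide)
  have p2_4 := Lib.Helper11.NumType.config_mul_nonneg T v (show (2 : Fin 5) ≠ 4 by decide)
  have p3_0 := Lib.Helper11.NumType.config_mul_nonneg T v (show (3 : Fin 5) ≠ 0 by decide)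
  have p3_1 := Lib.Helper11.NumType.config_mul_nonneg T v (show (3 : Fin 5) ≠ 1 by decide)
  have p3_2 := Lib.Helper11.NumType.config_mul_nonneg T v (show (3 : Fin 5) ≠ 2 by decide)
  have p3_4 := Lib.Helper11.NumType.config_mul_nonneg T v (show (3 : Fin 5) ≠ 4 by decide)
  have p4_0 := Lib.Helper11.NumType.config_mul_nonneg T v (show (4 : Fin 5) ≠ 0 by decide)
  have p4_1 := Lib.Helper11.NumType.config_mul_nonneg T v (show (4 : Fin 5) ≠ 1 by decide)
  have p4_2 := Lib.Helper11.NumType.config_mul_nonneg T v (show (4 : Fin 5) ≠ 2 by decide)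
  have p4_3 := Lib.Helper11.NumType.config_mul_nonneg T v (show (4 : Fin 5) ≠ 3 by decide)
  have c0_1 := Lib.Helper11.NumType.config_one_le T v (show (0 : Fin 5) ≠ 1 by decide) h01.ne'
  have c1_0 := Lib.Helper11.NumType.config_one_le' T v (show (0 : Fin 5) ≠ 1 by decide) h01.ne'
  have e0_1 : T.m (v 1) ≤ Lib.Helper11.NumType.c T (v 0) (v 1) * T.m (v 1) := le_mul_of_one_le_left (hm 1).le c0_1
  have e1_0 : T.m (v 0) ≤ Lib.Helper11.NumType.c T (v 1) (v 0) * T.m (v 0) := le_mul_of_one_le_left (hm 0).le c1_0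
  have c0_2 := Lib.Helper11.NumType.config_one_le T v (show (0 : Fin 5) ≠ 2 by decide) h02.ne'
  have c2_0 := Lib.Helper11.NumType.config_one_le' T v (show (0 : Fin 5) ≠ 2 by decide) h02.ne'
  have e0_2 : T.m (v 2) ≤ Lib.Helper11.NumType.c T (v 0) (v 2) * T.m (v 2) := le_mul_of_one_le_left (hm 2).le c0_2
  have e2_0 : T.m (v 0) ≤ Lib.Helper11.NumType.c T (v 2) (v 0) * T.m (v 0) := le_mul_of_one_le_left (hm 0).le c2_0
  have c0_3 := Lib.Helper11.NumType.config_one_le T v (show (0 : Fin 5) ≠ 3 by decide) h03.ne'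
  have c3_0 := Lib.Helper11.NumType.config_one_le' T v (show (0 : Fin 5) ≠ 3 by decide) h03.ne'
  have e0_3 : T.m (v 3) ≤ Lib.Helper11.NumType.c T (v 0) (v 3) * T.m (v 3) := le_mul_of_one_le_left (hm 3).le c0_3
  have e3_0 : T.m (v 0) ≤ Lib.Helper11.NumType.c T (v 3) (v 0) * T.m (v 0) := le_mul_of_one_le_left (hm 0).le c3_0
  have c0_4 := Lib.Helper11.NumType.config_one_le T v (show (0 : Fin 5) ≠ 4 by decide) h04.ne'
  have c4_0 := Lib.Helper11.NumType.config_one_le' T v (show (0 : Fin 5) ≠ 4 by decide) h04.ne'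
  have e0_4 : T.m (v 4) ≤ Lib.Helper11.NumType.c T (v 0) (v 4) * T.m (v 4) := le_mul_of_one_le_left (hm 4).le c0_4
  have e4_0 : T.m (v 0) ≤ Lib.Helper11.NumType.c T (v 4) (v 0) * T.m (v 0) := le_mul_of_one_le_left (hm 0).le c4_0
  simp only [Fin.sum_univ_five, hd] at htot r0 r1 r2 r3 r4
  linarith

end Groth.Agent.S7351
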