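import Groth.Statements.S7352
import Mathlib
import Groth.Agent.Lib.Helper11.NumType

set_option autoImplicit false
open Finset
open Models Models.NumericalType

namespace Groth.Agent.S7352

/-- Classification of proper subgraphs which are chains of four vertices: let T be a numerical type on n
> 4 indices and i_1, …, i_4 distinct (-2)-indices with a_{i_j i_{j+1}} nonzero for j < 4. Then
a_{i_j i_l} = 0 for |j - l| ≥ 2 and, after possibly reversing the order of the indices, for some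
integer w one of the following holds: (A4) w = (w, w, w, w), consecutive a = (w, w, w), with 2m_1 ≥
m_2, 2m_2 ≥ m_1 + m_3, 2m_3 ≥ m_2 + m_4, 2m_4 ≥ m_3; (C4) w = (w, w, w, 2w), consecutive a = (w, w,
2w), with 2m_1 ≥ m_2, 2m_2 ≥ m_1 + m_3, 2m_3 ≥ m_2 + 2m_4, 2m_4 ≥ m_3; (B4) w = (2w, 2w, 2w, w),
consecutive a = (2w, 2w, 2w), with 2m_1 ≥ m_2, 2m_2 ≥ m_1 + m_3, 2m_3 ≥ m_2 + m_4, m_4 ≥ m_3; (F4) w
= (w, w, 2w, 2w), consecutive a = (w, 2w, 2w), with 2m_1 ≥ m_2, 2m_2 ≥ m_1 + 2m_3, 2m_3 ≥ m_2 + m_4,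
2m_4 ≥ m_3. -/
theorem result {n : ℕ} (T : Models.NumericalType n) (hn : 4 < n)
    (v : Fin 4 ↪ Fin n) (hv : ∀ j, T.IsMinusTwo (v j)) (h01 : T.a (v 0) (v 1) ≠ 0) (h12 : T.a (v 1) (v 2) ≠ 0) (h23 : T.a (v 2) (v 3) ≠ 0) :
    (T.a (v 0) (v 2) = 0 ∧ T.a (v 0) (v 3) = 0 ∧ T.a (v 1) (v 3) = 0) ∧
    ∃ (u : Fin 4 → Fin n) (w : ℤ), ((∀ j, u j = v j) ∨ (∀ j, u j = v (Fin.rev j))) ∧
      ((T.w (u 0) = w ∧ T.w (u 1) = w ∧ T.w (u 2) = w ∧ T.w (u 3) = w ∧ T.a (u 0) (u 1) = w ∧ T.a (u 1) (u 2) = w ∧ T.a (u 2) (u 3) = w ∧ T.m (u 1) ≤ 2 * T.m (u 0) ∧ T.m (u 0) + T.m (u 2) ≤ 2 * T.m (u 1) ∧ T.m (u 1) + T.m (u 3) ≤ 2 * T.m (u 2) ∧ T.m (u 2) ≤ 2 * T.m (u 3)) ∨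
      (T.w (u 0) = w ∧ T.w (u 1) = w ∧ T.w (u 2) = w ∧ T.w (u 3) = 2 * w ∧ T.a (u 0) (u 1) = w ∧ T.a (u 1) (u 2) = w ∧ T.a (u 2) (u 3) = 2 * w ∧ T.m (u 1) ≤ 2 * T.m (u 0) ∧ T.m (u 0) + T.m (u 2) ≤ 2 * T.m (u 1) ∧ T.m (u 1) + 2 * T.m (u 3) ≤ 2 * T.m (u 2) ∧ T.m (u 2) ≤ 2 * T.m (u 3)) ∨
      (T.w (u 0) = 2 * w ∧ T.w (u 1) = 2 * w ∧ T.w (u 2) = 2 * w ∧ T.w (u 3) = w ∧ T.a (u 0) (u 1) = 2 * w ∧ T.a (u 1) (u 2) = 2 * w ∧ T.a (u 2) (u 3) = 2 * w ∧ T.m (u 1) ≤ 2 * T.m (u 0) ∧ T.m (u 0) + T.m (u 2) ≤ 2 * T.m (u 1) ∧ T.m (u 1) + T.m (u 3) ≤ 2 * T.m (u 2) ∧ T.m (u 2) ≤ T.m (u 3)) ∨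
      (T.w (u 0) = w ∧ T.w (u 1) = w ∧ T.w (u 2) = 2 * w ∧ T.w (u 3) = 2 * w ∧ T.a (u 0) (u 1) = w ∧ T.a (u 1) (u 2) = 2 * w ∧ T.a (u 2) (u 3) = 2 * w ∧ T.m (u 1) ≤ 2 * T.m (u 0) ∧ T.m (u 0) + 2 * T.m (u 2) ≤ 2 * T.m (u 1) ∧ T.m (u 1) + T.m (u 3) ≤ 2 * T.m (u 2) ∧ T.m (u 2) ≤ 2 * T.m (u 3))) := by
  have hd := Lib.Helper11.NumType.config_diag T v hv
  have hm : ∀ t, 0 < T.m (v t) := fun t => T.m_pos (v t)
  have htot := Lib.Helper11.NumType.sum_sum_config_lt T v (by norm_num) hn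
  have r0 := Lib.Helper11.NumType.sum_config_le T v 0
  have r1 := Lib.Helper11.NumType.sum_config_le T v 1
  have r2 := Lib.Helper11.NumType.sum_config_le T v 2
  have r3 := Lib.Helper11.NumType.sum_config_le T v 3
  have p0_1 := Lib.Helper11.NumType.config_mul_nonneg T v (show (0 : Fin 4) ≠ 1 by decide)
  have p0_2 := Lib.Helper11.NumType.config_mul_nonneg T v (show (0 : Fin 4) ≠ 2 by decide)
  have p0_3 := Lib.Helper11.NumType.config_mul_nonneg T v (show (0 : Fin 4) ≠ 3 by decide)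
  have p1_0 := Lib.Helper11.NumType.config_mul_nonneg T v (show (1 : Fin 4) ≠ 0 by decide)
  have p1_2 := Lib.Helper11.NumType.config_mul_nonneg T v (show (1 : Fin 4) ≠ 2 by decide)
  have p1_3 := Lib.Helper11.NumType.config_mul_nonneg T v (show (1 : Fin 4) ≠ 3 by decide)
  have p2_0 := Lib.Helper11.NumType.config_mul_nonneg T v (show (2 : Fin 4) ≠ 0 by decide)
  have p2_1 := Lib.Helper11.NumType.config_mul_nonneg T v (show (2 : Fin 4) ≠ 1 by decide)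
  have p2_3 := Lib.Helper11.NumType.config_mul_nonneg T v (show (2 : Fin 4) ≠ 3 by decide)
  have p3_0 := Lib.Helper11.NumType.config_mul_nonneg T v (show (3 : Fin 4) ≠ 0 by decide)
  have p3_1 := Lib.Helper11.NumType.config_mul_nonneg T v (show (3 : Fin 4) ≠ 1 by decide)
  have p3_2 := Lib.Helper11.NumType.config_mul_nonneg T v (show (3 : Fin 4) ≠ 2 by decide)
  have c0_1 := Lib.Helper11.NumType.config_one_le T v (show (0 : Fin 4) ≠ 1 by decide) h01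
  have c1_0 := Lib.Helper11.NumType.config_one_le' T v (show (0 : Fin 4) ≠ 1 by decide) h01
  have e0_1 : T.m (v 1) ≤ Lib.Helper11.NumType.c T (v 0) (v 1) * T.m (v 1) := le_mul_of_one_le_left (hm 1).le c0_1
  have e1_0 : T.m (v 0) ≤ Lib.Helper11.NumType.c T (v 1) (v 0) * T.m (v 0) := le_mul_of_one_le_left (hm 0).le c1_0
  have c1_2 := Lib.Helper11.NumType.config_one_le T v (show (1 : Fin 4) ≠ 2 by decide) h12
  have c2_1 := Lib.Helper11.NumType.config_one_le' T v (show (1 : Fin 4) ≠ 2 by decide) h12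
  have e1_2 : T.m (v 2) ≤ Lib.Helper11.NumType.c T (v 1) (v 2) * T.m (v 2) := le_mul_of_one_le_left (hm 2).le c1_2
  have e2_1 : T.m (v 1) ≤ Lib.Helper11.NumType.c T (v 2) (v 1) * T.m (v 1) := le_mul_of_one_le_left (hm 1).le c2_1
  have c2_3 := Lib.Helper11.NumType.config_one_le T v (show (2 : Fin 4) ≠ 3 by decide) h23
  have c3_2 := Lib.Helper11.NumType.config_one_le' T v (show (2 : Fin 4) ≠ 3 by decide) h23
  have e2_3 : T.m (v 3) ≤ Lib.Helper11.NumType.c T (v 2) (v 3) * T.m (v 3) := le_mul_of_one_le_left (hm 3).le c2_3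
  have e3_2 : T.m (v 2) ≤ Lib.Helper11.NumType.c T (v 3) (v 2) * T.m (v 2) := le_mul_of_one_le_left (hm 2).le c3_2
  simp only [Fin.sum_univ_four, hd] at htot r0 r1 r2 r3
  have hm0 := hm 0
  have hm1 := hm 1
  have hm2 := hm 2
  have hm3 := hm 3
  have z0_2 : Lib.Helper11.NumType.c T (v 0) (v 2) = 0 := by
    by_contra hne
    have h0 := Lib.Helper11.NumType.config_nonneg T v (show (0 : Fin 4) ≠ 2 by decide)
    have h1 : 1 ≤ Lib.Helper11.NumType.c T (v 0) (v 2) := by omega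
    have h1' : 1 ≤ Lib.Helper11.NumType.c T (v 2) (v 0) := Lib.Helper11.NumType.c_pos_symm T (fun h' => absurd (v.injective h') (by decide)) h1
    have hp : T.m (v 2) ≤ Lib.Helper11.NumType.c T (v 0) (v 2) * T.m (v 2) := le_mul_of_one_le_left (hm 2).le h1
    have hp' : T.m (v 0) ≤ Lib.Helper11.NumType.c T (v 2) (v 0) * T.m (v 0) := le_mul_of_one_le_left (hm 0).le h1'
    linarith
  have z2_0 : Lib.Helper11.NumType.c T (v 2) (v 0) = 0 := Lib.Helper11.NumType.c_eq_zero_symm T z0_2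
  have z0_3 : Lib.Helper11.NumType.c T (v 0) (v 3) = 0 := by
    by_contra hne
    have h0 := Lib.Helper11.NumType.config_nonneg T v (show (0 : Fin 4) ≠ 3 by decide)
    have h1 : 1 ≤ Lib.Helper11.NumType.c T (v 0) (v 3) := by omega
    have h1' : 1 ≤ Lib.Helper11.NumType.c T (v 3) (v 0) := Lib.Helper11.NumType.c_pos_symm T (fun h' => absurd (v.injective h') (by decide)) h1
    have hp : T.m (v 3) ≤ Lib.Helper11.NumType.c T (v 0) (v 3) * T.m (v 3) := le_mul_of_one_le_left (hm 3).le h1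
    have hp' : T.m (v 0) ≤ Lib.Helper11.NumType.c T (v 3) (v 0) * T.m (v 0) := le_mul_of_one_le_left (hm 0).le h1'
    linarith
  have z3_0 : Lib.Helper11.NumType.c T (v 3) (v 0) = 0 := Lib.Helper11.NumType.c_eq_zero_symm T z0_3
  have z1_3 : Lib.Helper11.NumType.c T (v 1) (v 3) = 0 := by
    by_contra hne
    have h0 := Lib.Helper11.NumType.config_nonneg T v (show (1 : Fin 4) ≠ 3 by decide)
    have h1 : 1 ≤ Lib.Helper11.NumType.c T (v 1) (v 3) := by omega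
    have h1' : 1 ≤ Lib.Helper11.NumType.c T (v 3) (v 1) := Lib.Helper11.NumType.c_pos_symm T (fun h' => absurd (v.injective h') (by decide)) h1
    have hp : T.m (v 3) ≤ Lib.Helper11.NumType.c T (v 1) (v 3) * T.m (v 3) := le_mul_of_one_le_left (hm 3).le h1
    have hp' : T.m (v 1) ≤ Lib.Helper11.NumType.c T (v 3) (v 1) * T.m (v 1) := le_mul_of_one_le_left (hm 1).le h1'
    linarith
  have z3_1 : Lib.Helper11.NumType.c T (v 3) (v 1) = 0 := Lib.Helper11.NumType.c_eq_zero_symm T z1_3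
  have b0_1 : Lib.Helper11.NumType.c T (v 0) (v 1) ≤ 2 := by
    by_contra hne
    have h3 : 3 ≤ Lib.Helper11.NumType.c T (v 0) (v 1) := by omega
    have hp : 3 * T.m (v 1) ≤ Lib.Helper11.NumType.c T (v 0) (v 1) * T.m (v 1) := mul_le_mul_of_nonneg_right h3 (hm 1).le
    linarith
  have b1_0 : Lib.Helper11.NumType.c T (v 1) (v 0) ≤ 2 := by
    by_contra hne
    have h3 : 3 ≤ Lib.Helper11.NumType.c T (v 1) (v 0) := by omega
    have hp : 3 * T.m (v 0) ≤ Lib.Helper11.NumType.c T (v 1) (v 0) * T.m (v 0) := mul_le_mul_of_nonneg_right h3 (hm 0).le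
    linarith
  have b1_2 : Lib.Helper11.NumType.c T (v 1) (v 2) ≤ 2 := by
    by_contra hne
    have h3 : 3 ≤ Lib.Helper11.NumType.c T (v 1) (v 2) := by omega
    have hp : 3 * T.m (v 2) ≤ Lib.Helper11.NumType.c T (v 1) (v 2) * T.m (v 2) := mul_le_mul_of_nonneg_right h3 (hm 2).le
    linarith
  have b2_1 : Lib.Helper11.NumType.c T (v 2) (v 1) ≤ 2 := by
    by_contra hne
    have h3 : 3 ≤ Lib.Helper11.NumType.c T (v 2) (v 1) := by omega
    have hp : 3 * T.m (v 1) ≤ Lib.Helper11.NumType.c T (v 2) (v 1) * T.m (v 1) := mul_le_mul_of_nonneg_right h3 (hm 1).le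
    linarith
  have b2_3 : Lib.Helper11.NumType.c T (v 2) (v 3) ≤ 2 := by
    by_contra hne
    have h3 : 3 ≤ Lib.Helper11.NumType.c T (v 2) (v 3) := by omega
    have hp : 3 * T.m (v 3) ≤ Lib.Helper11.NumType.c T (v 2) (v 3) * T.m (v 3) := mul_le_mul_of_nonneg_right h3 (hm 3).le
    linarith
  have b3_2 : Lib.Helper11.NumType.c T (v 3) (v 2) ≤ 2 := by
    by_contra hne
    have h3 : 3 ≤ Lib.Helper11.NumType.c T (v 3) (v 2) := by omega
    have hp : 3 * T.m (v 2) ≤ Lib.Helper11.NumType.c T (v 3) (v 2) * T.m (v 2) := mul_le_mul_of_nonneg_right h3 (hm 2).le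
    linarith
  have x0_1_1_0 : Lib.Helper11.NumType.c T (v 0) (v 1) + Lib.Helper11.NumType.c T (v 1) (v 0) ≤ 3 := by
    by_contra hne
    have h2 : 2 ≤ Lib.Helper11.NumType.c T (v 0) (v 1) := by omega
    have h2' : 2 ≤ Lib.Helper11.NumType.c T (v 1) (v 0) := by omega
    have hp : 2 * T.m (v 1) ≤ Lib.Helper11.NumType.c T (v 0) (v 1) * T.m (v 1) := mul_le_mul_of_nonneg_right h2 (hm 1).le
    have hp' : 2 * T.m (v 0) ≤ Lib.Helper11.NumType.c T (v 1) (v 0) * T.m (v 0) := mul_le_mul_of_nonneg_right h2' (hm 0).le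
    linarith
  have x0_1_1_2 : Lib.Helper11.NumType.c T (v 0) (v 1) + Lib.Helper11.NumType.c T (v 1) (v 2) ≤ 3 := by
    by_contra hne
    have h2 : 2 ≤ Lib.Helper11.NumType.c T (v 0) (v 1) := by omega
    have h2' : 2 ≤ Lib.Helper11.NumType.c T (v 1) (v 2) := by omega
    have hp : 2 * T.m (v 1) ≤ Lib.Helper11.NumType.c T (v 0) (v 1) * T.m (v 1) := mul_le_mul_of_nonneg_right h2 (hm 1).le
    have hp' : 2 * T.m (v 2) ≤ Lib.Helper11.NumType.c T (v 1) (v 2) * T.m (v 2) := mul_le_mul_of_nonneg_right h2' (hm 2).le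
    linarith
  have x0_1_2_1 : Lib.Helper11.NumType.c T (v 0) (v 1) + Lib.Helper11.NumType.c T (v 2) (v 1) ≤ 3 := by
    by_contra hne
    have h2 : 2 ≤ Lib.Helper11.NumType.c T (v 0) (v 1) := by omega
    have h2' : 2 ≤ Lib.Helper11.NumType.c T (v 2) (v 1) := by omega
    have hp : 2 * T.m (v 1) ≤ Lib.Helper11.NumType.c T (v 0) (v 1) * T.m (v 1) := mul_le_mul_of_nonneg_right h2 (hm 1).le
    have hp' : 2 * T.m (v 1) ≤ Lib.Helper11.NumType.c T (v 2) (v 1) * T.m (v 1) := mul_le_mul_of_nonneg_right h2' (hm 1).le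
    linarith
  have x0_1_2_3 : Lib.Helper11.NumType.c T (v 0) (v 1) + Lib.Helper11.NumType.c T (v 2) (v 3) ≤ 3 := by
    by_contra hne
    have h2 : 2 ≤ Lib.Helper11.NumType.c T (v 0) (v 1) := by omega
    have h2' : 2 ≤ Lib.Helper11.NumType.c T (v 2) (v 3) := by omega
    have hp : 2 * T.m (v 1) ≤ Lib.Helper11.NumType.c T (v 0) (v 1) * T.m (v 1) := mul_le_mul_of_nonneg_right h2 (hm 1).le
    have hp' : 2 * T.m (v 3) ≤ Lib.Helper11.NumType.c T (v 2) (v 3) * T.m (v 3) := mul_le_mul_of_nonneg_right h2' (hm 3).le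
    linarith
  have x0_1_3_2 : Lib.Helper11.NumType.c T (v 0) (v 1) + Lib.Helper11.NumType.c T (v 3) (v 2) ≤ 3 := by
    by_contra hne
    have h2 : 2 ≤ Lib.Helper11.NumType.c T (v 0) (v 1) := by omega
    have h2' : 2 ≤ Lib.Helper11.NumType.c T (v 3) (v 2) := by omega
    have hp : 2 * T.m (v 1) ≤ Lib.Helper11.NumType.c T (v 0) (v 1) * T.m (v 1) := mul_le_mul_of_nonneg_right h2 (hm 1).le
    have hp' : 2 * T.m (v 2) ≤ Lib.Helper11.NumType.c T (v 3) (v 2) * T.m (v 2) := mul_le_mul_of_nonneg_right h2' (hm 2).le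
    linarith
  have x1_0_1_2 : Lib.Helper11.NumType.c T (v 1) (v 0) + Lib.Helper11.NumType.c T (v 1) (v 2) ≤ 3 := by
    by_contra hne
    have h2 : 2 ≤ Lib.Helper11.NumType.c T (v 1) (v 0) := by omega
    have h2' : 2 ≤ Lib.Helper11.NumType.c T (v 1) (v 2) := by omega
    have hp : 2 * T.m (v 0) ≤ Lib.Helper11.NumType.c T (v 1) (v 0) * T.m (v 0) := mul_le_mul_of_nonneg_right h2 (hm 0).le
    have hp' : 2 * T.m (v 2) ≤ Lib.Helper11.NumType.c T (v 1) (v 2) * T.m (v 2) := mul_le_mul_of_nonneg_right h2' (hm 2).le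
    linarith
  have x1_0_2_1 : Lib.Helper11.NumType.c T (v 1) (v 0) + Lib.Helper11.NumType.c T (v 2) (v 1) ≤ 3 := by
    by_contra hne
    have h2 : 2 ≤ Lib.Helper11.NumType.c T (v 1) (v 0) := by omega
    have h2' : 2 ≤ Lib.Helper11.NumType.c T (v 2) (v 1) := by omega
    have hp : 2 * T.m (v 0) ≤ Lib.Helper11.NumType.c T (v 1) (v 0) * T.m (v 0) := mul_le_mul_of_nonneg_right h2 (hm 0).le
    have hp' : 2 * T.m (v 1) ≤ Lib.Helper11.NumType.c T (v 2) (v 1) * T.m (v 1) := mul_le_mul_of_nonneg_right h2' (hm 1).le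
    linarith
  have x1_0_2_3 : Lib.Helper11.NumType.c T (v 1) (v 0) + Lib.Helper11.NumType.c T (v 2) (v 3) ≤ 3 := by
    by_contra hne
    have h2 : 2 ≤ Lib.Helper11.NumType.c T (v 1) (v 0) := by omega
    have h2' : 2 ≤ Lib.Helper11.NumType.c T (v 2) (v 3) := by omega
    have hp : 2 * T.m (v 0) ≤ Lib.Helper11.NumType.c T (v 1) (v 0) * T.m (v 0) := mul_le_mul_of_nonneg_right h2 (hm 0).le
    have hp' : 2 * T.m (v 3) ≤ Lib.Helper11.NumType.c T (v 2) (v 3) * T.m (v 3) := mul_le_mul_of_nonneg_right h2' (hm 3).le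
    linarith
  have x1_0_3_2 : Lib.Helper11.NumType.c T (v 1) (v 0) + Lib.Helper11.NumType.c T (v 3) (v 2) ≤ 3 := by
    by_contra hne
    have h2 : 2 ≤ Lib.Helper11.NumType.c T (v 1) (v 0) := by omega
    have h2' : 2 ≤ Lib.Helper11.NumType.c T (v 3) (v 2) := by omega
    have hp : 2 * T.m (v 0) ≤ Lib.Helper11.NumType.c T (v 1) (v 0) * T.m (v 0) := mul_le_mul_of_nonneg_right h2 (hm 0).le
    have hp' : 2 * T.m (v 2) ≤ Lib.Helper11.NumType.c T (v 3) (v 2) * T.m (v 2) := mul_le_mul_of_nonneg_right h2' (hm 2).le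
    linarith
  have x1_2_2_1 : Lib.Helper11.NumType.c T (v 1) (v 2) + Lib.Helper11.NumType.c T (v 2) (v 1) ≤ 3 := by
    by_contra hne
    have h2 : 2 ≤ Lib.Helper11.NumType.c T (v 1) (v 2) := by omega
    have h2' : 2 ≤ Lib.Helper11.NumType.c T (v 2) (v 1) := by omega
    have hp : 2 * T.m (v 2) ≤ Lib.Helper11.NumType.c T (v 1) (v 2) * T.m (v 2) := mul_le_mul_of_nonneg_right h2 (hm 2).le
    have hp' : 2 * T.m (v 1) ≤ Lib.Helper11.NumType.c T (v 2) (v 1) * T.m (v 1) := mul_le_mul_of_nonneg_right h2' (hm 1).le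
    linarith
  have x1_2_2_3 : Lib.Helper11.NumType.c T (v 1) (v 2) + Lib.Helper11.NumType.c T (v 2) (v 3) ≤ 3 := by
    by_contra hne
    have h2 : 2 ≤ Lib.Helper11.NumType.c T (v 1) (v 2) := by omega
    have h2' : 2 ≤ Lib.Helper11.NumType.c T (v 2) (v 3) := by omega
    have hp : 2 * T.m (v 2) ≤ Lib.Helper11.NumType.c T (v 1) (v 2) * T.m (v 2) := mul_le_mul_of_nonneg_right h2 (hm 2).le
    have hp' : 2 * T.m (v 3) ≤ Lib.Helper11.NumType.c T (v 2) (v 3) * T.m (v 3) := mul_le_mul_of_nonneg_right h2' (hm 3).le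
    linarith
  have x1_2_3_2 : Lib.Helper11.NumType.c T (v 1) (v 2) + Lib.Helper11.NumType.c T (v 3) (v 2) ≤ 3 := by
    by_contra hne
    have h2 : 2 ≤ Lib.Helper11.NumType.c T (v 1) (v 2) := by omega
    have h2' : 2 ≤ Lib.Helper11.NumType.c T (v 3) (v 2) := by omega
    have hp : 2 * T.m (v 2) ≤ Lib.Helper11.NumType.c T (v 1) (v 2) * T.m (v 2) := mul_le_mul_of_nonneg_right h2 (hm 2).le
    have hp' : 2 * T.m (v 2) ≤ Lib.Helper11.NumType.c T (v 3) (v 2) * T.m (v 2) := mul_le_mul_of_nonneg_right h2' (hm 2).le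
    linarith
  have x2_1_2_3 : Lib.Helper11.NumType.c T (v 2) (v 1) + Lib.Helper11.NumType.c T (v 2) (v 3) ≤ 3 := by
    by_contra hne
    have h2 : 2 ≤ Lib.Helper11.NumType.c T (v 2) (v 1) := by omega
    have h2' : 2 ≤ Lib.Helper11.NumType.c T (v 2) (v 3) := by omega
    have hp : 2 * T.m (v 1) ≤ Lib.Helper11.NumType.c T (v 2) (v 1) * T.m (v 1) := mul_le_mul_of_nonneg_right h2 (hm 1).le
    have hp' : 2 * T.m (v 3) ≤ Lib.Helper11.NumType.c T (v 2) (v 3) * T.m (v 3) := mul_le_mul_of_nonneg_right h2' (hm 3).le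
    linarith
  have x2_1_3_2 : Lib.Helper11.NumType.c T (v 2) (v 1) + Lib.Helper11.NumType.c T (v 3) (v 2) ≤ 3 := by
    by_contra hne
    have h2 : 2 ≤ Lib.Helper11.NumType.c T (v 2) (v 1) := by omega
    have h2' : 2 ≤ Lib.Helper11.NumType.c T (v 3) (v 2) := by omega
    have hp : 2 * T.m (v 1) ≤ Lib.Helper11.NumType.c T (v 2) (v 1) * T.m (v 1) := mul_le_mul_of_nonneg_right h2 (hm 1).le
    have hp' : 2 * T.m (v 2) ≤ Lib.Helper11.NumType.c T (v 3) (v 2) * T.m (v 2) := mul_le_mul_of_nonneg_right h2' (hm 2).le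
    linarith
  have x2_3_3_2 : Lib.Helper11.NumType.c T (v 2) (v 3) + Lib.Helper11.NumType.c T (v 3) (v 2) ≤ 3 := by
    by_contra hne
    have h2 : 2 ≤ Lib.Helper11.NumType.c T (v 2) (v 3) := by omega
    have h2' : 2 ≤ Lib.Helper11.NumType.c T (v 3) (v 2) := by omega
    have hp : 2 * T.m (v 3) ≤ Lib.Helper11.NumType.c T (v 2) (v 3) * T.m (v 3) := mul_le_mul_of_nonneg_right h2 (hm 3).le
    have hp' : 2 * T.m (v 2) ≤ Lib.Helper11.NumType.c T (v 3) (v 2) * T.m (v 2) := mul_le_mul_of_nonneg_right h2' (hm 2).le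
    linarith
  refine ⟨⟨by rw [Lib.Helper11.NumType.a_eq, z0_2, mul_zero], by rw [Lib.Helper11.NumType.a_eq, z0_3, mul_zero], by rw [Lib.Helper11.NumType.a_eq, z1_3, mul_zero]⟩, ?_⟩
  have hrev0 : Fin.rev (0 : Fin 4) = 3 := by decide
  have hrev1 : Fin.rev (1 : Fin 4) = 2 := by decide
  have hrev2 : Fin.rev (2 : Fin 4) = 1 := by decide
  have hrev3 : Fin.rev (3 : Fin 4) = 0 := by decide
  by_cases q0_1 : Lib.Helper11.NumType.c T (v 0) (v 1) = 2
  · have u0_1 : Lib.Helper11.NumType.c T (v 0) (v 1) = 2 := q0_1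
    have u1_0 : Lib.Helper11.NumType.c T (v 1) (v 0) = 1 := by omega
    have u1_2 : Lib.Helper11.NumType.c T (v 1) (v 2) = 1 := by omega
    have u2_1 : Lib.Helper11.NumType.c T (v 2) (v 1) = 1 := by omega
    have u2_3 : Lib.Helper11.NumType.c T (v 2) (v 3) = 1 := by omega
    have u3_2 : Lib.Helper11.NumType.c T (v 3) (v 2) = 1 := by omega
    have ws0 := Lib.Helper11.NumType.w_mul_c_symm T (v 0) (v 1)
    rw [u0_1, u1_0] at ws0
    have ha0_1 := Lib.Helper11.NumType.a_eq T (v 0) (v 1)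
    rw [u0_1] at ha0_1
    have ha1_0 := Lib.Helper11.NumType.a_eq T (v 1) (v 0)
    rw [u1_0] at ha1_0
    have ws1 := Lib.Helper11.NumType.w_mul_c_symm T (v 1) (v 2)
    rw [u1_2, u2_1] at ws1
    have ha1_2 := Lib.Helper11.NumType.a_eq T (v 1) (v 2)
    rw [u1_2] at ha1_2
    have ha2_1 := Lib.Helper11.NumType.a_eq T (v 2) (v 1)
    rw [u2_1] at ha2_1
    have ws2 := Lib.Helper11.NumType.w_mul_c_symm T (v 2) (v 3)
    rw [u2_3, u3_2] at ws2
    have ha2_3 := Lib.Helper11.NumType.a_eq T (v 2) (v 3)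
    rw [u2_3] at ha2_3
    have ha3_2 := Lib.Helper11.NumType.a_eq T (v 3) (v 2)
    rw [u3_2] at ha3_2
    simp only [u0_1, u1_0, u1_2, u2_1, u2_3, u3_2, z0_2, z0_3, z1_3, z2_0, z3_0, z3_1, one_mul, zero_mul, add_zero] at r0 r1 r2 r3
    refine ⟨fun j => v (Fin.rev j), T.w (v 0), Or.inr (fun _ => rfl), ?_⟩
    simp only [hrev0, hrev1, hrev2, hrev3]
    refine Or.inr (Or.inr (Or.inl ⟨?_, ?_, ?_, ?_, ?_, ?_, ?_, ?_, ?_, ?_, ?_⟩)) <;> first | trivial | linarith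
  by_cases q1_0 : Lib.Helper11.NumType.c T (v 1) (v 0) = 2
  · have u1_0 : Lib.Helper11.NumType.c T (v 1) (v 0) = 2 := q1_0
    have u0_1 : Lib.Helper11.NumType.c T (v 0) (v 1) = 1 := by omega
    have u1_2 : Lib.Helper11.NumType.c T (v 1) (v 2) = 1 := by omega
    have u2_1 : Lib.Helper11.NumType.c T (v 2) (v 1) = 1 := by omega
    have u2_3 : Lib.Helper11.NumType.c T (v 2) (v 3) = 1 := by omega
    have u3_2 : Lib.Helper11.NumType.c T (v 3) (v 2) = 1 := by omega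
    have ws0 := Lib.Helper11.NumType.w_mul_c_symm T (v 0) (v 1)
    rw [u0_1, u1_0] at ws0
    have ha0_1 := Lib.Helper11.NumType.a_eq T (v 0) (v 1)
    rw [u0_1] at ha0_1
    have ha1_0 := Lib.Helper11.NumType.a_eq T (v 1) (v 0)
    rw [u1_0] at ha1_0
    have ws1 := Lib.Helper11.NumType.w_mul_c_symm T (v 1) (v 2)
    rw [u1_2, u2_1] at ws1
    have ha1_2 := Lib.Helper11.NumType.a_eq T (v 1) (v 2)
    rw [u1_2] at ha1_2
    have ha2_1 := Lib.Helper11.NumType.a_eq T (v 2) (v 1)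
    rw [u2_1] at ha2_1
    have ws2 := Lib.Helper11.NumType.w_mul_c_symm T (v 2) (v 3)
    rw [u2_3, u3_2] at ws2
    have ha2_3 := Lib.Helper11.NumType.a_eq T (v 2) (v 3)
    rw [u2_3] at ha2_3
    have ha3_2 := Lib.Helper11.NumType.a_eq T (v 3) (v 2)
    rw [u3_2] at ha3_2
    simp only [u0_1, u1_0, u1_2, u2_1, u2_3, u3_2, z0_2, z0_3, z1_3, z2_0, z3_0, z3_1, one_mul, zero_mul, add_zero] at r0 r1 r2 r3
    refine ⟨fun j => v (Fin.rev j), T.w (v 3), Or.inr (fun _ => rfl), ?_⟩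
    simp only [hrev0, hrev1, hrev2, hrev3]
    refine Or.inr (Or.inl ⟨?_, ?_, ?_, ?_, ?_, ?_, ?_, ?_, ?_, ?_, ?_⟩) <;> first | trivial | linarith
  by_cases q1_2 : Lib.Helper11.NumType.c T (v 1) (v 2) = 2
  · have u1_2 : Lib.Helper11.NumType.c T (v 1) (v 2) = 2 := q1_2
    have u0_1 : Lib.Helper11.NumType.c T (v 0) (v 1) = 1 := by omega
    have u1_0 : Lib.Helper11.NumType.c T (v 1) (v 0) = 1 := by omega
    have u2_1 : Lib.Helper11.NumType.c T (v 2) (v 1) = 1 := by omega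
    have u2_3 : Lib.Helper11.NumType.c T (v 2) (v 3) = 1 := by omega
    have u3_2 : Lib.Helper11.NumType.c T (v 3) (v 2) = 1 := by omega
    have ws0 := Lib.Helper11.NumType.w_mul_c_symm T (v 0) (v 1)
    rw [u0_1, u1_0] at ws0
    have ha0_1 := Lib.Helper11.NumType.a_eq T (v 0) (v 1)
    rw [u0_1] at ha0_1
    have ha1_0 := Lib.Helper11.NumType.a_eq T (v 1) (v 0)
    rw [u1_0] at ha1_0
    have ws1 := Lib.Helper11.NumType.w_mul_c_symm T (v 1) (v 2)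
    rw [u1_2, u2_1] at ws1
    have ha1_2 := Lib.Helper11.NumType.a_eq T (v 1) (v 2)
    rw [u1_2] at ha1_2
    have ha2_1 := Lib.Helper11.NumType.a_eq T (v 2) (v 1)
    rw [u2_1] at ha2_1
    have ws2 := Lib.Helper11.NumType.w_mul_c_symm T (v 2) (v 3)
    rw [u2_3, u3_2] at ws2
    have ha2_3 := Lib.Helper11.NumType.a_eq T (v 2) (v 3)
    rw [u2_3] at ha2_3
    have ha3_2 := Lib.Helper11.NumType.a_eq T (v 3) (v 2)
    rw [u3_2] at ha3_2
    simp only [u0_1, u1_0, u1_2, u2_1, u2_3, u3_2, z0_2, z0_3, z1_3, z2_0, z3_0, z3_1, one_mul, zero_mul, add_zero] at r0 r1 r2 r3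
    refine ⟨v, T.w (v 0), Or.inl (fun _ => rfl), ?_⟩
    refine Or.inr (Or.inr (Or.inr (⟨?_, ?_, ?_, ?_, ?_, ?_, ?_, ?_, ?_, ?_, ?_⟩))) <;> first | trivial | linarith
  by_cases q2_1 : Lib.Helper11.NumType.c T (v 2) (v 1) = 2
  · have u2_1 : Lib.Helper11.NumType.c T (v 2) (v 1) = 2 := q2_1
    have u0_1 : Lib.Helper11.NumType.c T (v 0) (v 1) = 1 := by omega
    have u1_0 : Lib.Helper11.NumType.c T (v 1) (v 0) = 1 := by omega
    have u1_2 : Lib.Helper11.NumType.c T (v 1) (v 2) = 1 := by omega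
    have u2_3 : Lib.Helper11.NumType.c T (v 2) (v 3) = 1 := by omega
    have u3_2 : Lib.Helper11.NumType.c T (v 3) (v 2) = 1 := by omega
    have ws0 := Lib.Helper11.NumType.w_mul_c_symm T (v 0) (v 1)
    rw [u0_1, u1_0] at ws0
    have ha0_1 := Lib.Helper11.NumType.a_eq T (v 0) (v 1)
    rw [u0_1] at ha0_1
    have ha1_0 := Lib.Helper11.NumType.a_eq T (v 1) (v 0)
    rw [u1_0] at ha1_0
    have ws1 := Lib.Helper11.NumType.w_mul_c_symm T (v 1) (v 2)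
    rw [u1_2, u2_1] at ws1
    have ha1_2 := Lib.Helper11.NumType.a_eq T (v 1) (v 2)
    rw [u1_2] at ha1_2
    have ha2_1 := Lib.Helper11.NumType.a_eq T (v 2) (v 1)
    rw [u2_1] at ha2_1
    have ws2 := Lib.Helper11.NumType.w_mul_c_symm T (v 2) (v 3)
    rw [u2_3, u3_2] at ws2
    have ha2_3 := Lib.Helper11.NumType.a_eq T (v 2) (v 3)
    rw [u2_3] at ha2_3
    have ha3_2 := Lib.Helper11.NumType.a_eq T (v 3) (v 2)
    rw [u3_2] at ha3_2
    simp only [u0_1, u1_0, u1_2, u2_1, u2_3, u3_2, z0_2, z0_3, z1_3, z2_0, z3_0, z3_1, one_mul, zero_mul, add_zero] at r0 r1 r2 r3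
    refine ⟨fun j => v (Fin.rev j), T.w (v 3), Or.inr (fun _ => rfl), ?_⟩
    simp only [hrev0, hrev1, hrev2, hrev3]
    refine Or.inr (Or.inr (Or.inr (⟨?_, ?_, ?_, ?_, ?_, ?_, ?_, ?_, ?_, ?_, ?_⟩))) <;> first | trivial | linarith
  by_cases q2_3 : Lib.Helper11.NumType.c T (v 2) (v 3) = 2
  · have u2_3 : Lib.Helper11.NumType.c T (v 2) (v 3) = 2 := q2_3
    have u0_1 : Lib.Helper11.NumType.c T (v 0) (v 1) = 1 := by omega
    have u1_0 : Lib.Helper11.NumType.c T (v 1) (v 0) = 1 := by omega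
    have u1_2 : Lib.Helper11.NumType.c T (v 1) (v 2) = 1 := by omega
    have u2_1 : Lib.Helper11.NumType.c T (v 2) (v 1) = 1 := by omega
    have u3_2 : Lib.Helper11.NumType.c T (v 3) (v 2) = 1 := by omega
    have ws0 := Lib.Helper11.NumType.w_mul_c_symm T (v 0) (v 1)
    rw [u0_1, u1_0] at ws0
    have ha0_1 := Lib.Helper11.NumType.a_eq T (v 0) (v 1)
    rw [u0_1] at ha0_1
    have ha1_0 := Lib.Helper11.NumType.a_eq T (v 1) (v 0)
    rw [u1_0] at ha1_0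
    have ws1 := Lib.Helper11.NumType.w_mul_c_symm T (v 1) (v 2)
    rw [u1_2, u2_1] at ws1
    have ha1_2 := Lib.Helper11.NumType.a_eq T (v 1) (v 2)
    rw [u1_2] at ha1_2
    have ha2_1 := Lib.Helper11.NumType.a_eq T (v 2) (v 1)
    rw [u2_1] at ha2_1
    have ws2 := Lib.Helper11.NumType.w_mul_c_symm T (v 2) (v 3)
    rw [u2_3, u3_2] at ws2
    have ha2_3 := Lib.Helper11.NumType.a_eq T (v 2) (v 3)
    rw [u2_3] at ha2_3
    have ha3_2 := Lib.Helper11.NumType.a_eq T (v 3) (v 2)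
    rw [u3_2] at ha3_2
    simp only [u0_1, u1_0, u1_2, u2_1, u2_3, u3_2, z0_2, z0_3, z1_3, z2_0, z3_0, z3_1, one_mul, zero_mul, add_zero] at r0 r1 r2 r3
    refine ⟨v, T.w (v 0), Or.inl (fun _ => rfl), ?_⟩
    refine Or.inr (Or.inl ⟨?_, ?_, ?_, ?_, ?_, ?_, ?_, ?_, ?_, ?_, ?_⟩) <;> first | trivial | linarith
  by_cases q3_2 : Lib.Helper11.NumType.c T (v 3) (v 2) = 2
  · have u3_2 : Lib.Helper11.NumType.c T (v 3) (v 2) = 2 := q3_2
    have u0_1 : Lib.Helper11.NumType.c T (v 0) (v 1) = 1 := by omega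
    have u1_0 : Lib.Helper11.NumType.c T (v 1) (v 0) = 1 := by omega
    have u1_2 : Lib.Helper11.NumType.c T (v 1) (v 2) = 1 := by omega
    have u2_1 : Lib.Helper11.NumType.c T (v 2) (v 1) = 1 := by omega
    have u2_3 : Lib.Helper11.NumType.c T (v 2) (v 3) = 1 := by omega
    have ws0 := Lib.Helper11.NumType.w_mul_c_symm T (v 0) (v 1)
    rw [u0_1, u1_0] at ws0
    have ha0_1 := Lib.Helper11.NumType.a_eq T (v 0) (v 1)
    rw [u0_1] at ha0_1
    have ha1_0 := Lib.Helper11.NumType.a_eq T (v 1) (v 0)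
    rw [u1_0] at ha1_0
    have ws1 := Lib.Helper11.NumType.w_mul_c_symm T (v 1) (v 2)
    rw [u1_2, u2_1] at ws1
    have ha1_2 := Lib.Helper11.NumType.a_eq T (v 1) (v 2)
    rw [u1_2] at ha1_2
    have ha2_1 := Lib.Helper11.NumType.a_eq T (v 2) (v 1)
    rw [u2_1] at ha2_1
    have ws2 := Lib.Helper11.NumType.w_mul_c_symm T (v 2) (v 3)
    rw [u2_3, u3_2] at ws2
    have ha2_3 := Lib.Helper11.NumType.a_eq T (v 2) (v 3)
    rw [u2_3] at ha2_3
    have ha3_2 := Lib.Helper11.NumType.a_eq T (v 3) (v 2)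
    rw [u3_2] at ha3_2
    simp only [u0_1, u1_0, u1_2, u2_1, u2_3, u3_2, z0_2, z0_3, z1_3, z2_0, z3_0, z3_1, one_mul, zero_mul, add_zero] at r0 r1 r2 r3
    refine ⟨v, T.w (v 3), Or.inl (fun _ => rfl), ?_⟩
    refine Or.inr (Or.inr (Or.inl ⟨?_, ?_, ?_, ?_, ?_, ?_, ?_, ?_, ?_, ?_, ?_⟩)) <;> first | trivial | linarith
  have u0_1 : Lib.Helper11.NumType.c T (v 0) (v 1) = 1 := by omega
  have u1_0 : Lib.Helper11.NumType.c T (v 1) (v 0) = 1 := by omega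
  have u1_2 : Lib.Helper11.NumType.c T (v 1) (v 2) = 1 := by omega
  have u2_1 : Lib.Helper11.NumType.c T (v 2) (v 1) = 1 := by omega
  have u2_3 : Lib.Helper11.NumType.c T (v 2) (v 3) = 1 := by omega
  have u3_2 : Lib.Helper11.NumType.c T (v 3) (v 2) = 1 := by omega
  have ws0 := Lib.Helper11.NumType.w_mul_c_symm T (v 0) (v 1)
  rw [u0_1, u1_0] at ws0
  have ha0_1 := Lib.Helper11.NumType.a_eq T (v 0) (v 1)
  rw [u0_1] at ha0_1
  have ha1_0 := Lib.Helper11.NumType.a_eq T (v 1) (v 0)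
  rw [u1_0] at ha1_0
  have ws1 := Lib.Helper11.NumType.w_mul_c_symm T (v 1) (v 2)
  rw [u1_2, u2_1] at ws1
  have ha1_2 := Lib.Helper11.NumType.a_eq T (v 1) (v 2)
  rw [u1_2] at ha1_2
  have ha2_1 := Lib.Helper11.NumType.a_eq T (v 2) (v 1)
  rw [u2_1] at ha2_1
  have ws2 := Lib.Helper11.NumType.w_mul_c_symm T (v 2) (v 3)
  rw [u2_3, u3_2] at ws2
  have ha2_3 := Lib.Helper11.NumType.a_eq T (v 2) (v 3)
  rw [u2_3] at ha2_3
  have ha3_2 := Lib.Helper11.NumType.a_eq T (v 3) (v 2)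
  rw [u3_2] at ha3_2
  simp only [u0_1, u1_0, u1_2, u2_1, u2_3, u3_2, z0_2, z0_3, z1_3, z2_0, z3_0, z3_1, one_mul, zero_mul, add_zero] at r0 r1 r2 r3
  refine ⟨v, T.w (v 0), Or.inl (fun _ => rfl), ?_⟩
  refine Or.inl ⟨?_, ?_, ?_, ?_, ?_, ?_, ?_, ?_, ?_, ?_, ?_⟩ <;> first | trivial | linarith

end Groth.Agent.S7352
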