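import Groth.Statements.S7354
import Mathlib
import Groth.Agent.Lib.Helper11.NumType
import Groth.Agent.Lib.Helper11.NumTypeGen
import Groth.Agent.Lib.Helper11.NumTypeChain

set_option autoImplicit false
open Finset
open Models Models.NumericalType

namespace Groth.Agent.S7354

open Groth.Agent.Lib.Helper11.NumType in
theorem core {n : ℕ} {T : Models.NumericalType n} {t : ℕ} {x : ℕ → Fin n} (h : ChainData T t x)
    (ht : 5 ≤ t) (hL1 : c T (x 0) (x 1) = 1) (hL2 : c T (x 1) (x 0) = 1) :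
    ∃ w : ℤ, (∀ j k, j + 1 < k → k < t → T.a (x j) (x k) = 0) ∧
      (((∀ j, j < t → T.w (x j) = w) ∧ (∀ j, j + 1 < t → T.a (x j) (x (j + 1)) = w)) ∨
       ((∀ j, j + 1 < t → T.w (x j) = w) ∧ (∀ j, j + 1 = t → T.w (x j) = 2 * w) ∧
          (∀ j, j + 2 < t → T.a (x j) (x (j + 1)) = w) ∧
          (∀ j, j + 2 = t → T.a (x j) (x (j + 1)) = 2 * w)) ∨
       ((∀ j, j + 1 < t → T.w (x j) = 2 * w) ∧ (∀ j, j + 1 = t → T.w (x j) = w) ∧
          (∀ j, j + 1 < t → T.a (x j) (x (j + 1)) = 2 * w))) := by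
  obtain ⟨p, hp⟩ : ∃ p, p + 2 = t := ⟨t - 2, by omega⟩
  have simple : ∀ s, s + 2 < t → c T (x s) (x (s + 1)) = 1 ∧ c T (x (s + 1)) (x s) = 1 := by
    intro s hs
    rcases Nat.eq_zero_or_pos s with rfl | hpos
    · exact ⟨hL1, hL2⟩
    · exact h.interior ht hpos hs
  have weq : ∀ s, s + 2 < t → T.w (x (s + 1)) = T.w (x s) := by
    intro s hs
    have := w_mul_c_symm T (x s) (x (s + 1))
    rw [(simple s hs).1, (simple s hs).2] at this
    linarith
  have wall : ∀ s, s + 1 < t → T.w (x s) = T.w (x 0) := by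
    intro s
    induction s with
    | zero => intro _; rfl
    | succ s ih =>
      intro hs
      rw [weq s (by omega), ih (by omega)]
  have zero : ∀ j k, j + 1 < k → k < t → T.a (x j) (x k) = 0 := by
    intro j k hjk hk
    rw [a_eq, h.nonadj hjk hk, mul_zero]
  have aval : ∀ j, j + 2 < t → T.a (x j) (x (j + 1)) = T.w (x 0) := by
    intro j hj
    rw [a_eq, (simple j hj).1, mul_one, wall j (by omega)]
  obtain ⟨lp, lp'⟩ := h.adj_c (i := p) (by omega)
  obtain ⟨bp, bp', bs⟩ := h.right_end ht hp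
  have hwp := w_mul_c_symm T (x p) (x (p + 1))
  have hwp0 := wall p (by omega)
  have hap := a_eq T (x p) (x (p + 1))
  rcases (show (c T (x p) (x (p + 1)) = 1 ∧ c T (x (p + 1)) (x p) = 1) ∨
      (c T (x p) (x (p + 1)) = 2 ∧ c T (x (p + 1)) (x p) = 1) ∨
      (c T (x p) (x (p + 1)) = 1 ∧ c T (x (p + 1)) (x p) = 2) by omega) with
    ⟨e1, e2⟩ | ⟨e1, e2⟩ | ⟨e1, e2⟩
  · rw [e1, e2] at hwp
    rw [e1] at hap
    refine ⟨T.w (x 0), zero, Or.inl ⟨?_, ?_⟩⟩
    · intro j hj
      by_cases hj' : j + 1 < t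
      · exact wall j hj'
      · have : j = p + 1 := by omega
        rw [this]
        linarith
    · intro j hj
      by_cases hj' : j + 2 < t
      · exact aval j hj'
      · have : j = p := by omega
        rw [this]
        linarith
  · rw [e1, e2] at hwp
    rw [e1] at hap
    refine ⟨T.w (x 0), zero, Or.inr (Or.inl ⟨wall, ?_, aval, ?_⟩)⟩
    · intro j hj
      have : j = p + 1 := by omega
      rw [this]
      linarith
    · intro j hj
      have : j = p := by omega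
      rw [this]
      linarith
  · rw [e1, e2] at hwp
    rw [e1] at hap
    refine ⟨T.w (x (p + 1)), zero, Or.inr (Or.inr ⟨?_, ?_, ?_⟩)⟩
    · intro j hj
      rw [wall j hj]
      linarith
    · intro j hj
      have : j = p + 1 := by omega
      rw [this]
    · intro j hj
      by_cases hj' : j + 2 < t
      · rw [aval j hj']
        linarith
      · have : j = p := by omega
        rw [this]
        linarith

theorem conv {n : ℕ} {T : Models.NumericalType n} {t : ℕ} {x : ℕ → Fin n} (u : Fin t → Fin n)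
    (hux : ∀ j : Fin t, u j = x j.val) (w : ℤ)
    (H : (∀ j k, j + 1 < k → k < t → T.a (x j) (x k) = 0) ∧
      (((∀ j, j < t → T.w (x j) = w) ∧ (∀ j, j + 1 < t → T.a (x j) (x (j + 1)) = w)) ∨
       ((∀ j, j + 1 < t → T.w (x j) = w) ∧ (∀ j, j + 1 = t → T.w (x j) = 2 * w) ∧
          (∀ j, j + 2 < t → T.a (x j) (x (j + 1)) = w) ∧
          (∀ j, j + 2 = t → T.a (x j) (x (j + 1)) = 2 * w)) ∨
       ((∀ j, j + 1 < t → T.w (x j) = 2 * w) ∧ (∀ j, j + 1 = t → T.w (x j) = w) ∧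
          (∀ j, j + 1 < t → T.a (x j) (x (j + 1)) = 2 * w)))) :
    (∀ j k : Fin t, j.val + 1 < k.val → T.a (u j) (u k) = 0) ∧
      ((∀ j : Fin t, T.w (u j) = w) ∧ (∀ j j' : Fin t, j'.val = j.val + 1 → T.a (u j) (u j') = w) ∨
        ((∀ j : Fin t, j.val + 1 < t → T.w (u j) = w) ∧ (∀ j : Fin t, j.val + 1 = t → T.w (u j) = 2 * w) ∧
          (∀ j j' : Fin t, j'.val = j.val + 1 → j'.val + 1 < t → T.a (u j) (u j') = w) ∧
          (∀ j j' : Fin t, j'.val = j.val + 1 → j'.val + 1 = t → T.a (u j) (u j') = 2 * w)) ∨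
        ((∀ j : Fin t, j.val + 1 < t → T.w (u j) = 2 * w) ∧ (∀ j : Fin t, j.val + 1 = t → T.w (u j) = w) ∧
          (∀ j j' : Fin t, j'.val = j.val + 1 → T.a (u j) (u j') = 2 * w))) := by
  obtain ⟨hz, hABC⟩ := H
  refine ⟨fun j k hjk => by rw [hux, hux]; exact hz _ _ hjk k.isLt, ?_⟩
  rcases hABC with ⟨a1, a2⟩ | ⟨c1, c2, c3, c4⟩ | ⟨b1, b2, b3⟩
  · refine Or.inl ⟨fun j => by rw [hux]; exact a1 _ j.isLt, fun j j' e => ?_⟩
    rw [hux, hux, e]
    exact a2 _ (by have := j'.isLt; omega)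
  · refine Or.inr (Or.inl ⟨fun j hj => by rw [hux]; exact c1 _ hj,
      fun j hj => by rw [hux]; exact c2 _ hj, fun j j' e e' => ?_, fun j j' e e' => ?_⟩)
    · rw [hux, hux, e]
      exact c3 _ (by omega)
    · rw [hux, hux, e]
      exact c4 _ (by omega)
  · refine Or.inr (Or.inr ⟨fun j hj => by rw [hux]; exact b1 _ hj,
      fun j hj => by rw [hux]; exact b2 _ hj, fun j j' e => ?_⟩)
    rw [hux, hux, e]
    exact b3 _ (by have := j'.isLt; omega)


/-- Let T be a numerical type on n indices, t > 5 with n > t, and i_1, …, i_t distinct (-2)-indices with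
a_{i_j i_{j+1}} nonzero for j = 1, …, t - 1. Then, after possibly reversing the order of the
indices, for some integer w either (A) w_{i_1} = … = w_{i_t} = w and a_{i_j i_{j+1}} = w for all j;
or (C) w_{i_1} = … = w_{i_{t-1}} = w, w_{i_t} = 2w, a_{i_j i_{j+1}} = w for j < t - 1 and a_{i_{t-1}
i_t} = 2w; or (B) w_{i_1} = … = w_{i_{t-1}} = 2w, w_{i_t} = w and a_{i_j i_{j+1}} = 2w for all j;
and in every case a_{i_j i_k} = 0 whenever k > j + 1. -/
theorem result {n : ℕ} (T : Models.NumericalType n) (t : ℕ) (ht : 5 < t) (hn : t < n)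
    (v : Fin t ↪ Fin n) (hv : ∀ j, T.IsMinusTwo (v j))
    (hchain : ∀ j j' : Fin t, j'.val = j.val + 1 → T.a (v j) (v j') ≠ 0) :
    ∃ (u : Fin t → Fin n) (w : ℤ), ((∀ j, u j = v j) ∨ (∀ j, u j = v (Fin.rev j))) ∧
      (∀ j k : Fin t, j.val + 1 < k.val → T.a (u j) (u k) = 0) ∧
      ((∀ j : Fin t, T.w (u j) = w) ∧ (∀ j j' : Fin t, j'.val = j.val + 1 → T.a (u j) (u j') = w) ∨
        ((∀ j : Fin t, j.val + 1 < t → T.w (u j) = w) ∧ (∀ j : Fin t, j.val + 1 = t → T.w (u j) = 2 * w) ∧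
          (∀ j j' : Fin t, j'.val = j.val + 1 → j'.val + 1 < t → T.a (u j) (u j') = w) ∧
          (∀ j j' : Fin t, j'.val = j.val + 1 → j'.val + 1 = t → T.a (u j) (u j') = 2 * w)) ∨
        ((∀ j : Fin t, j.val + 1 < t → T.w (u j) = 2 * w) ∧ (∀ j : Fin t, j.val + 1 = t → T.w (u j) = w) ∧
          (∀ j j' : Fin t, j'.val = j.val + 1 → T.a (u j) (u j') = 2 * w))) := by
  classical
  have ht0 : 0 < t := by omega
  let x : ℕ → Fin n := fun i => if hi : i < t then v ⟨i, hi⟩ else v ⟨0, ht0⟩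
  have hx' : ∀ i (hi : i < t), x i = v ⟨i, hi⟩ := fun i hi => dif_pos hi
  have hx : ∀ j : Fin t, x j.val = v j := fun j => hx' j.val j.isLt
  have hdata : Lib.Helper11.NumType.ChainData T t x :=
    { lt := hn
      inj := fun i j hi hj e => by
        rw [hx' i hi, hx' j hj] at e
        exact congrArg Fin.val (v.injective e)
      mt := fun i hi => by
        rw [hx' i hi]
        exact hv _
      adj := fun i hi => by
        rw [hx' i (by omega), hx' (i + 1) hi]
        exact hchain ⟨i, by omega⟩ ⟨i + 1, hi⟩ rfl }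
  obtain ⟨p, hp⟩ : ∃ p, p + 2 = t := ⟨t - 2, by omega⟩
  have ht5 : 5 ≤ t := by omega
  obtain ⟨l01, l10⟩ := hdata.adj_c (i := 0) (by omega)
  obtain ⟨lp, lp'⟩ := hdata.adj_c (i := p) (by omega)
  simp only [zero_add] at l01 l10
  obtain ⟨b01, b10, s01⟩ := hdata.left_end ht5
  obtain ⟨bp, bp', sp⟩ := hdata.right_end ht5 hp
  have hcase : (Lib.Helper11.NumType.c T (x 0) (x 1) = 1 ∧ Lib.Helper11.NumType.c T (x 1) (x 0) = 1) ∨
      (Lib.Helper11.NumType.c T (x p) (x (p + 1)) = 1 ∧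
        Lib.Helper11.NumType.c T (x (p + 1)) (x p) = 1) := by
    by_cases hL : Lib.Helper11.NumType.c T (x 0) (x 1) + Lib.Helper11.NumType.c T (x 1) (x 0) = 3
    · by_cases hR : Lib.Helper11.NumType.c T (x p) (x (p + 1)) +
          Lib.Helper11.NumType.c T (x (p + 1)) (x p) = 3
      · exact (hdata.not_both_double (by omega) hp hL hR).elim
      · exact Or.inr ⟨by omega, by omega⟩
    · exact Or.inl ⟨by omega, by omega⟩
  rcases hcase with ⟨e1, e2⟩ | ⟨e1, e2⟩
  · obtain ⟨w, H⟩ := core hdata ht5 e1 e2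
    exact ⟨fun j => v j, w, Or.inl (fun _ => rfl), conv (fun j => v j) (fun j => (hx j).symm) w H⟩
  · have hrev := hdata.rev
    have ea : t - 1 - 0 = p + 1 := by omega
    have eb : t - 1 - 1 = p := by omega
    have e1' : Lib.Helper11.NumType.c T ((fun i => x (t - 1 - i)) 0) ((fun i => x (t - 1 - i)) 1) = 1 := by
      show Lib.Helper11.NumType.c T (x (t - 1 - 0)) (x (t - 1 - 1)) = 1
      rw [ea, eb]
      exact e2
    have e2' : Lib.Helper11.NumType.c T ((fun i => x (t - 1 - i)) 1) ((fun i => x (t - 1 - i)) 0) = 1 := by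
      show Lib.Helper11.NumType.c T (x (t - 1 - 1)) (x (t - 1 - 0)) = 1
      rw [ea, eb]
      exact e1
    obtain ⟨w, H⟩ := core hrev ht5 e1' e2'
    refine ⟨fun j => v (Fin.rev j), w, Or.inr (fun _ => rfl),
      conv (fun j => v (Fin.rev j)) (fun j => ?_) w H⟩
    show v (Fin.rev j) = x (t - 1 - j.val)
    rw [← hx (Fin.rev j), Fin.val_rev]
    congr 1
    omega

end Groth.Agent.S7354
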