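import Groth.Statements.S7355
import Mathlib
import Groth.Agent.Lib.Helper11.NumType
import Groth.Agent.Lib.Helper11.NumTypeGen
import Groth.Agent.Lib.Helper11.NumTypeChain

set_option autoImplicit false
open Finset
open Models Models.NumericalType

namespace Groth.Agent.S7355

/-- Classification of proper subgraphs of type D: let T be a numerical type on n indices, t > 4 with n >
t + 1, and i_1, …, i_{t+1} distinct (-2)-indices such that a_{i_j i_{j+1}} is nonzero for j = 1, …,
t - 1 and a_{i_{t-1} i_{t+1}} is nonzero. Then for some integer w one has w_{i_1} = … = w_{i_{t+1}}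
= w, a_{i_j i_{j+1}} = w for j < t, a_{i_{t-1} i_{t+1}} = w, and a_{i_j i_k} = 0 for all other pairs
j ≠ k. -/
theorem result {n : ℕ} (T : Models.NumericalType n) (t : ℕ) (ht : 4 < t) (hn : t + 1 < n)
    (v : Fin (t + 1) ↪ Fin n) (hv : ∀ j, T.IsMinusTwo (v j))
    (hchain : ∀ j j' : Fin (t + 1), j'.val = j.val + 1 → j'.val < t → T.a (v j) (v j') ≠ 0)
    (hbranch : ∀ j j' : Fin (t + 1), j.val + 2 = t → j'.val = t → T.a (v j) (v j') ≠ 0) :
    ∃ w : ℤ, (∀ j : Fin (t + 1), T.w (v j) = w) ∧
      (∀ j j' : Fin (t + 1), j'.val = j.val + 1 → j'.val < t → T.a (v j) (v j') = w) ∧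
      (∀ j j' : Fin (t + 1), j.val + 2 = t → j'.val = t → T.a (v j) (v j') = w) ∧
      (∀ j k : Fin (t + 1), j.val < k.val → ¬ (k.val = j.val + 1 ∧ k.val < t) → ¬ (j.val + 2 = t ∧ k.val = t) →
        T.a (v j) (v k) = 0) := by
  classical
  have ht0 : 0 < t + 1 := by omega
  let x : ℕ → Fin n := fun i => if hi : i < t + 1 then v ⟨i, hi⟩ else v ⟨0, ht0⟩
  have hx' : ∀ i (hi : i < t + 1), x i = v ⟨i, hi⟩ := fun i hi => dif_pos hi
  have hx : ∀ j : Fin (t + 1), v j = x j.val := fun j => (hx' j.val j.isLt).symm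
  have xinj : ∀ i j, i < t + 1 → j < t + 1 → x i = x j → i = j := fun i j hi hj e => by
    rw [hx' i hi, hx' j hj] at e
    exact congrArg Fin.val (v.injective e)
  have xmt : ∀ i, i < t + 1 → T.IsMinusTwo (x i) := fun i hi => by
    rw [hx' i hi]
    exact hv _
  have xchain : ∀ i, i + 1 < t → T.a (x i) (x (i + 1)) ≠ 0 := fun i hi => by
    rw [hx' i (by omega), hx' (i + 1) (by omega)]
    exact hchain ⟨i, by omega⟩ ⟨i + 1, by omega⟩ rfl hi
  have xbranch : ∀ i, i + 2 = t → T.a (x i) (x t) ≠ 0 := fun i hi => by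
    rw [hx' i (by omega), hx' t (by omega)]
    exact hbranch ⟨i, by omega⟩ ⟨t, by omega⟩ hi rfl
  obtain ⟨q, hq⟩ : ∃ q, q + 3 = t := ⟨t - 3, by omega⟩
  -- chain A
  have hA : Lib.Helper11.NumType.ChainData T t x :=
    { lt := by omega
      inj := fun i j hi hj => xinj i j (by omega) (by omega)
      mt := fun i hi => xmt i (by omega)
      adj := xchain }
  -- chain B
  let idxB : ℕ → ℕ := fun i => if i + 1 = t then t else i
  have idxB_lt : ∀ i, i + 1 ≠ t → idxB i = i := fun i hi => if_neg hi
  have idxB_last : ∀ i, i + 1 = t → idxB i = t := fun i hi => if_pos hi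
  have idxB_bound : ∀ i, i < t → idxB i < t + 1 := fun i hi => by
    by_cases h1 : i + 1 = t
    · rw [idxB_last i h1]; omega
    · rw [idxB_lt i h1]; omega
  have idxB_inj : ∀ i j, i < t → j < t → idxB i = idxB j → i = j := fun i j hi hj e => by
    by_cases h1 : i + 1 = t <;> by_cases h2 : j + 1 = t
    · omega
    · rw [idxB_last i h1, idxB_lt j h2] at e; omega
    · rw [idxB_lt i h1, idxB_last j h2] at e; omega
    · rw [idxB_lt i h1, idxB_lt j h2] at e; exact e
  have hB : Lib.Helper11.NumType.ChainData T t (fun i => x (idxB i)) :=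
    { lt := by omega
      inj := fun i j hi hj e => idxB_inj i j hi hj (xinj _ _ (idxB_bound i hi) (idxB_bound j hj) e)
      mt := fun i hi => xmt _ (idxB_bound i hi)
      adj := fun i hi => by
        show T.a (x (idxB i)) (x (idxB (i + 1))) ≠ 0
        rw [idxB_lt i (by omega)]
        by_cases h1 : i + 1 + 1 = t
        · rw [idxB_last (i + 1) h1]
          exact xbranch i (by omega)
        · rw [idxB_lt (i + 1) h1]
          exact xchain i hi }
  have ht5 : 5 ≤ t := by omega
  -- the star at the branch vertex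
  obtain ⟨-, -, zlast, s01, s10, s12, s21, s13, s31⟩ :=
    Lib.Helper11.NumType.star4_window T x (t + 1) hn xinj xmt (k := q) (by omega)
      (xchain q (by omega)) (xchain (q + 1) (by omega))
      (by have := xbranch (q + 1) (by omega); rw [← hq] at this; exact this)
  -- the left end is simple
  obtain ⟨l01, l10⟩ := hA.adj_c (i := 0) (by omega)
  simp only [zero_add] at l01 l10
  obtain ⟨b01, b10, sum01⟩ := hA.left_end ht5
  have hleft : Lib.Helper11.NumType.c T (x 0) (x 1) = 1 ∧ Lib.Helper11.NumType.c T (x 1) (x 0) = 1 := by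
    by_contra hcon
    have hL : Lib.Helper11.NumType.c T (x 0) (x 1) + Lib.Helper11.NumType.c T (x 1) (x 0) = 3 := by
      by_contra h3
      exact hcon ⟨by omega, by omega⟩
    have prodL : Lib.Helper11.NumType.c T (x 1) (x 0) * Lib.Helper11.NumType.c T (x 0) (x 1) = 2 := by
      rcases (show (Lib.Helper11.NumType.c T (x 0) (x 1) = 1 ∧ Lib.Helper11.NumType.c T (x 1) (x 0) = 2) ∨
        (Lib.Helper11.NumType.c T (x 0) (x 1) = 2 ∧ Lib.Helper11.NumType.c T (x 1) (x 0) = 1) by omega) with
        ⟨e1, e2⟩ | ⟨e1, e2⟩ <;>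
      rw [e1, e2] <;> norm_num
    let y : ℕ → ℤ := fun s => if s = 0 then Lib.Helper11.NumType.c T (x 1) (x 0) else
      if s = q + 2 ∨ s = q + 3 then 1 else 2
    have hy_0 : y 0 = Lib.Helper11.NumType.c T (x 1) (x 0) := if_pos rfl
    have hy_one : ∀ s, s ≠ 0 → (s = q + 2 ∨ s = q + 3) → y s = 1 := by
      intro s h1 h2
      show (if s = 0 then _ else if s = q + 2 ∨ s = q + 3 then _ else _) = _
      rw [if_neg h1, if_pos h2]
    have hy_two : ∀ s, s ≠ 0 → ¬ (s = q + 2 ∨ s = q + 3) → y s = 2 := by
      intro s h1 h2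
      show (if s = 0 then _ else if s = q + 2 ∨ s = q + 3 then _ else _) = _
      rw [if_neg h1, if_neg h2]
    have hypos : ∀ s ∈ Finset.range (t + 1), 0 < y s := by
      intro s _
      by_cases h1 : s = 0
      · rw [h1, hy_0]; omega
      · by_cases h2 : s = q + 2 ∨ s = q + 3
        · rw [hy_one s h1 h2]; norm_num
        · rw [hy_two s h1 h2]; norm_num
    have hy0 : ∀ s ∈ Finset.range (t + 1), 0 ≤ y s := fun s hs => (hypos s hs).le
    have hS : ∀ s ∈ Finset.range (t + 1), s < t + 1 := fun s hs => Finset.mem_range.mp hs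
    have hf : Set.InjOn x (Finset.range (t + 1) : Set ℕ) := fun i hi j hj e =>
      xinj i j (hS i (Finset.mem_coe.mp hi)) (hS j (Finset.mem_coe.mp hj)) e
    have mem : ∀ s, s < t + 1 → s ∈ Finset.range (t + 1) := fun s hs => Finset.mem_range.mpr hs
    refine Lib.Helper11.NumType.not_col_nonneg T (Finset.range (t + 1)) x hf ⟨0, mem 0 (by omega)⟩
      (by rw [Finset.card_range]; exact hn) y hypos ?_
    intro t' ht'
    have ht't := hS t' ht'
    have hd := Lib.Helper11.NumType.c_diag_of_isMinusTwo T (xmt t' ht't)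
    rcases (show t' = 0 ∨ t' = 1 ∨ (2 ≤ t' ∧ t' ≤ q) ∨ t' = q + 1 ∨ t' = q + 2 ∨ t' = q + 3 by omega) with
      e | e | ⟨e1, e2⟩ | e | e | e
    · refine Lib.Helper11.NumType.col_nonneg_one T _ x hf y hy0 ht' (mem 1 (by omega)) (by omega) ?_
      rw [hd, e, hy_0, hy_two 1 (by omega) (by omega)]
      linarith
    · have a2 := (hA.adj_c (i := 1) (by omega)).2
      refine Lib.Helper11.NumType.col_nonneg_two T _ x hf y hy0 ht' (mem 0 (by omega)) (mem 2 (by omega))
        (by omega) (by omega) (by omega) ?_
      rw [hd, e, hy_0, hy_two 1 (by omega) (by omega), hy_two 2 (by omega) (by omega)]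
      linarith
    · have a1 := (hA.adj_pred (by omega : 1 ≤ t') (by omega : t' < t)).1
      have a2 := (hA.adj_c (by omega : t' + 1 < t)).2
      refine Lib.Helper11.NumType.col_nonneg_two T _ x hf y hy0 ht' (mem (t' - 1) (by omega))
        (mem (t' + 1) (by omega)) (by omega) (by omega) (by omega) ?_
      rw [hd, hy_two t' (by omega) (by omega), hy_two (t' - 1) (by omega) (by omega),
        hy_two (t' + 1) (by omega) (by omega)]
      linarith
    · refine Lib.Helper11.NumType.col_nonneg_three T _ x hf y hy0 ht' (mem q (by omega))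
        (mem (q + 2) (by omega)) (mem (q + 3) (by omega)) (by omega) (by omega) (by omega)
        (by omega) (by omega) (by omega) ?_
      rw [hd, e, hy_two (q + 1) (by omega) (by omega), hy_two q (by omega) (by omega),
        hy_one (q + 2) (by omega) (Or.inl rfl), hy_one (q + 3) (by omega) (Or.inr rfl), s01, s21, s31]
      norm_num
    · refine Lib.Helper11.NumType.col_nonneg_one T _ x hf y hy0 ht' (mem (q + 1) (by omega)) (by omega) ?_
      rw [hd, e, hy_one (q + 2) (by omega) (Or.inl rfl), hy_two (q + 1) (by omega) (by omega), s12]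
      norm_num
    · refine Lib.Helper11.NumType.col_nonneg_one T _ x hf y hy0 ht' (mem (q + 1) (by omega)) (by omega) ?_
      rw [hd, e, hy_one (q + 3) (by omega) (Or.inr rfl), hy_two (q + 1) (by omega) (by omega), s13]
      norm_num
  -- all chain edges are simple
  have simple : ∀ s, s + 1 < t → Lib.Helper11.NumType.c T (x s) (x (s + 1)) = 1 ∧
      Lib.Helper11.NumType.c T (x (s + 1)) (x s) = 1 := by
    intro s hs
    rcases Nat.eq_zero_or_pos s with rfl | hpos
    · exact hleft
    · by_cases h2 : s + 2 < t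
      · exact hA.interior ht5 hpos h2
      · have : s = q + 1 := by omega
        rw [this]
        exact ⟨s12, s21⟩
  have weq : ∀ s, s + 1 < t → T.w (x (s + 1)) = T.w (x s) := by
    intro s hs
    have := Lib.Helper11.NumType.w_mul_c_symm T (x s) (x (s + 1))
    rw [(simple s hs).1, (simple s hs).2] at this
    linarith
  have wall : ∀ s, s < t → T.w (x s) = T.w (x 0) := by
    intro s
    induction s with
    | zero => intro _; rfl
    | succ s ih =>
      intro hs
      rw [weq s hs, ih (by omega)]
  have wlast : T.w (x t) = T.w (x 0) := by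
    have := Lib.Helper11.NumType.w_mul_c_symm T (x (q + 1)) (x (q + 3))
    rw [s13, s31] at this
    have h2 := wall (q + 1) (by omega)
    rw [← hq]
    linarith
  have wall' : ∀ s, s < t + 1 → T.w (x s) = T.w (x 0) := by
    intro s hs
    by_cases h1 : s < t
    · exact wall s h1
    · have : s = t := by omega
      rw [this]
      exact wlast
  refine ⟨T.w (x 0), fun j => by rw [hx]; exact wall' _ j.isLt, ?_, ?_, ?_⟩
  · intro j j' e e'
    rw [hx, hx, e, Lib.Helper11.NumType.a_eq, (simple j.val (by omega)).1, mul_one]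
    exact wall' _ j.isLt
  · intro j j' e e'
    have hj : j.val = q + 1 := by omega
    have hj' : j'.val = q + 3 := by omega
    rw [hx, hx, hj, hj', Lib.Helper11.NumType.a_eq, s13, mul_one]
    exact wall' _ (by omega)
  · intro j k hjk h1 h2
    rw [hx, hx, Lib.Helper11.NumType.a_eq]
    have hk := k.isLt
    suffices hz : Lib.Helper11.NumType.c T (x j.val) (x k.val) = 0 by rw [hz, mul_zero]
    by_cases hkt : k.val < t
    · exact hA.nonadj (by omega) hkt
    · have hk' : k.val = t := by omega
      by_cases hj2 : j.val + 2 < t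
      · have := hB.nonadj (i := j.val) (j := q + 2) (by omega) (by omega)
        rw [idxB_lt j.val (by omega), idxB_last (q + 2) (by omega)] at this
        rw [hk']
        exact this
      · have hj' : j.val = q + 2 := by omega
        rw [hj', hk', ← hq]
        exact zlast

end Groth.Agent.S7355
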