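import Groth.Statements.S7357
import Groth.Agent.Lib.Lead.PthTraceC

set_option linter.style.haveILetI false

set_option autoImplicit false
universe u
open Polynomial
open Resolve

namespace Groth.Agent.S7357

/-- Let p be a prime number, Λ → R a ring map with R of characteristic p, a ∈ R and S = R[x]/(x^p - a).
For every t ≥ 0 there is a canonical R-linear map Tr : Ω^{t+1}_{S/Λ} → Ω^{t+1}_{R/Λ} with η_1 ∧ … ∧
η_t ∧ x^i dx ↦ 0 for 0 ≤ i ≤ p - 2 and η_1 ∧ … ∧ η_t ∧ x^{p-1} dx ↦ η_1 ∧ … ∧ η_t ∧ da (η_j ∈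
Ω_{R/Λ}, pulled back to Ω_{S/Λ}), and Tr annihilates the image of S ⊗_R Ω^{t+1}_{R/Λ} →
Ω^{t+1}_{S/Λ}. (Existence of such a map is asserted; R-linearity is written through the R-action on
S.) -/
theorem result (p : ℕ) [Fact p.Prime] (Λ R : Type u) [CommRing Λ] [CommRing R] [Algebra Λ R]
    [CharP Λ p] [CharP R p] (a : R) (t : ℕ) :
    ∃ Tr : (⋀[AdjoinRoot (X ^ p - C a : R[X])]^(t + 1) (Ω[AdjoinRoot (X ^ p - C a : R[X])⁄Λ])) →+ (⋀[R]^(t + 1) (Ω[R⁄Λ])),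
      (∀ (r : R) (ω : ⋀[AdjoinRoot (X ^ p - C a : R[X])]^(t + 1) (Ω[AdjoinRoot (X ^ p - C a : R[X])⁄Λ])),
        Tr (algebraMap R (AdjoinRoot (X ^ p - C a : R[X])) r • ω) = r • Tr ω) ∧
      (∀ (η : Fin t → Ω[R⁄Λ]) (i : ℕ), i + 2 ≤ p →
        Tr (exteriorPower.ιMulti _ (t + 1) (Fin.snoc (fun j => KaehlerDifferential.map Λ Λ R (AdjoinRoot (X ^ p - C a : R[X])) (η j))
          (AdjoinRoot.root (X ^ p - C a) ^ i • KaehlerDifferential.D Λ _ (AdjoinRoot.root (X ^ p - C a))))) = 0) ∧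
      (∀ (η : Fin t → Ω[R⁄Λ]),
        Tr (exteriorPower.ιMulti _ (t + 1) (Fin.snoc (fun j => KaehlerDifferential.map Λ Λ R (AdjoinRoot (X ^ p - C a : R[X])) (η j))
          (AdjoinRoot.root (X ^ p - C a) ^ (p - 1) • KaehlerDifferential.D Λ _ (AdjoinRoot.root (X ^ p - C a))))) =
          exteriorPower.ιMulti R (t + 1) (Fin.snoc η (KaehlerDifferential.D Λ R a))) ∧
      (∀ (s : AdjoinRoot (X ^ p - C a : R[X])) (η : Fin (t + 1) → Ω[R⁄Λ]),
        Tr (s • exteriorPower.ιMulti _ (t + 1) (fun j => KaehlerDifferential.map Λ Λ R (AdjoinRoot (X ^ p - C a : R[X])) (η j))) = 0) := by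
  haveI hR : CharP R p := inferInstance
  refine ⟨(Groth.Agent.Lib.Lead.PthTrace.Tr p Λ R a t).toAddMonoidHom, ?_, ?_, ?_, ?_⟩
  · intro r ω
    rw [algebraMap_smul]
    exact map_smul (Groth.Agent.Lib.Lead.PthTrace.Tr p Λ R a t) r ω
  · intro η i hi
    have h := Groth.Agent.Lib.Lead.PthTrace.Tr_snoc p Λ R a t η (AdjoinRoot.root (X ^ p - C a) ^ i)
    rw [Groth.Agent.Lib.Lead.PthTrace.coeffS_root_pow p R a i (by omega),
      if_neg (by omega), zero_smul] at h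
    exact h
  · intro η
    have h := Groth.Agent.Lib.Lead.PthTrace.Tr_snoc p Λ R a t η (AdjoinRoot.root (X ^ p - C a) ^ (p - 1))
    have hp1 : p - 1 < p := Nat.sub_lt (Fact.out : p.Prime).pos Nat.one_pos
    rw [Groth.Agent.Lib.Lead.PthTrace.coeffS_root_pow p R a (p - 1) hp1, if_pos rfl, one_smul] at h
    exact h
  · intro s η
    exact Groth.Agent.Lib.Lead.PthTrace.Tr_smul_ιMulti p Λ R a t η s

end Groth.Agent.S7357
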