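import Groth.Statements.S7362
import Mathlib
import Groth.Agent.Lib.Helper11.NumType
import Groth.Agent.Lib.Helper11.NumTypeGen

set_option autoImplicit false
open Finset
open Models Models.NumericalType

namespace Groth.Agent.S7362

/-- Genus one classification: case n = 2: let T be a minimal numerical type of genus 1 on two indices.
Then for some ordering i, j of the indices and some integers m, w, either m_i = m_j = m, a_ii = a_jj
= -2w, a_ij = 2w, w_i = w_j = w, g_i = g_j = 0; or m_i = 2m, m_j = m, a_ii = -2w, a_ij = 4w, a_jj =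
-8w, w_i = w, w_j = 4w, g_i = g_j = 0. Only the classification direction is stated. -/
theorem result (T : Models.NumericalType 2) (hmin : T.IsMinimal) (hg : T.genus = 1) :
    ∃ (i j : Fin 2) (m w : ℤ), i ≠ j ∧ T.g i = 0 ∧ T.g j = 0 ∧
      ((T.m i = m ∧ T.m j = m ∧ T.a i i = -2 * w ∧ T.a i j = 2 * w ∧ T.a j j = -2 * w ∧ T.w i = w ∧ T.w j = w) ∨
        (T.m i = 2 * m ∧ T.m j = m ∧ T.a i i = -2 * w ∧ T.a i j = 4 * w ∧ T.a j j = -8 * w ∧ T.w i = w ∧ T.w j = 4 * w)) := by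
  have h2 := Lib.Helper11.NumType.all_minusTwo T (le_refl 2) hmin hg
  have r0 := Lib.Helper11.NumType.sum_c_mul_m T 0
  have r1 := Lib.Helper11.NumType.sum_c_mul_m T 1
  rw [Fin.sum_univ_two, Lib.Helper11.NumType.c_diag_of_isMinusTwo T (h2 0)] at r0
  rw [Fin.sum_univ_two, Lib.Helper11.NumType.c_diag_of_isMinusTwo T (h2 1)] at r1
  have hm0 := T.m_pos 0
  have hm1 := T.m_pos 1
  have n01 := Lib.Helper11.NumType.c_nonneg T (show (0 : Fin 2) ≠ 1 by decide)
  have n10 := Lib.Helper11.NumType.c_nonneg T (show (1 : Fin 2) ≠ 0 by decide)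
  have hws := Lib.Helper11.NumType.w_mul_c_symm T 0 1
  have ha01 := Lib.Helper11.NumType.a_eq T 0 1
  have ha10 := Lib.Helper11.NumType.a_eq T 1 0
  have ha00 := (h2 0).2
  have ha11 := (h2 1).2
  have hg0 := (h2 0).1
  have hg1 := (h2 1).1
  have l01 : 1 ≤ Lib.Helper11.NumType.c T 0 1 := by
    by_contra h
    have h0 : Lib.Helper11.NumType.c T 0 1 = 0 := by omega
    rw [h0] at r0
    linarith
  have l10 : 1 ≤ Lib.Helper11.NumType.c T 1 0 := by
    by_contra h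
    have h0 : Lib.Helper11.NumType.c T 1 0 = 0 := by omega
    rw [h0] at r1
    linarith
  have p01 : T.m 1 ≤ Lib.Helper11.NumType.c T 0 1 * T.m 1 := le_mul_of_one_le_left hm1.le l01
  have p10 : T.m 0 ≤ Lib.Helper11.NumType.c T 1 0 * T.m 0 := le_mul_of_one_le_left hm0.le l10
  have b01 : Lib.Helper11.NumType.c T 0 1 ≤ 4 := by
    by_contra hcon
    have h5 : 5 ≤ Lib.Helper11.NumType.c T 0 1 := by omega
    have p1 : 5 * T.m 1 ≤ Lib.Helper11.NumType.c T 0 1 * T.m 1 := mul_le_mul_of_nonneg_right h5 hm1.le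
    linarith
  have b10 : Lib.Helper11.NumType.c T 1 0 ≤ 4 := by
    by_contra hcon
    have h5 : 5 ≤ Lib.Helper11.NumType.c T 1 0 := by omega
    have p1 : 5 * T.m 0 ≤ Lib.Helper11.NumType.c T 1 0 * T.m 0 := mul_le_mul_of_nonneg_right h5 hm0.le
    linarith
  obtain h | h | h | h : Lib.Helper11.NumType.c T 0 1 = 1 ∨ Lib.Helper11.NumType.c T 0 1 = 2 ∨
      Lib.Helper11.NumType.c T 0 1 = 3 ∨ Lib.Helper11.NumType.c T 0 1 = 4 := by omega
  all_goals
    obtain h' | h' | h' | h' : Lib.Helper11.NumType.c T 1 0 = 1 ∨ Lib.Helper11.NumType.c T 1 0 = 2 ∨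
      Lib.Helper11.NumType.c T 1 0 = 3 ∨ Lib.Helper11.NumType.c T 1 0 = 4 := by omega
  all_goals
    rw [h] at r0 ha01
    rw [h'] at r1 ha10
    rw [h, h'] at hws
    first
      | (exfalso; linarith)
      | (refine ⟨0, 1, T.m 0, T.w 0, by decide, hg0, hg1, Or.inl ⟨?_, ?_, ?_, ?_, ?_, ?_, ?_⟩⟩ <;> linarith)
      | (refine ⟨0, 1, T.m 1, T.w 0, by decide, hg0, hg1, Or.inr ⟨?_, ?_, ?_, ?_, ?_, ?_, ?_⟩⟩ <;> linarith)
      | (refine ⟨1, 0, T.m 0, T.w 1, by decide, hg1, hg0, Or.inr ⟨?_, ?_, ?_, ?_, ?_, ?_, ?_⟩⟩ <;> linarith)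

end Groth.Agent.S7362
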