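import Groth.Statements.S7363
import Mathlib
import Groth.Agent.Lib.Helper11.NumType
import Groth.Agent.Lib.Helper11.NumTypeGen

set_option autoImplicit false
open Finset
open Models Models.NumericalType

namespace Groth.Agent.S7363

/-- Genus one classification: case n = 3: let T be a minimal numerical type of genus 1 on three indices.
Then all g = 0 and, for some ordering i, j, k of the indices and some integers m, w, the data (m; a;
w) is one of: (m,m,m; a_ii = a_jj = a_kk = -2w, a_ij = a_ik = a_jk = w; w,w,w); (m,2m,m; a_ii = -2w,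
a_ij = w, a_ik = 0, a_jj = -2w, a_jk = 3w, a_kk = -6w; w,w,3w); (m,2m,3m; a_ii = -6w, a_ij = 3w,
a_ik = 0, a_jj = -6w, a_jk = 3w, a_kk = -2w; 3w,3w,w); (2m,2m,m; a_ii = -2w, a_ij = 2w, a_ik = 0,
a_jj = -4w, a_jk = 4w, a_kk = -8w; w,2w,4w); (m,m,m; a_ii = -2w, a_ij = 2w, a_ik = 0, a_jj = -4w,
a_jk = 2w, a_kk = -2w; w,2w,w); (m,2m,m; a_ii = -4w, a_ij = 2w, a_ik = 0, a_jj = -2w, a_jk = 2w,
a_kk = -4w; 2w,w,2w). Only the classification direction is stated. -/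
theorem result (T : Models.NumericalType 3) (hmin : T.IsMinimal) (hg : T.genus = 1) :
    ∃ (i j k : Fin 3) (m w : ℤ), i ≠ j ∧ j ≠ k ∧ i ≠ k ∧ T.g i = 0 ∧ T.g j = 0 ∧ T.g k = 0 ∧
      ((T.m i = m ∧ T.m j = m ∧ T.m k = m ∧ T.a i i = -2 * w ∧ T.a j j = -2 * w ∧ T.a k k = -2 * w ∧
          T.a i j = w ∧ T.a i k = w ∧ T.a j k = w ∧ T.w i = w ∧ T.w j = w ∧ T.w k = w) ∨
        (T.m i = m ∧ T.m j = 2 * m ∧ T.m k = m ∧ T.a i i = -2 * w ∧ T.a i j = w ∧ T.a i k = 0 ∧ T.a j j = -2 * w ∧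
          T.a j k = 3 * w ∧ T.a k k = -6 * w ∧ T.w i = w ∧ T.w j = w ∧ T.w k = 3 * w) ∨
        (T.m i = m ∧ T.m j = 2 * m ∧ T.m k = 3 * m ∧ T.a i i = -6 * w ∧ T.a i j = 3 * w ∧ T.a i k = 0 ∧ T.a j j = -6 * w ∧
          T.a j k = 3 * w ∧ T.a k k = -2 * w ∧ T.w i = 3 * w ∧ T.w j = 3 * w ∧ T.w k = w) ∨
        (T.m i = 2 * m ∧ T.m j = 2 * m ∧ T.m k = m ∧ T.a i i = -2 * w ∧ T.a i j = 2 * w ∧ T.a i k = 0 ∧ T.a j j = -4 * w ∧
          T.a j k = 4 * w ∧ T.a k k = -8 * w ∧ T.w i = w ∧ T.w j = 2 * w ∧ T.w k = 4 * w) ∨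
        (T.m i = m ∧ T.m j = m ∧ T.m k = m ∧ T.a i i = -2 * w ∧ T.a i j = 2 * w ∧ T.a i k = 0 ∧ T.a j j = -4 * w ∧
          T.a j k = 2 * w ∧ T.a k k = -2 * w ∧ T.w i = w ∧ T.w j = 2 * w ∧ T.w k = w) ∨
        (T.m i = m ∧ T.m j = 2 * m ∧ T.m k = m ∧ T.a i i = -4 * w ∧ T.a i j = 2 * w ∧ T.a i k = 0 ∧ T.a j j = -2 * w ∧
          T.a j k = 2 * w ∧ T.a k k = -4 * w ∧ T.w i = 2 * w ∧ T.w j = w ∧ T.w k = 2 * w)) := by
  have h2 := Lib.Helper11.NumType.all_minusTwo T (by norm_num) hmin hg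
  have r0 := Lib.Helper11.NumType.sum_c_mul_m T 0
  rw [Fin.sum_univ_three, Lib.Helper11.NumType.c_diag_of_isMinusTwo T (h2 0)] at r0
  have hm0 := T.m_pos 0
  have d0 := (h2 0).2
  have g0 := (h2 0).1
  have r1 := Lib.Helper11.NumType.sum_c_mul_m T 1
  rw [Fin.sum_univ_three, Lib.Helper11.NumType.c_diag_of_isMinusTwo T (h2 1)] at r1
  have hm1 := T.m_pos 1
  have d1 := (h2 1).2
  have g1 := (h2 1).1
  have r2 := Lib.Helper11.NumType.sum_c_mul_m T 2
  rw [Fin.sum_univ_three, Lib.Helper11.NumType.c_diag_of_isMinusTwo T (h2 2)] at r2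
  have hm2 := T.m_pos 2
  have d2 := (h2 2).2
  have g2 := (h2 2).1
  have ne01 : (0 : Fin 3) ≠ 1 := by decide
  have n01 := Lib.Helper11.NumType.c_nonneg T ne01
  have pr01 : 0 ≤ Lib.Helper11.NumType.c T 0 1 * T.m 1 := mul_nonneg n01 hm1.le
  have a01 := Lib.Helper11.NumType.a_eq T 0 1
  have ne02 : (0 : Fin 3) ≠ 2 := by decide
  have n02 := Lib.Helper11.NumType.c_nonneg T ne02
  have pr02 : 0 ≤ Lib.Helper11.NumType.c T 0 2 * T.m 2 := mul_nonneg n02 hm2.le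
  have a02 := Lib.Helper11.NumType.a_eq T 0 2
  have ne10 : (1 : Fin 3) ≠ 0 := by decide
  have n10 := Lib.Helper11.NumType.c_nonneg T ne10
  have pr10 : 0 ≤ Lib.Helper11.NumType.c T 1 0 * T.m 0 := mul_nonneg n10 hm0.le
  have a10 := Lib.Helper11.NumType.a_eq T 1 0
  have ne12 : (1 : Fin 3) ≠ 2 := by decide
  have n12 := Lib.Helper11.NumType.c_nonneg T ne12
  have pr12 : 0 ≤ Lib.Helper11.NumType.c T 1 2 * T.m 2 := mul_nonneg n12 hm2.le
  have a12 := Lib.Helper11.NumType.a_eq T 1 2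
  have ne20 : (2 : Fin 3) ≠ 0 := by decide
  have n20 := Lib.Helper11.NumType.c_nonneg T ne20
  have pr20 : 0 ≤ Lib.Helper11.NumType.c T 2 0 * T.m 0 := mul_nonneg n20 hm0.le
  have a20 := Lib.Helper11.NumType.a_eq T 2 0
  have ne21 : (2 : Fin 3) ≠ 1 := by decide
  have n21 := Lib.Helper11.NumType.c_nonneg T ne21
  have pr21 : 0 ≤ Lib.Helper11.NumType.c T 2 1 * T.m 1 := mul_nonneg n21 hm1.le
  have a21 := Lib.Helper11.NumType.a_eq T 2 1
  have ws01 := Lib.Helper11.NumType.w_mul_c_symm T 0 1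
  have ws02 := Lib.Helper11.NumType.w_mul_c_symm T 0 2
  have ws12 := Lib.Helper11.NumType.w_mul_c_symm T 1 2
  have e01 : (Lib.Helper11.NumType.c T 0 1 = 0 ∧ Lib.Helper11.NumType.c T 1 0 = 0) ∨ (1 ≤ Lib.Helper11.NumType.c T 0 1 ∧ 1 ≤ Lib.Helper11.NumType.c T 1 0) := by
    by_cases h : Lib.Helper11.NumType.c T 0 1 = 0
    · exact Or.inl ⟨h, Lib.Helper11.NumType.c_eq_zero_symm T h⟩
    · have h1 : 1 ≤ Lib.Helper11.NumType.c T 0 1 := by omega
      exact Or.inr ⟨h1, Lib.Helper11.NumType.c_pos_symm T ne01 h1⟩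
  have e02 : (Lib.Helper11.NumType.c T 0 2 = 0 ∧ Lib.Helper11.NumType.c T 2 0 = 0) ∨ (1 ≤ Lib.Helper11.NumType.c T 0 2 ∧ 1 ≤ Lib.Helper11.NumType.c T 2 0) := by
    by_cases h : Lib.Helper11.NumType.c T 0 2 = 0
    · exact Or.inl ⟨h, Lib.Helper11.NumType.c_eq_zero_symm T h⟩
    · have h1 : 1 ≤ Lib.Helper11.NumType.c T 0 2 := by omega
      exact Or.inr ⟨h1, Lib.Helper11.NumType.c_pos_symm T ne02 h1⟩
  have e12 : (Lib.Helper11.NumType.c T 1 2 = 0 ∧ Lib.Helper11.NumType.c T 2 1 = 0) ∨ (1 ≤ Lib.Helper11.NumType.c T 1 2 ∧ 1 ≤ Lib.Helper11.NumType.c T 2 1) := by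
    by_cases h : Lib.Helper11.NumType.c T 1 2 = 0
    · exact Or.inl ⟨h, Lib.Helper11.NumType.c_eq_zero_symm T h⟩
    · have h1 : 1 ≤ Lib.Helper11.NumType.c T 1 2 := by omega
      exact Or.inr ⟨h1, Lib.Helper11.NumType.c_pos_symm T ne12 h1⟩
  rcases e01 with ⟨z01, z10⟩ | ⟨l01, l10⟩
  · rcases e02 with ⟨z02, z20⟩ | ⟨l02, l20⟩
    · rcases e12 with ⟨z12, z21⟩ | ⟨l12, l21⟩
      · have q01 : Lib.Helper11.NumType.c T 0 1 * T.m 1 = 0 := by rw [z01, zero_mul]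
        have q10 : Lib.Helper11.NumType.c T 1 0 * T.m 0 = 0 := by rw [z10, zero_mul]
        have q02 : Lib.Helper11.NumType.c T 0 2 * T.m 2 = 0 := by rw [z02, zero_mul]
        have q20 : Lib.Helper11.NumType.c T 2 0 * T.m 0 = 0 := by rw [z20, zero_mul]
        have q12 : Lib.Helper11.NumType.c T 1 2 * T.m 2 = 0 := by rw [z12, zero_mul]
        have q21 : Lib.Helper11.NumType.c T 2 1 * T.m 1 = 0 := by rw [z21, zero_mul]
        exfalso
        linarith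
      · have q01 : Lib.Helper11.NumType.c T 0 1 * T.m 1 = 0 := by rw [z01, zero_mul]
        have q10 : Lib.Helper11.NumType.c T 1 0 * T.m 0 = 0 := by rw [z10, zero_mul]
        have q02 : Lib.Helper11.NumType.c T 0 2 * T.m 2 = 0 := by rw [z02, zero_mul]
        have q20 : Lib.Helper11.NumType.c T 2 0 * T.m 0 = 0 := by rw [z20, zero_mul]
        have e12' : T.m 2 ≤ Lib.Helper11.NumType.c T 1 2 * T.m 2 := le_mul_of_one_le_left hm2.le l12
        have e21' : T.m 1 ≤ Lib.Helper11.NumType.c T 2 1 * T.m 1 := le_mul_of_one_le_left hm1.le l21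
        exfalso
        linarith
    · rcases e12 with ⟨z12, z21⟩ | ⟨l12, l21⟩
      · have q01 : Lib.Helper11.NumType.c T 0 1 * T.m 1 = 0 := by rw [z01, zero_mul]
        have q10 : Lib.Helper11.NumType.c T 1 0 * T.m 0 = 0 := by rw [z10, zero_mul]
        have q12 : Lib.Helper11.NumType.c T 1 2 * T.m 2 = 0 := by rw [z12, zero_mul]
        have q21 : Lib.Helper11.NumType.c T 2 1 * T.m 1 = 0 := by rw [z21, zero_mul]
        have e02' : T.m 2 ≤ Lib.Helper11.NumType.c T 0 2 * T.m 2 := le_mul_of_one_le_left hm2.le l02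
        have e20' : T.m 0 ≤ Lib.Helper11.NumType.c T 2 0 * T.m 0 := le_mul_of_one_le_left hm0.le l20
        exfalso
        linarith
      · have q01 : Lib.Helper11.NumType.c T 0 1 * T.m 1 = 0 := by rw [z01, zero_mul]
        have q10 : Lib.Helper11.NumType.c T 1 0 * T.m 0 = 0 := by rw [z10, zero_mul]
        have e02' : T.m 2 ≤ Lib.Helper11.NumType.c T 0 2 * T.m 2 := le_mul_of_one_le_left hm2.le l02
        have e20' : T.m 0 ≤ Lib.Helper11.NumType.c T 2 0 * T.m 0 := le_mul_of_one_le_left hm0.le l20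
        have e12' : T.m 2 ≤ Lib.Helper11.NumType.c T 1 2 * T.m 2 := le_mul_of_one_le_left hm2.le l12
        have e21' : T.m 1 ≤ Lib.Helper11.NumType.c T 2 1 * T.m 1 := le_mul_of_one_le_left hm1.le l21
        have b02 : Lib.Helper11.NumType.c T 0 2 ≤ 3 := by
          by_contra hne
          have h4 : 4 ≤ Lib.Helper11.NumType.c T 0 2 := by omega
          have hp : 4 * T.m 2 ≤ Lib.Helper11.NumType.c T 0 2 * T.m 2 := mul_le_mul_of_nonneg_right h4 hm2.le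
          linarith
        have b20 : Lib.Helper11.NumType.c T 2 0 ≤ 3 := by
          by_contra hne
          have h4 : 4 ≤ Lib.Helper11.NumType.c T 2 0 := by omega
          have hp : 4 * T.m 0 ≤ Lib.Helper11.NumType.c T 2 0 * T.m 0 := mul_le_mul_of_nonneg_right h4 hm0.le
          linarith
        have b21 : Lib.Helper11.NumType.c T 2 1 ≤ 3 := by
          by_contra hne
          have h4 : 4 ≤ Lib.Helper11.NumType.c T 2 1 := by omega
          have hp : 4 * T.m 1 ≤ Lib.Helper11.NumType.c T 2 1 * T.m 1 := mul_le_mul_of_nonneg_right h4 hm1.le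
          linarith
        have b12 : Lib.Helper11.NumType.c T 1 2 ≤ 3 := by
          by_contra hne
          have h4 : 4 ≤ Lib.Helper11.NumType.c T 1 2 := by omega
          have hp : 4 * T.m 2 ≤ Lib.Helper11.NumType.c T 1 2 * T.m 2 := mul_le_mul_of_nonneg_right h4 hm2.le
          linarith
        obtain hA | hA | hA : Lib.Helper11.NumType.c T 0 2 = 1 ∨ Lib.Helper11.NumType.c T 0 2 = 2 ∨ Lib.Helper11.NumType.c T 0 2 = 3 := by omega
        all_goals obtain hB | hB | hB : Lib.Helper11.NumType.c T 2 0 = 1 ∨ Lib.Helper11.NumType.c T 2 0 = 2 ∨ Lib.Helper11.NumType.c T 2 0 = 3 := by omega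
        all_goals obtain hC | hC | hC : Lib.Helper11.NumType.c T 2 1 = 1 ∨ Lib.Helper11.NumType.c T 2 1 = 2 ∨ Lib.Helper11.NumType.c T 2 1 = 3 := by omega
        all_goals obtain hD | hD | hD : Lib.Helper11.NumType.c T 1 2 = 1 ∨ Lib.Helper11.NumType.c T 1 2 = 2 ∨ Lib.Helper11.NumType.c T 1 2 = 3 := by omega
        all_goals
          simp only [hA, hB, hC, hD, z01, z10, one_mul, mul_one, zero_mul, mul_zero, add_zero, zero_add] at r0 r1 r2 ws01 ws02 ws12 a01 a10 a02 a20 a12 a21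
          first
            | (exfalso; linarith)
            | (refine ⟨0, 2, 1, T.m 0, T.w 0, by decide, by decide, by decide, g0, g2, g1, Or.inr (Or.inl ⟨?_, ?_, ?_, ?_, ?_, ?_, ?_, ?_, ?_, ?_, ?_, ?_⟩)⟩ <;> linarith)
            | (refine ⟨0, 2, 1, T.m 0, T.w 1, by decide, by decide, by decide, g0, g2, g1, Or.inr (Or.inr (Or.inl ⟨?_, ?_, ?_, ?_, ?_, ?_, ?_, ?_, ?_, ?_, ?_, ?_⟩))⟩ <;> linarith)
            | (refine ⟨0, 2, 1, T.m 1, T.w 0, by decide, by decide, by decide, g0, g2, g1, Or.inr (Or.inr (Or.inr (Or.inl ⟨?_, ?_, ?_, ?_, ?_, ?_, ?_, ?_, ?_, ?_, ?_, ?_⟩)))⟩ <;> linarith)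
            | (refine ⟨0, 2, 1, T.m 0, T.w 0, by decide, by decide, by decide, g0, g2, g1, Or.inr (Or.inr (Or.inr (Or.inr (Or.inl ⟨?_, ?_, ?_, ?_, ?_, ?_, ?_, ?_, ?_, ?_, ?_, ?_⟩))))⟩ <;> linarith)
            | (refine ⟨0, 2, 1, T.m 0, T.w 2, by decide, by decide, by decide, g0, g2, g1, Or.inr (Or.inr (Or.inr (Or.inr (Or.inr (⟨?_, ?_, ?_, ?_, ?_, ?_, ?_, ?_, ?_, ?_, ?_, ?_⟩)))))⟩ <;> linarith)
            | (refine ⟨1, 2, 0, T.m 1, T.w 1, by decide, by decide, by decide, g1, g2, g0, Or.inr (Or.inl ⟨?_, ?_, ?_, ?_, ?_, ?_, ?_, ?_, ?_, ?_, ?_, ?_⟩)⟩ <;> linarith)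
            | (refine ⟨1, 2, 0, T.m 1, T.w 0, by decide, by decide, by decide, g1, g2, g0, Or.inr (Or.inr (Or.inl ⟨?_, ?_, ?_, ?_, ?_, ?_, ?_, ?_, ?_, ?_, ?_, ?_⟩))⟩ <;> linarith)
            | (refine ⟨1, 2, 0, T.m 0, T.w 1, by decide, by decide, by decide, g1, g2, g0, Or.inr (Or.inr (Or.inr (Or.inl ⟨?_, ?_, ?_, ?_, ?_, ?_, ?_, ?_, ?_, ?_, ?_, ?_⟩)))⟩ <;> linarith)
            | (refine ⟨1, 2, 0, T.m 1, T.w 1, by decide, by decide, by decide, g1, g2, g0, Or.inr (Or.inr (Or.inr (Or.inr (Or.inl ⟨?_, ?_, ?_, ?_, ?_, ?_, ?_, ?_, ?_, ?_, ?_, ?_⟩))))⟩ <;> linarith)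
            | (refine ⟨1, 2, 0, T.m 1, T.w 2, by decide, by decide, by decide, g1, g2, g0, Or.inr (Or.inr (Or.inr (Or.inr (Or.inr (⟨?_, ?_, ?_, ?_, ?_, ?_, ?_, ?_, ?_, ?_, ?_, ?_⟩)))))⟩ <;> linarith)
  · rcases e02 with ⟨z02, z20⟩ | ⟨l02, l20⟩
    · rcases e12 with ⟨z12, z21⟩ | ⟨l12, l21⟩
      · have q02 : Lib.Helper11.NumType.c T 0 2 * T.m 2 = 0 := by rw [z02, zero_mul]
        have q20 : Lib.Helper11.NumType.c T 2 0 * T.m 0 = 0 := by rw [z20, zero_mul]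
        have q12 : Lib.Helper11.NumType.c T 1 2 * T.m 2 = 0 := by rw [z12, zero_mul]
        have q21 : Lib.Helper11.NumType.c T 2 1 * T.m 1 = 0 := by rw [z21, zero_mul]
        have e01' : T.m 1 ≤ Lib.Helper11.NumType.c T 0 1 * T.m 1 := le_mul_of_one_le_left hm1.le l01
        have e10' : T.m 0 ≤ Lib.Helper11.NumType.c T 1 0 * T.m 0 := le_mul_of_one_le_left hm0.le l10
        exfalso
        linarith
      · have q02 : Lib.Helper11.NumType.c T 0 2 * T.m 2 = 0 := by rw [z02, zero_mul]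
        have q20 : Lib.Helper11.NumType.c T 2 0 * T.m 0 = 0 := by rw [z20, zero_mul]
        have e01' : T.m 1 ≤ Lib.Helper11.NumType.c T 0 1 * T.m 1 := le_mul_of_one_le_left hm1.le l01
        have e10' : T.m 0 ≤ Lib.Helper11.NumType.c T 1 0 * T.m 0 := le_mul_of_one_le_left hm0.le l10
        have e12' : T.m 2 ≤ Lib.Helper11.NumType.c T 1 2 * T.m 2 := le_mul_of_one_le_left hm2.le l12
        have e21' : T.m 1 ≤ Lib.Helper11.NumType.c T 2 1 * T.m 1 := le_mul_of_one_le_left hm1.le l21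
        have b01 : Lib.Helper11.NumType.c T 0 1 ≤ 3 := by
          by_contra hne
          have h4 : 4 ≤ Lib.Helper11.NumType.c T 0 1 := by omega
          have hp : 4 * T.m 1 ≤ Lib.Helper11.NumType.c T 0 1 * T.m 1 := mul_le_mul_of_nonneg_right h4 hm1.le
          linarith
        have b10 : Lib.Helper11.NumType.c T 1 0 ≤ 3 := by
          by_contra hne
          have h4 : 4 ≤ Lib.Helper11.NumType.c T 1 0 := by omega
          have hp : 4 * T.m 0 ≤ Lib.Helper11.NumType.c T 1 0 * T.m 0 := mul_le_mul_of_nonneg_right h4 hm0.le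
          linarith
        have b12 : Lib.Helper11.NumType.c T 1 2 ≤ 3 := by
          by_contra hne
          have h4 : 4 ≤ Lib.Helper11.NumType.c T 1 2 := by omega
          have hp : 4 * T.m 2 ≤ Lib.Helper11.NumType.c T 1 2 * T.m 2 := mul_le_mul_of_nonneg_right h4 hm2.le
          linarith
        have b21 : Lib.Helper11.NumType.c T 2 1 ≤ 3 := by
          by_contra hne
          have h4 : 4 ≤ Lib.Helper11.NumType.c T 2 1 := by omega
          have hp : 4 * T.m 1 ≤ Lib.Helper11.NumType.c T 2 1 * T.m 1 := mul_le_mul_of_nonneg_right h4 hm1.le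
          linarith
        obtain hA | hA | hA : Lib.Helper11.NumType.c T 0 1 = 1 ∨ Lib.Helper11.NumType.c T 0 1 = 2 ∨ Lib.Helper11.NumType.c T 0 1 = 3 := by omega
        all_goals obtain hB | hB | hB : Lib.Helper11.NumType.c T 1 0 = 1 ∨ Lib.Helper11.NumType.c T 1 0 = 2 ∨ Lib.Helper11.NumType.c T 1 0 = 3 := by omega
        all_goals obtain hC | hC | hC : Lib.Helper11.NumType.c T 1 2 = 1 ∨ Lib.Helper11.NumType.c T 1 2 = 2 ∨ Lib.Helper11.NumType.c T 1 2 = 3 := by omega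
        all_goals obtain hD | hD | hD : Lib.Helper11.NumType.c T 2 1 = 1 ∨ Lib.Helper11.NumType.c T 2 1 = 2 ∨ Lib.Helper11.NumType.c T 2 1 = 3 := by omega
        all_goals
          simp only [hA, hB, hC, hD, z02, z20, one_mul, mul_one, zero_mul, mul_zero, add_zero, zero_add] at r0 r1 r2 ws01 ws02 ws12 a01 a10 a02 a20 a12 a21
          first
            | (exfalso; linarith)
            | (refine ⟨0, 1, 2, T.m 0, T.w 0, by decide, by decide, by decide, g0, g1, g2, Or.inr (Or.inl ⟨?_, ?_, ?_, ?_, ?_, ?_, ?_, ?_, ?_, ?_, ?_, ?_⟩)⟩ <;> linarith)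
            | (refine ⟨0, 1, 2, T.m 0, T.w 2, by decide, by decide, by decide, g0, g1, g2, Or.inr (Or.inr (Or.inl ⟨?_, ?_, ?_, ?_, ?_, ?_, ?_, ?_, ?_, ?_, ?_, ?_⟩))⟩ <;> linarith)
            | (refine ⟨0, 1, 2, T.m 2, T.w 0, by decide, by decide, by decide, g0, g1, g2, Or.inr (Or.inr (Or.inr (Or.inl ⟨?_, ?_, ?_, ?_, ?_, ?_, ?_, ?_, ?_, ?_, ?_, ?_⟩)))⟩ <;> linarith)
            | (refine ⟨0, 1, 2, T.m 0, T.w 0, by decide, by decide, by decide, g0, g1, g2, Or.inr (Or.inr (Or.inr (Or.inr (Or.inl ⟨?_, ?_, ?_, ?_, ?_, ?_, ?_, ?_, ?_, ?_, ?_, ?_⟩))))⟩ <;> linarith)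
            | (refine ⟨0, 1, 2, T.m 0, T.w 1, by decide, by decide, by decide, g0, g1, g2, Or.inr (Or.inr (Or.inr (Or.inr (Or.inr (⟨?_, ?_, ?_, ?_, ?_, ?_, ?_, ?_, ?_, ?_, ?_, ?_⟩)))))⟩ <;> linarith)
            | (refine ⟨2, 1, 0, T.m 2, T.w 2, by decide, by decide, by decide, g2, g1, g0, Or.inr (Or.inl ⟨?_, ?_, ?_, ?_, ?_, ?_, ?_, ?_, ?_, ?_, ?_, ?_⟩)⟩ <;> linarith)
            | (refine ⟨2, 1, 0, T.m 2, T.w 0, by decide, by decide, by decide, g2, g1, g0, Or.inr (Or.inr (Or.inl ⟨?_, ?_, ?_, ?_, ?_, ?_, ?_, ?_, ?_, ?_, ?_, ?_⟩))⟩ <;> linarith)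
            | (refine ⟨2, 1, 0, T.m 0, T.w 2, by decide, by decide, by decide, g2, g1, g0, Or.inr (Or.inr (Or.inr (Or.inl ⟨?_, ?_, ?_, ?_, ?_, ?_, ?_, ?_, ?_, ?_, ?_, ?_⟩)))⟩ <;> linarith)
            | (refine ⟨2, 1, 0, T.m 2, T.w 2, by decide, by decide, by decide, g2, g1, g0, Or.inr (Or.inr (Or.inr (Or.inr (Or.inl ⟨?_, ?_, ?_, ?_, ?_, ?_, ?_, ?_, ?_, ?_, ?_, ?_⟩))))⟩ <;> linarith)
            | (refine ⟨2, 1, 0, T.m 2, T.w 1, by decide, by decide, by decide, g2, g1, g0, Or.inr (Or.inr (Or.inr (Or.inr (Or.inr (⟨?_, ?_, ?_, ?_, ?_, ?_, ?_, ?_, ?_, ?_, ?_, ?_⟩)))))⟩ <;> linarith)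
    · rcases e12 with ⟨z12, z21⟩ | ⟨l12, l21⟩
      · have q12 : Lib.Helper11.NumType.c T 1 2 * T.m 2 = 0 := by rw [z12, zero_mul]
        have q21 : Lib.Helper11.NumType.c T 2 1 * T.m 1 = 0 := by rw [z21, zero_mul]
        have e01' : T.m 1 ≤ Lib.Helper11.NumType.c T 0 1 * T.m 1 := le_mul_of_one_le_left hm1.le l01
        have e10' : T.m 0 ≤ Lib.Helper11.NumType.c T 1 0 * T.m 0 := le_mul_of_one_le_left hm0.le l10
        have e02' : T.m 2 ≤ Lib.Helper11.NumType.c T 0 2 * T.m 2 := le_mul_of_one_le_left hm2.le l02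
        have e20' : T.m 0 ≤ Lib.Helper11.NumType.c T 2 0 * T.m 0 := le_mul_of_one_le_left hm0.le l20
        have b10 : Lib.Helper11.NumType.c T 1 0 ≤ 3 := by
          by_contra hne
          have h4 : 4 ≤ Lib.Helper11.NumType.c T 1 0 := by omega
          have hp : 4 * T.m 0 ≤ Lib.Helper11.NumType.c T 1 0 * T.m 0 := mul_le_mul_of_nonneg_right h4 hm0.le
          linarith
        have b01 : Lib.Helper11.NumType.c T 0 1 ≤ 3 := by
          by_contra hne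
          have h4 : 4 ≤ Lib.Helper11.NumType.c T 0 1 := by omega
          have hp : 4 * T.m 1 ≤ Lib.Helper11.NumType.c T 0 1 * T.m 1 := mul_le_mul_of_nonneg_right h4 hm1.le
          linarith
        have b02 : Lib.Helper11.NumType.c T 0 2 ≤ 3 := by
          by_contra hne
          have h4 : 4 ≤ Lib.Helper11.NumType.c T 0 2 := by omega
          have hp : 4 * T.m 2 ≤ Lib.Helper11.NumType.c T 0 2 * T.m 2 := mul_le_mul_of_nonneg_right h4 hm2.le
          linarith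
        have b20 : Lib.Helper11.NumType.c T 2 0 ≤ 3 := by
          by_contra hne
          have h4 : 4 ≤ Lib.Helper11.NumType.c T 2 0 := by omega
          have hp : 4 * T.m 0 ≤ Lib.Helper11.NumType.c T 2 0 * T.m 0 := mul_le_mul_of_nonneg_right h4 hm0.le
          linarith
        obtain hA | hA | hA : Lib.Helper11.NumType.c T 1 0 = 1 ∨ Lib.Helper11.NumType.c T 1 0 = 2 ∨ Lib.Helper11.NumType.c T 1 0 = 3 := by omega
        all_goals obtain hB | hB | hB : Lib.Helper11.NumType.c T 0 1 = 1 ∨ Lib.Helper11.NumType.c T 0 1 = 2 ∨ Lib.Helper11.NumType.c T 0 1 = 3 := by omega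
        all_goals obtain hC | hC | hC : Lib.Helper11.NumType.c T 0 2 = 1 ∨ Lib.Helper11.NumType.c T 0 2 = 2 ∨ Lib.Helper11.NumType.c T 0 2 = 3 := by omega
        all_goals obtain hD | hD | hD : Lib.Helper11.NumType.c T 2 0 = 1 ∨ Lib.Helper11.NumType.c T 2 0 = 2 ∨ Lib.Helper11.NumType.c T 2 0 = 3 := by omega
        all_goals
          simp only [hA, hB, hC, hD, z12, z21, one_mul, mul_one, zero_mul, mul_zero, add_zero, zero_add] at r0 r1 r2 ws01 ws02 ws12 a01 a10 a02 a20 a12 a21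
          first
            | (exfalso; linarith)
            | (refine ⟨1, 0, 2, T.m 1, T.w 1, by decide, by decide, by decide, g1, g0, g2, Or.inr (Or.inl ⟨?_, ?_, ?_, ?_, ?_, ?_, ?_, ?_, ?_, ?_, ?_, ?_⟩)⟩ <;> linarith)
            | (refine ⟨1, 0, 2, T.m 1, T.w 2, by decide, by decide, by decide, g1, g0, g2, Or.inr (Or.inr (Or.inl ⟨?_, ?_, ?_, ?_, ?_, ?_, ?_, ?_, ?_, ?_, ?_, ?_⟩))⟩ <;> linarith)
            | (refine ⟨1, 0, 2, T.m 2, T.w 1, by decide, by decide, by decide, g1, g0, g2, Or.inr (Or.inr (Or.inr (Or.inl ⟨?_, ?_, ?_, ?_, ?_, ?_, ?_, ?_, ?_, ?_, ?_, ?_⟩)))⟩ <;> linarith)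
            | (refine ⟨1, 0, 2, T.m 1, T.w 1, by decide, by decide, by decide, g1, g0, g2, Or.inr (Or.inr (Or.inr (Or.inr (Or.inl ⟨?_, ?_, ?_, ?_, ?_, ?_, ?_, ?_, ?_, ?_, ?_, ?_⟩))))⟩ <;> linarith)
            | (refine ⟨1, 0, 2, T.m 1, T.w 0, by decide, by decide, by decide, g1, g0, g2, Or.inr (Or.inr (Or.inr (Or.inr (Or.inr (⟨?_, ?_, ?_, ?_, ?_, ?_, ?_, ?_, ?_, ?_, ?_, ?_⟩)))))⟩ <;> linarith)
            | (refine ⟨2, 0, 1, T.m 2, T.w 2, by decide, by decide, by decide, g2, g0, g1, Or.inr (Or.inl ⟨?_, ?_, ?_, ?_, ?_, ?_, ?_, ?_, ?_, ?_, ?_, ?_⟩)⟩ <;> linarith)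
            | (refine ⟨2, 0, 1, T.m 2, T.w 1, by decide, by decide, by decide, g2, g0, g1, Or.inr (Or.inr (Or.inl ⟨?_, ?_, ?_, ?_, ?_, ?_, ?_, ?_, ?_, ?_, ?_, ?_⟩))⟩ <;> linarith)
            | (refine ⟨2, 0, 1, T.m 1, T.w 2, by decide, by decide, by decide, g2, g0, g1, Or.inr (Or.inr (Or.inr (Or.inl ⟨?_, ?_, ?_, ?_, ?_, ?_, ?_, ?_, ?_, ?_, ?_, ?_⟩)))⟩ <;> linarith)
            | (refine ⟨2, 0, 1, T.m 2, T.w 2, by decide, by decide, by decide, g2, g0, g1, Or.inr (Or.inr (Or.inr (Or.inr (Or.inl ⟨?_, ?_, ?_, ?_, ?_, ?_, ?_, ?_, ?_, ?_, ?_, ?_⟩))))⟩ <;> linarith)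
            | (refine ⟨2, 0, 1, T.m 2, T.w 0, by decide, by decide, by decide, g2, g0, g1, Or.inr (Or.inr (Or.inr (Or.inr (Or.inr (⟨?_, ?_, ?_, ?_, ?_, ?_, ?_, ?_, ?_, ?_, ?_, ?_⟩)))))⟩ <;> linarith)
      · have e01' : T.m 1 ≤ Lib.Helper11.NumType.c T 0 1 * T.m 1 := le_mul_of_one_le_left hm1.le l01
        have e10' : T.m 0 ≤ Lib.Helper11.NumType.c T 1 0 * T.m 0 := le_mul_of_one_le_left hm0.le l10
        have e02' : T.m 2 ≤ Lib.Helper11.NumType.c T 0 2 * T.m 2 := le_mul_of_one_le_left hm2.le l02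
        have e20' : T.m 0 ≤ Lib.Helper11.NumType.c T 2 0 * T.m 0 := le_mul_of_one_le_left hm0.le l20
        have e12' : T.m 2 ≤ Lib.Helper11.NumType.c T 1 2 * T.m 2 := le_mul_of_one_le_left hm2.le l12
        have e21' : T.m 1 ≤ Lib.Helper11.NumType.c T 2 1 * T.m 1 := le_mul_of_one_le_left hm1.le l21
        have u01 : Lib.Helper11.NumType.c T 0 1 = 1 := by
          by_contra hne
          have h2' : 2 ≤ Lib.Helper11.NumType.c T 0 1 := by omega
          have hp : 2 * T.m 1 ≤ Lib.Helper11.NumType.c T 0 1 * T.m 1 := mul_le_mul_of_nonneg_right h2' hm1.le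
          linarith
        have u02 : Lib.Helper11.NumType.c T 0 2 = 1 := by
          by_contra hne
          have h2' : 2 ≤ Lib.Helper11.NumType.c T 0 2 := by omega
          have hp : 2 * T.m 2 ≤ Lib.Helper11.NumType.c T 0 2 * T.m 2 := mul_le_mul_of_nonneg_right h2' hm2.le
          linarith
        have u10 : Lib.Helper11.NumType.c T 1 0 = 1 := by
          by_contra hne
          have h2' : 2 ≤ Lib.Helper11.NumType.c T 1 0 := by omega
          have hp : 2 * T.m 0 ≤ Lib.Helper11.NumType.c T 1 0 * T.m 0 := mul_le_mul_of_nonneg_right h2' hm0.le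
          linarith
        have u12 : Lib.Helper11.NumType.c T 1 2 = 1 := by
          by_contra hne
          have h2' : 2 ≤ Lib.Helper11.NumType.c T 1 2 := by omega
          have hp : 2 * T.m 2 ≤ Lib.Helper11.NumType.c T 1 2 * T.m 2 := mul_le_mul_of_nonneg_right h2' hm2.le
          linarith
        have u20 : Lib.Helper11.NumType.c T 2 0 = 1 := by
          by_contra hne
          have h2' : 2 ≤ Lib.Helper11.NumType.c T 2 0 := by omega
          have hp : 2 * T.m 0 ≤ Lib.Helper11.NumType.c T 2 0 * T.m 0 := mul_le_mul_of_nonneg_right h2' hm0.le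
          linarith
        have u21 : Lib.Helper11.NumType.c T 2 1 = 1 := by
          by_contra hne
          have h2' : 2 ≤ Lib.Helper11.NumType.c T 2 1 := by omega
          have hp : 2 * T.m 1 ≤ Lib.Helper11.NumType.c T 2 1 * T.m 1 := mul_le_mul_of_nonneg_right h2' hm1.le
          linarith
        simp only [u01, u02, u10, u12, u20, u21, one_mul, mul_one] at r0 r1 r2 ws01 ws02 ws12 a01 a10 a02 a20 a12 a21
        refine ⟨0, 1, 2, T.m 0, T.w 0, by decide, by decide, by decide, g0, g1, g2, Or.inl ⟨?_, ?_, ?_, ?_, ?_, ?_, ?_, ?_, ?_, ?_, ?_, ?_⟩⟩ <;> linarith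

end Groth.Agent.S7363
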