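import Groth.Statements.S7364
import Mathlib
import Groth.Agent.Lib.Helper24.NumTypeAff4

set_option autoImplicit false
open Finset
open Models Models.NumericalType

namespace Groth.Agent.S7364

open Groth.Agent.Lib.Helper24.NumTypeEngine Groth.Agent.Lib.Helper24.NumTypeGlue in
private def cvs : List (List ℤ) := [[1, 1, 1, 1], [2, 2, 2, 1], [1, 1, 1, 1], [1, 2, 2, 1], [2, 1, 1, 1], [2, 1, 1, 2]]
private def dvs : List (List ℤ) := [[1, 1, 1, 1], [1, 2, 2, 4], [1, 2, 2, 1], [2, 1, 1, 2], [1, 1, 1, 2], [2, 2, 2, 1]]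
private def cv (k : ℕ) (i : Fin 4) : ℤ := (cvs.getD k []).getD i 0
private def dv (k : ℕ) (i : Fin 4) : ℤ := (dvs.getD k []).getD i 0
private def Dm (k : ℕ) (s t : Fin 4) : ℤ :=
  Groth.Agent.Lib.Helper24.NumTypeEngine.ent (Groth.Agent.Lib.Helper24.NumTypeAff4.typesC.getD k []) s t

set_option maxRecDepth 100000 in
private theorem hker : ∀ k < 6, ∀ s : Fin 4, ∑ t, Dm k s t * cv k t = 0 := by decide +kernel
set_option maxRecDepth 100000 in
private theorem hsym : ∀ k < 6, ∀ s t : Fin 4, dv k s * Dm k s t = dv k t * Dm k t s := by decide +kernel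


/-- Genus one classification: case n = 4: let T be a minimal numerical type of genus 1 on 4 indices.
Then all g_i = 0 and, for some permutation σ of the indices and some integers m, w, the
multiplicities, weights and intersection matrix (m_{σ(i)}, w_{σ(i)}, a_{σ(i)σ(j)}) are those of one
of the following 6 types: [four cycle] m = (m, m, m, m), w = (w, w, w, w), a = (-2 * w w 0 w / w -2
* w w 0 / 0 w -2 * w w / w 0 w -2 * w); [up equal up] m = (2 * m, 2 * m, 2 * m, m), w = (w, 2 * w, 2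
* w, 4 * w), a = (-2 * w 2 * w 0 0 / 2 * w -4 * w 2 * w 0 / 0 2 * w -4 * w 4 * w / 0 0 4 * w -8 *
w); [up equal down] m = (m, m, m, m), w = (w, 2 * w, 2 * w, w), a = (-2 * w 2 * w 0 0 / 2 * w -4 * w
2 * w 0 / 0 2 * w -4 * w 2 * w / 0 0 2 * w -2 * w); [down equal up] m = (m, 2 * m, 2 * m, m), w = (2
* w, w, w, 2 * w), a = (-4 * w 2 * w 0 0 / 2 * w -2 * w w 0 / 0 w -2 * w 2 * w / 0 0 2 * w -4 * w);
[triple with up] m = (2 * m, m, m, m), w = (w, w, w, 2 * w), a = (-2 * w w w 2 * w / w -2 * w 0 0 /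
w 0 -2 * w 0 / 2 * w 0 0 -4 * w); [triple with down] m = (2 * m, m, m, 2 * m), w = (2 * w, 2 * w, 2
* w, w), a = (-4 * w 2 * w 2 * w 2 * w / 2 * w -4 * w 0 0 / 2 * w 0 -4 * w 0 / 2 * w 0 0 -2 * w).
Only the classification direction is stated. -/
theorem result (T : Models.NumericalType 4) (hmin : T.IsMinimal) (hg : T.genus = 1) :
    (∀ i, T.g i = 0) ∧ ∃ (σ : Equiv.Perm (Fin 4)) (m w : ℤ),
      ((T.m (σ 0) = m ∧ T.m (σ 1) = m ∧ T.m (σ 2) = m ∧ T.m (σ 3) = m ∧ T.w (σ 0) = w ∧ T.w (σ 1) = w ∧ T.w (σ 2) = w ∧ T.w (σ 3) = w ∧ T.a (σ 0) (σ 0) = -2 * w ∧ T.a (σ 0) (σ 1) = w ∧ T.a (σ 0) (σ 2) = 0 ∧ T.a (σ 0) (σ 3) = w ∧ T.a (σ 1) (σ 1) = -2 * w ∧ T.a (σ 1) (σ 2) = w ∧ T.a (σ 1) (σ 3) = 0 ∧ T.a (σ 2) (σ 2) = -2 * w ∧ T.a (σ 2) (σ 3) = w ∧ T.a (σ 3) (σ 3) = -2 * w) ∨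
      (T.m (σ 0) = 2 * m ∧ T.m (σ 1) = 2 * m ∧ T.m (σ 2) = 2 * m ∧ T.m (σ 3) = m ∧ T.w (σ 0) = w ∧ T.w (σ 1) = 2 * w ∧ T.w (σ 2) = 2 * w ∧ T.w (σ 3) = 4 * w ∧ T.a (σ 0) (σ 0) = -2 * w ∧ T.a (σ 0) (σ 1) = 2 * w ∧ T.a (σ 0) (σ 2) = 0 ∧ T.a (σ 0) (σ 3) = 0 ∧ T.a (σ 1) (σ 1) = -4 * w ∧ T.a (σ 1) (σ 2) = 2 * w ∧ T.a (σ 1) (σ 3) = 0 ∧ T.a (σ 2) (σ 2) = -4 * w ∧ T.a (σ 2) (σ 3) = 4 * w ∧ T.a (σ 3) (σ 3) = -8 * w) ∨
      (T.m (σ 0) = m ∧ T.m (σ 1) = m ∧ T.m (σ 2) = m ∧ T.m (σ 3) = m ∧ T.w (σ 0) = w ∧ T.w (σ 1) = 2 * w ∧ T.w (σ 2) = 2 * w ∧ T.w (σ 3) = w ∧ T.a (σ 0) (σ 0) = -2 * w ∧ T.a (σ 0) (σ 1) = 2 * w ∧ T.a (σ 0) (σ 2) = 0 ∧ T.a (σ 0) (σ 3) = 0 ∧ T.a (σ 1) (σ 1) = -4 * w ∧ T.a (σ 1) (σ 2) = 2 * w ∧ T.a (σ 1) (σ 3) = 0 ∧ T.a (σ 2) (σ 2) = -4 * w ∧ T.a (σ 2) (σ 3) = 2 * w ∧ T.a (σ 3) (σ 3) = -2 * w) ∨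
      (T.m (σ 0) = m ∧ T.m (σ 1) = 2 * m ∧ T.m (σ 2) = 2 * m ∧ T.m (σ 3) = m ∧ T.w (σ 0) = 2 * w ∧ T.w (σ 1) = w ∧ T.w (σ 2) = w ∧ T.w (σ 3) = 2 * w ∧ T.a (σ 0) (σ 0) = -4 * w ∧ T.a (σ 0) (σ 1) = 2 * w ∧ T.a (σ 0) (σ 2) = 0 ∧ T.a (σ 0) (σ 3) = 0 ∧ T.a (σ 1) (σ 1) = -2 * w ∧ T.a (σ 1) (σ 2) = w ∧ T.a (σ 1) (σ 3) = 0 ∧ T.a (σ 2) (σ 2) = -2 * w ∧ T.a (σ 2) (σ 3) = 2 * w ∧ T.a (σ 3) (σ 3) = -4 * w) ∨
      (T.m (σ 0) = 2 * m ∧ T.m (σ 1) = m ∧ T.m (σ 2) = m ∧ T.m (σ 3) = m ∧ T.w (σ 0) = w ∧ T.w (σ 1) = w ∧ T.w (σ 2) = w ∧ T.w (σ 3) = 2 * w ∧ T.a (σ 0) (σ 0) = -2 * w ∧ T.a (σ 0) (σ 1) = w ∧ T.a (σ 0) (σ 2) = w ∧ T.a (σ 0) (σ 3) = 2 * w ∧ T.a (σ 1) (σ 1) = -2 * w ∧ T.a (σ 1) (σ 2) = 0 ∧ T.a (σ 1) (σ 3) = 0 ∧ T.a (σ 2) (σ 2) = -2 * w ∧ T.a (σ 2) (σ 3) = 0 ∧ T.a (σ 3) (σ 3) = -4 * w) ∨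
      (T.m (σ 0) = 2 * m ∧ T.m (σ 1) = m ∧ T.m (σ 2) = m ∧ T.m (σ 3) = 2 * m ∧ T.w (σ 0) = 2 * w ∧ T.w (σ 1) = 2 * w ∧ T.w (σ 2) = 2 * w ∧ T.w (σ 3) = w ∧ T.a (σ 0) (σ 0) = -4 * w ∧ T.a (σ 0) (σ 1) = 2 * w ∧ T.a (σ 0) (σ 2) = 2 * w ∧ T.a (σ 0) (σ 3) = 2 * w ∧ T.a (σ 1) (σ 1) = -4 * w ∧ T.a (σ 1) (σ 2) = 0 ∧ T.a (σ 1) (σ 3) = 0 ∧ T.a (σ 2) (σ 2) = -4 * w ∧ T.a (σ 2) (σ 3) = 0 ∧ T.a (σ 3) (σ 3) = -2 * w)) := by
  have hm2 := Groth.Agent.Lib.Helper24.NumTypeGlue.all_minusTwo T (by norm_num) hmin hg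
  refine ⟨fun i => (hm2 i).1, ?_⟩
  obtain ⟨idx, hidx, σ, hmatch⟩ := Groth.Agent.Lib.Helper24.NumTypeGlue.top T
    Groth.Agent.Lib.Helper24.NumTypeAff4.typesC (Groth.Agent.Lib.Helper24.NumTypeAff4.claimTop T hm2)
  have hidx' : idx < 6 := hidx
  interval_cases idx
  · obtain ⟨hM, hW, hA⟩ := Groth.Agent.Lib.Helper24.NumTypeGlue.final T σ (cv 0) (dv 0) (Dm 0) hmatch
      (hker 0 (by norm_num)) (hsym 0 (by norm_num)) 0 0 (by decide) (by decide)
    refine ⟨σ, T.m (σ 0), T.w (σ 0), ?_⟩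
    left
    exact ⟨rfl,
      (by have h := hM 1; rw [show cv 0 1 = (1 : ℤ) from by decide] at h; rw [one_mul] at h; exact h),
      (by have h := hM 2; rw [show cv 0 2 = (1 : ℤ) from by decide] at h; rw [one_mul] at h; exact h),
      (by have h := hM 3; rw [show cv 0 3 = (1 : ℤ) from by decide] at h; rw [one_mul] at h; exact h),
      rfl,
      (by have h := hW 1; rw [show dv 0 1 = (1 : ℤ) from by decide] at h; rw [one_mul] at h; exact h),
      (by have h := hW 2; rw [show dv 0 2 = (1 : ℤ) from by decide] at h; rw [one_mul] at h; exact h),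
      (by have h := hW 3; rw [show dv 0 3 = (1 : ℤ) from by decide] at h; rw [one_mul] at h; exact h),
      (by have h := hA 0 0; rw [show dv 0 0 * Dm 0 0 0 = (-2 : ℤ) from by decide] at h; exact h),
      (by have h := hA 0 1; rw [show dv 0 0 * Dm 0 0 1 = (1 : ℤ) from by decide] at h; rw [one_mul] at h; exact h),
      (by have h := hA 0 2; rw [show dv 0 0 * Dm 0 0 2 = (0 : ℤ) from by decide] at h; rw [zero_mul] at h; exact h),
      (by have h := hA 0 3; rw [show dv 0 0 * Dm 0 0 3 = (1 : ℤ) from by decide] at h; rw [one_mul] at h; exact h),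
      (by have h := hA 1 1; rw [show dv 0 1 * Dm 0 1 1 = (-2 : ℤ) from by decide] at h; exact h),
      (by have h := hA 1 2; rw [show dv 0 1 * Dm 0 1 2 = (1 : ℤ) from by decide] at h; rw [one_mul] at h; exact h),
      (by have h := hA 1 3; rw [show dv 0 1 * Dm 0 1 3 = (0 : ℤ) from by decide] at h; rw [zero_mul] at h; exact h),
      (by have h := hA 2 2; rw [show dv 0 2 * Dm 0 2 2 = (-2 : ℤ) from by decide] at h; exact h),
      (by have h := hA 2 3; rw [show dv 0 2 * Dm 0 2 3 = (1 : ℤ) from by decide] at h; rw [one_mul] at h; exact h),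
      (by have h := hA 3 3; rw [show dv 0 3 * Dm 0 3 3 = (-2 : ℤ) from by decide] at h; exact h)⟩
  · obtain ⟨hM, hW, hA⟩ := Groth.Agent.Lib.Helper24.NumTypeGlue.final T σ (cv 1) (dv 1) (Dm 1) hmatch
      (hker 1 (by norm_num)) (hsym 1 (by norm_num)) 3 0 (by decide) (by decide)
    refine ⟨σ, T.m (σ 3), T.w (σ 0), ?_⟩
    right; left
    exact ⟨(by have h := hM 0; rw [show cv 1 0 = (2 : ℤ) from by decide] at h; exact h),
      (by have h := hM 1; rw [show cv 1 1 = (2 : ℤ) from by decide] at h; exact h),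
      (by have h := hM 2; rw [show cv 1 2 = (2 : ℤ) from by decide] at h; exact h),
      rfl,
      rfl,
      (by have h := hW 1; rw [show dv 1 1 = (2 : ℤ) from by decide] at h; exact h),
      (by have h := hW 2; rw [show dv 1 2 = (2 : ℤ) from by decide] at h; exact h),
      (by have h := hW 3; rw [show dv 1 3 = (4 : ℤ) from by decide] at h; exact h),
      (by have h := hA 0 0; rw [show dv 1 0 * Dm 1 0 0 = (-2 : ℤ) from by decide] at h; exact h),
      (by have h := hA 0 1; rw [show dv 1 0 * Dm 1 0 1 = (2 : ℤ) from by decide] at h; exact h),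
      (by have h := hA 0 2; rw [show dv 1 0 * Dm 1 0 2 = (0 : ℤ) from by decide] at h; rw [zero_mul] at h; exact h),
      (by have h := hA 0 3; rw [show dv 1 0 * Dm 1 0 3 = (0 : ℤ) from by decide] at h; rw [zero_mul] at h; exact h),
      (by have h := hA 1 1; rw [show dv 1 1 * Dm 1 1 1 = (-4 : ℤ) from by decide] at h; exact h),
      (by have h := hA 1 2; rw [show dv 1 1 * Dm 1 1 2 = (2 : ℤ) from by decide] at h; exact h),
      (by have h := hA 1 3; rw [show dv 1 1 * Dm 1 1 3 = (0 : ℤ) from by decide] at h; rw [zero_mul] at h; exact h),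
      (by have h := hA 2 2; rw [show dv 1 2 * Dm 1 2 2 = (-4 : ℤ) from by decide] at h; exact h),
      (by have h := hA 2 3; rw [show dv 1 2 * Dm 1 2 3 = (4 : ℤ) from by decide] at h; exact h),
      (by have h := hA 3 3; rw [show dv 1 3 * Dm 1 3 3 = (-8 : ℤ) from by decide] at h; exact h)⟩
  · obtain ⟨hM, hW, hA⟩ := Groth.Agent.Lib.Helper24.NumTypeGlue.final T σ (cv 2) (dv 2) (Dm 2) hmatch
      (hker 2 (by norm_num)) (hsym 2 (by norm_num)) 0 0 (by decide) (by decide)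
    refine ⟨σ, T.m (σ 0), T.w (σ 0), ?_⟩
    right; right; left
    exact ⟨rfl,
      (by have h := hM 1; rw [show cv 2 1 = (1 : ℤ) from by decide] at h; rw [one_mul] at h; exact h),
      (by have h := hM 2; rw [show cv 2 2 = (1 : ℤ) from by decide] at h; rw [one_mul] at h; exact h),
      (by have h := hM 3; rw [show cv 2 3 = (1 : ℤ) from by decide] at h; rw [one_mul] at h; exact h),
      rfl,
      (by have h := hW 1; rw [show dv 2 1 = (2 : ℤ) from by decide] at h; exact h),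
      (by have h := hW 2; rw [show dv 2 2 = (2 : ℤ) from by decide] at h; exact h),
      (by have h := hW 3; rw [show dv 2 3 = (1 : ℤ) from by decide] at h; rw [one_mul] at h; exact h),
      (by have h := hA 0 0; rw [show dv 2 0 * Dm 2 0 0 = (-2 : ℤ) from by decide] at h; exact h),
      (by have h := hA 0 1; rw [show dv 2 0 * Dm 2 0 1 = (2 : ℤ) from by decide] at h; exact h),
      (by have h := hA 0 2; rw [show dv 2 0 * Dm 2 0 2 = (0 : ℤ) from by decide] at h; rw [zero_mul] at h; exact h),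
      (by have h := hA 0 3; rw [show dv 2 0 * Dm 2 0 3 = (0 : ℤ) from by decide] at h; rw [zero_mul] at h; exact h),
      (by have h := hA 1 1; rw [show dv 2 1 * Dm 2 1 1 = (-4 : ℤ) from by decide] at h; exact h),
      (by have h := hA 1 2; rw [show dv 2 1 * Dm 2 1 2 = (2 : ℤ) from by decide] at h; exact h),
      (by have h := hA 1 3; rw [show dv 2 1 * Dm 2 1 3 = (0 : ℤ) from by decide] at h; rw [zero_mul] at h; exact h),
      (by have h := hA 2 2; rw [show dv 2 2 * Dm 2 2 2 = (-4 : ℤ) from by decide] at h; exact h),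
      (by have h := hA 2 3; rw [show dv 2 2 * Dm 2 2 3 = (2 : ℤ) from by decide] at h; exact h),
      (by have h := hA 3 3; rw [show dv 2 3 * Dm 2 3 3 = (-2 : ℤ) from by decide] at h; exact h)⟩
  · obtain ⟨hM, hW, hA⟩ := Groth.Agent.Lib.Helper24.NumTypeGlue.final T σ (cv 3) (dv 3) (Dm 3) hmatch
      (hker 3 (by norm_num)) (hsym 3 (by norm_num)) 0 1 (by decide) (by decide)
    refine ⟨σ, T.m (σ 0), T.w (σ 1), ?_⟩
    right; right; right; left
    exact ⟨rfl,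
      (by have h := hM 1; rw [show cv 3 1 = (2 : ℤ) from by decide] at h; exact h),
      (by have h := hM 2; rw [show cv 3 2 = (2 : ℤ) from by decide] at h; exact h),
      (by have h := hM 3; rw [show cv 3 3 = (1 : ℤ) from by decide] at h; rw [one_mul] at h; exact h),
      (by have h := hW 0; rw [show dv 3 0 = (2 : ℤ) from by decide] at h; exact h),
      rfl,
      (by have h := hW 2; rw [show dv 3 2 = (1 : ℤ) from by decide] at h; rw [one_mul] at h; exact h),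
      (by have h := hW 3; rw [show dv 3 3 = (2 : ℤ) from by decide] at h; exact h),
      (by have h := hA 0 0; rw [show dv 3 0 * Dm 3 0 0 = (-4 : ℤ) from by decide] at h; exact h),
      (by have h := hA 0 1; rw [show dv 3 0 * Dm 3 0 1 = (2 : ℤ) from by decide] at h; exact h),
      (by have h := hA 0 2; rw [show dv 3 0 * Dm 3 0 2 = (0 : ℤ) from by decide] at h; rw [zero_mul] at h; exact h),
      (by have h := hA 0 3; rw [show dv 3 0 * Dm 3 0 3 = (0 : ℤ) from by decide] at h; rw [zero_mul] at h; exact h),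
      (by have h := hA 1 1; rw [show dv 3 1 * Dm 3 1 1 = (-2 : ℤ) from by decide] at h; exact h),
      (by have h := hA 1 2; rw [show dv 3 1 * Dm 3 1 2 = (1 : ℤ) from by decide] at h; rw [one_mul] at h; exact h),
      (by have h := hA 1 3; rw [show dv 3 1 * Dm 3 1 3 = (0 : ℤ) from by decide] at h; rw [zero_mul] at h; exact h),
      (by have h := hA 2 2; rw [show dv 3 2 * Dm 3 2 2 = (-2 : ℤ) from by decide] at h; exact h),
      (by have h := hA 2 3; rw [show dv 3 2 * Dm 3 2 3 = (2 : ℤ) from by decide] at h; exact h),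
      (by have h := hA 3 3; rw [show dv 3 3 * Dm 3 3 3 = (-4 : ℤ) from by decide] at h; exact h)⟩
  · obtain ⟨hM, hW, hA⟩ := Groth.Agent.Lib.Helper24.NumTypeGlue.final T σ (cv 4) (dv 4) (Dm 4) hmatch
      (hker 4 (by norm_num)) (hsym 4 (by norm_num)) 1 0 (by decide) (by decide)
    refine ⟨σ, T.m (σ 1), T.w (σ 0), ?_⟩
    right; right; right; right; left
    exact ⟨(by have h := hM 0; rw [show cv 4 0 = (2 : ℤ) from by decide] at h; exact h),
      rfl,
      (by have h := hM 2; rw [show cv 4 2 = (1 : ℤ) from by decide] at h; rw [one_mul] at h; exact h),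
      (by have h := hM 3; rw [show cv 4 3 = (1 : ℤ) from by decide] at h; rw [one_mul] at h; exact h),
      rfl,
      (by have h := hW 1; rw [show dv 4 1 = (1 : ℤ) from by decide] at h; rw [one_mul] at h; exact h),
      (by have h := hW 2; rw [show dv 4 2 = (1 : ℤ) from by decide] at h; rw [one_mul] at h; exact h),
      (by have h := hW 3; rw [show dv 4 3 = (2 : ℤ) from by decide] at h; exact h),
      (by have h := hA 0 0; rw [show dv 4 0 * Dm 4 0 0 = (-2 : ℤ) from by decide] at h; exact h),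
      (by have h := hA 0 1; rw [show dv 4 0 * Dm 4 0 1 = (1 : ℤ) from by decide] at h; rw [one_mul] at h; exact h),
      (by have h := hA 0 2; rw [show dv 4 0 * Dm 4 0 2 = (1 : ℤ) from by decide] at h; rw [one_mul] at h; exact h),
      (by have h := hA 0 3; rw [show dv 4 0 * Dm 4 0 3 = (2 : ℤ) from by decide] at h; exact h),
      (by have h := hA 1 1; rw [show dv 4 1 * Dm 4 1 1 = (-2 : ℤ) from by decide] at h; exact h),
      (by have h := hA 1 2; rw [show dv 4 1 * Dm 4 1 2 = (0 : ℤ) from by decide] at h; rw [zero_mul] at h; exact h),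
      (by have h := hA 1 3; rw [show dv 4 1 * Dm 4 1 3 = (0 : ℤ) from by decide] at h; rw [zero_mul] at h; exact h),
      (by have h := hA 2 2; rw [show dv 4 2 * Dm 4 2 2 = (-2 : ℤ) from by decide] at h; exact h),
      (by have h := hA 2 3; rw [show dv 4 2 * Dm 4 2 3 = (0 : ℤ) from by decide] at h; rw [zero_mul] at h; exact h),
      (by have h := hA 3 3; rw [show dv 4 3 * Dm 4 3 3 = (-4 : ℤ) from by decide] at h; exact h)⟩
  · obtain ⟨hM, hW, hA⟩ := Groth.Agent.Lib.Helper24.NumTypeGlue.final T σ (cv 5) (dv 5) (Dm 5) hmatch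
      (hker 5 (by norm_num)) (hsym 5 (by norm_num)) 1 3 (by decide) (by decide)
    refine ⟨σ, T.m (σ 1), T.w (σ 3), ?_⟩
    right; right; right; right; right
    exact ⟨(by have h := hM 0; rw [show cv 5 0 = (2 : ℤ) from by decide] at h; exact h),
      rfl,
      (by have h := hM 2; rw [show cv 5 2 = (1 : ℤ) from by decide] at h; rw [one_mul] at h; exact h),
      (by have h := hM 3; rw [show cv 5 3 = (2 : ℤ) from by decide] at h; exact h),
      (by have h := hW 0; rw [show dv 5 0 = (2 : ℤ) from by decide] at h; exact h),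
      (by have h := hW 1; rw [show dv 5 1 = (2 : ℤ) from by decide] at h; exact h),
      (by have h := hW 2; rw [show dv 5 2 = (2 : ℤ) from by decide] at h; exact h),
      rfl,
      (by have h := hA 0 0; rw [show dv 5 0 * Dm 5 0 0 = (-4 : ℤ) from by decide] at h; exact h),
      (by have h := hA 0 1; rw [show dv 5 0 * Dm 5 0 1 = (2 : ℤ) from by decide] at h; exact h),
      (by have h := hA 0 2; rw [show dv 5 0 * Dm 5 0 2 = (2 : ℤ) from by decide] at h; exact h),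
      (by have h := hA 0 3; rw [show dv 5 0 * Dm 5 0 3 = (2 : ℤ) from by decide] at h; exact h),
      (by have h := hA 1 1; rw [show dv 5 1 * Dm 5 1 1 = (-4 : ℤ) from by decide] at h; exact h),
      (by have h := hA 1 2; rw [show dv 5 1 * Dm 5 1 2 = (0 : ℤ) from by decide] at h; rw [zero_mul] at h; exact h),
      (by have h := hA 1 3; rw [show dv 5 1 * Dm 5 1 3 = (0 : ℤ) from by decide] at h; rw [zero_mul] at h; exact h),
      (by have h := hA 2 2; rw [show dv 5 2 * Dm 5 2 2 = (-4 : ℤ) from by decide] at h; exact h),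
      (by have h := hA 2 3; rw [show dv 5 2 * Dm 5 2 3 = (0 : ℤ) from by decide] at h; rw [zero_mul] at h; exact h),
      (by have h := hA 3 3; rw [show dv 5 3 * Dm 5 3 3 = (-2 : ℤ) from by decide] at h; exact h)⟩

end Groth.Agent.S7364
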