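import Groth.Statements.S7369
import Mathlib
import Groth.Agent.Lib.Helper24.NumTypeAff8

set_option autoImplicit false
open Finset
open Models Models.NumericalType

namespace Groth.Agent.S7369

open Groth.Agent.Lib.Helper24.NumTypeEngine Groth.Agent.Lib.Helper24.NumTypeGlue in
private def cvs : List (List ℤ) := [[1, 1, 1, 1, 1, 1, 1, 1], [2, 2, 2, 2, 2, 2, 2, 1], [1, 1, 1, 1, 1, 1, 1, 1], [1, 2, 2, 2, 2, 2, 2, 1], [1, 2, 2, 2, 2, 2, 1, 1], [2, 2, 2, 2, 2, 2, 1, 1], [1, 1, 2, 2, 2, 2, 1, 1], [1, 2, 3, 4, 3, 2, 1, 2]]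
private def dvs : List (List ℤ) := [[1, 1, 1, 1, 1, 1, 1, 1], [1, 2, 2, 2, 2, 2, 2, 4], [1, 2, 2, 2, 2, 2, 2, 1], [2, 1, 1, 1, 1, 1, 1, 2], [2, 1, 1, 1, 1, 1, 1, 1], [1, 2, 2, 2, 2, 2, 2, 2], [1, 1, 1, 1, 1, 1, 1, 1], [1, 1, 1, 1, 1, 1, 1, 1]]
private def cv (k : ℕ) (i : Fin 8) : ℤ := (cvs.getD k []).getD i 0
private def dv (k : ℕ) (i : Fin 8) : ℤ := (dvs.getD k []).getD i 0
private def Dm (k : ℕ) (s t : Fin 8) : ℤ :=
  Groth.Agent.Lib.Helper24.NumTypeEngine.ent (Groth.Agent.Lib.Helper24.NumTypeAff8.typesC.getD k []) s t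

set_option maxRecDepth 100000 in
private theorem hker : ∀ k < 8, ∀ s : Fin 8, ∑ t, Dm k s t * cv k t = 0 := by decide +kernel
set_option maxRecDepth 100000 in
private theorem hsym : ∀ k < 8, ∀ s t : Fin 8, dv k s * Dm k s t = dv k t * Dm k t s := by decide +kernel


/-- Genus one classification: case n = 8: let T be a minimal numerical type of genus 1 on 8 indices.
Then all g_i = 0 and, for some permutation σ of the indices and some integers m, w, the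
multiplicities, weights and intersection matrix (m_{σ(i)}, w_{σ(i)}, a_{σ(i)σ(j)}) are those of one
of the following 8 types: [cycle] m = (m, m, m, m, m, m, m, m), w = (w, w, w, w, w, w, w, w), a =
(-2 * w w 0 0 0 0 0 w / w -2 * w w 0 0 0 0 0 / 0 w -2 * w w 0 0 0 0 / 0 0 w -2 * w w 0 0 0 / 0 0 0 w
-2 * w w 0 0 / 0 0 0 0 w -2 * w w 0 / 0 0 0 0 0 w -2 * w w / w 0 0 0 0 0 w -2 * w); [up chain equal
up] m = (2 * m, 2 * m, 2 * m, 2 * m, 2 * m, 2 * m, 2 * m, m), w = (w, 2 * w, 2 * w, 2 * w, 2 * w, 2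
* w, 2 * w, 4 * w), a = (-2 * w 2 * w 0 0 0 0 0 0 / 2 * w -4 * w 2 * w 0 0 0 0 0 / 0 2 * w -4 * w 2
* w 0 0 0 0 / 0 0 2 * w -4 * w 2 * w 0 0 0 / 0 0 0 2 * w -4 * w 2 * w 0 0 / 0 0 0 0 2 * w -4 * w 2 *
w 0 / 0 0 0 0 0 2 * w -4 * w 4 * w / 0 0 0 0 0 0 4 * w -8 * w); [up chain equal down] m = (m, m, m,
m, m, m, m, m), w = (w, 2 * w, 2 * w, 2 * w, 2 * w, 2 * w, 2 * w, w), a = (-2 * w 2 * w 0 0 0 0 0 0
/ 2 * w -4 * w 2 * w 0 0 0 0 0 / 0 2 * w -4 * w 2 * w 0 0 0 0 / 0 0 2 * w -4 * w 2 * w 0 0 0 / 0 0 0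
2 * w -4 * w 2 * w 0 0 / 0 0 0 0 2 * w -4 * w 2 * w 0 / 0 0 0 0 0 2 * w -4 * w 2 * w / 0 0 0 0 0 0 2
* w -2 * w); [down chain equal up] m = (m, 2 * m, 2 * m, 2 * m, 2 * m, 2 * m, 2 * m, m), w = (2 * w,
w, w, w, w, w, w, 2 * w), a = (-4 * w 2 * w 0 0 0 0 0 0 / 2 * w -2 * w w 0 0 0 0 0 / 0 w -2 * w w 0
0 0 0 / 0 0 w -2 * w w 0 0 0 / 0 0 0 w -2 * w w 0 0 / 0 0 0 0 w -2 * w w 0 / 0 0 0 0 0 w -2 * w 2 *
w / 0 0 0 0 0 0 2 * w -4 * w); [D extended up] m = (m, 2 * m, 2 * m, 2 * m, 2 * m, 2 * m, m, m), w =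
(2 * w, w, w, w, w, w, w, w), a = (-4 * w 2 * w 0 0 0 0 0 0 / 2 * w -2 * w w 0 0 0 0 0 / 0 w -2 * w
w 0 0 0 0 / 0 0 w -2 * w w 0 0 0 / 0 0 0 w -2 * w w 0 0 / 0 0 0 0 w -2 * w w w / 0 0 0 0 0 w -2 * w
0 / 0 0 0 0 0 w 0 -2 * w); [D extended down] m = (2 * m, 2 * m, 2 * m, 2 * m, 2 * m, 2 * m, m, m), w
= (w, 2 * w, 2 * w, 2 * w, 2 * w, 2 * w, 2 * w, 2 * w), a = (-2 * w 2 * w 0 0 0 0 0 0 / 2 * w -4 * w
2 * w 0 0 0 0 0 / 0 2 * w -4 * w 2 * w 0 0 0 0 / 0 0 2 * w -4 * w 2 * w 0 0 0 / 0 0 0 2 * w -4 * w 2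
* w 0 0 / 0 0 0 0 2 * w -4 * w 2 * w 2 * w / 0 0 0 0 0 2 * w -4 * w 0 / 0 0 0 0 0 2 * w 0 -4 * w);
[double triple] m = (m, m, 2 * m, 2 * m, 2 * m, 2 * m, m, m), w = (w, w, w, w, w, w, w, w), a = (-2
* w 0 w 0 0 0 0 0 / 0 -2 * w w 0 0 0 0 0 / w w -2 * w w 0 0 0 0 / 0 0 w -2 * w w 0 0 0 / 0 0 0 w -2
* w w 0 0 / 0 0 0 0 w -2 * w w w / 0 0 0 0 0 w -2 * w 0 / 0 0 0 0 0 w 0 -2 * w); [E7 completed] m =
(m, 2 * m, 3 * m, 4 * m, 3 * m, 2 * m, m, 2 * m), w = (w, w, w, w, w, w, w, w), a = (-2 * w w 0 0 0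
0 0 0 / w -2 * w w 0 0 0 0 0 / 0 w -2 * w w 0 0 0 0 / 0 0 w -2 * w w 0 0 w / 0 0 0 w -2 * w w 0 0 /
0 0 0 0 w -2 * w w 0 / 0 0 0 0 0 w -2 * w 0 / 0 0 0 w 0 0 0 -2 * w). Only the classification
direction is stated. (In the family with weights (w, 2w, …, 2w, w) the consecutive intersection
numbers are 2w, as divisibility by the weights forces; the published list prints w there, and omits
m_{n-2} = 2m in the two D-type families.) -/
theorem result (T : Models.NumericalType 8) (hmin : T.IsMinimal) (hg : T.genus = 1) :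
    (∀ i, T.g i = 0) ∧ ∃ (σ : Equiv.Perm (Fin 8)) (m w : ℤ),
      ((T.m (σ 0) = m ∧ T.m (σ 1) = m ∧ T.m (σ 2) = m ∧ T.m (σ 3) = m ∧ T.m (σ 4) = m ∧ T.m (σ 5) = m ∧ T.m (σ 6) = m ∧ T.m (σ 7) = m ∧ T.w (σ 0) = w ∧ T.w (σ 1) = w ∧ T.w (σ 2) = w ∧ T.w (σ 3) = w ∧ T.w (σ 4) = w ∧ T.w (σ 5) = w ∧ T.w (σ 6) = w ∧ T.w (σ 7) = w ∧ T.a (σ 0) (σ 0) = -2 * w ∧ T.a (σ 0) (σ 1) = w ∧ T.a (σ 0) (σ 2) = 0 ∧ T.a (σ 0) (σ 3) = 0 ∧ T.a (σ 0) (σ 4) = 0 ∧ T.a (σ 0) (σ 5) = 0 ∧ T.a (σ 0) (σ 6) = 0 ∧ T.a (σ 0) (σ 7) = w ∧ T.a (σ 1) (σ 1) = -2 * w ∧ T.a (σ 1) (σ 2) = w ∧ T.a (σ 1) (σ 3) = 0 ∧ T.a (σ 1) (σ 4) = 0 ∧ T.a (σ 1) (σ 5) = 0 ∧ T.a (σ 1) (σ 6) = 0 ∧ T.a (σ 1) (σ 7) = 0 ∧ T.a (σ 2) (σ 2) = -2 * w ∧ T.a (σ 2) (σ 3) = w ∧ T.a (σ 2) (σ 4) = 0 ∧ T.a (σ 2) (σ 5) = 0 ∧ T.a (σ 2) (σ 6) = 0 ∧ T.a (σ 2) (σ 7) = 0 ∧ T.a (σ 3) (σ 3) = -2 * w ∧ T.a (σ 3) (σ 4) = w ∧ T.a (σ 3) (σ 5) = 0 ∧ T.a (σ 3) (σ 6) = 0 ∧ T.a (σ 3) (σ 7)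 = 0 ∧ T.a (σ 4) (σ 4) = -2 * w ∧ T.a (σ 4) (σ 5) = w ∧ T.a (σ 4) (σ 6) = 0 ∧ T.a (σ 4) (σ 7) = 0 ∧ T.a (σ 5) (σ 5) = -2 * w ∧ T.a (σ 5) (σ 6) = w ∧ T.a (σ 5) (σ 7) = 0 ∧ T.a (σ 6) (σ 6) = -2 * w ∧ T.a (σ 6) (σ 7) = w ∧ T.a (σ 7) (σ 7) = -2 * w) ∨
      (T.m (σ 0) = 2 * m ∧ T.m (σ 1) = 2 * m ∧ T.m (σ 2) = 2 * m ∧ T.m (σ 3) = 2 * m ∧ T.m (σ 4) = 2 * m ∧ T.m (σ 5) = 2 * m ∧ T.m (σ 6) = 2 * m ∧ T.m (σ 7) = m ∧ T.w (σ 0) = w ∧ T.w (σ 1) = 2 * w ∧ T.w (σ 2) = 2 * w ∧ T.w (σ 3) = 2 * w ∧ T.w (σ 4) = 2 * w ∧ T.w (σ 5) = 2 * w ∧ T.w (σ 6) = 2 * w ∧ T.w (σ 7) = 4 * w ∧ T.a (σ 0) (σ 0) = -2 * w ∧ T.a (σ 0) (σ 1) = 2 * w ∧ T.a (σ 0) (σ 2) = 0 ∧ T.a (σ 0) (σ 3) = 0 ∧ T.a (σ 0) (σ 4) = 0 ∧ T.a (σ 0) (σ 5) = 0 ∧ T.a (σ 0) (σ 6) = 0 ∧ T.a (σ 0) (σ 7) = 0 ∧ T.a (σ 1) (σ 1) = -4 * w ∧ T.a (σ 1) (σ 2) = 2 * w ∧ T.a (σ 1) (σ 3) = 0 ∧ T.a (σ 1) (σ 4) = 0 ∧ T.a (σ 1) (σ 5) = 0 ∧ T.a (σ 1) (σ 6) = 0 ∧ T.a (σ 1) (σ 7) = 0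 ∧ T.a (σ 2) (σ 2) = -4 * w ∧ T.a (σ 2) (σ 3) = 2 * w ∧ T.a (σ 2) (σ 4) = 0 ∧ T.a (σ 2) (σ 5) = 0 ∧ T.a (σ 2) (σ 6) = 0 ∧ T.a (σ 2) (σ 7) = 0 ∧ T.a (σ 3) (σ 3) = -4 * w ∧ T.a (σ 3) (σ 4) = 2 * w ∧ T.a (σ 3) (σ 5) = 0 ∧ T.a (σ 3) (σ 6) = 0 ∧ T.a (σ 3) (σ 7) = 0 ∧ T.a (σ 4) (σ 4) = -4 * w ∧ T.a (σ 4) (σ 5) = 2 * w ∧ T.a (σ 4) (σ 6) = 0 ∧ T.a (σ 4) (σ 7) = 0 ∧ T.a (σ 5) (σ 5) = -4 * w ∧ T.a (σ 5) (σ 6) = 2 * w ∧ T.a (σ 5) (σ 7) = 0 ∧ T.a (σ 6) (σ 6) = -4 * w ∧ T.a (σ 6) (σ 7) = 4 * w ∧ T.a (σ 7) (σ 7) = -8 * w) ∨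
      (T.m (σ 0) = m ∧ T.m (σ 1) = m ∧ T.m (σ 2) = m ∧ T.m (σ 3) = m ∧ T.m (σ 4) = m ∧ T.m (σ 5) = m ∧ T.m (σ 6) = m ∧ T.m (σ 7) = m ∧ T.w (σ 0) = w ∧ T.w (σ 1) = 2 * w ∧ T.w (σ 2) = 2 * w ∧ T.w (σ 3) = 2 * w ∧ T.w (σ 4) = 2 * w ∧ T.w (σ 5) = 2 * w ∧ T.w (σ 6) = 2 * w ∧ T.w (σ 7) = w ∧ T.a (σ 0) (σ 0) = -2 * w ∧ T.a (σ 0) (σ 1) = 2 * w ∧ T.a (σ 0) (σ 2) = 0 ∧ T.a (σ 0) (σ 3) = 0 ∧ T.a (σ 0) (σ 4) = 0 ∧ T.a (σ 0) (σ 5) = 0 ∧ T.a (σ 0) (σ 6) = 0 ∧ T.a (σ 0) (σ 7) = 0 ∧ T.a (σ 1) (σ 1) = -4 * w ∧ T.a (σ 1) (σ 2) = 2 * w ∧ T.a (σ 1) (σ 3) = 0 ∧ T.a (σ 1) (σ 4) = 0 ∧ T.a (σ 1) (σ 5) = 0 ∧ T.a (σ 1) (σ 6) = 0 ∧ T.a (σ 1) (σ 7) = 0 ∧ T.a (σ 2) (σ 2) = -4 * w ∧ T.a (σ 2) (σ 3) = 2 * w ∧ T.a (σ 2) (σ 4) = 0 ∧ T.a (σ 2) (σ 5) = 0 ∧ T.a (σ 2) (σ 6) = 0 ∧ T.a (σ 2) (σ 7) = 0 ∧ T.a (σ 3) (σ 3) = -4 * w ∧ T.a (σ 3) (σ 4) = 2 * w ∧ T.a (σ 3) (σ 5) = 0 ∧ T.a (σ 3) (σ 6) = 0 ∧ T.a (σ 3) (σ 7) = 0 ∧ T.a (σ 4) (σ 4)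 = -4 * w ∧ T.a (σ 4) (σ 5) = 2 * w ∧ T.a (σ 4) (σ 6) = 0 ∧ T.a (σ 4) (σ 7) = 0 ∧ T.a (σ 5) (σ 5) = -4 * w ∧ T.a (σ 5) (σ 6) = 2 * w ∧ T.a (σ 5) (σ 7) = 0 ∧ T.a (σ 6) (σ 6) = -4 * w ∧ T.a (σ 6) (σ 7) = 2 * w ∧ T.a (σ 7) (σ 7) = -2 * w) ∨
      (T.m (σ 0) = m ∧ T.m (σ 1) = 2 * m ∧ T.m (σ 2) = 2 * m ∧ T.m (σ 3) = 2 * m ∧ T.m (σ 4) = 2 * m ∧ T.m (σ 5) = 2 * m ∧ T.m (σ 6) = 2 * m ∧ T.m (σ 7) = m ∧ T.w (σ 0) = 2 * w ∧ T.w (σ 1) = w ∧ T.w (σ 2) = w ∧ T.w (σ 3) = w ∧ T.w (σ 4) = w ∧ T.w (σ 5) = w ∧ T.w (σ 6) = w ∧ T.w (σ 7) = 2 * w ∧ T.a (σ 0) (σ 0) = -4 * w ∧ T.a (σ 0) (σ 1) = 2 * w ∧ T.a (σ 0) (σ 2) = 0 ∧ T.a (σ 0) (σ 3) = 0 ∧ T.a (σ 0) (σ 4) = 0 ∧ T.a (σ 0) (σ 5) = 0 ∧ T.a (σ 0) (σ 6) = 0 ∧ T.a (σ 0) (σ 7) = 0 ∧ T.a (σ 1) (σ 1) = -2 * w ∧ T.a (σ 1) (σ 2) = w ∧ T.a (σ 1) (σ 3) = 0 ∧ T.a (σ 1) (σ 4) = 0 ∧ T.a (σ 1) (σ 5) = 0 ∧ T.a (σ 1) (σ 6) = 0 ∧ T.a (σ 1) (σ 7) = 0 ∧ T.a (σ 2) (σ 2) = -2 * w ∧ T.a (σ 2)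 (σ 3) = w ∧ T.a (σ 2) (σ 4) = 0 ∧ T.a (σ 2) (σ 5) = 0 ∧ T.a (σ 2) (σ 6) = 0 ∧ T.a (σ 2) (σ 7) = 0 ∧ T.a (σ 3) (σ 3) = -2 * w ∧ T.a (σ 3) (σ 4) = w ∧ T.a (σ 3) (σ 5) = 0 ∧ T.a (σ 3) (σ 6) = 0 ∧ T.a (σ 3) (σ 7) = 0 ∧ T.a (σ 4) (σ 4) = -2 * w ∧ T.a (σ 4) (σ 5) = w ∧ T.a (σ 4) (σ 6) = 0 ∧ T.a (σ 4) (σ 7) = 0 ∧ T.a (σ 5) (σ 5) = -2 * w ∧ T.a (σ 5) (σ 6) = w ∧ T.a (σ 5) (σ 7) = 0 ∧ T.a (σ 6) (σ 6) = -2 * w ∧ T.a (σ 6) (σ 7) = 2 * w ∧ T.a (σ 7) (σ 7) = -4 * w) ∨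
      (T.m (σ 0) = m ∧ T.m (σ 1) = 2 * m ∧ T.m (σ 2) = 2 * m ∧ T.m (σ 3) = 2 * m ∧ T.m (σ 4) = 2 * m ∧ T.m (σ 5) = 2 * m ∧ T.m (σ 6) = m ∧ T.m (σ 7) = m ∧ T.w (σ 0) = 2 * w ∧ T.w (σ 1) = w ∧ T.w (σ 2) = w ∧ T.w (σ 3) = w ∧ T.w (σ 4) = w ∧ T.w (σ 5) = w ∧ T.w (σ 6) = w ∧ T.w (σ 7) = w ∧ T.a (σ 0) (σ 0) = -4 * w ∧ T.a (σ 0) (σ 1) = 2 * w ∧ T.a (σ 0) (σ 2) = 0 ∧ T.a (σ 0) (σ 3) = 0 ∧ T.a (σ 0) (σ 4) = 0 ∧ T.a (σ 0) (σ 5) = 0 ∧ T.a (σ 0) (σ 6) = 0 ∧ T.a (σ 0) (σ 7) = 0 ∧ T.a (σ 1) (σ 1) = -2 * w ∧ T.a (σ 1) (σ 2) = w ∧ T.a (σ 1) (σ 3) = 0 ∧ T.a (σ 1) (σ 4) = 0 ∧ T.a (σ 1) (σ 5) = 0 ∧ T.a (σ 1) (σ 6) = 0 ∧ T.a (σ 1) (σ 7) = 0 ∧ T.a (σ 2) (σ 2) = -2 * w ∧ T.a (σ 2) (σ 3) = w ∧ T.a (σ 2) (σ 4) = 0 ∧ T.a (σ 2) (σ 5) = 0 ∧ T.a (σ 2) (σ 6) = 0 ∧ T.a (σ 2) (σ 7) = 0 ∧ T.a (σ 3) (σ 3) = -2 * w ∧ T.a (σ 3) (σ 4) = w ∧ T.a (σ 3) (σ 5) = 0 ∧ T.a (σ 3) (σ 6) = 0 ∧ T.a (σ 3) (σ 7) = 0 ∧ T.a (σ 4) (σ 4) = -2 * w ∧ T.a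 (σ 4) (σ 5) = w ∧ T.a (σ 4) (σ 6) = 0 ∧ T.a (σ 4) (σ 7) = 0 ∧ T.a (σ 5) (σ 5) = -2 * w ∧ T.a (σ 5) (σ 6) = w ∧ T.a (σ 5) (σ 7) = w ∧ T.a (σ 6) (σ 6) = -2 * w ∧ T.a (σ 6) (σ 7) = 0 ∧ T.a (σ 7) (σ 7) = -2 * w) ∨
      (T.m (σ 0) = 2 * m ∧ T.m (σ 1) = 2 * m ∧ T.m (σ 2) = 2 * m ∧ T.m (σ 3) = 2 * m ∧ T.m (σ 4) = 2 * m ∧ T.m (σ 5) = 2 * m ∧ T.m (σ 6) = m ∧ T.m (σ 7) = m ∧ T.w (σ 0) = w ∧ T.w (σ 1) = 2 * w ∧ T.w (σ 2) = 2 * w ∧ T.w (σ 3) = 2 * w ∧ T.w (σ 4) = 2 * w ∧ T.w (σ 5) = 2 * w ∧ T.w (σ 6) = 2 * w ∧ T.w (σ 7) = 2 * w ∧ T.a (σ 0) (σ 0) = -2 * w ∧ T.a (σ 0) (σ 1) = 2 * w ∧ T.a (σ 0) (σ 2) = 0 ∧ T.a (σ 0) (σ 3) = 0 ∧ T.a (σ 0) (σ 4) = 0 ∧ T.a (σ 0) (σ 5) = 0 ∧ T.a (σ 0) (σ 6) = 0 ∧ T.a (σ 0) (σ 7) = 0 ∧ T.a (σ 1) (σ 1) = -4 * w ∧ T.a (σ 1) (σ 2) = 2 * w ∧ T.a (σ 1) (σ 3) = 0 ∧ T.a (σ 1) (σ 4) = 0 ∧ T.a (σ 1) (σ 5) = 0 ∧ T.a (σ 1) (σ 6) = 0 ∧ T.a (σ 1) (σ 7) = 0 ∧ T.a (σ 2) (σ 2) = -4 * w ∧ T.a (σ 2) (σ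 3) = 2 * w ∧ T.a (σ 2) (σ 4) = 0 ∧ T.a (σ 2) (σ 5) = 0 ∧ T.a (σ 2) (σ 6) = 0 ∧ T.a (σ 2) (σ 7) = 0 ∧ T.a (σ 3) (σ 3) = -4 * w ∧ T.a (σ 3) (σ 4) = 2 * w ∧ T.a (σ 3) (σ 5) = 0 ∧ T.a (σ 3) (σ 6) = 0 ∧ T.a (σ 3) (σ 7) = 0 ∧ T.a (σ 4) (σ 4) = -4 * w ∧ T.a (σ 4) (σ 5) = 2 * w ∧ T.a (σ 4) (σ 6) = 0 ∧ T.a (σ 4) (σ 7) = 0 ∧ T.a (σ 5) (σ 5) = -4 * w ∧ T.a (σ 5) (σ 6) = 2 * w ∧ T.a (σ 5) (σ 7) = 2 * w ∧ T.a (σ 6) (σ 6) = -4 * w ∧ T.a (σ 6) (σ 7) = 0 ∧ T.a (σ 7) (σ 7) = -4 * w) ∨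
      (T.m (σ 0) = m ∧ T.m (σ 1) = m ∧ T.m (σ 2) = 2 * m ∧ T.m (σ 3) = 2 * m ∧ T.m (σ 4) = 2 * m ∧ T.m (σ 5) = 2 * m ∧ T.m (σ 6) = m ∧ T.m (σ 7) = m ∧ T.w (σ 0) = w ∧ T.w (σ 1) = w ∧ T.w (σ 2) = w ∧ T.w (σ 3) = w ∧ T.w (σ 4) = w ∧ T.w (σ 5) = w ∧ T.w (σ 6) = w ∧ T.w (σ 7) = w ∧ T.a (σ 0) (σ 0) = -2 * w ∧ T.a (σ 0) (σ 1) = 0 ∧ T.a (σ 0) (σ 2) = w ∧ T.a (σ 0) (σ 3) = 0 ∧ T.a (σ 0) (σ 4) = 0 ∧ T.a (σ 0) (σ 5) = 0 ∧ T.a (σ 0) (σ 6) = 0 ∧ T.a (σ 0) (σ 7) = 0 ∧ T.a (σ 1) (σ 1) = -2 * w ∧ T.a (σ 1) (σ 2) = w ∧ T.a (σ 1) (σ 3) = 0 ∧ T.a (σ 1) (σ 4) = 0 ∧ T.a (σ 1) (σ 5) = 0 ∧ T.a (σ 1) (σ 6) = 0 ∧ T.a (σ 1) (σ 7) = 0 ∧ T.a (σ 2) (σ 2) = -2 * w ∧ T.a (σ 2) (σ 3) = w ∧ T.a (σ 2) (σ 4) = 0 ∧ T.a (σ 2) (σ 5) = 0 ∧ T.a (σ 2) (σ 6) = 0 ∧ T.a (σ 2) (σ 7) = 0 ∧ T.a (σ 3) (σ 3) = -2 * w ∧ T.a (σ 3) (σ 4) = w ∧ T.a (σ 3) (σ 5) = 0 ∧ T.a (σ 3) (σ 6) = 0 ∧ T.a (σ 3) (σ 7) = 0 ∧ T.a (σ 4) (σ 4) = -2 * w ∧ T.a (σ 4) (σ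 5) = w ∧ T.a (σ 4) (σ 6) = 0 ∧ T.a (σ 4) (σ 7) = 0 ∧ T.a (σ 5) (σ 5) = -2 * w ∧ T.a (σ 5) (σ 6) = w ∧ T.a (σ 5) (σ 7) = w ∧ T.a (σ 6) (σ 6) = -2 * w ∧ T.a (σ 6) (σ 7) = 0 ∧ T.a (σ 7) (σ 7) = -2 * w) ∨
      (T.m (σ 0) = m ∧ T.m (σ 1) = 2 * m ∧ T.m (σ 2) = 3 * m ∧ T.m (σ 3) = 4 * m ∧ T.m (σ 4) = 3 * m ∧ T.m (σ 5) = 2 * m ∧ T.m (σ 6) = m ∧ T.m (σ 7) = 2 * m ∧ T.w (σ 0) = w ∧ T.w (σ 1) = w ∧ T.w (σ 2) = w ∧ T.w (σ 3) = w ∧ T.w (σ 4) = w ∧ T.w (σ 5) = w ∧ T.w (σ 6) = w ∧ T.w (σ 7) = w ∧ T.a (σ 0) (σ 0) = -2 * w ∧ T.a (σ 0) (σ 1) = w ∧ T.a (σ 0) (σ 2) = 0 ∧ T.a (σ 0) (σ 3) = 0 ∧ T.a (σ 0) (σ 4) = 0 ∧ T.a (σ 0) (σ 5) = 0 ∧ T.a (σ 0) (σ 6) = 0 ∧ T.a (σ 0) (σ 7) = 0 ∧ T.a (σ 1) (σ 1) = -2 * w ∧ T.a (σ 1) (σ 2) = w ∧ T.a (σ 1) (σ 3) = 0 ∧ T.a (σ 1) (σ 4) = 0 ∧ T.a (σ 1) (σ 5) = 0 ∧ T.a (σ 1) (σ 6) = 0 ∧ T.a (σ 1) (σ 7) = 0 ∧ T.a (σ 2) (σ 2) = -2 * w ∧ T.a (σ 2) (σ 3) = w ∧ T.a (σ 2) (σ 4) = 0 ∧ T.a (σ 2) (σ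 5) = 0 ∧ T.a (σ 2) (σ 6) = 0 ∧ T.a (σ 2) (σ 7) = 0 ∧ T.a (σ 3) (σ 3) = -2 * w ∧ T.a (σ 3) (σ 4) = w ∧ T.a (σ 3) (σ 5) = 0 ∧ T.a (σ 3) (σ 6) = 0 ∧ T.a (σ 3) (σ 7) = w ∧ T.a (σ 4) (σ 4) = -2 * w ∧ T.a (σ 4) (σ 5) = w ∧ T.a (σ 4) (σ 6) = 0 ∧ T.a (σ 4) (σ 7) = 0 ∧ T.a (σ 5) (σ 5) = -2 * w ∧ T.a (σ 5) (σ 6) = w ∧ T.a (σ 5) (σ 7) = 0 ∧ T.a (σ 6) (σ 6) = -2 * w ∧ T.a (σ 6) (σ 7) = 0 ∧ T.a (σ 7) (σ 7) = -2 * w)) := by
  have hm2 := Groth.Agent.Lib.Helper24.NumTypeGlue.all_minusTwo T (by norm_num) hmin hg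
  refine ⟨fun i => (hm2 i).1, ?_⟩
  obtain ⟨idx, hidx, σ, hmatch⟩ := Groth.Agent.Lib.Helper24.NumTypeGlue.top T
    Groth.Agent.Lib.Helper24.NumTypeAff8.typesC (Groth.Agent.Lib.Helper24.NumTypeAff8.claimTop T hm2)
  have hidx' : idx < 8 := hidx
  interval_cases idx
  · obtain ⟨hM, hW, hA⟩ := Groth.Agent.Lib.Helper24.NumTypeGlue.final T σ (cv 0) (dv 0) (Dm 0) hmatch
      (hker 0 (by norm_num)) (hsym 0 (by norm_num)) 0 0 (by decide) (by decide)
    refine ⟨σ, T.m (σ 0), T.w (σ 0), ?_⟩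
    left
    exact ⟨rfl,
      (by have h := hM 1; rw [show cv 0 1 = (1 : ℤ) from by decide] at h; rw [one_mul] at h; exact h),
      (by have h := hM 2; rw [show cv 0 2 = (1 : ℤ) from by decide] at h; rw [one_mul] at h; exact h),
      (by have h := hM 3; rw [show cv 0 3 = (1 : ℤ) from by decide] at h; rw [one_mul] at h; exact h),
      (by have h := hM 4; rw [show cv 0 4 = (1 : ℤ) from by decide] at h; rw [one_mul] at h; exact h),
      (by have h := hM 5; rw [show cv 0 5 = (1 : ℤ) from by decide] at h; rw [one_mul] at h; exact h),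
      (by have h := hM 6; rw [show cv 0 6 = (1 : ℤ) from by decide] at h; rw [one_mul] at h; exact h),
      (by have h := hM 7; rw [show cv 0 7 = (1 : ℤ) from by decide] at h; rw [one_mul] at h; exact h),
      rfl,
      (by have h := hW 1; rw [show dv 0 1 = (1 : ℤ) from by decide] at h; rw [one_mul] at h; exact h),
      (by have h := hW 2; rw [show dv 0 2 = (1 : ℤ) from by decide] at h; rw [one_mul] at h; exact h),
      (by have h := hW 3; rw [show dv 0 3 = (1 : ℤ) from by decide] at h; rw [one_mul] at h; exact h),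
      (by have h := hW 4; rw [show dv 0 4 = (1 : ℤ) from by decide] at h; rw [one_mul] at h; exact h),
      (by have h := hW 5; rw [show dv 0 5 = (1 : ℤ) from by decide] at h; rw [one_mul] at h; exact h),
      (by have h := hW 6; rw [show dv 0 6 = (1 : ℤ) from by decide] at h; rw [one_mul] at h; exact h),
      (by have h := hW 7; rw [show dv 0 7 = (1 : ℤ) from by decide] at h; rw [one_mul] at h; exact h),
      (by have h := hA 0 0; rw [show dv 0 0 * Dm 0 0 0 = (-2 : ℤ) from by decide] at h; exact h),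
      (by have h := hA 0 1; rw [show dv 0 0 * Dm 0 0 1 = (1 : ℤ) from by decide] at h; rw [one_mul] at h; exact h),
      (by have h := hA 0 2; rw [show dv 0 0 * Dm 0 0 2 = (0 : ℤ) from by decide] at h; rw [zero_mul] at h; exact h),
      (by have h := hA 0 3; rw [show dv 0 0 * Dm 0 0 3 = (0 : ℤ) from by decide] at h; rw [zero_mul] at h; exact h),
      (by have h := hA 0 4; rw [show dv 0 0 * Dm 0 0 4 = (0 : ℤ) from by decide] at h; rw [zero_mul] at h; exact h),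
      (by have h := hA 0 5; rw [show dv 0 0 * Dm 0 0 5 = (0 : ℤ) from by decide] at h; rw [zero_mul] at h; exact h),
      (by have h := hA 0 6; rw [show dv 0 0 * Dm 0 0 6 = (0 : ℤ) from by decide] at h; rw [zero_mul] at h; exact h),
      (by have h := hA 0 7; rw [show dv 0 0 * Dm 0 0 7 = (1 : ℤ) from by decide] at h; rw [one_mul] at h; exact h),
      (by have h := hA 1 1; rw [show dv 0 1 * Dm 0 1 1 = (-2 : ℤ) from by decide] at h; exact h),
      (by have h := hA 1 2; rw [show dv 0 1 * Dm 0 1 2 = (1 : ℤ) from by decide] at h; rw [one_mul] at h; exact h),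
      (by have h := hA 1 3; rw [show dv 0 1 * Dm 0 1 3 = (0 : ℤ) from by decide] at h; rw [zero_mul] at h; exact h),
      (by have h := hA 1 4; rw [show dv 0 1 * Dm 0 1 4 = (0 : ℤ) from by decide] at h; rw [zero_mul] at h; exact h),
      (by have h := hA 1 5; rw [show dv 0 1 * Dm 0 1 5 = (0 : ℤ) from by decide] at h; rw [zero_mul] at h; exact h),
      (by have h := hA 1 6; rw [show dv 0 1 * Dm 0 1 6 = (0 : ℤ) from by decide] at h; rw [zero_mul] at h; exact h),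
      (by have h := hA 1 7; rw [show dv 0 1 * Dm 0 1 7 = (0 : ℤ) from by decide] at h; rw [zero_mul] at h; exact h),
      (by have h := hA 2 2; rw [show dv 0 2 * Dm 0 2 2 = (-2 : ℤ) from by decide] at h; exact h),
      (by have h := hA 2 3; rw [show dv 0 2 * Dm 0 2 3 = (1 : ℤ) from by decide] at h; rw [one_mul] at h; exact h),
      (by have h := hA 2 4; rw [show dv 0 2 * Dm 0 2 4 = (0 : ℤ) from by decide] at h; rw [zero_mul] at h; exact h),
      (by have h := hA 2 5; rw [show dv 0 2 * Dm 0 2 5 = (0 : ℤ) from by decide] at h; rw [zero_mul] at h; exact h),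
      (by have h := hA 2 6; rw [show dv 0 2 * Dm 0 2 6 = (0 : ℤ) from by decide] at h; rw [zero_mul] at h; exact h),
      (by have h := hA 2 7; rw [show dv 0 2 * Dm 0 2 7 = (0 : ℤ) from by decide] at h; rw [zero_mul] at h; exact h),
      (by have h := hA 3 3; rw [show dv 0 3 * Dm 0 3 3 = (-2 : ℤ) from by decide] at h; exact h),
      (by have h := hA 3 4; rw [show dv 0 3 * Dm 0 3 4 = (1 : ℤ) from by decide] at h; rw [one_mul] at h; exact h),
      (by have h := hA 3 5; rw [show dv 0 3 * Dm 0 3 5 = (0 : ℤ) from by decide] at h; rw [zero_mul] at h; exact h),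
      (by have h := hA 3 6; rw [show dv 0 3 * Dm 0 3 6 = (0 : ℤ) from by decide] at h; rw [zero_mul] at h; exact h),
      (by have h := hA 3 7; rw [show dv 0 3 * Dm 0 3 7 = (0 : ℤ) from by decide] at h; rw [zero_mul] at h; exact h),
      (by have h := hA 4 4; rw [show dv 0 4 * Dm 0 4 4 = (-2 : ℤ) from by decide] at h; exact h),
      (by have h := hA 4 5; rw [show dv 0 4 * Dm 0 4 5 = (1 : ℤ) from by decide] at h; rw [one_mul] at h; exact h),
      (by have h := hA 4 6; rw [show dv 0 4 * Dm 0 4 6 = (0 : ℤ) from by decide] at h; rw [zero_mul] at h; exact h),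
      (by have h := hA 4 7; rw [show dv 0 4 * Dm 0 4 7 = (0 : ℤ) from by decide] at h; rw [zero_mul] at h; exact h),
      (by have h := hA 5 5; rw [show dv 0 5 * Dm 0 5 5 = (-2 : ℤ) from by decide] at h; exact h),
      (by have h := hA 5 6; rw [show dv 0 5 * Dm 0 5 6 = (1 : ℤ) from by decide] at h; rw [one_mul] at h; exact h),
      (by have h := hA 5 7; rw [show dv 0 5 * Dm 0 5 7 = (0 : ℤ) from by decide] at h; rw [zero_mul] at h; exact h),
      (by have h := hA 6 6; rw [show dv 0 6 * Dm 0 6 6 = (-2 : ℤ) from by decide] at h; exact h),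
      (by have h := hA 6 7; rw [show dv 0 6 * Dm 0 6 7 = (1 : ℤ) from by decide] at h; rw [one_mul] at h; exact h),
      (by have h := hA 7 7; rw [show dv 0 7 * Dm 0 7 7 = (-2 : ℤ) from by decide] at h; exact h)⟩
  · obtain ⟨hM, hW, hA⟩ := Groth.Agent.Lib.Helper24.NumTypeGlue.final T σ (cv 1) (dv 1) (Dm 1) hmatch
      (hker 1 (by norm_num)) (hsym 1 (by norm_num)) 7 0 (by decide) (by decide)
    refine ⟨σ, T.m (σ 7), T.w (σ 0), ?_⟩
    right; left
    exact ⟨(by have h := hM 0; rw [show cv 1 0 = (2 : ℤ) from by decide] at h; exact h),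
      (by have h := hM 1; rw [show cv 1 1 = (2 : ℤ) from by decide] at h; exact h),
      (by have h := hM 2; rw [show cv 1 2 = (2 : ℤ) from by decide] at h; exact h),
      (by have h := hM 3; rw [show cv 1 3 = (2 : ℤ) from by decide] at h; exact h),
      (by have h := hM 4; rw [show cv 1 4 = (2 : ℤ) from by decide] at h; exact h),
      (by have h := hM 5; rw [show cv 1 5 = (2 : ℤ) from by decide] at h; exact h),
      (by have h := hM 6; rw [show cv 1 6 = (2 : ℤ) from by decide] at h; exact h),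
      rfl,
      rfl,
      (by have h := hW 1; rw [show dv 1 1 = (2 : ℤ) from by decide] at h; exact h),
      (by have h := hW 2; rw [show dv 1 2 = (2 : ℤ) from by decide] at h; exact h),
      (by have h := hW 3; rw [show dv 1 3 = (2 : ℤ) from by decide] at h; exact h),
      (by have h := hW 4; rw [show dv 1 4 = (2 : ℤ) from by decide] at h; exact h),
      (by have h := hW 5; rw [show dv 1 5 = (2 : ℤ) from by decide] at h; exact h),
      (by have h := hW 6; rw [show dv 1 6 = (2 : ℤ) from by decide] at h; exact h),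
      (by have h := hW 7; rw [show dv 1 7 = (4 : ℤ) from by decide] at h; exact h),
      (by have h := hA 0 0; rw [show dv 1 0 * Dm 1 0 0 = (-2 : ℤ) from by decide] at h; exact h),
      (by have h := hA 0 1; rw [show dv 1 0 * Dm 1 0 1 = (2 : ℤ) from by decide] at h; exact h),
      (by have h := hA 0 2; rw [show dv 1 0 * Dm 1 0 2 = (0 : ℤ) from by decide] at h; rw [zero_mul] at h; exact h),
      (by have h := hA 0 3; rw [show dv 1 0 * Dm 1 0 3 = (0 : ℤ) from by decide] at h; rw [zero_mul] at h; exact h),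
      (by have h := hA 0 4; rw [show dv 1 0 * Dm 1 0 4 = (0 : ℤ) from by decide] at h; rw [zero_mul] at h; exact h),
      (by have h := hA 0 5; rw [show dv 1 0 * Dm 1 0 5 = (0 : ℤ) from by decide] at h; rw [zero_mul] at h; exact h),
      (by have h := hA 0 6; rw [show dv 1 0 * Dm 1 0 6 = (0 : ℤ) from by decide] at h; rw [zero_mul] at h; exact h),
      (by have h := hA 0 7; rw [show dv 1 0 * Dm 1 0 7 = (0 : ℤ) from by decide] at h; rw [zero_mul] at h; exact h),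
      (by have h := hA 1 1; rw [show dv 1 1 * Dm 1 1 1 = (-4 : ℤ) from by decide] at h; exact h),
      (by have h := hA 1 2; rw [show dv 1 1 * Dm 1 1 2 = (2 : ℤ) from by decide] at h; exact h),
      (by have h := hA 1 3; rw [show dv 1 1 * Dm 1 1 3 = (0 : ℤ) from by decide] at h; rw [zero_mul] at h; exact h),
      (by have h := hA 1 4; rw [show dv 1 1 * Dm 1 1 4 = (0 : ℤ) from by decide] at h; rw [zero_mul] at h; exact h),
      (by have h := hA 1 5; rw [show dv 1 1 * Dm 1 1 5 = (0 : ℤ) from by decide] at h; rw [zero_mul] at h; exact h),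
      (by have h := hA 1 6; rw [show dv 1 1 * Dm 1 1 6 = (0 : ℤ) from by decide] at h; rw [zero_mul] at h; exact h),
      (by have h := hA 1 7; rw [show dv 1 1 * Dm 1 1 7 = (0 : ℤ) from by decide] at h; rw [zero_mul] at h; exact h),
      (by have h := hA 2 2; rw [show dv 1 2 * Dm 1 2 2 = (-4 : ℤ) from by decide] at h; exact h),
      (by have h := hA 2 3; rw [show dv 1 2 * Dm 1 2 3 = (2 : ℤ) from by decide] at h; exact h),
      (by have h := hA 2 4; rw [show dv 1 2 * Dm 1 2 4 = (0 : ℤ) from by decide] at h; rw [zero_mul] at h; exact h),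
      (by have h := hA 2 5; rw [show dv 1 2 * Dm 1 2 5 = (0 : ℤ) from by decide] at h; rw [zero_mul] at h; exact h),
      (by have h := hA 2 6; rw [show dv 1 2 * Dm 1 2 6 = (0 : ℤ) from by decide] at h; rw [zero_mul] at h; exact h),
      (by have h := hA 2 7; rw [show dv 1 2 * Dm 1 2 7 = (0 : ℤ) from by decide] at h; rw [zero_mul] at h; exact h),
      (by have h := hA 3 3; rw [show dv 1 3 * Dm 1 3 3 = (-4 : ℤ) from by decide] at h; exact h),
      (by have h := hA 3 4; rw [show dv 1 3 * Dm 1 3 4 = (2 : ℤ) from by decide] at h; exact h),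
      (by have h := hA 3 5; rw [show dv 1 3 * Dm 1 3 5 = (0 : ℤ) from by decide] at h; rw [zero_mul] at h; exact h),
      (by have h := hA 3 6; rw [show dv 1 3 * Dm 1 3 6 = (0 : ℤ) from by decide] at h; rw [zero_mul] at h; exact h),
      (by have h := hA 3 7; rw [show dv 1 3 * Dm 1 3 7 = (0 : ℤ) from by decide] at h; rw [zero_mul] at h; exact h),
      (by have h := hA 4 4; rw [show dv 1 4 * Dm 1 4 4 = (-4 : ℤ) from by decide] at h; exact h),
      (by have h := hA 4 5; rw [show dv 1 4 * Dm 1 4 5 = (2 : ℤ) from by decide] at h; exact h),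
      (by have h := hA 4 6; rw [show dv 1 4 * Dm 1 4 6 = (0 : ℤ) from by decide] at h; rw [zero_mul] at h; exact h),
      (by have h := hA 4 7; rw [show dv 1 4 * Dm 1 4 7 = (0 : ℤ) from by decide] at h; rw [zero_mul] at h; exact h),
      (by have h := hA 5 5; rw [show dv 1 5 * Dm 1 5 5 = (-4 : ℤ) from by decide] at h; exact h),
      (by have h := hA 5 6; rw [show dv 1 5 * Dm 1 5 6 = (2 : ℤ) from by decide] at h; exact h),
      (by have h := hA 5 7; rw [show dv 1 5 * Dm 1 5 7 = (0 : ℤ) from by decide] at h; rw [zero_mul] at h; exact h),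
      (by have h := hA 6 6; rw [show dv 1 6 * Dm 1 6 6 = (-4 : ℤ) from by decide] at h; exact h),
      (by have h := hA 6 7; rw [show dv 1 6 * Dm 1 6 7 = (4 : ℤ) from by decide] at h; exact h),
      (by have h := hA 7 7; rw [show dv 1 7 * Dm 1 7 7 = (-8 : ℤ) from by decide] at h; exact h)⟩
  · obtain ⟨hM, hW, hA⟩ := Groth.Agent.Lib.Helper24.NumTypeGlue.final T σ (cv 2) (dv 2) (Dm 2) hmatch
      (hker 2 (by norm_num)) (hsym 2 (by norm_num)) 0 0 (by decide) (by decide)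
    refine ⟨σ, T.m (σ 0), T.w (σ 0), ?_⟩
    right; right; left
    exact ⟨rfl,
      (by have h := hM 1; rw [show cv 2 1 = (1 : ℤ) from by decide] at h; rw [one_mul] at h; exact h),
      (by have h := hM 2; rw [show cv 2 2 = (1 : ℤ) from by decide] at h; rw [one_mul] at h; exact h),
      (by have h := hM 3; rw [show cv 2 3 = (1 : ℤ) from by decide] at h; rw [one_mul] at h; exact h),
      (by have h := hM 4; rw [show cv 2 4 = (1 : ℤ) from by decide] at h; rw [one_mul] at h; exact h),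
      (by have h := hM 5; rw [show cv 2 5 = (1 : ℤ) from by decide] at h; rw [one_mul] at h; exact h),
      (by have h := hM 6; rw [show cv 2 6 = (1 : ℤ) from by decide] at h; rw [one_mul] at h; exact h),
      (by have h := hM 7; rw [show cv 2 7 = (1 : ℤ) from by decide] at h; rw [one_mul] at h; exact h),
      rfl,
      (by have h := hW 1; rw [show dv 2 1 = (2 : ℤ) from by decide] at h; exact h),
      (by have h := hW 2; rw [show dv 2 2 = (2 : ℤ) from by decide] at h; exact h),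
      (by have h := hW 3; rw [show dv 2 3 = (2 : ℤ) from by decide] at h; exact h),
      (by have h := hW 4; rw [show dv 2 4 = (2 : ℤ) from by decide] at h; exact h),
      (by have h := hW 5; rw [show dv 2 5 = (2 : ℤ) from by decide] at h; exact h),
      (by have h := hW 6; rw [show dv 2 6 = (2 : ℤ) from by decide] at h; exact h),
      (by have h := hW 7; rw [show dv 2 7 = (1 : ℤ) from by decide] at h; rw [one_mul] at h; exact h),
      (by have h := hA 0 0; rw [show dv 2 0 * Dm 2 0 0 = (-2 : ℤ) from by decide] at h; exact h),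
      (by have h := hA 0 1; rw [show dv 2 0 * Dm 2 0 1 = (2 : ℤ) from by decide] at h; exact h),
      (by have h := hA 0 2; rw [show dv 2 0 * Dm 2 0 2 = (0 : ℤ) from by decide] at h; rw [zero_mul] at h; exact h),
      (by have h := hA 0 3; rw [show dv 2 0 * Dm 2 0 3 = (0 : ℤ) from by decide] at h; rw [zero_mul] at h; exact h),
      (by have h := hA 0 4; rw [show dv 2 0 * Dm 2 0 4 = (0 : ℤ) from by decide] at h; rw [zero_mul] at h; exact h),
      (by have h := hA 0 5; rw [show dv 2 0 * Dm 2 0 5 = (0 : ℤ) from by decide] at h; rw [zero_mul] at h; exact h),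
      (by have h := hA 0 6; rw [show dv 2 0 * Dm 2 0 6 = (0 : ℤ) from by decide] at h; rw [zero_mul] at h; exact h),
      (by have h := hA 0 7; rw [show dv 2 0 * Dm 2 0 7 = (0 : ℤ) from by decide] at h; rw [zero_mul] at h; exact h),
      (by have h := hA 1 1; rw [show dv 2 1 * Dm 2 1 1 = (-4 : ℤ) from by decide] at h; exact h),
      (by have h := hA 1 2; rw [show dv 2 1 * Dm 2 1 2 = (2 : ℤ) from by decide] at h; exact h),
      (by have h := hA 1 3; rw [show dv 2 1 * Dm 2 1 3 = (0 : ℤ) from by decide] at h; rw [zero_mul] at h; exact h),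
      (by have h := hA 1 4; rw [show dv 2 1 * Dm 2 1 4 = (0 : ℤ) from by decide] at h; rw [zero_mul] at h; exact h),
      (by have h := hA 1 5; rw [show dv 2 1 * Dm 2 1 5 = (0 : ℤ) from by decide] at h; rw [zero_mul] at h; exact h),
      (by have h := hA 1 6; rw [show dv 2 1 * Dm 2 1 6 = (0 : ℤ) from by decide] at h; rw [zero_mul] at h; exact h),
      (by have h := hA 1 7; rw [show dv 2 1 * Dm 2 1 7 = (0 : ℤ) from by decide] at h; rw [zero_mul] at h; exact h),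
      (by have h := hA 2 2; rw [show dv 2 2 * Dm 2 2 2 = (-4 : ℤ) from by decide] at h; exact h),
      (by have h := hA 2 3; rw [show dv 2 2 * Dm 2 2 3 = (2 : ℤ) from by decide] at h; exact h),
      (by have h := hA 2 4; rw [show dv 2 2 * Dm 2 2 4 = (0 : ℤ) from by decide] at h; rw [zero_mul] at h; exact h),
      (by have h := hA 2 5; rw [show dv 2 2 * Dm 2 2 5 = (0 : ℤ) from by decide] at h; rw [zero_mul] at h; exact h),
      (by have h := hA 2 6; rw [show dv 2 2 * Dm 2 2 6 = (0 : ℤ) from by decide] at h; rw [zero_mul] at h; exact h),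
      (by have h := hA 2 7; rw [show dv 2 2 * Dm 2 2 7 = (0 : ℤ) from by decide] at h; rw [zero_mul] at h; exact h),
      (by have h := hA 3 3; rw [show dv 2 3 * Dm 2 3 3 = (-4 : ℤ) from by decide] at h; exact h),
      (by have h := hA 3 4; rw [show dv 2 3 * Dm 2 3 4 = (2 : ℤ) from by decide] at h; exact h),
      (by have h := hA 3 5; rw [show dv 2 3 * Dm 2 3 5 = (0 : ℤ) from by decide] at h; rw [zero_mul] at h; exact h),
      (by have h := hA 3 6; rw [show dv 2 3 * Dm 2 3 6 = (0 : ℤ) from by decide] at h; rw [zero_mul] at h; exact h),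
      (by have h := hA 3 7; rw [show dv 2 3 * Dm 2 3 7 = (0 : ℤ) from by decide] at h; rw [zero_mul] at h; exact h),
      (by have h := hA 4 4; rw [show dv 2 4 * Dm 2 4 4 = (-4 : ℤ) from by decide] at h; exact h),
      (by have h := hA 4 5; rw [show dv 2 4 * Dm 2 4 5 = (2 : ℤ) from by decide] at h; exact h),
      (by have h := hA 4 6; rw [show dv 2 4 * Dm 2 4 6 = (0 : ℤ) from by decide] at h; rw [zero_mul] at h; exact h),
      (by have h := hA 4 7; rw [show dv 2 4 * Dm 2 4 7 = (0 : ℤ) from by decide] at h; rw [zero_mul] at h; exact h),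
      (by have h := hA 5 5; rw [show dv 2 5 * Dm 2 5 5 = (-4 : ℤ) from by decide] at h; exact h),
      (by have h := hA 5 6; rw [show dv 2 5 * Dm 2 5 6 = (2 : ℤ) from by decide] at h; exact h),
      (by have h := hA 5 7; rw [show dv 2 5 * Dm 2 5 7 = (0 : ℤ) from by decide] at h; rw [zero_mul] at h; exact h),
      (by have h := hA 6 6; rw [show dv 2 6 * Dm 2 6 6 = (-4 : ℤ) from by decide] at h; exact h),
      (by have h := hA 6 7; rw [show dv 2 6 * Dm 2 6 7 = (2 : ℤ) from by decide] at h; exact h),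
      (by have h := hA 7 7; rw [show dv 2 7 * Dm 2 7 7 = (-2 : ℤ) from by decide] at h; exact h)⟩
  · obtain ⟨hM, hW, hA⟩ := Groth.Agent.Lib.Helper24.NumTypeGlue.final T σ (cv 3) (dv 3) (Dm 3) hmatch
      (hker 3 (by norm_num)) (hsym 3 (by norm_num)) 0 1 (by decide) (by decide)
    refine ⟨σ, T.m (σ 0), T.w (σ 1), ?_⟩
    right; right; right; left
    exact ⟨rfl,
      (by have h := hM 1; rw [show cv 3 1 = (2 : ℤ) from by decide] at h; exact h),
      (by have h := hM 2; rw [show cv 3 2 = (2 : ℤ) from by decide] at h; exact h),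
      (by have h := hM 3; rw [show cv 3 3 = (2 : ℤ) from by decide] at h; exact h),
      (by have h := hM 4; rw [show cv 3 4 = (2 : ℤ) from by decide] at h; exact h),
      (by have h := hM 5; rw [show cv 3 5 = (2 : ℤ) from by decide] at h; exact h),
      (by have h := hM 6; rw [show cv 3 6 = (2 : ℤ) from by decide] at h; exact h),
      (by have h := hM 7; rw [show cv 3 7 = (1 : ℤ) from by decide] at h; rw [one_mul] at h; exact h),
      (by have h := hW 0; rw [show dv 3 0 = (2 : ℤ) from by decide] at h; exact h),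
      rfl,
      (by have h := hW 2; rw [show dv 3 2 = (1 : ℤ) from by decide] at h; rw [one_mul] at h; exact h),
      (by have h := hW 3; rw [show dv 3 3 = (1 : ℤ) from by decide] at h; rw [one_mul] at h; exact h),
      (by have h := hW 4; rw [show dv 3 4 = (1 : ℤ) from by decide] at h; rw [one_mul] at h; exact h),
      (by have h := hW 5; rw [show dv 3 5 = (1 : ℤ) from by decide] at h; rw [one_mul] at h; exact h),
      (by have h := hW 6; rw [show dv 3 6 = (1 : ℤ) from by decide] at h; rw [one_mul] at h; exact h),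
      (by have h := hW 7; rw [show dv 3 7 = (2 : ℤ) from by decide] at h; exact h),
      (by have h := hA 0 0; rw [show dv 3 0 * Dm 3 0 0 = (-4 : ℤ) from by decide] at h; exact h),
      (by have h := hA 0 1; rw [show dv 3 0 * Dm 3 0 1 = (2 : ℤ) from by decide] at h; exact h),
      (by have h := hA 0 2; rw [show dv 3 0 * Dm 3 0 2 = (0 : ℤ) from by decide] at h; rw [zero_mul] at h; exact h),
      (by have h := hA 0 3; rw [show dv 3 0 * Dm 3 0 3 = (0 : ℤ) from by decide] at h; rw [zero_mul] at h; exact h),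
      (by have h := hA 0 4; rw [show dv 3 0 * Dm 3 0 4 = (0 : ℤ) from by decide] at h; rw [zero_mul] at h; exact h),
      (by have h := hA 0 5; rw [show dv 3 0 * Dm 3 0 5 = (0 : ℤ) from by decide] at h; rw [zero_mul] at h; exact h),
      (by have h := hA 0 6; rw [show dv 3 0 * Dm 3 0 6 = (0 : ℤ) from by decide] at h; rw [zero_mul] at h; exact h),
      (by have h := hA 0 7; rw [show dv 3 0 * Dm 3 0 7 = (0 : ℤ) from by decide] at h; rw [zero_mul] at h; exact h),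
      (by have h := hA 1 1; rw [show dv 3 1 * Dm 3 1 1 = (-2 : ℤ) from by decide] at h; exact h),
      (by have h := hA 1 2; rw [show dv 3 1 * Dm 3 1 2 = (1 : ℤ) from by decide] at h; rw [one_mul] at h; exact h),
      (by have h := hA 1 3; rw [show dv 3 1 * Dm 3 1 3 = (0 : ℤ) from by decide] at h; rw [zero_mul] at h; exact h),
      (by have h := hA 1 4; rw [show dv 3 1 * Dm 3 1 4 = (0 : ℤ) from by decide] at h; rw [zero_mul] at h; exact h),
      (by have h := hA 1 5; rw [show dv 3 1 * Dm 3 1 5 = (0 : ℤ) from by decide] at h; rw [zero_mul] at h; exact h),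
      (by have h := hA 1 6; rw [show dv 3 1 * Dm 3 1 6 = (0 : ℤ) from by decide] at h; rw [zero_mul] at h; exact h),
      (by have h := hA 1 7; rw [show dv 3 1 * Dm 3 1 7 = (0 : ℤ) from by decide] at h; rw [zero_mul] at h; exact h),
      (by have h := hA 2 2; rw [show dv 3 2 * Dm 3 2 2 = (-2 : ℤ) from by decide] at h; exact h),
      (by have h := hA 2 3; rw [show dv 3 2 * Dm 3 2 3 = (1 : ℤ) from by decide] at h; rw [one_mul] at h; exact h),
      (by have h := hA 2 4; rw [show dv 3 2 * Dm 3 2 4 = (0 : ℤ) from by decide] at h; rw [zero_mul] at h; exact h),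
      (by have h := hA 2 5; rw [show dv 3 2 * Dm 3 2 5 = (0 : ℤ) from by decide] at h; rw [zero_mul] at h; exact h),
      (by have h := hA 2 6; rw [show dv 3 2 * Dm 3 2 6 = (0 : ℤ) from by decide] at h; rw [zero_mul] at h; exact h),
      (by have h := hA 2 7; rw [show dv 3 2 * Dm 3 2 7 = (0 : ℤ) from by decide] at h; rw [zero_mul] at h; exact h),
      (by have h := hA 3 3; rw [show dv 3 3 * Dm 3 3 3 = (-2 : ℤ) from by decide] at h; exact h),
      (by have h := hA 3 4; rw [show dv 3 3 * Dm 3 3 4 = (1 : ℤ) from by decide] at h; rw [one_mul] at h; exact h),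
      (by have h := hA 3 5; rw [show dv 3 3 * Dm 3 3 5 = (0 : ℤ) from by decide] at h; rw [zero_mul] at h; exact h),
      (by have h := hA 3 6; rw [show dv 3 3 * Dm 3 3 6 = (0 : ℤ) from by decide] at h; rw [zero_mul] at h; exact h),
      (by have h := hA 3 7; rw [show dv 3 3 * Dm 3 3 7 = (0 : ℤ) from by decide] at h; rw [zero_mul] at h; exact h),
      (by have h := hA 4 4; rw [show dv 3 4 * Dm 3 4 4 = (-2 : ℤ) from by decide] at h; exact h),
      (by have h := hA 4 5; rw [show dv 3 4 * Dm 3 4 5 = (1 : ℤ) from by decide] at h; rw [one_mul] at h; exact h),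
      (by have h := hA 4 6; rw [show dv 3 4 * Dm 3 4 6 = (0 : ℤ) from by decide] at h; rw [zero_mul] at h; exact h),
      (by have h := hA 4 7; rw [show dv 3 4 * Dm 3 4 7 = (0 : ℤ) from by decide] at h; rw [zero_mul] at h; exact h),
      (by have h := hA 5 5; rw [show dv 3 5 * Dm 3 5 5 = (-2 : ℤ) from by decide] at h; exact h),
      (by have h := hA 5 6; rw [show dv 3 5 * Dm 3 5 6 = (1 : ℤ) from by decide] at h; rw [one_mul] at h; exact h),
      (by have h := hA 5 7; rw [show dv 3 5 * Dm 3 5 7 = (0 : ℤ) from by decide] at h; rw [zero_mul] at h; exact h),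
      (by have h := hA 6 6; rw [show dv 3 6 * Dm 3 6 6 = (-2 : ℤ) from by decide] at h; exact h),
      (by have h := hA 6 7; rw [show dv 3 6 * Dm 3 6 7 = (2 : ℤ) from by decide] at h; exact h),
      (by have h := hA 7 7; rw [show dv 3 7 * Dm 3 7 7 = (-4 : ℤ) from by decide] at h; exact h)⟩
  · obtain ⟨hM, hW, hA⟩ := Groth.Agent.Lib.Helper24.NumTypeGlue.final T σ (cv 4) (dv 4) (Dm 4) hmatch
      (hker 4 (by norm_num)) (hsym 4 (by norm_num)) 0 1 (by decide) (by decide)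
    refine ⟨σ, T.m (σ 0), T.w (σ 1), ?_⟩
    right; right; right; right; left
    exact ⟨rfl,
      (by have h := hM 1; rw [show cv 4 1 = (2 : ℤ) from by decide] at h; exact h),
      (by have h := hM 2; rw [show cv 4 2 = (2 : ℤ) from by decide] at h; exact h),
      (by have h := hM 3; rw [show cv 4 3 = (2 : ℤ) from by decide] at h; exact h),
      (by have h := hM 4; rw [show cv 4 4 = (2 : ℤ) from by decide] at h; exact h),
      (by have h := hM 5; rw [show cv 4 5 = (2 : ℤ) from by decide] at h; exact h),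
      (by have h := hM 6; rw [show cv 4 6 = (1 : ℤ) from by decide] at h; rw [one_mul] at h; exact h),
      (by have h := hM 7; rw [show cv 4 7 = (1 : ℤ) from by decide] at h; rw [one_mul] at h; exact h),
      (by have h := hW 0; rw [show dv 4 0 = (2 : ℤ) from by decide] at h; exact h),
      rfl,
      (by have h := hW 2; rw [show dv 4 2 = (1 : ℤ) from by decide] at h; rw [one_mul] at h; exact h),
      (by have h := hW 3; rw [show dv 4 3 = (1 : ℤ) from by decide] at h; rw [one_mul] at h; exact h),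
      (by have h := hW 4; rw [show dv 4 4 = (1 : ℤ) from by decide] at h; rw [one_mul] at h; exact h),
      (by have h := hW 5; rw [show dv 4 5 = (1 : ℤ) from by decide] at h; rw [one_mul] at h; exact h),
      (by have h := hW 6; rw [show dv 4 6 = (1 : ℤ) from by decide] at h; rw [one_mul] at h; exact h),
      (by have h := hW 7; rw [show dv 4 7 = (1 : ℤ) from by decide] at h; rw [one_mul] at h; exact h),
      (by have h := hA 0 0; rw [show dv 4 0 * Dm 4 0 0 = (-4 : ℤ) from by decide] at h; exact h),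
      (by have h := hA 0 1; rw [show dv 4 0 * Dm 4 0 1 = (2 : ℤ) from by decide] at h; exact h),
      (by have h := hA 0 2; rw [show dv 4 0 * Dm 4 0 2 = (0 : ℤ) from by decide] at h; rw [zero_mul] at h; exact h),
      (by have h := hA 0 3; rw [show dv 4 0 * Dm 4 0 3 = (0 : ℤ) from by decide] at h; rw [zero_mul] at h; exact h),
      (by have h := hA 0 4; rw [show dv 4 0 * Dm 4 0 4 = (0 : ℤ) from by decide] at h; rw [zero_mul] at h; exact h),
      (by have h := hA 0 5; rw [show dv 4 0 * Dm 4 0 5 = (0 : ℤ) from by decide] at h; rw [zero_mul] at h; exact h),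
      (by have h := hA 0 6; rw [show dv 4 0 * Dm 4 0 6 = (0 : ℤ) from by decide] at h; rw [zero_mul] at h; exact h),
      (by have h := hA 0 7; rw [show dv 4 0 * Dm 4 0 7 = (0 : ℤ) from by decide] at h; rw [zero_mul] at h; exact h),
      (by have h := hA 1 1; rw [show dv 4 1 * Dm 4 1 1 = (-2 : ℤ) from by decide] at h; exact h),
      (by have h := hA 1 2; rw [show dv 4 1 * Dm 4 1 2 = (1 : ℤ) from by decide] at h; rw [one_mul] at h; exact h),
      (by have h := hA 1 3; rw [show dv 4 1 * Dm 4 1 3 = (0 : ℤ) from by decide] at h; rw [zero_mul] at h; exact h),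
      (by have h := hA 1 4; rw [show dv 4 1 * Dm 4 1 4 = (0 : ℤ) from by decide] at h; rw [zero_mul] at h; exact h),
      (by have h := hA 1 5; rw [show dv 4 1 * Dm 4 1 5 = (0 : ℤ) from by decide] at h; rw [zero_mul] at h; exact h),
      (by have h := hA 1 6; rw [show dv 4 1 * Dm 4 1 6 = (0 : ℤ) from by decide] at h; rw [zero_mul] at h; exact h),
      (by have h := hA 1 7; rw [show dv 4 1 * Dm 4 1 7 = (0 : ℤ) from by decide] at h; rw [zero_mul] at h; exact h),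
      (by have h := hA 2 2; rw [show dv 4 2 * Dm 4 2 2 = (-2 : ℤ) from by decide] at h; exact h),
      (by have h := hA 2 3; rw [show dv 4 2 * Dm 4 2 3 = (1 : ℤ) from by decide] at h; rw [one_mul] at h; exact h),
      (by have h := hA 2 4; rw [show dv 4 2 * Dm 4 2 4 = (0 : ℤ) from by decide] at h; rw [zero_mul] at h; exact h),
      (by have h := hA 2 5; rw [show dv 4 2 * Dm 4 2 5 = (0 : ℤ) from by decide] at h; rw [zero_mul] at h; exact h),
      (by have h := hA 2 6; rw [show dv 4 2 * Dm 4 2 6 = (0 : ℤ) from by decide] at h; rw [zero_mul] at h; exact h),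
      (by have h := hA 2 7; rw [show dv 4 2 * Dm 4 2 7 = (0 : ℤ) from by decide] at h; rw [zero_mul] at h; exact h),
      (by have h := hA 3 3; rw [show dv 4 3 * Dm 4 3 3 = (-2 : ℤ) from by decide] at h; exact h),
      (by have h := hA 3 4; rw [show dv 4 3 * Dm 4 3 4 = (1 : ℤ) from by decide] at h; rw [one_mul] at h; exact h),
      (by have h := hA 3 5; rw [show dv 4 3 * Dm 4 3 5 = (0 : ℤ) from by decide] at h; rw [zero_mul] at h; exact h),
      (by have h := hA 3 6; rw [show dv 4 3 * Dm 4 3 6 = (0 : ℤ) from by decide] at h; rw [zero_mul] at h; exact h),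
      (by have h := hA 3 7; rw [show dv 4 3 * Dm 4 3 7 = (0 : ℤ) from by decide] at h; rw [zero_mul] at h; exact h),
      (by have h := hA 4 4; rw [show dv 4 4 * Dm 4 4 4 = (-2 : ℤ) from by decide] at h; exact h),
      (by have h := hA 4 5; rw [show dv 4 4 * Dm 4 4 5 = (1 : ℤ) from by decide] at h; rw [one_mul] at h; exact h),
      (by have h := hA 4 6; rw [show dv 4 4 * Dm 4 4 6 = (0 : ℤ) from by decide] at h; rw [zero_mul] at h; exact h),
      (by have h := hA 4 7; rw [show dv 4 4 * Dm 4 4 7 = (0 : ℤ) from by decide] at h; rw [zero_mul] at h; exact h),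
      (by have h := hA 5 5; rw [show dv 4 5 * Dm 4 5 5 = (-2 : ℤ) from by decide] at h; exact h),
      (by have h := hA 5 6; rw [show dv 4 5 * Dm 4 5 6 = (1 : ℤ) from by decide] at h; rw [one_mul] at h; exact h),
      (by have h := hA 5 7; rw [show dv 4 5 * Dm 4 5 7 = (1 : ℤ) from by decide] at h; rw [one_mul] at h; exact h),
      (by have h := hA 6 6; rw [show dv 4 6 * Dm 4 6 6 = (-2 : ℤ) from by decide] at h; exact h),
      (by have h := hA 6 7; rw [show dv 4 6 * Dm 4 6 7 = (0 : ℤ) from by decide] at h; rw [zero_mul] at h; exact h),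
      (by have h := hA 7 7; rw [show dv 4 7 * Dm 4 7 7 = (-2 : ℤ) from by decide] at h; exact h)⟩
  · obtain ⟨hM, hW, hA⟩ := Groth.Agent.Lib.Helper24.NumTypeGlue.final T σ (cv 5) (dv 5) (Dm 5) hmatch
      (hker 5 (by norm_num)) (hsym 5 (by norm_num)) 6 0 (by decide) (by decide)
    refine ⟨σ, T.m (σ 6), T.w (σ 0), ?_⟩
    right; right; right; right; right; left
    exact ⟨(by have h := hM 0; rw [show cv 5 0 = (2 : ℤ) from by decide] at h; exact h),
      (by have h := hM 1; rw [show cv 5 1 = (2 : ℤ) from by decide] at h; exact h),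
      (by have h := hM 2; rw [show cv 5 2 = (2 : ℤ) from by decide] at h; exact h),
      (by have h := hM 3; rw [show cv 5 3 = (2 : ℤ) from by decide] at h; exact h),
      (by have h := hM 4; rw [show cv 5 4 = (2 : ℤ) from by decide] at h; exact h),
      (by have h := hM 5; rw [show cv 5 5 = (2 : ℤ) from by decide] at h; exact h),
      rfl,
      (by have h := hM 7; rw [show cv 5 7 = (1 : ℤ) from by decide] at h; rw [one_mul] at h; exact h),
      rfl,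
      (by have h := hW 1; rw [show dv 5 1 = (2 : ℤ) from by decide] at h; exact h),
      (by have h := hW 2; rw [show dv 5 2 = (2 : ℤ) from by decide] at h; exact h),
      (by have h := hW 3; rw [show dv 5 3 = (2 : ℤ) from by decide] at h; exact h),
      (by have h := hW 4; rw [show dv 5 4 = (2 : ℤ) from by decide] at h; exact h),
      (by have h := hW 5; rw [show dv 5 5 = (2 : ℤ) from by decide] at h; exact h),
      (by have h := hW 6; rw [show dv 5 6 = (2 : ℤ) from by decide] at h; exact h),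
      (by have h := hW 7; rw [show dv 5 7 = (2 : ℤ) from by decide] at h; exact h),
      (by have h := hA 0 0; rw [show dv 5 0 * Dm 5 0 0 = (-2 : ℤ) from by decide] at h; exact h),
      (by have h := hA 0 1; rw [show dv 5 0 * Dm 5 0 1 = (2 : ℤ) from by decide] at h; exact h),
      (by have h := hA 0 2; rw [show dv 5 0 * Dm 5 0 2 = (0 : ℤ) from by decide] at h; rw [zero_mul] at h; exact h),
      (by have h := hA 0 3; rw [show dv 5 0 * Dm 5 0 3 = (0 : ℤ) from by decide] at h; rw [zero_mul] at h; exact h),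
      (by have h := hA 0 4; rw [show dv 5 0 * Dm 5 0 4 = (0 : ℤ) from by decide] at h; rw [zero_mul] at h; exact h),
      (by have h := hA 0 5; rw [show dv 5 0 * Dm 5 0 5 = (0 : ℤ) from by decide] at h; rw [zero_mul] at h; exact h),
      (by have h := hA 0 6; rw [show dv 5 0 * Dm 5 0 6 = (0 : ℤ) from by decide] at h; rw [zero_mul] at h; exact h),
      (by have h := hA 0 7; rw [show dv 5 0 * Dm 5 0 7 = (0 : ℤ) from by decide] at h; rw [zero_mul] at h; exact h),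
      (by have h := hA 1 1; rw [show dv 5 1 * Dm 5 1 1 = (-4 : ℤ) from by decide] at h; exact h),
      (by have h := hA 1 2; rw [show dv 5 1 * Dm 5 1 2 = (2 : ℤ) from by decide] at h; exact h),
      (by have h := hA 1 3; rw [show dv 5 1 * Dm 5 1 3 = (0 : ℤ) from by decide] at h; rw [zero_mul] at h; exact h),
      (by have h := hA 1 4; rw [show dv 5 1 * Dm 5 1 4 = (0 : ℤ) from by decide] at h; rw [zero_mul] at h; exact h),
      (by have h := hA 1 5; rw [show dv 5 1 * Dm 5 1 5 = (0 : ℤ) from by decide] at h; rw [zero_mul] at h; exact h),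
      (by have h := hA 1 6; rw [show dv 5 1 * Dm 5 1 6 = (0 : ℤ) from by decide] at h; rw [zero_mul] at h; exact h),
      (by have h := hA 1 7; rw [show dv 5 1 * Dm 5 1 7 = (0 : ℤ) from by decide] at h; rw [zero_mul] at h; exact h),
      (by have h := hA 2 2; rw [show dv 5 2 * Dm 5 2 2 = (-4 : ℤ) from by decide] at h; exact h),
      (by have h := hA 2 3; rw [show dv 5 2 * Dm 5 2 3 = (2 : ℤ) from by decide] at h; exact h),
      (by have h := hA 2 4; rw [show dv 5 2 * Dm 5 2 4 = (0 : ℤ) from by decide] at h; rw [zero_mul] at h; exact h),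
      (by have h := hA 2 5; rw [show dv 5 2 * Dm 5 2 5 = (0 : ℤ) from by decide] at h; rw [zero_mul] at h; exact h),
      (by have h := hA 2 6; rw [show dv 5 2 * Dm 5 2 6 = (0 : ℤ) from by decide] at h; rw [zero_mul] at h; exact h),
      (by have h := hA 2 7; rw [show dv 5 2 * Dm 5 2 7 = (0 : ℤ) from by decide] at h; rw [zero_mul] at h; exact h),
      (by have h := hA 3 3; rw [show dv 5 3 * Dm 5 3 3 = (-4 : ℤ) from by decide] at h; exact h),
      (by have h := hA 3 4; rw [show dv 5 3 * Dm 5 3 4 = (2 : ℤ) from by decide] at h; exact h),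
      (by have h := hA 3 5; rw [show dv 5 3 * Dm 5 3 5 = (0 : ℤ) from by decide] at h; rw [zero_mul] at h; exact h),
      (by have h := hA 3 6; rw [show dv 5 3 * Dm 5 3 6 = (0 : ℤ) from by decide] at h; rw [zero_mul] at h; exact h),
      (by have h := hA 3 7; rw [show dv 5 3 * Dm 5 3 7 = (0 : ℤ) from by decide] at h; rw [zero_mul] at h; exact h),
      (by have h := hA 4 4; rw [show dv 5 4 * Dm 5 4 4 = (-4 : ℤ) from by decide] at h; exact h),
      (by have h := hA 4 5; rw [show dv 5 4 * Dm 5 4 5 = (2 : ℤ) from by decide] at h; exact h),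
      (by have h := hA 4 6; rw [show dv 5 4 * Dm 5 4 6 = (0 : ℤ) from by decide] at h; rw [zero_mul] at h; exact h),
      (by have h := hA 4 7; rw [show dv 5 4 * Dm 5 4 7 = (0 : ℤ) from by decide] at h; rw [zero_mul] at h; exact h),
      (by have h := hA 5 5; rw [show dv 5 5 * Dm 5 5 5 = (-4 : ℤ) from by decide] at h; exact h),
      (by have h := hA 5 6; rw [show dv 5 5 * Dm 5 5 6 = (2 : ℤ) from by decide] at h; exact h),
      (by have h := hA 5 7; rw [show dv 5 5 * Dm 5 5 7 = (2 : ℤ) from by decide] at h; exact h),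
      (by have h := hA 6 6; rw [show dv 5 6 * Dm 5 6 6 = (-4 : ℤ) from by decide] at h; exact h),
      (by have h := hA 6 7; rw [show dv 5 6 * Dm 5 6 7 = (0 : ℤ) from by decide] at h; rw [zero_mul] at h; exact h),
      (by have h := hA 7 7; rw [show dv 5 7 * Dm 5 7 7 = (-4 : ℤ) from by decide] at h; exact h)⟩
  · obtain ⟨hM, hW, hA⟩ := Groth.Agent.Lib.Helper24.NumTypeGlue.final T σ (cv 6) (dv 6) (Dm 6) hmatch
      (hker 6 (by norm_num)) (hsym 6 (by norm_num)) 0 0 (by decide) (by decide)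
    refine ⟨σ, T.m (σ 0), T.w (σ 0), ?_⟩
    right; right; right; right; right; right; left
    exact ⟨rfl,
      (by have h := hM 1; rw [show cv 6 1 = (1 : ℤ) from by decide] at h; rw [one_mul] at h; exact h),
      (by have h := hM 2; rw [show cv 6 2 = (2 : ℤ) from by decide] at h; exact h),
      (by have h := hM 3; rw [show cv 6 3 = (2 : ℤ) from by decide] at h; exact h),
      (by have h := hM 4; rw [show cv 6 4 = (2 : ℤ) from by decide] at h; exact h),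
      (by have h := hM 5; rw [show cv 6 5 = (2 : ℤ) from by decide] at h; exact h),
      (by have h := hM 6; rw [show cv 6 6 = (1 : ℤ) from by decide] at h; rw [one_mul] at h; exact h),
      (by have h := hM 7; rw [show cv 6 7 = (1 : ℤ) from by decide] at h; rw [one_mul] at h; exact h),
      rfl,
      (by have h := hW 1; rw [show dv 6 1 = (1 : ℤ) from by decide] at h; rw [one_mul] at h; exact h),
      (by have h := hW 2; rw [show dv 6 2 = (1 : ℤ) from by decide] at h; rw [one_mul] at h; exact h),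
      (by have h := hW 3; rw [show dv 6 3 = (1 : ℤ) from by decide] at h; rw [one_mul] at h; exact h),
      (by have h := hW 4; rw [show dv 6 4 = (1 : ℤ) from by decide] at h; rw [one_mul] at h; exact h),
      (by have h := hW 5; rw [show dv 6 5 = (1 : ℤ) from by decide] at h; rw [one_mul] at h; exact h),
      (by have h := hW 6; rw [show dv 6 6 = (1 : ℤ) from by decide] at h; rw [one_mul] at h; exact h),
      (by have h := hW 7; rw [show dv 6 7 = (1 : ℤ) from by decide] at h; rw [one_mul] at h; exact h),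
      (by have h := hA 0 0; rw [show dv 6 0 * Dm 6 0 0 = (-2 : ℤ) from by decide] at h; exact h),
      (by have h := hA 0 1; rw [show dv 6 0 * Dm 6 0 1 = (0 : ℤ) from by decide] at h; rw [zero_mul] at h; exact h),
      (by have h := hA 0 2; rw [show dv 6 0 * Dm 6 0 2 = (1 : ℤ) from by decide] at h; rw [one_mul] at h; exact h),
      (by have h := hA 0 3; rw [show dv 6 0 * Dm 6 0 3 = (0 : ℤ) from by decide] at h; rw [zero_mul] at h; exact h),
      (by have h := hA 0 4; rw [show dv 6 0 * Dm 6 0 4 = (0 : ℤ) from by decide] at h; rw [zero_mul] at h; exact h),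
      (by have h := hA 0 5; rw [show dv 6 0 * Dm 6 0 5 = (0 : ℤ) from by decide] at h; rw [zero_mul] at h; exact h),
      (by have h := hA 0 6; rw [show dv 6 0 * Dm 6 0 6 = (0 : ℤ) from by decide] at h; rw [zero_mul] at h; exact h),
      (by have h := hA 0 7; rw [show dv 6 0 * Dm 6 0 7 = (0 : ℤ) from by decide] at h; rw [zero_mul] at h; exact h),
      (by have h := hA 1 1; rw [show dv 6 1 * Dm 6 1 1 = (-2 : ℤ) from by decide] at h; exact h),
      (by have h := hA 1 2; rw [show dv 6 1 * Dm 6 1 2 = (1 : ℤ) from by decide] at h; rw [one_mul] at h; exact h),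
      (by have h := hA 1 3; rw [show dv 6 1 * Dm 6 1 3 = (0 : ℤ) from by decide] at h; rw [zero_mul] at h; exact h),
      (by have h := hA 1 4; rw [show dv 6 1 * Dm 6 1 4 = (0 : ℤ) from by decide] at h; rw [zero_mul] at h; exact h),
      (by have h := hA 1 5; rw [show dv 6 1 * Dm 6 1 5 = (0 : ℤ) from by decide] at h; rw [zero_mul] at h; exact h),
      (by have h := hA 1 6; rw [show dv 6 1 * Dm 6 1 6 = (0 : ℤ) from by decide] at h; rw [zero_mul] at h; exact h),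
      (by have h := hA 1 7; rw [show dv 6 1 * Dm 6 1 7 = (0 : ℤ) from by decide] at h; rw [zero_mul] at h; exact h),
      (by have h := hA 2 2; rw [show dv 6 2 * Dm 6 2 2 = (-2 : ℤ) from by decide] at h; exact h),
      (by have h := hA 2 3; rw [show dv 6 2 * Dm 6 2 3 = (1 : ℤ) from by decide] at h; rw [one_mul] at h; exact h),
      (by have h := hA 2 4; rw [show dv 6 2 * Dm 6 2 4 = (0 : ℤ) from by decide] at h; rw [zero_mul] at h; exact h),
      (by have h := hA 2 5; rw [show dv 6 2 * Dm 6 2 5 = (0 : ℤ) from by decide] at h; rw [zero_mul] at h; exact h),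
      (by have h := hA 2 6; rw [show dv 6 2 * Dm 6 2 6 = (0 : ℤ) from by decide] at h; rw [zero_mul] at h; exact h),
      (by have h := hA 2 7; rw [show dv 6 2 * Dm 6 2 7 = (0 : ℤ) from by decide] at h; rw [zero_mul] at h; exact h),
      (by have h := hA 3 3; rw [show dv 6 3 * Dm 6 3 3 = (-2 : ℤ) from by decide] at h; exact h),
      (by have h := hA 3 4; rw [show dv 6 3 * Dm 6 3 4 = (1 : ℤ) from by decide] at h; rw [one_mul] at h; exact h),
      (by have h := hA 3 5; rw [show dv 6 3 * Dm 6 3 5 = (0 : ℤ) from by decide] at h; rw [zero_mul] at h; exact h),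
      (by have h := hA 3 6; rw [show dv 6 3 * Dm 6 3 6 = (0 : ℤ) from by decide] at h; rw [zero_mul] at h; exact h),
      (by have h := hA 3 7; rw [show dv 6 3 * Dm 6 3 7 = (0 : ℤ) from by decide] at h; rw [zero_mul] at h; exact h),
      (by have h := hA 4 4; rw [show dv 6 4 * Dm 6 4 4 = (-2 : ℤ) from by decide] at h; exact h),
      (by have h := hA 4 5; rw [show dv 6 4 * Dm 6 4 5 = (1 : ℤ) from by decide] at h; rw [one_mul] at h; exact h),
      (by have h := hA 4 6; rw [show dv 6 4 * Dm 6 4 6 = (0 : ℤ) from by decide] at h; rw [zero_mul] at h; exact h),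
      (by have h := hA 4 7; rw [show dv 6 4 * Dm 6 4 7 = (0 : ℤ) from by decide] at h; rw [zero_mul] at h; exact h),
      (by have h := hA 5 5; rw [show dv 6 5 * Dm 6 5 5 = (-2 : ℤ) from by decide] at h; exact h),
      (by have h := hA 5 6; rw [show dv 6 5 * Dm 6 5 6 = (1 : ℤ) from by decide] at h; rw [one_mul] at h; exact h),
      (by have h := hA 5 7; rw [show dv 6 5 * Dm 6 5 7 = (1 : ℤ) from by decide] at h; rw [one_mul] at h; exact h),
      (by have h := hA 6 6; rw [show dv 6 6 * Dm 6 6 6 = (-2 : ℤ) from by decide] at h; exact h),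
      (by have h := hA 6 7; rw [show dv 6 6 * Dm 6 6 7 = (0 : ℤ) from by decide] at h; rw [zero_mul] at h; exact h),
      (by have h := hA 7 7; rw [show dv 6 7 * Dm 6 7 7 = (-2 : ℤ) from by decide] at h; exact h)⟩
  · obtain ⟨hM, hW, hA⟩ := Groth.Agent.Lib.Helper24.NumTypeGlue.final T σ (cv 7) (dv 7) (Dm 7) hmatch
      (hker 7 (by norm_num)) (hsym 7 (by norm_num)) 0 0 (by decide) (by decide)
    refine ⟨σ, T.m (σ 0), T.w (σ 0), ?_⟩
    right; right; right; right; right; right; right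
    exact ⟨rfl,
      (by have h := hM 1; rw [show cv 7 1 = (2 : ℤ) from by decide] at h; exact h),
      (by have h := hM 2; rw [show cv 7 2 = (3 : ℤ) from by decide] at h; exact h),
      (by have h := hM 3; rw [show cv 7 3 = (4 : ℤ) from by decide] at h; exact h),
      (by have h := hM 4; rw [show cv 7 4 = (3 : ℤ) from by decide] at h; exact h),
      (by have h := hM 5; rw [show cv 7 5 = (2 : ℤ) from by decide] at h; exact h),
      (by have h := hM 6; rw [show cv 7 6 = (1 : ℤ) from by decide] at h; rw [one_mul] at h; exact h),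
      (by have h := hM 7; rw [show cv 7 7 = (2 : ℤ) from by decide] at h; exact h),
      rfl,
      (by have h := hW 1; rw [show dv 7 1 = (1 : ℤ) from by decide] at h; rw [one_mul] at h; exact h),
      (by have h := hW 2; rw [show dv 7 2 = (1 : ℤ) from by decide] at h; rw [one_mul] at h; exact h),
      (by have h := hW 3; rw [show dv 7 3 = (1 : ℤ) from by decide] at h; rw [one_mul] at h; exact h),
      (by have h := hW 4; rw [show dv 7 4 = (1 : ℤ) from by decide] at h; rw [one_mul] at h; exact h),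
      (by have h := hW 5; rw [show dv 7 5 = (1 : ℤ) from by decide] at h; rw [one_mul] at h; exact h),
      (by have h := hW 6; rw [show dv 7 6 = (1 : ℤ) from by decide] at h; rw [one_mul] at h; exact h),
      (by have h := hW 7; rw [show dv 7 7 = (1 : ℤ) from by decide] at h; rw [one_mul] at h; exact h),
      (by have h := hA 0 0; rw [show dv 7 0 * Dm 7 0 0 = (-2 : ℤ) from by decide] at h; exact h),
      (by have h := hA 0 1; rw [show dv 7 0 * Dm 7 0 1 = (1 : ℤ) from by decide] at h; rw [one_mul] at h; exact h),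
      (by have h := hA 0 2; rw [show dv 7 0 * Dm 7 0 2 = (0 : ℤ) from by decide] at h; rw [zero_mul] at h; exact h),
      (by have h := hA 0 3; rw [show dv 7 0 * Dm 7 0 3 = (0 : ℤ) from by decide] at h; rw [zero_mul] at h; exact h),
      (by have h := hA 0 4; rw [show dv 7 0 * Dm 7 0 4 = (0 : ℤ) from by decide] at h; rw [zero_mul] at h; exact h),
      (by have h := hA 0 5; rw [show dv 7 0 * Dm 7 0 5 = (0 : ℤ) from by decide] at h; rw [zero_mul] at h; exact h),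
      (by have h := hA 0 6; rw [show dv 7 0 * Dm 7 0 6 = (0 : ℤ) from by decide] at h; rw [zero_mul] at h; exact h),
      (by have h := hA 0 7; rw [show dv 7 0 * Dm 7 0 7 = (0 : ℤ) from by decide] at h; rw [zero_mul] at h; exact h),
      (by have h := hA 1 1; rw [show dv 7 1 * Dm 7 1 1 = (-2 : ℤ) from by decide] at h; exact h),
      (by have h := hA 1 2; rw [show dv 7 1 * Dm 7 1 2 = (1 : ℤ) from by decide] at h; rw [one_mul] at h; exact h),
      (by have h := hA 1 3; rw [show dv 7 1 * Dm 7 1 3 = (0 : ℤ) from by decide] at h; rw [zero_mul] at h; exact h),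
      (by have h := hA 1 4; rw [show dv 7 1 * Dm 7 1 4 = (0 : ℤ) from by decide] at h; rw [zero_mul] at h; exact h),
      (by have h := hA 1 5; rw [show dv 7 1 * Dm 7 1 5 = (0 : ℤ) from by decide] at h; rw [zero_mul] at h; exact h),
      (by have h := hA 1 6; rw [show dv 7 1 * Dm 7 1 6 = (0 : ℤ) from by decide] at h; rw [zero_mul] at h; exact h),
      (by have h := hA 1 7; rw [show dv 7 1 * Dm 7 1 7 = (0 : ℤ) from by decide] at h; rw [zero_mul] at h; exact h),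
      (by have h := hA 2 2; rw [show dv 7 2 * Dm 7 2 2 = (-2 : ℤ) from by decide] at h; exact h),
      (by have h := hA 2 3; rw [show dv 7 2 * Dm 7 2 3 = (1 : ℤ) from by decide] at h; rw [one_mul] at h; exact h),
      (by have h := hA 2 4; rw [show dv 7 2 * Dm 7 2 4 = (0 : ℤ) from by decide] at h; rw [zero_mul] at h; exact h),
      (by have h := hA 2 5; rw [show dv 7 2 * Dm 7 2 5 = (0 : ℤ) from by decide] at h; rw [zero_mul] at h; exact h),
      (by have h := hA 2 6; rw [show dv 7 2 * Dm 7 2 6 = (0 : ℤ) from by decide] at h; rw [zero_mul] at h; exact h),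
      (by have h := hA 2 7; rw [show dv 7 2 * Dm 7 2 7 = (0 : ℤ) from by decide] at h; rw [zero_mul] at h; exact h),
      (by have h := hA 3 3; rw [show dv 7 3 * Dm 7 3 3 = (-2 : ℤ) from by decide] at h; exact h),
      (by have h := hA 3 4; rw [show dv 7 3 * Dm 7 3 4 = (1 : ℤ) from by decide] at h; rw [one_mul] at h; exact h),
      (by have h := hA 3 5; rw [show dv 7 3 * Dm 7 3 5 = (0 : ℤ) from by decide] at h; rw [zero_mul] at h; exact h),
      (by have h := hA 3 6; rw [show dv 7 3 * Dm 7 3 6 = (0 : ℤ) from by decide] at h; rw [zero_mul] at h; exact h),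
      (by have h := hA 3 7; rw [show dv 7 3 * Dm 7 3 7 = (1 : ℤ) from by decide] at h; rw [one_mul] at h; exact h),
      (by have h := hA 4 4; rw [show dv 7 4 * Dm 7 4 4 = (-2 : ℤ) from by decide] at h; exact h),
      (by have h := hA 4 5; rw [show dv 7 4 * Dm 7 4 5 = (1 : ℤ) from by decide] at h; rw [one_mul] at h; exact h),
      (by have h := hA 4 6; rw [show dv 7 4 * Dm 7 4 6 = (0 : ℤ) from by decide] at h; rw [zero_mul] at h; exact h),
      (by have h := hA 4 7; rw [show dv 7 4 * Dm 7 4 7 = (0 : ℤ) from by decide] at h; rw [zero_mul] at h; exact h),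
      (by have h := hA 5 5; rw [show dv 7 5 * Dm 7 5 5 = (-2 : ℤ) from by decide] at h; exact h),
      (by have h := hA 5 6; rw [show dv 7 5 * Dm 7 5 6 = (1 : ℤ) from by decide] at h; rw [one_mul] at h; exact h),
      (by have h := hA 5 7; rw [show dv 7 5 * Dm 7 5 7 = (0 : ℤ) from by decide] at h; rw [zero_mul] at h; exact h),
      (by have h := hA 6 6; rw [show dv 7 6 * Dm 7 6 6 = (-2 : ℤ) from by decide] at h; exact h),
      (by have h := hA 6 7; rw [show dv 7 6 * Dm 7 6 7 = (0 : ℤ) from by decide] at h; rw [zero_mul] at h; exact h),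
      (by have h := hA 7 7; rw [show dv 7 7 * Dm 7 7 7 = (-2 : ℤ) from by decide] at h; exact h)⟩

end Groth.Agent.S7369
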