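import Groth.Statements.S7379
-- import your own Groth.Agent.* helpers here
import Mathlib
import Groth.Agent.Lib.Helper12.ClosedApprox
import Groth.Agent.Lib.Helper12.ApproxWrap
import Groth.Agent.S0590

set_option autoImplicit false
universe u
open CategoryTheory AlgebraicGeometry
open Lim

namespace Groth.Agent.S7379
open Limits TopologicalSpace Opposite Groth.Agent.Lib.Helper12.ClosedApprox Scheme IdealSheafData

set_option backward.isDefEq.respectTransparency false
set_option linter.style.haveILetI false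

/-- Let `ι : X → Y` be a closed immersion with `Y` quasi-compact and quasi-separated. Then, in the
category of schemes over `Y`, `X` is the limit of a nonempty directed inverse system whose objects
`X_i → Y` are closed immersions of finite presentation. -/
theorem result {X Y : Scheme.{u}} (ι : X ⟶ Y)
    [IsClosedImmersion ι] [CompactSpace Y] [QuasiSeparatedSpace Y] :
    ∃ (I : Type u) (_ : Preorder I) (_ : IsDirected I (fun a b => a ≤ b)) (_ : Nonempty I)
      (D : Iᵒᵖ ⥤ Over Y) (c : Limits.Cone D) (_ : Limits.IsLimit c),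
      (∀ i, IsClosedImmersion (D.obj i).hom ∧ LocallyOfFinitePresentation (D.obj i).hom) ∧
      Nonempty (c.pt ≅ Over.mk ι) := by
  classical
  obtain ⟨A, iA1, iA2, iA3, D, c₀, hc₀, haff, hft, ⟨eY⟩⟩ := Groth.Agent.S0590.result Y
  let c : Cone D := c₀.extend eY.inv
  have hc : IsLimit c := IsLimit.extendIso eY.inv hc₀
  haveI : ∀ {i j : Aᵒᵖ} (a : i ⟶ j), IsAffineHom (D.map a) := fun a => haff _ _ a
  let J : A →o Y.IdealSheafData :=
    ⟨fun a => Jk D c (ι : X ⟶ c.pt) (op a), fun a a' h => Jk_mono D c (ι : X ⟶ c.pt) (homOfLE h).op⟩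
  have hJ : ∀ a, J a ≤ ι.ker := fun a => Jk_le D c (ι : X ⟶ c.pt) (op a)
  have hsup : ι.ker ≤ ⨆ a, J a := by
    refine (ker_le_iSup_Jk D c hc (ι : X ⟶ c.pt)).trans (iSup_le fun k => ?_)
    exact le_iSup (fun a => J a) k.unop
  obtain ⟨hlim⟩ := nonempty_isLimit_subCone J ι hJ hsup
  refine ⟨A, iA1, iA2, iA3, subSys J, subCone J ι hJ, hlim, fun i => ⟨inferInstance, ?_⟩,
    ⟨Iso.refl _⟩⟩
  -- finite presentation
  show LocallyOfFinitePresentation (J i.unop).subschemeι
  let Ki : (D.obj (op i.unop)).IdealSheafData := ((ι : X ⟶ c.pt) ≫ c.π.app (op i.unop)).ker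
  have h1 : (J i.unop).subschemeι =
      (Ki.comapIso (c.π.app (op i.unop))).hom ≫ pullback.fst (c.π.app (op i.unop)) Ki.subschemeι :=
    (comapIso_hom_fst Ki (c.π.app (op i.unop))).symm
  haveI : LocallyOfFinitePresentation Ki.subschemeι := by
    haveI := (hft (op i.unop)).2
    haveI : IsLocallyNoetherian (D.obj (op i.unop)) :=
      LocallyOfFiniteType.isLocallyNoetherian (specULiftZIsTerminal.from (D.obj (op i.unop)))
    rw [LocallyOfFinitePresentation.iff_locallyOfFiniteType]
    infer_instance
  rw [h1]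
  infer_instance

end Groth.Agent.S7379
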