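import Groth.Statements.S7380
-- import your own Groth.Agent.* helpers here
import Mathlib
import Groth.Agent.Lib.Helper12.ClosedApprox2
import Groth.Agent.Lib.Helper12.ApproxOver
import Groth.Agent.S2076

set_option autoImplicit false
universe u
open CategoryTheory AlgebraicGeometry
open Lim

namespace Groth.Agent.S7380
open Limits TopologicalSpace Opposite Groth.Agent.Lib.Helper12.ClosedApprox
  Groth.Agent.Lib.Helper12.ApproxOver Scheme IdealSheafData

set_option backward.isDefEq.respectTransparency false
set_option linter.style.haveILetI false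

/-- Let `f : X → S` be locally of finite type with `X` quasi-compact and quasi-separated and `S`
quasi-separated. Then, in the category of schemes over `S`, `X` is the limit of a nonempty directed
inverse system of schemes `X_i → S` of finite presentation (locally of finite presentation,
quasi-compact and quasi-separated), each `X_i` being a quasi-compact and quasi-separated scheme,
whose transition morphisms are closed immersions. -/
theorem result {X S : Scheme.{u}}
    (f : X ⟶ S) [LocallyOfFiniteType f] [CompactSpace X] [QuasiSeparatedSpace X] [QuasiSeparatedSpace S] :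
    ∃ (I : Type u) (_ : Preorder I) (_ : IsDirected I (fun a b => a ≤ b)) (_ : Nonempty I)
      (D : Iᵒᵖ ⥤ Over S) (c : Limits.Cone D) (_ : Limits.IsLimit c),
      (∀ i, LocallyOfFinitePresentation (D.obj i).hom ∧ QuasiCompact (D.obj i).hom ∧
        QuasiSeparated (D.obj i).hom ∧ CompactSpace (D.obj i).left ∧ QuasiSeparatedSpace (D.obj i).left) ∧
      (∀ (i j : Iᵒᵖ) (a : i ⟶ j), IsClosedImmersion (D.map a).left) ∧
      Nonempty (c.pt ≅ Over.mk f) := by
  classical
  -- Step 1: a closed immersion into a scheme of finite presentation over `S`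
  obtain ⟨I, iI1, iI2, iI3, D, π, hlim, hlim', hD, haff⟩ := exists_approx_over f
  haveI : ∀ (i j : Iᵒᵖ) (a : i ⟶ j), IsAffineHom (D.map a).left := haff
  haveI : ∀ i, CompactSpace (D.obj i).left := fun i => (hD i).2.2.2.1
  let c : Cone D := { pt := Over.mk f, π := π }
  haveI : IsClosedImmersion (𝟙 X) := inferInstance
  haveI : LocallyOfFiniteType ((𝟙 X : X ⟶ c.pt.left) ≫ c.pt.hom) := by
    show LocallyOfFiniteType (𝟙 X ≫ f)
    rw [Category.id_comp]; infer_instance
  obtain ⟨i, hi⟩ := Groth.Agent.S2076.result S D c hlim (𝟙 X : X ⟶ c.pt.left)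
  let X' : Scheme.{u} := (D.obj i).left
  let p : X' ⟶ S := (D.obj i).hom
  let j : X ⟶ X' := (c.π.app i).left
  have hjp : j ≫ p = f := Over.w (c.π.app i)
  haveI : IsClosedImmersion j := by
    have : (𝟙 X : X ⟶ c.pt.left) ≫ (c.π.app i).left = j := Category.id_comp _
    rw [← this]; exact hi
  haveI : CompactSpace X' := (hD i).2.2.2.1
  haveI : QuasiSeparatedSpace X' := (hD i).2.2.2.2
  haveI : LocallyOfFinitePresentation p := (hD i).1
  haveI : QuasiCompact p := (hD i).2.1
  haveI : QuasiSeparated p := (hD i).2.2.1
  -- Step 2: approximate the closed subscheme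
  obtain ⟨A, iA1, iA2, iA3, J, hJ, ⟨hlimJ⟩, hfp⟩ := exists_closed_approx j
  obtain ⟨hlimS⟩ := nonempty_isLimit_mapCone_subCone j p J hJ hlimJ
  refine ⟨A, iA1, iA2, iA3, subSys J ⋙ Over.map p, (Over.map p).mapCone (subCone J j hJ), hlimS,
    fun a => ?_, fun a b m => ?_, ⟨Over.isoMk (Iso.refl _) ?_⟩⟩
  · haveI := hfp a.unop
    haveI : CompactSpace (J a.unop).subscheme :=
      QuasiCompact.compactSpace_of_compactSpace (J a.unop).subschemeι
    haveI : QuasiSeparatedSpace (J a.unop).subscheme :=
      quasiSeparatedSpace_of_quasiSeparated (J a.unop).subschemeι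
    refine ⟨?_, ?_, ?_, ?_, ?_⟩
    · show LocallyOfFinitePresentation ((J a.unop).subschemeι ≫ p)
      infer_instance
    · show QuasiCompact ((J a.unop).subschemeι ≫ p)
      infer_instance
    · show QuasiSeparated ((J a.unop).subschemeι ≫ p)
      infer_instance
    · show CompactSpace (J a.unop).subscheme
      infer_instance
    · show QuasiSeparatedSpace (J a.unop).subscheme
      infer_instance
  · show IsClosedImmersion ((subSys J).map m).left
    infer_instance
  · show 𝟙 X ≫ f = j ≫ p
    rw [Category.id_comp, hjp]

end Groth.Agent.S7380
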