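import Groth.Statements.S7396
-- import your own Groth.Agent.* helpers here
import Mathlib
import Groth.Agent.Lib.Helper12.ProperApprox
import Groth.Agent.S9200

set_option autoImplicit false
universe u
open CategoryTheory AlgebraicGeometry
open Lim

namespace Groth.Agent.S7396
open Limits TopologicalSpace Opposite Groth.Agent.Lib.Helper12.ProperApprox

set_option backward.isDefEq.respectTransparency false
set_option linter.style.haveILetI false

/-- A finite morphism to a qcqs scheme is a directed limit of finite morphisms of finite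
presentation with closed immersions as transition maps and projections. -/
theorem exists_finite_approx {X S : Scheme.{u}} (f : X ⟶ S) [IsFinite f] [CompactSpace S]
    [QuasiSeparatedSpace S] :
    ∃ (B : Type u) (_ : Preorder B) (_ : IsDirected B (· ≤ ·)) (_ : Nonempty B)
      (D : Bᵒᵖ ⥤ Over S) (π : (Functor.const Bᵒᵖ).obj (Over.mk f) ⟶ D)
      (_ : IsLimit ({ pt := Over.mk f, π := π } : Cone D)),
      (∀ (i j : Bᵒᵖ) (a : i ⟶ j), IsClosedImmersion (D.map a).left) ∧
      (∀ i, IsClosedImmersion (π.app i).left ∧ IsFinite (D.obj i).hom ∧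
        LocallyOfFinitePresentation (D.obj i).hom) := by
  classical
  obtain ⟨B, iB1, iB2, iB3, D, π, hlim, h1, h2⟩ := exists_proper_approx f
  let c : Cone D := { pt := Over.mk f, π := π }
  haveI : IsConnected Bᵒᵖ := IsCofiltered.isConnected _
  have hlim' : IsLimit ((Over.forget S).mapCone c) := isLimitOfPreserves (Over.forget S) hlim
  let D' : Bᵒᵖ ⥤ Scheme.{u} := D ⋙ Over.forget S
  let t : D' ⟶ (Functor.const Bᵒᵖ).obj S :=
    { app := fun i => (D.obj i).hom
      naturality := fun i j a => by
        show (D.map a).left ≫ (D.obj j).hom = (D.obj i).hom ≫ 𝟙 S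
        rw [Over.w, Category.comp_id] }
  haveI : ∀ (i j : Bᵒᵖ) (a : i ⟶ j), IsAffineHom (D'.map a) := fun i j a => by
    haveI := h1 i j a
    exact inferInstanceAs (IsAffineHom (D.map a).left)
  haveI : ∀ i, CompactSpace (D'.obj i) := fun i => (h2 i).2.2.2.1
  haveI : ∀ i, QuasiSeparatedSpace (D'.obj i) := fun i => (h2 i).2.2.2.2
  obtain ⟨i₀⟩ := (inferInstance : Nonempty Bᵒᵖ)
  haveI : IsAffineHom (((Over.forget S).mapCone c).π.app i₀ ≫ t.app i₀) := by
    show IsAffineHom ((c.π.app i₀).left ≫ (D.obj i₀).hom)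
    rw [Over.w]
    show IsAffineHom f
    infer_instance
  obtain ⟨i₁, hi₁⟩ := Groth.Agent.S9200.result S D' t ((Over.forget S).mapCone c) hlim' i₀
  -- restrict to the indices above `i₁`
  let F := Groth.Agent.Lib.Helper12.UpSet.upFunctor i₁.unop
  have hlimU := (Functor.Initial.isLimitWhiskerEquiv F c).symm hlim
  refine ⟨Groth.Agent.Lib.Helper12.UpSet.Up i₁.unop, inferInstance, inferInstance, inferInstance,
    F ⋙ D, (c.whisker F).π, hlimU, fun a b m => h1 _ _ _, fun b => ⟨(h2 _).1, ?_, (h2 _).2.2.1⟩⟩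
  have hp : IsProper (D.obj (F.obj b)).hom := (h2 _).2.1
  have ha : IsAffineHom (D.obj (F.obj b)).hom := hi₁ (F.obj b) (homOfLE b.unop.2).op
  exact IsFinite.iff_isProper_and_isAffineHom.mpr ⟨hp, ha⟩

/-- Let `f : X → S` be finite with `S` quasi-compact and quasi-separated. Then there are a morphism `f'
: X' → S` which is finite and of finite presentation and a closed immersion `X → X'` over `S`. -/
theorem result {X S : Scheme.{u}} (f : X ⟶ S) [IsFinite f]
    [CompactSpace S] [QuasiSeparatedSpace S] :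
    ∃ (X' : Scheme.{u}) (f' : X' ⟶ S) (j : X ⟶ X'), IsFinite f' ∧ LocallyOfFinitePresentation f' ∧
      IsClosedImmersion j ∧ j ≫ f' = f := by
  obtain ⟨B, iB1, iB2, iB3, D, π, hlim, h1, h2⟩ := exists_finite_approx f
  obtain ⟨i⟩ := (inferInstance : Nonempty Bᵒᵖ)
  exact ⟨(D.obj i).left, (D.obj i).hom, (π.app i).left, (h2 i).2.1, (h2 i).2.2, (h2 i).1,
    Over.w (π.app i)⟩

end Groth.Agent.S7396
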