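import Groth.Statements.S7385
import Mathlib
import Groth.Agent.Lib.Helper25.GenericPts

set_option autoImplicit false
universe u
open CategoryTheory AlgebraicGeometry
open Mor

namespace Groth.Agent.S7385

/-- Let `X` be a quasi-separated scheme and `η_1, …, η_n` pairwise distinct points, each the generic
point of an irreducible component of `X`. Then there are affine open neighbourhoods `U_i ∋ η_i`
which are pairwise disjoint, and their union is an affine open containing all the `η_i`. -/
theorem result (X : Scheme.{u}) [QuasiSeparatedSpace X] {n : ℕ}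
    (η : Fin n → X) (hη : ∀ i, closure ({η i} : Set X) ∈ irreducibleComponents (X : Type u))
    (hinj : Function.Injective η) :
    ∃ U : Fin n → X.Opens, (∀ i, IsAffineOpen (U i) ∧ η i ∈ U i) ∧
      (∀ i j, i ≠ j → Disjoint (U i) (U j)) ∧ IsAffineOpen (⨆ i, U i) := by
  classical
  have hsep : ∀ i j, i ≠ j → ∃ O O' : Set X, IsOpen O ∧ IsOpen O' ∧ η i ∈ O ∧ η j ∈ O' ∧
      Disjoint O O' :=
    fun i j hij => Groth.Agent.Lib.Helper25.GenericPts.exists_disjoint_opens (hη i) (hη j)
      (fun h => hij (hinj h))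
  choose! O O' hO hO' hmem hmem' hdisj using hsep
  have hNo : ∀ i, IsOpen (⋂ j, (if j = i then Set.univ else O i j ∩ O' j i)) := fun i =>
    isOpen_iInter_of_finite fun j => by
      by_cases h : j = i
      · rw [if_pos h]; exact isOpen_univ
      · rw [if_neg h]; exact (hO i j (Ne.symm h)).inter (hO' j i h)
  have hNmem : ∀ i, η i ∈ (⋂ j, (if j = i then Set.univ else O i j ∩ O' j i)) := fun i =>
    Set.mem_iInter.mpr fun j => by
      by_cases h : j = i
      · rw [if_pos h]; trivial
      · rw [if_neg h]; exact ⟨hmem i j (Ne.symm h), hmem' j i h⟩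
  have hex : ∀ i, ∃ U : X.Opens, IsAffineOpen U ∧ η i ∈ U ∧
      (U : Set X) ⊆ (⋂ j, (if j = i then Set.univ else O i j ∩ O' j i)) := fun i => by
    obtain ⟨_, ⟨V, hV, rfl⟩, hV1, hV2⟩ :=
      X.isBasis_affineOpens.exists_subset_of_mem_open (hNmem i) (hNo i)
    exact ⟨V, hV, hV1, hV2⟩
  choose U hU hηU hUN using hex
  have hpd : Pairwise (Function.onFun Disjoint U) := by
    intro i j hij
    show Disjoint (U i) (U j)
    rw [← TopologicalSpace.Opens.coe_disjoint]
    refine Set.disjoint_left.mpr fun z hzi hzj => ?_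
    have h1 := Set.mem_iInter.mp (hUN i hzi) j
    rw [if_neg (Ne.symm hij)] at h1
    have h2 := Set.mem_iInter.mp (hUN j hzj) i
    rw [if_neg hij] at h2
    exact Set.disjoint_left.mp (hdisj i j hij) h1.1 h2.2
  exact ⟨U, fun i => ⟨hU i, hηU i⟩, fun i j hij => hpd hij,
    IsAffineOpen.iSup_of_disjoint hU hpd⟩

end Groth.Agent.S7385
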