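import Groth.Statements.S7387
import Mathlib

set_option autoImplicit false
universe u
open CategoryTheory AlgebraicGeometry
open Mor

namespace Groth.Agent.S7387

open Limits in
lemma exists_family (X : Scheme.{u}) (S : X.Opens) (hS : IsCompact (S : Set X)) :
    ∃ (ι : Type u) (_ : Finite ι) (V U : ι → X.Opens), (∀ i, IsAffineOpen (U i)) ∧
      (∀ i, V i ≤ U i) ∧ Pairwise (Function.onFun Disjoint V) ∧
      (S : Set X) ⊆ closure (⋃ i, (V i : Set X)) := by
  refine compact_open_induction_on (P := fun S : X.Opens =>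
    ∃ (ι : Type u) (_ : Finite ι) (V U : ι → X.Opens), (∀ i, IsAffineOpen (U i)) ∧
      (∀ i, V i ≤ U i) ∧ Pairwise (Function.onFun Disjoint V) ∧
      (S : Set X) ⊆ closure (⋃ i, (V i : Set X))) S hS ?_ ?_
  · exact ⟨PEmpty, inferInstance, PEmpty.elim, PEmpty.elim, fun i => i.elim, fun i => i.elim,
      fun i => i.elim, fun x hx => hx.elim⟩
  · rintro S - W ⟨ι, hfin, V, U, hU, hVU, hdisj, hcl⟩
    haveI := hfin
    let V0 : X.Opens :=
      ⟨(W.1 : Set X) \ closure (⋃ i, (V i : Set X)), W.1.2.sdiff isClosed_closure⟩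
    refine ⟨Option ι, inferInstance, fun o => o.elim V0 V, fun o => o.elim W.1 U, ?_, ?_, ?_, ?_⟩
    · rintro (_ | i)
      · exact W.2
      · exact hU i
    · rintro (_ | i)
      · exact fun x hx => hx.1
      · exact hVU i
    · rintro (_ | i) (_ | j) hij
      · exact absurd rfl hij
      · show Disjoint V0 (V j)
        rw [← TopologicalSpace.Opens.coe_disjoint]
        exact Set.disjoint_left.mpr fun x hx hxj =>
          hx.2 (subset_closure (Set.mem_iUnion.mpr ⟨j, hxj⟩))
      · show Disjoint (V i) V0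
        rw [← TopologicalSpace.Opens.coe_disjoint]
        exact Set.disjoint_left.mpr fun x hxi hx =>
          hx.2 (subset_closure (Set.mem_iUnion.mpr ⟨i, hxi⟩))
      · exact hdisj (fun h => hij (congrArg some h))
    · have hsub : (⋃ i, (V i : Set X)) ⊆
          ⋃ o : Option ι, ((o.elim V0 V : X.Opens) : Set X) :=
        Set.iUnion_subset fun i =>
          Set.subset_iUnion (fun o : Option ι => ((o.elim V0 V : X.Opens) : Set X)) (some i)
      intro x hx
      rcases (show x ∈ (S : Set X) ∪ (W.1 : Set X) from hx) with hx | hx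
      · exact closure_mono hsub (hcl hx)
      · by_cases hxc : x ∈ closure (⋃ i, (V i : Set X))
        · exact closure_mono hsub hxc
        · exact subset_closure (Set.mem_iUnion.mpr ⟨none, ⟨hx, hxc⟩⟩)



/-- A quasi-compact scheme has a dense open subscheme which is separated. -/
theorem result (X : Scheme.{u}) [CompactSpace X] :
    ∃ V : X.Opens, Dense (V : Set X) ∧ (V : Scheme.{u}).IsSeparated := by
  obtain ⟨ι, hfin, V, U, hU, hVU, hdisj, hcl⟩ := exists_family X ⊤ isCompact_univ
  haveI := hfin
  have hg : IsOpenImmersion (Limits.Sigma.desc fun i => (V i).ι) :=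
    isOpenImmersion_sigmaDesc _ (fun i => (V i).ι) (by
      intro i j hij
      show Disjoint (Set.range (V i).ι) (Set.range (V j).ι)
      rw [Scheme.Opens.range_ι, Scheme.Opens.range_ι]
      exact (TopologicalSpace.Opens.coe_disjoint).mpr (hdisj hij))
  refine ⟨(Limits.Sigma.desc fun i => (V i).ι).opensRange, ?_, ?_⟩
  · have hsub : (⋃ i, (V i : Set X)) ⊆
        ((Limits.Sigma.desc fun i => (V i).ι).opensRange : Set X) := by
      refine Set.iUnion_subset fun i x hx => ?_
      show x ∈ Set.range (Limits.Sigma.desc fun i => (V i).ι)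
      refine ⟨Limits.Sigma.ι (fun i => (V i : Scheme.{u})) i ⟨x, hx⟩, ?_⟩
      rw [← Scheme.Hom.comp_apply, Limits.Sigma.ι_desc]
      rfl
    intro x
    exact closure_mono hsub (hcl (Set.mem_univ x))
  · haveI : ∀ i, IsAffine ((U i : X.Opens) : Scheme.{u}) := hU
    have hinj : Function.Injective
        (Limits.Sigma.map (fun i => X.homOfLE (hVU i)) :
          (∐ fun i => (V i : Scheme.{u})) ⟶ ∐ fun i => (U i : Scheme.{u})) := by
      intro z z' hzz'
      obtain ⟨⟨i, v⟩, rfl⟩ := (sigmaMk (fun i => (V i : Scheme.{u}))).surjective z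
      obtain ⟨⟨j, v'⟩, rfl⟩ := (sigmaMk (fun i => (V i : Scheme.{u}))).surjective z'
      rw [sigmaMk_mk, sigmaMk_mk] at hzz' ⊢
      rw [← Scheme.Hom.comp_apply, ← Scheme.Hom.comp_apply, Limits.Sigma.ι_map, Limits.Sigma.ι_map,
        Scheme.Hom.comp_apply, Scheme.Hom.comp_apply, sigmaι_eq_iff] at hzz'
      obtain ⟨rfl, hv⟩ := Sigma.mk.inj_iff.mp hzz'
      have hv' := eq_of_heq hv
      rw [(X.homOfLE (hVU i)).isOpenEmbedding.injective hv']
    haveI : IsSeparated (Limits.Sigma.map (fun i => X.homOfLE (hVU i)) :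
          (∐ fun i => (V i : Scheme.{u})) ⟶ ∐ fun i => (U i : Scheme.{u})) :=
      isSeparated_of_injective _ hinj
    refine ⟨?_⟩
    have hfac : Limits.terminal.from
        (((Limits.Sigma.desc fun i => (V i).ι).opensRange : X.Opens) : Scheme.{u}) =
        (Limits.Sigma.desc fun i => (V i).ι).isoOpensRange.inv ≫
          (Limits.Sigma.map (fun i => X.homOfLE (hVU i)) :
            (∐ fun i => (V i : Scheme.{u})) ⟶ ∐ fun i => (U i : Scheme.{u})) ≫
          Limits.terminal.from _ := Limits.terminal.hom_ext _ _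
    rw [hfac]
    infer_instance

end Groth.Agent.S7387
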