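import Groth.Statements.S7389
import Mathlib

set_option autoImplicit false
universe u
open CategoryTheory AlgebraicGeometry
open Mor

namespace Groth.Agent.S7389

lemma exists_basicOpen_of_finite {R : Type*} [CommRing R] (O : Set (PrimeSpectrum R))
    (hO : IsOpen O) (s : Set (PrimeSpectrum R)) (hs : s.Finite) (hsO : s ⊆ O) :
    ∃ a : R, s ⊆ (PrimeSpectrum.basicOpen a : Set (PrimeSpectrum R)) ∧
      (PrimeSpectrum.basicOpen a : Set (PrimeSpectrum R)) ⊆ O := by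
  classical
  rcases s.eq_empty_or_nonempty with rfl | ⟨p₀, hp₀⟩
  · exact ⟨0, Set.empty_subset _, by simp⟩
  obtain ⟨I, hI⟩ := (PrimeSpectrum.isClosed_iff_zeroLocus_ideal _).mp hO.isClosed_compl
  have hnot : ¬ ((I : Set R) ⊆ ⋃ p ∈ (hs.toFinset : Set (PrimeSpectrum R)),
      (p.asIdeal : Set R)) := by
    rw [Ideal.subset_union_prime (f := fun p : PrimeSpectrum R => p.asIdeal) p₀ p₀
      (fun p _ _ _ => p.2)]
    rintro ⟨p, hp, hIp⟩
    have hpO : p ∈ O := hsO (hs.mem_toFinset.mp hp)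
    have : p ∈ Oᶜ := by rw [hI]; exact hIp
    exact this hpO
  obtain ⟨a, haI, ha⟩ := Set.not_subset.mp hnot
  refine ⟨a, ?_, ?_⟩
  · intro p hp
    show a ∉ p.asIdeal
    intro hap
    apply ha
    simp only [Set.mem_iUnion]
    exact ⟨p, by simpa using hp, hap⟩
  · intro q hq
    by_contra hqO
    have : q ∈ PrimeSpectrum.zeroLocus (I : Set R) := by rw [← hI]; exact hqO
    exact hq (this haI)

/-- Let `X` be a scheme admitting an immersion into an affine scheme. Then any finite set of points of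
`X` is contained in an affine open of `X`. -/
theorem result {X Y : Scheme.{u}} [IsAffine Y] (ι : X ⟶ Y)
    [IsImmersion ι] (E : Set X) (hE : E.Finite) :
    ∃ U : X.Opens, IsAffineOpen U ∧ E ⊆ U := by
  let V := ι.coborderRange
  let O : (Spec Γ(Y, ⊤)).Opens := Y.isoSpec.inv ⁻¹ᵁ V
  have hinv : ∀ y : Y, Y.isoSpec.inv (Y.toSpecΓ y) = y := fun y => by
    rw [← Scheme.Hom.comp_apply, Scheme.toSpecΓ_isoSpec_inv]; rfl
  have hιV : ∀ x : X, ι x ∈ V := fun x => by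
    have := ι.liftCoborder_ι
    rw [← this, Scheme.Hom.comp_apply]; exact (ι.liftCoborder x).2
  obtain ⟨a, hsa, haO⟩ := exists_basicOpen_of_finite (R := Γ(Y, ⊤)) O.1 O.2 (Y.toSpecΓ '' (ι '' E))
    ((hE.image _).image _) (by
      rintro _ ⟨_, ⟨e, he, rfl⟩, rfl⟩
      show Y.isoSpec.inv (Y.toSpecΓ (ι e)) ∈ V
      rw [hinv]; exact hιV e)
  have hDV : Y.basicOpen a ≤ V := by
    intro y hy
    rw [← Scheme.toSpecΓ_preimage_basicOpen] at hy
    have h2 : Y.isoSpec.inv (Y.toSpecΓ y) ∈ V := haO hy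
    rwa [hinv] at h2
  have hD : IsAffineOpen (Y.basicOpen a) := (isAffineOpen_top Y).basicOpen a
  have hD' : IsAffineOpen (V.ι ⁻¹ᵁ Y.basicOpen a) :=
    hD.preimage_of_isOpenImmersion V.ι (by rw [Scheme.Opens.opensRange_ι]; exact hDV)
  have hU : IsAffineOpen (ι.liftCoborder ⁻¹ᵁ (V.ι ⁻¹ᵁ Y.basicOpen a)) :=
    hD'.preimage ι.liftCoborder
  refine ⟨ι.liftCoborder ⁻¹ᵁ (V.ι ⁻¹ᵁ Y.basicOpen a), hU, ?_⟩
  intro e he
  show V.ι (ι.liftCoborder e) ∈ Y.basicOpen a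
  rw [← Scheme.Hom.comp_apply, ι.liftCoborder_ι, ← Scheme.toSpecΓ_preimage_basicOpen]
  exact hsa ⟨_, ⟨e, he, rfl⟩, rfl⟩

end Groth.Agent.S7389
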