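import Groth.Statements.S7391
import Mathlib
import Groth.Agent.Lib.Helper3.SecLoc
import Groth.Agent.Lib.Helper25.LocProj

set_option autoImplicit false
universe u
open CategoryTheory AlgebraicGeometry
open Opposite
open Mor

namespace Groth.Agent.S7391


open Groth.Agent.Lib.Helper3 Groth.Agent.Lib.Helper25

attribute [local instance] Groth.Agent.Lib.Helper3.SecLoc.modBasicOpen

theorem basicOpen_step {X : Scheme.{u}} (F : X.Modules) [F.IsQuasicoherent] {W : X.Opens}
    (hW : IsAffineOpen W) (f : Γ(X, W)) (h : Module.Projective Γ(X, W) Γ(F, W)) :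
    Module.Projective Γ(X, X.basicOpen f) Γ(F, X.basicOpen f) := by
  haveI := hW.isLocalization_basicOpen f
  haveI := SecLoc.isLocalizedModule_resLin F hW f
  have hbc : IsBaseChange Γ(X, X.basicOpen f) (SecLoc.resLin F f) :=
    IsLocalizedModule.isBaseChange (Submonoid.powers f) _ _
  exact Module.Projective.of_equiv' hbc.equiv

theorem cover_step {X : Scheme.{u}} (F : X.Modules) [F.IsQuasicoherent] {W : X.Opens}
    (hW : IsAffineOpen W) (s : Finset Γ(X, W)) (hs : Ideal.span (s : Set Γ(X, W)) = ⊤)
    (h : ∀ f : s, Module.Projective Γ(X, X.basicOpen f.1) Γ(F, X.basicOpen f.1)) :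
    Module.Projective Γ(X, W) Γ(F, W) :=
  LocProj.projective_of_localization_finset_span (A := Γ(X, W)) Γ(F, W) s hs
    (fun f => Γ(X, X.basicOpen f.1)) (fun f => hW.isLocalization_basicOpen f.1)
    (fun f => Γ(F, X.basicOpen f.1)) (fun f => SecLoc.resLin F f.1)
    (fun f => SecLoc.isLocalizedModule_resLin F hW f.1) h



/-- Let `F` be a quasi-coherent `O_X`-module on a scheme `X`. Then `F(U)` is a projective
`O_X(U)`-module for every affine open `U` (that is, `F` is locally projective) if and only if `X`
has a covering by affine opens `U_i` with `F(U_i)` projective over `O_X(U_i)`. -/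
theorem result (X : Scheme.{u}) (F : X.Modules) [Coh.IsQCoh F] :
    (∀ U : X.Opens, IsAffineOpen U → Module.Projective (X.ringCatSheaf.obj.obj (op U)) (F.val.obj (op U))) ↔
      ∃ (I : Type u) (U : I → X.Opens), (⨆ i, U i) = ⊤ ∧ ∀ i, IsAffineOpen (U i) ∧
        Module.Projective (X.ringCatSheaf.obj.obj (op (U i))) (F.val.obj (op (U i))) := by
  constructor
  · intro h
    exact ⟨X.affineOpens, fun i => i.1, iSup_affineOpens_eq_top X, fun i => ⟨i.2, h i.1 i.2⟩⟩
  · rintro ⟨I, U, hcov, hU⟩ V hV
    haveI : F.IsQuasicoherent := ‹Coh.IsQCoh F›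
    let P : X.affineOpens → Prop := fun W => Module.Projective Γ(X, W.1) Γ(F, W.1)
    have key : P ⟨V, hV⟩ := by
      refine of_affine_open_cover (P := P) (fun i => (⟨U i, (hU i).1⟩ : X.affineOpens)) hcov
        ⟨V, hV⟩ ?_ ?_ ?_
      · intro W f hW
        exact basicOpen_step F W.2 f hW
      · intro W s hs hf
        exact cover_step F W.2 s hs hf
      · intro i
        exact (hU i).2
    exact key

end Groth.Agent.S7391
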