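import Groth.Statements.S7392
-- import your own Groth.Agent.* helpers here
import Groth.Agent.Lib.Helper12.TildeProj

set_option autoImplicit false
universe u
open CategoryTheory AlgebraicGeometry
open Opposite
open Mor

namespace Groth.Agent.S7392

/-- For a ring `A` and an `A`-module `M`, the module `M~` on `Spec A` is locally projective (projective
sections over every affine open) if and only if `M` is a projective `A`-module. -/
theorem result (A : CommRingCat.{u}) (M : ModuleCat.{u} A) :
    (∀ U : (Spec A).Opens, IsAffineOpen U →
      Module.Projective ((Spec A).ringCatSheaf.obj.obj (op U)) ((tilde M).val.obj (op U))) ↔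
      Module.Projective A M := by
  constructor
  · intro h
    exact Groth.Agent.Lib.Helper12.TildeProj.projective_of_sections_top M (h ⊤ (isAffineOpen_top _))
  · intro hM U hU
    let j : Spec Γ(Spec A, U) ⟶ Spec A := hU.fromSpec
    have hφ : Spec.map (Spec.preimage j) = j := Spec.map_preimage j
    haveI : IsOpenImmersion (Spec.map (Spec.preimage j)) := by rw [hφ]; infer_instance
    have key := Groth.Agent.Lib.Helper12.TildeProj.projective_sections (Spec.preimage j) M
    have hU'' : ∀ (g : Spec Γ(Spec A, U) ⟶ Spec A) [IsOpenImmersion g], g = j → g ''ᵁ ⊤ = U := by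
      rintro g _ rfl; rw [Scheme.Hom.image_top_eq_opensRange]; exact hU.opensRange_fromSpec
    have hU' : Spec.map (Spec.preimage j) ''ᵁ ⊤ = U := hU'' _ hφ
    have aux : ∀ V : (Spec A).Opens, V = U →
        Module.Projective ((Spec A).ringCatSheaf.obj.obj (op V)) ((tilde M).val.obj (op V)) →
        Module.Projective ((Spec A).ringCatSheaf.obj.obj (op U)) ((tilde M).val.obj (op U)) := by
      rintro V rfl h; exact h
    exact aux _ hU' key

end Groth.Agent.S7392
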