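import Groth.Statements.S7397
import Mathlib

set_option autoImplicit false
universe u
open Mor

namespace Groth.Agent.S7397

/-- Let `A ⊆ B` be a ring extension and `b ∈ B`, `b ∉ A`, with `b^n, b^(n+1) ∈ A` for some `n ≥ 2`. Then
some `b' ∈ B` with `b' ∉ A` has `b'^2 ∈ A` and `b'^3 ∈ A`. -/
theorem result {B : Type u} [CommRing B] (A : Subring B) (b : B) (hb : b ∉ A)
    (n : ℕ) (hn : 2 ≤ n) (h1 : b ^ n ∈ A) (h2 : b ^ (n + 1) ∈ A) :
    ∃ b' : B, b' ∉ A ∧ b' ^ 2 ∈ A ∧ b' ^ 3 ∈ A := by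
  classical
  have hn0 : 0 < n := by omega
  have hlarge : ∀ k, n * n ≤ k → b ^ k ∈ A := by
    intro k hk
    have hr : k % n < n := Nat.mod_lt _ hn0
    have hq : n ≤ k / n := (Nat.le_div_iff_mul_le hn0).mpr hk
    have hdm := Nat.div_add_mod k n
    have hk' : k = (k / n - k % n) * n + (k % n) * (n + 1) := by
      have h3 : (k / n - k % n) * n + (k % n) * n = (k / n) * n := by
        rw [← Nat.add_mul, Nat.sub_add_cancel (by omega)]
      have h4 : (k / n) * n = n * (k / n) := Nat.mul_comm _ _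
      rw [Nat.mul_add, Nat.mul_one]
      omega
    rw [hk', pow_add, pow_mul', pow_mul']
    exact A.mul_mem (A.pow_mem h1 _) (A.pow_mem h2 _)
  set K := Nat.findGreatest (fun k => b ^ k ∉ A) (n * n) with hK
  have h1n : 1 ≤ n * n := Nat.mul_pos hn0 hn0
  have hP1 : b ^ 1 ∉ A := by rwa [pow_one]
  have hKspec : b ^ K ∉ A := Nat.findGreatest_spec (P := fun k => b ^ k ∉ A) h1n hP1
  have hK1 : 1 ≤ K := Nat.le_findGreatest (P := fun k => b ^ k ∉ A) h1n hP1
  have habove : ∀ j, K < j → b ^ j ∈ A := by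
    intro j hj
    by_cases hjn : j ≤ n * n
    · have := Nat.findGreatest_is_greatest (P := fun k => b ^ k ∉ A) hj hjn
      exact not_not.mp this
    · exact hlarge j (by omega)
  refine ⟨b ^ K, hKspec, ?_, ?_⟩
  · rw [← pow_mul]
    exact habove _ (by omega)
  · rw [← pow_mul]
    exact habove _ (by omega)

end Groth.Agent.S7397
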