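import Groth.Statements.S7398
import Groth.Agent.Lib.Helper11.UHCore

set_option autoImplicit false
universe u
open CategoryTheory AlgebraicGeometry
open Mor

namespace Groth.Agent.S7398

open Groth.Agent.Lib.Helper11.UHRing

/-- Let `A ⊆ B` be a ring extension with `A ≠ B` such that `Spec B → Spec A` is a universal
homeomorphism whose residue field extensions are all trivial. Then some `b ∈ B` with `b ∉ A` has
`b^2 ∈ A` and `b^3 ∈ A`. (Here `A → B` is an injective, non-surjective ring map and membership in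
`A` means membership in its image.) -/
theorem result {A B : Type u} [CommRing A] [CommRing B]
    (φ : A →+* B) (hinj : Function.Injective φ) (hns : ¬ Function.Surjective φ)
    (hU : FlatMor.IsUnivHomeo (Spec.map (CommRingCat.ofHom φ)))
    (hres : ∀ x : Spec (CommRingCat.of B), Function.Surjective ((Spec.map (CommRingCat.ofHom φ)).residueFieldMap x)) :
    ∃ b : B, b ∉ φ.range ∧ b ^ 2 ∈ φ.range ∧ b ^ 3 ∈ φ.range := by
  have hUH : UH φ := (isUnivHomeo_SpecMap_iff φ).mp hU
  have hRT : ResTriv φ := (residueFieldMap_surjective_iff φ).mp hres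
  algebraize [φ]
  obtain ⟨b₀, hb₀⟩ : ∃ b₀ : B, b₀ ∉ φ.range := by
    by_contra hcon
    push Not at hcon
    exact hns (fun b => hcon b)
  have hUH' : UH (algebraMap A B) := hUH
  have hRT' : ResTriv (algebraMap A B) := hRT
  set B₀ : Subalgebra A B := Algebra.adjoin A {b₀} with hB₀
  haveI hfin : Module.Finite A B₀ := finite_adjoin_singleton b₀ (hUH'.integral b₀)
  have hUH₀ : UH (algebraMap A B₀) := UH.subalgebra B₀ hUH'
  have hRT₀ : ResTriv (algebraMap A B₀) := ResTriv.subalgebra B₀ hUH'.integral hRT'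
  have hns₀ : ¬ Function.Surjective (algebraMap A B₀) := by
    intro hs
    obtain ⟨a, ha⟩ := hs ⟨b₀, Algebra.subset_adjoin (Set.mem_singleton b₀)⟩
    exact hb₀ ⟨a, congrArg Subtype.val ha⟩
  rcases core_dichotomy hUH₀.bijective_comap hns₀ with ⟨b, hb, hb2, hb3⟩ | ⟨q, hq1, b₁, hb₁⟩
  · refine ⟨b.1, not_mem_range_of_not_mem_bot B₀ b hb, ?_, ?_⟩
    · exact mem_range_of_mem_bot B₀ (b ^ 2) hb2
    · exact mem_range_of_mem_bot B₀ (b ^ 3) hb3
  · exfalso
    obtain ⟨a, s, hs, hsa⟩ := hRT₀ q b₁
    obtain ⟨t, ht, ht'⟩ := hq1 _ hsa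
    apply hb₁ (t * s)
    · rw [map_mul]
      exact fun h => (q.isPrime.mem_or_mem h).elim ht hs
    · have e : algebraMap A B₀ (t * s) * b₁ =
          algebraMap A B₀ t * (algebraMap A B₀ s * b₁ - algebraMap A B₀ a) +
            algebraMap A B₀ (t * a) := by
        rw [map_mul, map_mul]; ring
      rw [e]
      exact add_mem ht' (Subalgebra.algebraMap_mem _ _)

end Groth.Agent.S7398
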