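import Groth.Statements.S7399
import Groth.Agent.Lib.Helper11.UHCore

set_option autoImplicit false
universe u
open CategoryTheory AlgebraicGeometry
open Mor

namespace Groth.Agent.S7399

open Groth.Agent.Lib.Helper11.UHRing

/-- the algebraic core: `A → B` UH, finite, not surjective. -/
theorem core {A B : Type u} [CommRing A] [CommRing B] [Algebra A B] [Module.Finite A B]
    (hUH : UH (algebraMap A B)) (hns : ¬ Function.Surjective (algebraMap A B)) :
    (∃ b : B, b ∉ (⊥ : Subalgebra A B) ∧ b ^ 2 ∈ (⊥ : Subalgebra A B) ∧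
      b ^ 3 ∈ (⊥ : Subalgebra A B)) ∨
    ∃ (ℓ : ℕ) (b : B), ℓ.Prime ∧ b ∉ (⊥ : Subalgebra A B) ∧ (ℓ : B) * b ∈ (⊥ : Subalgebra A B) ∧
      b ^ ℓ ∈ (⊥ : Subalgebra A B) := by
  rcases core_dichotomy hUH.bijective_comap hns with h | ⟨q, hq1, b₁, hb₁⟩
  · exact Or.inl h
  · right
    obtain ⟨ℓ, hℓ, hpow⟩ := hUH.exists_expChar q
    obtain ⟨n, a, s, hs, hsa⟩ := hpow b₁
    have hmulq : ∀ u v : A, algebraMap A B u ∉ q.asIdeal → algebraMap A B v ∉ q.asIdeal →
        algebraMap A B (u * v) ∉ q.asIdeal := by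
      intro u v hu hv h
      rw [map_mul] at h
      exact (q.isPrime.mem_or_mem h).elim hu hv
    rcases hℓ with rfl | ⟨hprime, hℓq⟩
    · exfalso
      rw [one_pow, pow_one] at hsa
      obtain ⟨t, ht, ht'⟩ := hq1 _ hsa
      apply hb₁ (t * s) (hmulq t s ht hs)
      have e : algebraMap A B (t * s) * b₁ =
          algebraMap A B t * (algebraMap A B s * b₁ - algebraMap A B a) +
            algebraMap A B (t * a) := by
        rw [map_mul, map_mul]; ring
      rw [e]
      exact add_mem ht' (Subalgebra.algebraMap_mem _ _)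
    · set N := ℓ ^ n with hN
      have hNpos : 0 < N := pow_pos hprime.pos n
      -- c := s b₁
      have h1 : (algebraMap A B s * b₁) ^ N - algebraMap A B (s ^ (N - 1) * a) ∈ q.asIdeal := by
        have e : (algebraMap A B s * b₁) ^ N - algebraMap A B (s ^ (N - 1) * a) =
            algebraMap A B (s ^ (N - 1)) * (algebraMap A B s * b₁ ^ N - algebraMap A B a) := by
          have e2 : s ^ N = s ^ (N - 1) * s := by
            rw [← pow_succ]; congr 1; omega
          rw [mul_pow, ← map_pow, e2, map_mul, map_mul]; ring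
        rw [e]
        exact q.asIdeal.mul_mem_left _ hsa
      obtain ⟨t, ht, ht'⟩ := hq1 _ h1
      -- d := t s b₁
      have hd : (algebraMap A B (t * s) * b₁) ^ N ∈ (⊥ : Subalgebra A B) := by
        have e : (algebraMap A B (t * s) * b₁) ^ N =
            algebraMap A B (t ^ (N - 1)) * (algebraMap A B t *
              ((algebraMap A B s * b₁) ^ N - algebraMap A B (s ^ (N - 1) * a)) +
              algebraMap A B (t * (s ^ (N - 1) * a))) := by
          have e2 : t ^ N = t ^ (N - 1) * t := by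
            rw [← pow_succ]; congr 1; omega
          rw [map_mul (algebraMap A B) t s, mul_assoc, mul_pow, ← map_pow, e2,
            map_mul (algebraMap A B) (t ^ (N - 1)) t,
            map_mul (algebraMap A B) t (s ^ (N - 1) * a)]
          ring
        rw [e]
        exact mul_mem (Subalgebra.algebraMap_mem _ _)
          (add_mem ht' (Subalgebra.algebraMap_mem _ _))
      have hℓd : algebraMap A B (ℓ : A) * (algebraMap A B (t * s) * b₁) ∈ q.asIdeal :=
        q.asIdeal.mul_mem_right _ hℓq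
      obtain ⟨t', ht'q, ht''⟩ := hq1 _ hℓd
      -- e := t' t s b₁
      set e : B := algebraMap A B (t' * (t * s)) * b₁ with he
      have he1 : e ∉ (⊥ : Subalgebra A B) := hb₁ _ (hmulq t' (t * s) ht'q (hmulq t s ht hs))
      have he2 : (ℓ : B) * e ∈ (⊥ : Subalgebra A B) := by
        have : (ℓ : B) * e = algebraMap A B t' * (algebraMap A B (ℓ : A) *
            (algebraMap A B (t * s) * b₁)) := by
          rw [he, map_mul (algebraMap A B) t' (t * s), map_natCast]; ring
        rw [this]; exact ht''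
      have he3 : e ^ N ∈ (⊥ : Subalgebra A B) := by
        have : e ^ N = algebraMap A B (t' ^ N) * (algebraMap A B (t * s) * b₁) ^ N := by
          rw [he, map_mul (algebraMap A B) t' (t * s), map_pow]; ring
        rw [this]
        exact mul_mem (Subalgebra.algebraMap_mem _ _) hd
      obtain ⟨b', hb'1, hb'2, hb'3⟩ :=
        exists_pth_root_step (⊥ : Subalgebra A B).toSubring ℓ n e he1 he2 he3
      exact ⟨ℓ, b', hprime, hb'1, hb'2, hb'3⟩

/-- Let `A ⊆ B` be a proper ring extension inducing a universal homeomorphism `Spec B → Spec A`. Then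
either there is `b ∈ B`, `b ∉ A`, with `b^2, b^3 ∈ A`, or there are a prime number `p` and `b ∈ B`,
`b ∉ A`, with `p b, b^p ∈ A`. (Here `A → B` is an injective, non-surjective ring map and membership
in `A` means membership in its image.) -/
theorem result {A B : Type u} [CommRing A] [CommRing B]
    (φ : A →+* B) (hinj : Function.Injective φ) (hns : ¬ Function.Surjective φ)
    (hU : FlatMor.IsUnivHomeo (Spec.map (CommRingCat.ofHom φ))) :
    (∃ b : B, b ∉ φ.range ∧ b ^ 2 ∈ φ.range ∧ b ^ 3 ∈ φ.range) ∨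
      ∃ (p : ℕ) (b : B), p.Prime ∧ b ∉ φ.range ∧ (p : B) * b ∈ φ.range ∧ b ^ p ∈ φ.range := by
  have hUH : UH φ := (isUnivHomeo_SpecMap_iff φ).mp hU
  algebraize [φ]
  obtain ⟨b₀, hb₀⟩ : ∃ b₀ : B, b₀ ∉ φ.range := by
    by_contra hcon
    push Not at hcon
    exact hns (fun b => hcon b)
  have hUH' : UH (algebraMap A B) := hUH
  set B₀ : Subalgebra A B := Algebra.adjoin A {b₀} with hB₀
  haveI hfin : Module.Finite A B₀ := finite_adjoin_singleton b₀ (hUH'.integral b₀)
  have hUH₀ : UH (algebraMap A B₀) := UH.subalgebra B₀ hUH'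
  have hns₀ : ¬ Function.Surjective (algebraMap A B₀) := by
    intro hs
    obtain ⟨a, ha⟩ := hs ⟨b₀, Algebra.subset_adjoin (Set.mem_singleton b₀)⟩
    exact hb₀ ⟨a, congrArg Subtype.val ha⟩
  rcases core hUH₀ hns₀ with ⟨b, hb, hb2, hb3⟩ | ⟨ℓ, b, hprime, hb1, hb2, hb3⟩
  · left
    refine ⟨b.1, not_mem_range_of_not_mem_bot B₀ b hb, ?_, ?_⟩
    · exact mem_range_of_mem_bot B₀ (b ^ 2) hb2
    · exact mem_range_of_mem_bot B₀ (b ^ 3) hb3
  · right
    refine ⟨ℓ, b.1, hprime, not_mem_range_of_not_mem_bot B₀ b hb1, ?_, ?_⟩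
    · obtain ⟨x, hx⟩ := mem_range_of_mem_bot B₀ ((ℓ : B₀) * b) hb2
      refine ⟨x, ?_⟩
      have hx' : φ x = (((ℓ : B₀) * b : B₀) : B) := hx
      rw [hx']; simp
    · exact mem_range_of_mem_bot B₀ (b ^ ℓ) hb3

end Groth.Agent.S7399
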