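import Groth.Statements.S7400
import Groth.Agent.Lib.Helper11.UHTower2

set_option autoImplicit false
universe u
open CategoryTheory AlgebraicGeometry
open Mor

namespace Groth.Agent.S7400

open Groth.Agent.Lib.Helper11.UHRing

/-- Let `A ⊆ B` be a ring extension. The morphism `Spec B → Spec A` is a universal homeomorphism with
all residue field extensions trivial exactly when each finite subset of `B` is contained in some
`A[b_1, …, b_n] ⊆ B` such that `b_i^2` and `b_i^3` lie in `A[b_1, …, b_{i-1}]` for every `i`. (Here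
`A → B` is an injective ring map and `A[b_1, …, b_{i-1}]` is the `A`-subalgebra generated by the
earlier entries.) -/
theorem result {A B : Type u} [CommRing A] [CommRing B] [Algebra A B]
    (hinj : Function.Injective (algebraMap A B)) :
    (FlatMor.IsUnivHomeo (Spec.map (CommRingCat.ofHom (algebraMap A B))) ∧
      ∀ x : Spec (CommRingCat.of B),
        Function.Surjective ((Spec.map (CommRingCat.ofHom (algebraMap A B))).residueFieldMap x)) ↔
    ∀ E : Finset B, ∃ l : List B, (↑E : Set B) ⊆ Algebra.adjoin A {b : B | b ∈ l} ∧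
      ∀ i : Fin l.length, l.get i ^ 2 ∈ Algebra.adjoin A {b : B | ∃ j : Fin l.length, j < i ∧ b = l.get j} ∧
        l.get i ^ 3 ∈ Algebra.adjoin A {b : B | ∃ j : Fin l.length, j < i ∧ b = l.get j} := by
  have hker : RingHom.ker (algebraMap A B) ≤ nilradical A := by
    rw [(RingHom.injective_iff_ker_eq_bot _).mp hinj]; exact bot_le
  rw [isUnivHomeo_SpecMap_iff, residueFieldMap_surjective_iff]
  constructor
  · rintro ⟨hUH, hRT⟩ E
    obtain ⟨l, hl, hlt⟩ := exists_tower_of_finset stepMono0 (towerUnion0_eq_top hUH hRT) E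
    exact ⟨l, hl, hlt⟩
  · intro h
    have key : ∀ b : B, ∃ C' : Subalgebra A B, b ∈ C' ∧ UH (algebraMap A C') ∧
        ResTriv (algebraMap A C') := by
      intro b
      obtain ⟨l, hl, hlt⟩ := h {b}
      have hlt' : TowerP (A := A) Step0 l := hlt
      refine ⟨Algebra.adjoin A {x | x ∈ l}, hl (by simp), tower_UH0 hinj l hlt'⟩
    refine ⟨UH.of_forall_mem hker (fun b => ?_), ResTriv.of_forall_mem (fun b => ?_)⟩
    · obtain ⟨C', hb, h1, _⟩ := key b
      exact ⟨C', hb, h1⟩
    · obtain ⟨C', hb, _, h2⟩ := key b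
      exact ⟨C', hb, h2⟩

end Groth.Agent.S7400
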