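import Groth.Statements.S7404
import Groth.Agent.Lib.Helper11.UHSub

set_option autoImplicit false
universe u
open CategoryTheory AlgebraicGeometry
open Mor

namespace Groth.Agent.S7404

open Groth.Agent.Lib.Helper11.UHRing

theorem isIntegral_of_universallyClosed {A B : Type u} [CommRing A] [CommRing B] (φ : A →+* B)
    (h : UniversallyClosed (Spec.map (CommRingCat.ofHom φ))) : φ.IsIntegral := by
  have hint : IsIntegralHom (Spec.map (CommRingCat.ofHom φ)) :=
    IsIntegralHom.iff_universallyClosed_and_isAffineHom.mpr ⟨h, inferInstance⟩
  exact IsIntegralHom.SpecMap_iff.mp hint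

theorem universallyClosed_of_isIntegral {A B : Type u} [CommRing A] [CommRing B] (φ : A →+* B)
    (h : φ.IsIntegral) : UniversallyClosed (Spec.map (CommRingCat.ofHom φ)) := by
  haveI : IsIntegralHom (Spec.map (CommRingCat.ofHom φ)) := IsIntegralHom.SpecMap_iff.mpr h
  infer_instance

theorem isIntegral_sub {A B : Type u} [CommRing A] [CommRing B] [Algebra A B]
    (B' : Subalgebra A B) (h : (algebraMap A B).IsIntegral) : (algebraMap A B').IsIntegral :=
  isIntegral_algebraMap_subalgebra B' (fun c _ => h c)

theorem val_isIntegral {A B : Type u} [CommRing A] [CommRing B] [Algebra A B]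
    (B' : Subalgebra A B) (h : (algebraMap A B).IsIntegral) : (B'.val.toRingHom).IsIntegral :=
  RingHom.IsIntegral.tower_top (algebraMap A B') B'.val.toRingHom h

theorem val_comap_surjective {A B : Type u} [CommRing A] [CommRing B] [Algebra A B]
    (B' : Subalgebra A B) (h : (algebraMap A B).IsIntegral) :
    Function.Surjective (PrimeSpectrum.comap B'.val.toRingHom) :=
  comap_surjective_of_integral _ (val_isIntegral B' h) (by
    rw [(RingHom.injective_iff_ker_eq_bot _).mp (show Function.Injective B'.val.toRingHom from
      Subtype.val_injective)]; exact bot_le)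

theorem resTriv_sub {A B : Type u} [CommRing A] [CommRing B] [Algebra A B]
    (B' : Subalgebra A B) (hint : (algebraMap A B).IsIntegral) (h : ResTriv (algebraMap A B)) :
    ResTriv (algebraMap A B') := by
  intro q' b'
  obtain ⟨q, hq⟩ := val_comap_surjective B' hint q'
  obtain ⟨a, s, hs, hsa⟩ := h q b'.1
  refine ⟨a, s, ?_, ?_⟩
  · rw [← hq]; exact hs
  · rw [← hq]; exact hsa

/-- Let `A → B` be a ring map and `B' ⊆ B` an `A`-subalgebra, with `f : Spec B → Spec A` and `f' : Spec
B' → Spec A` the induced morphisms. Each of the following properties passes from `f` to `f'`: being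
a universal homeomorphism; being a universal homeomorphism with trivial residue field extensions;
being universally closed; being both universally closed and universally injective. -/
theorem result {A B : Type u} [CommRing A] [CommRing B] [Algebra A B]
    (B' : Subalgebra A B) :
    (FlatMor.IsUnivHomeo (Spec.map (CommRingCat.ofHom (algebraMap A B))) →
      FlatMor.IsUnivHomeo (Spec.map (CommRingCat.ofHom (algebraMap A B')))) ∧
    ((FlatMor.IsUnivHomeo (Spec.map (CommRingCat.ofHom (algebraMap A B))) ∧
      ∀ x : Spec (CommRingCat.of B),
        Function.Surjective ((Spec.map (CommRingCat.ofHom (algebraMap A B))).residueFieldMap x)) →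
      FlatMor.IsUnivHomeo (Spec.map (CommRingCat.ofHom (algebraMap A B'))) ∧
      ∀ x : Spec (CommRingCat.of B'),
        Function.Surjective ((Spec.map (CommRingCat.ofHom (algebraMap A B'))).residueFieldMap x)) ∧
    (UniversallyClosed (Spec.map (CommRingCat.ofHom (algebraMap A B))) →
      UniversallyClosed (Spec.map (CommRingCat.ofHom (algebraMap A B')))) ∧
    (UniversallyClosed (Spec.map (CommRingCat.ofHom (algebraMap A B))) →
      UniversallyInjective (Spec.map (CommRingCat.ofHom (algebraMap A B))) →
      UniversallyClosed (Spec.map (CommRingCat.ofHom (algebraMap A B'))) ∧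
      UniversallyInjective (Spec.map (CommRingCat.ofHom (algebraMap A B')))) := by
  refine ⟨?_, ?_, ?_, ?_⟩
  · intro h
    rw [isUnivHomeo_SpecMap_iff] at h ⊢
    exact UH.subalgebra B' h
  · rintro ⟨h, hres⟩
    rw [isUnivHomeo_SpecMap_iff] at h ⊢
    rw [residueFieldMap_surjective_iff] at hres ⊢
    exact ⟨UH.subalgebra B' h, resTriv_sub B' h.integral hres⟩
  · intro h
    exact universallyClosed_of_isIntegral _ (isIntegral_sub B' (isIntegral_of_universallyClosed _ h))
  · intro h h'
    have hint := isIntegral_of_universallyClosed _ h
    refine ⟨universallyClosed_of_isIntegral _ (isIntegral_sub B' hint), ?_⟩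
    haveI : Surjective (Spec.map (CommRingCat.ofHom B'.val.toRingHom)) :=
      ⟨val_comap_surjective B' hint⟩
    haveI : UniversallyInjective (Spec.map (CommRingCat.ofHom B'.val.toRingHom) ≫
        Spec.map (CommRingCat.ofHom (algebraMap A B'))) := by
      rw [← Spec.map_comp, ← CommRingCat.ofHom_comp]
      exact h'
    exact universallyInjective_of_comp_surjective (Spec.map (CommRingCat.ofHom B'.val.toRingHom)) _

end Groth.Agent.S7404
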