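import Groth.Statements.S7405
import Groth.Agent.Lib.Helper11.UHSub

set_option autoImplicit false
universe u
open CategoryTheory AlgebraicGeometry
open Mor

namespace Groth.Agent.S7405

open Groth.Agent.Lib.Helper11.UHRing Limits

theorem isUnivHomeo_SpecMap_iff' {R S : CommRingCat.{u}} (f : R ⟶ S) :
    FlatMor.IsUnivHomeo (Spec.map f) ↔ UH f.hom := isUnivHomeo_SpecMap_iff f.hom

theorem residueFieldMap_surjective_iff' {R S : CommRingCat.{u}} (f : R ⟶ S) :
    (∀ x : Spec S, Function.Surjective ((Spec.map f).residueFieldMap x)) ↔ ResTriv f.hom :=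
  residueFieldMap_surjective_iff f.hom

theorem universallyInjective_SpecMap_iff' {R S : CommRingCat.{u}} (f : R ⟶ S) :
    UniversallyInjective (Spec.map f) ↔
      ∀ (K : Type u) [Field K] (g₁ g₂ : S →+* K), g₁.comp f.hom = g₂.comp f.hom → g₁ = g₂ :=
  universallyInjective_SpecMap_iff f.hom

theorem isIntegral_iff_universallyClosed {R S : CommRingCat.{u}} (f : R ⟶ S) :
    UniversallyClosed (Spec.map f) ↔ f.hom.IsIntegral := by
  constructor
  · intro h
    have hint : IsIntegralHom (Spec.map f) :=
      IsIntegralHom.iff_universallyClosed_and_isAffineHom.mpr ⟨h, inferInstance⟩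
    exact IsIntegralHom.SpecMap_iff.mp hint
  · intro h
    haveI : IsIntegralHom (Spec.map f) := IsIntegralHom.SpecMap_iff.mpr h
    infer_instance

attribute [local instance] IsFiltered.isConnected

section
variable (A : CommRingCat.{u}) {J : Type u} [SmallCategory J]
    [IsFiltered J] (F : J ⥤ Under A) (c : Limits.Cocone F) (hc : Limits.IsColimit c)
include hc

theorem exists_rep (b : c.pt.right) : ∃ (j : J) (y : (F.obj j).right), (c.ι.app j).right y = b :=
  Concrete.isColimit_exists_rep (F ⋙ Under.forget A) (isColimitOfPreserves (Under.forget A) hc) b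

theorem eq_of_map_eq (j : J) (x y : (F.obj j).right)
    (h : (c.ι.app j).right x = (c.ι.app j).right y) :
    ∃ (k : J) (f : j ⟶ k), (F.map f).right x = (F.map f).right y :=
  (IsColimit.eq_iff' (F := F ⋙ Under.forget A) (isColimitOfPreserves (Under.forget A) hc) x y).mp h

theorem w_apply (j : J) (a : A) : (c.ι.app j).right ((F.obj j).hom a) = c.pt.hom a := by
  have : (F.obj j).hom ≫ (c.ι.app j).right = c.pt.hom := Under.w (c.ι.app j)
  rw [← this]; rfl

omit hc [IsFiltered J] in
theorem wF_apply {j k : J} (f : j ⟶ k) (a : A) : (F.map f).right ((F.obj j).hom a) = (F.obj k).hom a := by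
  have := Under.w (F.map f)
  rw [← this]; rfl

theorem integral_colim (h : ∀ j, (F.obj j).hom.hom.IsIntegral) : c.pt.hom.hom.IsIntegral := by
  intro b
  obtain ⟨j, y, rfl⟩ := exists_rep A F c hc b
  obtain ⟨p, hp, hp'⟩ := h j y
  refine ⟨p, hp, ?_⟩
  have h1 : c.pt.hom.hom = ((c.ι.app j).right.hom).comp (F.obj j).hom.hom := by
    ext a; exact (w_apply A F c hc j a).symm
  rw [h1]
  have h2 := Polynomial.hom_eval₂ p (F.obj j).hom.hom (c.ι.app j).right.hom y
  change Polynomial.eval₂ _ ((c.ι.app j).right.hom y) p = 0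
  rw [← h2, hp', map_zero]

theorem inj_colim (h : ∀ j, ∀ (K : Type u) [Field K] (g₁ g₂ : (F.obj j).right →+* K),
      g₁.comp (F.obj j).hom.hom = g₂.comp (F.obj j).hom.hom → g₁ = g₂) :
    ∀ (K : Type u) [Field K] (g₁ g₂ : c.pt.right →+* K),
      g₁.comp c.pt.hom.hom = g₂.comp c.pt.hom.hom → g₁ = g₂ := by
  intro K _ g₁ g₂ hg
  ext b
  obtain ⟨j, y, rfl⟩ := exists_rep A F c hc b
  have := h j K (g₁.comp (c.ι.app j).right.hom) (g₂.comp (c.ι.app j).right.hom) (by
    ext a
    have e := RingHom.congr_fun hg a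
    simp only [RingHom.comp_apply] at e ⊢
    have w := w_apply A F c hc j a
    change g₁ ((c.ι.app j).right ((F.obj j).hom a)) = g₂ ((c.ι.app j).right ((F.obj j).hom a))
    rw [w]; exact e)
  exact RingHom.congr_fun this y

theorem ker_colim (h : ∀ j, RingHom.ker (F.obj j).hom.hom ≤ nilradical A) :
    RingHom.ker c.pt.hom.hom ≤ nilradical A := by
  intro a ha
  obtain ⟨j₀⟩ := IsFiltered.nonempty (C := J)
  have h0 : (c.ι.app j₀).right ((F.obj j₀).hom a) = (c.ι.app j₀).right 0 := by
    rw [w_apply A F c hc j₀ a, map_zero]; exact ha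
  obtain ⟨k, f, hk⟩ := eq_of_map_eq A F c hc j₀ _ _ h0
  rw [wF_apply, map_zero] at hk
  exact h k hk

theorem UH_colim (h : ∀ j, UH (F.obj j).hom.hom) : UH c.pt.hom.hom :=
  ⟨integral_colim A F c hc (fun j => (h j).integral), ker_colim A F c hc (fun j => (h j).ker_le),
    inj_colim A F c hc (fun j => (h j).inj)⟩

theorem resTriv_colim (h : ∀ j, ResTriv (F.obj j).hom.hom) : ResTriv c.pt.hom.hom := by
  intro q b
  obtain ⟨j, y, rfl⟩ := exists_rep A F c hc b
  obtain ⟨a, s, hs, hsa⟩ := h j (PrimeSpectrum.comap (c.ι.app j).right.hom q) y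
  refine ⟨a, s, ?_, ?_⟩
  · have : (c.ι.app j).right.hom ((F.obj j).hom.hom s) ∉ q.asIdeal := hs
    rw [← w_apply A F c hc j s]; exact this
  · have : (c.ι.app j).right.hom ((F.obj j).hom.hom s * y - (F.obj j).hom.hom a) ∈ q.asIdeal := hsa
    rw [map_sub, map_mul] at this
    rw [← w_apply A F c hc j s, ← w_apply A F c hc j a]; exact this

end

/-- Let `A` be a ring and `B` the colimit of a filtered diagram `j ↦ B_j` of `A`-algebras. Each of the
following properties, when it holds for every `Spec B_j → Spec A`, holds for `Spec B → Spec A`: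
being a universal homeomorphism; being a universal homeomorphism with trivial residue field
extensions; being universally closed; being both universally closed and universally injective. -/
theorem result (A : CommRingCat.{u}) {J : Type u} [SmallCategory J]
    [IsFiltered J] (F : J ⥤ Under A) (c : Limits.Cocone F) (hc : Limits.IsColimit c) :
    ((∀ j, FlatMor.IsUnivHomeo (Spec.map (F.obj j).hom)) → FlatMor.IsUnivHomeo (Spec.map c.pt.hom)) ∧
    ((∀ j, FlatMor.IsUnivHomeo (Spec.map (F.obj j).hom) ∧
        ∀ x : Spec (F.obj j).right, Function.Surjective ((Spec.map (F.obj j).hom).residueFieldMap x)) →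
      FlatMor.IsUnivHomeo (Spec.map c.pt.hom) ∧
        ∀ x : Spec c.pt.right, Function.Surjective ((Spec.map c.pt.hom).residueFieldMap x)) ∧
    ((∀ j, UniversallyClosed (Spec.map (F.obj j).hom)) → UniversallyClosed (Spec.map c.pt.hom)) ∧
    ((∀ j, UniversallyClosed (Spec.map (F.obj j).hom) ∧ UniversallyInjective (Spec.map (F.obj j).hom)) →
      UniversallyClosed (Spec.map c.pt.hom) ∧ UniversallyInjective (Spec.map c.pt.hom)) := by
  refine ⟨?_, ?_, ?_, ?_⟩
  · intro h
    rw [isUnivHomeo_SpecMap_iff']
    exact UH_colim A F c hc (fun j => (isUnivHomeo_SpecMap_iff' _).mp (h j))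
  · intro h
    rw [isUnivHomeo_SpecMap_iff', residueFieldMap_surjective_iff']
    exact ⟨UH_colim A F c hc (fun j => (isUnivHomeo_SpecMap_iff' _).mp (h j).1),
      resTriv_colim A F c hc (fun j => (residueFieldMap_surjective_iff' _).mp (h j).2)⟩
  · intro h
    rw [isIntegral_iff_universallyClosed]
    exact integral_colim A F c hc (fun j => (isIntegral_iff_universallyClosed _).mp (h j))
  · intro h
    rw [isIntegral_iff_universallyClosed, universallyInjective_SpecMap_iff']
    exact ⟨integral_colim A F c hc (fun j => (isIntegral_iff_universallyClosed _).mp (h j).1),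
      inj_colim A F c hc (fun j => (universallyInjective_SpecMap_iff' _).mp (h j).2)⟩

end Groth.Agent.S7405
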