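import Groth.Statements.S7406
import Mathlib

set_option autoImplicit false
universe u
open CategoryTheory AlgebraicGeometry
open Desc

namespace Groth.Agent.S7406

open AlgebraicGeometry CategoryTheory Limits

theorem finite_residueFieldMap {X Y : Scheme.{u}} (f : X ⟶ Y) [Etale f] (x : X) :
    @Module.Finite (Y.residueField (f x)) (X.residueField x) _ _
      (f.residueFieldMap x).hom.toAlgebra.toModule := by
  algebraize [(f.stalkMap x).hom]
  have : IsLocalHom (algebraMap (Y.presheaf.stalk (f x)) (X.presheaf.stalk x)) :=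
    inferInstanceAs <| IsLocalHom (f.stalkMap x).hom
  have halg : (f.residueFieldMap x).hom.toAlgebra =
      (inferInstance : Algebra (IsLocalRing.ResidueField (Y.presheaf.stalk (f x)))
        (IsLocalRing.ResidueField (X.presheaf.stalk x))) := by
    refine Algebra.algebra_ext _ _ fun x ↦ ?_
    obtain ⟨x, rfl⟩ := IsLocalRing.residue_surjective x
    rfl
  have : Algebra.EssFiniteType (Y.presheaf.stalk (f x)) (X.presheaf.stalk x) := by
    rw [← RingHom.essFiniteType_algebraMap, RingHom.algebraMap_toAlgebra]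
    exact LocallyOfFiniteType.stalkMap f x
  have : Algebra.FormallyUnramified (Y.presheaf.stalk (f x)) (X.presheaf.stalk x) := by
    rw [← RingHom.formallyUnramified_algebraMap, RingHom.algebraMap_toAlgebra]
    exact FormallyUnramified.stalkMap f x
  rw [halg]
  exact (inferInstance : Module.Finite (IsLocalRing.ResidueField (Y.presheaf.stalk (f x)))
    (IsLocalRing.ResidueField (X.presheaf.stalk x)))

theorem etale_SpecMap_residueFieldMap {X Y : Scheme.{u}} (f : X ⟶ Y) [Etale f] (x : X) :
    Etale (Spec.map (f.residueFieldMap x)) := by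
  rw [HasRingHomProperty.Spec_iff (P := @Etale)]
  letI := (f.residueFieldMap x).hom.toAlgebra
  haveI : Algebra.IsSeparable (Y.residueField (f x)) (X.residueField x) := inferInstance
  haveI : Module.Finite (Y.residueField (f x)) (X.residueField x) := finite_residueFieldMap f x
  haveI : Algebra.FormallyEtale (Y.residueField (f x)) (X.residueField x) :=
    Algebra.FormallyEtale.of_isSeparable _ _
  haveI : Algebra.FinitePresentation (Y.residueField (f x)) (X.residueField x) :=
    Algebra.FinitePresentation.of_finiteType.mp inferInstance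
  have hE : Algebra.Etale (Y.residueField (f x)) (X.residueField x) := ⟨inferInstance, inferInstance⟩
  rw [← RingHom.algebraMap_toAlgebra (f.residueFieldMap x).hom]
  exact RingHom.etale_algebraMap.mpr hE

/-- Consider a commutative square of schemes with horizontal maps `h' : U' → V'`, `h : U → V` and étale
vertical maps `a : U' → U`, `b : V' → V`, and let `v' ∈ V'` with image `v = b(v')`. Then the induced
morphism of fibres `U'_{v'} → U_v` is étale. (The morphism of fibres is characterised by its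
compatibility with `a` and with `Spec κ(v') → Spec κ(v)`.) -/
theorem result {U U' V V' : Scheme.{u}} (h : U ⟶ V) (h' : U' ⟶ V') (a : U' ⟶ U)
    (b : V' ⟶ V) [Etale a] [Etale b] (comm : h' ≫ b = a ≫ h) (v' : V')
    (φ : h'.fiber v' ⟶ h.fiber (b v')) (hφ1 : φ ≫ h.fiberι (b v') = h'.fiberι v' ≫ a)
    (hφ2 : φ ≫ h.fiberToSpecResidueField (b v') = h'.fiberToSpecResidueField v' ≫ Spec.map (b.residueFieldMap v')) :
    Etale φ := by

  obtain ⟨W, w1, w2, hsqW⟩ : ∃ (W : Scheme.{u}) (w1 : W ⟶ U) (w2 : W ⟶ V'), IsPullback w1 w2 h b :=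
    ⟨_, _, _, IsPullback.of_hasPullback h b⟩
  haveI hw1 : Etale w1 := MorphismProperty.of_isPullback (P := @Etale) hsqW.flip ‹Etale b›
  obtain ⟨c, hc1, hc2⟩ : ∃ c : U' ⟶ W, c ≫ w1 = a ∧ c ≫ w2 = h' :=
    ⟨hsqW.lift a h' comm.symm, hsqW.lift_fst _ _ _, hsqW.lift_snd _ _ _⟩
  haveI : Etale (c ≫ w1) := by rw [hc1]; infer_instance
  haveI hc : Etale c := Etale.of_comp c w1
  haveI hres : Etale (Spec.map (b.residueFieldMap v')) := etale_SpecMap_residueFieldMap b v'
  obtain ⟨Q, q1, q2, hsq1⟩ : ∃ (Q : Scheme.{u}) (q1 : Q ⟶ h.fiber (b v'))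
      (q2 : Q ⟶ Spec (V'.residueField v')),
      IsPullback q1 q2 (h.fiberToSpecResidueField (b v')) (Spec.map (b.residueFieldMap v')) :=
    ⟨_, _, _, IsPullback.of_hasPullback _ _⟩
  haveI hq1 : Etale q1 := MorphismProperty.of_isPullback (P := @Etale) hsq1.flip hres
  obtain ⟨ψ, hψ1, hψ2⟩ : ∃ ψ : h'.fiber v' ⟶ Q, ψ ≫ q1 = φ ∧
      ψ ≫ q2 = h'.fiberToSpecResidueField v' :=
    ⟨hsq1.lift φ (h'.fiberToSpecResidueField v') hφ2, hsq1.lift_fst _ _ _, hsq1.lift_snd _ _ _⟩
  have hsqF : IsPullback (h.fiberι (b v')) (h.fiberToSpecResidueField (b v')) h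
      (V.fromSpecResidueField (b v')) := IsPullback.of_hasPullback _ _
  have hsqF' : IsPullback (h'.fiberι v') (h'.fiberToSpecResidueField v') h'
      (V'.fromSpecResidueField v') := IsPullback.of_hasPullback _ _
  have hQW : (q1 ≫ h.fiberι (b v')) ≫ h = (q2 ≫ V'.fromSpecResidueField v') ≫ b := by
    calc (q1 ≫ h.fiberι (b v')) ≫ h
        = q1 ≫ (h.fiberToSpecResidueField (b v') ≫ V.fromSpecResidueField (b v')) := by
          rw [Category.assoc, h.fiber_fac (b v')]
      _ = (q2 ≫ Spec.map (b.residueFieldMap v')) ≫ V.fromSpecResidueField (b v') := by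
          rw [← Category.assoc, hsq1.w]
      _ = (q2 ≫ V'.fromSpecResidueField v') ≫ b := by
          rw [Category.assoc, Scheme.Hom.SpecMap_residueFieldMap_fromSpecResidueField,
            Category.assoc]
  obtain ⟨r, hr1, hr2⟩ : ∃ r : Q ⟶ W, r ≫ w1 = q1 ≫ h.fiberι (b v') ∧
      r ≫ w2 = q2 ≫ V'.fromSpecResidueField v' :=
    ⟨hsqW.lift _ _ hQW, hsqW.lift_fst _ _ _, hsqW.lift_snd _ _ _⟩
  have big := hsq1.paste_horiz hsqF
  rw [Scheme.Hom.SpecMap_residueFieldMap_fromSpecResidueField, ← hr1] at big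
  have sqA : IsPullback r q2 w2 (V'.fromSpecResidueField v') := IsPullback.of_right big hr2 hsqW
  have big2 : IsPullback (ψ ≫ q2) (h'.fiberι v') (V'.fromSpecResidueField v') (c ≫ w2) := by
    rw [hψ2, hc2]
    exact hsqF'.flip
  have hp : ψ ≫ r = h'.fiberι v' ≫ c := by
    apply hsqW.hom_ext
    · rw [Category.assoc, hr1, ← Category.assoc, hψ1, hφ1, Category.assoc, hc1]
    · rw [Category.assoc, hr2, ← Category.assoc, hψ2, Category.assoc, hc2, h'.fiber_fac v']
  have sqB : IsPullback ψ (h'.fiberι v') r c := IsPullback.of_right big2 hp sqA.flip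
  haveI hψ : Etale ψ := MorphismProperty.of_isPullback (P := @Etale) sqB.flip hc
  rw [← hψ1]
  infer_instance

end Groth.Agent.S7406
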