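import Groth.Statements.S7407
import Mathlib

set_option autoImplicit false
universe u
open CategoryTheory AlgebraicGeometry
open Desc

namespace Groth.Agent.S7407

open AlgebraicGeometry CategoryTheory Limits

theorem isAlgebraic_residueFieldMap {X Y : Scheme.{u}} (f : X ⟶ Y) [Etale f] (x : X) :
    @Algebra.IsAlgebraic (Y.residueField (f x)) (X.residueField x) _ _
      (f.residueFieldMap x).hom.toAlgebra := by
  letI := (f.residueFieldMap x).hom.toAlgebra
  haveI : Algebra.IsSeparable (Y.residueField (f x)) (X.residueField x) := inferInstance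
  exact Algebra.IsSeparable.isAlgebraic _ _

theorem trdeg_comp_of_right_algebraic {R S A : Type u} [CommRing R] [CommRing S] [CommRing A]
    [Nontrivial R] [NoZeroDivisors A]
    (φ : R →+* S) (ψ : S →+* A) (hφ : Function.Injective φ) (hψ : Function.Injective ψ)
    (halg : @Algebra.IsAlgebraic S A _ _ ψ.toAlgebra) :
    @Algebra.trdeg R A _ _ (ψ.comp φ).toAlgebra = @Algebra.trdeg R S _ _ φ.toAlgebra := by
  letI := φ.toAlgebra
  letI := ψ.toAlgebra
  letI := (ψ.comp φ).toAlgebra
  haveI : IsScalarTower R S A := IsScalarTower.of_algebraMap_eq (fun x => rfl)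
  haveI : FaithfulSMul R S := (faithfulSMul_iff_algebraMap_injective R S).mpr hφ
  haveI : FaithfulSMul S A := (faithfulSMul_iff_algebraMap_injective S A).mpr hψ
  have h := trdeg_add_eq R S (A := A)
  rw [trdeg_eq_zero_iff.mpr halg, add_zero] at h
  exact h.symm

theorem trdeg_comp_of_left_algebraic {R S A : Type u} [CommRing R] [CommRing S] [CommRing A]
    [Nontrivial R] [NoZeroDivisors A]
    (φ : R →+* S) (ψ : S →+* A) (hφ : Function.Injective φ) (hψ : Function.Injective ψ)
    (halg : @Algebra.IsAlgebraic R S _ _ φ.toAlgebra) :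
    @Algebra.trdeg R A _ _ (ψ.comp φ).toAlgebra = @Algebra.trdeg S A _ _ ψ.toAlgebra := by
  letI := φ.toAlgebra
  letI := ψ.toAlgebra
  letI := (ψ.comp φ).toAlgebra
  haveI : IsScalarTower R S A := IsScalarTower.of_algebraMap_eq (fun x => rfl)
  haveI : FaithfulSMul R S := (faithfulSMul_iff_algebraMap_injective R S).mpr hφ
  haveI : FaithfulSMul S A := (faithfulSMul_iff_algebraMap_injective S A).mpr hψ
  have h := trdeg_add_eq R S (A := A)
  rw [trdeg_eq_zero_iff.mpr halg, zero_add] at h
  exact h.symm

theorem trdeg_congr_hom {R A : Type u} [CommRing R] [CommRing A] {χ χ' : R →+* A} (h : χ = χ') :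
    @Algebra.trdeg R A _ _ χ.toAlgebra = @Algebra.trdeg R A _ _ χ'.toAlgebra := by
  subst h; rfl

theorem isAlgebraic_of_surjective {R S : Type u} [CommRing R] [CommRing S] [Nontrivial R]
    (ε : R →+* S) (hε : Function.Surjective ε) : @Algebra.IsAlgebraic R S _ _ ε.toAlgebra := by
  letI := ε.toAlgebra
  haveI : Algebra.IsIntegral R S := Algebra.isIntegral_of_surjective hε
  infer_instance

/-- The transcendence degree of the residue field extension `κ(x)/κ(s)` of a morphism of germs `(X, x) →
(S, s)` is étale local on the source-and-target: for a commutative square with horizontal maps `h' :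
U' → V'`, `h : U → V`, étale vertical maps `a : U' → U`, `b : V' → V` and `u' ∈ U'` with `u =
a(u')`, the transcendence degree of `κ(u)` over `κ(h(u))` equals that of `κ(u')` over `κ(h'(u'))`. -/
theorem result {U U' V V' : Scheme.{u}} (h : U ⟶ V) (h' : U' ⟶ V') (a : U' ⟶ U)
    (b : V' ⟶ V) [Etale a] [Etale b] (comm : h' ≫ b = a ≫ h) (u' : U') :
    @Algebra.trdeg (V.residueField (h (a u'))) (U.residueField (a u')) _ _ (h.residueFieldMap (a u')).hom.toAlgebra =
      @Algebra.trdeg (V'.residueField (h' u')) (U'.residueField u') _ _ (h'.residueFieldMap u').hom.toAlgebra := by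

  have F1 : h.residueFieldMap (a u') ≫ a.residueFieldMap u' = (a ≫ h).residueFieldMap u' :=
    (Scheme.residueFieldMap_comp a h u').symm
  have F2 : b.residueFieldMap (h' u') ≫ h'.residueFieldMap u' = (h' ≫ b).residueFieldMap u' :=
    (Scheme.residueFieldMap_comp h' b u').symm
  obtain ⟨e, heiso, F3⟩ : ∃ e : V.residueField ((h' ≫ b) u') ⟶ V.residueField ((a ≫ h) u'),
      IsIso e ∧ (h' ≫ b).residueFieldMap u' = e ≫ (a ≫ h).residueFieldMap u' :=
    ⟨_, inferInstance, Scheme.Hom.residueFieldMap_congr comm u'⟩
  have hsurj : Function.Surjective e.hom := fun y => ⟨(inv e).hom y, by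
    exact congrArg (fun t => t.hom y) (IsIso.inv_hom_id e)⟩
  have hF' : ((a.residueFieldMap u').hom.comp (h.residueFieldMap (a u')).hom).comp e.hom =
      (h'.residueFieldMap u').hom.comp (b.residueFieldMap (h' u')).hom :=
    (congrArg CommRingCat.Hom.hom
      (F2.trans (F3.trans (congrArg (fun t => e ≫ t) F1.symm)))).symm
  have s1 := trdeg_comp_of_right_algebraic (h.residueFieldMap (a u')).hom
    (a.residueFieldMap u').hom (RingHom.injective _) (RingHom.injective _)
    (isAlgebraic_residueFieldMap a u')
  have s2 := trdeg_comp_of_left_algebraic e.hom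
    ((a.residueFieldMap u').hom.comp (h.residueFieldMap (a u')).hom)
    (RingHom.injective _) (RingHom.injective _) (isAlgebraic_of_surjective _ hsurj)
  have s4 := trdeg_comp_of_left_algebraic (b.residueFieldMap (h' u')).hom
    (h'.residueFieldMap u').hom (RingHom.injective _) (RingHom.injective _)
    (isAlgebraic_residueFieldMap b (h' u'))
  exact s1.symm.trans ((((trdeg_congr_hom hF').symm.trans s2).symm).trans s4)

end Groth.Agent.S7407
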