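import Groth.Statements.S7413
import Mathlib
import Groth.Agent.S7391
import Groth.Agent.Lib.Helper17.PbStalk

set_option autoImplicit false
universe u
open CategoryTheory AlgebraicGeometry
open Opposite
open Mor

namespace Groth.Agent.S7413


open Groth.Agent.Lib.Helper3 Groth.Agent.Lib.Helper17

theorem proj_sections {X Y : Scheme.{u}} (f : X ⟶ Y) (G : Y.Modules) [G.IsQuasicoherent]
    {V : Y.Opens} (hV : IsAffineOpen V) {W : X.Opens} (hW : IsAffineOpen W) (e : W ≤ f ⁻¹ᵁ V)
    (h : Module.Projective Γ(Y, V) Γ(G, V)) :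
    Module.Projective Γ(X, W) Γ((Scheme.Modules.pullback f).obj G, W) := by
  letI := (f.appLE V W e).hom.toAlgebra
  letI : Module Γ(Y, V) Γ((Scheme.Modules.pullback f).obj G, W) :=
    Module.compHom _ (f.appLE V W e).hom
  obtain ⟨hst, β, hβ⟩ := PbStalk.exists_isBaseChange_sections f G hV hW e
  haveI := h
  exact Module.Projective.of_equiv' hβ.equiv



/-- Let `f : X → Y` be a morphism of schemes and `G` a quasi-coherent, locally projective `O_Y`-module
(projective sections over every affine open). Then `f^* G` is locally projective on `X`. -/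
theorem result {X Y : Scheme.{u}} (f : X ⟶ Y) (G : Y.Modules) [Coh.IsQCoh G]
    (hG : ∀ V : Y.Opens, IsAffineOpen V → Module.Projective (Y.ringCatSheaf.obj.obj (op V)) (G.val.obj (op V)))
    (U : X.Opens) (hU : IsAffineOpen U) :
    Module.Projective (X.ringCatSheaf.obj.obj (op U)) (((Scheme.Modules.pullback f).obj G).val.obj (op U)) := by
  haveI : G.IsQuasicoherent := ‹Coh.IsQCoh G›
  haveI hq : ((Scheme.Modules.pullback f).obj G).IsQuasicoherent :=
    PbStalk.isQuasicoherent_pullback f G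
  haveI : Coh.IsQCoh ((Scheme.Modules.pullback f).obj G) := hq
  refine (Groth.Agent.S7391.result X ((Scheme.Modules.pullback f).obj G)).2 ?_ U hU
  refine ⟨{p : Y.Opens × X.Opens // IsAffineOpen p.1 ∧ IsAffineOpen p.2 ∧ p.2 ≤ f ⁻¹ᵁ p.1},
    fun i => i.1.2, ?_, ?_⟩
  · apply top_le_iff.1
    intro x _
    obtain ⟨V, hV, hfx⟩ := QCProps.exists_affine_nbhd (f x)
    obtain ⟨_, ⟨W, hW, rfl⟩, hxW, hWV⟩ := X.isBasis_affineOpens.exists_subset_of_mem_open
      (show x ∈ ((f ⁻¹ᵁ V : X.Opens) : Set X) from hfx) (f ⁻¹ᵁ V).2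
    exact TopologicalSpace.Opens.mem_iSup.2 ⟨⟨(V, W), hV, hW, hWV⟩, hxW⟩
  · rintro ⟨⟨V, W⟩, hV, hW, hWV⟩
    refine ⟨hW, ?_⟩
    exact proj_sections f G hV hW hWV (hG V hV)

end Groth.Agent.S7413
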