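import Groth.Statements.S7414
import Groth.Agent.Lib.Helper14.ExcellentLoc

set_option autoImplicit false
universe u
open CategoryTheory AlgebraicGeometry
open Mor

namespace Groth.Agent.S7414

/-- A localization at a prime is isomorphic (as a ring) to the standard one. -/
lemma nonempty_equiv {R S : Type u} [CommRing R] [CommRing S] [Algebra R S] (p : Ideal R)
    [p.IsPrime] [IsLocalization.AtPrime S p] : Nonempty (Localization.AtPrime p ≃+* S) :=
  ⟨(IsLocalization.algEquiv p.primeCompl (Localization.AtPrime p) S).toRingEquiv⟩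

/-- A scheme `X` is a G-scheme (every point has an affine open neighbourhood with G-ring coordinate
ring) if and only if `O_X(U)` is a G-ring for every affine open `U ⊆ X`. -/
theorem result (X : Scheme.{u}) :
    (∀ x : X, ∃ U : X.Opens, x ∈ U ∧ IsAffineOpen U ∧ CAlg.IsGRing Γ(X, U)) ↔
      ∀ U : X.Opens, IsAffineOpen U → CAlg.IsGRing Γ(X, U) := by
  constructor
  · intro H U hU
    choose V hxV hV hG using H
    haveI : IsLocallyNoetherian X := by
      refine isLocallyNoetherian_of_affine_cover (ι := X) (S := fun x => ⟨V x, hV x⟩) ?_ ?_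
      · rw [eq_top_iff]
        intro x _
        exact TopologicalSpace.Opens.mem_iSup.mpr ⟨x, hxV x⟩
      · intro x
        exact (hG x).1
    haveI hN : IsNoetherianRing Γ(X, U) := IsLocallyNoetherian.component_noetherian ⟨U, hU⟩
    refine ⟨hN, ?_⟩
    intro p hp
    have hyU : hU.fromSpec (⟨p, hp⟩ : PrimeSpectrum Γ(X, U)) ∈ U := by
      have h := hU.range_fromSpec
      have h2 : hU.fromSpec (⟨p, hp⟩ : PrimeSpectrum Γ(X, U)) ∈ Set.range hU.fromSpec :=
        Set.mem_range_self _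
      rw [h] at h2
      exact h2
    have h1 := hU.isLocalization_stalk' (⟨p, hp⟩ : PrimeSpectrum Γ(X, U)) hyU
    obtain ⟨e1⟩ := @nonempty_equiv _ _ _ _
      (TopCat.Presheaf.algebra_section_stalk X.presheaf
        (⟨hU.fromSpec (⟨p, hp⟩ : PrimeSpectrum Γ(X, U)), hyU⟩ : U)) p hp h1
    have h2 := (hV (hU.fromSpec (⟨p, hp⟩ : PrimeSpectrum Γ(X, U)))).isLocalization_stalk
      ⟨hU.fromSpec (⟨p, hp⟩ : PrimeSpectrum Γ(X, U)), hxV _⟩
    obtain ⟨e2⟩ := @nonempty_equiv _ _ _ _
      (TopCat.Presheaf.algebra_section_stalk X.presheaf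
        (⟨hU.fromSpec (⟨p, hp⟩ : PrimeSpectrum Γ(X, U)), hxV _⟩ :
          V (hU.fromSpec (⟨p, hp⟩ : PrimeSpectrum Γ(X, U))))) _ _ h2
    haveI : IsNoetherianRing (Localization.AtPrime p) :=
      IsLocalization.isNoetherianRing p.primeCompl _ hN
    haveI := (hG (hU.fromSpec (⟨p, hp⟩ : PrimeSpectrum Γ(X, U)))).1
    haveI : IsNoetherianRing (Localization.AtPrime
        ((hV (hU.fromSpec (⟨p, hp⟩ : PrimeSpectrum Γ(X, U)))).primeIdealOf
          ⟨hU.fromSpec (⟨p, hp⟩ : PrimeSpectrum Γ(X, U)), hxV _⟩).asIdeal) :=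
      IsLocalization.isNoetherianRing (Ideal.primeCompl
        ((hV (hU.fromSpec (⟨p, hp⟩ : PrimeSpectrum Γ(X, U)))).primeIdealOf
          ⟨hU.fromSpec (⟨p, hp⟩ : PrimeSpectrum Γ(X, U)), hxV _⟩).asIdeal) _
        (hG (hU.fromSpec (⟨p, hp⟩ : PrimeSpectrum Γ(X, U)))).1
    exact Groth.Agent.Lib.Helper14.ExcellentLoc.isRegularHom_cpl_of_ringEquiv (e1.trans e2.symm)
      ((hG (hU.fromSpec (⟨p, hp⟩ : PrimeSpectrum Γ(X, U)))).2 _)
  · intro H x
    obtain ⟨U, hU, hxU, -⟩ := (TopologicalSpace.Opens.isBasis_iff_nbhd.mp X.isBasis_affineOpens)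
      (show x ∈ (⊤ : X.Opens) from trivial)
    exact ⟨U, hxU, hU, H U hU⟩

end Groth.Agent.S7414
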