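import Groth.Statements.S7415
-- import your own Groth.Agent.* helpers here
import Mathlib
import Groth.Agent.Lib.Helper12.GenericPts

set_option autoImplicit false
universe u
open CategoryTheory AlgebraicGeometry
open Mor

namespace Groth.Agent.S7415

open Groth.Agent.Lib.Helper12 TopologicalSpace

/-- Let `X` be a reduced scheme with finitely many irreducible components and `x ∈ X`. Then `x` has an
affine open neighbourhood `U` such that `O_X(U) → O_{X,x}` is injective. -/
theorem result (X : Scheme.{u}) [AlgebraicGeometry.IsReduced X]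
    (hirr : (irreducibleComponents (X : Type u)).Finite) (x : X) : X.IsGermInjectiveAt x := by
  classical
  set S : Set (Set X) := {Z | Z ∈ irreducibleComponents (X : Type u) ∧ x ∉ Z} with hS
  have hSfin : S.Finite := hirr.subset (fun Z hZ => hZ.1)
  set C : Set X := ⋃₀ S with hC
  have hCclosed : IsClosed C := by
    rw [hC, Set.sUnion_eq_biUnion]
    apply Set.Finite.isClosed_biUnion hSfin
    intro Z hZ
    exact isClosed_of_mem_irreducibleComponents Z hZ.1
  have hxC : x ∈ Cᶜ := by
    intro hx
    obtain ⟨Z, hZ, hxZ⟩ := hx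
    exact hZ.2 hxZ
  obtain ⟨_, ⟨U, hUaff, rfl⟩, hxU, hUV⟩ :=
    X.isBasis_affineOpens.exists_subset_of_mem_open hxC hCclosed.isOpen_compl
  refine ⟨U, hxU, hUaff, ?_⟩
  rw [injective_iff_map_eq_zero]
  intro s hs
  have hbot : X.basicOpen s = ⊥ := by
    by_contra hne
    obtain ⟨y, hy⟩ : ∃ y, y ∈ X.basicOpen s := by
      by_contra hcon
      rw [not_exists] at hcon
      apply hne
      ext z
      simp only [SetLike.mem_coe, Opens.coe_bot, Set.mem_empty_iff_false, iff_false]
      exact hcon z
    obtain ⟨ξ, hξ, hξy⟩ := exists_generic_specializes y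
    have hξs : ξ ∈ X.basicOpen s := hξy.mem_open (X.basicOpen s).isOpen hy
    have hξU : ξ ∈ U := X.basicOpen_le s hξs
    have hyU : y ∈ U := X.basicOpen_le s hy
    have hxξ : x ∈ closure ({ξ} : Set X) := by
      by_contra hx
      have : y ∈ C := ⟨closure {ξ}, ⟨hξ, hx⟩, specializes_iff_mem_closure.1 hξy⟩
      exact hUV hyU this
    obtain ⟨W, hxW, iWU, iWU', hW⟩ :=
      TopCat.Presheaf.germ_eq X.presheaf x hxU hxU s 0 (by rw [hs, map_zero])
    have hξW : ξ ∈ W := (specializes_iff_mem_closure.2 hxξ).mem_open W.isOpen hxW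
    have hgerm : X.presheaf.germ U ξ hξU s = 0 := by
      rw [← TopCat.Presheaf.germ_res_apply X.presheaf iWU ξ hξW s, hW, map_zero, map_zero]
    have hunit := (X.mem_basicOpen s ξ hξU).1 hξs
    rw [hgerm] at hunit
    exact not_isUnit_zero hunit
  exact (basicOpen_eq_bot_iff s).1 hbot

end Groth.Agent.S7415
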