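import Groth.Statements.S7416
import Mathlib

set_option autoImplicit false
universe u
open CategoryTheory AlgebraicGeometry
open Mor

namespace Groth.Agent.S7416

/-- Let `U`, `V` be affine schemes and `W → U`, `W → V` open immersions. Then every `w ∈ W` has an open
neighbourhood `W' ⊆ W` whose images in `U` and in `V` are standard opens `D(f) ⊆ U`, `D(g) ⊆ V` (in
particular `W'` is affine). -/
theorem result {U V W : Scheme.{u}} [IsAffine U]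
    [IsAffine V] (i : W ⟶ U) (j : W ⟶ V) [IsOpenImmersion i] [IsOpenImmersion j] (w : W) :
    ∃ (W' : W.Opens) (f : Γ(U, ⊤)) (g : Γ(V, ⊤)), w ∈ W' ∧ i ''ᵁ W' = U.basicOpen f ∧ j ''ᵁ W' = V.basicOpen g := by
  have hiw : i w ∈ i.opensRange := ⟨w, rfl⟩
  obtain ⟨_, ⟨_, ⟨f₁, rfl⟩, rfl⟩, hwf, hfi⟩ :=
    (isBasis_basicOpen U).exists_subset_of_mem_open hiw i.opensRange.2
  have hD : U.basicOpen f₁ ≤ i.opensRange := hfi
  have hjw : j w ∈ j ''ᵁ (i ⁻¹ᵁ U.basicOpen f₁) := ⟨w, hwf, rfl⟩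
  obtain ⟨_, ⟨_, ⟨g₁, rfl⟩, rfl⟩, hwg, hgj⟩ :=
    (isBasis_basicOpen V).exists_subset_of_mem_open hjw (j ''ᵁ (i ⁻¹ᵁ U.basicOpen f₁)).2
  have hW'W₁ : j ⁻¹ᵁ V.basicOpen g₁ ≤ i ⁻¹ᵁ U.basicOpen f₁ := by
    intro p hp
    obtain ⟨q, hq, hqp⟩ := hgj hp
    have := j.isOpenEmbedding.injective hqp
    rwa [← this]
  have hjW' : j ''ᵁ (j ⁻¹ᵁ V.basicOpen g₁) = V.basicOpen g₁ := by
    rw [Scheme.Hom.image_preimage_eq_opensRange_inf]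
    apply inf_eq_right.mpr
    intro p hp
    obtain ⟨q, -, hqp⟩ := hgj hp
    exact ⟨q, hqp⟩
  let r : Γ(W, i ⁻¹ᵁ U.basicOpen f₁) :=
    W.presheaf.map (homOfLE (le_top : i ⁻¹ᵁ U.basicOpen f₁ ≤ j ⁻¹ᵁ ⊤)).op (j.app ⊤ g₁)
  have hr : W.basicOpen r = j ⁻¹ᵁ V.basicOpen g₁ := by
    refine (Scheme.basicOpen_res _ _ _).trans ?_
    have h2 : j ⁻¹ᵁ V.basicOpen g₁ = W.basicOpen (j.app ⊤ g₁) := Scheme.preimage_basicOpen j g₁
    exact (congrArg (fun O => i ⁻¹ᵁ U.basicOpen f₁ ⊓ O) h2.symm).trans (inf_eq_right.mpr hW'W₁)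
  haveI : IsIso (i.app (U.basicOpen f₁)) := i.isIso_app _ hD
  let h : Γ(U, U.basicOpen f₁) := (inv (i.app (U.basicOpen f₁))) r
  have hh : i ⁻¹ᵁ (U.basicOpen h) = j ⁻¹ᵁ V.basicOpen g₁ := by
    rw [Scheme.preimage_basicOpen, ← hr]
    congr 1
    change (inv (i.app (U.basicOpen f₁)) ≫ i.app (U.basicOpen f₁)) r = r
    rw [IsIso.inv_hom_id]
    rfl
  obtain ⟨f, hf⟩ := (isAffineOpen_top U).basicOpen_basicOpen_is_basicOpen f₁ h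
  refine ⟨j ⁻¹ᵁ V.basicOpen g₁, f, g₁, hwg, ?_, hjW'⟩
  rw [hf, ← hh, Scheme.Hom.image_preimage_eq_opensRange_inf]
  exact inf_eq_right.mpr ((U.basicOpen_le h).trans hD)

end Groth.Agent.S7416
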