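import Groth.Statements.S7426
import Groth.Agent.Lib.Helper11.AWNGlue

set_option autoImplicit false
universe u
open CategoryTheory AlgebraicGeometry
open HTop

namespace Groth.Agent.S7426

open Groth.Agent.Lib.Helper11.AWNGlue Groth.Agent.Lib.Helper11.AWNScheme

/-- For a scheme `X` the following are equivalent: `X` is absolutely weakly normal; `X^awn → X` is an
isomorphism (equivalently, the identity of `X` is an absolute weak normalization); every universal
homeomorphism `Y → X` with `Y` reduced is an isomorphism. -/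
theorem result (X : Scheme.{u}) :
    (HTop.IsAWN X ↔ HTop.IsAWNormalization (𝟙 X)) ∧
    (HTop.IsAWN X ↔ ∀ (Y : Scheme.{u}) (π : Y ⟶ X), FlatMor.IsUnivHomeo π → AlgebraicGeometry.IsReduced Y → IsIso π) := by
  refine ⟨⟨?_, ?_⟩, ⟨?_, ?_⟩⟩
  · intro hX
    exact isAWNormalization_of_isAWN (𝟙 X) (isUnivHomeo_id X) hX
  · intro h
    exact isAWN_of_isAWNormalization X (𝟙 X) h
  · intro hX Y π hπ hY
    exact isIso_of_isUnivHomeo_of_isReduced hX π hπ
  · intro h
    obtain ⟨X', ν, hν, hX'⟩ := exists_awn X
    haveI := isReduced_of_isAWN hX'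
    haveI := h X' ν hν inferInstance
    exact isAWN_of_iso (asIso ν).symm hX'

end Groth.Agent.S7426
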