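import Groth.Statements.S7427
import Groth.Agent.Lib.Helper11.UHSub

set_option autoImplicit false
universe u
open CategoryTheory AlgebraicGeometry
open Mor

namespace Groth.Agent.S7427

open Groth.Agent.Lib.Helper11.UHRing

theorem ker_le_of_isDominant {A B : Type u} [CommRing A] [CommRing B] [Algebra A B]
    [h : IsDominant (Spec.map (CommRingCat.ofHom (algebraMap A B)))] :
    RingHom.ker (algebraMap A B) ≤ nilradical A := by
  rw [← PrimeSpectrum.denseRange_comap_iff_ker_le_nilRadical]
  exact (isDominant_iff _).mp h

/-- Let `A → B` be a ring map with `Spec B → Spec A` dominant. Then some `A`-subalgebra `B' ⊆ B` has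
`Spec B' → Spec A` a universal homeomorphism and contains the image of `C → B` whenever `C` is an
`A`-algebra with an `A`-algebra map `C → B` whose structure map gives a universal homeomorphism
`Spec C → Spec A`. (The test algebras `C` range over the universe of `A` and `B`.) -/
theorem result {A B : Type u} [CommRing A] [CommRing B] [Algebra A B]
    [IsDominant (Spec.map (CommRingCat.ofHom (algebraMap A B)))] :
    ∃ B' : Subalgebra A B, FlatMor.IsUnivHomeo (Spec.map (CommRingCat.ofHom (algebraMap A B'))) ∧
      ∀ (C : Type u) [CommRing C] [Algebra A C] (g : C →ₐ[A] B),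
        FlatMor.IsUnivHomeo (Spec.map (CommRingCat.ofHom (algebraMap A C))) → g.range ≤ B' := by
  have hker := ker_le_of_isDominant (A := A) (B := B)
  refine ⟨sSup {C' : Subalgebra A B | UH (algebraMap A C')}, ?_, ?_⟩
  · rw [isUnivHomeo_SpecMap_iff]
    exact UH.of_sSup _ (fun C' hC' => hC') hker
  · intro C _ _ g hg
    rw [isUnivHomeo_SpecMap_iff] at hg
    exact le_sSup (UH.of_range g hg hker)

end Groth.Agent.S7427
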