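import Groth.Statements.S7431
import Mathlib

set_option autoImplicit false
universe u
open CategoryTheory AlgebraicGeometry
open Lim

namespace Groth.Agent.S7431

section helpers
open CategoryTheory.Limits

lemma pullback_facts {B B' R R' : Type u} [CommRing B] [CommRing B']
    [CommRing R] [CommRing R'] (s : B →+* R) (t : R' →+* R) (p : B' →+* B) (q : B' →+* R')
    (hsq : IsPullback (CommRingCat.ofHom p) (CommRingCat.ofHom q) (CommRingCat.ofHom s)
      (CommRingCat.ofHom t)) :
    (∀ b r', s b = t r' → ∃ x, p x = b ∧ q x = r') ∧ (∀ x, p x = 0 → q x = 0 → x = 0) ∧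
      (∀ x, s (p x) = t (q x)) := by
  let c := CommRingCat.pullbackCone (CommRingCat.ofHom s) (CommRingCat.ofHom t)
  let e := hsq.isLimit.conePointUniqueUpToIso
    (CommRingCat.pullbackConeIsLimit (CommRingCat.ofHom s) (CommRingCat.ofHom t))
  have h1 : e.hom ≫ c.fst = CommRingCat.ofHom p :=
    IsLimit.conePointUniqueUpToIso_hom_comp _ _ WalkingCospan.left
  have h2 : e.hom ≫ c.snd = CommRingCat.ofHom q :=
    IsLimit.conePointUniqueUpToIso_hom_comp _ _ WalkingCospan.right
  have h1' : ∀ x : B', ((e.hom x).1).1 = p x := fun x => congrArg (fun k => k.hom x) h1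
  have h2' : ∀ x : B', ((e.hom x).1).2 = q x := fun x => congrArg (fun k => k.hom x) h2
  refine ⟨?_, ?_, ?_⟩
  · intro b r' hbr
    let y : c.pt := ⟨(b, r'), hbr⟩
    refine ⟨e.inv y, ?_, ?_⟩
    · rw [← h1']
      have : e.hom (e.inv y) = y := Iso.inv_hom_id_apply e y
      rw [this]
    · rw [← h2']
      have : e.hom (e.inv y) = y := Iso.inv_hom_id_apply e y
      rw [this]
  · intro x hpx hqx
    have h0 : e.hom x = 0 := by
      apply Subtype.ext
      apply Prod.ext
      · rw [h1' x, hpx]; rfl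
      · rw [h2' x, hqx]; rfl
    have : e.inv (e.hom x) = x := Iso.hom_inv_id_apply e x
    calc x = e.inv (e.hom x) := this.symm
      _ = 0 := by rw [h0, map_zero]
  · intro x
    exact congrArg (fun k => k.hom x) hsq.w

end helpers


/-- Let `B' = B ×_R R'` be a cartesian square of rings with maps `s : B → R`, `t : R' → R`, and let `W'
= D(f_1) ∪ … ∪ D(f_n) ⊆ Spec R'` with `t(f_i) = s(g_i)` for elements `g_i ∈ B` such that `B_{g_i} →
R_{s(g_i)}` is an isomorphism for each `i`. Then the composite `W' → Spec R' → Spec B'`, the second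
map coming from `B' → R'`, is an open immersion. -/
theorem result {B B' R R' : Type u} [CommRing B] [CommRing B']
    [CommRing R] [CommRing R'] (s : B →+* R) (t : R' →+* R) (p : B' →+* B) (q : B' →+* R')
    (hsq : IsPullback (CommRingCat.ofHom p) (CommRingCat.ofHom q) (CommRingCat.ofHom s) (CommRingCat.ofHom t))
    {n : ℕ} (f : Fin n → R') (g : Fin n → B) (hfg : ∀ i, t (f i) = s (g i))
    (hiso : ∀ i, Function.Bijective (Localization.awayMap s (g i))) :
    IsOpenImmersion (Scheme.Opens.ι (X := Spec (CommRingCat.of R')) (⨆ i, PrimeSpectrum.basicOpen (f i)) ≫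
      Spec.map (CommRingCat.ofHom q)) := by
  obtain ⟨hex, hinj, hcomm⟩ := pullback_facts s t p q hsq
  have hh : ∀ i, ∃ h : B', p h = g i ∧ q h = f i := fun i => hex (g i) (f i) (hfg i).symm
  choose h hph hqh using hh
  have hsinj : ∀ i, ∀ b, s b = 0 → ∃ n : ℕ, g i ^ n * b = 0 :=
    fun i => Localization.awayMap_injective_iff.mp (hiso i).1
  have hssurj : ∀ i, ∀ ρ, ∃ b, ∃ m : ℕ, s b = s (g i) ^ m * ρ :=
    fun i => Localization.awayMap_surjective_iff.mp (hiso i).2
  have L1 : ∀ i (r' : R'), ∃ x : B', ∃ N : ℕ, q x = q (h i) ^ N * r' := by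
    intro i r'
    obtain ⟨b, m, hb⟩ := hssurj i (t r')
    have hbr : s b = t (f i ^ m * r') := by
      rw [hb, map_mul, map_pow, hfg i]
    obtain ⟨x, -, hqx⟩ := hex b (f i ^ m * r') hbr
    exact ⟨x, m, by rw [hqx, hqh i]⟩
  have L2 : ∀ i (x : B'), q x = 0 → ∃ k : ℕ, h i ^ k * x = 0 := by
    intro i x hx
    have h0 : s (p x) = 0 := by rw [hcomm x, hx, map_zero]
    obtain ⟨n, hn⟩ := hsinj i (p x) h0
    refine ⟨n, hinj _ ?_ ?_⟩
    · rw [map_mul, map_pow, hph i, hn]
    · rw [map_mul, hx, mul_zero]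
  have hbij : ∀ i, Function.Bijective (Localization.awayMap q (h i)) := fun i =>
    ⟨Localization.awayMap_injective_iff.mpr (L2 i), Localization.awayMap_surjective_iff.mpr (L1 i)⟩
  set W' : (Spec (CommRingCat.of R')).Opens := ⨆ i, PrimeSpectrum.basicOpen (f i) with hW'
  refine IsOpenImmersion.of_forall_source_exists _ ?_ ?_
  · -- injectivity
    have key : ∀ (P1 P2 : PrimeSpectrum R') (i : Fin n),
        Ideal.comap q P1.asIdeal = Ideal.comap q P2.asIdeal → f i ∉ P1.asIdeal →
        f i ∉ P2.asIdeal ∧ P1.asIdeal ≤ P2.asIdeal := by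
      intro P1 P2 i h12 hf1
      have hf2 : f i ∉ P2.asIdeal := by
        intro hf2
        have : h i ∈ Ideal.comap q P1.asIdeal := by
          rw [h12, Ideal.mem_comap, hqh i]; exact hf2
        rw [Ideal.mem_comap, hqh i] at this
        exact hf1 this
      refine ⟨hf2, fun r' hr' => ?_⟩
      obtain ⟨x, N, hx⟩ := L1 i r'
      have hx1 : x ∈ Ideal.comap q P1.asIdeal := by
        rw [Ideal.mem_comap, hx]; exact Ideal.mul_mem_left _ _ hr'
      rw [h12, Ideal.mem_comap, hx, hqh i] at hx1
      rcases P2.isPrime.mem_or_mem hx1 with h3 | h3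
      · exact absurd (P2.isPrime.mem_of_pow_mem _ h3) hf2
      · exact h3
    intro x1 x2 hx
    have h12 : Ideal.comap q (x1.1 : PrimeSpectrum R').asIdeal =
        Ideal.comap q (x2.1 : PrimeSpectrum R').asIdeal :=
      congrArg PrimeSpectrum.asIdeal hx
    obtain ⟨i, hi⟩ := TopologicalSpace.Opens.mem_iSup.mp x1.2
    have hf1 : f i ∉ (x1.1 : PrimeSpectrum R').asIdeal := hi
    obtain ⟨hf2, h12le⟩ := key x1.1 x2.1 i h12 hf1
    obtain ⟨-, h21le⟩ := key x2.1 x1.1 i h12.symm hf2
    apply Subtype.ext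
    exact PrimeSpectrum.ext (le_antisymm h12le h21le)
  · intro x
    obtain ⟨i, hi⟩ := TopologicalSpace.Opens.mem_iSup.mp x.2
    have hfx : q (h i) ∉ (x.1 : PrimeSpectrum R').asIdeal := by rw [hqh i]; exact hi
    let j₀ : Spec (CommRingCat.of (Localization.Away (q (h i)))) ⟶ Spec (CommRingCat.of R') :=
      Spec.map (CommRingCat.ofHom (algebraMap R' (Localization.Away (q (h i)))))
    have hrange : Set.range j₀.base = (PrimeSpectrum.basicOpen (q (h i)) : Set (PrimeSpectrum R')) :=
      PrimeSpectrum.localization_away_comap_range _ _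
    have hsub : Set.range j₀.base ⊆ Set.range W'.ι.base := by
      rw [hrange, Scheme.Opens.range_ι]
      intro y hy
      exact TopologicalSpace.Opens.mem_iSup.mpr ⟨i, by rw [← hqh i]; exact hy⟩
    let i' := IsOpenImmersion.lift W'.ι j₀ hsub
    have hi' : i' ≫ W'.ι = j₀ := IsOpenImmersion.lift_fac _ _ _
    haveI : IsOpenImmersion i' := by
      haveI : IsOpenImmersion (i' ≫ W'.ι) := by rw [hi']; infer_instance
      exact IsOpenImmersion.of_comp i' W'.ι
    refine ⟨_, i', inferInstance, ?_, ?_⟩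
    · have hx : (x.1 : PrimeSpectrum R') ∈ Set.range j₀.base := by rw [hrange]; exact hfx
      obtain ⟨u, hu⟩ := hx
      refine ⟨u, ?_⟩
      apply W'.ι.isOpenEmbedding.injective
      have : W'.ι.base (i'.base u) = j₀.base u := by
        rw [← hi']; rfl
      rw [this, hu]; rfl
    · have hfac : i' ≫ W'.ι ≫ Spec.map (CommRingCat.ofHom q) =
          Spec.map (CommRingCat.ofHom (Localization.awayMap q (h i))) ≫
            Spec.map (CommRingCat.ofHom (algebraMap B' (Localization.Away (h i)))) := by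
        rw [← Category.assoc, hi', ← Spec.map_comp, ← Spec.map_comp]
        congr 1
        ext z
        simp [Localization.awayMap, IsLocalization.Away.map, IsLocalization.map_eq]
      rw [hfac]
      haveI : IsIso (CommRingCat.ofHom (Localization.awayMap q (h i))) :=
        (ConcreteCategory.isIso_iff_bijective _).mpr (hbij i)
      infer_instance

end Groth.Agent.S7431
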