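import Groth.Statements.S7435
import Groth.Agent.Lib.Helper11.BddLib

set_option autoImplicit false
universe u
open CategoryTheory AlgebraicGeometry
open BddFib

namespace Groth.Agent.S7435

/-- If `f` is finite locally free of degree `d`, then `d` bounds the degrees of the fibres of `f`. -/
theorem result {X Y : Scheme.{u}} (f : X ⟶ Y) (d : ℕ) (hf : Mor2.IsFinLocFreeOfDeg d f) :
    BddFib.FibreDegLE f d := by

  obtain ⟨⟨hfin, hflat, hfp⟩, hrk⟩ := hf
  intro y
  haveI := hfin
  haveI := hflat
  haveI : IsFinite (f.fiberToSpecResidueField y) :=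
    MorphismProperty.pullback_snd (P := @IsFinite) _ _ hfin
  haveI : Flat (f.fiberToSpecResidueField y) :=
    MorphismProperty.pullback_snd (P := @Flat) _ _ hflat
  have hpt : ∀ s : Spec (Y.residueField y), (f.fiberToSpecResidueField y).finrank s = d := by
    intro s
    show (Limits.pullback.snd f (Y.fromSpecResidueField y)).finrank s = d
    rw [Scheme.Hom.finrank_pullback_snd]
    exact hrk _
  have h := Groth.Agent.Lib.Helper11.BddLib.finiteOfDegLE_of_isFinite (Y.residueField y)
    (f.fiberToSpecResidueField y) (IsLocalRing.closedPoint (Y.residueField y))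
  rw [hpt] at h
  exact h

end Groth.Agent.S7435
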