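import Groth.Statements.S7444
import Groth.Agent.Lib.Helper11.UHColim

set_option autoImplicit false
universe u
open CategoryTheory AlgebraicGeometry
open Mor

namespace Groth.Agent.S7444

open Groth.Agent.Lib.Helper11.UHRing Groth.Agent.Lib.Helper11

/-- Let `φ : A → B` be a ring map such that `Spec B → Spec A` is a universal homeomorphism and all
residue field extensions are trivial (every residue field map is surjective). Then `B`, as an
`A`-algebra, is the colimit of a filtered diagram of finitely presented `A`-algebras `B_i`, each of
which has the same two properties over `A`. (The colimit is taken in the category of rings under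
`A`, over a small filtered index category.) -/
theorem result {A B : Type u} [CommRing A] [CommRing B]
    (φ : A →+* B) (hφ : FlatMor.IsUnivHomeo (Spec.map (CommRingCat.ofHom φ)))
    (hres : ∀ x : Spec (CommRingCat.of B), Function.Surjective ((Spec.map (CommRingCat.ofHom φ)).residueFieldMap x)) :
    ∃ (J : Type u) (_ : SmallCategory J) (_ : IsFiltered J) (F : J ⥤ Under (CommRingCat.of A))
      (c : Limits.Cocone F) (_ : Limits.IsColimit c),
      (∀ j, (F.obj j).hom.hom.FinitePresentation ∧ FlatMor.IsUnivHomeo (Spec.map (F.obj j).hom) ∧
        ∀ x : Spec (F.obj j).right, Function.Surjective ((Spec.map (F.obj j).hom).residueFieldMap x)) ∧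
      Nonempty (c.pt ≅ Under.mk (CommRingCat.ofHom φ)) := by
  letI : Algebra A B := φ.toAlgebra
  have hB : UH (algebraMap A B) := (isUnivHomeo_SpecMap_iff φ).mp hφ
  have hRT : ResTriv (algebraMap A B) := (residueFieldMap_surjective_iff φ).mp hres
  have H := hyp_RT hB hRT
  obtain ⟨hc⟩ := GenColim.isColimit H
  refine ⟨GenColim.Idx A B (PRT A), inferInstance, GenColim.isFiltered H, GenColim.F A B (PRT A),
    GenColim.cocone A B (PRT A), hc, fun j => ⟨?_, ?_, ?_⟩, ⟨Iso.refl _⟩⟩
  · show (algebraMap A j.Q).FinitePresentation
    rw [RingHom.finitePresentation_algebraMap]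
    infer_instance
  · exact (isUnivHomeo_SpecMap_iff _).mpr j.prop.1
  · exact (residueFieldMap_surjective_iff _).mpr j.prop.2

end Groth.Agent.S7444
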