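import Groth.Statements.S7447
-- import your own Groth.Agent.* helpers here
import Mathlib
import Groth.Agent.Lib.Helper12.ApproxMain

set_option autoImplicit false
universe u
open CategoryTheory AlgebraicGeometry
open Opposite
open Lim

namespace Groth.Agent.S7447
open Limits TopologicalSpace Groth.Agent.Lib.Helper12.ApproxMain Groth.Agent.Lib.Helper12.LimGlue

set_option backward.isDefEq.respectTransparency false
set_option linter.style.haveILetI false

/-- Noetherian approximation relative to a quasi-compact open: let `S` be quasi-compact and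
quasi-separated, `V ⊆ S` a quasi-compact open, and `V = lim V_i` the limit of an inverse system,
over a nonempty directed set `I`, of schemes of finite type over `ℤ` with affine transition
morphisms. Then there are a nonempty directed set `J`, an inverse system `(S_j)` of schemes of
finite type over `ℤ` with affine transition morphisms and `S = lim S_j`, an order preserving map `α
: J → I`, opens `V'_j ⊆ S_j` and isomorphisms `V'_j ≅ V_{α(j)}` such that: the transition maps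
satisfy `g_{jj'}⁻¹(V'_{j'}) = V'_j`; `V` is the inverse image of each `V'_j` under `S → S_j` (which
identifies `V` with `lim V'_j`); the composite `V → V'_j → V_{α(j)}` is the projection; and the
squares `V'_j → V_{α(j)} → V_{α(j')}`, `V'_j → V'_{j'} → V_{α(j')}` commute. -/
theorem result (S : Scheme.{u}) [CompactSpace S] [QuasiSeparatedSpace S]
    (V : S.Opens) (hV : IsCompact (V : Set S)) (I : Type u) [Preorder I] [IsDirected I (fun a b => a ≤ b)] [Nonempty I]
    (DV : Iᵒᵖ ⥤ Scheme.{u}) (haff : ∀ (i i' : Iᵒᵖ) (a : i ⟶ i'), IsAffineHom (DV.map a))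
    (hft : ∀ i, CompactSpace (DV.obj i) ∧ LocallyOfFiniteType (Limits.IsTerminal.from specULiftZIsTerminal (DV.obj i)))
    (cV : Limits.Cone DV) (hcV : Limits.IsLimit cV) (eV : cV.pt ≅ (V : Scheme.{u})) :
    ∃ (J : Type u) (_ : Preorder J) (_ : IsDirected J (fun a b => a ≤ b)) (_ : Nonempty J)
      (DS : Jᵒᵖ ⥤ Scheme.{u}) (cS : Limits.Cone DS) (_ : Limits.IsLimit cS) (eS : cS.pt ≅ S)
      (α : J →o I) (V' : ∀ j : J, (DS.obj (op j)).Opens)
      (φ : ∀ j : J, (V' j : Scheme.{u}) ≅ DV.obj (op (α j))),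
      (∀ (j j' : Jᵒᵖ) (a : j ⟶ j'), IsAffineHom (DS.map a)) ∧
      (∀ j, CompactSpace (DS.obj j) ∧ LocallyOfFiniteType (Limits.IsTerminal.from specULiftZIsTerminal (DS.obj j))) ∧
      (∀ (j j' : J) (h : j' ≤ j), (DS.map (homOfLE h).op) ⁻¹ᵁ (V' j') = V' j) ∧
      (∀ j : J, (eS.inv ≫ cS.π.app (op j)) ⁻¹ᵁ (V' j) = V) ∧
      (∀ j : J, ∃ ρ : (V : Scheme.{u}) ⟶ (V' j : Scheme.{u}),
        ρ ≫ (V' j).ι = V.ι ≫ eS.inv ≫ cS.π.app (op j) ∧ ρ ≫ (φ j).hom = eV.inv ≫ cV.π.app (op (α j))) ∧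
      (∀ (j j' : J) (h : j' ≤ j), ∃ τ : (V' j : Scheme.{u}) ⟶ (V' j' : Scheme.{u}),
        τ ≫ (V' j').ι = (V' j).ι ≫ DS.map (homOfLE h).op ∧
        (φ j).hom ≫ DV.map (homOfLE (α.mono h)).op = τ ≫ (φ j').hom) := by
  classical
  haveI : ∀ {i i' : Iᵒᵖ} (m : i ⟶ i'), IsAffineHom (DV.map m) := fun m => haff _ _ m
  have hcV' : IsLimit (cV.extend eV.inv) := IsLimit.extendIso eV.inv hcV
  obtain ⟨hVT, J, iJ1, iJ2, iJ3, DS, π, hlim, α, ι₁, P1, P2, P3, P4, P5⟩ :=
    rel_top V hV DV hft (cV.extend eV.inv).π hcV'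
  haveI := P3
  have hinv : ∀ {Z : Scheme.{u}} (q : (⊤ : S.Opens).toScheme ⟶ Z),
      V.ι ≫ S.topIso.inv ≫ q = S.homOfLE hVT ≫ q := fun q => by
    rw [← Category.assoc]
    congr 1
    rw [Iso.comp_inv_eq, Scheme.topIso_hom, Scheme.homOfLE_ι]
  have hsq : ∀ j : J, (eV.inv ≫ cV.π.app (op (α j))) ≫ ι₁ j = S.homOfLE hVT ≫ π.app (op j) :=
    fun j => (P5 j).w
  refine ⟨J, iJ1, iJ2, iJ3, DS, { pt := ((⊤ : S.Opens) : Scheme.{u}), π := π }, hlim, S.topIso, α,
    fun j => (ι₁ j).opensRange, fun j => (ι₁ j).isoOpensRange.symm, P1, P2, ?_, ?_, ?_, ?_⟩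
  · intro j j' h
    apply Opens.ext
    rw [Scheme.Hom.coe_preimage, Scheme.Hom.coe_opensRange, Scheme.Hom.coe_opensRange]
    exact (range_snd_of_isPullback (P4 j j' h)).symm
  · intro j
    apply Opens.ext
    have h1 := range_snd_of_isPullback (P5 j)
    have h2 : (π.app (op j)) ⁻¹ᵁ (ι₁ j).opensRange = (S.homOfLE hVT).opensRange := by
      apply Opens.ext
      rw [Scheme.Hom.coe_preimage, Scheme.Hom.coe_opensRange, Scheme.Hom.coe_opensRange]
      exact h1.symm
    show ((S.topIso.inv ≫ π.app (op j)) ⁻¹ᵁ (ι₁ j).opensRange : Set S) = V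
    have h3 : S.topIso.inv ≫ (⊤ : S.Opens).ι = 𝟙 S := by
      rw [← Scheme.topIso_hom, Iso.inv_hom_id]
    rw [Scheme.Hom.comp_preimage, h2, Scheme.opensRange_homOfLE, ← Scheme.Hom.comp_preimage, h3]
    rfl
  · intro j
    refine ⟨(eV.inv ≫ cV.π.app (op (α j))) ≫ (ι₁ j).isoOpensRange.hom, ?_, ?_⟩
    · show _ = V.ι ≫ S.topIso.inv ≫ π.app (op j)
      rw [Category.assoc, Scheme.Hom.isoOpensRange_hom_ι, hinv]
      exact hsq j
    · show _ ≫ (ι₁ j).isoOpensRange.inv = _
      rw [Category.assoc, Iso.hom_inv_id, Category.comp_id]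
  · intro j j' h
    refine ⟨(ι₁ j).isoOpensRange.inv ≫ DV.map (homOfLE (α.mono h)).op ≫
      (ι₁ j').isoOpensRange.hom, ?_, ?_⟩
    · rw [Category.assoc, Category.assoc, Scheme.Hom.isoOpensRange_hom_ι, (P4 j j' h).w,
        Scheme.Hom.isoOpensRange_inv_comp_assoc]
    · show (ι₁ j).isoOpensRange.inv ≫ _ = _ ≫ (ι₁ j').isoOpensRange.inv
      rw [Category.assoc, Category.assoc, Iso.hom_inv_id, Category.comp_id]

end Groth.Agent.S7447
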