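import Groth.Statements.S7452
import Mathlib
import Groth.Agent.Lib.Helper11.GrpdLib

set_option autoImplicit false
universe u
open CategoryTheory CategoryTheory.Limits AlgebraicGeometry
open Grpd

namespace Groth.Agent.S7452

/-- Let (U, R, s, t, c) be a groupoid scheme over S with U the spectrum of a field. Then the composition
c : R x_(s,U,t) R -> R is an open map of topological spaces. (A groupoid scheme carries U, R, s, t,
c, e, i over S with the groupoid axioms on T-points; c is defined on the fibre product of s and t
and sends a pair (a, b) with s(a) = t(b) to a composed with b.) -/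
theorem result (S : Scheme.{u}) (G : Grpd.GroupoidScheme S) (k : Type u) [Field k] (eU : G.U ≅ Spec (CommRingCat.of k)) : IsOpenMap ⇑G.c := by
  haveI : Subsingleton ↥(Spec (CommRingCat.of k)) :=
    inferInstanceAs (Subsingleton (PrimeSpectrum k))
  haveI : Subsingleton G.U := eU.hom.homeomorph.subsingleton
  haveI : IsIntegral (Spec (CommRingCat.of k)) := inferInstance
  by_cases hne : Nonempty G.U
  · haveI : IsIntegral G.U := isIntegral_of_isOpenImmersion eU.hom
    have hs : UniversallyOpen G.s := inferInstance
    haveI hc : UniversallyOpen G.c :=
      MorphismProperty.of_isPullback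
        (Groth.Agent.Lib.Helper11.GrpdLib.isPullback_c_snd (G := G)).flip hs
    exact G.c.isOpenMap
  · haveI : IsEmpty G.U := not_nonempty_iff.mp hne
    haveI : IsEmpty G.R := Function.isEmpty ⇑G.s
    haveI : IsEmpty ↑(pullback G.s G.t) := Function.isEmpty ⇑(pullback.fst G.s G.t)
    intro V _
    have : ⇑G.c '' V = ∅ := by
      ext x; exact ⟨fun _ => (IsEmpty.false x).elim, fun h => h.elim⟩
    rw [this]; exact isOpen_empty

end Groth.Agent.S7452
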