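import Groth.Statements.S7458
import Mathlib

set_option autoImplicit false
universe u
open CategoryTheory MonoidalCategory CartesianMonoidalCategory MonObj GrpObj AlgebraicGeometry
open GrpSch

namespace Groth.Agent.S7458

universe v₁ u₁ in
/-- `(t, g) ↦ (t, ψ(t) g)` is an automorphism of `T ⊗ G`, and `ψ ▷ G ≫ μ` is it followed by `snd`. -/
lemma translate_iso {C : Type u₁} [Category.{v₁} C] [CartesianMonoidalCategory C] {T G : C}
    [GrpObj G] (ψ : T ⟶ G) :
    ∃ Φ : T ⊗ G ≅ T ⊗ G, ψ ▷ G ≫ μ[G] = Φ.hom ≫ snd T G := by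
  have hΦ1 : lift (fst T G) ((fst T G ≫ ψ) * snd T G) ≫ fst T G = fst T G := lift_fst _ _
  have hΦ2 : lift (fst T G) ((fst T G ≫ ψ) * snd T G) ≫ snd T G =
      (fst T G ≫ ψ) * snd T G := lift_snd _ _
  have hΨ1 : lift (fst T G) ((fst T G ≫ ψ)⁻¹ * snd T G) ≫ fst T G = fst T G := lift_fst _ _
  have hΨ2 : lift (fst T G) ((fst T G ≫ ψ)⁻¹ * snd T G) ≫ snd T G =
      (fst T G ≫ ψ)⁻¹ * snd T G := lift_snd _ _
  refine ⟨⟨lift (fst T G) ((fst T G ≫ ψ) * snd T G),
    lift (fst T G) ((fst T G ≫ ψ)⁻¹ * snd T G), ?_, ?_⟩, ?_⟩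
  · apply CartesianMonoidalCategory.hom_ext
    · rw [Category.assoc, hΨ1, hΦ1, Category.id_comp]
    · rw [Category.assoc, hΨ2, MonObj.comp_mul, GrpObj.comp_inv, ← Category.assoc, hΦ1, hΦ2,
        inv_mul_cancel_left, Category.id_comp]
  · apply CartesianMonoidalCategory.hom_ext
    · rw [Category.assoc, hΦ1, hΨ1, Category.id_comp]
    · rw [Category.assoc, hΦ2, MonObj.comp_mul, ← Category.assoc, hΨ1, hΨ2,
        mul_inv_cancel_left, Category.id_comp]
  · rw [hΦ2, Hom.mul_def]
    congr 1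
    apply CartesianMonoidalCategory.hom_ext
    · rw [whiskerRight_fst, lift_fst]
    · rw [whiskerRight_snd, lift_snd]


/-- For a group scheme G over a scheme S, a scheme T flat over S and a morphism ψ : T -> G over S, the
map T x_S G -> G sending (t, g) to the product ψ(t)·g is a flat morphism; taking T = G and ψ the
identity, the multiplication G x_S G -> G is flat whenever G is flat over S. -/
theorem result (S : Scheme.{u}) (G : Over S) [GrpObj G] : (∀ (T : Over S) (ψ : T ⟶ G), Flat T.hom → Flat (ψ ▷ G ≫ μ[G]).left) ∧ (Flat G.hom → Flat μ[G].left) := by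
  have main : ∀ (T : Over S) (ψ : T ⟶ G), Flat T.hom → Flat (ψ ▷ G ≫ μ[G]).left := by
    intro T ψ hT
    obtain ⟨Φ, hΦ⟩ := translate_iso ψ
    rw [hΦ, Over.comp_left]
    haveI : IsIso Φ.hom.left := inferInstance
    haveI : Flat (snd T G).left := by
      show Flat (Limits.pullback.snd T.hom G.hom)
      exact MorphismProperty.pullback_snd T.hom G.hom hT
    infer_instance
  refine ⟨main, fun hG => ?_⟩
  have := main G (𝟙 G) hG
  rwa [MonoidalCategory.id_whiskerRight, Category.id_comp] at this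

end Groth.Agent.S7458
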