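import Groth.Statements.S7459
import Mathlib
import Groth.Agent.S7458

set_option autoImplicit false
universe u
open CategoryTheory MonoidalCategory CartesianMonoidalCategory MonObj GrpObj AlgebraicGeometry
open GrpSch

namespace Groth.Agent.S7459

/-- Let G be a group scheme over a field k, W an open subscheme of G and f : T -> G a morphism of
schemes (T becomes a k-scheme through f). Then the image of the composition T x_k W -> G x_k G -> G,
the second map being the multiplication, is open. -/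
theorem result (K : Type u) [Field K] (G : Over (Spec (CommRingCat.of K))) [GrpObj G] (W : G.left.Opens) (T : Scheme.{u}) (f : T ⟶ G.left) : IsOpen (Set.range ⇑(((Over.homMk f rfl : Over.mk (f ≫ G.hom) ⟶ G) ⊗ₘ (Over.homMk W.ι rfl : Over.mk (W.ι ≫ G.hom) ⟶ G)) ≫ μ[G]).left) := by
  have h1 : ((Over.homMk f rfl : Over.mk (f ≫ G.hom) ⟶ G) ⊗ₘ
      (Over.homMk W.ι rfl : Over.mk (W.ι ≫ G.hom) ⟶ G)) ≫ μ[G] =
      (Over.mk (f ≫ G.hom) ◁ (Over.homMk W.ι rfl : Over.mk (W.ι ≫ G.hom) ⟶ G)) ≫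
        ((Over.homMk f rfl : Over.mk (f ≫ G.hom) ⟶ G) ▷ G ≫ μ[G]) := by
    rw [← Category.assoc, ← MonoidalCategory.tensorHom_def']
  obtain ⟨Φ, hΦ⟩ := Groth.Agent.S7458.translate_iso
    (Over.homMk f rfl : Over.mk (f ≫ G.hom) ⟶ G)
  rw [h1, hΦ, Over.comp_left]
  have hopen1 : IsOpenImmersion
      (Over.mk (f ≫ G.hom) ◁ (Over.homMk W.ι rfl : Over.mk (W.ι ≫ G.hom) ⟶ G)).left := by
    rw [Over.whiskerLeft_left]
    haveI : IsOpenImmersion (Over.homMk W.ι rfl : Over.mk (W.ι ≫ G.hom) ⟶ G).left := by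
      show IsOpenImmersion W.ι
      infer_instance
    infer_instance
  haveI : Subsingleton ↥(Spec (CommRingCat.of K)) :=
    inferInstanceAs (Subsingleton (PrimeSpectrum K))
  haveI : IsIntegral (Spec (CommRingCat.of K)) := inferInstance
  haveI : UniversallyOpen (snd (Over.mk (f ≫ G.hom)) G).left := by
    show UniversallyOpen (Limits.pullback.snd (f ≫ G.hom) G.hom)
    exact MorphismProperty.pullback_snd (f ≫ G.hom) G.hom inferInstance
  haveI : IsIso Φ.hom.left := inferInstance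
  have hopen2 : IsOpenMap ⇑(Φ.hom ≫ snd (Over.mk (f ≫ G.hom)) G).left := by
    rw [Over.comp_left]
    exact Scheme.Hom.isOpenMap _
  have hr : Set.range ⇑((Over.mk (f ≫ G.hom) ◁
      (Over.homMk W.ι rfl : Over.mk (W.ι ≫ G.hom) ⟶ G)).left ≫
        (Φ.hom ≫ snd (Over.mk (f ≫ G.hom)) G).left) =
      ⇑(Φ.hom ≫ snd (Over.mk (f ≫ G.hom)) G).left '' Set.range
        ⇑(Over.mk (f ≫ G.hom) ◁ (Over.homMk W.ι rfl : Over.mk (W.ι ≫ G.hom) ⟶ G)).left := by
    rw [← Set.range_comp]
    rfl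
  rw [hr]
  exact hopen2 _ hopen1.base_open.isOpen_range

end Groth.Agent.S7459
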