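import Groth.Statements.S7461
import Mathlib
import Groth.Agent.Lib.Helper11.GrpdLib

set_option autoImplicit false
universe u
open CategoryTheory CategoryTheory.Limits AlgebraicGeometry
open Grpd

namespace Groth.Agent.S7461

open Groth.Agent.Lib.Helper11.GrpdLib


/-- Let (U, R, s, t, c) be a groupoid scheme over S with s and t finite locally free. Then U is a
disjoint union of R-invariant open subschemes U_r, r = 1, 2, 3, ..., such that s and t restricted
over U_r are finite locally free of rank r. Here the decomposition is indexed by all natural numbers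
with U_0 empty, R-invariance of U_r means s^{-1}(U_r) = t^{-1}(U_r), and 'finite locally free of
rank r' means finite, flat, locally of finite presentation with rank function constant equal to r.
(A groupoid scheme carries U, R, s, t, c, e, i over S with the groupoid axioms on T-points; c is
defined on the fibre product of s and t and sends a pair (a, b) with s(a) = t(b) to a composed with
b.) -/
theorem result (S : Scheme.{u}) (G : Grpd.GroupoidScheme S) [IsFinite G.s] [Flat G.s] [LocallyOfFinitePresentation G.s] [IsFinite G.t] [Flat G.t] [LocallyOfFinitePresentation G.t] : ∃ V : ℕ → G.U.Opens, V 0 = ⊥ ∧ (∀ r r', r ≠ r' → Disjoint (V r) (V r')) ∧ (⨆ r, V r) = ⊤ ∧ ∀ r, G.s ⁻¹ᵁ V r = G.t ⁻¹ᵁ V r ∧ Mor2.IsFinLocFreeOfDeg r (G.s ∣_ V r) ∧ Mor2.IsFinLocFreeOfDeg r (G.t ∣_ V r) := by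
  have hlc : IsLocallyConstant (Scheme.Hom.finrank G.s) :=
    Scheme.Hom.isLocallyConstant_finrank G.s
  haveI : IsIso G.i := isIso_i
  have hts : Scheme.Hom.finrank G.t = Scheme.Hom.finrank G.s := by
    rw [← G.i_s]; exact Scheme.Hom.finrank_comp_left_of_isIso G.i G.s
  haveI : Surjective G.s := ⟨fun x => ⟨G.e x, s_e_apply x⟩⟩
  have hpos : ∀ x, 1 ≤ Scheme.Hom.finrank G.s x := fun x =>
    (Scheme.Hom.one_le_finrank_iff_surjective G.s).mpr inferInstance x
  have hinv : ∀ ρ : G.R, Scheme.Hom.finrank G.s (G.s ρ) = Scheme.Hom.finrank G.s (G.t ρ) := by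
    intro ρ
    have h1 := Scheme.Hom.finrank_of_isPullback (pullback.snd G.s G.t) G.c G.s G.s
      (isPullback_c_snd (G := G)).flip ρ
    have h2 := Scheme.Hom.finrank_of_isPullback (pullback.fst G.s G.t) G.c G.t G.t
      (isPullback_c_fst (G := G)).flip ρ
    rw [← h1, h2, hts]
  have hmem : ∀ (W : G.U.Opens) (y : (W : Scheme.{u})), W.ι y ∈ W := fun W y => by
    have := Set.mem_range_self (f := ⇑W.ι) y
    rwa [Scheme.Opens.range_ι] at this
  obtain ⟨V, hV⟩ : ∃ V : ℕ → G.U.Opens, ∀ r x, x ∈ V r ↔ Scheme.Hom.finrank G.s x = r :=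
    ⟨fun r => ⟨Scheme.Hom.finrank G.s ⁻¹' {r}, hlc.isOpen_fiber r⟩, fun r x => Iff.rfl⟩
  refine ⟨V, ?_, ?_, ?_, ?_⟩
  · ext x
    constructor
    · intro hx
      have h0 := (hV 0 x).mp hx
      have := hpos x
      omega
    · intro hx
      exact hx.elim
  · intro r r' hne
    rw [disjoint_iff_inf_le]
    rintro x ⟨h1, h2⟩
    exact (hne (((hV r x).mp h1).symm.trans ((hV r' x).mp h2))).elim
  · exact eq_top_iff.mpr fun x _ =>
      TopologicalSpace.Opens.mem_iSup.mpr ⟨Scheme.Hom.finrank G.s x, (hV _ x).mpr rfl⟩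
  · intro r
    refine ⟨?_, ⟨⟨?_, ?_, ?_⟩, ?_⟩, ⟨⟨?_, ?_, ?_⟩, ?_⟩⟩
    · ext ρ
      show G.s ρ ∈ V r ↔ G.t ρ ∈ V r
      rw [hV, hV, hinv ρ]
    · exact IsZariskiLocalAtTarget.restrict ‹IsFinite G.s› (V r)
    · exact IsZariskiLocalAtTarget.restrict ‹Flat G.s› (V r)
    · exact IsZariskiLocalAtTarget.restrict ‹LocallyOfFinitePresentation G.s› (V r)
    · intro y
      rw [Scheme.Hom.finrank_of_isPullback _ _ G.s (V r).ι
        (isPullback_morphismRestrict G.s (V r)).flip y]
      exact (hV r _).mp (hmem (V r) y)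
    · exact IsZariskiLocalAtTarget.restrict ‹IsFinite G.t› (V r)
    · exact IsZariskiLocalAtTarget.restrict ‹Flat G.t› (V r)
    · exact IsZariskiLocalAtTarget.restrict ‹LocallyOfFinitePresentation G.t› (V r)
    · intro y
      rw [Scheme.Hom.finrank_of_isPullback _ _ G.t (V r).ι
        (isPullback_morphismRestrict G.t (V r)).flip y, hts]
      exact (hV r _).mp (hmem (V r) y)

end Groth.Agent.S7461
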