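import Groth.Statements.S7464
import Mathlib
import Groth.Agent.Lib.Helper11.GrpdLib

set_option autoImplicit false
universe u
open CategoryTheory CategoryTheory.Limits AlgebraicGeometry
open Grpd

namespace Groth.Agent.S7464

open Groth.Agent.Lib.Helper11.GrpdLib


/-- Let (U, R, s, t, c) be a groupoid scheme over S with s and t finite, and let u, u' be distinct
points of U in the same orbit, say u = s(r) and u' = t(r). Then u' does not lie in the closure of u.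
(The published statement calls u, u' points of R; this row takes them to be points of U, as the
orbit condition and the proof require.) (A groupoid scheme carries U, R, s, t, c, e, i over S with
the groupoid axioms on T-points; c is defined on the fibre product of s and t and sends a pair (a,
b) with s(a) = t(b) to a composed with b.) -/
theorem result (S : Scheme.{u}) (G : Grpd.GroupoidScheme S) [IsFinite G.s] [IsFinite G.t] (r : G.R) (hne : G.s r ≠ G.t r) : ¬ (G.s r ⤳ G.t r) := by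
  intro hsp
  have hO : (⇑G.t '' (⇑G.s ⁻¹' {G.s r})).Finite :=
    (G.s.finite_preimage_singleton (G.s r)).image _
  have hQfin : {v : G.U | v ∈ ⇑G.t '' (⇑G.s ⁻¹' {G.s r}) ∧
      ∃ r₁ : G.R, G.s r₁ = v ∧ v ≠ G.t r₁ ∧ v ⤳ G.t r₁}.Finite := hO.subset (fun v hv => hv.1)
  have hQne : {v : G.U | v ∈ ⇑G.t '' (⇑G.s ⁻¹' {G.s r}) ∧
      ∃ r₁ : G.R, G.s r₁ = v ∧ v ≠ G.t r₁ ∧ v ⤳ G.t r₁}.Nonempty :=
    ⟨G.s r, ⟨G.e (G.s r), s_e_apply _, t_e_apply _⟩, r, rfl, hne, hsp⟩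
  obtain ⟨v, ⟨hvO, r₁, hr₁s, hr₁ne, hr₁sp⟩, hvmin⟩ := hQfin.exists_minimal hQne
  have hcl : IsClosedMap ⇑G.s := G.s.isClosedMap
  have hfib : ∀ (a : G.R) (b : G.U), G.s a ⤳ b → ∃ a', a ⤳ a' ∧ G.s a' = b :=
    fun a b h => hcl.specializingMap h
  obtain ⟨r₂, hr₁₂, hr₂s⟩ := hfib r₁ (G.t r₁) (by rw [hr₁s]; exact hr₁sp)
  have hsp2 : G.t r₁ ⤳ G.t r₂ := hr₁₂.map G.t.continuous
  have hne2 : G.t r₁ ≠ G.t r₂ := by
    intro heq
    have hdisc := G.t.isDiscrete_preimage_singleton (G.t r₁)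
    haveI := hdisc.to_subtype
    have h1 : r₁ ∈ ⇑G.t ⁻¹' {G.t r₁} := rfl
    have h2 : r₂ ∈ ⇑G.t ⁻¹' {G.t r₁} := heq.symm
    have h3 : (⟨r₁, h1⟩ : ↥(⇑G.t ⁻¹' {G.t r₁})) ⤳ ⟨r₂, h2⟩ :=
      (subtype_specializes_iff _ _).mpr hr₁₂
    have h12 : r₁ = r₂ := congrArg Subtype.val h3.eq
    exact hr₁ne (by rw [← hr₁s]; exact (congrArg (⇑G.s) h12).trans hr₂s)
  obtain ⟨r₀, hr₀s, hr₀t⟩ := hvO
  obtain ⟨r', hr't, hr's⟩ := exists_comp_point r₁ r₀ (by rw [hr₁s, hr₀t])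
  have hmem : G.t r₁ ∈ {v : G.U | v ∈ ⇑G.t '' (⇑G.s ⁻¹' {G.s r}) ∧
      ∃ r₁ : G.R, G.s r₁ = v ∧ v ≠ G.t r₁ ∧ v ⤳ G.t r₁} :=
    ⟨⟨r', hr's.trans hr₀s, hr't⟩, r₂, hr₂s, hne2, hsp2⟩
  have hle : G.t r₁ ≤ v := hr₁sp
  have hback : G.t r₁ ⤳ v := hvmin hmem hle
  exact hr₁ne (hr₁sp.antisymm hback).eq

end Groth.Agent.S7464
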