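import Groth.Statements.S7467
import Mathlib
import Groth.Agent.Lib.Helper11.VCover

set_option autoImplicit false
universe w u
open HTop

namespace Groth.Agent.S7467

open CategoryTheory CategoryTheory.Limits AlgebraicGeometry in
/-- A standard fpqc covering, that is a finite family of flat morphisms T_j -> T of affine schemes whose
images jointly cover the affine scheme T, is a standard V covering (every morphism from the spectrum
of a valuation ring to T lifts to some T_j after an extension of valuation rings). -/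
theorem result {T : Scheme.{u}} [IsAffine T] (E : PreZeroHypercover.{w} T) (hfin : Finite E.I₀) (haff : ∀ j, IsAffine (E.X j)) (hflat : ∀ j, Flat (E.f j)) (hsurj : ∀ t : T, ∃ (j : E.I₀) (x : E.X j), E.f j x = t) : HTop.IsStandardV E := by
  refine ⟨inferInstance, hfin, haff, ?_⟩
  intro V _ _ g
  obtain ⟨j, x, hx⟩ := hsurj (g (IsLocalRing.closedPoint V : ↥(Spec V)))
  obtain ⟨z, hz1, hz2⟩ := Scheme.Pullback.exists_preimage_pullback (f := g) (g := E.f j)
    (IsLocalRing.closedPoint V : ↥(Spec V)) x hx.symm
  haveI := hflat j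
  have hgen : ∀ (a : ↑(pullback g (E.f j))) (b : ↥(Spec V)), b ⤳ pullback.fst g (E.f j) a →
      ∃ a', a' ⤳ a ∧ pullback.fst g (E.f j) a' = b :=
    fun a b hb => (Flat.generalizingMap (pullback.fst g (E.f j))) hb
  have hspec : ((⟨⊥, Ideal.isPrime_bot⟩ : PrimeSpectrum V) : ↥(Spec V)) ⤳
      pullback.fst g (E.f j) z := by
    rw [hz1]; exact IsLocalRing.specializes_closedPoint (R := V) _
  obtain ⟨z', hz'z, hz'⟩ := hgen z _ hspec
  obtain ⟨W, hWd, hWv, φ, hφ, l, hl⟩ :=
    Groth.Agent.Lib.Helper11.VCover.exists_isExtVal_of_specializes V (pullback.fst g (E.f j))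
      hz'z hz1 hz'
  refine ⟨W, hWd, hWv, φ, hφ, j, l ≫ pullback.snd g (E.f j), ?_⟩
  rw [Category.assoc, ← pullback.condition, ← Category.assoc, hl]

end Groth.Agent.S7467
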