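import Groth.Statements.S7468
import Mathlib
import Groth.Agent.Lib.Helper11.VCover
import Groth.Agent.S7476

set_option autoImplicit false
universe w u
open HTop

namespace Groth.Agent.S7468

open Groth.Agent.Lib.Helper11.VCover in


open CategoryTheory CategoryTheory.Limits AlgebraicGeometry in
/-- If T is affine and a finite family is obtained by restricting one proper surjective morphism U -> T
to the pieces of a finite affine open cover of U, then the family is a standard V covering. -/
theorem result {T : Scheme.{u}} (E : PreZeroHypercover.{w} T) (hE : HTop.IsStandardPh E) : HTop.IsStandardV E := by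
  obtain ⟨U, f, ι, hprop, hsurj, hopen, hfac, hcov⟩ := hE.exists_proper
  refine ⟨hE.isAffine, hE.finite_index, hE.isAffine_obj, ?_⟩
  haveI := hprop
  haveI := hsurj
  have hL : HTop.HasValLift (PreZeroHypercover.singleton.{0} f) := by
    refine ((Groth.Agent.S7476.result.{u, 0, 0, 0} f).2).mpr ?_
    intro Z g z' z hzz
    haveI : Surjective (pullback.fst g f) := MorphismProperty.pullback_fst g f hsurj
    haveI : UniversallyClosed (pullback.fst g f) :=
      MorphismProperty.pullback_fst g f inferInstance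
    obtain ⟨w', hw'⟩ := (pullback.fst g f).surjective z'
    have hcl : IsClosedMap ⇑(pullback.fst g f) := (pullback.fst g f).isClosedMap
    have hfib : ∀ (a : ↑(pullback g f)) (b : Z), pullback.fst g f a ⤳ b →
        ∃ a', a ⤳ a' ∧ pullback.fst g f a' = b := fun a b h => hcl.specializingMap h
    obtain ⟨w, hw'w, hw⟩ := hfib w' z (by rw [hw']; exact hzz)
    exact ⟨w', w, hw'w, hw', hw⟩
  intro V _ _ g
  obtain ⟨W, hWd, hWv, φ, hφ, _j, g', hg'⟩ := hL V g
  obtain ⟨g₁, hg₁⟩ : ∃ g₁ : Spec W ⟶ U, g₁ ≫ f = Spec.map φ ≫ g := ⟨g', hg'⟩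
  obtain ⟨j, hj⟩ := hcov (g₁ (IsLocalRing.closedPoint W : ↥(Spec W)))
  haveI := hopen j
  have hr : Set.range ⇑g₁ ⊆ Set.range ⇑(ι j) := by
    have h1 := range_subset_of_closedPoint_mem W g₁ (ι j).opensRange hj
    have h2 : Set.range ⇑(ι j).opensRange.ι = Set.range ⇑(ι j) := by
      rw [Scheme.Opens.range_ι]; rfl
    rwa [h2] at h1
  refine ⟨W, hWd, hWv, φ, hφ, j, IsOpenImmersion.lift (ι j) g₁ hr, ?_⟩
  rw [← hfac j, ← Category.assoc, IsOpenImmersion.lift_fac, hg₁]

end Groth.Agent.S7468
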