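import Groth.Statements.S7472
import Mathlib
import Groth.Agent.Lib.Helper11.VCover
import Groth.Agent.S7469
import Groth.Agent.S7470

set_option autoImplicit false
universe w u
open HTop

namespace Groth.Agent.S7472

open CategoryTheory CategoryTheory.Limits AlgebraicGeometry in
/-- Let E be a V covering of a scheme T and, for every member T_i of E, let F_i be a V covering of T_i.
Then the composite family of all T_ij -> T is a V covering of T. -/
theorem result {T : Scheme.{u}} (E : PreZeroHypercover.{w} T) (hE : HTop.IsVCover E) (F : ∀ i, PreZeroHypercover.{w} (E.X i)) (hF : ∀ i, HTop.IsVCover (F i)) : HTop.IsVCover (E.bind F) := by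
  intro U
  obtain ⟨G, hG, hGE⟩ := hE U
  choose i r hr using hGE
  have key : ∀ j : G.I₀, ∃ M : PreZeroHypercover.{0} (G.X j),
      HTop.IsStandardV M ∧ HTop.RefinesOver (r j) M (F (i j)) := by
    intro j
    haveI : IsAffine (G.X j) := hG.isAffine_obj j
    refine Groth.Agent.Lib.Helper11.VCover.exists_isStandardV_refinesOver_of_local
      (r j) (F (i j)) ?_
    intro x
    obtain ⟨A, hA', hxA, -⟩ : ∃ A : (E.X (i j)).Opens, A ∈ (E.X (i j)).affineOpens ∧
        r j x ∈ A ∧ A ≤ ⊤ := TopologicalSpace.Opens.isBasis_iff_nbhd.mp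
      (E.X (i j)).isBasis_affineOpens (show r j x ∈ (⊤ : (E.X (i j)).Opens) from trivial)
    obtain ⟨K, hK, hKF⟩ : ∃ K : PreZeroHypercover.{0} (A : Scheme.{u}),
        HTop.IsStandardV K ∧ HTop.RefinesOver A.ι K (F (i j)) := hF (i j) ⟨A, hA'⟩
    obtain ⟨W, hW, hxW, hWO⟩ : ∃ W : (G.X j).Opens, W ∈ (G.X j).affineOpens ∧ x ∈ W ∧
        W ≤ (r j) ⁻¹ᵁ A := TopologicalSpace.Opens.isBasis_iff_nbhd.mp
      (G.X j).isBasis_affineOpens (show x ∈ (r j) ⁻¹ᵁ A from hxA)
    have hW' : IsAffineOpen W := hW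
    haveI : IsAffine (W : Scheme.{u}) := hW'
    have hrg : Set.range ⇑(W.ι ≫ r j) ⊆ Set.range ⇑A.ι := by
      rw [Scheme.Opens.range_ι]
      rintro _ ⟨w, rfl⟩
      have hw : W.ι w ∈ W := by
        have := Set.mem_range_self (f := ⇑W.ι) w
        rwa [Scheme.Opens.range_ι] at this
      rw [Scheme.Hom.comp_apply]
      exact hWO hw
    obtain ⟨h, hh⟩ : ∃ h : (W : Scheme.{u}) ⟶ (A : Scheme.{u}), h ≫ A.ι = W.ι ≫ r j :=
      ⟨IsOpenImmersion.lift A.ι _ hrg, IsOpenImmersion.lift_fac _ _ _⟩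
    refine ⟨W, hW', hxW, K.pullback₁ h, Groth.Agent.S7469.result h K hK, ?_⟩
    intro l
    obtain ⟨l', ρ, hρ⟩ := hKF l
    refine ⟨l', pullback.snd h (K.f l) ≫ ρ, ?_⟩
    show (pullback.snd h (K.f l) ≫ ρ) ≫ (F (i j)).f l' = pullback.fst h (K.f l) ≫ W.ι ≫ r j
    rw [Category.assoc, hρ, ← hh, pullback.condition_assoc]
  choose M hM hMF using key
  refine ⟨G.bind M, Groth.Agent.S7470.result G hG M hM, ?_⟩
  rintro ⟨j, l⟩
  obtain ⟨l', ρ, hρ⟩ := hMF j l
  refine ⟨⟨i j, l'⟩, ρ, ?_⟩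
  show ρ ≫ (F (i j)).f l' ≫ E.f (i j) = ((M j).f l ≫ G.f j) ≫ (U : T.Opens).ι
  rw [← Category.assoc, hρ]
  simp only [Category.assoc]
  rw [hr j]

end Groth.Agent.S7472
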