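import Groth.Statements.S7473
import Mathlib
import Groth.Agent.Lib.Helper11.VCover
import Groth.Agent.S7467

set_option autoImplicit false
universe u
open HTop

namespace Groth.Agent.S7473

open CategoryTheory CategoryTheory.Limits AlgebraicGeometry in
/-- An fpqc covering of a scheme T is a V covering. (Here an fpqc covering is a family in Mathlib's fpqc
precoverage: flat, jointly surjective, and every affine open of T is the union of the images of
finitely many quasi-compact opens of the members. The further clauses for fppf, syntomic, smooth,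
étale and Zariski coverings follow because those coverings are fpqc coverings; the clause for ph
coverings is the standard ph statement applied over each affine open.) -/
theorem result {T : Scheme.{u}} : ∀ 𝒰 : Scheme.Cover Scheme.fpqcPrecoverage T, HTop.IsVCover 𝒰.toPreZeroHypercover := by
  intro 𝒰 U
  haveI : QuasiCompactCover 𝒰.toPreZeroHypercover := by
    rw [← Scheme.presieve₀_mem_qcPrecoverage_iff]
    exact 𝒰.mem₀.1
  have hflat : ∀ i, Flat (𝒰.f i) := fun i =>
    Scheme.Cover.map_prop (P := @Flat) ⟨𝒰.toPreZeroHypercover, 𝒰.mem₀.2⟩ i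
  obtain ⟨n, f, V, hV, hcov⟩ := QuasiCompactCover.exists_isAffineOpen_of_isCompact
    𝒰.toPreZeroHypercover (U := (U : T.Opens)) U.2.isCompact
  have hr : ∀ k, Set.range ⇑((V k).ι ≫ 𝒰.f (f k)) ⊆ Set.range ⇑(U : T.Opens).ι := by
    intro k
    rw [Scheme.Opens.range_ι, ← hcov]
    rintro _ ⟨v, rfl⟩
    have hv : (V k).ι v ∈ V k := by
      have := Set.mem_range_self (f := ⇑(V k).ι) v
      rwa [Scheme.Opens.range_ι] at this
    rw [Scheme.Hom.comp_apply]
    exact Set.mem_iUnion.mpr ⟨k, (V k).ι v, hv, rfl⟩
  let F : PreZeroHypercover.{0} ((U : T.Opens) : Scheme.{u}) :=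
    { I₀ := Fin n
      X := fun k => (V k : Scheme.{u})
      f := fun k => IsOpenImmersion.lift (U : T.Opens).ι _ (hr k) }
  have hFf : ∀ k, F.f k ≫ (U : T.Opens).ι = (V k).ι ≫ 𝒰.f (f k) :=
    fun k => IsOpenImmersion.lift_fac _ _ _
  haveI : IsAffine ((U : T.Opens) : Scheme.{u}) := U.2
  refine ⟨F, Groth.Agent.S7467.result F (inferInstanceAs (Finite (Fin n))) (fun k => hV k)
    ?_ ?_, ?_⟩
  · intro k
    haveI := hflat (f k)
    have : Flat (F.f k ≫ (U : T.Opens).ι) := by
      rw [hFf k]; infer_instance
    exact MorphismProperty.of_postcomp (W := @Flat) (W' := @IsOpenImmersion) (F.f k)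
      (U : T.Opens).ι inferInstance this
  · intro t
    have ht : (U : T.Opens).ι t ∈ ((U : T.Opens) : Set T) := by
      have := Set.mem_range_self (f := ⇑(U : T.Opens).ι) t
      rwa [Scheme.Opens.range_ι] at this
    rw [← hcov] at ht
    obtain ⟨k, v, hv, hvt⟩ := Set.mem_iUnion.mp ht
    have hv' : v ∈ Set.range ⇑(V k).ι := by
      rw [Scheme.Opens.range_ι]; exact hv
    obtain ⟨v', rfl⟩ := hv'
    refine ⟨k, v', ?_⟩
    apply (U : T.Opens).ι.isOpenEmbedding.injective
    rw [← Scheme.Hom.comp_apply, hFf k, Scheme.Hom.comp_apply]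
    exact hvt
  · intro k
    exact ⟨f k, (V k).ι, (hFf k).symm⟩

end Groth.Agent.S7473
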