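import Groth.Statements.S7474
import Groth.Agent.S7469
import Groth.Agent.S7471
import Groth.Agent.S7473

set_option autoImplicit false
universe w u
open HTop

namespace Groth.Agent.S7474

open CategoryTheory CategoryTheory.Limits AlgebraicGeometry

universe w'

section aux

lemma aux_mem {T T' : Scheme.{u}} (g : T' ⟶ T) (E : PreZeroHypercover.{w'} T) (i : E.I₀)
    {W : Scheme.{u}} (a : W ⟶ pullback g (E.f i)) :
    (Sieve.generate E.presieve₀) ((a ≫ pullback.fst g (E.f i)) ≫ g) :=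
  ⟨E.X i, a ≫ pullback.snd g (E.f i), E.f i, ⟨i⟩, by
    rw [Category.assoc, Category.assoc, ← pullback.condition]⟩

lemma gen_pullback₁ {T T' : Scheme.{u}} (g : T' ⟶ T) (E : PreZeroHypercover.{w'} T) :
    Sieve.generate (E.pullback₁ g).presieve₀ = (Sieve.generate E.presieve₀).pullback g := by
  ext W h
  constructor
  · rintro ⟨Z, a, b, ⟨i⟩, rfl⟩
    exact aux_mem g E i a
  · rintro ⟨Z, a, b, ⟨i⟩, hab⟩
    exact ⟨_, pullback.lift h a hab.symm, (E.pullback₁ g).f i, ⟨i⟩, pullback.lift_fst _ _ _⟩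

/-- A standard V covering is a V covering. -/
lemma isVCover_of_isStandardV {T : Scheme.{u}} (E : PreZeroHypercover.{w'} T)
    (hE : HTop.IsStandardV E) : HTop.IsVCover E := by
  intro U
  haveI : IsAffine ((U : T.Opens) : Scheme.{u}) := U.2
  have hP := Groth.Agent.S7469.result (U : T.Opens).ι E hE
  haveI := hP.finite_index
  obtain ⟨n, ⟨e⟩⟩ := Finite.exists_equiv_fin (E.pullback₁ (U : T.Opens).ι).I₀
  refine ⟨⟨Fin n, fun k => (E.pullback₁ (U : T.Opens).ι).X (e.symm k),
    fun k => (E.pullback₁ (U : T.Opens).ι).f (e.symm k)⟩, ⟨hP.isAffine, inferInstance,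
    fun k => hP.isAffine_obj _, ?_⟩, ?_⟩
  · intro V _ _ g
    obtain ⟨W, hW1, hW2, φ, hφ, j, g', hg'⟩ := hP.lift V g
    obtain ⟨k, rfl⟩ : ∃ k, e.symm k = j := ⟨e j, e.symm_apply_apply j⟩
    exact ⟨W, hW1, hW2, φ, hφ, k, g', hg'⟩
  · intro k
    exact ⟨e.symm k, pullback.snd _ _, pullback.condition.symm⟩

variable (F : Scheme.{u}ᵒᵖ ⥤ Type w)

/-- The sheaf condition for standard V coverings indexed in any universe. -/
lemma isSheafFor_of_isStandardV
    (hstd : ∀ (T : Scheme.{u}) (E : PreZeroHypercover.{u} T), HTop.IsStandardV E →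
      Presieve.IsSheafFor F E.presieve₀)
    {T : Scheme.{u}} (E : PreZeroHypercover.{w'} T) (hE : HTop.IsStandardV E) :
    Presieve.IsSheafFor F E.presieve₀ := by
  haveI := hE.finite_index
  obtain ⟨n, ⟨e⟩⟩ := Finite.exists_equiv_fin E.I₀
  let E' : PreZeroHypercover.{u} T :=
    ⟨ULift.{u} (Fin n), fun k => E.X (e.symm k.down), fun k => E.f (e.symm k.down)⟩
  have hE' : HTop.IsStandardV E' := by
    refine ⟨hE.isAffine, inferInstanceAs (Finite (ULift.{u} (Fin n))), fun k => hE.isAffine_obj _, ?_⟩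
    intro V _ _ g
    obtain ⟨W, hW1, hW2, φ, hφ, j, g', hg'⟩ := hE.lift V g
    obtain ⟨k, rfl⟩ : ∃ k, e.symm k = j := ⟨e j, e.symm_apply_apply j⟩
    exact ⟨W, hW1, hW2, φ, hφ, ULift.up k, g', hg'⟩
  have heq : E'.presieve₀ = E.presieve₀ := by
    refine le_antisymm ?_ ?_
    · rintro W f ⟨k⟩
      exact Presieve.ofArrows.mk (e.symm k.down)
    · rintro W f ⟨j⟩
      obtain ⟨k, rfl⟩ : ∃ k, e.symm k = j := ⟨e j, e.symm_apply_apply j⟩
      exact Presieve.ofArrows.mk (Y := E'.X) (f := E'.f) (ULift.up k)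
  rw [← heq]
  exact hstd T E' hE'

variable (hzar : Presieve.IsSheaf Scheme.zariskiTopology F)
  (hstd : ∀ (T : Scheme.{u}) (E : PreZeroHypercover.{u} T), HTop.IsStandardV E →
      Presieve.IsSheafFor F E.presieve₀)

include hzar hstd in
/-- Affine case. -/
lemma isSheafFor_affine {T : Scheme.{u}} (hT : ∃ R : CommRingCat.{u}, T = Spec R)
    (E : PreZeroHypercover.{w'} T) (hE : HTop.IsVCover E) :
    Presieve.IsSheafFor F (Sieve.generate E.presieve₀).arrows := by
  obtain ⟨R, rfl⟩ := hT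
  obtain ⟨𝓕, h𝓕, href⟩ := hE ⟨⊤, isAffineOpen_top (Spec R)⟩
  let 𝓕' : PreZeroHypercover.{0} (Spec R) :=
    ⟨𝓕.I₀, 𝓕.X, fun j => 𝓕.f j ≫ (⊤ : (Spec R).Opens).ι⟩
  have h𝓕' : HTop.IsStandardV 𝓕' := by
    refine ⟨inferInstance, h𝓕.finite_index, h𝓕.isAffine_obj, ?_⟩
    intro V _ _ g
    obtain ⟨W, hW1, hW2, φ, hφ, j, g', hg'⟩ := h𝓕.lift V (g ≫ (Scheme.topIso (Spec R)).inv)
    refine ⟨W, hW1, hW2, φ, hφ, j, g', ?_⟩
    show g' ≫ 𝓕.f j ≫ (⊤ : (Spec R).Opens).ι = Spec.map φ ≫ g
    rw [← Category.assoc, hg', Category.assoc, Category.assoc]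
    have : (Scheme.topIso (Spec R)).inv ≫ (⊤ : (Spec R).Opens).ι = 𝟙 _ :=
      (Scheme.topIso (Spec R)).inv_hom_id
    rw [this, Category.comp_id]
  have hle : (Sieve.generate 𝓕'.presieve₀).arrows ≤ (Sieve.generate E.presieve₀).arrows := by
    have h1 : Sieve.generate 𝓕'.presieve₀ ≤ Sieve.generate E.presieve₀ := by
      rw [Sieve.generate_le_iff]
      rintro W f ⟨j⟩
      obtain ⟨i, h, hh⟩ := href j
      exact ⟨E.X i, h, E.f i, ⟨i⟩, hh⟩
    exact h1
  refine Presieve.isSheafFor_subsieve_aux F (S := Sieve.generate 𝓕'.presieve₀) hle ?_ ?_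
  · exact (Presieve.isSheafFor_iff_generate _).1 (isSheafFor_of_isStandardV F hstd 𝓕' h𝓕')
  · intro Y f _
    apply Presieve.IsSheafFor.isSeparatedFor
    refine Y.affineOneHypercover.isSheafFor_sieve_of_pullback hzar ?_ ?_
    · intro i
      rw [← Sieve.pullback_comp, ← gen_pullback₁]
      haveI : IsAffine (Y.affineOneHypercover.X i) := inferInstanceAs (IsAffine (Spec _))
      exact (Presieve.isSheafFor_iff_generate _).1 (isSheafFor_of_isStandardV F hstd _
        (Groth.Agent.S7469.result _ 𝓕' h𝓕'))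
    · intro i j k
      apply Presieve.IsSheafFor.isSeparatedFor
      rw [← Sieve.pullback_comp, ← gen_pullback₁]
      haveI : IsAffine (Y.affineOneHypercover.Y k) := inferInstanceAs (IsAffine (Spec _))
      exact (Presieve.isSheafFor_iff_generate _).1 (isSheafFor_of_isStandardV F hstd _
        (Groth.Agent.S7469.result _ 𝓕' h𝓕'))

include hzar hstd in
/-- General case. -/
lemma isSheafFor_of_isVCover {T : Scheme.{u}}
    (E : PreZeroHypercover.{w'} T) (hE : HTop.IsVCover E) :
    Presieve.IsSheafFor F (Sieve.generate E.presieve₀).arrows := by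
  refine T.affineOneHypercover.isSheafFor_sieve_of_pullback hzar ?_ ?_
  · intro i
    rw [← gen_pullback₁]
    exact isSheafFor_affine F hzar hstd ⟨_, rfl⟩ _ (Groth.Agent.S7471.result _ E hE)
  · intro i j k
    apply Presieve.IsSheafFor.isSeparatedFor
    rw [← gen_pullback₁]
    exact isSheafFor_affine F hzar hstd ⟨_, rfl⟩ _ (Groth.Agent.S7471.result _ E hE)

end aux

open CategoryTheory CategoryTheory.Limits AlgebraicGeometry in
/-- A presheaf F of sets on the category of all schemes has the sheaf property for every V covering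
family exactly when F is a sheaf for the Zariski topology and has the sheaf property for each
standard V covering. -/
theorem result (F : Scheme.{u}ᵒᵖ ⥤ Type w) : HTop.IsVSheaf F ↔ (Presieve.IsSheaf Scheme.zariskiTopology F ∧ ∀ (T : Scheme.{u}) (E : PreZeroHypercover.{u} T), HTop.IsStandardV E → Presieve.IsSheafFor F E.presieve₀) := by
  constructor
  · intro h
    refine ⟨?_, ?_⟩
    · show Presieve.IsSheaf Scheme.zariskiPrecoverage.toGrothendieck F
      rw [Precoverage.isSheaf_toGrothendieck_iff_of_isStableUnderBaseChange]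
      intro X R hR
      have hR' : R ∈ Scheme.fpqcPrecoverage X := Scheme.zariskiPrecoverage_le_fpqcPrecoverage _ hR
      obtain ⟨E, rfl⟩ := R.exists_eq_preZeroHypercover
      have hV := Groth.Agent.S7473.result (⟨E, hR'⟩ : Scheme.Cover Scheme.fpqcPrecoverage X)
      exact h _ ((HTop.presieve₀_mem_vPrecoverage_iff E).2 hV)
    · intro T E hE
      exact h _ ((HTop.presieve₀_mem_vPrecoverage_iff E).2 (isVCover_of_isStandardV E hE))
  · rintro ⟨hzar, hstd⟩
    intro X R hR
    obtain ⟨E, rfl⟩ := R.exists_eq_preZeroHypercover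
    rw [HTop.presieve₀_mem_vPrecoverage_iff] at hR
    exact (Presieve.isSheafFor_iff_generate _).2 (isSheafFor_of_isVCover F hzar hstd E hR)

end Groth.Agent.S7474
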