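import Groth.Statements.S7475
import Groth.Agent.S7474

set_option autoImplicit false
universe w u
open HTop

namespace Groth.Agent.S7475

open CategoryTheory CategoryTheory.Limits AlgebraicGeometry

open CategoryTheory CategoryTheory.Limits AlgebraicGeometry in
/-- Variant with a single arrow: a presheaf of sets on all schemes has the sheaf property for every V
covering family exactly when it is a Zariski sheaf and has the sheaf property for every morphism V
-> U of affine schemes that on its own forms a standard V covering. -/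
theorem result (F : Scheme.{u}ᵒᵖ ⥤ Type w) : HTop.IsVSheaf F ↔ (Presieve.IsSheaf Scheme.zariskiTopology F ∧ ∀ (U V : Scheme.{u}) (f : V ⟶ U), HTop.IsStandardV (PreZeroHypercover.singleton f) → Presieve.IsSheafFor F (Presieve.singleton f)) := by
  rw [Groth.Agent.S7474.result]
  constructor
  · rintro ⟨hzar, hstd⟩
    refine ⟨hzar, ?_⟩
    intro U V f hf
    have h := Groth.Agent.S7474.isSheafFor_of_isStandardV F hstd _ hf
    rwa [PreZeroHypercover.presieve₀_singleton] at h
  · rintro ⟨hzar, hsing⟩
    refine ⟨hzar, ?_⟩
    intro T E hE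
    haveI := hE.finite_index
    haveI := hE.isAffine
    haveI := hE.isAffine_obj
    haveI : PreservesLimitsOfShape (Discrete (E.I₀ × E.I₀)) F :=
      preservesLimitsOfShape_discrete_of_isSheaf_zariskiTopology hzar
    haveI : PreservesLimitsOfShape (Discrete E.I₀) F :=
      preservesLimitsOfShape_discrete_of_isSheaf_zariskiTopology hzar
    have hc : IsColimit (Cofan.mk (∐ E.X) (Sigma.ι E.X)) := coproductIsCoproduct E.X
    have hc' : IsUniversalColimit (Cofan.mk (∐ E.X) (Sigma.ι E.X)) :=
      (FinitaryExtensive.isVanKampen_finiteCoproducts hc).isUniversal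
    have hstdV : HTop.IsStandardV (PreZeroHypercover.singleton (Cofan.IsColimit.desc hc E.f)) := by
      refine ⟨inferInstance, inferInstance, fun _ => inferInstanceAs (IsAffine (∐ E.X)), ?_⟩
      intro V _ _ g
      obtain ⟨W, hW1, hW2, φ, hφ, j, g', hg'⟩ := hE.lift V g
      refine ⟨W, hW1, hW2, φ, hφ, PUnit.unit, g' ≫ Sigma.ι E.X j, ?_⟩
      show (g' ≫ Sigma.ι E.X j) ≫ Cofan.IsColimit.desc hc E.f = Spec.map φ ≫ g
      rw [Category.assoc]
      have : Sigma.ι E.X j ≫ Cofan.IsColimit.desc hc E.f = E.f j :=
        Cofan.IsColimit.fac hc E.f j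
      rw [this, hg']
    have h1 := hsing _ _ _ hstdV
    exact (Presieve.isSheafFor_sigmaDesc_iff E.f hc hc' F).1 h1

end Groth.Agent.S7475
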