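import Groth.Statements.S7478
import Mathlib

set_option autoImplicit false
universe w u
open HTop

namespace Groth.Agent.S7478

open CategoryTheory CategoryTheory.Limits AlgebraicGeometry in
/-- The base change of a standard ph covering along a morphism of affine schemes T' -> T is a standard
ph covering of T'. -/
theorem result {T T' : Scheme.{u}} [IsAffine T'] (g : T' ⟶ T) (E : PreZeroHypercover.{w} T) (hE : HTop.IsStandardPh E) : HTop.IsStandardPh (E.pullback₁ g) := by
  haveI := hE.isAffine
  haveI := hE.finite_index
  haveI : ∀ j, IsAffine (E.X j) := hE.isAffine_obj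
  obtain ⟨U, f, ι, hprop, hsurj, hopen, hfac, hcov⟩ := hE.exists_proper
  have key : ∀ j, ∃ ι' : pullback g (E.f j) ⟶ pullback g f,
      ι' ≫ pullback.fst g f = pullback.fst g (E.f j) ∧
      IsPullback ι' (pullback.snd g (E.f j)) (pullback.snd g f) (ι j) := by
    intro j
    have hc : pullback.fst g (E.f j) ≫ g = (pullback.snd g (E.f j) ≫ ι j) ≫ f := by
      rw [Category.assoc, hfac j, pullback.condition]
    refine ⟨pullback.lift (pullback.fst g (E.f j)) (pullback.snd g (E.f j) ≫ ι j) hc,
      pullback.lift_fst _ _ _, ?_⟩
    refine IsPullback.of_right ?_ (pullback.lift_snd _ _ _) (IsPullback.of_hasPullback g f)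
    rw [pullback.lift_fst, hfac j]
    exact IsPullback.of_hasPullback g (E.f j)
  choose ι' hι'1 hι'2 using key
  refine ⟨inferInstance, ?_, ?_, ?_⟩
  · show Finite E.I₀
    infer_instance
  · intro j
    show IsAffine (pullback g (E.f j))
    infer_instance
  · refine ⟨pullback g f, pullback.fst g f, ι', MorphismProperty.pullback_fst g f hprop,
      MorphismProperty.pullback_fst g f hsurj, ?_, ?_, ?_⟩
    · intro j
      exact MorphismProperty.of_isPullback (P := @IsOpenImmersion) (hι'2 j).flip (hopen j)
    · intro j
      exact hι'1 j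
    · intro x
      obtain ⟨j, e, he⟩ := hcov (pullback.snd g f x)
      obtain ⟨z, hz1, hz2⟩ := Scheme.Pullback.exists_preimage_pullback
        (f := pullback.snd g f) (g := ι j) x e he.symm
      refine ⟨j, (hι'2 j).isoPullback.inv z, ?_⟩
      show (ι' j) ((hι'2 j).isoPullback.inv z) = x
      rw [← Scheme.Hom.comp_apply, IsPullback.isoPullback_inv_fst, hz1]

end Groth.Agent.S7478
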