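import Groth.Statements.S7483
import Groth.Agent.Lib.Helper11.DG1
import Groth.Agent.Lib.Helper11.DG2

set_option autoImplicit false
open CategoryTheory CategoryTheory.Limits AlgebraicGeometry
universe u
open Desc

namespace Groth.Agent.S7483

open Groth.Agent.Lib.Helper11.DG1 Groth.Agent.Lib.Helper11.DG2

/-- Suppose p : X -> Y is surjective and finite locally free (that is, finite, flat, and locally of
finite presentation), and consider a scheme V over X with the property that any finite collection of
points of V mapping to a common point of Y lies inside some affine open subset of V. Under these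
assumptions, each descent datum on V relative to p is effective, meaning it is isomorphic to the
canonical descent datum attached to some scheme over Y. (Descent data are formulated in
functor-of-points form.) -/
theorem result {X Y : Scheme.{u}} (p : X ⟶ Y) [Surjective p] [IsFinite p] [Flat p] [LocallyOfFinitePresentation p] (D : Desc.SchDD p) (hV : ∀ (y : Y) (s : Finset ↑(D.obj.left)), (∀ v ∈ s, p (D.obj.hom v) = y) → ∃ U : D.obj.left.Opens, IsAffineOpen U ∧ ∀ v ∈ s, v ∈ U) : ∃ W : Over Y, Nonempty ((Desc.toDD p).obj W ≅ D) := by
  apply Groth.Agent.Lib.Helper11.DG2.main D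
  intro v₀
  haveI : IsFinite (sM D) := (s_props D).1
  have hfin : ((sM D) ⁻¹' {v₀}).Finite := (sM D).finite_preimage_singleton v₀
  have hfin2 : ((fun r => tM D r) '' ((sM D) ⁻¹' {v₀})).Finite := hfin.image _
  obtain ⟨U, hU, hUF⟩ := hV (p (D.obj.hom v₀)) hfin2.toFinset (by
    intro v hv
    rw [Set.Finite.mem_toFinset] at hv
    obtain ⟨r, hr, rfl⟩ := hv
    have hr' : sM D r = v₀ := hr
    show p (D.obj.hom (tM D r)) = p (D.obj.hom v₀)
    rw [hom_t_apply D r, hr'])
  refine ⟨U, hU, fun r hr => hUF _ ?_⟩
  rw [Set.Finite.mem_toFinset]
  exact ⟨r, hr, rfl⟩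

end Groth.Agent.S7483
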