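import Groth.Statements.S7484
import Groth.Agent.Lib.Helper11.DG1
import Groth.Agent.Lib.Helper11.DG2
import Groth.Agent.Lib.Helper11.DG3

set_option autoImplicit false
open CategoryTheory CategoryTheory.Limits AlgebraicGeometry
universe u
open Desc

namespace Groth.Agent.S7484

open Groth.Agent.Lib.Helper11.DG1 Groth.Agent.Lib.Helper11.DG2 Groth.Agent.Lib.Helper11.DG3

/-- Let p : X -> Y be a surjective finite locally free morphism and d a positive integer such that for
every algebraically closed field k and every k-point of Y there are at most d k-points of X over it.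
Let V be a scheme over X such that any d points of V (not necessarily distinct) lying over one point
of Y are contained in an affine open of V. Then every descent datum on V relative to p is effective.
(Descent data are taken in functor-of-points form.) -/
theorem result {X Y : Scheme.{u}} (p : X ⟶ Y) [Surjective p] [IsFinite p] [Flat p] [LocallyOfFinitePresentation p] (d : ℕ) (hd : 0 < d) (hfib : ∀ (k : Type u) [Field k] [IsAlgClosed k] (y : Spec (CommRingCat.of k) ⟶ Y), Set.encard {x : Spec (CommRingCat.of k) ⟶ X | x ≫ p = y} ≤ d) (D : Desc.SchDD p) (hV : ∀ (y : Y) (v : Fin d → ↑(D.obj.left)), (∀ i, p (D.obj.hom (v i)) = y) → ∃ U : D.obj.left.Opens, IsAffineOpen U ∧ ∀ i, v i ∈ U) : ∃ W : Over Y, Nonempty ((Desc.toDD p).obj W ≅ D) := by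
  apply Groth.Agent.Lib.Helper11.DG2.main D
  intro v₀
  have hfin : ((sM D) ⁻¹' {v₀}).Finite := (sM D).finite_preimage_singleton v₀
  have hfin2 : ((fun r => tM D r) '' ((sM D) ⁻¹' {v₀})).Finite := hfin.image _
  have hcard : ((fun r => tM D r) '' ((sM D) ⁻¹' {v₀})).encard ≤ d :=
    (Set.encard_image_le _ _).trans (encard_fibre_le D d hfib v₀)
  obtain ⟨v, hv1, hv2⟩ := exists_enum _ hfin2 d hcard v₀
  obtain ⟨U, hU, hUv⟩ := hV (p (D.obj.hom v₀)) v (by
    intro i
    rcases hv1 i with ⟨r, hr, hri⟩ | hi
    · have hr' : sM D r = v₀ := hr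
      have hri' : tM D r = v i := hri
      rw [← hri', hom_t_apply D r, hr']
    · rw [hi])
  refine ⟨U, hU, fun r hr => ?_⟩
  obtain ⟨i, hi⟩ := hv2 (tM D r) ⟨r, hr, rfl⟩
  rw [← hi]
  exact hUv i

end Groth.Agent.S7484
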