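import Groth.Statements.S7486
import Mathlib
import Groth.Agent.Lib.Helper11.GrpdLib

set_option autoImplicit false
universe u
open CategoryTheory CategoryTheory.Limits AlgebraicGeometry
open Grpd

namespace Groth.Agent.S7486

open Groth.Agent.Lib.Helper11.GrpdLib TensorProduct

theorem linIndep_of_isPushout {A B1 B2 P : CommRingCat.{u}} {f : A ⟶ B1} {g : A ⟶ B2}
    {inl : B1 ⟶ P} {inr : B2 ⟶ P} (h : IsPushout f g inl inr) {I : Type*}
    (bb : letI := f.hom.toAlgebra; Module.Basis I A B1) (c : I →₀ B2)
    (hc : (c.sum fun i ci => inr.hom ci * inl.hom (bb i)) = 0) : c = 0 := by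
  letI : Algebra A B1 := f.hom.toAlgebra
  letI : Algebra A B2 := g.hom.toAlgebra
  have h' : IsPushout f g
      (CommRingCat.ofHom (S := B1 ⊗[A] B2) <| Algebra.TensorProduct.includeLeftRingHom)
      (CommRingCat.ofHom (S := B1 ⊗[A] B2) <| Algebra.TensorProduct.includeRight.toRingHom) :=
    CommRingCat.isPushout_tensorProduct A B1 B2
  apply TensorProduct.sum_tmul_basis_left_eq_zero bb
  have key : (h.isoIsPushout _ _ h').hom.hom (c.sum fun i ci => inr.hom ci * inl.hom (bb i)) =
      c.sum fun i ci => bb i ⊗ₜ[A] ci := by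
    rw [map_finsuppSum]
    congr 1
    funext i ci
    rw [map_mul]
    have h1 : (h.isoIsPushout _ _ h').hom.hom (inl.hom (bb i)) = bb i ⊗ₜ[A] (1 : B2) :=
      congr($(IsPushout.inl_isoIsPushout_hom _ _ h h').hom (bb i))
    have h2 : (h.isoIsPushout _ _ h').hom.hom (inr.hom ci) = (1 : B1) ⊗ₜ[A] ci :=
      congr($(IsPushout.inr_isoIsPushout_hom _ _ h h').hom ci)
    rw [h1, h2, Algebra.TensorProduct.tmul_mul_tmul, one_mul, mul_one]
  rw [← key, hc, map_zero]

theorem alg_core {A B : Type u} [CommRing A] [CommRing B] (σ τ : A →+* B) (ε : B →+* A)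
    (hεσ : ∀ a, ε (σ a) = a) (hετ : ∀ a, ε (τ a) = a)
    (I : Type u) (x : I → A)
    (bb : letI := σ.toAlgebra; Module.Basis I A B) (hbb : ∀ i, bb i = τ (x i))
    (hkey : ∀ (a : A) (i : I), σ ((letI := σ.toAlgebra; bb.repr (τ a)) i) =
      τ ((letI := σ.toAlgebra; bb.repr (τ a)) i)) :
    (∃ b : Module.Basis I (RingHom.eqLocus σ τ) A, ∀ i, b i = x i) ∧
    (letI := (σ.comp (RingHom.eqLocus σ τ).subtype).toAlgebra;
      ∀ φ : TensorProduct (RingHom.eqLocus σ τ) A A →ₗ[RingHom.eqLocus σ τ] B,
        (∀ a a' : A, φ (a ⊗ₜ[RingHom.eqLocus σ τ] a') = τ a * σ a') → Function.Bijective φ) := by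
  letI algAB : Algebra A B := σ.toAlgebra
  have hsmul : ∀ (a : A) (b : B), a • b = σ a * b := fun a b => Algebra.smul_def a b
  -- sums
  have hsum : ∀ n : I →₀ A, Finsupp.linearCombination A bb n = n.sum fun i a => σ a * τ (x i) := by
    intro n
    rw [Finsupp.linearCombination_apply]
    refine Finsupp.sum_congr (fun i _ => ?_)
    rw [hsmul, hbb]
  have hli : LinearIndependent (RingHom.eqLocus σ τ) x := by
    rw [linearIndependent_iff]
    intro l hl
    rw [Finsupp.linearCombination_apply] at hl
    -- apply τ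
    have h1 : Finsupp.linearCombination A bb
        (l.mapRange (fun c : RingHom.eqLocus σ τ => (c : A)) rfl) = 0 := by
      rw [hsum, Finsupp.sum_mapRange_index (by intro i; simp)]
      have := congrArg τ hl
      rw [map_finsuppSum, map_zero] at this
      rw [← this]
      refine Finsupp.sum_congr (fun i _ => ?_)
      rw [Subring.smul_def, smul_eq_mul, map_mul, (l i).2]
    have h2 := (linearIndependent_iff.mp bb.linearIndependent) _ h1
    ext i
    have := DFunLike.congr_fun h2 i
    simpa using this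
  have hrepr : ∀ a : A, ((bb.repr (τ a)).sum fun i n => n * x i) = a := by
    intro a
    have h1 := bb.linearCombination_repr (τ a)
    rw [hsum] at h1
    have := congrArg ε h1
    rw [map_finsuppSum, hετ] at this
    refine Eq.trans (Finsupp.sum_congr (fun i _ => ?_)) this
    rw [map_mul, hεσ, hετ]
  have hsp : ⊤ ≤ Submodule.span (RingHom.eqLocus σ τ) (Set.range x) := by
    intro a _
    rw [← hrepr a]
    refine Submodule.sum_mem _ (fun i _ => ?_)
    show (bb.repr (τ a)) i * x i ∈ _
    have : (bb.repr (τ a)) i * x i =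
        (⟨(bb.repr (τ a)) i, hkey a i⟩ : RingHom.eqLocus σ τ) • x i := by
      rw [Subring.smul_def, smul_eq_mul]
    rw [this]
    exact Submodule.smul_mem _ _ (Submodule.subset_span ⟨i, rfl⟩)
  have hbC : ∀ i, (Module.Basis.mk hli hsp) i = x i := fun i => by rw [Module.Basis.mk_apply]
  refine ⟨⟨Module.Basis.mk hli hsp, hbC⟩, ?_⟩
  intro φ hφ
  constructor
  · rw [injective_iff_map_eq_zero]
    intro z hz
    obtain ⟨n, rfl⟩ := TensorProduct.eq_repr_basis_left (Module.Basis.mk hli hsp) z
    have h1 : Finsupp.linearCombination A bb n = 0 := by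
      rw [hsum, ← hz, map_finsuppSum]
      refine Finsupp.sum_congr (fun i _ => ?_)
      rw [hbC, hφ, mul_comm]
    have h2 := (linearIndependent_iff.mp bb.linearIndependent) _ h1
    rw [h2]
    simp
  · intro b
    refine ⟨(bb.repr b).sum fun i a => x i ⊗ₜ a, ?_⟩
    rw [map_finsuppSum]
    have h1 := bb.linearCombination_repr b
    rw [hsum] at h1
    refine Eq.trans (Finsupp.sum_congr (fun i _ => ?_)) h1
    rw [hφ, mul_comm]


theorem hkey_geom (S : Scheme.{u}) (G : Grpd.GroupoidScheme S) [IsAffine G.U] [IsAffine G.R]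
    (I : Type u) (x : I → Γ(G.U, ⊤))
    (bb : letI := G.s.appTop.hom.toAlgebra; Module.Basis I Γ(G.U, ⊤) Γ(G.R, ⊤))
    (hbb : ∀ i, bb i = G.t.appTop.hom (x i)) (a : Γ(G.U, ⊤)) (i : I) :
    G.s.appTop.hom ((letI := G.s.appTop.hom.toAlgebra; bb.repr (G.t.appTop.hom a)) i) =
      G.t.appTop.hom ((letI := G.s.appTop.hom.toAlgebra; bb.repr (G.t.appTop.hom a)) i) := by
  letI algAB : Algebra Γ(G.U, ⊤) Γ(G.R, ⊤) := G.s.appTop.hom.toAlgebra
  have hpush : IsPushout G.s.appTop G.t.appTop (pullback.fst G.s G.t).appTop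
      (pullback.snd G.s G.t).appTop :=
    isPushout_appTop_of_isPullback (IsPullback.of_hasPullback G.s G.t)
  have r1 : ∀ b, G.c.appTop.hom (G.t.appTop.hom b) =
      (pullback.fst G.s G.t).appTop.hom (G.t.appTop.hom b) := by
    intro b
    have := congrArg (fun f => f.appTop.hom b) (c_t (G := G))
    simpa [Scheme.Hom.comp_appTop] using this
  have r2 : ∀ b, G.c.appTop.hom (G.s.appTop.hom b) =
      (pullback.snd G.s G.t).appTop.hom (G.s.appTop.hom b) := by
    intro b
    have := congrArg (fun f => f.appTop.hom b) (c_s (G := G))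
    simpa [Scheme.Hom.comp_appTop] using this
  have r3 : ∀ b, (pullback.fst G.s G.t).appTop.hom (G.s.appTop.hom b) =
      (pullback.snd G.s G.t).appTop.hom (G.t.appTop.hom b) := by
    intro b
    have := congrArg (fun f => f.appTop.hom b) (pullback.condition (f := G.s) (g := G.t))
    simpa [Scheme.Hom.comp_appTop] using this
  have hsmul : ∀ (a : Γ(G.U, ⊤)) (b : Γ(G.R, ⊤)), a • b = G.s.appTop.hom a * b :=
    fun a b => Algebra.smul_def a b
  -- expansion of `t♯ a`
  have h1 : ((bb.repr (G.t.appTop.hom a)).sum fun i n => G.s.appTop.hom n * bb i) =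
      G.t.appTop.hom a := by
    have := bb.linearCombination_repr (G.t.appTop.hom a)
    rw [Finsupp.linearCombination_apply] at this
    refine Eq.trans (Finsupp.sum_congr (fun i _ => ?_)) this
    rw [hsmul]
  -- apply `c♯` and `pr₁♯`
  have e1 := congrArg G.c.appTop.hom h1
  have e2 := congrArg (pullback.fst G.s G.t).appTop.hom h1
  rw [map_finsuppSum] at e1 e2
  rw [r1, ← e2] at e1
  have key : ((bb.repr (G.t.appTop.hom a)).mapRange
      (fun n => G.s.appTop.hom n - G.t.appTop.hom n) (by simp)) = 0 := by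
    apply linIndep_of_isPushout hpush bb
    rw [Finsupp.sum_mapRange_index (by intro i; simp)]
    have : ∀ (i : I) (n : Γ(G.U, ⊤)),
        (pullback.snd G.s G.t).appTop.hom (G.s.appTop.hom n - G.t.appTop.hom n) *
          (pullback.fst G.s G.t).appTop.hom (bb i) =
        G.c.appTop.hom (G.s.appTop.hom n * bb i) -
          (pullback.fst G.s G.t).appTop.hom (G.s.appTop.hom n * bb i) := by
      intro i n
      rw [map_mul, map_mul, r2, hbb, r1, r3, map_sub, sub_mul]
    have hs : ((bb.repr (G.t.appTop.hom a)).sum fun i n =>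
        (pullback.snd G.s G.t).appTop.hom (G.s.appTop.hom n - G.t.appTop.hom n) *
          (pullback.fst G.s G.t).appTop.hom (bb i)) =
        (bb.repr (G.t.appTop.hom a)).sum fun i n =>
          (G.c.appTop.hom (G.s.appTop.hom n * bb i) -
            (pullback.fst G.s G.t).appTop.hom (G.s.appTop.hom n * bb i)) :=
      Finsupp.sum_congr (fun i _ => this i _)
    rw [hs, Finsupp.sum_sub, e1, sub_self]
  have := DFunLike.congr_fun key i
  rw [Finsupp.mapRange_apply, Finsupp.zero_apply, sub_eq_zero] at this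
  exact this

/-- Let (U, R, s, t, c) be a groupoid scheme over S with U = Spec A and R = Spec B affine (A, B the
rings of global functions), and let x_i, i in I, be elements of A such that B is free as an A-module
through s^# with basis the elements t^#(x_i). Let C be the subring of R-invariant functions (those a
with s^#(a) = t^#(a)). Then the x_i form a basis of A as a C-module, and the C-linear map A (x)_C A
-> B sending a (x) a' to t^#(a) s^#(a') is bijective (B carries the C-module structure through s^#).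
(A groupoid scheme carries U, R, s, t, c, e, i over S with the groupoid axioms on T-points; c is
defined on the fibre product of s and t and sends a pair (a, b) with s(a) = t(b) to a composed with
b.) -/
theorem result (S : Scheme.{u}) (G : Grpd.GroupoidScheme S) [IsAffine G.U] [IsAffine G.R] (I : Type u) (x : I → Γ(G.U, ⊤)) (hB : letI := G.s.appTop.hom.toAlgebra; ∃ b : Module.Basis I Γ(G.U, ⊤) Γ(G.R, ⊤), ∀ i, b i = G.t.appTop.hom (x i)) : (∃ b : Module.Basis I G.invariants Γ(G.U, ⊤), ∀ i, b i = x i) ∧ (letI := (G.s.appTop.hom.comp G.invariants.subtype).toAlgebra; ∀ φ : TensorProduct G.invariants Γ(G.U, ⊤) Γ(G.U, ⊤) →ₗ[G.invariants] Γ(G.R, ⊤), (∀ a a' : Γ(G.U, ⊤), φ (a ⊗ₜ[G.invariants] a') = G.t.appTop.hom a * G.s.appTop.hom a') → Function.Bijective φ) := by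
  obtain ⟨bb, hbb⟩ := hB
  have hεσ : ∀ a, G.e.appTop.hom (G.s.appTop.hom a) = a := by
    intro a
    have := congrArg (fun f => f.appTop.hom a) G.e_s
    simpa [Scheme.Hom.comp_appTop] using this
  have hετ : ∀ a, G.e.appTop.hom (G.t.appTop.hom a) = a := by
    intro a
    have := congrArg (fun f => f.appTop.hom a) G.e_t
    simpa [Scheme.Hom.comp_appTop] using this
  exact alg_core G.s.appTop.hom G.t.appTop.hom G.e.appTop.hom hεσ hετ I x bb hbb
    (hkey_geom S G I x bb hbb)

end Groth.Agent.S7486
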