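import Groth.Statements.S7488
import Groth.Agent.Lib.Helper11.GPackD
import Groth.Agent.S7490

set_option autoImplicit false
universe u
open CategoryTheory CategoryTheory.Limits AlgebraicGeometry
open Grpd

namespace Groth.Agent.S7488

/-- Let (U, R, s, t, c) be a groupoid scheme over S with U and R affine, s and t finite locally free,
and j = (t, s) : R -> U x_S U a monomorphism. Let C be the ring of R-invariant functions on U and M
= Spec C. Then the structure morphism U -> S factors uniquely through U -> M, and for the resulting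
structure of scheme over S on M, the morphism U -> M represents the quotient sheaf U/R in the fppf
topology: it coequalizes s and t and the induced map from the coequalizer of h_R => h_U (sheaves of
sets on the big fppf site of S) to h_M is an isomorphism. (The published statement also asserts that
U -> M is finite locally free and that R = U x_M U; this row states only the quotient-sheaf clause.)
(A groupoid scheme carries U, R, s, t, c, e, i over S with the groupoid axioms on T-points; c is
defined on the fibre product of s and t and sends a pair (a, b) with s(a) = t(b) to a composed with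
b.) -/
theorem result (S : Scheme.{u}) (G : Grpd.GroupoidScheme S) [IsAffine G.U] [IsAffine G.R] [IsFinite G.s] [Flat G.s] [LocallyOfFinitePresentation G.s] [IsFinite G.t] [Flat G.t] [LocallyOfFinitePresentation G.t] [Mono G.j] : ∃! m : Spec (CommRingCat.of G.invariants) ⟶ S, ∃ h : G.toQuot ≫ m = G.pU, QuotSh.IsQuotient Scheme.fppfPrecoverage (Over.homMk G.s G.s_over : Over.mk G.pR ⟶ Over.mk G.pU) (Over.homMk G.t G.t_over : Over.mk G.pR ⟶ Over.mk G.pU) (Over.homMk G.toQuot h : Over.mk G.pU ⟶ Over.mk m) := by

  obtain ⟨hfin, hflat, hlfp⟩ := Groth.Agent.Lib.Helper11.GPackC.toQuot_props G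
  haveI := hflat
  haveI := hlfp
  haveI : Surjective G.toQuot := ⟨Groth.Agent.Lib.Helper11.GPackB.surjective_toQuot G⟩
  have hpb := Groth.Agent.Lib.Helper11.GPackC.isPullback_toQuot G
  have hcond : ∀ {Z : Scheme.{u}} (g₁ g₂ : Z ⟶ G.U),
      g₁ ≫ G.toQuot = g₂ ≫ G.toQuot → g₁ ≫ G.pU = g₂ ≫ G.pU := by
    intro Z g₁ g₂ hg
    have h1 : hpb.lift g₁ g₂ hg ≫ G.t = g₁ := hpb.lift_fst _ _ _
    have h2 : hpb.lift g₁ g₂ hg ≫ G.s = g₂ := hpb.lift_snd _ _ _
    calc g₁ ≫ G.pU = (hpb.lift g₁ g₂ hg ≫ G.t) ≫ G.pU := by rw [h1]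
      _ = (hpb.lift g₁ g₂ hg ≫ G.s) ≫ G.pU := by
          rw [Category.assoc, Category.assoc, G.t_over, G.s_over]
      _ = g₂ ≫ G.pU := by rw [h2]
  have hm : G.toQuot ≫ EffectiveEpi.desc G.toQuot G.pU hcond = G.pU :=
    EffectiveEpi.fac G.toQuot G.pU hcond
  refine ⟨EffectiveEpi.desc G.toQuot G.pU hcond, ⟨hm, ?_⟩, ?_⟩
  · have w' : G.t ≫ G.toQuot = G.s ≫ G.toQuot := Groth.Agent.Lib.Helper11.GPackB.t_toQuot G
    refine Groth.Agent.S7490.result Scheme.fppfPrecoverage
      (Over.homMk G.s G.s_over : Over.mk G.pR ⟶ Over.mk G.pU)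
      (Over.homMk G.t G.t_over : Over.mk G.pR ⟶ Over.mk G.pU)
      (Over.homMk G.toQuot hm : Over.mk G.pU ⟶ Over.mk (EffectiveEpi.desc G.toQuot G.pU hcond))
      (by ext; exact w'.symm) w' ?_ ?_
    · haveI : Flat (Over.homMk G.toQuot hm :
          Over.mk G.pU ⟶ Over.mk (EffectiveEpi.desc G.toQuot G.pU hcond)).left := hflat
      haveI : LocallyOfFinitePresentation (Over.homMk G.toQuot hm :
          Over.mk G.pU ⟶ Over.mk (EffectiveEpi.desc G.toQuot G.pU hcond)).left := hlfp
      haveI : Surjective (Over.homMk G.toQuot hm :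
          Over.mk G.pU ⟶ Over.mk (EffectiveEpi.desc G.toQuot G.pU hcond)).left :=
        ⟨Groth.Agent.Lib.Helper11.GPackB.surjective_toQuot G⟩
      exact Groth.Agent.Lib.Helper11.GPackD.epi_repMap_of_fppf _
    · have hiso : IsIso (pullback.lift G.t G.s w') := by
        have h3 : pullback.lift G.t G.s w' = hpb.isoPullback.hom := by
          apply pullback.hom_ext
          · rw [pullback.lift_fst, hpb.isoPullback_hom_fst]
          · rw [pullback.lift_snd, hpb.isoPullback_hom_snd]
        rw [h3]
        infer_instance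
      exact @Groth.Agent.Lib.Helper11.GPackD.epi_repMap_of_isIso _ _ _ _ _ hiso
  · rintro m' ⟨hm', -⟩
    exact (cancel_epi G.toQuot).mp (hm'.trans hm.symm)

end Groth.Agent.S7488
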