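import Groth.Statements.S7494
import Mathlib

set_option autoImplicit false
universe u
open CategoryTheory MonoidalCategory CartesianMonoidalCategory MonObj GrpObj AlgebraicGeometry
open AlgGrp

namespace Groth.Agent.S7494

section
variable {S : Scheme.{u}} {G X : Over S} [GrpObj G] (a : AlgGrp.Action G X)

/-- `g • x` on `T`-points -/
noncomputable def smul {T : Over S} (g : T ⟶ G) (x : T ⟶ X) : T ⟶ X := lift g x ≫ a.act

lemma act_one {T : Over S} (x : T ⟶ X) : smul a (1 : T ⟶ G) x = x := by
  unfold smul
  rw [Hom.one_def]
  have h1 : lift (toUnit T ≫ η[G]) x = lift (toUnit T) x ≫ (η[G] ▷ X) := by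
    rw [lift_whiskerRight]
  rw [h1, Category.assoc, a.one_act, leftUnitor_hom, lift_snd]

lemma act_mul {T : Over S} (g h : T ⟶ G) (x : T ⟶ X) :
    smul a (g * h) x = smul a g (smul a h x) := by
  unfold smul
  rw [Hom.mul_def]
  have h1 : lift (lift g h ≫ μ[G]) x = lift (lift g h) x ≫ (μ[G] ▷ X) := by
    rw [lift_whiskerRight]
  rw [h1, Category.assoc, a.mul_act, ← Category.assoc, lift_lift_associator_hom,
    ← Category.assoc, lift_whiskerLeft]

end


/-- Let G be a group scheme over S acting on a scheme X over S by a. The action is free, meaning that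
for every scheme T over S and all T-points g of G and x of X with g · x = x one has g = 1, if and
only if the morphism G x_S X -> X x_S X, (g, x) ↦ (a(g, x), x), is a monomorphism of schemes. -/
theorem result {S : Scheme.{u}} (G X : Over S) [GrpObj G] (a : AlgGrp.Action G X) : (∀ (T : Over S) (g : T ⟶ G) (x : T ⟶ X), lift g x ≫ a.act = x → g = toUnit T ≫ η[G]) ↔ Mono (lift a.act (snd G X)).left := by
  constructor
  · intro hfree
    haveI : Mono (lift a.act (snd G X)) := ⟨by
      intro T u v huv
      have h1 : u ≫ a.act = v ≫ a.act := by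
        have := congrArg (· ≫ fst X X) huv
        simpa only [Category.assoc, lift_fst] using this
      have h2 : u ≫ snd G X = v ≫ snd G X := by
        have := congrArg (· ≫ snd X X) huv
        simpa only [Category.assoc, lift_snd] using this
      have hu : smul a (u ≫ fst G X) (u ≫ snd G X) = u ≫ a.act := by
        unfold smul; rw [lift_comp_fst_snd]
      have hv : smul a (v ≫ fst G X) (v ≫ snd G X) = v ≫ a.act := by
        unfold smul; rw [lift_comp_fst_snd]
      have key : smul a ((v ≫ fst G X)⁻¹ * (u ≫ fst G X)) (u ≫ snd G X) = u ≫ snd G X := by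
        rw [act_mul, hu, h1, ← hv, ← act_mul, inv_mul_cancel, h2, act_one]
      have h3 := hfree T _ _ key
      rw [← Hom.one_def, inv_mul_eq_one] at h3
      rw [← lift_comp_fst_snd u, ← lift_comp_fst_snd v, h3, h2]⟩
    exact Over.mono_left_of_mono _
  · intro hmono
    haveI := hmono
    haveI : Mono (lift a.act (snd G X)) := Over.mono_of_mono_left _
    intro T g x hgx
    have hcomp : ∀ (g : T ⟶ G), lift g x ≫ lift a.act (snd G X) = lift (lift g x ≫ a.act) x := by
      intro g; rw [comp_lift, lift_snd]
    have hone : lift (toUnit T ≫ η[G]) x ≫ a.act = x := act_one a x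
    have h := (cancel_mono (lift a.act (snd G X))).mp
      (show lift g x ≫ _ = lift (toUnit T ≫ η[G]) x ≫ _ by rw [hcomp, hcomp, hgx, hone])
    have := congrArg (· ≫ fst G X) h
    simpa only [lift_fst] using this

end Groth.Agent.S7494
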