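import Groth.Statements.S7495
import Mathlib

set_option autoImplicit false
universe u
open CategoryTheory MonoidalCategory CartesianMonoidalCategory MonObj GrpObj AlgebraicGeometry
open GrpSch

namespace Groth.Agent.S7495

set_option backward.defeqAttrib.useBackward true in
set_option backward.isDefEq.respectTransparency false in
/-- a group scheme locally of finite type over an algebraically closed field whose smooth locus is
nonempty is smooth (homogeneity; adapted from Mathlib's `smooth_of_grpObj`) -/
lemma smooth_of_nonempty_smoothLocus {K : Type u} [Field K] {G : Scheme.{u}}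
    (f : G ⟶ Spec (CommRingCat.of K)) [LocallyOfFiniteType f] [GrpObj (Over.mk f)] [IsAlgClosed K]
    (hne : (f.smoothLocus : Set G).Nonempty) : Smooth f := by
  have := LocallyOfFiniteType.jacobsonSpace f
  rw [← Scheme.Hom.smoothLocus_eq_top_iff, ← TopologicalSpace.Opens.coe_eq_univ,
    ← not_ne_iff, ← Set.nonempty_compl]
  intro H
  obtain ⟨x, hx, hxc⟩ :=
    nonempty_inter_closedPoints H f.smoothLocus.2.isClosed_compl.isLocallyClosed
  obtain ⟨y, hy : y ∈ f.smoothLocus, hyc⟩ := nonempty_inter_closedPoints
    hne f.smoothLocus.2.isLocallyClosed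
  let x' : 𝟙_ _ ⟶ Over.mk f := Over.homMk _ ((pointEquivClosedPoint f).symm ⟨x, hxc⟩).2
  let y' : 𝟙_ _ ⟶ Over.mk f := Over.homMk _ ((pointEquivClosedPoint f).symm ⟨y, hyc⟩).2
  let α := (GrpObj.mulRight (A := Over.mk f) x').symm ≪≫
    (GrpObj.mulRight (A := Over.mk f) y')
  have hα : x' ≫ α.hom = y' := by
    dsimp only [Iso.trans_hom, Iso.symm_hom, α]
    rw [← Category.assoc, ← Iso.eq_comp_inv]
    simp [comp_lift_assoc]
  have hα' : α.hom.left x = y := by
    simpa [x', y', pointEquivClosedPoint] using congr(($hα).left (IsLocalRing.closedPoint K))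
  rw! [← hα', ← α.hom.left.mem_preimage, Scheme.Hom.preimage_smoothLocus_eq,
    show α.hom.left ≫ f = f from α.hom.w] at hy
  exact hx hy

/-- Let k be a perfect field of positive characteristic and G a group scheme locally of finite type over
k whose underlying scheme is reduced. Then G -> Spec k is smooth. -/
theorem result (K : Type u) [Field K] [PerfectField K] (hK : ringChar K ≠ 0) (G : Over (Spec (CommRingCat.of K))) [GrpObj G] [LocallyOfFiniteType G.hom] [IsReduced G.left] : Smooth G.hom := by
  let f : G.left ⟶ Spec (CommRingCat.of K) := G.hom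
  letI : GrpObj (Over.mk f) := ‹GrpObj G›
  haveI : LocallyOfFiniteType f := ‹LocallyOfFiniteType G.hom›
  let Ω : Type u := AlgebraicClosure K
  let g : Spec (.of Ω) ⟶ Spec (.of K) := Spec.map (CommRingCat.ofHom <| algebraMap K Ω)
  show Smooth f
  apply MorphismProperty.of_pullback_snd_of_descendsAlong
    (Q := @Surjective ⊓ @Flat ⊓ @QuasiCompact) (g := g)
  · exact ⟨⟨inferInstance, inferInstance⟩, inferInstance⟩
  · letI : GrpObj (Over.mk (Limits.pullback.snd f g)) := Over.grpObjMkPullbackSnd
    apply smooth_of_nonempty_smoothLocus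
    have hd := Scheme.Hom.dense_smoothLocus_of_perfectField f
    have hne0 : Nonempty G.left := ⟨η[Over.mk f].1 (IsLocalRing.closedPoint _)⟩
    obtain ⟨y, hy⟩ := hd.nonempty
    obtain ⟨z, hz⟩ := (Limits.pullback.fst f g).surjective y
    refine ⟨z, ?_⟩
    let U := f.smoothLocus
    let W := (Limits.pullback.fst f g) ⁻¹ᵁ U
    have hsm : Smooth (U.ι ≫ f) := by
      rw [← Scheme.Hom.smoothLocus_eq_top_iff, ← Scheme.Hom.preimage_smoothLocus_eq,
        Scheme.Opens.ι_preimage_self]
    have sq : IsPullback (Limits.pullback.fst f g ∣_ U) (W.ι ≫ Limits.pullback.snd f g)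
        (U.ι ≫ f) g :=
      (isPullback_morphismRestrict (Limits.pullback.fst f g) U).paste_vert
        (IsPullback.of_hasPullback f g)
    have hsm' : Smooth (W.ι ≫ Limits.pullback.snd f g) :=
      MorphismProperty.of_isPullback (P := @Smooth) sq hsm
    have htop : W.ι ⁻¹ᵁ (Limits.pullback.snd f g).smoothLocus = ⊤ := by
      rw [Scheme.Hom.preimage_smoothLocus_eq, Scheme.Hom.smoothLocus_eq_top_iff]
      exact hsm'
    have hzW : z ∈ W := by
      show Limits.pullback.fst f g z ∈ U
      rw [hz]
      exact hy
    have hmem : (⟨z, hzW⟩ : W) ∈ W.ι ⁻¹ᵁ (Limits.pullback.snd f g).smoothLocus := by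
      rw [htop]
      trivial
    exact hmem

end Groth.Agent.S7495
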