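import Groth.Statements.S7496
import Mathlib

set_option autoImplicit false
universe w u
open CategoryTheory CategoryTheory.Limits AlgebraicGeometry
open HTop

namespace Groth.Agent.S7496

open CategoryTheory in
lemma isCompact_inter_preimage {X T : Scheme.{u}} [QuasiSeparatedSpace T] (V : X.Opens)
    (h : IsCompact (V : Set X)) (f : X ⟶ T) (W : T.Opens) (hW : IsCompact (W : Set T)) :
    IsCompact ((V : Set X) ∩ ⇑f ⁻¹' (W : Set T)) := by
  have : CompactSpace ((V : X.Opens) : Scheme.{u}) := isCompact_iff_compactSpace.mp h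
  have hqc : QuasiCompact (V.ι ≫ f) := inferInstance
  have hc := hqc.isCompact_preimage (W : Set T) W.isOpen hW
  have := hc.image V.ι.continuous
  convert this using 1
  ext y
  constructor
  · rintro ⟨hyV, hyW⟩
    have : y ∈ Set.range ⇑V.ι := by rw [Scheme.Opens.range_ι]; exact hyV
    obtain ⟨y', rfl⟩ := this
    exact ⟨y', hyW, rfl⟩
  · rintro ⟨y', hy', rfl⟩
    refine ⟨?_, hy'⟩
    have := Set.mem_range_self (f := ⇑V.ι) y'
    rwa [Scheme.Opens.range_ι] at this


/-- Let T be a quasi-separated scheme and {f_i : T_i -> T} a family of morphisms. Then every affine open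
of T is the union of the images of finitely many quasi-compact opens of the T_i (the
quasi-compactness condition in the definition of an fpqc covering) if and only if for every point t
of T there are finitely many quasi-compact opens U_j of members T_(i_j) such that the union of the
f_(i_j)(U_j) is a neighbourhood of t. (The published statement also asks every f_i to be flat, on
both sides, and lists two more equivalent forms of the quasi-compactness condition; this row omits
flatness, which plays no part in the equivalence, and states only the equivalence of the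
quasi-compactness condition with the neighbourhood condition.) -/
theorem result {T : Scheme.{u}} [QuasiSeparatedSpace T] (E : PreZeroHypercover.{w} T) : QuasiCompactCover E ↔ ∀ t : T, ∃ (n : ℕ) (i : Fin n → E.I₀) (V : ∀ j, (E.X (i j)).Opens), (∀ j, IsCompact (V j : Set (E.X (i j)))) ∧ (⋃ j, ⇑(E.f (i j)) '' (V j : Set (E.X (i j)))) ∈ nhds t := by
  constructor
  · intro hE t
    obtain ⟨U, hU, htU, -⟩ : ∃ U : T.Opens, U ∈ T.affineOpens ∧ t ∈ U ∧ U ≤ ⊤ :=
      TopologicalSpace.Opens.isBasis_iff_nbhd.mp T.isBasis_affineOpens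
        (show t ∈ (⊤ : T.Opens) from trivial)
    have hU' : IsAffineOpen U := hU
    obtain ⟨n, f, V, hV, hcov⟩ :=
      QuasiCompactCover.exists_isAffineOpen_of_isCompact E (U := U) hU'.isCompact
    refine ⟨n, f, V, fun j => (hV j).isCompact, ?_⟩
    rw [hcov]
    exact U.isOpen.mem_nhds htU
  · intro h
    refine ⟨fun {U} hU => ?_⟩
    apply IsCompactOpenCovered.of_isCompact_of_forall_exists_isCompactOpenCovered hU.isCompact
    intro x hxU
    obtain ⟨n, i, V, hVc, hN⟩ := h x
    have hopen : IsOpen ((U : Set T) ∩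
        interior (⋃ j, ⇑(E.f (i j)) '' (V j : Set (E.X (i j))))) :=
      U.isOpen.inter isOpen_interior
    have hxmem : x ∈ (U : Set T) ∩
        interior (⋃ j, ⇑(E.f (i j)) '' (V j : Set (E.X (i j)))) :=
      ⟨hxU, mem_interior_iff_mem_nhds.mpr hN⟩
    obtain ⟨W, hW, hxW, hWsub⟩ : ∃ W : T.Opens, W ∈ T.affineOpens ∧ x ∈ W ∧
        W ≤ (⟨_, hopen⟩ : T.Opens) :=
      TopologicalSpace.Opens.isBasis_iff_nbhd.mp T.isBasis_affineOpens
        (U := (⟨_, hopen⟩ : T.Opens)) hxmem
    have hW' : IsAffineOpen W := hW
    refine ⟨W, fun y hy => (hWsub hy).1, hxW, W.isOpen, ?_⟩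
    refine IsCompactOpenCovered.of_finite (κ := Fin n) i
      (fun j => ⟨(V j : Set _) ∩ ⇑(E.f (i j)) ⁻¹' (W : Set T),
        (V j).isOpen.inter (W.isOpen.preimage (E.f (i j)).continuous)⟩) (fun j => ?_) ?_
    · exact isCompact_inter_preimage (V j) (hVc j) (E.f (i j)) W hW'.isCompact
    · ext y
      constructor
      · intro hy
        obtain ⟨j, hj⟩ := Set.mem_iUnion.mp hy
        obtain ⟨v, ⟨-, hvW⟩, rfl⟩ := hj
        exact hvW
      · intro hy
        have hyN := interior_subset (hWsub hy).2
        obtain ⟨j, hj⟩ := Set.mem_iUnion.mp hyN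
        obtain ⟨v, hvV, rfl⟩ := hj
        exact Set.mem_iUnion.mpr ⟨j, v, ⟨hvV, hy⟩, rfl⟩

end Groth.Agent.S7496
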