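import Groth.Statements.S7498
import Mathlib
import Groth.Agent.Lib.Helper11.GrpdLib

set_option autoImplicit false
universe u
open CategoryTheory CategoryTheory.Limits AlgebraicGeometry
open Grpd

namespace Groth.Agent.S7498

open Groth.Agent.Lib.Helper11.GrpdLib

/-- translation of the `s`-fibres by an arrow `h : b → a` (a `K`-point of `R`). -/
theorem fibre_iso {S : Scheme.{u}} (G : Grpd.GroupoidScheme S) {K : Scheme.{u}} (a b : K ⟶ G.U)
    (h : K ⟶ G.R) (hs : h ≫ G.s = b) (ht : h ≫ G.t = a) :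
    ∃ φ : pullback G.s a ≅ pullback G.s b, φ.hom ≫ pullback.snd G.s b = pullback.snd G.s a ∧
      ∀ (c1 : pullback.fst G.s a ≫ G.s = (pullback.snd G.s a ≫ h) ≫ G.t),
        φ.hom ≫ pullback.fst G.s b = comp G (pullback.fst G.s a) (pullback.snd G.s a ≫ h) c1 := by
  have c1 : pullback.fst G.s a ≫ G.s = (pullback.snd G.s a ≫ h) ≫ G.t := by
    rw [Category.assoc, ht]; exact pullback.condition
  have c2 : pullback.fst G.s b ≫ G.s = ((pullback.snd G.s b ≫ h) ≫ G.i) ≫ G.t := by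
    rw [Category.assoc, G.i_t, Category.assoc, hs]; exact pullback.condition
  have d1 : comp G (pullback.fst G.s a) (pullback.snd G.s a ≫ h) c1 ≫ G.s = pullback.snd G.s a ≫ b := by
    rw [comp_s, Category.assoc, hs]
  have d2 : comp G (pullback.fst G.s b) ((pullback.snd G.s b ≫ h) ≫ G.i) c2 ≫ G.s =
      pullback.snd G.s b ≫ a := by
    rw [comp_s, Category.assoc, G.i_s, Category.assoc, ht]
  obtain ⟨f, hf1, hf2⟩ : ∃ f : pullback G.s a ⟶ pullback G.s b,
      f ≫ pullback.fst G.s b = comp G (pullback.fst G.s a) (pullback.snd G.s a ≫ h) c1 ∧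
      f ≫ pullback.snd G.s b = pullback.snd G.s a :=
    ⟨pullback.lift _ _ d1, pullback.lift_fst _ _ _, pullback.lift_snd _ _ _⟩
  obtain ⟨g, hg1, hg2⟩ : ∃ g : pullback G.s b ⟶ pullback G.s a,
      g ≫ pullback.fst G.s a = comp G (pullback.fst G.s b) ((pullback.snd G.s b ≫ h) ≫ G.i) c2 ∧
      g ≫ pullback.snd G.s a = pullback.snd G.s b :=
    ⟨pullback.lift _ _ d2, pullback.lift_fst _ _ _, pullback.lift_snd _ _ _⟩
  refine ⟨⟨f, g, ?_, ?_⟩, hf2, fun _ => hf1⟩
  · apply pullback.hom_ext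
    · rw [Category.assoc, hg1, Category.id_comp]
      have e1 : f ≫ pullback.fst G.s b = comp G (pullback.fst G.s a) (pullback.snd G.s a ≫ h) c1 := hf1
      have e2 : f ≫ (pullback.snd G.s b ≫ h) ≫ G.i = (pullback.snd G.s a ≫ h) ≫ G.i := by
        rw [← Category.assoc, ← Category.assoc, hf2]
      have h5 : comp G (pullback.fst G.s a) (pullback.snd G.s a ≫ h) c1 ≫ G.s =
          ((pullback.snd G.s a ≫ h) ≫ G.i) ≫ G.t := by
        rw [comp_s, Category.assoc _ G.i, G.i_t]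
      rw [precomp_comp f _ _ c2 (by rw [e1, e2]; exact h5)]
      rw [comp_congr e1 e2 _ h5]
      exact comp_comp_inv _ _ c1 _
    · rw [Category.assoc, hg2, hf2, Category.id_comp]
  · apply pullback.hom_ext
    · rw [Category.assoc, hf1, Category.id_comp]
      have e1 : g ≫ pullback.fst G.s a =
          comp G (pullback.fst G.s b) ((pullback.snd G.s b ≫ h) ≫ G.i) c2 := hg1
      have e2 : g ≫ pullback.snd G.s a ≫ h = pullback.snd G.s b ≫ h := by
        rw [← Category.assoc, hg2]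
      have h0 : pullback.fst G.s b ≫ G.s = (pullback.snd G.s b ≫ h) ≫ G.s := by
        rw [Category.assoc, hs]; exact pullback.condition
      have h5 : comp G (pullback.fst G.s b) ((pullback.snd G.s b ≫ h) ≫ G.i) c2 ≫ G.s =
          (pullback.snd G.s b ≫ h) ≫ G.t := by
        rw [comp_s, Category.assoc _ G.i, G.i_s]
      rw [precomp_comp g _ _ c1 (by rw [e1, e2]; exact h5)]
      rw [comp_congr e1 e2 _ h5]
      exact comp_inv_comp_right _ _ h0 c2 h5
    · rw [Category.assoc, hf2, hg2, Category.id_comp]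

/-- Let (U, R, s, t, c) be a groupoid scheme over S and r, r' points of R with t(r) = t(r'); put u =
s(r), u' = s(r') and let F_u, F_u' be the scheme-theoretic fibres of s. Then there are a field k
which is a common extension of κ(u) and κ(u') (morphisms a, b : Spec k -> U with images u, u') and
an isomorphism of the base changes (F_u)_k and (F_u')_k over Spec k, which moreover can be chosen to
send some point lying over r to a point lying over r'. (The published statement also compares the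
germs of s at r and at r' when s and t are flat or flat of finite presentation; this row omits
that.) (A groupoid scheme carries U, R, s, t, c, e, i over S with the groupoid axioms on T-points; c
is defined on the fibre product of s and t and sends a pair (a, b) with s(a) = t(b) to a composed
with b.) -/
theorem result (S : Scheme.{u}) (G : Grpd.GroupoidScheme S) (r r' : G.R) (h : G.t r = G.t r') : ∃ (k : Type u) (_ : Field k) (a b : Spec (CommRingCat.of k) ⟶ G.U) (φ : pullback G.s a ≅ pullback G.s b) (p : ↑(pullback G.s a)), a (IsLocalRing.closedPoint k) = G.s r ∧ b (IsLocalRing.closedPoint k) = G.s r' ∧ φ.hom ≫ pullback.snd G.s b = pullback.snd G.s a ∧ pullback.fst G.s a p = r ∧ pullback.fst G.s b (φ.hom p) = r' := by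
  obtain ⟨z, hz1, hz2⟩ := Scheme.Pullback.exists_preimage_pullback r r' h
  let k : Type u := (pullback G.t G.t).residueField z
  obtain ⟨x, hx⟩ : ∃ x : Spec (CommRingCat.of k) ⟶ pullback G.t G.t, ∀ y, x y = z :=
    ⟨(pullback G.t G.t).fromSpecResidueField z, fun y => Scheme.fromSpecResidueField_apply _ _⟩
  obtain ⟨ρ, hρ⟩ : ∃ ρ : Spec (CommRingCat.of k) ⟶ G.R, ρ = x ≫ pullback.fst G.t G.t := ⟨_, rfl⟩
  obtain ⟨ρ', hρ'⟩ : ∃ ρ' : Spec (CommRingCat.of k) ⟶ G.R, ρ' = x ≫ pullback.snd G.t G.t := ⟨_, rfl⟩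
  have hρt : ρ ≫ G.t = ρ' ≫ G.t := by rw [hρ, hρ', Category.assoc, Category.assoc, pullback.condition]
  have hρpt : ∀ y, ρ y = r := fun y => by rw [hρ, Scheme.Hom.comp_apply, hx, hz1]
  have hρ'pt : ∀ y, ρ' y = r' := fun y => by rw [hρ', Scheme.Hom.comp_apply, hx, hz2]
  have h0 : (ρ ≫ G.i) ≫ G.s = ρ' ≫ G.t := by rw [Category.assoc, G.i_s, hρt]
  obtain ⟨φ, hφ2, hφ1⟩ := fibre_iso G (ρ ≫ G.s) (ρ' ≫ G.s) (comp G (ρ ≫ G.i) ρ' h0)
    (by rw [comp_s]) (by rw [comp_t, Category.assoc, G.i_t])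
  have hc : ρ ≫ G.s = 𝟙 _ ≫ ρ ≫ G.s := by rw [Category.id_comp]
  obtain ⟨P0, hP1, hP2⟩ : ∃ P0 : Spec (CommRingCat.of k) ⟶ pullback G.s (ρ ≫ G.s),
      P0 ≫ pullback.fst G.s (ρ ≫ G.s) = ρ ∧ P0 ≫ pullback.snd G.s (ρ ≫ G.s) = 𝟙 _ :=
    ⟨pullback.lift ρ (𝟙 _) hc, pullback.lift_fst _ _ _, pullback.lift_snd _ _ _⟩
  refine ⟨k, inferInstance, ρ ≫ G.s, ρ' ≫ G.s, φ, P0 (IsLocalRing.closedPoint k), ?_, ?_, hφ2, ?_, ?_⟩
  · rw [Scheme.Hom.comp_apply, hρpt]
  · rw [Scheme.Hom.comp_apply, hρ'pt]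
  · rw [← Scheme.Hom.comp_apply, hP1, hρpt]
  · rw [← Scheme.Hom.comp_apply, ← Scheme.Hom.comp_apply]
    have c1 : pullback.fst G.s (ρ ≫ G.s) ≫ G.s =
        (pullback.snd G.s (ρ ≫ G.s) ≫ comp G (ρ ≫ G.i) ρ' h0) ≫ G.t := by
      rw [Category.assoc, comp_t, Category.assoc, G.i_t]; exact pullback.condition
    have key : P0 ≫ φ.hom ≫ pullback.fst G.s (ρ' ≫ G.s) = ρ' := by
      rw [hφ1 c1]
      have e1 : P0 ≫ pullback.fst G.s (ρ ≫ G.s) = ρ := hP1
      have e2 : P0 ≫ pullback.snd G.s (ρ ≫ G.s) ≫ comp G (ρ ≫ G.i) ρ' h0 = comp G (ρ ≫ G.i) ρ' h0 := by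
        rw [← Category.assoc, hP2, Category.id_comp]
      have h5 : ρ ≫ G.s = comp G (ρ ≫ G.i) ρ' h0 ≫ G.t := by
        rw [comp_t, Category.assoc, G.i_t]
      rw [precomp_comp P0 _ _ c1 (by rw [e1, e2]; exact h5)]
      rw [comp_congr e1 e2 _ h5]
      exact comp_inv_comp _ _ hρt h0 h5
    rw [key, hρ'pt]

end Groth.Agent.S7498
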