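import Groth.Statements.S7500
import Mathlib
import Groth.Agent.Lib.Helper11.GrpdLib

set_option autoImplicit false
universe u
open CategoryTheory CategoryTheory.Limits AlgebraicGeometry
open Grpd

namespace Groth.Agent.S7500

open Groth.Agent.Lib.Helper11.GrpdLib

theorem j_fst {S : Scheme.{u}} (G : Grpd.GroupoidScheme S) : G.j ≫ pullback.fst G.pU G.pU = G.t := by
  unfold Grpd.GroupoidScheme.j; rw [pullback.lift_fst]

theorem j_snd {S : Scheme.{u}} (G : Grpd.GroupoidScheme S) : G.j ≫ pullback.snd G.pU G.pU = G.s := by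
  unfold Grpd.GroupoidScheme.j; rw [pullback.lift_snd]

theorem diag_fst {S : Scheme.{u}} (G : Grpd.GroupoidScheme S) : G.diag ≫ pullback.fst G.pU G.pU = 𝟙 _ := by
  unfold Grpd.GroupoidScheme.diag; rw [pullback.lift_fst]

theorem diag_snd {S : Scheme.{u}} (G : Grpd.GroupoidScheme S) : G.diag ≫ pullback.snd G.pU G.pU = 𝟙 _ := by
  unfold Grpd.GroupoidScheme.diag; rw [pullback.lift_snd]

/-- the inclusion of the stabilizer in `R` -/
noncomputable def g1 {S : Scheme.{u}} (G : Grpd.GroupoidScheme S) : G.stabilizer ⟶ G.R :=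
  pullback.fst G.j G.diag

theorem g1_cond {S : Scheme.{u}} (G : Grpd.GroupoidScheme S) :
    g1 G ≫ G.j = G.stabilizerToU ≫ G.diag := pullback.condition

theorem g1_t {S : Scheme.{u}} (G : Grpd.GroupoidScheme S) : g1 G ≫ G.t = G.stabilizerToU := by
  have := congrArg (· ≫ pullback.fst G.pU G.pU) (g1_cond G)
  simp only [Category.assoc, j_fst, diag_fst, Category.comp_id] at this
  exact this

theorem g1_s {S : Scheme.{u}} (G : Grpd.GroupoidScheme S) : g1 G ≫ G.s = G.stabilizerToU := by
  have := congrArg (· ≫ pullback.snd G.pU G.pU) (g1_cond G)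
  simp only [Category.assoc, j_snd, diag_snd, Category.comp_id] at this
  exact this

theorem stab_ext {S : Scheme.{u}} (G : Grpd.GroupoidScheme S) {T : Scheme.{u}} (a b : T ⟶ G.stabilizer)
    (h1 : a ≫ g1 G = b ≫ g1 G) (h2 : a ≫ G.stabilizerToU = b ≫ G.stabilizerToU) : a = b :=
  pullback.hom_ext (f := G.j) (g := G.diag) h1 h2

noncomputable def stabLift {S : Scheme.{u}} (G : Grpd.GroupoidScheme S) {T : Scheme.{u}} (γ : T ⟶ G.R)
    (v : T ⟶ G.U) (h : γ ≫ G.j = v ≫ G.diag) : T ⟶ G.stabilizer :=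
  pullback.lift γ v h

theorem stabLift_g1 {S : Scheme.{u}} (G : Grpd.GroupoidScheme S) {T : Scheme.{u}} (γ : T ⟶ G.R)
    (v : T ⟶ G.U) (h : γ ≫ G.j = v ≫ G.diag) : stabLift G γ v h ≫ g1 G = γ :=
  pullback.lift_fst _ _ _

theorem stabLift_toU {S : Scheme.{u}} (G : Grpd.GroupoidScheme S) {T : Scheme.{u}} (γ : T ⟶ G.R)
    (v : T ⟶ G.U) (h : γ ≫ G.j = v ≫ G.diag) : stabLift G γ v h ≫ G.stabilizerToU = v :=
  pullback.lift_snd _ _ _

/-- Let (U, R, s, t, c) be a groupoid scheme over S and G -> U its stabilizer group scheme (the base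
change of j = (t, s) along the diagonal). The action of G on R by composition, base changed to G_0 =
G x_(U, pr_0) (U x_S U), makes R a pseudo G_0-torsor over U x_S U. Concretely: let α : G x_(U, t) R
-> R x_(s, U, t) R be the morphism with components (γ viewed in R, r) and β : G x_(U, t) R -> R
x_(j, U x_S U, j) R the morphism with components (c ∘ α, r); then β is an isomorphism. (A groupoid
scheme carries U, R, s, t, c, e, i over S with the groupoid axioms on T-points; c is defined on the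
fibre product of s and t and sends a pair (a, b) with s(a) = t(b) to a composed with b.) -/
theorem result (S : Scheme.{u}) (G : Grpd.GroupoidScheme S) (α : pullback G.stabilizerToU G.t ⟶ pullback G.s G.t) (hα₁ : α ≫ pullback.fst G.s G.t = pullback.fst G.stabilizerToU G.t ≫ pullback.fst G.j G.diag) (hα₂ : α ≫ pullback.snd G.s G.t = pullback.snd G.stabilizerToU G.t) (β : pullback G.stabilizerToU G.t ⟶ pullback G.j G.j) (hβ₁ : β ≫ pullback.fst G.j G.j = α ≫ G.c) (hβ₂ : β ≫ pullback.snd G.j G.j = pullback.snd G.stabilizerToU G.t) : IsIso β := by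
  have hα₁' : α ≫ pullback.fst G.s G.t = pullback.fst G.stabilizerToU G.t ≫ g1 G := hα₁
  clear hα₁
  have ht : pullback.fst G.j G.j ≫ G.t = pullback.snd G.j G.j ≫ G.t := by
    have := congrArg (· ≫ pullback.fst G.pU G.pU) (pullback.condition (f := G.j) (g := G.j))
    simp only [Category.assoc, j_fst] at this
    exact this
  have hs : pullback.fst G.j G.j ≫ G.s = pullback.snd G.j G.j ≫ G.s := by
    have := congrArg (· ≫ pullback.snd G.pU G.pU) (pullback.condition (f := G.j) (g := G.j))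
    simp only [Category.assoc, j_snd] at this
    exact this
  have h1 : pullback.fst G.j G.j ≫ G.s = (pullback.snd G.j G.j ≫ G.i) ≫ G.t := by
    rw [Category.assoc, G.i_t, hs]
  have hγs : comp G (pullback.fst G.j G.j) (pullback.snd G.j G.j ≫ G.i) h1 ≫ G.s =
      pullback.snd G.j G.j ≫ G.t := by
    rw [comp_s, Category.assoc, G.i_s]
  have hγt : comp G (pullback.fst G.j G.j) (pullback.snd G.j G.j ≫ G.i) h1 ≫ G.t =
      pullback.snd G.j G.j ≫ G.t := by
    rw [comp_t, ht]
  have hγj : comp G (pullback.fst G.j G.j) (pullback.snd G.j G.j ≫ G.i) h1 ≫ G.j =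
      (pullback.snd G.j G.j ≫ G.t) ≫ G.diag := by
    apply pullback.hom_ext
    · rw [Category.assoc, j_fst, Category.assoc, diag_fst, Category.comp_id, hγt]
    · rw [Category.assoc, j_snd, Category.assoc, diag_snd, Category.comp_id, hγs]
  obtain ⟨γ', hγ'1, hγ'2⟩ : ∃ γ' : pullback G.j G.j ⟶ G.stabilizer,
      γ' ≫ g1 G = comp G (pullback.fst G.j G.j) (pullback.snd G.j G.j ≫ G.i) h1 ∧
      γ' ≫ G.stabilizerToU = pullback.snd G.j G.j ≫ G.t :=
    ⟨stabLift G _ _ hγj, stabLift_g1 G _ _ hγj, stabLift_toU G _ _ hγj⟩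
  obtain ⟨ψ, hψ1, hψ2⟩ : ∃ ψ : pullback G.j G.j ⟶ pullback G.stabilizerToU G.t,
      ψ ≫ pullback.fst G.stabilizerToU G.t = γ' ∧
      ψ ≫ pullback.snd G.stabilizerToU G.t = pullback.snd G.j G.j :=
    ⟨pullback.lift γ' (pullback.snd G.j G.j) hγ'2, pullback.lift_fst _ _ _, pullback.lift_snd _ _ _⟩
  -- α ≫ c as a composition
  have hαc0 : (pullback.fst G.stabilizerToU G.t ≫ g1 G) ≫ G.s =
      pullback.snd G.stabilizerToU G.t ≫ G.t := by
    rw [Category.assoc, g1_s]
    exact pullback.condition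
  have hαc : α ≫ G.c = comp G (pullback.fst G.stabilizerToU G.t ≫ g1 G)
      (pullback.snd G.stabilizerToU G.t) hαc0 := by
    rw [precomp_c α (by rw [hα₁', hα₂]; exact hαc0)]
    exact comp_congr hα₁' hα₂ _ _
  refine ⟨⟨ψ, ?_, ?_⟩⟩
  · -- β ≫ ψ = 𝟙
    apply pullback.hom_ext
    · rw [Category.assoc, hψ1, Category.id_comp]
      apply stab_ext
      · rw [Category.assoc, hγ'1]
        have e1 : β ≫ pullback.fst G.j G.j = comp G (pullback.fst G.stabilizerToU G.t ≫ g1 G)
            (pullback.snd G.stabilizerToU G.t) hαc0 := by rw [hβ₁, hαc]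
        have e2 : β ≫ pullback.snd G.j G.j ≫ G.i = pullback.snd G.stabilizerToU G.t ≫ G.i := by
          rw [← Category.assoc, hβ₂]
        have h5 : comp G (pullback.fst G.stabilizerToU G.t ≫ g1 G)
            (pullback.snd G.stabilizerToU G.t) hαc0 ≫ G.s =
            (pullback.snd G.stabilizerToU G.t ≫ G.i) ≫ G.t := by
          rw [comp_s, Category.assoc, G.i_t]
        rw [precomp_comp β _ _ h1 (by rw [e1, e2]; exact h5)]
        rw [comp_congr e1 e2 _ h5]
        exact comp_comp_inv _ _ hαc0 _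
      · rw [Category.assoc, hγ'2, ← Category.assoc, hβ₂]
        exact pullback.condition.symm
    · rw [Category.assoc, hψ2, hβ₂, Category.id_comp]
  · -- ψ ≫ β = 𝟙
    apply pullback.hom_ext
    · rw [Category.assoc, hβ₁, Category.id_comp, ← Category.assoc]
      have e1 : (ψ ≫ α) ≫ pullback.fst G.s G.t =
          comp G (pullback.fst G.j G.j) (pullback.snd G.j G.j ≫ G.i) h1 := by
        rw [Category.assoc, hα₁', ← Category.assoc, hψ1, hγ'1]
      have e2 : (ψ ≫ α) ≫ pullback.snd G.s G.t = pullback.snd G.j G.j := by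
        rw [Category.assoc, hα₂, hψ2]
      rw [precomp_c (ψ ≫ α) (by rw [e1, e2, hγs])]
      rw [comp_congr e1 e2 _ hγs]
      exact comp_inv_comp_right _ _ hs h1 hγs
    · rw [Category.assoc, hβ₂, hψ2, Category.id_comp]

end Groth.Agent.S7500
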