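import Groth.Statements.S7501
import Mathlib

set_option autoImplicit false
universe w u
open HTop

namespace Groth.Agent.S7501

open CategoryTheory CategoryTheory.Limits AlgebraicGeometry

universe v

theorem zar_le (F : Scheme.{u}ᵒᵖ ⥤ Type w) (h₁ : Presieve.IsSheaf Scheme.zariskiTopology F)
    {Y : Scheme.{u}} (S : Sieve Y) (hS : S ∈ Scheme.zariskiTopology Y) :
    S ∈ Sheaf.finestTopologySingle F Y := by
  intro Z g
  exact h₁ _ (Scheme.zariskiTopology.pullback_stable g hS)

theorem open_mem (F : Scheme.{u}ᵒᵖ ⥤ Type w) (h₁ : Presieve.IsSheaf Scheme.zariskiTopology F)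
    {P : Scheme.{u}} {ι : Type v} (Y : ι → Scheme.{u}) (j : ∀ i, Y i ⟶ P)
    (hj : ∀ i, IsOpenImmersion (j i)) (hcov : ∀ x : P, ∃ i, x ∈ Set.range (j i)) :
    Sieve.generate (Presieve.ofArrows Y j) ∈ Sheaf.finestTopologySingle F P := by
  apply zar_le F h₁
  let E' : PreZeroHypercover.{v} P := ⟨ι, Y, j⟩
  have : E'.presieve₀ ∈ Scheme.precoverage @IsOpenImmersion P :=
    (Scheme.presieve₀_mem_precoverage_iff E').mpr ⟨hcov, hj⟩
  exact Precoverage.generate_mem_toGrothendieck this

theorem proper_mem (F : Scheme.{u}ᵒᵖ ⥤ Type w)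
    (h₂ : ∀ (U V : Scheme.{u}) (f : V ⟶ U), IsProper f → Surjective f →
      Presieve.IsSheafFor F (Presieve.singleton f))
    {U V : Scheme.{u}} (f : V ⟶ U) (hf : IsProper f) (hs : Surjective f) :
    Sieve.generate (Presieve.singleton f) ∈ Sheaf.finestTopologySingle F U := by
  intro Y g
  rw [← Sieve.pullbackArrows_comm, ← Presieve.isSheafFor_iff_generate, Presieve.pullback_singleton]
  exact h₂ _ _ _ inferInstance inferInstance

theorem std_mem (F : Scheme.{u}ᵒᵖ ⥤ Type w) (h₁ : Presieve.IsSheaf Scheme.zariskiTopology F)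
    (h₂ : ∀ (U V : Scheme.{u}) (f : V ⟶ U), IsProper f → Surjective f →
      Presieve.IsSheafFor F (Presieve.singleton f))
    {T : Scheme.{u}} (Fc : PreZeroHypercover.{v} T) (hFc : HTop.IsStandardPh Fc) :
    Sieve.generate Fc.presieve₀ ∈ Sheaf.finestTopologySingle F T := by
  obtain ⟨P, f, ι, hf, hs, hι, hcomp, hcov⟩ := hFc.exists_proper
  refine (Sheaf.finestTopologySingle F).transitive (proper_mem F h₂ f hf hs) _ ?_
  rintro Y g ⟨Z, a, g', ⟨⟩, rfl⟩
  rw [Sieve.pullback_comp]
  refine (Sheaf.finestTopologySingle F).pullback_stable a ?_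
  refine (Sheaf.finestTopologySingle F).superset_covering ?_ (open_mem F h₁ Fc.X ι hι hcov)
  rw [Sieve.generate_le_iff]
  rintro W k ⟨j⟩
  show (Sieve.generate Fc.presieve₀) (ι j ≫ f)
  rw [hcomp j]
  exact Sieve.le_generate _ _ _ (Presieve.ofArrows.mk j)

theorem main (F : Scheme.{u}ᵒᵖ ⥤ Type w) (h₁ : Presieve.IsSheaf Scheme.zariskiTopology F)
    (h₂ : ∀ (U V : Scheme.{u}) (f : V ⟶ U), IsProper f → Surjective f →
      Presieve.IsSheafFor F (Presieve.singleton f))
    {X : Scheme.{u}} (E : PreZeroHypercover.{v} X) (hE : HTop.IsPhCover E) :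
    Sieve.generate E.presieve₀ ∈ Sheaf.finestTopologySingle F X := by
  obtain ⟨-, hE⟩ := hE
  have hcov : ∀ x : X, ∃ U : X.affineOpens, x ∈ Set.range (U.1.ι) := by
    intro x
    obtain ⟨A, hA, hxA, -⟩ : ∃ A : X.Opens, A ∈ X.affineOpens ∧ x ∈ A ∧ A ≤ ⊤ :=
      TopologicalSpace.Opens.isBasis_iff_nbhd.mp X.isBasis_affineOpens (U := ⊤) (x := x) trivial
    exact ⟨⟨A, hA⟩, by rw [Scheme.Opens.range_ι]; exact hxA⟩
  refine (Sheaf.finestTopologySingle F).transitive
    (open_mem F h₁ (fun U : X.affineOpens => (U.1 : Scheme.{u})) (fun U => U.1.ι)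
      (fun _ => inferInstance) hcov) _ ?_
  rintro Y g ⟨Z, a, g', ⟨U⟩, rfl⟩
  rw [Sieve.pullback_comp]
  refine (Sheaf.finestTopologySingle F).pullback_stable a ?_
  obtain ⟨Fc, hFc, href⟩ := hE U
  refine (Sheaf.finestTopologySingle F).superset_covering ?_ (std_mem F h₁ h₂ Fc hFc)
  rw [Sieve.generate_le_iff]
  rintro W k ⟨j⟩
  obtain ⟨i, h, hh⟩ := href j
  show (Sieve.generate E.presieve₀) (Fc.f j ≫ U.1.ι)
  rw [← hh]
  exact Sieve.downward_closed _ (Sieve.le_generate _ _ _ (Presieve.ofArrows.mk i)) h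

open CategoryTheory CategoryTheory.Limits AlgebraicGeometry in
/-- Let F be a presheaf of sets on the category of schemes. If F is a sheaf for the Zariski topology
and, for every proper surjective morphism f : V -> U, F has the sheaf property for the one-arrow
family {f} (sections over V whose two pullbacks to V x_U V agree come from exactly one section over
U), then F has the sheaf property for every ph covering. (The published statement is an equivalence
for presheaves on the big ph site of a base scheme and adds that, for a Zariski sheaf, the condition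
on proper surjective morphisms may be asked only for affine targets; this row states, for presheaves
on all schemes, only that the two conditions imply the sheaf property for ph coverings.) -/
theorem result (F : Scheme.{u}ᵒᵖ ⥤ Type w) (h₁ : Presieve.IsSheaf Scheme.zariskiTopology F) (h₂ : ∀ (U V : Scheme.{u}) (f : V ⟶ U), IsProper f → Surjective f → Presieve.IsSheafFor F (Presieve.singleton f)) : HTop.IsPhSheaf F := by
  intro X R hR
  rw [HTop.phPrecoverage, PreZeroHypercoverFamily.mem_precoverage_iff] at hR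
  obtain ⟨E, hE, rfl⟩ := hR
  have := main F h₁ h₂ E hE X (𝟙 X)
  rw [Sieve.pullback_id] at this
  exact (Presieve.isSheafFor_iff_generate _).mpr this

end Groth.Agent.S7501
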