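import Groth.Statements.S7502
import Mathlib
import Groth.Agent.Lib.Helper3.QCPush
import Groth.Agent.Lib.Helper3.QCLim
import Groth.Agent.Lib.Helper3.QCExtend
import Groth.Agent.Lib.Helper17.PbFlat
import Groth.Agent.Lib.Helper17.PbStalk
import Groth.Agent.Lib.Helper17.FpqcFinite

set_option autoImplicit false
universe u
open CategoryTheory CategoryTheory.Limits AlgebraicGeometry
open Coh

namespace Groth.Agent.S7502

/-- Let f : Y -> X be a morphism of schemes which is quasi-compact, quasi-separated, flat and
surjective, with X and Y locally Noetherian. Let F be a quasi-coherent O_X-module, G a coherent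
O_Y-module and φ : G -> f^*F an injective map of O_Y-modules. Then the O_X-module F ∩ f_*G, defined
as the fibre product of the adjunction unit F -> f_*f^*F with f_*φ : f_*G -> f_*f^*F, is coherent.
('Coherent' is quasi-coherent of finite type, the usual notion on locally Noetherian schemes.) -/
theorem result {X Y : Scheme.{u}} (f : Y ⟶ X) [QuasiCompact f] [QuasiSeparated f] [Flat f] [Surjective f] [IsLocallyNoetherian X] [IsLocallyNoetherian Y] (F : X.Modules) (hF : Coh.IsQCoh F) (G : Y.Modules) (hG : Coh.IsCoh G) (φ : G ⟶ (Scheme.Modules.pullback f).obj F) [Mono φ] : Coh.IsCoh (Limits.pullback ((Scheme.Modules.pullbackPushforwardAdjunction f).unit.app F) ((Scheme.Modules.pushforward f).map φ)) := by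
  haveI : F.IsQuasicoherent := hF
  obtain ⟨hGq, hGf⟩ := hG
  haveI := hGq
  haveI := hGf
  haveI hq1 : ((Scheme.Modules.pullback f).obj F).IsQuasicoherent :=
    Groth.Agent.Lib.Helper17.PbStalk.isQuasicoherent_pullback f F
  haveI hq2 : ((Scheme.Modules.pushforward f).obj G).IsQuasicoherent :=
    Groth.Agent.Lib.Helper3.QCSec.isQuasicoherent_pushforward f G
  haveI hq3 : ((Scheme.Modules.pushforward f).obj
      ((Scheme.Modules.pullback f).obj F)).IsQuasicoherent :=
    Groth.Agent.Lib.Helper3.QCSec.isQuasicoherent_pushforward f _
  haveI hq0 : ((𝟭 X.Modules).obj F).IsQuasicoherent := hF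
  haveI hq3' : ((Scheme.Modules.pullback f ⋙ Scheme.Modules.pushforward f).obj F).IsQuasicoherent :=
    hq3
  haveI hPq : (Limits.pullback ((Scheme.Modules.pullbackPushforwardAdjunction f).unit.app F)
      ((Scheme.Modules.pushforward f).map φ) : X.Modules).IsQuasicoherent :=
    Groth.Agent.Lib.Helper3.QCLim.isQuasicoherent_pullback _ _
  haveI hψ : Mono ((Scheme.Modules.pushforward f).map φ) := inferInstance
  haveI hp1 : Mono (Limits.pullback.fst
      ((Scheme.Modules.pullbackPushforwardAdjunction f).unit.app F)
      ((Scheme.Modules.pushforward f).map φ)) := inferInstance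
  haveI hfp1 : Mono ((Scheme.Modules.pullback f).map (Limits.pullback.fst
      ((Scheme.Modules.pullbackPushforwardAdjunction f).unit.app F)
      ((Scheme.Modules.pushforward f).map φ))) :=
    Groth.Agent.Lib.Helper17.PbFlat.mono_pullback_of_flat f _
  -- the adjunct `f^* P ⟶ G`
  have hq : ((Scheme.Modules.pullbackPushforwardAdjunction f).homEquiv _ _).symm
      (Limits.pullback.snd ((Scheme.Modules.pullbackPushforwardAdjunction f).unit.app F)
        ((Scheme.Modules.pushforward f).map φ)) ≫ φ =
      (Scheme.Modules.pullback f).map (Limits.pullback.fst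
        ((Scheme.Modules.pullbackPushforwardAdjunction f).unit.app F)
        ((Scheme.Modules.pushforward f).map φ)) := by
    apply ((Scheme.Modules.pullbackPushforwardAdjunction f).homEquiv _ _).injective
    rw [Adjunction.homEquiv_naturality_right, Equiv.apply_symm_apply, ← Limits.pullback.condition,
      ← Category.comp_id ((Scheme.Modules.pullback f).map _),
      Adjunction.homEquiv_naturality_left, Adjunction.homEquiv_apply,
      CategoryTheory.Functor.map_id]
    erw [Category.comp_id]
    rfl
  haveI hqm : Mono (((Scheme.Modules.pullbackPushforwardAdjunction f).homEquiv _ _).symm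
      (Limits.pullback.snd ((Scheme.Modules.pullbackPushforwardAdjunction f).unit.app F)
        ((Scheme.Modules.pushforward f).map φ))) := by
    haveI : Mono (((Scheme.Modules.pullbackPushforwardAdjunction f).homEquiv _ _).symm
      (Limits.pullback.snd ((Scheme.Modules.pullbackPushforwardAdjunction f).unit.app F)
        ((Scheme.Modules.pushforward f).map φ)) ≫ φ) := by
      rw [hq]; exact hfp1
    exact mono_of_mono _ φ
  haveI hPq' : ((Scheme.Modules.pullback f).obj (Limits.pullback
      ((Scheme.Modules.pullbackPushforwardAdjunction f).unit.app F)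
      ((Scheme.Modules.pushforward f).map φ))).IsQuasicoherent :=
    Groth.Agent.Lib.Helper17.PbStalk.isQuasicoherent_pullback f _
  have hft' : ((Scheme.Modules.pullback f).obj (Limits.pullback
      ((Scheme.Modules.pullbackPushforwardAdjunction f).unit.app F)
      ((Scheme.Modules.pushforward f).map φ))).IsFiniteType :=
    Groth.Agent.Lib.Helper3.QCProps.isFiniteType_of_mono
      (((Scheme.Modules.pullbackPushforwardAdjunction f).homEquiv _ _).symm
        (Limits.pullback.snd ((Scheme.Modules.pullbackPushforwardAdjunction f).unit.app F)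
          ((Scheme.Modules.pushforward f).map φ)))
  refine ⟨hPq, Groth.Agent.Lib.Helper3.QCExtend.isFiniteType_of_locFin _ ?_⟩
  intro x _
  obtain ⟨U, hU, hxU⟩ := Groth.Agent.Lib.Helper3.QCProps.exists_affine_nbhd x
  exact ⟨U, hU, hxU,
    Groth.Agent.Lib.Helper17.FpqcFinite.finite_sections_of_pullback f _ hft' hU⟩

end Groth.Agent.S7502
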