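import Groth.Statements.S7503
import Groth.Agent.Lib.Helper11.GrpdI

set_option autoImplicit false
universe u
open CategoryTheory CategoryTheory.Limits AlgebraicGeometry
open Grpd

namespace Groth.Agent.S7503

/-- Let (U, R, s, t, c) be a groupoid scheme over S with U the spectrum of a perfect field and let Z be
the reduced closed subscheme of U x_S U whose underlying set is the closure of the image of j = (t,
s). Then (U, Z, pr_0|_Z, pr_1|_Z, pr_02) is a groupoid scheme over S; stated as: there are a
groupoid scheme G' over S with G'.R reduced and an isomorphism of schemes over S from G'.U to U such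
that j' = (t', s') : G'.R -> G'.U x_S G'.U is a closed immersion and the image of j' followed by the
induced isomorphism G'.U x_S G'.U -> U x_S U is the closure of the image of j. (No morphism from (U,
R, s, t, c) to G' is asserted: when R is not reduced, j need not factor through the reduced
subscheme Z.) (A groupoid scheme carries U, R, s, t, c, e, i over S with the groupoid axioms on
T-points; c is defined on the fibre product of s and t and sends a pair (a, b) with s(a) = t(b) to a
composed with b.) -/
theorem result (S : Scheme.{u}) (G : Grpd.GroupoidScheme S) (k : Type u) [Field k] [PerfectField k] (eU : G.U ≅ Spec (CommRingCat.of k)) : ∃ (G' : Grpd.GroupoidScheme S) (ψ : G'.U ≅ G.U) (hψ : ψ.hom ≫ G.pU = G'.pU), IsReduced G'.R ∧ IsClosedImmersion G'.j ∧ Set.range ⇑(G'.j ≫ pullback.map G'.pU G'.pU G.pU G.pU ψ.hom ψ.hom (𝟙 S) ((Category.comp_id _).trans hψ.symm) ((Category.comp_id _).trans hψ.symm)) = closure (Set.range ⇑G.j) := by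
  haveI : IsIso (Groth.Agent.Lib.Helper11.GrpdH.jHom G).fU := (inferInstance : IsIso (𝟙 G.U))
  obtain ⟨G', ψ, hiso, hcl, hred, hrange⟩ :=
    Groth.Agent.Lib.Helper11.GrpdI.exists_groupoid_on_closure
      (Groth.Agent.Lib.Helper11.GrpdH.jHom G) (k := k) eU
  let φR : G'.R ⟶ pullback G.pU G.pU := ψ.fR
  haveI : IsClosedImmersion φR := hcl
  have hrange' : Set.range ⇑φR = closure (Set.range ⇑G.j) := hrange
  let φU : G'.U ⟶ G.U := ψ.fU
  haveI : IsIso φU := hiso
  let ψ' : G'.U ≅ G.U := asIso φU
  have hψ : ψ'.hom ≫ G.pU = G'.pU := ψ.fU_over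
  have hcomp : G'.j ≫ pullback.map G'.pU G'.pU G.pU G.pU ψ'.hom ψ'.hom (𝟙 S)
      ((Category.comp_id _).trans hψ.symm) ((Category.comp_id _).trans hψ.symm) = φR := by
    apply pullback.hom_ext
    · have h1 : G'.j ≫ pullback.fst G'.pU G'.pU = G'.t := pullback.lift_fst _ _ _
      have h2 : φR ≫ pullback.fst G.pU G.pU = G'.t ≫ ψ'.hom := ψ.comm_t
      rw [Category.assoc, pullback.lift_fst, ← Category.assoc, h1]
      exact h2.symm
    · have h1 : G'.j ≫ pullback.snd G'.pU G'.pU = G'.s := pullback.lift_snd _ _ _
      have h2 : φR ≫ pullback.snd G.pU G.pU = G'.s ≫ ψ'.hom := ψ.comm_s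
      rw [Category.assoc, pullback.lift_snd, ← Category.assoc, h1]
      exact h2.symm
  haveI hmapiso : IsIso (pullback.map G'.pU G'.pU G.pU G.pU ψ'.hom ψ'.hom (𝟙 S)
      ((Category.comp_id _).trans hψ.symm) ((Category.comp_id _).trans hψ.symm)) :=
    pullback.map_isIso _ _ _ _ _ _ _ _ _
  refine ⟨G', ψ', hψ, hred, ?_, ?_⟩
  · have : G'.j = φR ≫ inv (pullback.map G'.pU G'.pU G.pU G.pU ψ'.hom ψ'.hom (𝟙 S)
        ((Category.comp_id _).trans hψ.symm) ((Category.comp_id _).trans hψ.symm)) := by
      rw [IsIso.eq_comp_inv]; exact hcomp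
    rw [this]
    infer_instance
  · rw [hcomp]; exact hrange'

end Groth.Agent.S7503
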