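import Groth.Statements.S7504
import Mathlib
import Groth.Agent.Lib.Helper11.GrpdLib

set_option autoImplicit false
universe u
open CategoryTheory CategoryTheory.Limits AlgebraicGeometry
open Grpd

namespace Groth.Agent.S7504

open Groth.Agent.Lib.Helper11.GrpdLib

theorem singleton_mem_iff {X Y : Scheme.{u}} (f : X ⟶ Y) (Q : MorphismProperty Scheme.{u}) :
    Presieve.singleton f ∈ Scheme.precoverage Q Y ↔ Function.Surjective f ∧ Q f := by
  have e : (PreZeroHypercover.singleton.{u} f).presieve₀ = Presieve.singleton f :=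
    PreZeroHypercover.presieve₀_singleton _
  rw [← e, Scheme.presieve₀_mem_precoverage_iff]
  constructor
  · rintro ⟨h1, h2⟩
    exact ⟨fun y => by obtain ⟨_, x, hx⟩ := h1 y; exact ⟨x, hx⟩, h2 ⟨⟩⟩
  · rintro ⟨h1, h2⟩
    exact ⟨fun y => ⟨⟨⟩, h1 y⟩, fun (_ : (PreZeroHypercover.singleton.{u} f).I₀) => h2⟩

theorem iff_of_isPullback_singleton {P : MorphismProperty Scheme.{u}} {K : Precoverage Scheme.{u}}
    [P.IsLocalAtTarget K] {X Y V X' : Scheme.{u}} {f : X ⟶ Y} {g : V ⟶ Y}
    (hg : Presieve.singleton g ∈ K Y) {fst : X' ⟶ X} {snd : X' ⟶ V}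
    (h : IsPullback fst snd f g) : P f ↔ P snd := by
  constructor
  · intro hf
    rw [← P.cancel_left_of_respectsIso h.isoPullback.inv, h.isoPullback_inv_snd]
    exact MorphismProperty.IsLocalAtTarget.pullbackSnd hg ⟨⟩ hf
  · intro hsnd
    refine MorphismProperty.IsLocalAtTarget.of_forall_pullbackSnd hg ?_
    rintro U g' _ ⟨⟩
    rw [← P.cancel_left_of_respectsIso h.isoPullback.hom, h.isoPullback_hom_snd]
    exact hsnd

theorem core {S : Scheme.{u}} (G : Grpd.GroupoidScheme S) (Q : MorphismProperty Scheme.{u})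
    [Q.IsStableUnderBaseChange] [Q.IsStableUnderComposition]
    (hQoi : ∀ {X Y : Scheme.{u}} (f : X ⟶ Y), IsOpenImmersion f → Q f)
    (hQopen : ∀ {X Y : Scheme.{u}} (f : X ⟶ Y), Q f → IsOpenMap f)
    (P : MorphismProperty Scheme.{u}) [P.IsLocalAtTarget (Scheme.precoverage Q)]
    (hs : Presieve.singleton G.s ∈ Scheme.precoverage Q G.U)
    (ht : Presieve.singleton G.t ∈ Scheme.precoverage Q G.U)
    (W : G.U.Opens) (hW : P (G.s ∣_ W)) (hmax : ∀ W' : G.U.Opens, P (G.s ∣_ W') → W' ≤ W) :
    G.s ⁻¹ᵁ W = G.t ⁻¹ᵁ W := by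
  obtain ⟨hsS, hsQ⟩ := (singleton_mem_iff _ _).mp hs
  obtain ⟨htS, htQ⟩ := (singleton_mem_iff _ _).mp ht
  have key : ∀ r : G.R, G.s r ∈ W → G.t r ∈ W := by
    let W' : G.U.Opens := ⟨⇑G.t '' ((G.s ⁻¹ᵁ W : G.R.Opens) : Set G.R),
      hQopen G.t htQ _ (G.s ⁻¹ᵁ W).isOpen⟩
    have hW'mem : ∀ x, x ∈ W' ↔ ∃ r : G.R, G.s r ∈ W ∧ G.t r = x := fun x => Iff.rfl
    suffices hP : P (G.s ∣_ W') by
      intro r hr
      exact hmax W' hP ((hW'mem _).mpr ⟨r, hr, rfl⟩)
    -- the covering `τ : s⁻¹ W → W'`
    have hrange : Set.range ⇑((G.s ⁻¹ᵁ W).ι ≫ G.t) ⊆ Set.range ⇑W'.ι := by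
      rintro _ ⟨x, rfl⟩
      rw [Scheme.Opens.range_ι]
      refine (hW'mem _).mpr ⟨(G.s ⁻¹ᵁ W).ι x, ?_, by rw [Scheme.Hom.comp_apply]⟩
      have := x.2
      exact this
    obtain ⟨τ, hτfac⟩ : ∃ τ : ((G.s ⁻¹ᵁ W : G.R.Opens) : Scheme.{u}) ⟶ (W' : Scheme.{u}),
        τ ≫ W'.ι = (G.s ⁻¹ᵁ W).ι ≫ G.t :=
      ⟨IsOpenImmersion.lift W'.ι ((G.s ⁻¹ᵁ W).ι ≫ G.t) hrange, IsOpenImmersion.lift_fac _ _ _⟩
    have hτ : Presieve.singleton τ ∈ Scheme.precoverage Q (W' : Scheme.{u}) := by
      refine (singleton_mem_iff _ _).mpr ⟨?_, ?_⟩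
      · intro w
        have hw : W'.ι w ∈ W' := by
          have := Set.mem_range_self (f := ⇑W'.ι) w
          rwa [Scheme.Opens.range_ι] at this
        obtain ⟨r, hr, hrw⟩ := (hW'mem _).mp hw
        have hr' : r ∈ Set.range ⇑(G.s ⁻¹ᵁ W).ι := by
          rw [Scheme.Opens.range_ι]; exact hr
        obtain ⟨r', rfl⟩ := hr'
        refine ⟨r', ?_⟩
        apply W'.ι.isOpenEmbedding.injective
        rw [← Scheme.Hom.comp_apply, hτfac, Scheme.Hom.comp_apply, hrw]
      · refine MorphismProperty.of_postcomp (W := Q) (W' := @IsOpenImmersion) τ W'.ι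
          inferInstance ?_
        rw [hτfac]
        exact Q.comp_mem _ _ (hQoi _ inferInstance) htQ
    have hσ : Presieve.singleton (G.s ∣_ W) ∈ Scheme.precoverage Q (W : Scheme.{u}) := by
      refine (singleton_mem_iff _ _).mpr ⟨?_, ?_⟩
      · haveI : Surjective G.s := ⟨hsS⟩
        exact (MorphismProperty.of_isPullback (P := @Surjective)
          (isPullback_morphismRestrict G.s W).flip this).surj
      · exact Q.of_isPullback (isPullback_morphismRestrict G.s W).flip hsQ
    -- the two cartesian squares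
    have resA := (isPullback_morphismRestrict (pullback.snd G.s G.t) (G.s ⁻¹ᵁ W)).flip
    have outer1 := resA.paste_horiz (isPullback_c_snd (G := G))
    have outer2 := resA.paste_horiz (IsPullback.of_hasPullback G.s G.t)
    rw [← morphismRestrict_ι] at outer1
    rw [← hτfac] at outer2
    have sqi := IsPullback.of_right' outer1 (isPullback_morphismRestrict G.s W).flip
    have sqii := IsPullback.of_right' outer2 (isPullback_morphismRestrict G.s W').flip
    exact (iff_of_isPullback_singleton hτ sqii).mpr ((iff_of_isPullback_singleton hσ sqi).mp hW)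
  ext r
  constructor
  · intro h; exact key r h
  · intro h
    have h' : G.s (G.i r) ∈ W := by rw [s_i_apply]; exact h
    have := key (G.i r) h'
    rwa [t_i_apply] at this

/-- Let (U, R, s, t, c) be a groupoid scheme over S, let τ be the Zariski, étale, smooth or fppf
topology (given as the corresponding precoverage K on schemes), and let P be a property of scheme
morphisms that is τ-local on the target. (The published statement also allows the syntomic topology,
which has no precoverage here; this row omits it.) Assume the one-arrow families {s : R -> U} and {t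
: R -> U} are τ-coverings. If W is the largest open subscheme of U such that the restriction
s^{-1}(W) -> W of s has P (W has the property and contains every open with the property), then W is
R-invariant: s^{-1}(W) = t^{-1}(W). (A groupoid scheme carries U, R, s, t, c, e, i over S with the
groupoid axioms on T-points; c is defined on the fibre product of s and t and sends a pair (a, b)
with s(a) = t(b) to a composed with b.) -/
theorem result (S : Scheme.{u}) (G : Grpd.GroupoidScheme S) (K : Precoverage Scheme.{u}) (hK : K = Scheme.zariskiPrecoverage ∨ K = Scheme.etalePrecoverage ∨ K = Scheme.precoverage @Smooth ∨ K = Scheme.fppfPrecoverage) (P : MorphismProperty Scheme.{u}) [P.IsLocalAtTarget K] (hs : Presieve.singleton G.s ∈ K G.U) (ht : Presieve.singleton G.t ∈ K G.U) (W : G.U.Opens) (hW : P (G.s ∣_ W)) (hmax : ∀ W' : G.U.Opens, P (G.s ∣_ W') → W' ≤ W) : G.s ⁻¹ᵁ W = G.t ⁻¹ᵁ W := by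
  rcases hK with rfl | rfl | rfl | rfl
  · exact core G @IsOpenImmersion (fun f h => h) (fun f h => h.base_open.isOpenMap) P hs ht W hW hmax
  · haveI : P.IsLocalAtTarget (Scheme.precoverage @Etale) := ‹P.IsLocalAtTarget Scheme.etalePrecoverage›
    exact core G @Etale (fun f h => inferInstance) (fun f h => f.isOpenMap) P hs ht W hW hmax
  · exact core G @Smooth (fun f h => inferInstance) (fun f h => f.isOpenMap) P hs ht W hW hmax
  · haveI : P.IsLocalAtTarget (Scheme.precoverage (@Flat ⊓ @LocallyOfFinitePresentation)) :=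
      ‹P.IsLocalAtTarget Scheme.fppfPrecoverage›
    exact core G (@Flat ⊓ @LocallyOfFinitePresentation) (fun f h => ⟨inferInstance, inferInstance⟩)
      (fun f h => by haveI := h.1; haveI := h.2; exact f.isOpenMap) P hs ht W hW hmax

end Groth.Agent.S7504
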