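import Groth.Statements.S7505
import Mathlib
import Groth.Agent.Lib.Helper11.GrpdLib
import Groth.Agent.Lib.Helper11.GrpdStab

set_option autoImplicit false
universe u
open CategoryTheory CategoryTheory.Limits AlgebraicGeometry
open Grpd

namespace Groth.Agent.S7505

open Groth.Agent.Lib.Helper11.GrpdLib Groth.Agent.Lib.Helper11.GrpdStab

theorem core {S : Scheme.{u}} (G : Grpd.GroupoidScheme S) (Q : MorphismProperty Scheme.{u})
    [Q.IsStableUnderBaseChange] [Q.IsStableUnderComposition]
    (hQoi : ∀ {X Y : Scheme.{u}} (f : X ⟶ Y), IsOpenImmersion f → Q f)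
    (hQopen : ∀ {X Y : Scheme.{u}} (f : X ⟶ Y), Q f → IsOpenMap f)
    (P : MorphismProperty Scheme.{u}) [P.IsLocalAtTarget (Scheme.precoverage Q)]
    (hs : Presieve.singleton G.s ∈ Scheme.precoverage Q G.U)
    (ht : Presieve.singleton G.t ∈ Scheme.precoverage Q G.U)
    (W : G.U.Opens) (hW : P (G.stabilizerToU ∣_ W))
    (hmax : ∀ W' : G.U.Opens, P (G.stabilizerToU ∣_ W') → W' ≤ W) :
    G.s ⁻¹ᵁ W = G.t ⁻¹ᵁ W := by
  obtain ⟨hsS, hsQ⟩ := (singleton_mem_iff _ _).mp hs
  obtain ⟨htS, htQ⟩ := (singleton_mem_iff _ _).mp ht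
  have key : ∀ r : G.R, G.s r ∈ W → G.t r ∈ W := by
    obtain ⟨W', τ, hW'mem, hτfac, hτ⟩ := exists_tau G Q hQoi hQopen htQ W
    suffices hP : P (G.stabilizerToU ∣_ W') by
      intro r hr
      exact hmax W' hP ((hW'mem _).mpr ⟨r, hr, rfl⟩)
    have hσ := sigma_mem G Q hsS hsQ W
    obtain ⟨l1, sq1⟩ := exists_isPullback_restrict (IsPullback.of_hasPullback G.stabilizerToU G.s)
      W (G.s ⁻¹ᵁ W) (G.s ∣_ W) (morphismRestrict_ι _ _)
    obtain ⟨l2, sq2⟩ := exists_isPullback_restrict (IsPullback.of_hasPullback G.stabilizerToU G.t)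
      W' (G.s ⁻¹ᵁ W) τ hτfac
    have h1 : P (pullback.snd G.stabilizerToU G.s ∣_ (G.s ⁻¹ᵁ W)) :=
      (iff_of_isPullback_singleton hσ sq1).mp hW
    refine (iff_of_isPullback_singleton hτ sq2).mpr ?_
    obtain ⟨Φ, hΦ⟩ := exists_conjIso G
    rw [← hΦ, morphismRestrict_comp] at h1
    haveI : IsIso (Φ.hom ∣_ (pullback.snd G.stabilizerToU G.t ⁻¹ᵁ G.s ⁻¹ᵁ W)) := inferInstance
    exact (P.cancel_left_of_respectsIso (Φ.hom ∣_ (pullback.snd G.stabilizerToU G.t ⁻¹ᵁ G.s ⁻¹ᵁ W))
      _).mp h1
  ext r
  constructor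
  · intro h; exact key r h
  · intro h
    have h' : G.s (G.i r) ∈ W := by rw [s_i_apply]; exact h
    have := key (G.i r) h'
    rwa [t_i_apply] at this

/-- Let (U, R, s, t, c) be a groupoid scheme over S with stabilizer group scheme G -> U, let τ be the
étale, smooth or fppf topology (given as the corresponding precoverage K), and let P be a property
of scheme morphisms that is τ-local on the target. (The published statement also allows the syntomic
topology; this row omits it.) Assume {s : R -> U} and {t : R -> U} are τ-coverings. If W is the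
largest open subscheme of U such that the restriction G_W -> W of the stabilizer has P, then W is
R-invariant: s^{-1}(W) = t^{-1}(W). (A groupoid scheme carries U, R, s, t, c, e, i over S with the
groupoid axioms on T-points; c is defined on the fibre product of s and t and sends a pair (a, b)
with s(a) = t(b) to a composed with b.) -/
theorem result (S : Scheme.{u}) (G : Grpd.GroupoidScheme S) (K : Precoverage Scheme.{u}) (hK : K = Scheme.etalePrecoverage ∨ K = Scheme.precoverage @Smooth ∨ K = Scheme.fppfPrecoverage) (P : MorphismProperty Scheme.{u}) [P.IsLocalAtTarget K] (hs : Presieve.singleton G.s ∈ K G.U) (ht : Presieve.singleton G.t ∈ K G.U) (W : G.U.Opens) (hW : P (G.stabilizerToU ∣_ W)) (hmax : ∀ W' : G.U.Opens, P (G.stabilizerToU ∣_ W') → W' ≤ W) : G.s ⁻¹ᵁ W = G.t ⁻¹ᵁ W := by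
  rcases hK with rfl | rfl | rfl
  · haveI : P.IsLocalAtTarget (Scheme.precoverage @Etale) := ‹P.IsLocalAtTarget Scheme.etalePrecoverage›
    exact core G @Etale (fun f h => inferInstance) (fun f h => f.isOpenMap) P hs ht W hW hmax
  · exact core G @Smooth (fun f h => inferInstance) (fun f h => f.isOpenMap) P hs ht W hW hmax
  · haveI : P.IsLocalAtTarget (Scheme.precoverage (@Flat ⊓ @LocallyOfFinitePresentation)) :=
      ‹P.IsLocalAtTarget Scheme.fppfPrecoverage›
    exact core G (@Flat ⊓ @LocallyOfFinitePresentation) (fun f h => ⟨inferInstance, inferInstance⟩)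
      (fun f h => by haveI := h.1; haveI := h.2; exact f.isOpenMap) P hs ht W hW hmax

end Groth.Agent.S7505
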