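import Groth.Statements.S7510
import Mathlib
import Groth.Agent.Lib.Helper11.GrpdLib

set_option autoImplicit false
universe u
open CategoryTheory CategoryTheory.Limits AlgebraicGeometry
open Grpd

namespace Groth.Agent.S7510

open Groth.Agent.Lib.Helper11.GrpdLib

section Wfun

variable (P Q : MorphismProperty Scheme.{u}) [P.RespectsIso]
  (W : ∀ {X Y : Scheme.{u}} (f : X ⟶ Y), Q f → X.Opens)
  (hWP : ∀ {X Y : Scheme.{u}} (f : X ⟶ Y) (hf : Q f), P ((W f hf).ι ≫ f))
  (hWmax : ∀ {X Y : Scheme.{u}} (f : X ⟶ Y) (hf : Q f) (V : X.Opens), P (V.ι ≫ f) → V ≤ W f hf)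

include hWP hWmax in
theorem W_comp_iso {X₁ X₂ Y : Scheme.{u}} (φ : X₁ ⟶ X₂) [IsIso φ] (f₂ : X₂ ⟶ Y) (hf₂ : Q f₂)
    (hf₁ : Q (φ ≫ f₂)) : W (φ ≫ f₂) hf₁ = φ ⁻¹ᵁ W f₂ hf₂ := by
  apply le_antisymm
  · -- `V = W (φ ≫ f₂)`, transported along `φ⁻¹`
    have hP : P (((inv φ) ⁻¹ᵁ W (φ ≫ f₂) hf₁).ι ≫ f₂) := by
      have e : ((inv φ) ⁻¹ᵁ W (φ ≫ f₂) hf₁).ι ≫ f₂ =
          ((inv φ) ∣_ (W (φ ≫ f₂) hf₁)) ≫ (W (φ ≫ f₂) hf₁).ι ≫ (φ ≫ f₂) := by
        rw [← Category.assoc, morphismRestrict_ι, Category.assoc, IsIso.inv_hom_id_assoc]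
      rw [e, P.cancel_left_of_respectsIso]
      exact hWP _ hf₁
    have hle := hWmax f₂ hf₂ _ hP
    intro x hx
    have : φ x ∈ (inv φ) ⁻¹ᵁ W (φ ≫ f₂) hf₁ := by
      show (inv φ) (φ x) ∈ W (φ ≫ f₂) hf₁
      rw [← Scheme.Hom.comp_apply, IsIso.hom_inv_id]
      exact hx
    exact hle this
  · apply hWmax
    have e : (φ ⁻¹ᵁ W f₂ hf₂).ι ≫ φ ≫ f₂ = (φ ∣_ (W f₂ hf₂)) ≫ (W f₂ hf₂).ι ≫ f₂ := by
      rw [← Category.assoc, ← morphismRestrict_ι, Category.assoc]
    rw [e, P.cancel_left_of_respectsIso]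
    exact hWP _ hf₂

theorem W_congr {X Y : Scheme.{u}} {f f' : X ⟶ Y} (h : f = f') (hf : Q f) (hf' : Q f') :
    W f hf = W f' hf' := by
  subst h; rfl

include hWP hWmax in
theorem W_of_isPullback (R : MorphismProperty Scheme.{u})
    (hWbc : ∀ {X Y Y' : Scheme.{u}} (f : X ⟶ Y) (hf : Q f) (b : Y' ⟶ Y), R b →
      ∀ hf' : Q (pullback.snd f b), pullback.fst f b ⁻¹ᵁ W f hf = W (pullback.snd f b) hf')
    {X Y Y' X' : Scheme.{u}} {f : X ⟶ Y} {b : Y' ⟶ Y} {fst' : X' ⟶ X} {snd' : X' ⟶ Y'}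
    (sq : IsPullback fst' snd' f b) (hf : Q f) (hb : R b) (hsnd : Q snd')
    (hpsnd : Q (pullback.snd f b)) :
    fst' ⁻¹ᵁ W f hf = W snd' hsnd := by
  have e1 : fst' = sq.isoPullback.hom ≫ pullback.fst f b := (sq.isoPullback_hom_fst).symm
  have e2 : snd' = sq.isoPullback.hom ≫ pullback.snd f b := (sq.isoPullback_hom_snd).symm
  have hq : Q (sq.isoPullback.hom ≫ pullback.snd f b) := e2 ▸ hsnd
  rw [W_congr Q W e2 hsnd hq, W_comp_iso P Q W hWP hWmax sq.isoPullback.hom _ hpsnd hq,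
    ← hWbc f hf b hb hpsnd]
  conv_lhs => rw [e1]
  rfl

end Wfun

/-- Let (U, R, s, t, c, e, i) be a groupoid scheme over S and g : U' -> U a morphism; write h = s ∘ pr_1
: U' x_(g,U,t) R -> U. Let P, Q, R be properties of morphisms of schemes, with P invariant under
composition with isomorphisms, such that (1) R implies Q, (2) Q is stable under base change and
composition, (3) every morphism f : X -> Y with Q has a largest open W(P, f) of X on which the
restriction of f has P (given here as a function W with these two properties), and (4) for f with Q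
and a base change along Y' -> Y with R, the preimage of W(P, f) in X x_Y Y' is W(P, f') for the base
change f'. If s, t have R and g has Q, then there is an open W of U' whose preimage in U' x_(g,U,t)
R equals W(P, h). (The published statement speaks of arbitrary properties of morphisms; this row
asks P to be invariant under composition with isomorphisms, which the proof uses to identify the
largest opens on the two isomorphic fibre products of h with t and with s.) (A groupoid scheme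
carries U, R, s, t, c, e, i over S with the groupoid axioms on T-points; c is defined on the fibre
product of s and t and sends a pair (a, b) with s(a) = t(b) to a composed with b.) -/
theorem result (S : Scheme.{u}) (G : Grpd.GroupoidScheme S) {U' : Scheme.{u}} (g : U' ⟶ G.U) (P Q R : MorphismProperty Scheme.{u}) [P.RespectsIso] (hRQ : R ≤ Q) [Q.IsStableUnderBaseChange] [Q.IsStableUnderComposition] (W : ∀ {X Y : Scheme.{u}} (f : X ⟶ Y), Q f → X.Opens) (hWP : ∀ {X Y : Scheme.{u}} (f : X ⟶ Y) (hf : Q f), P ((W f hf).ι ≫ f)) (hWmax : ∀ {X Y : Scheme.{u}} (f : X ⟶ Y) (hf : Q f) (V : X.Opens), P (V.ι ≫ f) → V ≤ W f hf) (hWbc : ∀ {X Y Y' : Scheme.{u}} (f : X ⟶ Y) (hf : Q f) (b : Y' ⟶ Y), R b → ∀ hf' : Q (pullback.snd f b), pullback.fst f b ⁻¹ᵁ W f hf = W (pullback.snd f b) hf') (hs : R G.s) (ht : R G.t) (hg : Q g) (hh : Q (pullback.snd g G.t ≫ G.s)) : ∃ V : U'.Opens, pullback.fst g G.t ⁻¹ᵁ V = W (pullback.snd g G.t ≫ G.s) hh := by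
  -- notation
  have hpsnd : Q (pullback.snd (pullback.snd g G.t ≫ G.s) G.t) := Q.pullback_snd _ _ hh
  have hpsnd' : Q (pullback.snd (pullback.snd g G.t ≫ G.s) G.s) := Q.pullback_snd _ _ hh
  -- `q : Z → R ×_{s,t} R`
  obtain ⟨q, hq1, hq2⟩ : ∃ q : pullback (pullback.snd g G.t ≫ G.s) G.t ⟶ pullback G.s G.t,
      q ≫ pullback.fst G.s G.t = pullback.fst (pullback.snd g G.t ≫ G.s) G.t ≫ pullback.snd g G.t ∧
      q ≫ pullback.snd G.s G.t = pullback.snd (pullback.snd g G.t ≫ G.s) G.t :=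
    ⟨pullback.lift (pullback.fst (pullback.snd g G.t ≫ G.s) G.t ≫ pullback.snd g G.t)
      (pullback.snd (pullback.snd g G.t ≫ G.s) G.t)
      (by rw [Category.assoc]; exact pullback.condition), pullback.lift_fst _ _ _, pullback.lift_snd _ _ _⟩
  -- square B
  have sqA : IsPullback (pullback.fst (pullback.snd g G.t ≫ G.s) G.t)
      (pullback.snd (pullback.snd g G.t ≫ G.s) G.t) (pullback.snd g G.t ≫ G.s) G.t :=
    IsPullback.of_hasPullback _ _
  have sqC : IsPullback (pullback.fst G.s G.t) (pullback.snd G.s G.t) G.s G.t :=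
    IsPullback.of_hasPullback _ _
  have sqX : IsPullback (pullback.fst g G.t) (pullback.snd g G.t) g G.t :=
    IsPullback.of_hasPullback _ _
  have sqB : IsPullback q (pullback.fst (pullback.snd g G.t ≫ G.s) G.t)
      (pullback.fst G.s G.t) (pullback.snd g G.t) := by
    refine IsPullback.of_right ?_ hq1 sqC.flip
    rw [hq2]
    exact sqA.flip
  -- the action map `a`
  obtain ⟨a, ha1, ha2⟩ : ∃ a : pullback (pullback.snd g G.t ≫ G.s) G.t ⟶ pullback g G.t,
      a ≫ pullback.fst g G.t = pullback.fst (pullback.snd g G.t ≫ G.s) G.t ≫ pullback.fst g G.t ∧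
      a ≫ pullback.snd g G.t = q ≫ G.c :=
    ⟨pullback.lift (pullback.fst (pullback.snd g G.t ≫ G.s) G.t ≫ pullback.fst g G.t) (q ≫ G.c)
      (by rw [Category.assoc, Category.assoc, c_t, ← Category.assoc q, hq1, Category.assoc,
        pullback.condition]),
      pullback.lift_fst _ _ _, pullback.lift_snd _ _ _⟩
  have sqTop : IsPullback a q (pullback.snd g G.t) G.c := by
    refine IsPullback.of_right ?_ ha2 sqX
    rw [ha1, c_t]
    exact sqB.flip.paste_horiz sqX
  have sqAct : IsPullback a (pullback.snd (pullback.snd g G.t ≫ G.s) G.t)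
      (pullback.snd g G.t ≫ G.s) G.s := by
    have := sqTop.paste_vert (isPullback_c_snd (G := G))
    rwa [hq2] at this
  -- the section `ι`
  obtain ⟨ι, hι1, hι2⟩ : ∃ ι : pullback g G.t ⟶ pullback (pullback.snd g G.t ≫ G.s) G.t,
      ι ≫ pullback.fst (pullback.snd g G.t ≫ G.s) G.t = 𝟙 _ ∧
      ι ≫ pullback.snd (pullback.snd g G.t ≫ G.s) G.t = pullback.snd g G.t ≫ G.i :=
    ⟨pullback.lift (𝟙 _) (pullback.snd g G.t ≫ G.i)
      (by rw [Category.id_comp, Category.assoc, G.i_t]), pullback.lift_fst _ _ _, pullback.lift_snd _ _ _⟩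
  obtain ⟨e', he1, he2⟩ : ∃ e' : U' ⟶ pullback g G.t,
      e' ≫ pullback.fst g G.t = 𝟙 _ ∧ e' ≫ pullback.snd g G.t = g ≫ G.e :=
    ⟨pullback.lift (𝟙 _) (g ≫ G.e) (by rw [Category.id_comp, Category.assoc, G.e_t, Category.comp_id]),
      pullback.lift_fst _ _ _, pullback.lift_snd _ _ _⟩
  have hιa : ι ≫ a = pullback.fst g G.t ≫ e' := by
    apply pullback.hom_ext
    · rw [Category.assoc, ha1, ← Category.assoc, hι1, Category.id_comp, Category.assoc, he1,
        Category.comp_id]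
    · rw [Category.assoc, ha2, Category.assoc, he2, ← Category.assoc]
      have e1 : (ι ≫ q) ≫ pullback.fst G.s G.t = pullback.snd g G.t := by
        rw [Category.assoc, hq1, ← Category.assoc, hι1, Category.id_comp]
      have e2 : (ι ≫ q) ≫ pullback.snd G.s G.t = pullback.snd g G.t ≫ G.i := by
        rw [Category.assoc, hq2, hι2]
      have h5 : pullback.snd g G.t ≫ G.s = (pullback.snd g G.t ≫ G.i) ≫ G.t := by
        rw [Category.assoc, G.i_t]
      rw [precomp_c (ι ≫ q) (by rw [e1, e2]; exact h5), comp_congr e1 e2 _ h5]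
      have := G.comp_i (pullback.snd g G.t)
      rw [show pullback.fst g G.t ≫ g ≫ G.e = pullback.snd g G.t ≫ G.t ≫ G.e by
        rw [← Category.assoc, pullback.condition, Category.assoc]]
      exact this
  refine ⟨e' ⁻¹ᵁ W (pullback.snd g G.t ≫ G.s) hh, ?_⟩
  have k1 := W_of_isPullback P Q W hWP hWmax R hWbc sqAct hh hs hpsnd hpsnd'
  have k2 := hWbc (pullback.snd g G.t ≫ G.s) hh G.t ht hpsnd
  calc pullback.fst g G.t ⁻¹ᵁ e' ⁻¹ᵁ W (pullback.snd g G.t ≫ G.s) hh
      = (pullback.fst g G.t ≫ e') ⁻¹ᵁ W (pullback.snd g G.t ≫ G.s) hh := rfl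
    _ = (ι ≫ a) ⁻¹ᵁ W (pullback.snd g G.t ≫ G.s) hh := by rw [hιa]
    _ = ι ⁻¹ᵁ (a ⁻¹ᵁ W (pullback.snd g G.t ≫ G.s) hh) := rfl
    _ = ι ⁻¹ᵁ (pullback.fst (pullback.snd g G.t ≫ G.s) G.t ⁻¹ᵁ W (pullback.snd g G.t ≫ G.s) hh) := by
        rw [k1, k2]
    _ = (ι ≫ pullback.fst (pullback.snd g G.t ≫ G.s) G.t) ⁻¹ᵁ W (pullback.snd g G.t ≫ G.s) hh := rfl
    _ = W (pullback.snd g G.t ≫ G.s) hh := by rw [hι1]; rfl

end Groth.Agent.S7510
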