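import Groth.Statements.S7511
import Mathlib

set_option autoImplicit false
universe u
open CategoryTheory CategoryTheory.Limits AlgebraicGeometry
open HTop

namespace Groth.Agent.S7511

universe v v'

theorem qc_bind {X : Scheme.{u}} (𝒰 : PreZeroHypercover.{v} X) [QuasiCompactCover 𝒰]
    (f : ∀ (x : 𝒰.I₀), PreZeroHypercover.{v'} (𝒰.X x)) [∀ x, QuasiCompactCover (f x)] :
    QuasiCompactCover (𝒰.bind f) where
  isCompactOpenCovered_of_isAffineOpen {U} hU := by
    obtain ⟨s, hs, V, hcV, hU⟩ := hU.isCompactOpenCovered 𝒰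
    have (i) (hi) : IsCompactOpenCovered ((f i).f ·) (V i hi) :=
      QuasiCompactCover.isCompactOpenCovered_of_isCompact (f i) (hcV i hi)
    choose t ht W hcW hV using this
    have : Finite s := hs
    have (i) (hi) : Finite (t i hi) := ht i hi
    refine .of_finite (κ := Σ (i : s), t i.1 i.2) (fun p ↦ ⟨p.1, p.2⟩) (fun p ↦ W _ p.1.2 _ p.2.2)
      (fun p ↦ hcW ..) ?_
    simpa [← hV, Set.iUnion_sigma, Set.iUnion_subtype, Set.image_iUnion, Set.image_image] using! hU

/-- Let {f_i : T_i -> T} be a family of morphisms of schemes (indexed by a type in the universe of T, so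
that the coproduct exists). Then it is an fpqc covering if and only if the one-arrow family
consisting of the induced morphism from the coproduct of the T_i to T is an fpqc covering. -/
theorem result {T : Scheme.{u}} (E : PreZeroHypercover.{u} T) : E.presieve₀ ∈ Scheme.fpqcPrecoverage T ↔ Presieve.singleton (Sigma.desc E.f) ∈ Scheme.fpqcPrecoverage T := by
  rw [← PreZeroHypercover.presieve₀_singleton.{u}]
  constructor
  · rintro ⟨h1, h2⟩
    rw [Scheme.presieve₀_mem_qcPrecoverage_iff] at h1
    rw [Scheme.presieve₀_mem_precoverage_iff] at h2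
    obtain ⟨hs, hf⟩ := h2
    refine ⟨Scheme.presieve₀_mem_qcPrecoverage_iff.mpr ?_,
      (Scheme.presieve₀_mem_precoverage_iff _).mpr ⟨?_, ?_⟩⟩
    · let φ : E.Hom (PreZeroHypercover.singleton.{u} (Sigma.desc E.f)) :=
        { s₀ := fun _ => ⟨⟩
          h₀ := fun i => Sigma.ι E.X i
          w₀ := fun i => Sigma.ι_desc _ _ }
      exact QuasiCompactCover.of_hom φ
    · intro t
      obtain ⟨i, x, hx⟩ := hs t
      refine ⟨⟨⟩, Sigma.ι E.X i x, ?_⟩
      show (Sigma.desc E.f) (Sigma.ι E.X i x) = t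
      rw [← Scheme.Hom.comp_apply, Sigma.ι_desc, hx]
    · intro _
      show Flat (Sigma.desc E.f)
      refine (IsZariskiLocalAtSource.iff_of_openCover (P := @Flat) (sigmaOpenCover E.X)).mpr
        (fun i => ?_)
      show Flat (Sigma.ι E.X i ≫ Sigma.desc E.f)
      rw [Sigma.ι_desc]
      exact hf i
  · rintro ⟨h1, h2⟩
    rw [Scheme.presieve₀_mem_qcPrecoverage_iff] at h1
    rw [Scheme.presieve₀_mem_precoverage_iff] at h2
    obtain ⟨hs, hf⟩ := h2
    have hf' : Flat (Sigma.desc E.f) := hf ⟨⟩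
    refine ⟨Scheme.presieve₀_mem_qcPrecoverage_iff.mpr ?_,
      (Scheme.presieve₀_mem_precoverage_iff _).mpr ⟨?_, ?_⟩⟩
    · haveI := @qc_bind.{u, u, u} _ (PreZeroHypercover.singleton.{u} (Sigma.desc E.f)) h1
        (fun _ => (sigmaOpenCover E.X).toPreZeroHypercover) (fun _ => inferInstance)
      let φ : ((PreZeroHypercover.singleton.{u} (Sigma.desc E.f)).bind
          (fun _ => (sigmaOpenCover E.X).toPreZeroHypercover)).Hom E :=
        { s₀ := fun p => p.2
          h₀ := fun p => 𝟙 _
          w₀ := fun p => by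
            show 𝟙 _ ≫ E.f p.2 = Sigma.ι E.X p.2 ≫ Sigma.desc E.f
            rw [Sigma.ι_desc, Category.id_comp] }
      exact QuasiCompactCover.of_hom φ
    · intro t
      obtain ⟨_, y, hy⟩ := hs t
      have hy' : (Sigma.desc E.f) y = t := hy
      obtain ⟨i, x, hx⟩ := (sigmaOpenCover E.X).exists_eq y
      have hx' : (Sigma.ι E.X i) x = y := hx
      refine ⟨i, x, ?_⟩
      rw [← hy', ← hx', ← Scheme.Hom.comp_apply, Sigma.ι_desc]
    · intro i
      have : E.f i = Sigma.ι E.X i ≫ Sigma.desc E.f := (Sigma.ι_desc _ _).symm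
      rw [this]
      infer_instance

end Groth.Agent.S7511
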