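import Groth.Statements.S7512
import Mathlib

set_option autoImplicit false
universe w u
open HTop

namespace Groth.Agent.S7512

open CategoryTheory CategoryTheory.Limits AlgebraicGeometry in
/-- Let {f_i : T_i -> T} be a family of flat morphisms of schemes. Assume that for every affine scheme Z
and every morphism h : Z -> T there is a standard fpqc covering of Z (a finite family of flat
morphisms Z_j -> Z with Z_j affine whose images cover Z) refining the family of base changes {T_i
x_T Z -> Z} (every Z_j -> Z factors through some T_i compatibly with h). Then {f_i : T_i -> T} is an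
fpqc covering (in Mathlib's sense). -/
theorem result {T : Scheme.{u}} (E : PreZeroHypercover.{w} T) (hflat : ∀ i, Flat (E.f i)) (href : ∀ (Z : Scheme.{u}) [IsAffine Z] (h : Z ⟶ T), ∃ F : PreZeroHypercover.{0} Z, Finite F.I₀ ∧ (∀ j, IsAffine (F.X j)) ∧ (∀ j, Flat (F.f j)) ∧ (∀ z : Z, ∃ (j : F.I₀) (x : F.X j), F.f j x = z) ∧ HTop.RefinesOver h F E) : E.presieve₀ ∈ Scheme.fpqcPrecoverage T := by
  refine ⟨Scheme.presieve₀_mem_qcPrecoverage_iff.mpr ⟨fun {U} hU => ?_⟩,
    (Scheme.presieve₀_mem_precoverage_iff E).mpr ⟨?_, hflat⟩⟩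
  · haveI : IsAffine (U : Scheme.{u}) := hU
    obtain ⟨F, hfin, haff, -, hsurj, href'⟩ := href (U : Scheme.{u}) U.ι
    choose a r hr using href'
    haveI := hfin
    have h1 : IsCompactOpenCovered (fun j : F.I₀ => ⇑(F.f j ≫ U.ι)) (U : Set T) := by
      refine IsCompactOpenCovered.of_finite (κ := F.I₀) (fun j => j) (fun j => ⊤) (fun j => ?_) ?_
      · haveI := haff j
        exact isCompact_univ
      · ext t
        constructor
        · intro ht
          obtain ⟨j, hj⟩ := Set.mem_iUnion.mp ht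
          obtain ⟨x, -, rfl⟩ := hj
          show (F.f j ≫ U.ι) x ∈ (U : Set T)
          rw [Scheme.Hom.comp_apply]
          have := Set.mem_range_self (f := ⇑U.ι) (F.f j x)
          rwa [Scheme.Opens.range_ι] at this
        · intro ht
          have : t ∈ Set.range ⇑U.ι := by rw [Scheme.Opens.range_ι]; exact ht
          obtain ⟨t', rfl⟩ := this
          obtain ⟨j, x, hx⟩ := hsurj t'
          refine Set.mem_iUnion.mpr ⟨j, x, trivial, ?_⟩
          show (F.f j ≫ U.ι) x = U.ι t'
          rw [Scheme.Hom.comp_apply, hx]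
    refine IsCompactOpenCovered.of_comp (f := fun i => ⇑(E.f i))
      (fun j : F.I₀ => ⇑(F.f j ≫ U.ι)) (a := a) (fun j => ⇑(r j))
      (fun j => (r j).continuous) (fun j => ?_) (fun i => (E.f i).continuous) U.isOpen h1
    funext x
    show (F.f j ≫ U.ι) x = E.f (a j) (r j x)
    rw [← hr j, Scheme.Hom.comp_apply]
  · intro t
    obtain ⟨U, hU, htU, -⟩ : ∃ U : T.Opens, U ∈ T.affineOpens ∧ t ∈ U ∧ U ≤ ⊤ :=
      TopologicalSpace.Opens.isBasis_iff_nbhd.mp T.isBasis_affineOpens
        (show t ∈ (⊤ : T.Opens) from trivial)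
    haveI : IsAffine (U : Scheme.{u}) := hU
    obtain ⟨F, -, -, -, hsurj, href'⟩ := href (U : Scheme.{u}) U.ι
    have : t ∈ Set.range ⇑U.ι := by rw [Scheme.Opens.range_ι]; exact htU
    obtain ⟨t', rfl⟩ := this
    obtain ⟨j, x, hx⟩ := hsurj t'
    obtain ⟨i, r, hr⟩ := href' j
    refine ⟨i, r x, ?_⟩
    rw [← Scheme.Hom.comp_apply, hr, Scheme.Hom.comp_apply, hx]

end Groth.Agent.S7512
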