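import Groth.Statements.S7514
import Mathlib

set_option autoImplicit false
universe u
open CategoryTheory CategoryTheory.Limits AlgebraicGeometry
open Grpd

namespace Groth.Agent.S7514

open CategoryTheory CategoryTheory.Limits AlgebraicGeometry

theorem mono_j {S U R : Scheme.{u}} (pU : U ⟶ S) (j : R ⟶ pullback pU pU)
    [FormallyUnramified (j ≫ pullback.fst pU pU)] [LocallyOfFiniteType (j ≫ pullback.fst pU pU)]
    (h₂ : ∀ (k : Type u) [Field k] [IsAlgClosed k],
      Function.Injective (fun r : Spec (CommRingCat.of k) ⟶ R => r ≫ j)) : Mono j := by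
  haveI : FormallyUnramified j := FormallyUnramified.of_comp j (pullback.fst pU pU)
  haveI : LocallyOfFiniteType j := locallyOfFiniteType_of_comp j (pullback.fst pU pU)
  rw [← pullback.isIso_diagonal_iff, isIso_iff_isOpenImmersion_and_surjective]
  refine ⟨inferInstance, ⟨fun z => ?_⟩⟩
  have hinj := h₂ (AlgebraicClosure ((pullback j j).residueField z))
  obtain ⟨p, hpdef⟩ : ∃ p : Spec (CommRingCat.of (AlgebraicClosure ((pullback j j).residueField z))) ⟶ pullback j j,
      p = Spec.map (CommRingCat.ofHom (algebraMap ((pullback j j).residueField z)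
        (AlgebraicClosure ((pullback j j).residueField z)))) ≫ (pullback j j).fromSpecResidueField z := ⟨_, rfl⟩
  have h12 : p ≫ pullback.fst j j = p ≫ pullback.snd j j := by
    apply hinj
    show (p ≫ pullback.fst j j) ≫ j = (p ≫ pullback.snd j j) ≫ j
    rw [Category.assoc, Category.assoc, pullback.condition]
  have hp : p = (p ≫ pullback.fst j j) ≫ pullback.diagonal j := by
    apply pullback.hom_ext
    · simp
    · rw [Category.assoc, pullback.diagonal_snd, Category.comp_id, h12]
  obtain ⟨x0⟩ : Nonempty ↥(Spec (CommRingCat.of (AlgebraicClosure ((pullback j j).residueField z)))) := inferInstance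
  refine ⟨(p ≫ pullback.fst j j) x0, ?_⟩
  have h1 : p x0 = z := by
    rw [hpdef, Scheme.Hom.comp_apply, Scheme.fromSpecResidueField_apply]
  rw [← Scheme.Hom.comp_apply, ← hp]
  exact h1

/-- Let S be a scheme, U a scheme over S and j : R -> U x_S U a pre-relation, with t = pr_0 ∘ j and s =
pr_1 ∘ j. Assume (1) s and t are unramified (formally unramified and locally of finite type), (2)
for every algebraically closed field k, the map from k-points of R to pairs of k-points of U is
injective with image an equivalence relation, and (3) there are morphisms e : U -> R, i : R -> R and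
c : R x_(s,U,t) R -> R such that j ∘ e is the diagonal, j ∘ i is j followed by the flip of the two
factors, and j ∘ c is pr_02 ∘ (j x j) (the arrow c(a, b) has target t(a) and source s(b)). Then j is
an equivalence relation: j is a monomorphism and, for every scheme T, the relation 'there is a
T-point r of R with t ∘ r = a and s ∘ r = b' on T-points a, b of U is an equivalence relation. -/
theorem result {S U R : Scheme.{u}} (pU : U ⟶ S) (j : R ⟶ pullback pU pU) [FormallyUnramified (j ≫ pullback.fst pU pU)] [LocallyOfFiniteType (j ≫ pullback.fst pU pU)] [FormallyUnramified (j ≫ pullback.snd pU pU)] [LocallyOfFiniteType (j ≫ pullback.snd pU pU)] (h₂ : ∀ (k : Type u) [Field k] [IsAlgClosed k], Function.Injective (fun r : Spec (CommRingCat.of k) ⟶ R => r ≫ j) ∧ Equivalence (fun a b : Spec (CommRingCat.of k) ⟶ U => ∃ r : Spec (CommRingCat.of k) ⟶ R, r ≫ j ≫ pullback.fst pU pU = a ∧ r ≫ j ≫ pullback.snd pU pU = b)) (e : U ⟶ R) (he : e ≫ j = pullback.lift (𝟙 U) (𝟙 U) rfl) (i : R ⟶ R) (hi : i ≫ j = j ≫ (pullbackSymmetry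 pU pU).hom) (c : pullback (j ≫ pullback.snd pU pU) (j ≫ pullback.fst pU pU) ⟶ R) (hc₁ : c ≫ j ≫ pullback.fst pU pU = pullback.fst (j ≫ pullback.snd pU pU) (j ≫ pullback.fst pU pU) ≫ j ≫ pullback.fst pU pU) (hc₂ : c ≫ j ≫ pullback.snd pU pU = pullback.snd (j ≫ pullback.snd pU pU) (j ≫ pullback.fst pU pU) ≫ j ≫ pullback.snd pU pU) : Mono j ∧ ∀ T : Scheme.{u}, Equivalence (fun a b : T ⟶ U => ∃ r : T ⟶ R, r ≫ j ≫ pullback.fst pU pU = a ∧ r ≫ j ≫ pullback.snd pU pU = b) := by
  refine ⟨mono_j pU j (fun k _ _ => (h₂ k).1), fun T => ⟨fun a => ?_, ?_, ?_⟩⟩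
  · refine ⟨a ≫ e, ?_, ?_⟩
    · rw [Category.assoc, reassoc_of% he, pullback.lift_fst, Category.comp_id]
    · rw [Category.assoc, reassoc_of% he, pullback.lift_snd, Category.comp_id]
  · rintro a b ⟨r, h1, h2⟩
    refine ⟨r ≫ i, ?_, ?_⟩
    · rw [Category.assoc, reassoc_of% hi, pullbackSymmetry_hom_comp_fst]; exact h2
    · rw [Category.assoc, reassoc_of% hi, pullbackSymmetry_hom_comp_snd]; exact h1
  · rintro a b d ⟨r1, h1, h2⟩ ⟨r2, h3, h4⟩
    refine ⟨pullback.lift r1 r2 (h2.trans h3.symm) ≫ c, ?_, ?_⟩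
    · rw [Category.assoc, hc₁, pullback.lift_fst_assoc]; exact h1
    · rw [Category.assoc, hc₂, pullback.lift_snd_assoc]; exact h4

end Groth.Agent.S7514
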