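import Groth.Statements.S7519
import Groth.Agent.Lib.Helper11.FP4
import Groth.Agent.Lib.Helper11.GrpD

set_option autoImplicit false
universe u
open CategoryTheory MonoidalCategory CartesianMonoidalCategory MonObj GrpObj AlgebraicGeometry
open GrpSch

namespace Groth.Agent.S7519

/-- Let G be a group scheme locally of finite type over a field k. Then the centre of G is
(representable by) a closed subgroup scheme of G: there are a scheme Z over k and a closed immersion
Z -> G over k such that for every scheme T over k, a T-valued point g of G factors through Z if and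
only if g is central, i.e. for every T' -> T over k and every T'-valued point g' of G, the
restriction of g to T' commutes with g' in the group G(T'). -/
theorem result (K : Type u) [Field K] (G : Over (Spec (CommRingCat.of K))) [GrpObj G] [LocallyOfFiniteType G.hom] : ∃ (Z : Over (Spec (CommRingCat.of K))) (incl : Z ⟶ G), IsClosedImmersion incl.left ∧ ∀ (T : Over (Spec (CommRingCat.of K))) (g : T ⟶ G), (∃ z : T ⟶ Z, z ≫ incl = g) ↔ ∀ (T' : Over (Spec (CommRingCat.of K))) (h : T' ⟶ T) (g' : T' ⟶ G), (h ≫ g) * g' = g' * (h ≫ g) := by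
  haveI : IsSeparated G.hom := Groth.Agent.Lib.Helper11.GrpD.isSeparated_hom G
  let a : G ⊗ G ⟶ G := (fst G G * snd G G) * (fst G G)⁻¹
  obtain ⟨Z, j, hj, hin, huniv⟩ := Groth.Agent.Lib.Helper11.FP4.exists_fixed G G a
  have key : ∀ (T : Over (Spec (CommRingCat.of K))) (x : T ⟶ G),
      Groth.Agent.Lib.Helper11.FP4.InF a x ↔
        ∀ (T' : Over (Spec (CommRingCat.of K))) (h : T' ⟶ T) (g' : T' ⟶ G),
          (h ≫ x) * g' = g' * (h ≫ x) := by
    intro T x
    rw [Groth.Agent.Lib.Helper11.FP4.inF_iff_points]
    have e : ∀ (T' : Over (Spec (CommRingCat.of K))) (t : T' ⟶ T) (y : T' ⟶ G),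
        lift y (t ≫ x) ≫ a = (y * (t ≫ x)) * y⁻¹ := by
      intro T' t y
      show lift y (t ≫ x) ≫ ((fst G G * snd G G) * (fst G G)⁻¹) = _
      rw [MonObj.comp_mul, MonObj.comp_mul, GrpObj.comp_inv, lift_fst, lift_snd]
    constructor
    · intro h T' t g'
      have h1 := h T' t g'
      rw [e, mul_inv_eq_iff_eq_mul] at h1
      exact h1.symm
    · intro h T' t y
      rw [e, mul_inv_eq_iff_eq_mul]
      exact (h T' t y).symm
  refine ⟨Z, j, hj, fun T g => ?_⟩
  constructor
  · rintro ⟨z, rfl⟩
    exact (key T (z ≫ j)).mp (hin.comp z)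
  · intro h
    exact huniv T g ((key T g).mpr h)

end Groth.Agent.S7519
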