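import Groth.Statements.S7521
import Groth.Agent.S7483
import Groth.Agent.Lib.Helper7.FinAffine

set_option autoImplicit false
open CategoryTheory CategoryTheory.Limits AlgebraicGeometry
universe u
open Desc

namespace Groth.Agent.S7521

/-- Let p : X -> Y be a surjective finite locally free morphism and V a scheme over X which has an
invertible module ample relative to V -> X. Then every descent datum on V relative to p is
effective. (A quasi-projective morphism V -> X, in particular a projective one, carries such a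
module.) (Descent data are taken in functor-of-points form.) -/
theorem result {X Y : Scheme.{u}} (p : X ⟶ Y) [Surjective p] [IsFinite p] [Flat p] [LocallyOfFinitePresentation p] (D : Desc.SchDD p) (L : D.obj.left.Modules) (hL : RelAmple.IsRelAmple D.obj.hom L) : ∃ W : Over Y, Nonempty ((Desc.toDD p).obj W ≅ D) := by
  classical
  apply Groth.Agent.S7483.result p D
  intro y s hs
  obtain ⟨_, ⟨W, hW, rfl⟩, hyW, -⟩ :=
    Y.isBasis_affineOpens.exists_subset_of_mem_open (Set.mem_univ y) isOpen_univ
  have hV₀ : IsAffineOpen (p ⁻¹ᵁ W) := hW.preimage p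
  let T : D.obj.left.Opens := D.obj.hom ⁻¹ᵁ (p ⁻¹ᵁ W)
  have hA : CohB1.IsAmple (L.restrict T.ι) := hL.2 ⟨p ⁻¹ᵁ W, hV₀⟩
  have hsT : ∀ v ∈ s, v ∈ T := by
    intro v hv
    show p (D.obj.hom v) ∈ W
    rw [hs v hv]
    exact hyW
  obtain ⟨U, hU, hsU⟩ := Groth.Agent.Lib.Helper7.FinAffine.exists_affine_of_finite hA
    (T.ι ⁻¹' (↑s : Set ↑(D.obj.left))) (s.finite_toSet.preimage T.ι.isOpenEmbedding.injective.injOn)
  refine ⟨T.ι ''ᵁ U, hU.image_of_isOpenImmersion T.ι, fun v hv => ?_⟩
  exact ⟨⟨v, hsT v hv⟩, hsU (show T.ι ⟨v, hsT v hv⟩ ∈ (↑s : Set ↑(D.obj.left)) from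
    Finset.mem_coe.mpr hv), rfl⟩

end Groth.Agent.S7521
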