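import Groth.Statements.S7522
import Mathlib

set_option autoImplicit false
universe u
open CategoryTheory CategoryTheory.Limits AlgebraicGeometry
open Grpd

namespace Groth.Agent.S7522

/-- Let S be a scheme, U a scheme over S and j : R -> U x_S U a pre-equivalence relation, that is a
morphism such that for every scheme T the image of the T-points of R in pairs of T-points of U is an
equivalence relation; write t = pr_0 ∘ j and s = pr_1 ∘ j. Then the relation on the points of U in
which x ∼ y when some point r of R has t(r) = x and s(r) = y is an equivalence relation. -/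
theorem result {S U R : Scheme.{u}} (pU : U ⟶ S) (j : R ⟶ pullback pU pU) (hj : ∀ T : Scheme.{u}, Equivalence (fun a b : T ⟶ U => ∃ r : T ⟶ R, r ≫ j ≫ pullback.fst pU pU = a ∧ r ≫ j ≫ pullback.snd pU pU = b)) : Equivalence (fun x y : ↥U => ∃ r : R, (j ≫ pullback.fst pU pU) r = x ∧ (j ≫ pullback.snd pU pU) r = y) := by
  refine ⟨?_, ?_, ?_⟩
  · intro x
    obtain ⟨r, hr1, hr2⟩ := (hj (Spec (U.residueField x))).refl (U.fromSpecResidueField x)
    refine ⟨r (IsLocalRing.closedPoint (U.residueField x)), ?_, ?_⟩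
    · rw [← Scheme.Hom.comp_apply, hr1]
      exact Scheme.fromSpecResidueField_apply x _
    · rw [← Scheme.Hom.comp_apply, hr2]
      exact Scheme.fromSpecResidueField_apply x _
  · rintro x y ⟨r₀, h1, h2⟩
    obtain ⟨r', hr1, hr2⟩ := (hj (Spec (R.residueField r₀))).symm
      (x := R.fromSpecResidueField r₀ ≫ j ≫ pullback.fst pU pU)
      (y := R.fromSpecResidueField r₀ ≫ j ≫ pullback.snd pU pU)
      ⟨R.fromSpecResidueField r₀, rfl, rfl⟩
    refine ⟨r' (IsLocalRing.closedPoint (R.residueField r₀)), ?_, ?_⟩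
    · rw [← Scheme.Hom.comp_apply, hr1, Scheme.Hom.comp_apply,
        Scheme.fromSpecResidueField_apply]
      exact h2
    · rw [← Scheme.Hom.comp_apply, hr2, Scheme.Hom.comp_apply,
        Scheme.fromSpecResidueField_apply]
      exact h1
  · rintro x y z ⟨r₁, h1, h2⟩ ⟨r₂, h3, h4⟩
    obtain ⟨p, hp1, hp2⟩ := Scheme.Pullback.exists_preimage_pullback
      (f := j ≫ pullback.snd pU pU) (g := j ≫ pullback.fst pU pU) r₁ r₂ (h2.trans h3.symm)
    obtain ⟨r'', hr1, hr2⟩ := (hj (Spec ((pullback (j ≫ pullback.snd pU pU)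
        (j ≫ pullback.fst pU pU)).residueField p))).trans
      (x := (Scheme.fromSpecResidueField _ p ≫ pullback.fst (j ≫ pullback.snd pU pU)
        (j ≫ pullback.fst pU pU)) ≫ j ≫ pullback.fst pU pU)
      (y := (Scheme.fromSpecResidueField _ p ≫ pullback.fst (j ≫ pullback.snd pU pU)
        (j ≫ pullback.fst pU pU)) ≫ j ≫ pullback.snd pU pU)
      (z := (Scheme.fromSpecResidueField _ p ≫ pullback.snd (j ≫ pullback.snd pU pU)
        (j ≫ pullback.fst pU pU)) ≫ j ≫ pullback.snd pU pU)
      ⟨_, rfl, rfl⟩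
      ⟨Scheme.fromSpecResidueField _ p ≫ pullback.snd (j ≫ pullback.snd pU pU)
        (j ≫ pullback.fst pU pU), by
          rw [Category.assoc, Category.assoc, ← pullback.condition], rfl⟩
    refine ⟨r'' (IsLocalRing.closedPoint _), ?_, ?_⟩
    · rw [← Scheme.Hom.comp_apply, hr1]
      simp only [Scheme.Hom.comp_apply, Scheme.fromSpecResidueField_apply, hp1]
      exact h1
    · rw [← Scheme.Hom.comp_apply, hr2]
      simp only [Scheme.Hom.comp_apply, Scheme.fromSpecResidueField_apply, hp2]
      exact h4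

end Groth.Agent.S7522
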