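import Groth.Statements.S7523
import Mathlib
import Groth.Agent.Lib.Helper11.SpecSp

set_option autoImplicit false
universe u
open SpecSp

namespace Groth.Agent.S7523

open Groth.Agent.Lib.Helper11.SpecSp Groth.Agent.Lib.Lead Topology


/-- For a spectral map f : X → Y between spectral spaces, (1) f remains continuous once X and Y are both
given their constructible topologies, (2) every fibre of f is quasi-compact, and (3) f(X) is a
closed subset of Y for the constructible topology. -/
theorem result {X Y : Type u} [TopologicalSpace X] [TopologicalSpace Y]
    [SpectralSpace X] [SpectralSpace Y] (f : X → Y) (hf : IsSpectralMap f) :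
    @Continuous X Y (constructibleTopology X) (constructibleTopology Y) f ∧
    (∀ y : Y, IsCompact (f ⁻¹' {y})) ∧
    @IsClosed Y (constructibleTopology Y) (Set.range f) := by
  have hT2 := t2Space_constructibleTopology Y
  refine ⟨continuous_cons_of_isSpectralMap hf, fun y => ?_, ?_⟩
  · have h1 : IsClosed[constructibleTopology Y] ({y} : Set Y) :=
      @isClosed_singleton Y (constructibleTopology Y)
        (@T2Space.t1Space Y (constructibleTopology Y) hT2) y
    exact isCompact_of_isClosed_cons (@IsClosed.preimage X Y (constructibleTopology X)
      (constructibleTopology Y) f (continuous_cons_of_isSpectralMap hf) {y} h1)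
  · rw [← Set.image_univ]
    exact isClosed_cons_image hf (@isClosed_univ X (constructibleTopology X))

end Groth.Agent.S7523
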