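import Groth.Statements.S7524
import Mathlib
import Groth.Agent.Lib.Helper11.SpecSp

set_option autoImplicit false
universe u
open SpecSp

namespace Groth.Agent.S7524

open Groth.Agent.Lib.Helper11.SpecSp Groth.Agent.Lib.Lead Topology


/-- A continuous map f : X → Y of spectral spaces is spectral if and only if it is continuous when X and
Y both carry their constructible topologies. -/
theorem result {X Y : Type u} [TopologicalSpace X] [TopologicalSpace Y]
    [SpectralSpace X] [SpectralSpace Y] (f : X → Y) (hf : Continuous f) :
    IsSpectralMap f ↔ @Continuous X Y (constructibleTopology X) (constructibleTopology Y) f := by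
  refine ⟨fun h => continuous_cons_of_isSpectralMap h, fun h => ⟨hf, fun s hso hsc => ?_⟩⟩
  have h1 : IsClosed[constructibleTopology Y] s :=
    isClosed_constructibleTopology_of_isOpen_isCompact hso hsc
  exact isCompact_of_isClosed_cons (@IsClosed.preimage X Y (constructibleTopology X)
    (constructibleTopology Y) f h s h1)

end Groth.Agent.S7524
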