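import Groth.Statements.S7525
import Mathlib
import Groth.Agent.Lib.Helper11.SpecSp

set_option autoImplicit false
universe u
open SpecSp

namespace Groth.Agent.S7525

open Groth.Agent.Lib.Helper11.SpecSp Groth.Agent.Lib.Lead Topology


/-- Let X be a spectral space and let E ⊆ X be closed in the constructible topology (for instance a
constructible or a closed subset). Then E, with the topology induced from X, is a spectral space. -/
theorem result {X : Type u} [TopologicalSpace X] [SpectralSpace X]
    (E : Set X) (hE : @IsClosed X (constructibleTopology X) E) :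
    SpectralSpace E := by
  have hco : ∀ V : Set X, IsOpen V → IsCompact V →
      IsCompact ((Subtype.val : E → X) ⁻¹' V) := by
    intro V hVo hVc
    rw [Subtype.isCompact_iff, Subtype.image_preimage_val]
    exact isCompact_of_isClosed_cons (@IsClosed.inter X E V (constructibleTopology X) hE
      (isClosed_constructibleTopology_of_isOpen_isCompact hVo hVc))
  have hbasis : TopologicalSpace.IsTopologicalBasis
      (Set.preimage (Subtype.val : E → X) '' {U : Set X | IsOpen U ∧ IsCompact U}) :=
    PrespectralSpace.isTopologicalBasis.isInducing Topology.IsInducing.subtypeVal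
  haveI hpre : PrespectralSpace E := PrespectralSpace.of_isTopologicalBasis hbasis (by
    rintro _ ⟨V, ⟨hVo, hVc⟩, rfl⟩
    exact hco V hVo hVc)
  have hchar : ∀ U : Set E, IsOpen U → IsCompact U →
      ∃ V : Set X, IsOpen V ∧ IsCompact V ∧ U = Subtype.val ⁻¹' V := by
    intro U hUo hUc
    have hloc : ∀ p : U, ∃ V : Set X, (IsOpen V ∧ IsCompact V) ∧ (p.1 : X) ∈ V ∧
        (Subtype.val : E → X) ⁻¹' V ⊆ U := by
      intro p
      obtain ⟨_, ⟨V, hV, rfl⟩, hpV, hVU⟩ := hbasis.exists_subset_of_mem_open p.2 hUo
      exact ⟨V, hV, hpV, hVU⟩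
    choose V hV hpV hVU using hloc
    obtain ⟨t, ht⟩ := hUc.elim_finite_subcover (fun p : U => (Subtype.val : E → X) ⁻¹' V p)
      (fun p => (hV p).1.preimage continuous_subtype_val)
      (fun q hq => Set.mem_iUnion.mpr ⟨⟨q, hq⟩, hpV ⟨q, hq⟩⟩)
    refine ⟨⋃ p ∈ t, V p, isOpen_biUnion fun p _ => (hV p).1,
      t.isCompact_biUnion fun p _ => (hV p).2, ?_⟩
    apply Set.Subset.antisymm
    · intro q hq
      have := ht hq
      simp only [Set.mem_iUnion, Set.mem_preimage] at this ⊢
      exact this
    · intro q hq
      simp only [Set.mem_preimage, Set.mem_iUnion] at hq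
      obtain ⟨p, hp, hqV⟩ := hq
      exact hVU p hqV
  haveI hqs : QuasiSeparatedSpace E := ⟨by
    intro U V hUo hUc hVo hVc
    obtain ⟨U', hU'o, hU'c, rfl⟩ := hchar U hUo hUc
    obtain ⟨V', hV'o, hV'c, rfl⟩ := hchar V hVo hVc
    rw [← Set.preimage_inter]
    exact hco _ (hU'o.inter hV'o) (QuasiSeparatedSpace.inter_isCompact U' V' hU'o hU'c hV'o hV'c)⟩
  haveI hcomp : CompactSpace E := isCompact_iff_compactSpace.mp (isCompact_of_isClosed_cons hE)
  haveI hsob : QuasiSober E := ⟨by
    intro S hSirr hScl
    obtain ⟨C, hC, rfl⟩ := isClosed_induced_iff.mp hScl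
    have himg : (Subtype.val : E → X) '' (Subtype.val ⁻¹' C) = E ∩ C :=
      Subtype.image_preimage_val E C
    have hirr : IsIrreducible (E ∩ C) := by
      rw [← himg]; exact hSirr.image _ continuous_subtype_val.continuousOn
    have hgen := hirr.isGenericPoint_genericPoint_closure
    have hconsclosed : IsClosed[constructibleTopology X] (E ∩ C) :=
      @IsClosed.inter X E C (constructibleTopology X) hE
        (isClosed_constructibleTopology_of_isClosed hC)
    obtain ⟨e, he, heξ⟩ := exists_specializes_of_mem_closure hconsclosed hgen.mem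
    have hξe : hirr.genericPoint ⤳ e := hgen.specializes (subset_closure he)
    have heq : e = hirr.genericPoint := (heξ.antisymm hξe).eq
    refine ⟨⟨e, he.1⟩, ?_⟩
    show closure {(⟨e, he.1⟩ : E)} = Subtype.val ⁻¹' C
    rw [Topology.IsInducing.subtypeVal.closure_eq_preimage_closure_image, Set.image_singleton]
    have h3 : closure ({e} : Set X) = closure (E ∩ C) := by rw [heq]; exact hgen.def
    rw [h3]
    apply Set.Subset.antisymm
    · intro q hq
      have : closure (E ∩ C) ⊆ C := hC.closure_subset_iff.mpr Set.inter_subset_right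
      exact this hq
    · intro q hq
      exact subset_closure ⟨q.2, hq⟩⟩
  exact { }

end Groth.Agent.S7525
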