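import Groth.Statements.S7527
import Mathlib
import Groth.Agent.Lib.Helper11.SpecSp

set_option autoImplicit false
universe u
open SpecSp

namespace Groth.Agent.S7527

open Groth.Agent.Lib.Helper11.SpecSp Groth.Agent.Lib.Lead Topology


/-- Let X be a spectral space and x, y ∈ X. Then either there is a third point specializing to both x
and y, or there are disjoint open neighbourhoods of x and of y. -/
theorem result {X : Type u} [TopologicalSpace X] [SpectralSpace X] (x y : X) :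
    (∃ z : X, z ⤳ x ∧ z ⤳ y) ∨
    (∃ U V : Set X, IsOpen U ∧ IsOpen V ∧ x ∈ U ∧ y ∈ V ∧ Disjoint U V) := by
  classical
  by_contra hcon
  push_neg at hcon
  obtain ⟨h1, h2⟩ := hcon
  let ι := {W : Set X // IsOpen W ∧ IsCompact W ∧ (x ∈ W ∨ y ∈ W)}
  have hcl : ∀ W : ι, IsClosed[constructibleTopology X] W.1 := fun W =>
    isClosed_constructibleTopology_of_isOpen_isCompact W.2.1 W.2.2.1
  have hempty : (⋂ W : ι, W.1) = ∅ := by
    rw [Set.eq_empty_iff_forall_notMem]
    intro z hz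
    rw [Set.mem_iInter] at hz
    exact h1 z
      (specializes_of_forall_isCompact_isOpen fun W ho hc hx => hz ⟨W, ho, hc, Or.inl hx⟩)
      (specializes_of_forall_isCompact_isOpen fun W ho hc hy => hz ⟨W, ho, hc, Or.inr hy⟩)
  obtain ⟨u, hu⟩ := exists_finset_iInter_eq_empty_of_isClosed_cons _ hcl hempty
  have hU : IsOpen (⋂ W ∈ u.filter (fun W : ι => x ∈ W.1), (W : ι).1) :=
    isOpen_biInter_finset fun W _ => W.2.1
  have hV : IsOpen (⋂ W ∈ u.filter (fun W : ι => y ∈ W.1), (W : ι).1) :=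
    isOpen_biInter_finset fun W _ => W.2.1
  have hxU : x ∈ ⋂ W ∈ u.filter (fun W : ι => x ∈ W.1), (W : ι).1 :=
    Set.mem_iInter₂.mpr fun W hW => (Finset.mem_filter.mp hW).2
  have hyV : y ∈ ⋂ W ∈ u.filter (fun W : ι => y ∈ W.1), (W : ι).1 :=
    Set.mem_iInter₂.mpr fun W hW => (Finset.mem_filter.mp hW).2
  apply h2 _ _ hU hV hxU hyV
  rw [Set.disjoint_iff]
  rintro z ⟨hz1, hz2⟩
  have : z ∈ ⋂ W ∈ u, (W : ι).1 := Set.mem_iInter₂.mpr fun W hW => by
    rcases W.2.2.2 with hx | hy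
    · exact Set.mem_iInter₂.mp hz1 W (Finset.mem_filter.mpr ⟨hW, hx⟩)
    · exact Set.mem_iInter₂.mp hz2 W (Finset.mem_filter.mpr ⟨hW, hy⟩)
  rw [hu] at this
  exact this

end Groth.Agent.S7527
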