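import Groth.Statements.S7528
import Mathlib
import Groth.Agent.Lib.Helper11.SpecSp

set_option autoImplicit false
universe u
open SpecSp

namespace Groth.Agent.S7528

open Groth.Agent.Lib.Helper11.SpecSp Groth.Agent.Lib.Lead Topology


/-- For a spectral space X the following are equivalent: (1) X is profinite, i.e. quasi-compact,
Hausdorff and totally disconnected (quasi-compactness being automatic); (2) X is Hausdorff; (3) X is
totally disconnected; (4) every quasi-compact open subset is closed; (5) there are no nontrivial
specializations between points; (6) every point is closed; (7) every point is the generic point of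
an irreducible component; (8) the constructible topology coincides with the topology of X. -/
theorem result (X : Type u) [tX : TopologicalSpace X] [SpectralSpace X] :
    List.TFAE [
      T2Space X ∧ TotallyDisconnectedSpace X,
      T2Space X,
      TotallyDisconnectedSpace X,
      ∀ U : Set X, IsOpen U → IsCompact U → IsClosed U,
      ∀ x y : X, x ⤳ y → x = y,
      ∀ x : X, IsClosed ({x} : Set X),
      ∀ x : X, closure ({x} : Set X) ∈ irreducibleComponents X,
      constructibleTopology X = tX] := by
  tfae_have 1 → 2 := fun h => h.1
  tfae_have 2 → 1 := fun h => by
    haveI := h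
    exact ⟨h, inferInstance⟩
  tfae_have 1 → 3 := fun h => h.2
  tfae_have 3 → 5 := by
    intro h x y hxy
    haveI := h
    have hpc : IsPreconnected (closure ({x} : Set X)) := isPreconnected_singleton.closure
    exact hpc.subsingleton (subset_closure rfl) (specializes_iff_mem_closure.mp hxy)
  tfae_have 5 → 6 := by
    intro h x
    rw [← closure_subset_iff_isClosed]
    intro y hy
    exact Set.mem_singleton_iff.mpr (h x y (specializes_iff_mem_closure.mpr hy)).symm
  tfae_have 6 → 7 := by
    intro h x
    refine ⟨isIrreducible_singleton.closure, fun Z hZ hle => ?_⟩
    have h1 : closure ({hZ.genericPoint} : Set X) = closure Z := hZ.genericPoint_closure_eq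
    rw [(h hZ.genericPoint).closure_eq] at h1
    have hxZ : x ∈ closure Z := subset_closure (hle (subset_closure rfl))
    rw [← h1] at hxZ
    have hxeq : x = hZ.genericPoint := hxZ
    intro z hz
    have hz' : z ∈ closure Z := subset_closure hz
    rw [← h1] at hz'
    have hzeq : z = hZ.genericPoint := hz'
    rw [hzeq, ← hxeq]
    exact subset_closure rfl
  tfae_have 7 → 5 := by
    intro h x y hxy
    have hsub : closure ({y} : Set X) ⊆ closure {x} :=
      closure_minimal (Set.singleton_subset_iff.mpr (specializes_iff_mem_closure.mp hxy))
        isClosed_closure
    have hge : closure ({x} : Set X) ⊆ closure {y} := (h y).2 (h x).1 hsub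
    have hyx : y ⤳ x := specializes_iff_mem_closure.mpr (hge (subset_closure rfl))
    exact (hxy.antisymm hyx).eq
  tfae_have 5 → 4 := by
    intro h U hUo hUc
    exact isClosed_of_isClosed_cons_of_stableUnderSpecialization
      (isClosed_constructibleTopology_of_isOpen_isCompact hUo hUc)
      (fun a b hab ha => (h a b hab) ▸ ha)
  tfae_have 4 → 8 := by
    intro h
    apply le_antisymm
    · rw [TopologicalSpace.le_def]
      intro U hU
      exact isOpen_constructibleTopology_of_isOpen hU
    · apply le_generateFrom
      rintro s (⟨ho, hc⟩ | ⟨hcl, hc⟩)
      · exact ho
      · exact isClosed_compl_iff.mp (h sᶜ hcl.isOpen_compl hc)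
  tfae_have 8 → 2 := by
    intro h
    have := t2Space_constructibleTopology X
    rwa [h] at this
  tfae_finish

end Groth.Agent.S7528
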