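import Groth.Statements.S7529
import Mathlib
import Groth.Agent.Lib.Helper11.SpecSp

set_option autoImplicit false
universe u
open SpecSp

namespace Groth.Agent.S7529

open Groth.Agent.Lib.Helper11.SpecSp Groth.Agent.Lib.Lead Topology


/-- The product X × Y of two spectral spaces X and Y is a spectral space. -/
theorem result (X Y : Type u) [TopologicalSpace X] [TopologicalSpace Y]
    [SpectralSpace X] [SpectralSpace Y] : SpectralSpace (X × Y) := by
  haveI hpre : PrespectralSpace (X × Y) :=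
    PrespectralSpace.of_isTopologicalBasis
      ((PrespectralSpace.isTopologicalBasis (X := X)).prod
        (PrespectralSpace.isTopologicalBasis (X := Y))) (by
      rintro _ ⟨U, hU, V, hV, rfl⟩
      exact hU.2.prod hV.2)
  haveI hqs : QuasiSeparatedSpace (X × Y) := by
    refine QuasiSeparatedSpace.of_isTopologicalBasis
      (b := fun p : {U : Set X // IsOpen U ∧ IsCompact U} × {V : Set Y // IsOpen V ∧ IsCompact V} =>
        p.1.1 ×ˢ p.2.1) ?_ ?_
    · convert (PrespectralSpace.isTopologicalBasis (X := X)).prod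
        (PrespectralSpace.isTopologicalBasis (X := Y)) using 1
      ext W
      constructor
      · rintro ⟨⟨U, V⟩, rfl⟩
        exact ⟨U.1, U.2, V.1, V.2, rfl⟩
      · rintro ⟨U, hU, V, hV, rfl⟩
        exact ⟨(⟨U, hU⟩, ⟨V, hV⟩), rfl⟩
    · rintro ⟨U, V⟩ ⟨U', V'⟩
      show IsCompact (U.1 ×ˢ V.1 ∩ U'.1 ×ˢ V'.1)
      rw [Set.prod_inter_prod]
      exact (QuasiSeparatedSpace.inter_isCompact _ _ U.2.1 U.2.2 U'.2.1 U'.2.2).prod
        (QuasiSeparatedSpace.inter_isCompact _ _ V.2.1 V.2.2 V'.2.1 V'.2.2)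
  haveI hsob : QuasiSober (X × Y) := ⟨by
    intro Z hZirr hZcl
    have hA : IsIrreducible (Prod.fst '' Z) := hZirr.image _ continuous_fst.continuousOn
    have hB : IsIrreducible (Prod.snd '' Z) := hZirr.image _ continuous_snd.continuousOn
    obtain ⟨ξ, hξ⟩ : ∃ ξ, IsGenericPoint ξ (closure (Prod.fst '' Z)) :=
      ⟨_, hA.isGenericPoint_genericPoint_closure⟩
    obtain ⟨η, hη⟩ : ∃ η, IsGenericPoint η (closure (Prod.snd '' Z)) :=
      ⟨_, hB.isGenericPoint_genericPoint_closure⟩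
    have hmem : (ξ, η) ∈ Z := by
      rw [← hZcl.closure_eq, mem_closure_iff]
      intro O hO hmemO
      obtain ⟨U, V, hU, hV, hξU, hηV, hUV⟩ := isOpen_prod_iff.mp hO _ _ hmemO
      have h1 : (Z ∩ Prod.fst ⁻¹' U).Nonempty := by
        obtain ⟨_, hxU, ⟨z, hz, rfl⟩⟩ := mem_closure_iff.mp hξ.mem U hU hξU
        exact ⟨z, hz, hxU⟩
      have h2 : (Z ∩ Prod.snd ⁻¹' V).Nonempty := by
        obtain ⟨_, hxV, ⟨z, hz, rfl⟩⟩ := mem_closure_iff.mp hη.mem V hV hηV
        exact ⟨z, hz, hxV⟩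
      obtain ⟨z, hzZ, hz1, hz2⟩ := hZirr.2 _ _ (hU.preimage continuous_fst)
        (hV.preimage continuous_snd) h1 h2
      exact ⟨z, hUV ⟨hz1, hz2⟩, hzZ⟩
    refine ⟨(ξ, η), ?_⟩
    show closure {(ξ, η)} = Z
    apply Set.Subset.antisymm
    · exact closure_minimal (Set.singleton_subset_iff.mpr hmem) hZcl
    · intro z hz
      rw [← Set.singleton_prod_singleton, closure_prod_eq, hξ.def, hη.def]
      exact ⟨subset_closure ⟨z, hz, rfl⟩, subset_closure ⟨z, hz, rfl⟩⟩⟩
  exact { }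

end Groth.Agent.S7529
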