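import Groth.Statements.S7530
import Mathlib
import Groth.Agent.Lib.Helper11.SpecSp

set_option autoImplicit false
universe u
open SpecSp

namespace Groth.Agent.S7530

open Groth.Agent.Lib.Helper11.SpecSp Groth.Agent.Lib.Lead Topology


/-- Let f : X → Y be a map of spectral spaces which is spectral and bijective, and assume that
generalizations lift along f or that specializations lift along f. Then f is a homeomorphism. -/
theorem result {X Y : Type u} [TopologicalSpace X] [TopologicalSpace Y]
    [SpectralSpace X] [SpectralSpace Y] (f : X → Y) (hf : IsSpectralMap f) (hb : Function.Bijective f)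
    (hlift : GeneralizingMap f ∨ SpecializingMap f) :
    IsHomeomorph f := by
  rcases hlift with hg | hs
  · refine ⟨hf.continuous, ?_, hb⟩
    rw [PrespectralSpace.isTopologicalBasis.isOpenMap_iff]
    rintro U ⟨hUo, hUc⟩
    apply isOpen_of_isOpen_cons_of_stableUnderGeneralization
    · have h1 : IsClosed[constructibleTopology Y] (f '' Uᶜ) :=
        isClosed_cons_image hf ((@isClosed_compl_iff X (constructibleTopology X) U).mpr
          (hUc.isOpen_constructibleTopology_of_isOpen hUo))
      rw [Set.image_compl_eq hb] at h1
      exact (@isClosed_compl_iff Y (constructibleTopology Y) (f '' U)).mp h1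
    · exact hg.stableUnderGeneralization_image hUo.stableUnderGeneralization
  · rw [isHomeomorph_iff_continuous_isClosedMap_bijective]
    refine ⟨hf.continuous, fun Z hZ => ?_, hb⟩
    apply isClosed_of_isClosed_cons_of_stableUnderSpecialization
    · exact isClosed_cons_image hf (isClosed_constructibleTopology_of_isClosed hZ)
    · exact hs.stableUnderSpecialization_image hZ.stableUnderSpecialization

end Groth.Agent.S7530
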