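import Groth.Statements.S7532
import Groth.Agent.Lib.Helper3.SpecTop
import Groth.Agent.Lib.Helper3.Sierpinski
import Mathlib

set_option autoImplicit false
universe u
open SpecSp

namespace Groth.Agent.S7532

open Groth.Agent.Lib.Helper3.SpecTop Groth.Agent.Lib.Helper3.ConsTop Groth.Agent.Lib.Helper3.Sierpinski Topology

/-- Let W be the two-point space with one closed and one non-closed point (here the Sierpiński topology
on Prop). A topological space X is spectral exactly when, for some index type I, X admits a
topological embedding into the power W^I whose image is a closed set for the constructible topology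
on W^I. -/
theorem result (X : Type u) [TopologicalSpace X] :
    SpectralSpace X ↔ ∃ (I : Type u) (f : X → (I → Prop)),
      Topology.IsEmbedding f ∧ @IsClosed (I → Prop) (constructibleTopology (I → Prop)) (Set.range f) := by
  constructor
  · intro hX
    let I := {U : Set X // IsOpen U ∧ IsCompact U}
    let f : X → (I → Prop) := fun x U => x ∈ U.1
    have hfc : Continuous f := continuous_pi fun U => continuous_Prop.2 U.2.1
    have hpre : ∀ s : Finset I, f ⁻¹' cyl s = ⋂₀ ((fun U : I => U.1) '' (s : Set I)) := by
      intro s
      ext x
      simp [cyl, f]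
    have hqc : ∀ s : Finset I, IsCompact (f ⁻¹' cyl s) := by
      intro s
      rw [hpre]
      exact QuasiSeparatedSpace.isCompact_sInter ((s.finite_toSet).image _)
        (by rintro _ ⟨U, -, rfl⟩; exact Or.inl U.2.1) (by rintro _ ⟨U, -, rfl⟩; exact U.2.2)
    have hsp : IsSpectralMap f := by
      refine ⟨hfc, fun V hVo hVc => ?_⟩
      obtain ⟨S, hS, rfl⟩ := (isCompact_open_iff_eq_finite_iUnion_of_isTopologicalBasis cyl
        isTopologicalBasis_cyl isCompact_cyl V).1 ⟨hVc, hVo⟩
      rw [Set.preimage_iUnion₂]
      exact hS.isCompact_biUnion fun s _ => hqc s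
    have hemb : IsEmbedding f := by
      refine ⟨⟨?_⟩, ?_⟩
      · apply le_antisymm hfc.le_induced
        intro s hs
        rw [isOpen_induced_iff]
        refine ⟨⋃ U : {U : I // U.1 ⊆ s}, {u : I → Prop | u U.1},
          isOpen_iUnion fun U => isOpen_coord U.1, ?_⟩
        ext x
        simp only [Set.preimage_iUnion, Set.mem_iUnion, Set.mem_preimage, Set.mem_ofPred_eq]
        constructor
        · rintro ⟨U, hxU⟩
          exact U.2 hxU
        · intro hx
          obtain ⟨V, ⟨hVo, hVc⟩, hxV, hVs⟩ :=
            PrespectralSpace.isTopologicalBasis.exists_subset_of_mem_open hx hs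
          exact ⟨⟨⟨V, hVo, hVc⟩, hVs⟩, hxV⟩
      · intro x y hxy
        apply Inseparable.eq
        rw [PrespectralSpace.isTopologicalBasis.inseparable_iff]
        intro U hU
        exact iff_of_eq (congrFun hxy ⟨U, hU⟩)
    refine ⟨I, f, hemb, ?_⟩
    have h1 : @IsCompact _ (constructibleTopology (I → Prop)) (Set.range f) :=
      @isCompact_range X (I → Prop) (constructibleTopology X) (constructibleTopology _)
        compactSpace_cons f (continuous_cons hsp)
    exact @IsCompact.isClosed _ (constructibleTopology (I → Prop)) t2_cons _ h1
  · rintro ⟨I, f, hf, hr⟩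
    exact (spectral_of_isEmbedding hf hr).1

end Groth.Agent.S7532
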