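import Groth.Statements.S7536
import Groth.Agent.Lib.Helper3.SpecLimit
import Mathlib

set_option autoImplicit false
universe u
open CategoryTheory CategoryTheory.Limits
open SpecSp

namespace Groth.Agent.S7536

open Groth.Agent.Lib.Helper3.SpecTop Groth.Agent.Lib.Helper3.SpecLimit Topology

/-- Let j ↦ X_j be a cofiltered diagram of spectral spaces with spectral transition maps and X its limit
with projections p_j. For every constructible E ⊆ X there are an object i and a constructible E_i ⊆
X_i with p_i⁻¹(E_i) = E; if E is open, resp. closed, then E_i may be chosen open, resp. closed. -/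
theorem result {J : Type u} [SmallCategory J] [IsCofiltered J] (F : J ⥤ TopCat.{u})
    (hF : ∀ j, SpectralSpace (F.obj j))
    (hFm : ∀ {i j : J} (a : i ⟶ j), IsSpectralMap (F.map a : F.obj i → F.obj j))
    (c : Cone F) (hc : IsLimit c)
    (E : Set c.pt) (hE : Topology.IsConstructible E) :
    (∃ (i : J) (Ei : Set (F.obj i)), Topology.IsConstructible Ei ∧ c.π.app i ⁻¹' Ei = E) ∧
    (IsOpen E → ∃ (i : J) (Ei : Set (F.obj i)), Topology.IsConstructible Ei ∧ IsOpen Ei ∧ c.π.app i ⁻¹' Ei = E) ∧
    (IsClosed E → ∃ (i : J) (Ei : Set (F.obj i)), Topology.IsConstructible Ei ∧ IsClosed Ei ∧ c.π.app i ⁻¹' Ei = E) := by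
  have := hF
  obtain ⟨hsp, hπ⟩ := spectralSpace_limit hF hFm hc
  have key1 : ∀ E : Set c.pt, IsConstructible E →
      ∃ (i : J) (Ei : Set (F.obj i)), IsConstructible Ei ∧ c.π.app i ⁻¹' Ei = E := by
    intro E hE
    induction hE using IsConstructible.empty_union_induction with
    | open_retrocompact U hUo hUr =>
      obtain ⟨i, Ui, hUio, hUic, h⟩ := exists_qc_preimage hF hFm hc U hUo hUr.isCompact
      exact ⟨i, Ui, hUic.isConstructible hUio, h⟩
    | union s hs t ht hs' ht' =>
      obtain ⟨i, Ei, hEi, rfl⟩ := hs'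
      obtain ⟨j, Ej, hEj, rfl⟩ := ht'
      refine ⟨IsCofiltered.min i j, F.map (IsCofiltered.minToLeft i j) ⁻¹' Ei ∪
        F.map (IsCofiltered.minToRight i j) ⁻¹' Ej,
        (isConstructible_preimage_of_isSpectralMap (hFm _) hEi).union
          (isConstructible_preimage_of_isSpectralMap (hFm _) hEj), ?_⟩
      rw [Set.preimage_union, preimage_proj, preimage_proj]
    | compl s hs hs' =>
      obtain ⟨i, Ei, hEi, rfl⟩ := hs'
      exact ⟨i, Eiᶜ, hEi.compl, rfl⟩
  have key2 : ∀ E : Set c.pt, IsConstructible E → IsOpen E →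
      ∃ (i : J) (Ei : Set (F.obj i)), IsConstructible Ei ∧ IsOpen Ei ∧ c.π.app i ⁻¹' Ei = E := by
    intro E hE hEo
    have hEc : IsCompact E := isCompact_of_isClosed_cons (isClopen_cons_of_isConstructible hE).2
    obtain ⟨i, Ui, hUio, hUic, h⟩ := exists_qc_preimage hF hFm hc E hEo hEc
    exact ⟨i, Ui, hUic.isConstructible hUio, hUio, h⟩
  refine ⟨key1 E hE, key2 E hE, fun hEcl => ?_⟩
  obtain ⟨i, Ui, hUi, hUio, h⟩ := key2 Eᶜ hE.compl hEcl.isOpen_compl
  exact ⟨i, Uiᶜ, hUi.compl, hUio.isClosed_compl, by rw [Set.preimage_compl, h, compl_compl]⟩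

end Groth.Agent.S7536
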