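import Groth.Statements.S7538
import Groth.Agent.Lib.Helper3.SpecLimit
import Mathlib

set_option autoImplicit false
universe u
open CategoryTheory CategoryTheory.Limits
open SpecSp

namespace Groth.Agent.S7538

open Groth.Agent.Lib.Helper3.SpecTop Groth.Agent.Lib.Helper3.SpecLimit Groth.Agent.Lib.Helper3.ConsTop Topology

/-- Let j ↦ X_j be a cofiltered diagram of spectral spaces with spectral transition maps f_a and X its
limit with projections p_j. (1) Any quasi-compact open U ⊆ X is p_i⁻¹(U_i) for some i and some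
quasi-compact open U_i ⊆ X_i. (2) If U_i ⊆ X_i and U_j ⊆ X_j are quasi-compact opens with p_i⁻¹(U_i)
⊆ p_j⁻¹(U_j), there are k and a : k → i, b : k → j with f_a⁻¹(U_i) ⊆ f_b⁻¹(U_j). (3) If U_i and
finitely many U_{l,i} are quasi-compact opens of X_i with p_i⁻¹(U_i) = ⋃_l p_i⁻¹(U_{l,i}), then
f_a⁻¹(U_i) = ⋃_l f_a⁻¹(U_{l,i}) for some a : j → i. (4) The same with intersections. -/
theorem result {J : Type u} [SmallCategory J] [IsCofiltered J] (F : J ⥤ TopCat.{u})
    (hF : ∀ j, SpectralSpace (F.obj j))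
    (hFm : ∀ {i j : J} (a : i ⟶ j), IsSpectralMap (F.map a : F.obj i → F.obj j))
    (c : Cone F) (hc : IsLimit c) :
    (∀ U : Set c.pt, IsOpen U → IsCompact U →
      ∃ (i : J) (Ui : Set (F.obj i)), IsOpen Ui ∧ IsCompact Ui ∧ c.π.app i ⁻¹' Ui = U) ∧
    (∀ (i j : J) (Ui : Set (F.obj i)) (Uj : Set (F.obj j)),
      IsOpen Ui → IsCompact Ui → IsOpen Uj → IsCompact Uj →
      c.π.app i ⁻¹' Ui ⊆ c.π.app j ⁻¹' Uj →
      ∃ (k : J) (a : k ⟶ i) (b : k ⟶ j), F.map a ⁻¹' Ui ⊆ F.map b ⁻¹' Uj) ∧
    (∀ (i : J) (n : ℕ) (Ui : Set (F.obj i)) (V : Fin n → Set (F.obj i)),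
      IsOpen Ui → IsCompact Ui → (∀ l, IsOpen (V l) ∧ IsCompact (V l)) →
      (c.π.app i ⁻¹' Ui = ⋃ l, c.π.app i ⁻¹' V l →
        ∃ (j : J) (a : j ⟶ i), F.map a ⁻¹' Ui = ⋃ l, F.map a ⁻¹' V l) ∧
      (c.π.app i ⁻¹' Ui = ⋂ l, c.π.app i ⁻¹' V l →
        ∃ (j : J) (a : j ⟶ i), F.map a ⁻¹' Ui = ⋂ l, F.map a ⁻¹' V l)) := by
  have := hF
  have qcO : ∀ {i : J} {U : Set (F.obj i)}, IsOpen U → IsCompact U →
      IsOpen[constructibleTopology (F.obj i)] U :=
    fun ho hc => hc.isOpen_constructibleTopology_of_isOpen ho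
  have qcC : ∀ {i : J} {U : Set (F.obj i)}, IsOpen U → IsCompact U →
      IsClosed[constructibleTopology (F.obj i)] U :=
    fun ho hc => isClosed_cons_of_isCompact_isOpen hc ho
  refine ⟨fun U hUo hUc => exists_qc_preimage hF hFm hc U hUo hUc, ?_, ?_⟩
  · intro i j Ui Uj hUio hUic hUjo hUjc hsub
    have hE := qcC (hUio.preimage (hFm (IsCofiltered.minToLeft i j)).continuous)
      ((hFm (IsCofiltered.minToLeft i j)).isCompact_preimage_of_isOpen hUio hUic)
    have hF' := qcO (hUjo.preimage (hFm (IsCofiltered.minToRight i j)).continuous)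
      ((hFm (IsCofiltered.minToRight i j)).isCompact_preimage_of_isOpen hUjo hUjc)
    obtain ⟨k, d, hd⟩ := exists_hom_preimage_subset hF hFm hc (IsCofiltered.min i j) _ _ hE hF'
      (by rw [preimage_proj, preimage_proj]; exact hsub)
    exact ⟨k, d ≫ IsCofiltered.minToLeft i j, d ≫ IsCofiltered.minToRight i j, by
      rw [preimage_map_comp, preimage_map_comp]; exact hd⟩
  · intro i n Ui V hUio hUic hV
    have hVo := fun l => qcO (hV l).1 (hV l).2
    have hVc := fun l => qcC (hV l).1 (hV l).2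
    constructor
    · intro h
      have hWo : IsOpen[constructibleTopology (F.obj i)] (⋃ l, V l) := by
        let _ := constructibleTopology (F.obj i)
        exact isOpen_iUnion hVo
      have hWc : IsClosed[constructibleTopology (F.obj i)] (⋃ l, V l) := by
        let _ := constructibleTopology (F.obj i)
        exact isClosed_iUnion_of_finite hVc
      obtain ⟨j, a, ha⟩ := exists_hom_preimage_eq hF hFm hc i Ui (⋃ l, V l)
        (qcO hUio hUic) (qcC hUio hUic) hWo hWc (by rw [Set.preimage_iUnion]; exact h)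
      exact ⟨j, a, by rw [ha, Set.preimage_iUnion]⟩
    · intro h
      have hWo : IsOpen[constructibleTopology (F.obj i)] (⋂ l, V l) := by
        let _ := constructibleTopology (F.obj i)
        exact isOpen_iInter_of_finite hVo
      have hWc : IsClosed[constructibleTopology (F.obj i)] (⋂ l, V l) := by
        let _ := constructibleTopology (F.obj i)
        exact isClosed_iInter hVc
      obtain ⟨j, a, ha⟩ := exists_hom_preimage_eq hF hFm hc i Ui (⋂ l, V l)
        (qcO hUio hUic) (qcC hUio hUic) hWo hWc (by rw [Set.preimage_iInter]; exact h)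
      exact ⟨j, a, by rw [ha, Set.preimage_iInter]⟩

end Groth.Agent.S7538
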