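import Groth.Statements.S7539
import Groth.Agent.Lib.Helper3.SpecTop
import Mathlib

set_option autoImplicit false
universe u
open SpecSp

namespace Groth.Agent.S7539

open Groth.Agent.Lib.Helper3.SpecTop Topology

/-- For a subset W of a spectral space X, these five conditions coincide: (1) W can be written as an
intersection of constructible subsets and is stable under generalization; (2) W is quasi-compact and
stable under generalization; (3) for some quasi-compact E ⊆ X, W consists exactly of the points that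
specialize to a point of E; (4) W is the intersection of some family of quasi-compact opens; (5)
there are a nonempty index set I and quasi-compact opens U_i with W = ⋂ U_i such that for all i, j
some U_k is contained in U_i ∩ U_j. -/
theorem result {X : Type u} [TopologicalSpace X] [SpectralSpace X] (W : Set X) :
    List.TFAE [
      (∃ S : Set (Set X), (∀ s ∈ S, Topology.IsConstructible s) ∧ W = ⋂₀ S) ∧ StableUnderGeneralization W,
      IsCompact W ∧ StableUnderGeneralization W,
      ∃ E : Set X, IsCompact E ∧ W = {x | ∃ e ∈ E, x ⤳ e},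
      ∃ S : Set (Set X), (∀ s ∈ S, IsOpen s ∧ IsCompact s) ∧ W = ⋂₀ S,
      ∃ (I : Type u) (_ : Nonempty I) (U : I → Set X), (∀ i, IsOpen (U i) ∧ IsCompact (U i)) ∧
        W = ⋂ i, U i ∧ ∀ i j, ∃ k, U k ⊆ U i ∩ U j] := by
  classical
  tfae_have 1 → 2 := by
    rintro ⟨⟨S, hS, rfl⟩, hgen⟩
    refine ⟨isCompact_of_isClosed_cons ?_, hgen⟩
    have h : ∀ s ∈ S, IsClosed[constructibleTopology X] s :=
      fun s hs => (isClopen_cons_of_isConstructible (hS s hs)).2
    let _ := constructibleTopology X
    exact isClosed_sInter h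
  tfae_have 2 → 3 := by
    rintro ⟨hc, hgen⟩
    refine ⟨W, hc, ?_⟩
    ext x
    exact ⟨fun hx => ⟨x, hx, specializes_rfl⟩, fun ⟨e, he, hxe⟩ => hgen hxe he⟩
  tfae_have 3 → 4 := by
    rintro ⟨E, hE, rfl⟩
    exact ⟨_, fun s hs => ⟨hs.1, hs.2.1⟩, generalizations_eq_sInter hE⟩
  tfae_have 4 → 1 := by
    rintro ⟨S, hS, rfl⟩
    refine ⟨⟨S, fun s hs => (hS s hs).2.isConstructible (hS s hs).1, rfl⟩, ?_⟩
    intro x y hxy hx
    exact fun s hs => hxy.mem_open (hS s hs).1 (hx s hs)
  tfae_have 4 → 5 := by
    rintro ⟨S, hS, rfl⟩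
    refine ⟨{t : Finset (Set X) // (t : Set (Set X)) ⊆ S}, ⟨⟨∅, by simp⟩⟩,
      fun t => ⋂₀ (t.1 : Set (Set X)), fun t => ⟨?_, ?_⟩, ?_, ?_⟩
    · exact t.1.finite_toSet.isOpen_sInter fun s hs => (hS s (t.2 hs)).1
    · exact QuasiSeparatedSpace.isCompact_sInter t.1.finite_toSet
        (fun s hs => Or.inl (hS s (t.2 hs)).1) (fun s hs => (hS s (t.2 hs)).2)
    · ext x
      constructor
      · intro hx
        exact Set.mem_iInter.2 fun t s hs => hx s (t.2 hs)
      · intro hx s hs
        have := Set.mem_iInter.1 hx ⟨{s}, by simpa using hs⟩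
        exact this s (by simp)
    · intro t t'
      refine ⟨⟨t.1 ∪ t'.1, by
        rw [Finset.coe_union]
        exact Set.union_subset t.2 t'.2⟩, ?_⟩
      intro x hx
      exact ⟨fun s hs => hx s (by simp [Finset.mem_coe.1 hs]),
        fun s hs => hx s (by simp [Finset.mem_coe.1 hs])⟩
  tfae_have 5 → 4 := by
    rintro ⟨I, _, U, hU, rfl, _⟩
    exact ⟨Set.range U, by rintro _ ⟨i, rfl⟩; exact hU i, (Set.sInter_range U).symm⟩
  tfae_finish

end Groth.Agent.S7539
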