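import Groth.Statements.S7541
import Groth.Agent.Lib.Helper3.SpecTop
import Mathlib

set_option autoImplicit false
universe u
open SpecSp

namespace Groth.Agent.S7541

open Groth.Agent.Lib.Helper3.SpecTop Topology

/-- Let X be a spectral space, E ⊆ X a constructible subset and W the set of points of X that specialize
to a point of E. Then the subspace W minus E is a spectral space. (The description of W minus E as a
limit of the U_i minus E is not recorded here.) -/
theorem result {X : Type u} [TopologicalSpace X] [SpectralSpace X]
    (E : Set X) (hE : Topology.IsConstructible E) :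
    SpectralSpace ↥({x : X | ∃ e ∈ E, x ⤳ e} \ E) := by
  refine (spectral_of_isClosed_cons ?_).1
  have hEc : IsCompact E := isCompact_of_isClosed_cons (isClopen_cons_of_isConstructible hE).2
  rw [generalizations_eq_sInter hEc, Set.sdiff_eq]
  have h1 : IsClosed[constructibleTopology X] (⋂₀ {U : Set X | IsOpen U ∧ IsCompact U ∧ E ⊆ U}) :=
    isClosed_cons_sInter_qc fun s hs => ⟨hs.1, hs.2.1⟩
  have h2 := (isClopen_cons_of_isConstructible hE).1
  let _ := constructibleTopology X
  exact h1.inter h2.isClosed_compl

end Groth.Agent.S7541
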