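import Groth.Statements.S7542
import Mathlib

set_option autoImplicit false
universe u
open ConstrTop

namespace Groth.Agent.S7542

/-- Let X be a topological space such that the quasi-compact opens form a basis for the topology, and
let T ⊆ X be retrocompact in X. Then for any constructible subset E ⊆ X, the intersection E ∩ T is
constructible in T (with the induced topology). -/
theorem result {X : Type u} [TopologicalSpace X] [PrespectralSpace X]
    (T : Set X) (hT : IsRetrocompact T) (E : Set X) (hE : Topology.IsConstructible E) :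
    Topology.IsConstructible ((Subtype.val : T → X) ⁻¹' E) := by
  refine hE.preimage continuous_subtype_val ?_
  intro U hUo hUr V hVc hVo
  obtain ⟨W, hWo, rfl⟩ := isOpen_induced_iff.1 hVo
  have h1 : IsCompact (Subtype.val '' ((Subtype.val : T → X) ⁻¹' W)) :=
    hVc.image continuous_subtype_val
  obtain ⟨W', hW'c, hW'o, h2, h3⟩ :=
    PrespectralSpace.exists_isCompact_and_isOpen_between h1 hWo (by
      rintro _ ⟨x, hx, rfl⟩; exact hx)
  have h4 : ((Subtype.val : T → X) ⁻¹' U ∩ (Subtype.val : T → X) ⁻¹' W) =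
      (Subtype.val : T → X) ⁻¹' (T ∩ (U ∩ W')) := by
    ext ⟨x, hx⟩
    simp only [Set.mem_inter_iff, Set.mem_preimage]
    constructor
    · rintro ⟨hxU, hxW⟩
      exact ⟨hx, hxU, h2 ⟨⟨x, hx⟩, hxW, rfl⟩⟩
    · rintro ⟨-, hxU, hxW'⟩
      exact ⟨hxU, h3 hxW'⟩
  rw [h4, Subtype.isCompact_iff, Subtype.image_preimage_coe]
  have h5 : IsCompact (T ∩ (U ∩ W')) := hT (hUr hW'c hW'o) (hUo.inter hW'o)
  have h6 : T ∩ (T ∩ (U ∩ W')) = T ∩ (U ∩ W') := by
    ext x; simp
  rw [h6]; exact h5

end Groth.Agent.S7542
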