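import Groth.Statements.S7544
import Mathlib

set_option autoImplicit false
universe u
open ConstrTop

namespace Groth.Agent.S7544

/-- Let X be a quasi-compact topological space whose quasi-compact opens form a basis and are closed
under pairwise intersection. Take T ⊆ X to be locally closed, quasi-compact, and with retrocompact
complement. Then T is constructible in X. -/
theorem result {X : Type u} [TopologicalSpace X]
    [CompactSpace X] [PrespectralSpace X] [QuasiSeparatedSpace X]
    (T : Set X) (hT : IsLocallyClosed T) (hTc : IsCompact T) (hTr : IsRetrocompact Tᶜ) :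
    Topology.IsConstructible T := by
  obtain ⟨U, Z, hU, hZ, rfl⟩ := hT
  obtain ⟨W, hWc, hWo, hTW, hWU⟩ :=
    PrespectralSpace.exists_isCompact_and_isOpen_between hTc hU Set.inter_subset_left
  have h1 : W \ (U ∩ Z) = W ∩ Zᶜ := by
    ext x
    simp only [Set.mem_sdiff, Set.mem_inter_iff, Set.mem_compl_iff, not_and]
    constructor
    · rintro ⟨hxW, hx⟩; exact ⟨hxW, hx (hWU hxW)⟩
    · rintro ⟨hxW, hx⟩; exact ⟨hxW, fun _ => hx⟩
  have h2 : IsCompact (W \ (U ∩ Z)) := by
    have := hTr hWc hWo
    rwa [Set.inter_comm, ← Set.sdiff_eq] at this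
  have h3 : IsOpen (W \ (U ∩ Z)) := by
    rw [h1]; exact hWo.inter hZ.isOpen_compl
  have h4 : U ∩ Z = W \ (W \ (U ∩ Z)) := by
    rw [Set.sdiff_sdiff_right_self]
    exact (Set.inter_eq_right.2 hTW).symm
  rw [h4]
  exact (hWc.isConstructible hWo).sdiff (h2.isConstructible h3)

end Groth.Agent.S7544
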