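import Groth.Statements.S7547
import Mathlib

set_option autoImplicit false
universe u
open PtTop

namespace Groth.Agent.S7547

/-- Let X be a Kolmogorov topological space whose quasi-compact opens form a basis for the topology. If
X is not Jacobson, there is a point x ∈ X which is not closed but such that {x} is locally closed. -/
theorem result {X : Type u} [TopologicalSpace X]
    [T0Space X] [PrespectralSpace X] (hX : ¬ JacobsonSpace X) :
    ∃ x : X, ¬ IsClosed ({x} : Set X) ∧ IsLocallyClosed ({x} : Set X) := by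
  rw [jacobsonSpace_iff_locallyClosed] at hX
  push Not at hX
  obtain ⟨Z, ⟨z, hzZ⟩, hZlc, hZ⟩ := hX
  obtain ⟨U, C, hU, hC, rfl⟩ := hZlc
  obtain ⟨W, ⟨hWo, hWc⟩, hzW, hWU⟩ :=
    PrespectralSpace.isTopologicalBasis.exists_subset_of_mem_open hzZ.1 hU
  have hK : IsCompact (W ∩ C) := hWc.inter_right hC
  have : CompactSpace ↥(W ∩ C) := isCompact_iff_compactSpace.1 hK
  obtain ⟨⟨x, hxK⟩, -, hx⟩ := IsClosed.exists_closed_singleton (X := ↥(W ∩ C)) isClosed_univ
    ⟨⟨z, hzW, hzZ.2⟩, trivial⟩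
  have hxZ : x ∈ U ∩ C := ⟨hWU hxK.1, hxK.2⟩
  refine ⟨x, fun hcl => ?_, ?_⟩
  · have : x ∈ (U ∩ C) ∩ closedPoints X := ⟨hxZ, hcl⟩
    rw [hZ] at this
    exact this
  · obtain ⟨D, hD, hDeq⟩ := isClosed_induced_iff.1 hx
    have : ({x} : Set X) = W ∩ (C ∩ D) := by
      ext y
      constructor
      · rintro rfl
        refine ⟨hxK.1, hxK.2, ?_⟩
        have : (⟨y, hxK⟩ : ↥(W ∩ C)) ∈ Subtype.val ⁻¹' D := by rw [hDeq]; rfl
        exact this
      · rintro ⟨hyW, hyC, hyD⟩
        have : (⟨y, hyW, hyC⟩ : ↥(W ∩ C)) ∈ Subtype.val ⁻¹' D := hyD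
        rw [hDeq] at this
        exact congrArg Subtype.val this
    rw [this]
    exact ⟨W, C ∩ D, hWo, hC.inter hD, rfl⟩

end Groth.Agent.S7547
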