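import Groth.Statements.S7548
import Mathlib

set_option autoImplicit false
universe u
open PtTop

namespace Groth.Agent.S7548

/-- Let X be a Jacobson space and let T = ⋃ T_i be a union of subsets T_i ⊆ X each locally closed in X
(open, closed, locally closed and constructible subsets are of this form). Then T is Jacobson and
every point of T closed in T is closed in X. -/
theorem result {X : Type u} [TopologicalSpace X] [JacobsonSpace X]
    {ι : Type u} (T : ι → Set X) (hT : ∀ i, IsLocallyClosed (T i)) :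
    JacobsonSpace ↥(⋃ i, T i) ∧
      closedPoints ↥(⋃ i, T i) ⊆ (Subtype.val : ↥(⋃ i, T i) → X) ⁻¹' closedPoints X := by
  constructor
  · rw [jacobsonSpace_iff_locallyClosed]
    rintro Z ⟨⟨z, hzT⟩, hzZ⟩ hZ
    obtain ⟨L, hL, rfl⟩ := (Topology.IsInducing.subtypeVal.isLocallyClosed_iff).1 hZ
    obtain ⟨i, hzi⟩ := Set.mem_iUnion.1 hzT
    obtain ⟨x, ⟨hxL, hxi⟩, hx⟩ := nonempty_inter_closedPoints (Z := L ∩ T i)
      ⟨z, hzZ, hzi⟩ (hL.inter (hT i))
    refine ⟨⟨x, Set.mem_iUnion.2 ⟨i, hxi⟩⟩, hxL, ?_⟩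
    have hx' : IsClosed ({x} : Set X) := hx
    have : ({⟨x, Set.mem_iUnion.2 ⟨i, hxi⟩⟩} : Set ↥(⋃ i, T i)) = Subtype.val ⁻¹' {x} := by
      ext ⟨y, hy⟩
      simp
    show IsClosed _
    rw [this]
    exact hx'.preimage continuous_subtype_val
  · rintro ⟨t, htT⟩ ht
    obtain ⟨i, hti⟩ := Set.mem_iUnion.1 htT
    have ht' : IsClosed ({⟨t, htT⟩} : Set ↥(⋃ i, T i)) := ht
    show IsClosed ({t} : Set X)
    apply isClosed_singleton_of_isLocallyClosed_singleton
    obtain ⟨C, hC, hCeq⟩ := isClosed_induced_iff.1 ht'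
    have : ({t} : Set X) = C ∩ T i := by
      ext y
      constructor
      · rintro rfl
        refine ⟨?_, hti⟩
        have : (⟨y, htT⟩ : ↥(⋃ i, T i)) ∈ Subtype.val ⁻¹' C := by rw [hCeq]; rfl
        exact this
      · rintro ⟨hyC, hyi⟩
        have : (⟨y, Set.mem_iUnion.2 ⟨i, hyi⟩⟩ : ↥(⋃ i, T i)) ∈ Subtype.val ⁻¹' C := hyC
        rw [hCeq] at this
        exact congrArg Subtype.val this
    rw [this]
    exact hC.isLocallyClosed.inter (hT i)

end Groth.Agent.S7548
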