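import Groth.Statements.S7549
import Groth.Agent.Lib.Helper3.ConstrSub
import Mathlib

set_option autoImplicit false
universe u
open PtTop

namespace Groth.Agent.S7549

open Groth.Agent.Lib.Helper3.ConstrSub Topology

/-- Let X be a Jacobson space and X₀ ⊆ X the subspace of closed points. (a) For U ⊆ X open, U is
quasi-compact if and only if U ∩ X₀ is quasi-compact, and U is retrocompact in X if and only if U ∩
X₀ is retrocompact in X₀. (b) The rule E ↦ E ∩ X₀ is an inclusion-preserving and
inclusion-reflecting bijection between the constructible subsets of X and the constructible subsets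
of X₀. -/
theorem result {X : Type u} [TopologicalSpace X] [JacobsonSpace X] :
    (∀ U : Set X, IsOpen U →
      (IsCompact U ↔ IsCompact ((Subtype.val : closedPoints X → X) ⁻¹' U)) ∧
      (IsRetrocompact U ↔ IsRetrocompact ((Subtype.val : closedPoints X → X) ⁻¹' U))) ∧
    (∀ E : Set X, Topology.IsConstructible E →
      Topology.IsConstructible ((Subtype.val : closedPoints X → X) ⁻¹' E)) ∧
    (∀ E E' : Set X, Topology.IsConstructible E → Topology.IsConstructible E' →
      ((Subtype.val : closedPoints X → X) ⁻¹' E ⊆ Subtype.val ⁻¹' E' ↔ E ⊆ E')) ∧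
    (∀ F : Set (closedPoints X), Topology.IsConstructible F →
      ∃ E : Set X, Topology.IsConstructible E ∧ (Subtype.val : closedPoints X → X) ⁻¹' E = F) := by
  -- opens are determined by their closed points
  have L2 : ∀ U V : Set X, IsOpen U → IsOpen V → closedPoints X ∩ U ⊆ V → U ⊆ V := by
    intro U V hU hV h x hxU
    by_contra hxV
    obtain ⟨y, ⟨hyU, hyV⟩, hy⟩ := nonempty_inter_closedPoints (Z := U \ V) ⟨x, hxU, hxV⟩
      (hU.isLocallyClosed.inter hV.isClosed_compl.isLocallyClosed)
    exact hyV (h ⟨hy, hyU⟩)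
  have hcpt : ∀ U : Set X, IsOpen U →
      (IsCompact U ↔ IsCompact ((Subtype.val : closedPoints X → X) ⁻¹' U)) := by
    intro U hU
    rw [Topology.IsInducing.subtypeVal.isCompact_iff, Subtype.image_preimage_coe]
    constructor
    · intro hc
      refine isCompact_of_finite_subcover fun W hWo hcov => ?_
      obtain ⟨t, ht⟩ := hc.elim_finite_subcover W hWo
        (L2 U _ hU (isOpen_iUnion hWo) hcov)
      exact ⟨t, Set.inter_subset_right.trans ht⟩
    · intro hc
      refine isCompact_of_finite_subcover fun W hWo hcov => ?_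
      obtain ⟨t, ht⟩ := hc.elim_finite_subcover W hWo (Set.inter_subset_right.trans hcov)
      exact ⟨t, L2 U _ hU (isOpen_biUnion fun i _ => hWo i) ht⟩
  have hretro : ∀ U : Set X, IsOpen U →
      (IsRetrocompact U ↔ IsRetrocompact ((Subtype.val : closedPoints X → X) ⁻¹' U)) := by
    intro U hU
    constructor
    · intro hr K₀ hK₀c hK₀o
      obtain ⟨K, hKo, rfl⟩ := isOpen_induced_iff.1 hK₀o
      have hKc : IsCompact K := (hcpt K hKo).2 hK₀c
      rw [← Set.preimage_inter]
      exact (hcpt _ (hU.inter hKo)).1 (hr hKc hKo)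
    · intro hr K hKc hKo
      have := hr ((hcpt K hKo).1 hKc) (hKo.preimage continuous_subtype_val)
      rw [← Set.preimage_inter] at this
      exact (hcpt _ (hU.inter hKo)).2 this
  have L0 : ∀ E : Set X, IsConstructible E → E.Nonempty → (E ∩ closedPoints X).Nonempty := by
    intro E hE
    refine sdiff_union_induction (P := fun E => E.Nonempty → (E ∩ closedPoints X).Nonempty)
      ?_ ?_ E hE
    · intro U V hUo _ hVo _ hne
      exact nonempty_inter_closedPoints hne
        (hUo.isLocallyClosed.inter hVo.isClosed_compl.isLocallyClosed)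
    · rintro s t _ _ hs ht ⟨x, hx | hx⟩
      · obtain ⟨y, hy, hy'⟩ := hs ⟨x, hx⟩
        exact ⟨y, Or.inl hy, hy'⟩
      · obtain ⟨y, hy, hy'⟩ := ht ⟨x, hx⟩
        exact ⟨y, Or.inr hy, hy'⟩
  refine ⟨fun U hU => ⟨hcpt U hU, hretro U hU⟩, ?_, ?_, ?_⟩
  · intro E hE
    exact hE.preimage continuous_subtype_val fun s ho hr => (hretro s ho).1 hr
  · intro E E' hE hE'
    constructor
    · intro h x hxE
      by_contra hxE'
      obtain ⟨y, ⟨hyE, hyE'⟩, hy⟩ := L0 (E \ E') (hE.sdiff hE') ⟨x, hxE, hxE'⟩
      exact hyE' (h (a := ⟨y, hy⟩) hyE)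
    · intro h
      exact Set.preimage_mono h
  · intro F hF
    induction hF using IsConstructible.empty_union_induction with
    | open_retrocompact U₀ hUo hUr =>
      obtain ⟨K, hKo, rfl⟩ := isOpen_induced_iff.1 hUo
      exact ⟨K, ((hretro K hKo).2 hUr).isConstructible hKo, rfl⟩
    | union s hs t ht hs' ht' =>
      obtain ⟨E₁, hE₁, rfl⟩ := hs'
      obtain ⟨E₂, hE₂, rfl⟩ := ht'
      exact ⟨E₁ ∪ E₂, hE₁.union hE₂, rfl⟩
    | compl s hs hs' =>
      obtain ⟨E, hE, rfl⟩ := hs'
      exact ⟨Eᶜ, hE.compl, rfl⟩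

end Groth.Agent.S7549
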