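import Groth.Statements.S7550
import Mathlib

set_option autoImplicit false
universe u
open PtTop

namespace Groth.Agent.S7550

/-- Let f : X → Y be a continuous and open map of topological spaces, with X Noetherian, every
irreducible closed subset of X having a generic point, and Y Kolmogorov. Then generalizations lift
along f. (Part (1), closed maps are specializing, is a library fact.) -/
theorem result {X Y : Type u} [TopologicalSpace X] [TopologicalSpace Y]
    [TopologicalSpace.NoetherianSpace X] [QuasiSober X] [T0Space Y]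
    (f : X → Y) (hf : Continuous f) (hfo : IsOpenMap f) :
    GeneralizingMap f := by
  intro x y' hy
  have hxT : x ∈ closure (f ⁻¹' {y'}) := by
    rw [mem_closure_iff]
    intro U hU hxU
    have h1 : y' ∈ f '' U := hy.mem_open (hfo U hU) ⟨x, hxU, rfl⟩
    obtain ⟨z, hzU, hz⟩ := h1
    exact ⟨z, hzU, hz⟩
  obtain ⟨S, hSfin, hScl, hSirr, hS⟩ :=
    TopologicalSpace.NoetherianSpace.exists_finite_set_isClosed_irreducible
      (isClosed_closure (s := f ⁻¹' {y'}))
  have hcl : closure (f ⁻¹' {y'}) ⊆ ⋃₀ {Z ∈ S | (Z ∩ f ⁻¹' {y'}).Nonempty} := by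
    apply closure_minimal
    · intro t ht
      have : t ∈ ⋃₀ S := by rw [← hS]; exact subset_closure ht
      obtain ⟨Z, hZ, htZ⟩ := this
      exact ⟨Z, ⟨hZ, ⟨t, htZ, ht⟩⟩, htZ⟩
    · rw [Set.sUnion_eq_biUnion]
      exact (hSfin.subset (Set.sep_subset _ _)).isClosed_biUnion (fun Z hZ => hScl Z hZ.1)
  obtain ⟨Z, ⟨hZS, ⟨t, htZ, htT⟩⟩, hxZ⟩ := hcl hxT
  have hgen := (hSirr Z hZS).isGenericPoint_genericPoint (hScl Z hZS)
  refine ⟨(hSirr Z hZS).genericPoint, hgen.specializes hxZ, ?_⟩
  have hξcl : (hSirr Z hZS).genericPoint ∈ closure (f ⁻¹' {y'}) := by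
    rw [hS]; exact ⟨Z, hZS, hgen.mem⟩
  have h1 : y' ⤳ f (hSirr Z hZS).genericPoint := by
    rw [specializes_iff_mem_closure]
    have := image_closure_subset_closure_image hf ⟨_, hξcl, rfl⟩
    refine closure_mono ?_ this
    rintro _ ⟨z, hz, rfl⟩
    exact hz
  have h2 : f (hSirr Z hZS).genericPoint ⤳ y' := by
    have := (hgen.specializes htZ).map hf
    rwa [htT] at this
  exact (h2.antisymm h1).eq

end Groth.Agent.S7550
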