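import Groth.Statements.S7551
import Mathlib

set_option autoImplicit false
universe u
open PtTop

namespace Groth.Agent.S7551



/-- Let s, t : R → U and π : U → X be continuous maps between topological spaces satisfying: (1) π is an
open map, (2) U is a sober space, (3) s and t have finite fibres, (4) generalizations lift along s
and along t, and (5) the image of (t, s) : R → U × U is an equivalence relation on U and π
identifies X, as a set, with the quotient of U by it. Then X is Kolmogorov. -/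
theorem result {R U X : Type u}
    [TopologicalSpace R] [TopologicalSpace U] [TopologicalSpace X] [QuasiSober U] [T0Space U]
    (s t : R → U) (π : U → X) (hs : Continuous s) (ht : Continuous t) (hπ : Continuous π)
    (hπo : IsOpenMap π) (hsf : ∀ u, (s ⁻¹' {u}).Finite) (htf : ∀ u, (t ⁻¹' {u}).Finite)
    (hsg : GeneralizingMap s) (htg : GeneralizingMap t)
    (hE : Equivalence fun u u' : U => ∃ r, t r = u ∧ s r = u')
    (hπs : Function.Surjective π) (hπq : ∀ u u' : U, π u = π u' ↔ ∃ r, t r = u ∧ s r = u') :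
    T0Space X := by
  have hfin : ∀ u : U, {u₁ : U | π u₁ = π u}.Finite := by
    intro u
    have : {u₁ : U | π u₁ = π u} ⊆ t '' (s ⁻¹' {u}) := by
      intro u₁ h₁
      obtain ⟨r, hr1, hr2⟩ := (hπq u₁ u).1 h₁
      exact ⟨r, hr2, hr1⟩
    exact ((hsf u).image t).subset this
  have A : ∀ (x x' : X), x ⤳ x' → ∀ u' : U, π u' = x' → ∃ u₁ : U, π u₁ = x ∧ u₁ ⤳ u' := by
    intro x x' hxx' u' hu'
    obtain ⟨u, rfl⟩ := hπs x
    have hZcl : IsClosed (⋃ u₁ ∈ {u₁ : U | π u₁ = π u}, closure {u₁}) :=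
      (hfin u).isClosed_biUnion fun _ _ => isClosed_closure
    have hsat : ∀ v v', v ∈ (⋃ u₁ ∈ {u₁ : U | π u₁ = π u}, closure {u₁}) → π v = π v' →
        v' ∈ (⋃ u₁ ∈ {u₁ : U | π u₁ = π u}, closure {u₁}) := by
      intro v v' hv hvv'
      obtain ⟨u₁, hu₁C, hv₁⟩ := Set.mem_iUnion₂.1 hv
      have h1 : u₁ ⤳ v := specializes_iff_mem_closure.2 hv₁
      obtain ⟨r', hr'1, hr'2⟩ := (hπq v' v).1 hvv'.symm
      obtain ⟨r, hr_spec, hr_s⟩ := hsg (a := r') (b := u₁) (by rw [hr'2]; exact h1)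
      have h2 : t r ⤳ v' := by
        rw [← hr'1]
        exact hr_spec.map ht
      have h3 : π (t r) = π u := by
        rw [(hπq (t r) (s r)).2 ⟨r, rfl, rfl⟩, hr_s]
        exact hu₁C
      exact Set.mem_iUnion₂.2 ⟨t r, h3, specializes_iff_mem_closure.1 h2⟩
    have hπZ : IsClosed (π '' (⋃ u₁ ∈ {u₁ : U | π u₁ = π u}, closure {u₁})) := by
      have : (π '' (⋃ u₁ ∈ {u₁ : U | π u₁ = π u}, closure {u₁}))ᶜ =
          π '' (⋃ u₁ ∈ {u₁ : U | π u₁ = π u}, closure {u₁})ᶜ := by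
        ext y
        constructor
        · intro hy
          obtain ⟨w, rfl⟩ := hπs y
          exact ⟨w, fun hw => hy ⟨w, hw, rfl⟩, rfl⟩
        · rintro ⟨w, hw, rfl⟩ ⟨z, hz, hzw⟩
          exact hw (hsat z w hz hzw)
      rw [← isOpen_compl_iff, this]
      exact hπo _ hZcl.isOpen_compl
    have hxZ : π u ∈ π '' (⋃ u₁ ∈ {u₁ : U | π u₁ = π u}, closure {u₁}) :=
      ⟨u, Set.mem_iUnion₂.2 ⟨u, rfl, subset_closure rfl⟩, rfl⟩
    have hx' : x' ∈ π '' (⋃ u₁ ∈ {u₁ : U | π u₁ = π u}, closure {u₁}) := by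
      have : closure {π u} ⊆ π '' (⋃ u₁ ∈ {u₁ : U | π u₁ = π u}, closure {u₁}) :=
        hπZ.closure_subset_iff.2 (Set.singleton_subset_iff.2 hxZ)
      exact this (specializes_iff_mem_closure.1 hxx')
    obtain ⟨z, hz, hzx'⟩ := hx'
    have hu'Z := hsat z u' hz (hzx'.trans hu'.symm)
    obtain ⟨u₁, hu₁C, hu₁⟩ := Set.mem_iUnion₂.1 hu'Z
    exact ⟨u₁, hu₁C, specializes_iff_mem_closure.2 hu₁⟩
  refine ⟨fun x x' h => ?_⟩
  obtain ⟨u'₀, hu'₀⟩ := hπs x'
  have hC'fin : {v : U | π v = x'}.Finite := by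
    rw [← hu'₀]
    exact hfin u'₀
  letI := specializationPreorder U
  obtain ⟨u', hu'C, hmax⟩ := hC'fin.exists_maximal ⟨u'₀, hu'₀⟩
  obtain ⟨u₀, hu₀, h1⟩ := A x x' h.specializes u' hu'C
  obtain ⟨u'₁, hu'₁, h2⟩ := A x' x h.specializes' u₀ hu₀
  have h3 : u'₁ ⤳ u' := h2.trans h1
  have h4 : u' ⤳ u'₁ := hmax (y := u'₁) hu'₁ h3
  have h5 : u' ⤳ u₀ := h4.trans h2
  have h6 : u₀ = u' := (h1.antisymm h5).eq
  rw [← hu₀, h6]
  exact hu'C

end Groth.Agent.S7551
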