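import Groth.Statements.S7552
import Mathlib.Topology.KrullDimension
import Mathlib.Topology.Sober

set_option autoImplicit false
universe u
open PtTop

namespace Groth.Agent.S7552


open TopologicalSpace in
/-- The closure of a point, as an irreducible closed set. -/
def ptCl {Z : Type*} [TopologicalSpace Z] (z : Z) : IrreducibleCloseds Z :=
  ⟨closure {z}, isIrreducible_singleton.closure, isClosed_closure⟩

open TopologicalSpace in
theorem ptCl_le_iff {Z : Type*} [TopologicalSpace Z] {a b : Z} : ptCl a ≤ ptCl b ↔ b ⤳ a := by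
  rw [specializes_iff_closure_subset]
  exact SetLike.coe_subset_coe.symm

open TopologicalSpace in
theorem exists_ptCl_eq {Z : Type*} [TopologicalSpace Z] [QuasiSober Z] (W : IrreducibleCloseds Z) :
    ∃ z, ptCl z = W := by
  obtain ⟨z, hz⟩ := QuasiSober.sober W.isIrreducible W.isClosed
  exact ⟨z, IrreducibleCloseds.ext hz.def⟩

open TopologicalSpace in
theorem spec_height {X Y : Type*} [TopologicalSpace X] [TopologicalSpace Y] [QuasiSober Y]
    (f : X → Y) (hf : Continuous f) (hs : SpecializingMap f) (n : ℕ) :
    ∀ x : X, (n : ℕ∞) ≤ Order.height (ptCl (f x)) → (n : ℕ∞) ≤ Order.height (ptCl x) := by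
  induction n with
  | zero => intro x _; simp
  | succ n ih =>
    intro x hx
    have h1 : ¬ Order.height (ptCl (f x)) ≤ n := by
      intro h2
      have h3 := hx.trans h2
      have h4 : n + 1 ≤ n := by exact_mod_cast h3
      omega
    rw [Order.height_le_coe_iff] at h1
    push Not at h1
    obtain ⟨W', hW'lt, hW'⟩ := h1
    obtain ⟨y', hy'⟩ := exists_ptCl_eq W'
    have h5 : f x ⤳ y' := by
      rw [← ptCl_le_iff, hy']
      exact hW'lt.le
    obtain ⟨x', hx'spec, hx'f⟩ := hs h5
    have hx'spec' : x ⤳ x' := hx'spec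
    have h6 : (n : ℕ∞) ≤ Order.height (ptCl x') := by
      apply ih
      rw [hx'f, hy']
      exact hW'
    have h7 : ptCl x' < ptCl x := by
      refine lt_of_le_not_ge (ptCl_le_iff.mpr hx'spec') ?_
      intro h8
      have h9 : x' ⤳ x := ptCl_le_iff.mp h8
      have h10 : f x' ⤳ f x := h9.map hf
      have h11 : ptCl (f x) ≤ ptCl (f x') := ptCl_le_iff.mpr h10
      rw [hx'f, hy'] at h11
      exact absurd hW'lt (not_lt_of_ge h11)
    have h12 := Order.height_add_one_le h7
    calc ((n + 1 : ℕ) : ℕ∞) = (n : ℕ∞) + 1 := by push_cast; rfl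
      _ ≤ Order.height (ptCl x') + 1 := add_le_add h6 le_rfl
      _ ≤ _ := h12

open TopologicalSpace in
theorem gen_coheight {X Y : Type*} [TopologicalSpace X] [TopologicalSpace Y] [QuasiSober Y]
    (f : X → Y) (hf : Continuous f) (hg : GeneralizingMap f) (n : ℕ) :
    ∀ x : X, (n : ℕ∞) ≤ Order.coheight (ptCl (f x)) → (n : ℕ∞) ≤ Order.coheight (ptCl x) := by
  induction n with
  | zero => intro x _; simp
  | succ n ih =>
    intro x hx
    have h1 : ¬ Order.coheight (ptCl (f x)) ≤ n := by
      intro h2
      have h3 := hx.trans h2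
      have h4 : n + 1 ≤ n := by exact_mod_cast h3
      omega
    rw [Order.coheight_le_coe_iff] at h1
    push Not at h1
    obtain ⟨W', hW'lt, hW'⟩ := h1
    obtain ⟨y', hy'⟩ := exists_ptCl_eq W'
    have h5 : y' ⤳ f x := by
      rw [← ptCl_le_iff, hy']
      exact hW'lt.le
    obtain ⟨x', hx'spec, hx'f⟩ := hg h5
    have hx'spec' : x' ⤳ x := hx'spec
    have h6 : (n : ℕ∞) ≤ Order.coheight (ptCl x') := by
      apply ih
      rw [hx'f, hy']
      exact hW'
    have h7 : ptCl x < ptCl x' := by
      refine lt_of_le_not_ge (ptCl_le_iff.mpr hx'spec') ?_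
      intro h8
      have h9 : x ⤳ x' := ptCl_le_iff.mp h8
      have h10 : f x ⤳ f x' := h9.map hf
      have h11 : ptCl (f x') ≤ ptCl (f x) := ptCl_le_iff.mpr h10
      rw [hx'f, hy'] at h11
      exact absurd hW'lt (not_lt_of_ge h11)
    have h12 := Order.coheight_add_one_le h7
    calc ((n + 1 : ℕ) : ℕ∞) = (n : ℕ∞) + 1 := by push_cast; rfl
      _ ≤ Order.coheight (ptCl x') + 1 := add_le_add h6 le_rfl
      _ ≤ _ := h12

/-- Let f : X → Y be a continuous surjective map of topological spaces with Y sober, and assume that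
specializations lift along f or that generalizations lift along f. Then dim X ≥ dim Y (Krull
dimensions as suprema of lengths of chains of irreducible closed subsets). -/
theorem result {X Y : Type u}
    [TopologicalSpace X] [TopologicalSpace Y] [QuasiSober Y] [T0Space Y]
    (f : X → Y) (hf : Continuous f) (hsurj : Function.Surjective f)
    (hlift : SpecializingMap f ∨ GeneralizingMap f) :
    topologicalKrullDim Y ≤ topologicalKrullDim X := by
  unfold topologicalKrullDim
  rcases hlift with hs | hg
  · rw [Order.krullDim_eq_iSup_height]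
    refine iSup_le fun W => ?_
    obtain ⟨y, hy⟩ := exists_ptCl_eq W
    obtain ⟨x, hx⟩ := hsurj y
    have h1 : Order.height W ≤ Order.height (ptCl x) := by
      rw [← ENat.forall_natCast_le_iff_le]
      intro n hn
      apply spec_height f hf hs n x
      rw [hx, hy]
      exact hn
    exact (WithBot.coe_le_coe.mpr h1).trans (Order.height_le_krullDim _)
  · rw [Order.krullDim_eq_iSup_coheight]
    refine iSup_le fun W => ?_
    obtain ⟨y, hy⟩ := exists_ptCl_eq W
    obtain ⟨x, hx⟩ := hsurj y
    have h1 : Order.coheight W ≤ Order.coheight (ptCl x) := by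
      rw [← ENat.forall_natCast_le_iff_le]
      intro n hn
      apply gen_coheight f hf hg n x
      rw [hx, hy]
      exact hn
    exact (WithBot.coe_le_coe.mpr h1).trans (Order.coheight_le_krullDim _)

end Groth.Agent.S7552
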