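import Groth.Statements.S7553
import Groth.Agent.Lib.Helper3.TopIrred
import Mathlib

set_option autoImplicit false
universe u
open ConstrTop

namespace Groth.Agent.S7553

theorem aux_key {X : Type u} [TopologicalSpace X] (ξ : X) (E : Set X)
    (hE : Topology.IsConstructible E) :
    ∃ U : Set X, IsOpen U ∧ ξ ∈ U ∧ (U ∩ closure {ξ} ⊆ E ∨ U ∩ closure {ξ} ⊆ Eᶜ) := by
  induction hE using Topology.IsConstructible.empty_union_induction with
  | open_retrocompact U hUopen hUcomp =>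
    by_cases h : ξ ∈ U
    · exact ⟨U, hUopen, h, Or.inl Set.inter_subset_left⟩
    · refine ⟨Set.univ, isOpen_univ, trivial, Or.inr ?_⟩
      rintro x ⟨-, hx⟩ hxU
      exact h ((specializes_iff_mem_closure.2 hx).mem_open hUopen hxU)
  | union s hs t ht hs' ht' =>
    obtain ⟨U₁, hU₁, hξ₁, h₁⟩ := hs'
    obtain ⟨U₂, hU₂, hξ₂, h₂⟩ := ht'
    rcases h₁ with h₁ | h₁
    · exact ⟨U₁, hU₁, hξ₁, Or.inl (h₁.trans Set.subset_union_left)⟩
    rcases h₂ with h₂ | h₂
    · exact ⟨U₂, hU₂, hξ₂, Or.inl (h₂.trans Set.subset_union_right)⟩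
    refine ⟨U₁ ∩ U₂, hU₁.inter hU₂, ⟨hξ₁, hξ₂⟩, Or.inr ?_⟩
    rintro x ⟨⟨hx₁, hx₂⟩, hx⟩ hxst
    rcases hxst with hxs | hxt
    · exact h₁ ⟨hx₁, hx⟩ hxs
    · exact h₂ ⟨hx₂, hx⟩ hxt
  | compl s hs hs' =>
    obtain ⟨U, hU, hξ, h⟩ := hs'
    refine ⟨U, hU, hξ, ?_⟩
    rcases h with h | h
    · right; rwa [compl_compl]
    · left; exact h

theorem aux_closed {X : Type u} [TopologicalSpace X]
    [TopologicalSpace.NoetherianSpace X] [QuasiSober X] (E : Set X)
    (hE : Topology.IsConstructible E) (hs : StableUnderSpecialization E) : IsClosed E := by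
  rw [← closure_subset_iff_isClosed]
  intro x hx
  obtain ⟨S, hSfin, hScl, hSirr, hS⟩ :=
    TopologicalSpace.NoetherianSpace.exists_finite_set_isClosed_irreducible
      (isClosed_closure (s := E))
  have hx' : x ∈ ⋃₀ S := by rw [← hS]; exact hx
  obtain ⟨Z₀, hZ₀S, hxZ₀⟩ := hx'
  obtain ⟨Z, hZ₀Z, hZmax⟩ := hSfin.exists_le_maximal hZ₀S
  have hZS : Z ∈ S := hZmax.1
  have hgen := (hSirr Z hZS).isGenericPoint_genericPoint (hScl Z hZS)
  set ξ := (hSirr Z hZS).genericPoint with hξ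
  suffices hξE : ξ ∈ E from hs (hgen.specializes (hZ₀Z hxZ₀)) hξE
  -- the open complement of the other members
  have hfin' : (S \ {Z}).Finite := hSfin.subset Set.sdiff_subset
  have hVcl : IsClosed (⋃₀ (S \ {Z})) := by
    rw [Set.sUnion_eq_biUnion]
    exact hfin'.isClosed_biUnion (fun Z' hZ' => hScl Z' hZ'.1)
  have hξV : ξ ∉ ⋃₀ (S \ {Z}) := by
    rintro ⟨Z', ⟨hZ'S, hZ'ne⟩, hξZ'⟩
    have h1 : Z ⊆ Z' := by
      rw [← hgen.def]
      exact closure_minimal (Set.singleton_subset_iff.2 hξZ') (hScl Z' hZ'S)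
    exact hZ'ne (le_antisymm (hZmax.2 hZ'S h1) h1)
  obtain ⟨U, hU, hξU, hUE⟩ := aux_key ξ E hE
  rw [hgen.def] at hUE
  rcases hUE with hUE | hUE
  · exact hUE ⟨hξU, hgen.mem⟩
  · exfalso
    have hξcl : ξ ∈ closure E := by rw [hS]; exact ⟨Z, hZS, hgen.mem⟩
    obtain ⟨e, ⟨heU, heV⟩, heE⟩ := mem_closure_iff.1 hξcl (U ∩ (⋃₀ (S \ {Z}))ᶜ)
      (hU.inter hVcl.isOpen_compl) ⟨hξU, hξV⟩
    have he' : e ∈ ⋃₀ S := by rw [← hS]; exact subset_closure heE
    obtain ⟨Z', hZ'S, heZ'⟩ := he'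
    have : Z' = Z := by
      by_contra hne
      exact heV ⟨Z', ⟨hZ'S, hne⟩, heZ'⟩
    subst this
    exact hUE ⟨heU, heZ'⟩ heE

/-- Let X be a Noetherian sober topological space and E ⊆ X. (1) A constructible E that is closed under
specialization is a closed subset. (2) A constructible E that is closed under generalization is an
open subset. -/
theorem result {X : Type u} [TopologicalSpace X]
    [TopologicalSpace.NoetherianSpace X] [QuasiSober X] [T0Space X] (E : Set X) (hE : Topology.IsConstructible E) :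
    (StableUnderSpecialization E → IsClosed E) ∧ (StableUnderGeneralization E → IsOpen E) := by
  refine ⟨aux_closed E hE, fun h => ?_⟩
  rw [← isClosed_compl_iff]
  exact aux_closed Eᶜ hE.compl h.compl

end Groth.Agent.S7553
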