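import Groth.Statements.S7554
import Mathlib

set_option autoImplicit false
universe u
open PtTop

namespace Groth.Agent.S7554

/-- Let X be a topological space with an open covering X = ⋃ U_i and let T ⊆ X. If T ∩ U_i is nowhere
dense in U_i (with the induced topology) for every i, then T is nowhere dense in X. -/
theorem result {X : Type u} [TopologicalSpace X] {ι : Type u}
    (U : ι → Set X) (hU : ∀ i, IsOpen (U i)) (hcov : ⋃ i, U i = Set.univ) (T : Set X)
    (hT : ∀ i, IsNowhereDense ((Subtype.val : U i → X) ⁻¹' T)) :
    IsNowhereDense T := by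
  unfold IsNowhereDense at hT ⊢
  rw [Set.eq_empty_iff_forall_notMem]
  intro x hx
  have hxU : x ∈ ⋃ i, U i := by rw [hcov]; trivial
  obtain ⟨i, hi⟩ := Set.mem_iUnion.1 hxU
  have hemb : Topology.IsOpenEmbedding (Subtype.val : U i → X) := (hU i).isOpenEmbedding_subtypeVal
  have h1 : closure ((Subtype.val : U i → X) ⁻¹' T) = Subtype.val ⁻¹' closure T :=
    (hemb.isOpenMap.preimage_closure_eq_closure_preimage continuous_subtype_val T).symm
  have h2 : (⟨x, hi⟩ : U i) ∈ interior (closure ((Subtype.val : U i → X) ⁻¹' T)) := by
    rw [h1, mem_interior]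
    refine ⟨Subtype.val ⁻¹' interior (closure T), ?_, isOpen_interior.preimage continuous_subtype_val, hx⟩
    exact Set.preimage_mono interior_subset
  rw [hT i] at h2
  exact h2

end Groth.Agent.S7554
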