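import Groth.Statements.S7556
import Mathlib

set_option autoImplicit false
universe u
open PtTop

namespace Groth.Agent.S7556

open Set Function in
theorem ultrafilter_projective (X : Type u) : CompactT2.Projective (Ultrafilter X) := by
  intro Y Z _ _ _ _ _ _ f g hf hg g_sur
  let s : Z → Y := fun z => Classical.choose (g_sur z)
  have hs : g ∘ s = id := funext fun z => Classical.choose_spec (g_sur z)
  let t : X → Y := s ∘ f ∘ pure
  refine ⟨Ultrafilter.extend t, continuous_ultrafilter_extend t,
    denseRange_pure.equalizer (hg.comp (continuous_ultrafilter_extend t)) hf ?_⟩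
  rw [Function.comp_assoc, ultrafilter_extend_extends, ← Function.comp_assoc, hs,
    Function.id_comp]

open Set Function in
theorem eq_id_of_zorn {E A : Type u} [TopologicalSpace E] [T2Space E]
    {ρ : E → A} (ρ_surj : ρ.Surjective)
    (zorn : ∀ E₀ : Set E, E₀ ≠ univ → IsClosed E₀ → ρ '' E₀ ≠ univ)
    (h : E → E) (hc : Continuous h) (hρ : ρ ∘ h = ρ) : h = id := by
  funext x
  by_contra hx
  obtain ⟨G₂, G₁, hG₂, hG₁, hhx, hx₁, disj⟩ := t2_separation hx
  have hGo : IsOpen (G₁ ∩ h ⁻¹' G₂) := hG₁.inter (hG₂.preimage hc)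
  refine zorn (G₁ ∩ h ⁻¹' G₂)ᶜ ?_ hGo.isClosed_compl ?_
  · intro hu
    have : x ∈ (G₁ ∩ h ⁻¹' G₂)ᶜ := by rw [hu]; trivial
    exact this ⟨hx₁, hhx⟩
  · rw [eq_univ_iff_forall]
    intro a
    obtain ⟨e, rfl⟩ := ρ_surj a
    by_cases he : e ∈ G₁ ∩ h ⁻¹' G₂
    · refine ⟨h e, ?_, congrFun hρ e⟩
      intro hhe
      exact disjoint_left.1 disj he.2 hhe.1
    · exact ⟨e, he, rfl⟩

/-- Let X be a quasi-compact Hausdorff space. There is a continuous surjection p : X' → X with X'
quasi-compact, Hausdorff and extremally disconnected such that no proper closed subset of X' maps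
onto X; and if q : X'' → X is a second cover with the same properties, there is a homeomorphism X' ≃
X'' compatible with p and q. -/
theorem result (X : Type u) [TopologicalSpace X] [CompactSpace X] [T2Space X] :
    (∃ (X' : Type u) (_ : TopologicalSpace X') (_ : CompactSpace X') (_ : T2Space X') (_ : ExtremallyDisconnected X')
        (p : X' → X), Continuous p ∧ Function.Surjective p ∧
        ∀ E : Set X', IsClosed E → E ≠ Set.univ → p '' E ≠ Set.univ) ∧
    (∀ (X' X'' : Type u) [TopologicalSpace X'] [CompactSpace X'] [T2Space X'] [ExtremallyDisconnected X']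
        [TopologicalSpace X''] [CompactSpace X''] [T2Space X''] [ExtremallyDisconnected X'']
        (p : X' → X) (q : X'' → X),
        Continuous p → Function.Surjective p → (∀ E : Set X', IsClosed E → E ≠ Set.univ → p '' E ≠ Set.univ) →
        Continuous q → Function.Surjective q → (∀ E : Set X'', IsClosed E → E ≠ Set.univ → q '' E ≠ Set.univ) →
        ∃ h : X' ≃ₜ X'', q ∘ h = p) := by
  constructor
  · have π_cont : Continuous (Ultrafilter.extend (id : X → X)) := continuous_ultrafilter_extend _
    have π_surj : Function.Surjective (Ultrafilter.extend (id : X → X)) := fun x =>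
      ⟨pure x, ultrafilter_extend_pure _ x⟩
    obtain ⟨E, hEc, hEsurj, hEmin⟩ := exists_compact_surjective_zorn_subset π_cont π_surj
    have p_cont : Continuous (E.domRestrict (Ultrafilter.extend (id : X → X))) :=
      π_cont.continuousOn.domRestrict
    have p_surj : Function.Surjective (E.domRestrict (Ultrafilter.extend (id : X → X))) := by
      intro a
      have : a ∈ Ultrafilter.extend (id : X → X) '' E := by rw [hEsurj]; trivial
      obtain ⟨d, hd, rfl⟩ := this
      exact ⟨⟨d, hd⟩, rfl⟩
    -- a retraction of `Ultrafilter X` onto `E`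
    obtain ⟨g, g_cont, hg⟩ := ultrafilter_projective X (Y := ↥E) (Z := X) π_cont p_cont p_surj
    have hgE : g ∘ (Subtype.val : ↥E → Ultrafilter X) = id := by
      refine eq_id_of_zorn p_surj hEmin _ (g_cont.comp continuous_subtype_val) ?_
      rw [← Function.comp_assoc, hg]
      rfl
    have hproj : CompactT2.Projective ↥E := by
      intro Y Z _ _ _ _ _ _ f' g' hf' hg' g'_sur
      obtain ⟨ψ, ψ_cont, hψ⟩ := ultrafilter_projective X (hf'.comp g_cont) hg' g'_sur
      refine ⟨ψ ∘ Subtype.val, ψ_cont.comp continuous_subtype_val, ?_⟩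
      rw [← Function.comp_assoc, hψ, Function.comp_assoc, hgE, Function.comp_id]
    exact ⟨↥E, inferInstance, hEc, inferInstance, hproj.extremallyDisconnected, _, p_cont, p_surj,
      fun E₀ hcl hne => hEmin E₀ hne hcl⟩
  · intro X' X'' _ _ _ _ _ _ _ _ p q p_cont p_surj p_min q_cont q_surj q_min
    obtain ⟨h, h_cont, hh⟩ := CompactT2.ExtremallyDisconnected.projective (A := X')
      p_cont q_cont q_surj
    have h_surj : Function.Surjective h := by
      rw [← Set.range_eq_univ]
      by_contra hne
      refine q_min (Set.range h) (isCompact_range h_cont).isClosed hne ?_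
      rw [← Set.range_comp, hh, p_surj.range_eq]
    have h_min : ∀ E₀ : Set X', E₀ ≠ Set.univ → IsClosed E₀ → h '' E₀ ≠ Set.univ := by
      intro E₀ hne hcl hE₀
      refine p_min E₀ hcl hne ?_
      rw [← hh, Set.image_comp, hE₀, Set.image_univ, q_surj.range_eq]
    refine ⟨ExtremallyDisconnected.homeoCompactToT2 h_cont h_surj h_min, ?_⟩
    rw [← hh]
    rfl

end Groth.Agent.S7556
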