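import Groth.Statements.S7559
import Mathlib

set_option autoImplicit false
universe u
open PtTop

namespace Groth.Agent.S7559



/-- Let X be a topological space and X = ∐ P_k a finite partition into locally closed parts. Then there
is a finite stratification of X refining it: a finite partially ordered index set I and pairwise
disjoint locally closed strata S_i covering X with closure(S_j) ⊆ ⋃_{i ≤ j} S_i, such that every
part P_k is a union of strata. -/
theorem result {X : Type u} [TopologicalSpace X]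
    {n : ℕ} (P : Fin n → Set X) (hP : ∀ k, IsLocallyClosed (P k)) (hcov : ⋃ k, P k = Set.univ)
    (hdisj : ∀ k k', k ≠ k' → Disjoint (P k) (P k')) :
    ∃ (I : Type) (_ : Fintype I) (_ : PartialOrder I) (S : I → Set X),
      (∀ i, IsLocallyClosed (S i)) ∧ (⋃ i, S i = Set.univ) ∧ (∀ i j, i ≠ j → Disjoint (S i) (S j)) ∧
      (∀ j, closure (S j) ⊆ ⋃ i ∈ Set.Iic j, S i) ∧
      (∀ i k, (S i ∩ P k).Nonempty → S i ⊆ P k) := by
  classical
  let C : Fin n × Bool → Set X :=
    fun a => if a.2 then closure (P a.1) \ P a.1 else closure (P a.1)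
  have hC : ∀ a, IsClosed (C a) := by
    rintro ⟨k, b⟩
    cases b
    · simpa [C] using isClosed_closure
    · simpa [C] using isOpen_compl_iff.1 (hP k).isOpen_coborder
  let S : (Set (Fin n × Bool))ᵒᵈ → Set X :=
    fun A => {x | ∀ a, x ∈ C a ↔ a ∈ OrderDual.ofDual A}
  refine ⟨(Set (Fin n × Bool))ᵒᵈ, inferInstance, inferInstance, S, ?_, ?_, ?_, ?_, ?_⟩
  · intro A
    have : S A = (⋂ a ∈ OrderDual.ofDual A, C a) ∩
        (⋃ a ∈ (OrderDual.ofDual A)ᶜ, C a)ᶜ := by
      ext x
      simp only [S, Set.mem_ofPred_eq, Set.mem_inter_iff, Set.mem_iInter, Set.mem_compl_iff,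
        Set.mem_iUnion, not_exists]
      constructor
      · intro h
        exact ⟨fun a ha => (h a).2 ha, fun a ha hxa => ha ((h a).1 hxa)⟩
      · rintro ⟨h1, h2⟩ a
        exact ⟨fun hxa => by_contra fun ha => h2 a ha hxa, h1 a⟩
    rw [this]
    refine IsLocallyClosed.inter (IsClosed.isLocallyClosed ?_) (IsOpen.isLocallyClosed ?_)
    · exact isClosed_biInter fun a _ => hC a
    · exact ((Set.toFinite _).isClosed_biUnion (fun a _ => hC a)).isOpen_compl
  · ext x
    simp only [Set.mem_iUnion, Set.mem_univ, iff_true]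
    exact ⟨OrderDual.toDual {a | x ∈ C a}, fun a => Iff.rfl⟩
  · intro A B hAB
    rw [Set.disjoint_left]
    intro x hxA hxB
    apply hAB
    apply OrderDual.ofDual.injective
    ext a
    exact (hxA a).symm.trans (hxB a)
  · intro A x hx
    have hsub : closure (S A) ⊆ ⋂ a ∈ OrderDual.ofDual A, C a := by
      refine closure_minimal ?_ (isClosed_biInter fun a _ => hC a)
      intro y hy
      exact Set.mem_iInter₂.2 fun a ha => (hy a).2 ha
    have hx' := Set.mem_iInter₂.1 (hsub hx)
    refine Set.mem_iUnion₂.2 ⟨OrderDual.toDual {a | x ∈ C a}, ?_, fun a => Iff.rfl⟩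
    show OrderDual.ofDual A ≤ {a | x ∈ C a}
    exact fun a ha => hx' a ha
  · rintro A k ⟨x, hxA, hxk⟩ y hyA
    have key : ∀ z : X, z ∈ P k ↔ (z ∈ C (k, false) ∧ z ∉ C (k, true)) := by
      intro z
      simp only [C]
      constructor
      · intro hz
        exact ⟨subset_closure hz, fun h => h.2 hz⟩
      · rintro ⟨h1, h2⟩
        by_contra hz
        exact h2 ⟨h1, hz⟩
    rw [key] at hxk ⊢
    exact ⟨(hyA _).2 ((hxA _).1 hxk.1), fun h => hxk.2 ((hxA _).2 ((hyA _).1 h))⟩

end Groth.Agent.S7559
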