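import Groth.Statements.S7560
import Mathlib

set_option autoImplicit false
universe u
open ConstrTop

namespace Groth.Agent.S7560

open Topology

/-- Let X be a topological space written as a finite union X = T_1 ∪ … ∪ T_n of constructible subsets.
Then there is a finite stratification X = ∐ S_i (pairwise disjoint locally closed strata indexed by
a finite partially ordered set, with closure(S_j) ⊆ ⋃_{i ≤ j} S_i) whose strata are constructible
and such that every T_k is a union of strata. -/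
theorem result {X : Type u} [TopologicalSpace X]
    {n : ℕ} (T : Fin n → Set X) (hT : ∀ k, Topology.IsConstructible (T k)) (hcov : ⋃ k, T k = Set.univ) :
    ∃ (I : Type) (_ : Fintype I) (_ : PartialOrder I) (S : I → Set X),
      (∀ i, IsLocallyClosed (S i) ∧ Topology.IsConstructible (S i)) ∧ (⋃ i, S i = Set.univ) ∧
      (∀ i j, i ≠ j → Disjoint (S i) (S j)) ∧
      (∀ j, closure (S j) ⊆ ⋃ i ∈ Set.Iic j, S i) ∧
      (∀ i k, (S i ∩ T k).Nonempty → S i ⊆ T k) := by
  classical
  have key : ∀ E : Set X, IsConstructible E → ∃ 𝒲 : Finset (Set X),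
      (∀ W ∈ 𝒲, IsOpen W ∧ IsRetrocompact W) ∧
      ∀ x y : X, (∀ W ∈ 𝒲, x ∈ W ↔ y ∈ W) → (x ∈ E ↔ y ∈ E) := by
    intro E hE
    induction hE using IsConstructible.empty_union_induction with
    | open_retrocompact U hUo hUr =>
      exact ⟨{U}, by simpa using ⟨hUo, hUr⟩, fun x y h => h U (by simp)⟩
    | union s hs t ht hs' ht' =>
      obtain ⟨𝒲₁, h1, h1'⟩ := hs'
      obtain ⟨𝒲₂, h2, h2'⟩ := ht'
      refine ⟨𝒲₁ ∪ 𝒲₂, fun W hW => (Finset.mem_union.1 hW).elim (h1 W) (h2 W), fun x y h => ?_⟩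
      have e1 := h1' x y fun W hW => h W (Finset.mem_union_left _ hW)
      have e2 := h2' x y fun W hW => h W (Finset.mem_union_right _ hW)
      simp only [Set.mem_union, e1, e2]
    | compl s hs hs' =>
      obtain ⟨𝒲, h1, h1'⟩ := hs'
      exact ⟨𝒲, h1, fun x y h => not_congr (h1' x y h)⟩
  choose 𝒲 h𝒲 h𝒲' using fun k => key (T k) (hT k)
  have h𝒰 : ∀ W ∈ Finset.univ.biUnion 𝒲, IsOpen W ∧ IsRetrocompact W := by
    intro W hW
    obtain ⟨k, -, hk⟩ := Finset.mem_biUnion.1 hW
    exact h𝒲 k W hk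
  let e := (Finset.univ.biUnion 𝒲).equivFin
  let Wf : Fin (Finset.univ.biUnion 𝒲).card → Set X := fun a => (e.symm a).1
  have hWf : ∀ a, IsOpen (Wf a) ∧ IsRetrocompact (Wf a) := fun a => h𝒰 _ (e.symm a).2
  have hdet : ∀ k x y, (∀ a, x ∈ Wf a ↔ y ∈ Wf a) → (x ∈ T k ↔ y ∈ T k) := by
    intro k x y h
    refine h𝒲' k x y fun W hW => ?_
    have hW' : W ∈ Finset.univ.biUnion 𝒲 := Finset.mem_biUnion.2 ⟨k, Finset.mem_univ _, hW⟩
    have := h (e ⟨W, hW'⟩)
    simpa [Wf] using this
  let S : Set (Fin (Finset.univ.biUnion 𝒲).card) → Set X :=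
    fun A => {x | ∀ a, x ∈ Wf a ↔ a ∈ A}
  have hSA : ∀ A, S A = (⋂ a ∈ A, Wf a) ∩ (⋃ a ∈ Aᶜ, Wf a)ᶜ := by
    intro A
    ext x
    simp only [S, Set.mem_ofPred_eq, Set.mem_inter_iff, Set.mem_iInter, Set.mem_compl_iff,
      Set.mem_iUnion, not_exists]
    constructor
    · intro h
      exact ⟨fun a ha => (h a).2 ha, fun a ha hxa => ha ((h a).1 hxa)⟩
    · rintro ⟨h1, h2⟩ a
      exact ⟨fun hxa => by_contra fun ha => h2 a ha hxa, h1 a⟩
  refine ⟨Set (Fin (Finset.univ.biUnion 𝒲).card), inferInstance, inferInstance, S,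
    ?_, ?_, ?_, ?_, ?_⟩
  · intro A
    rw [hSA]
    constructor
    · refine IsLocallyClosed.inter (IsOpen.isLocallyClosed ?_) (IsClosed.isLocallyClosed ?_)
      · exact (Set.toFinite A).isOpen_biInter fun a _ => (hWf a).1
      · exact (isOpen_biUnion fun a _ => (hWf a).1).isClosed_compl
    · refine IsConstructible.inter ?_ (IsConstructible.compl ?_)
      · exact IsConstructible.biInter (Set.toFinite A)
          fun a _ => (hWf a).2.isConstructible (hWf a).1
      · exact IsConstructible.biUnion (Set.toFinite _)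
          fun a _ => (hWf a).2.isConstructible (hWf a).1
  · ext x
    simp only [Set.mem_iUnion, Set.mem_univ, iff_true]
    exact ⟨{a | x ∈ Wf a}, fun a => Iff.rfl⟩
  · intro A B hAB
    rw [Set.disjoint_left]
    intro x hxA hxB
    apply hAB
    ext a
    exact (hxA a).symm.trans (hxB a)
  · intro A x hx
    have hsub : closure (S A) ⊆ (⋃ a ∈ Aᶜ, Wf a)ᶜ := by
      refine closure_minimal ?_ (isOpen_biUnion fun a _ => (hWf a).1).isClosed_compl
      rw [hSA]
      exact Set.inter_subset_right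
    have hx' := hsub hx
    refine Set.mem_iUnion₂.2 ⟨{a | x ∈ Wf a}, ?_, fun a => Iff.rfl⟩
    show {a | x ∈ Wf a} ≤ A
    intro a ha
    by_contra haA
    exact hx' (Set.mem_iUnion₂.2 ⟨a, haA, ha⟩)
  · rintro A k ⟨x, hxA, hxk⟩ y hyA
    exact (hdet k x y fun a => (hxA a).trans (hyA a).symm).1 hxk

end Groth.Agent.S7560
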