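import Groth.Statements.S7561
import Mathlib

set_option autoImplicit false
universe u
open PtTop

namespace Groth.Agent.S7561

open TopologicalSpace Set

/-- Let X be a Noetherian topological space and X = ∐ P_k a finite partition into locally closed parts.
Then it is refined by a finite good stratification: a finite partition X = ∐ S_i into locally closed
strata such that S_i ∩ closure(S_j) ≠ ∅ implies S_i ⊆ closure(S_j), with every P_k a union of
strata. -/
theorem result {X : Type u} [TopologicalSpace X]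
    [TopologicalSpace.NoetherianSpace X]
    {n : ℕ} (P : Fin n → Set X) (hP : ∀ k, IsLocallyClosed (P k)) (hcov : ⋃ k, P k = Set.univ)
    (hdisj : ∀ k k', k ≠ k' → Disjoint (P k) (P k')) :
    ∃ (m : ℕ) (S : Fin m → Set X),
      (∀ i, IsLocallyClosed (S i)) ∧ (⋃ i, S i = Set.univ) ∧ (∀ i j, i ≠ j → Disjoint (S i) (S j)) ∧
      (∀ i j, (S i ∩ closure (S j)).Nonempty → S i ⊆ closure (S j)) ∧
      (∀ i k, (S i ∩ P k).Nonempty → S i ⊆ P k) := by
  classical
  have H : ∀ (𝒬 : Finset (Set X)), (∀ Q ∈ 𝒬, IsLocallyClosed Q) → ∀ (Y O : Set X), IsOpen O →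
      (Y ∩ O).Nonempty → ∃ O' : Set X, IsOpen O' ∧ O' ⊆ O ∧ (Y ∩ O').Nonempty ∧
        ∀ Q ∈ 𝒬, (Y ∩ O' ∩ Q).Nonempty → Y ∩ O' ⊆ Q := by
    intro 𝒬
    induction 𝒬 using Finset.induction_on with
    | empty =>
      intro _ Y O hO hne
      exact ⟨O, hO, subset_rfl, hne, by simp⟩
    | insert Q 𝒬 hQ ih =>
      intro h𝒬 Y O hO hne
      obtain ⟨O₁, hO₁, hO₁O, hne₁, hhom₁⟩ :=
        ih (fun Q' hQ' => h𝒬 Q' (Finset.mem_insert_of_mem hQ')) Y O hO hne
      obtain ⟨G, C, hG, hC, hQGC⟩ := h𝒬 Q (Finset.mem_insert_self _ _)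
      have hold : ∀ O₂ : Set X, O₂ ⊆ O₁ → ∀ Q' ∈ 𝒬, (Y ∩ O₂ ∩ Q').Nonempty → Y ∩ O₂ ⊆ Q' := by
        intro O₂ h₂ Q' hQ' hne'
        have : (Y ∩ O₁ ∩ Q').Nonempty :=
          hne'.mono (fun z hz => ⟨⟨hz.1.1, h₂ hz.1.2⟩, hz.2⟩)
        exact (inter_subset_inter_right Y h₂).trans (hhom₁ Q' hQ' this)
      by_cases h1 : (Y ∩ O₁ ∩ Cᶜ).Nonempty
      · refine ⟨O₁ ∩ Cᶜ, hO₁.inter hC.isOpen_compl, inter_subset_left.trans hO₁O,
          by rwa [← inter_assoc], ?_⟩
        intro Q' hQ' hne'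
        rcases Finset.mem_insert.1 hQ' with rfl | hQ'
        · obtain ⟨z, hz1, hz2⟩ := hne'
          rw [hQGC] at hz2
          exact absurd hz2.2 hz1.2.2
        · exact hold _ inter_subset_left Q' hQ' hne'
      · have hsubC : Y ∩ O₁ ⊆ C := by
          intro z hz
          by_contra hzC
          exact h1 ⟨z, hz, hzC⟩
        by_cases h2 : (Y ∩ O₁ ∩ G).Nonempty
        · refine ⟨O₁ ∩ G, hO₁.inter hG, inter_subset_left.trans hO₁O,
            by rwa [← inter_assoc], ?_⟩
          intro Q' hQ' hne'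
          rcases Finset.mem_insert.1 hQ' with rfl | hQ'
          · intro z hz
            rw [hQGC]
            exact ⟨hz.2.2, hsubC ⟨hz.1, hz.2.1⟩⟩
          · exact hold _ inter_subset_left Q' hQ' hne'
        · refine ⟨O₁, hO₁, hO₁O, hne₁, ?_⟩
          intro Q' hQ' hne'
          rcases Finset.mem_insert.1 hQ' with rfl | hQ'
          · obtain ⟨z, hz, hzQ⟩ := hne'
            rw [hQGC] at hzQ
            exact absurd ⟨z, hz, hzQ.1⟩ h2
          · exact hhom₁ Q' hQ' hne'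
  have main : ∀ Y : Closeds X, ∀ 𝒬 : Finset (Set X), (∀ Q ∈ 𝒬, IsLocallyClosed Q) →
      ∃ 𝒮 : Finset (Set X), (∀ s ∈ 𝒮, IsLocallyClosed s) ∧
        ⋃₀ (𝒮 : Set (Set X)) = (Y : Set X) ∧
        (∀ s ∈ 𝒮, ∀ t ∈ 𝒮, s ≠ t → Disjoint s t) ∧
        (∀ s ∈ 𝒮, ∀ t ∈ 𝒮, (s ∩ closure t).Nonempty → s ⊆ closure t) ∧
        (∀ s ∈ 𝒮, ∀ Q ∈ 𝒬, (s ∩ Q).Nonempty → s ⊆ Q) := by
    intro Y
    induction Y using WellFoundedLT.induction with
    | ind Y ih =>
    intro 𝒬 h𝒬
    by_cases hY : (Y : Set X) = ∅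
    · exact ⟨∅, by simp, by simp [hY], by simp, by simp, by simp⟩
    · obtain ⟨O, hO, -, hne, hhom⟩ := H 𝒬 h𝒬 (Y : Set X) univ isOpen_univ
        (by simpa [nonempty_iff_ne_empty] using hY)
      have hlt : (⟨(Y : Set X) ∩ Oᶜ, Y.isClosed.inter hO.isClosed_compl⟩ : Closeds X) < Y := by
        refine lt_of_le_of_ne (fun z hz => hz.1) ?_
        intro e
        obtain ⟨z, hzY, hzO⟩ := hne
        have : z ∈ ((⟨(Y : Set X) ∩ Oᶜ, Y.isClosed.inter hO.isClosed_compl⟩ : Closeds X) :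
            Set X) := by
          rw [e]
          exact hzY
        exact this.2 hzO
      obtain ⟨𝒮', hlc, hcov', hdis, hgood, hhom'⟩ := ih _ hlt
        (insert (closure ((Y : Set X) ∩ O)) 𝒬) (by
          intro Q hQ
          rcases Finset.mem_insert.1 hQ with rfl | hQ
          · exact isClosed_closure.isLocallyClosed
          · exact h𝒬 Q hQ)
      have hcov'' : ⋃₀ (𝒮' : Set (Set X)) = (Y : Set X) ∩ Oᶜ := hcov'
      have hsubY' : ∀ s ∈ 𝒮', s ⊆ (Y : Set X) ∩ Oᶜ := by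
        intro s hs
        rw [← hcov'']
        exact subset_sUnion_of_mem hs
      have hclY' : ∀ s ∈ 𝒮', closure s ⊆ (Y : Set X) ∩ Oᶜ := fun s hs =>
        closure_minimal (hsubY' s hs) (Y.isClosed.inter hO.isClosed_compl)
      refine ⟨insert ((Y : Set X) ∩ O) 𝒮', ?_, ?_, ?_, ?_, ?_⟩
      · intro s hs
        rcases Finset.mem_insert.1 hs with rfl | hs
        · exact Y.isClosed.isLocallyClosed.inter hO.isLocallyClosed
        · exact hlc s hs
      · rw [Finset.coe_insert, sUnion_insert, hcov'']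
        ext z
        simp only [mem_union, mem_inter_iff, mem_compl_iff]
        tauto
      · intro s hs t ht hst
        rcases Finset.mem_insert.1 hs with rfl | hs <;>
          rcases Finset.mem_insert.1 ht with rfl | ht
        · exact absurd rfl hst
        · exact disjoint_left.2 fun z hzU hzt => (hsubY' t ht hzt).2 hzU.2
        · exact disjoint_left.2 fun z hzs hzU => (hsubY' s hs hzs).2 hzU.2
        · exact hdis s hs t ht hst
      · intro s hs t ht hne'
        rcases Finset.mem_insert.1 hs with rfl | hs <;>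
          rcases Finset.mem_insert.1 ht with rfl | ht
        · exact subset_closure
        · obtain ⟨z, hzU, hzt⟩ := hne'
          exact absurd hzU.2 (hclY' t ht hzt).2
        · exact hhom' s hs _ (Finset.mem_insert_self _ _) hne'
        · exact hgood s hs t ht hne'
      · intro s hs Q hQ hne'
        rcases Finset.mem_insert.1 hs with rfl | hs
        · exact hhom Q hQ hne'
        · exact hhom' s hs Q (Finset.mem_insert_of_mem hQ) hne'
  obtain ⟨𝒮, hlc, hcov', hdis, hgood, hhom⟩ := main ⊤ (Finset.univ.image P) (by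
    intro Q hQ
    obtain ⟨k, -, rfl⟩ := Finset.mem_image.1 hQ
    exact hP k)
  refine ⟨𝒮.card, fun i => (𝒮.equivFin.symm i).1, fun i => hlc _ (𝒮.equivFin.symm i).2,
    ?_, ?_, ?_, ?_⟩
  · rw [eq_univ_iff_forall]
    intro z
    have : z ∈ ⋃₀ (𝒮 : Set (Set X)) := by
      rw [hcov']
      trivial
    obtain ⟨s, hs, hzs⟩ := this
    exact mem_iUnion.2 ⟨𝒮.equivFin ⟨s, hs⟩, by simpa using hzs⟩
  · intro i j hij
    exact hdis _ (𝒮.equivFin.symm i).2 _ (𝒮.equivFin.symm j).2
      (fun h => hij (𝒮.equivFin.symm.injective (Subtype.ext h)))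
  · intro i j
    exact hgood _ (𝒮.equivFin.symm i).2 _ (𝒮.equivFin.symm j).2
  · intro i k
    exact hhom _ (𝒮.equivFin.symm i).2 (P k) (Finset.mem_image_of_mem _ (Finset.mem_univ k))

end Groth.Agent.S7561
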