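import Groth.Statements.S7563
import Groth.Agent.Lib.Helper3.TopIrred

set_option autoImplicit false
universe u
open PtTop

namespace Groth.Agent.S7563

/-- Let X be a topological space and X = X_1 ∪ … ∪ X_n with each X_i irreducible and closed and no X_i
contained in the union of the others. Then the irreducible components of X are precisely the sets
X_1, …, X_n. -/
theorem result {X : Type u} [TopologicalSpace X]
    {n : ℕ} (Z : Fin n → Set X) (hZ : ∀ i, IsIrreducible (Z i) ∧ IsClosed (Z i))
    (hcov : ⋃ i, Z i = Set.univ) (hirr : ∀ i, ¬ Z i ⊆ ⋃ j ∈ ({i}ᶜ : Set (Fin n)), Z j) :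
    irreducibleComponents X = Set.range Z := by
  apply le_antisymm
  · intro W hW
    exact Groth.Agent.Lib.Helper3.TopIrred.mem_range_of_mem_irreducibleComponents hZ hcov hW
  · rintro _ ⟨i, rfl⟩
    refine ⟨(hZ i).1, fun W hW hiW => ?_⟩
    obtain ⟨j, hj⟩ := Groth.Agent.Lib.Helper3.TopIrred.exists_subset_of_subset_iUnion
      (fun i => (hZ i).2) hW (by rw [hcov]; exact Set.subset_univ _)
    by_cases hij : j = i
    · subst hij; exact hj
    · exfalso
      apply hirr i
      intro x hx
      exact Set.mem_iUnion₂.2 ⟨j, hij, hj (hiW hx)⟩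

end Groth.Agent.S7563
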