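import Groth.Statements.S7564
import Groth.Agent.Lib.Helper3.TopIrred

set_option autoImplicit false
universe u
open PtTop

namespace Groth.Agent.S7564

/-- For a continuous surjection f : X → Y, if X has finitely many irreducible components, say n of them,
then Y has at most n irreducible components. -/
theorem result {X Y : Type u} [TopologicalSpace X] [TopologicalSpace Y]
    (f : X → Y) (hf : Continuous f) (hs : Function.Surjective f) (hfin : (irreducibleComponents X).Finite) :
    (irreducibleComponents Y).Finite ∧ (irreducibleComponents Y).ncard ≤ (irreducibleComponents X).ncard := by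
  have hsub : irreducibleComponents Y ⊆ (fun C : Set X => closure (f '' C)) '' irreducibleComponents X := by
    intro W hW
    have := hfin.to_subtype
    have h1 := Groth.Agent.Lib.Helper3.TopIrred.mem_range_of_mem_irreducibleComponents
      (ι := irreducibleComponents X) (Z := fun C => closure (f '' (C : Set X)))
      (fun C => ⟨(C.2.1.image f hf.continuousOn).closure, isClosed_closure⟩)
      (by
        rw [Set.eq_univ_iff_forall]
        intro y
        obtain ⟨x, rfl⟩ := hs y
        have hx : x ∈ ⋃₀ irreducibleComponents X := by rw [sUnion_irreducibleComponents]; trivial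
        obtain ⟨C, hC, hxC⟩ := hx
        exact Set.mem_iUnion.2 ⟨⟨C, hC⟩, subset_closure ⟨x, hxC, rfl⟩⟩) hW
    obtain ⟨C, rfl⟩ := h1
    exact ⟨C.1, C.2, rfl⟩
  have hfin2 : ((fun C : Set X => closure (f '' C)) '' irreducibleComponents X).Finite := hfin.image _
  refine ⟨hfin2.subset hsub, ?_⟩
  exact (Set.ncard_le_ncard hsub hfin2).trans (Set.ncard_image_le hfin)

end Groth.Agent.S7564
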