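import Groth.Statements.S7567
import Groth.Agent.Lib.Helper3.SpectralConn

set_option autoImplicit false
universe u
open PtTop

namespace Groth.Agent.S7567

/-- Let X be a quasi-compact topological space whose quasi-compact opens form a basis, any two of them
meeting in a quasi-compact set. For a subset T ⊆ X these two conditions are equivalent: (a) T can be
written as an intersection of clopen subsets of X; (b) T is closed and is a union of connected
components of X. -/
theorem result {X : Type u} [TopologicalSpace X]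
    [CompactSpace X] [PrespectralSpace X] [QuasiSeparatedSpace X] (T : Set X) :
    (∃ S : Set (Set X), (∀ Z ∈ S, IsClopen Z) ∧ T = ⋂₀ S) ↔
      (IsClosed T ∧ ∀ x ∈ T, connectedComponent x ⊆ T) := by
  constructor
  · rintro ⟨S, hS, rfl⟩
    refine ⟨isClosed_sInter fun Z hZ => (hS Z hZ).1, fun x hx => ?_⟩
    exact Set.subset_sInter fun Z hZ => (hS Z hZ).connectedComponent_subset (hx Z hZ)
  · rintro ⟨hTcl, hT⟩
    refine ⟨{Z | IsClopen Z ∧ T ⊆ Z}, fun Z hZ => hZ.1, ?_⟩
    apply le_antisymm
    · exact Set.subset_sInter fun Z hZ => hZ.2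
    · intro y hy
      by_contra hyT
      -- for each x ∈ T a clopen containing x but not y
      have h1 : ∀ x ∈ T, ∃ Z : Set X, IsClopen Z ∧ x ∈ Z ∧ y ∉ Z := by
        intro x hx
        have hyx : y ∉ connectedComponent x := fun h => hyT (hT x hx h)
        rw [Groth.Agent.Lib.Helper3.SpectralConn.connectedComponent_eq_sInter_isClopen x] at hyx
        simp only [Set.mem_sInter, not_forall] at hyx
        obtain ⟨Z, ⟨hZ, hxZ⟩, hyZ⟩ := hyx
        exact ⟨Z, hZ, hxZ, hyZ⟩
      choose! Z hZ using h1
      obtain ⟨t, ht⟩ := hTcl.isCompact.elim_finite_subcover (fun x : T => Z x)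
        (fun x => (hZ x x.2).1.2) (by
          intro x hx
          exact Set.mem_iUnion.2 ⟨⟨x, hx⟩, (hZ x hx).2.1⟩)
      have hcl : IsClopen (⋃ x ∈ t, Z (x : X)) :=
        t.finite_toSet.isClopen_biUnion fun x _ => (hZ x x.2).1
      have := hy (⋃ x ∈ t, Z (x : X)) ⟨hcl, ht⟩
      obtain ⟨x, hxt, hyx⟩ := Set.mem_iUnion₂.1 this
      exact (hZ x x.2).2.2 hyx

end Groth.Agent.S7567
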