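import Groth.Statements.S7569
import Groth.Agent.Lib.Helper3.CechShrink

set_option autoImplicit false
universe u
open PtTop

namespace Groth.Agent.S7569

/-- Let X be a Hausdorff, locally quasi-compact space and Z ⊆ X a quasi-compact subset. Let p ≥ 0, let
U_i ⊆ X be opens with Z ⊆ ⋃ U_i, and for every (p+1)-tuple (i_0, …, i_p) let W_{i_0…i_p} ⊆ U_{i_0} ∩
… ∩ U_{i_p} be an open with W_{i_0…i_p} ∩ Z = U_{i_0} ∩ … ∩ U_{i_p} ∩ Z. Then there are opens V_i ⊆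
X with Z ⊆ ⋃ V_i, closure(V_i) ⊆ U_i for all i, and V_{i_0} ∩ … ∩ V_{i_p} ⊆ W_{i_0…i_p} for all
(p+1)-tuples. -/
theorem result {X : Type u} [TopologicalSpace X]
    [T2Space X] [LocallyCompactSpace X] (Z : Set X) (hZ : IsCompact Z)
    {ι : Type u} (U : ι → Set X) (hU : ∀ i, IsOpen (U i)) (hcov : Z ⊆ ⋃ i, U i) (p : ℕ)
    (W : (Fin (p + 1) → ι) → Set X) (hWo : ∀ t, IsOpen (W t)) (hWU : ∀ t, W t ⊆ ⋂ l, U (t l))
    (hWZ : ∀ t, W t ∩ Z = (⋂ l, U (t l)) ∩ Z) :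
    ∃ V : ι → Set X, (∀ i, IsOpen (V i)) ∧ (Z ⊆ ⋃ i, V i) ∧ (∀ i, closure (V i) ⊆ U i) ∧
      (∀ t : Fin (p + 1) → ι, (⋂ l, V (t l)) ⊆ W t) := by
  have hsepZ : Groth.Agent.Lib.Helper3.CechShrink.Sep Z := by
    intro z _ z' _ hzz'
    obtain ⟨A, B, hA, hB, hzA, hzB, hAB⟩ := t2_separation hzz'
    exact ⟨A, B, hA, hB, hzA, hzB, hAB⟩
  obtain ⟨I₀, K, hKc, hKU, hZK, hcore⟩ :=
    Groth.Agent.Lib.Helper3.CechShrink.core hZ hsepZ U hU hcov p W hWo hWZ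
  have hN : ∀ i, ∃ N : Set X, IsOpen N ∧ K i ⊆ N ∧ closure N ⊆ U i ∧ IsCompact (closure N) :=
    fun i => exists_open_between_and_isCompact_closure (hKc i) (hU i)
      ((hKU i).trans Set.inter_subset_left)
  choose N hNo hKN hNU _ using hN
  obtain ⟨V, hVo, hKV, hVUN, hVW⟩ := hcore N hNo hKN
  refine ⟨V, hVo, ?_, fun i => ?_, hVW⟩
  · intro z hz
    obtain ⟨i, hi, hzi⟩ := Set.mem_iUnion₂.1 (hZK hz)
    exact Set.mem_iUnion.2 ⟨i, hKV i hi hzi⟩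
  · exact (closure_mono ((hVUN i).trans Set.inter_subset_right)).trans (hNU i)

end Groth.Agent.S7569
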