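import Groth.Statements.S7570
import Groth.Agent.Lib.Helper3.CechShrink

set_option autoImplicit false
universe u
open PtTop

namespace Groth.Agent.S7570

/-- Let X be a topological space and Z ⊆ X a quasi-compact subset such that any two distinct points of Z
have disjoint open neighbourhoods in X. Let p ≥ 0, let U_i ⊆ X be opens with Z ⊆ ⋃ U_i, and for
every (p+1)-tuple let W_{i_0…i_p} ⊆ U_{i_0} ∩ … ∩ U_{i_p} be an open with W_{i_0…i_p} ∩ Z = U_{i_0}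
∩ … ∩ U_{i_p} ∩ Z. Then there are opens V_i with (1) Z ⊆ ⋃ V_i, (2) V_i ⊆ U_i, (3) closure(V_i) ∩ Z
⊆ U_i, and (4) V_{i_0} ∩ … ∩ V_{i_p} ⊆ W_{i_0…i_p} for all (p+1)-tuples. -/
theorem result {X : Type u} [TopologicalSpace X]
    (Z : Set X) (hZ : IsCompact Z)
    (hZsep : ∀ z ∈ Z, ∀ z' ∈ Z, z ≠ z' → ∃ A B : Set X, IsOpen A ∧ IsOpen B ∧ z ∈ A ∧ z' ∈ B ∧ Disjoint A B)
    {ι : Type u} (U : ι → Set X) (hU : ∀ i, IsOpen (U i)) (hcov : Z ⊆ ⋃ i, U i) (p : ℕ)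
    (W : (Fin (p + 1) → ι) → Set X) (hWo : ∀ t, IsOpen (W t)) (hWU : ∀ t, W t ⊆ ⋂ l, U (t l))
    (hWZ : ∀ t, W t ∩ Z = (⋂ l, U (t l)) ∩ Z) :
    ∃ V : ι → Set X, (∀ i, IsOpen (V i)) ∧ (Z ⊆ ⋃ i, V i) ∧ (∀ i, V i ⊆ U i) ∧
      (∀ i, closure (V i) ∩ Z ⊆ U i) ∧ (∀ t : Fin (p + 1) → ι, (⋂ l, V (t l)) ⊆ W t) := by
  obtain ⟨I₀, K, hKc, hKU, hZK, hcore⟩ :=
    Groth.Agent.Lib.Helper3.CechShrink.core hZ hZsep U hU hcov p W hWo hWZ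
  -- separate `K i` from `Z \ U i`
  have hsep : ∀ i, ∃ P Q : Set X, IsOpen P ∧ IsOpen Q ∧ K i ⊆ P ∧ Z \ U i ⊆ Q ∧ Disjoint P Q :=
    fun i => Groth.Agent.Lib.Helper3.CechShrink.exists_disjoint_open hZsep (hKc i)
      (hZ.diff (hU i)) ((hKU i).trans Set.inter_subset_right) Set.sdiff_subset
      (Set.disjoint_left.2 fun x hxK hx => hx.2 (hKU i hxK).1)
  choose P Q hPo hQo hKP hDQ hPQ using hsep
  obtain ⟨V, hVo, hKV, hVUN, hVW⟩ := hcore P hPo hKP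
  refine ⟨V, hVo, ?_, fun i => (hVUN i).trans Set.inter_subset_left, ?_, hVW⟩
  · intro z hz
    obtain ⟨i, hi, hzi⟩ := Set.mem_iUnion₂.1 (hZK hz)
    exact Set.mem_iUnion.2 ⟨i, hKV i hi hzi⟩
  · rintro i x ⟨hxcl, hxZ⟩
    by_contra hxU
    have h1 : x ∈ Q i := hDQ i ⟨hxZ, hxU⟩
    have h2 : closure (V i) ⊆ (Q i)ᶜ := by
      apply closure_minimal _ (hQo i).isClosed_compl
      intro y hy hy1
      exact Set.disjoint_left.1 (hPQ i) (hVUN i hy).2 hy1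
    exact h2 hxcl h1

end Groth.Agent.S7570
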