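import Groth.Statements.S7571
import Mathlib

set_option autoImplicit false
universe u
open CategoryTheory CategoryTheory.Limits
open PtTop

namespace Groth.Agent.S7571

/-- Let j ↦ X_j be a diagram of topological spaces over a cofiltered category with limit X and
projections f_j. (1) Every open of X is a union of subsets of the form f_j⁻¹(U_j) with U_j ⊆ X_j
open. (2) Every quasi-compact open of X equals f_i⁻¹(U_i) for some i and some open U_i ⊆ X_i. -/
theorem result {J : Type u} [SmallCategory J] [IsCofiltered J]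
    (F : J ⥤ TopCat.{u}) (c : Cone F) (hc : IsLimit c) :
    (∀ W : Set c.pt, IsOpen W →
      ∃ S : Set (Σ j, Set (F.obj j)), (∀ s ∈ S, IsOpen s.2) ∧ W = ⋃ s ∈ S, c.π.app s.1 ⁻¹' s.2) ∧
    (∀ W : Set c.pt, IsOpen W → IsCompact W →
      ∃ (i : J) (Ui : Set (F.obj i)), IsOpen Ui ∧ W = c.π.app i ⁻¹' Ui) := by
  classical
  have hB := TopCat.isTopologicalBasis_cofiltered_limit F c hc (fun j => {V | IsOpen V})
    (fun j => TopologicalSpace.isTopologicalBasis_opens) (fun i => isOpen_univ)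
    (fun i U1 U2 h1 h2 => IsOpen.inter h1 h2)
    (fun i j f V hV => hV.preimage (F.map f).hom.continuous)
  have h1 : ∀ W : Set c.pt, IsOpen W →
      W = ⋃ s ∈ {s : Σ j, Set (F.obj j) | IsOpen s.2 ∧ c.π.app s.1 ⁻¹' s.2 ⊆ W},
        c.π.app s.1 ⁻¹' s.2 := by
    intro W hW
    apply le_antisymm
    · intro x hx
      obtain ⟨B, ⟨j, V, hV, rfl⟩, hxB, hBW⟩ := hB.exists_subset_of_mem_open hx hW
      exact Set.mem_iUnion₂.2 ⟨⟨j, V⟩, ⟨hV, hBW⟩, hxB⟩
    · exact Set.iUnion₂_subset fun s hs => hs.2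
  refine ⟨fun W hW => ⟨_, fun s hs => hs.1, h1 W hW⟩, fun W hW hWc => ?_⟩
  set S := {s : Σ j, Set (F.obj j) | IsOpen s.2 ∧ c.π.app s.1 ⁻¹' s.2 ⊆ W} with hS
  obtain ⟨t, ht⟩ := hWc.elim_finite_subcover (fun s : S => c.π.app s.1.1 ⁻¹' s.1.2)
    (fun s => s.2.1.preimage (c.π.app s.1.1).hom.continuous) (by
      intro x hx
      have := h1 W hW
      rw [this] at hx
      obtain ⟨s, hs, hxs⟩ := Set.mem_iUnion₂.1 hx
      exact Set.mem_iUnion.2 ⟨⟨s, hs⟩, hxs⟩)
  obtain ⟨i, hi⟩ := IsCofiltered.inf_objs_exists (t.image (fun s : S => s.1.1))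
  have ha : ∀ s : S, s ∈ t → Nonempty (i ⟶ s.1.1) := fun s hs =>
    hi (Finset.mem_image_of_mem _ hs)
  refine ⟨i, ⋃ s : {s : S // s ∈ t}, F.map (ha s.1 s.2).some ⁻¹' s.1.1.2, ?_, ?_⟩
  · exact isOpen_iUnion fun s => s.1.2.1.preimage (F.map _).hom.continuous
  · have hpre : ∀ s : {s : S // s ∈ t},
        c.π.app i ⁻¹' (F.map (ha s.1 s.2).some ⁻¹' s.1.1.2) = c.π.app s.1.1.1 ⁻¹' s.1.1.2 := by
      intro s
      rw [← Set.preimage_comp]
      have := c.w (ha s.1 s.2).some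
      rw [← this]
      rfl
    rw [Set.preimage_iUnion]
    apply le_antisymm
    · intro x hx
      obtain ⟨s, hst, hxs⟩ := Set.mem_iUnion₂.1 (ht hx)
      exact Set.mem_iUnion.2 ⟨⟨s, hst⟩, by rw [hpre]; exact hxs⟩
    · refine Set.iUnion_subset fun s => ?_
      rw [hpre]
      exact s.1.2.2

end Groth.Agent.S7571
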