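import Groth.Statements.S7572
import Groth.Agent.Lib.Helper3.ClosedEmbSheaf
import Mathlib

set_option autoImplicit false
universe u
open CategoryTheory TopologicalSpace
open ShSp

namespace Groth.Agent.S7572

open Groth.Agent.Lib.Helper3.ClosedEmbSheaf

/-- Let i : Z → X be the inclusion of a closed subset (a closed embedding) and F a sheaf of sets on Z.
Then (i_* F)_x is a one-point set for x ∉ Z, and the counit i⁻¹ i_* F → F is an isomorphism (whence
(i_* F)_{i(z)} = F_z). -/
theorem result {Z X : TopCat.{u}} (i : Z ⟶ X) (hi : Topology.IsClosedEmbedding i)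
    (F : Z.Sheaf (Type u)) :
    (∀ x : X, x ∉ Set.range i →
      Nonempty (Unique (((TopCat.Sheaf.pushforward (Type u) i).obj F).presheaf.stalk x))) ∧
    IsIso ((TopCat.Sheaf.pullbackPushforwardAdjunction (Type u) i).counit.app F) := by
  refine ⟨fun x hx => stalk_unique i hi F x hx, ?_⟩
  haveI : (TopCat.Sheaf.pushforward (Type u) i).Full := (ffSheaf i (Type u) hi).full
  haveI : (TopCat.Sheaf.pushforward (Type u) i).Faithful := (ffSheaf i (Type u) hi).faithful
  infer_instance

end Groth.Agent.S7572
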