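import Groth.Statements.S7573
import Groth.Agent.Lib.Helper3.ClosedEmbSheaf
import Mathlib

set_option autoImplicit false
universe u
open CategoryTheory TopologicalSpace
open ShSp

namespace Groth.Agent.S7573

open Groth.Agent.Lib.Helper3.ClosedEmbSheaf

/-- Let i : Z → X be the inclusion of a closed subset (a closed embedding). Then i_* : Sh(Z) → Sh(X) on
sheaves of sets is fully faithful, and its essential image consists exactly of the sheaves G whose
stalk G_x is a one-point set for every x ∈ X not in Z. -/
theorem result {Z X : TopCat.{u}} (i : Z ⟶ X) (hi : Topology.IsClosedEmbedding i) :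
    (TopCat.Sheaf.pushforward (Type u) i).Full ∧ (TopCat.Sheaf.pushforward (Type u) i).Faithful ∧
    ∀ G : X.Sheaf (Type u), (TopCat.Sheaf.pushforward (Type u) i).essImage G ↔
      ∀ x : X, x ∉ Set.range i → Nonempty (Unique (G.presheaf.stalk x)) := by
  refine ⟨(ffSheaf i (Type u) hi).full, (ffSheaf i (Type u) hi).faithful, fun G => ⟨?_, ?_⟩⟩
  · rintro ⟨F, ⟨e⟩⟩ x hx
    obtain ⟨hu⟩ := stalk_unique i hi F x hx
    have e' : ((TopCat.Sheaf.pushforward (Type u) i).obj F).presheaf.stalk x ≅
        G.presheaf.stalk x :=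
      (TopCat.Presheaf.stalkFunctor (Type u) x).mapIso
        ((TopCat.Sheaf.forget (Type u) X).mapIso e)
    exact ⟨e'.toEquiv.symm.unique⟩
  · intro h
    exact essImage_of_uniqueBelow i hi G
      (uniqueBelow_of_stalk G _ fun x hx => h x ((mem_Φ_bot i hi x).1 hx))

end Groth.Agent.S7573
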