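import Groth.Statements.S7577
import Groth.Agent.Lib.Helper3.DimFun
import Mathlib

set_option autoImplicit false
universe u
open PtTop

namespace Groth.Agent.S7577

open Groth.Agent.Lib.Helper3.DimFun

/-- Let X be a sober topological space and δ : X → ℤ a dimension function. Then X is catenary, and for
any specialization x ⤳ y the codimension of the closure of {y} in the closure of {x} equals δ(x) −
δ(y). -/
theorem result {X : Type u} [TopologicalSpace X] [QuasiSober X] [T0Space X]
    (δ : X → ℤ) (hδ : PtTop.IsDimensionFunction δ) :
    PtTop.IsCatenarySpace X ∧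
    ∀ x y : X, x ⤳ y →
      PtTop.codim (⟨closure {y}, isIrreducible_singleton.closure, isClosed_closure⟩ : TopologicalSpace.IrreducibleCloseds X)
        (closure {x}) = ((δ x - δ y).toNat : ℕ∞) := by
  constructor
  · intro T T' hle
    refine ⟨?_, fun s hs1 hs2 hcov => ?_⟩
    · exact ne_top_of_le_ne_top (ENat.natCast_ne_top _) (codim_le hδ)
    · rw [codim_eq hδ hle]
      have := length_eq hδ s hcov (Fin.last _)
      have h3 : s 0 = T := hs1
      have h4 : s (Fin.last _) = T' := hs2
      rw [h3, h4, Fin.val_last] at this
      have : (δ (gp T') - δ (gp T)).toNat = s.length := by omega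
      rw [this]
  · intro x y hxy
    have hle : cl y ≤ cl x := by
      intro w hw
      exact specializes_iff_mem_closure.1 (hxy.trans (specializes_iff_mem_closure.2 hw))
    have := codim_eq hδ hle
    rw [gp_cl, gp_cl] at this
    exact this

end Groth.Agent.S7577
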