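import Groth.Statements.S7578
import Groth.Agent.Lib.Helper3.DimFun
import Mathlib

set_option autoImplicit false
universe u
open PtTop

namespace Groth.Agent.S7578

open Groth.Agent.Lib.Helper3.DimFun TopologicalSpace Set

/-- Let X be a topological space which is locally Noetherian (every point has a Noetherian
neighbourhood) and sober, and let δ, δ' be two dimension functions on X. Then δ − δ' is locally
constant. -/
theorem result {X : Type u} [TopologicalSpace X] [QuasiSober X] [T0Space X]
    (hX : ∀ x : X, ∃ E ∈ nhds x, TopologicalSpace.NoetherianSpace E)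
    (δ δ' : X → ℤ) (hδ : PtTop.IsDimensionFunction δ) (hδ' : PtTop.IsDimensionFunction δ') :
    IsLocallyConstant (fun x => δ x - δ' x) := by
  have K : ∀ a b : X, a ⤳ b → δ a - δ' a = δ b - δ' b := by
    intro a b hab
    have hle : cl b ≤ cl a := by
      intro w hw
      exact specializes_iff_mem_closure.1 (hab.trans (specializes_iff_mem_closure.2 hw))
    have h1 := codim_eq hδ hle
    have h2 := codim_eq hδ' hle
    rw [gp_cl, gp_cl] at h1 h2
    have h3 : (δ a - δ b).toNat = (δ' a - δ' b).toNat := by exact_mod_cast h1.symm.trans h2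
    have h4 : δ b ≤ δ a := by simpa [gp_cl] using D_le hδ hle
    have h5 : δ' b ≤ δ' a := by simpa [gp_cl] using D_le hδ' hle
    omega
  rw [IsLocallyConstant.iff_exists_open]
  intro x
  obtain ⟨E, hE, hEn⟩ := hX x
  have hxU : x ∈ interior E := mem_interior_iff_mem_nhds.2 hE
  have hUn : NoetherianSpace (interior E) := by
    rw [noetherianSpace_set_iff] at hEn ⊢
    exact fun t ht => hEn t (ht.trans interior_subset)
  have hfin := NoetherianSpace.finite_irreducibleComponents (α := interior E)
  have hAcl : IsClosed (⋃ Z ∈ {Z ∈ irreducibleComponents (interior E) |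
      (⟨x, hxU⟩ : interior E) ∉ Z}, Z) :=
    (hfin.subset (sep_subset _ _)).isClosed_biUnion
      fun Z hZ => isClosed_of_mem_irreducibleComponents Z hZ.1
  refine ⟨Subtype.val '' (⋃ Z ∈ {Z ∈ irreducibleComponents (interior E) |
      (⟨x, hxU⟩ : interior E) ∉ Z}, Z)ᶜ,
    isOpen_interior.isOpenMap_subtype_val _ hAcl.isOpen_compl, ⟨⟨x, hxU⟩, ?_, rfl⟩, ?_⟩
  · intro hxA
    obtain ⟨Z, hZ, hxZ⟩ := mem_iUnion₂.1 hxA
    exact hZ.2 hxZ
  · rintro _ ⟨y, hyA, rfl⟩
    have hZ : irreducibleComponent y ∈ irreducibleComponents (interior E) :=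
      irreducibleComponent_mem_irreducibleComponents y
    have hyZ : y ∈ irreducibleComponent y := mem_irreducibleComponent
    have hxZ : (⟨x, hxU⟩ : interior E) ∈ irreducibleComponent y := by
      by_contra hxZ
      exact hyA (mem_iUnion₂.2 ⟨irreducibleComponent y, ⟨hZ, hxZ⟩, hyZ⟩)
    have hirr : IsIrreducible (closure (Subtype.val '' irreducibleComponent y)) :=
      (isIrreducible_irreducibleComponent.image _ continuous_subtype_val.continuousOn).closure
    obtain ⟨ξ, hξ⟩ := QuasiSober.sober hirr isClosed_closure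
    have h1 : ξ ⤳ x := by
      rw [specializes_iff_mem_closure, hξ.def]
      exact subset_closure ⟨_, hxZ, rfl⟩
    have h2 : ξ ⤳ y.1 := by
      rw [specializes_iff_mem_closure, hξ.def]
      exact subset_closure ⟨_, hyZ, rfl⟩
    show δ y.1 - δ' y.1 = δ x - δ' x
    rw [← K ξ _ h1, ← K ξ _ h2]

end Groth.Agent.S7578
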