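import Groth.Statements.S7579
import Groth.Agent.Lib.Helper3.ConsTop
import Mathlib

set_option autoImplicit false
universe u
open SpecSp

namespace Groth.Agent.S7579

/-- Let X be a spectral space. Then X with its constructible topology is Hausdorff and totally
disconnected. The published statement also asserts that the constructible topology is quasi-compact;
this row states the Hausdorff and totally disconnected parts. -/
theorem result (X : Type u) [TopologicalSpace X] [SpectralSpace X] :
    T2Space (WithConstructibleTopology X) ∧ TotallyDisconnectedSpace (WithConstructibleTopology X) := by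
  have hsep : TotallySeparatedSpace (WithConstructibleTopology X) := by
    rw [totallySeparatedSpace_iff_exists_isClopen]
    intro x y hxy
    have hxy' : WithTopology.ofTopology x ≠ WithTopology.ofTopology y := fun h =>
      hxy (WithTopology.ofTopology_injective _ h)
    -- a compact open containing exactly one of the two points
    obtain ⟨U, hUo, hUc, hU⟩ : ∃ U : Set X, IsOpen U ∧ IsCompact U ∧
        ((WithTopology.ofTopology x ∈ U ∧ WithTopology.ofTopology y ∉ U) ∨
         (WithTopology.ofTopology y ∈ U ∧ WithTopology.ofTopology x ∉ U)) := by
      obtain ⟨V, hV, hV'⟩ := exists_isOpen_xor_mem hxy'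
      rcases hV' with ⟨hxV, hyV⟩ | ⟨hyV, hxV⟩
      · obtain ⟨W, ⟨hWo, hWc⟩, hxW, hWV⟩ :=
          PrespectralSpace.isTopologicalBasis.exists_subset_of_mem_open hxV hV
        exact ⟨W, hWo, hWc, Or.inl ⟨hxW, fun h => hyV (hWV h)⟩⟩
      · obtain ⟨W, ⟨hWo, hWc⟩, hyW, hWV⟩ :=
          PrespectralSpace.isTopologicalBasis.exists_subset_of_mem_open hyV hV
        exact ⟨W, hWo, hWc, Or.inr ⟨hyW, fun h => hxV (hWV h)⟩⟩
    have hclopen : IsClopen ((WithTopology.ofTopology (t := constructibleTopology X)) ⁻¹' U) := by
      constructor
      · rw [WithConstructibleTopology.isClosed_iff]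
        have : WithTopology.toTopology (constructibleTopology X) ⁻¹'
            (WithTopology.ofTopology ⁻¹' U) = U := by
          ext z; simp
        rw [this]
        exact Groth.Agent.Lib.Helper3.ConsTop.isClosed_cons_of_isCompact_isOpen hUc hUo
      · rw [WithConstructibleTopology.isOpen_iff]
        have : WithTopology.toTopology (constructibleTopology X) ⁻¹'
            (WithTopology.ofTopology ⁻¹' U) = U := by
          ext z; simp
        rw [this]
        exact hUc.isOpen_constructibleTopology_of_isOpen hUo
    rcases hU with ⟨hx, hy⟩ | ⟨hy, hx⟩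
    · exact ⟨_, hclopen, hx, hy⟩
    · exact ⟨_, hclopen.compl, hx, fun h => h hy⟩
  exact ⟨inferInstance, inferInstance⟩

end Groth.Agent.S7579
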