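import Groth.Statements.S7580
import Mathlib

set_option autoImplicit false
universe u
open PtTop

namespace Groth.Agent.S7580

/-- Let f : X → Y be a continuous map of topological spaces with f(X) dense in Y and Y Hausdorff. Then
the cardinality of Y is at most that of the double power set of X. -/
theorem result {X Y : Type u} [TopologicalSpace X] [TopologicalSpace Y] [T2Space Y]
    (f : X → Y) (hf : Continuous f) (hd : DenseRange f) :
    Cardinal.mk Y ≤ (2 : Cardinal.{u}) ^ ((2 : Cardinal.{u}) ^ Cardinal.mk X) := by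
  rw [← Cardinal.mk_set, ← Cardinal.mk_set]
  refine Cardinal.mk_le_of_injective
    (f := fun y : Y => {A : Set X | ∃ V : Set Y, IsOpen V ∧ y ∈ V ∧ A = f ⁻¹' V}) ?_
  intro y y' hyy'
  by_contra hne
  obtain ⟨V, V', hV, hV', hyV, hy'V', hdisj⟩ := t2_separation hne
  have h1 : f ⁻¹' V ∈ {A : Set X | ∃ V : Set Y, IsOpen V ∧ y ∈ V ∧ A = f ⁻¹' V} :=
    ⟨V, hV, hyV, rfl⟩
  have h2 : f ⁻¹' V ∈ {A : Set X | ∃ V : Set Y, IsOpen V ∧ y' ∈ V ∧ A = f ⁻¹' V} := by
    have hyy'' : {A : Set X | ∃ V : Set Y, IsOpen V ∧ y ∈ V ∧ A = f ⁻¹' V} =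
        {A : Set X | ∃ V : Set Y, IsOpen V ∧ y' ∈ V ∧ A = f ⁻¹' V} := hyy'
    rw [← hyy'']
    exact h1
  obtain ⟨V'', hV'', hy'V'', heq⟩ := h2
  obtain ⟨x, hx⟩ := hd.exists_mem_open (hV''.inter hV') ⟨y', hy'V'', hy'V'⟩
  have hxV : x ∈ f ⁻¹' V := by rw [heq]; exact hx.1
  exact Set.disjoint_left.1 hdisj hxV hx.2

end Groth.Agent.S7580
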