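import Groth.Statements.S7581
import Mathlib.Data.ENat.Lattice

set_option autoImplicit false
universe u
open PtTop

namespace Groth.Agent.S7581

open TopologicalSpace

variable {X : Type u} [TopologicalSpace X]

lemma le_codim (Y Y' : IrreducibleCloseds X) (s : LTSeries (IrreducibleCloseds X))
    (h1 : s.head = Y) (h2 : s.last ≤ Y') : (s.length : ℕ∞) ≤ PtTop.codim Y (Y' : Set X) := by
  unfold PtTop.codim
  exact le_iSup₂_of_le s ⟨h1, h2⟩ le_rfl

lemma exists_max (Y Y' : IrreducibleCloseds X) (hle : Y ≤ Y')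
    (hfin : PtTop.codim Y (Y' : Set X) ≠ ⊤) :
    ∃ s : LTSeries (IrreducibleCloseds X), s.head = Y ∧ s.last ≤ Y' ∧
      (s.length : ℕ∞) = PtTop.codim Y (Y' : Set X) := by
  unfold PtTop.codim at hfin ⊢
  rw [iSup_subtype'] at hfin ⊢
  haveI : Nonempty {s : LTSeries (IrreducibleCloseds X) // s.head = Y ∧ (s.last : Set X) ⊆ Y'} :=
    ⟨⟨RelSeries.singleton _ Y, by simp, by simpa using hle⟩⟩
  obtain ⟨⟨s, hs1, hs2⟩, hs⟩ := ENat.exists_eq_iSup_of_lt_top (lt_top_iff_ne_top.mpr hfin)
  exact ⟨s, hs1, hs2, hs⟩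

lemma last_eq_of_max (Y Y' : IrreducibleCloseds X)
    (hfin : PtTop.codim Y (Y' : Set X) ≠ ⊤) (s : LTSeries (IrreducibleCloseds X))
    (h1 : s.head = Y) (h2 : s.last ≤ Y') (h3 : (s.length : ℕ∞) = PtTop.codim Y (Y' : Set X)) :
    s.last = Y' := by
  by_contra hne
  have hlt : s.last < Y' := lt_of_le_of_ne h2 hne
  have := le_codim Y Y' (s.snoc Y' hlt) (by simp [h1]) (by simp)
  rw [← h3] at this
  simp only [RelSeries.snoc_length, Nat.cast_add, Nat.cast_one] at this
  have h4 : ((s.length + 1 : ℕ) : ℕ∞) ≤ (s.length : ℕ∞) := by exact_mod_cast this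
  have := Nat.cast_le.mp h4
  omega

lemma covBy_of_max (Y Y' : IrreducibleCloseds X)
    (hfin : PtTop.codim Y (Y' : Set X) ≠ ⊤) (s : LTSeries (IrreducibleCloseds X))
    (h1 : s.head = Y) (h2 : s.last ≤ Y') (h3 : (s.length : ℕ∞) = PtTop.codim Y (Y' : Set X))
    (i : Fin s.length) : s (Fin.castSucc i) ⋖ s (Fin.succ i) := by
  refine ⟨s.step i, fun c hc1 hc2 => ?_⟩
  have e1 : (s.take i.castSucc).last < c := by rw [RelSeries.last_take]; exact hc1
  have e2 : ((s.take i.castSucc).snoc c e1).last < (s.drop i.succ).head := by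
    rw [RelSeries.last_snoc, RelSeries.head_drop]; exact hc2
  have := le_codim Y Y' (((s.take i.castSucc).snoc c e1).append (s.drop i.succ) e2)
    (by simp [h1]) (by simpa using h2)
  rw [← h3] at this
  have h4 := Nat.cast_le.mp this
  simp only [RelSeries.append_length, RelSeries.snoc_length, RelSeries.take_length,
    RelSeries.drop_length, Fin.val_castSucc, Fin.val_succ] at h4
  omega

lemma codim_covBy (a b : IrreducibleCloseds X) (hab : a ⋖ b) :
    PtTop.codim a (b : Set X) = 1 := by
  apply le_antisymm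
  · unfold PtTop.codim
    refine iSup₂_le fun s hs => ?_
    obtain ⟨hs1, hs2⟩ := hs
    have hs2' : s.last ≤ b := hs2
    by_contra hlen
    have hlen' : 2 ≤ s.length := by
      by_contra h
      apply hlen
      have : s.length ≤ 1 := by omega
      exact_mod_cast this
    have l1 : s ⟨0, by omega⟩ < s ⟨1, by omega⟩ := s.strictMono (by simp [Fin.lt_def])
    have l2 : s ⟨1, by omega⟩ < s ⟨2, by omega⟩ := s.strictMono (by simp [Fin.lt_def])
    have l3 : s ⟨2, by omega⟩ ≤ s.last := s.monotone (Fin.le_last _)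
    have l0 : s ⟨0, by omega⟩ = a := hs1
    rw [l0] at l1
    exact hab.2 l1 (lt_of_lt_of_le l2 (l3.trans hs2'))
  · have := le_codim a b ((RelSeries.singleton _ a).snoc b hab.1) (by simp) (by simp)
    simpa using this

theorem result (X : Type u) [TopologicalSpace X] :
    PtTop.IsCatenarySpace X ↔
      (∀ Y Y' : TopologicalSpace.IrreducibleCloseds X, Y ≤ Y' → PtTop.codim Y (Y' : Set X) ≠ ⊤) ∧
      (∀ Y Y' Y'' : TopologicalSpace.IrreducibleCloseds X, Y ≤ Y' → Y' ≤ Y'' →
        PtTop.codim Y (Y'' : Set X) = PtTop.codim Y (Y' : Set X) + PtTop.codim Y' (Y'' : Set X)) := by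
  constructor
  · intro hcat
    refine ⟨fun Y Y' h => (hcat Y Y' h).1, fun Y Y' Y'' h1 h2 => ?_⟩
    obtain ⟨s1, a1, b1, c1⟩ := exists_max Y Y' h1 (hcat Y Y' h1).1
    obtain ⟨s2, a2, b2, c2⟩ := exists_max Y' Y'' h2 (hcat Y' Y'' h2).1
    have l1 := last_eq_of_max Y Y' (hcat Y Y' h1).1 s1 a1 b1 c1
    have l2 := last_eq_of_max Y' Y'' (hcat Y' Y'' h2).1 s2 a2 b2 c2
    have hconn : s1.last = s2.head := by rw [l1, a2]
    have key := (hcat Y Y'' (h1.trans h2)).2 (s1.smash s2 hconn) (by simp [a1]) (by simp [l2]) ?_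
    · rw [← key, ← c1, ← c2]
      simp
    · intro i
      have hi : ∀ j : Fin (s1.length + s2.length),
          (s1.smash s2 hconn) (Fin.castSucc j) ⋖ (s1.smash s2 hconn) (Fin.succ j) := by
        intro j
        refine Fin.addCases (fun j => ?_) (fun j => ?_) j
        · have e1 := RelSeries.smash_castAdd hconn j
          have e2 := RelSeries.smash_succ_castAdd hconn j
          have := covBy_of_max Y Y' (hcat Y Y' h1).1 s1 a1 b1 c1 j
          rw [← e1, ← e2] at this
          exact this
        · have e1 := RelSeries.smash_natAdd hconn j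
          have e2 := RelSeries.smash_succ_natAdd hconn j
          have := covBy_of_max Y' Y'' (hcat Y' Y'' h2).1 s2 a2 b2 c2 j
          rw [← e1, ← e2] at this
          exact this
      exact hi i
  · rintro ⟨hfin, hadd⟩ T T' hTT'
    refine ⟨hfin T T' hTT', fun s hs1 hs2 hcov => ?_⟩
    have hzero : ∀ Y : IrreducibleCloseds X, PtTop.codim Y (Y : Set X) = 0 := by
      intro Y
      have h1 := hadd Y Y Y le_rfl le_rfl
      have h2 := hfin Y Y le_rfl
      obtain ⟨m, hm⟩ := ENat.ne_top_iff_exists.mp h2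
      rw [← hm] at h1 ⊢
      have : m = m + m := by exact_mod_cast h1
      have : m = 0 := by omega
      simp [this]
    have key : ∀ i : Fin (s.length + 1), PtTop.codim s.head (s i : Set X) = (i : ℕ) := by
      intro i
      induction i using Fin.induction with
      | zero =>
        have := hzero s.head
        simpa [RelSeries.head] using this
      | succ i ih =>
        rw [hadd s.head (s i.castSucc) (s i.succ) (s.head_le _) (s.monotone (Fin.castSucc_le_succ i)),
          ih, codim_covBy _ _ (hcov i)]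
        simp
    have := key (Fin.last _)
    rw [← hs1, ← hs2]
    simpa [RelSeries.last] using this.symm

end Groth.Agent.S7581
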