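import Groth.Statements.S7582
import Groth.Agent.Lib.Helper12.Sob

set_option autoImplicit false
universe u
open PtTop

namespace Groth.Agent.S7582

open Groth.Agent.Lib.Helper12 TopologicalSpace

/-- Let X be a topological space and c : X → X′ the canonical map to its soberification (X′ =
irreducible closed subsets of X, with opens the sets of those meeting a given open of X; c(x) =
closure of {x}). Then X′ is sober, c is continuous, the rule U′ ↦ c⁻¹(U′) is a bijection from the
open subsets of X′ onto the open subsets of X (it automatically respects finite intersections and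
arbitrary unions), and every continuous map from X to a sober space Y is of the form g ∘ c for a
continuous g : X′ → Y. The published statement also asserts that g is unique and that c(X) is a
Kolmogorov space universal for maps to Kolmogorov spaces; this row omits those clauses and lets Y
range over the universe of X. -/
theorem result (X : Type u) [TopologicalSpace X] :
    QuasiSober (PtTop.Sob X) ∧ T0Space (PtTop.Sob X) ∧ Continuous (PtTop.toSob X) ∧
    Set.BijOn (fun U' : Set (PtTop.Sob X) => PtTop.toSob X ⁻¹' U') {U' | IsOpen U'} {U : Set X | IsOpen U} ∧
    ∀ (Y : Type u) [TopologicalSpace Y] [QuasiSober Y] [T0Space Y] (f : X → Y), Continuous f →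
      ∃ g : PtTop.Sob X → Y, Continuous g ∧ g ∘ PtTop.toSob X = f := by
  refine ⟨quasiSober_sob, t0Space_sob, continuous_toSob, ⟨?_, ?_, ?_⟩, ?_⟩
  · intro S hS
    exact (show IsOpen S from hS).preimage continuous_toSob
  · intro S hS T hT hST
    have hS' : IsOpen S := hS
    have hT' : IsOpen T := hT
    have hST' : toSob X ⁻¹' S = toSob X ⁻¹' T := hST
    rw [eq_sobD_preimage hS', eq_sobD_preimage hT', hST']
  · intro U hU
    have hU' : IsOpen U := hU
    exact ⟨sobD U, isOpen_sobD hU', preimage_sobD hU'⟩
  · intro Y _ _ _ f hf
    have hirr : ∀ Z : Sob X, IsIrreducible (f '' ((show IrreducibleCloseds X from Z) : Set X)) :=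
      fun Z => (show IrreducibleCloseds X from Z).isIrreducible.image f hf.continuousOn
    refine ⟨fun Z => (hirr Z).genericPoint, ⟨fun V hV => ?_⟩, ?_⟩
    · have : (fun Z => (hirr Z).genericPoint) ⁻¹' V = sobD (f ⁻¹' V) := by
        ext Z
        have hgen := (hirr Z).isGenericPoint_genericPoint_closure
        simp only [Set.mem_preimage]
        rw [hgen.mem_open_set_iff hV, mem_sobD]
        constructor
        · rintro ⟨y, hy1, hy2⟩
          obtain ⟨z, hz1, hz2⟩ := mem_closure_iff.mp hy1 V hV hy2
          obtain ⟨x, hx, rfl⟩ := hz2
          exact ⟨x, hx, hz1⟩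
        · rintro ⟨x, hx1, hx2⟩
          exact ⟨f x, subset_closure ⟨x, hx1, rfl⟩, hx2⟩
      rw [this]
      exact isOpen_sobD (hV.preimage hf)
    · funext x
      have hgen := (hirr (toSob X x)).isGenericPoint_genericPoint_closure
      have h2 : IsGenericPoint (f x)
          (closure (f '' ((show IrreducibleCloseds X from toSob X x) : Set X))) := by
        have : IsGenericPoint x ((show IrreducibleCloseds X from toSob X x) : Set X) := rfl
        exact this.image hf
      exact hgen.eq h2

end Groth.Agent.S7582
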