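import Groth.Statements.S7586
import Groth.Agent.Lib.Helper12.ShB

set_option autoImplicit false
universe u
open ShSp

namespace Groth.Agent.S7586

open TopologicalSpace ShB

/-- The covering datum with the same members as `c` and with each pairwise intersection covered
by itself. -/
def interCover {X : Type u} [TopologicalSpace X] {B : Set (TopologicalSpace.Opens X)}
    (hBi : ∀ U ∈ B, ∀ U' ∈ B, ∀ U'' ∈ B, U' ≤ U → U'' ≤ U → U' ⊓ U'' ∈ B) (c : ShB.Cover B) :
    ShB.Cover B where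
  U := c.U
  ι := c.ι
  V := c.V
  V_le := c.V_le
  V_cover := c.V_cover
  κ _ _ := PUnit
  W i j _ := ⟨(c.V i : Opens X) ⊓ c.V j,
    hBi c.U c.U.2 _ (c.V i).2 _ (c.V j).2 (c.V_le i) (c.V_le j)⟩
  W_le_left _ _ _ := inf_le_left
  W_le_right _ _ _ := inf_le_right
  W_cover i j := by
    intro x hx
    exact Opens.mem_iSup.mpr ⟨PUnit.unit, hx⟩

/-- Let X be a topological space and ℬ a basis for its topology such that for U, U′, U″ ∈ ℬ with U′ ⊆ U
and U″ ⊆ U one has U′ ∩ U″ ∈ ℬ. For each U ∈ ℬ let C(U) be a cofinal system of coverings of U by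
members of ℬ, and let F be a presheaf of sets on ℬ. Then F is a sheaf on ℬ if and only if for every
U ∈ ℬ, every covering U = ⋃ U_i in C(U) and every family of sections s_i ∈ F(U_i) with s_i and s_j
having the same restriction to U_i ∩ U_j, there is a unique s ∈ F(U) restricting to s_i on each U_i. -/
theorem result {X : Type u} [TopologicalSpace X] {B : Set (TopologicalSpace.Opens X)}
    (hB : TopologicalSpace.Opens.IsBasis B)
    (hBi : ∀ U ∈ B, ∀ U' ∈ B, ∀ U'' ∈ B, U' ≤ U → U'' ≤ U → U' ⊓ U'' ∈ B)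
    (F : ShB.Pre B)
    (C : ∀ U : B, Set (ShB.Cover B)) (hCU : ∀ U, ∀ c ∈ C U, c.U = U)
    (hC : ∀ (U : B) (ι : Type u) (V : ι → B), (∀ i, (V i : TopologicalSpace.Opens X) ≤ (U : TopologicalSpace.Opens X)) →
      (U : TopologicalSpace.Opens X) ≤ ⨆ i, (V i : TopologicalSpace.Opens X) →
      ∃ c ∈ C U, ∀ i' : c.ι, ∃ i, (c.V i' : TopologicalSpace.Opens X) ≤ (V i : TopologicalSpace.Opens X)) :
    ShB.IsSheaf F ↔ ∀ (U : B), ∀ c ∈ C U, ∀ s : ∀ i, F.obj (c.V i),
      (∀ i j, F.res (U := c.V i) (V := ⟨(c.V i : TopologicalSpace.Opens X) ⊓ c.V j,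
          hBi c.U c.U.2 _ (c.V i).2 _ (c.V j).2 (c.V_le i) (c.V_le j)⟩) inf_le_left (s i) =
        F.res (U := c.V j) (V := ⟨(c.V i : TopologicalSpace.Opens X) ⊓ c.V j,
          hBi c.U c.U.2 _ (c.V i).2 _ (c.V j).2 (c.V_le i) (c.V_le j)⟩) inf_le_right (s j)) →
      ∃! t : F.obj c.U, ∀ i, F.res (c.V_le i) t = s i := by
  constructor
  · intro hF U c _ s hs
    exact hF (interCover hBi c) s (fun i j _ => hs i j)
  · intro H
    refine Groth.Agent.Lib.Helper12.isSheaf_of_cofinal hB F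
      (fun U => {c' | ∃ c ∈ C U, c' = interCover hBi c}) ?_ ?_ ?_
    · rintro U c' ⟨c, hc, rfl⟩
      exact hCU U c hc
    · intro U ι V hle hcov
      obtain ⟨c, hc, href⟩ := hC U ι V hle hcov
      exact ⟨interCover hBi c, ⟨c, hc, rfl⟩, href⟩
    · rintro U c' ⟨c, hc, rfl⟩ s hs
      exact H U c hc s (fun i j => hs i j PUnit.unit)

end Groth.Agent.S7586
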