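import Groth.Statements.S7587
import Groth.Agent.Lib.Helper12.ShB

set_option autoImplicit false
universe u
open ShSp

namespace Groth.Agent.S7587

open TopologicalSpace ShB Groth.Agent.Lib.Helper12

/-- Let X be a topological space, ℬ a basis for its topology, U ∈ ℬ and F a sheaf of sets on ℬ. Sending
a section over U to its germs at the points of U, a map from F(U) into the product of the stalks F_x
over x ∈ U, puts F(U) in bijection with those germ families (s_x)_{x ∈ U} that satisfy (*): each x ∈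
U lies in some V ∈ ℬ contained in U carrying a section σ ∈ F(V) whose germ at every y ∈ V equals
s_y. That is, the map is injective and its image is exactly the set of such families. -/
theorem result {X : Type u} [TopologicalSpace X] {B : Set (TopologicalSpace.Opens X)}
    (hB : TopologicalSpace.Opens.IsBasis B) (F : ShB.Pre B) (hF : ShB.IsSheaf F) (U : B) :
    Function.Injective (fun (s : F.obj U) (x : (U : TopologicalSpace.Opens X)) => ShB.germ F x.1 x.2 s) ∧
    ∀ f : ∀ x : (U : TopologicalSpace.Opens X), ShB.Stalk F x.1,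
      (∃ s : F.obj U, ∀ x, ShB.germ F x.1 x.2 s = f x) ↔
      ∀ x : (U : TopologicalSpace.Opens X), ∃ (V : B) (hxV : x.1 ∈ (V : TopologicalSpace.Opens X))
        (hVU : (V : TopologicalSpace.Opens X) ≤ (U : TopologicalSpace.Opens X)) (σ : F.obj V),
        ∀ (y : X) (hy : y ∈ (V : TopologicalSpace.Opens X)), ShB.germ F y hy σ = f ⟨y, hVU hy⟩ := by
  have hsep := IsSheaf.isSepB hB hF
  refine ⟨fun s s' h => ?_, fun f => ⟨?_, ?_⟩⟩
  · apply hsep
    intro x hx
    have hx' := congrFun h ⟨x, hx⟩
    obtain ⟨W, hxW, ha, hb, hres⟩ := (germ_eq_iff hB F x hx hx s s').mp hx'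
    exact ⟨W, ha, hxW, hres⟩
  · rintro ⟨s, hs⟩ x
    exact ⟨U, x.2, le_rfl, s, fun y hy => hs ⟨y, hy⟩⟩
  · intro h
    choose V hxV hVU σ hσ using h
    have hW : ∀ (x x' : (U : Opens X)) (y : ↥((V x : Opens X) ⊓ (V x' : Opens X))),
        ∃ (W : B) (_ : y.1 ∈ (W : Opens X)) (ha : (W : Opens X) ≤ (V x : Opens X))
          (hb : (W : Opens X) ≤ (V x' : Opens X)), F.res ha (σ x) = F.res hb (σ x') := by
      intro x x' y
      refine (germ_eq_iff hB F y.1 y.2.1 y.2.2 (σ x) (σ x')).mp ?_
      rw [hσ x y.1 y.2.1, hσ x' y.1 y.2.2]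
    choose W hyW hWl hWr hWres using hW
    let c : Cover B :=
      { U := U
        ι := ↥(U : Opens X)
        V := V
        V_le := hVU
        V_cover := fun x hx => Opens.mem_iSup.mpr ⟨⟨x, hx⟩, hxV ⟨x, hx⟩⟩
        κ := fun x x' => ↥((V x : Opens X) ⊓ (V x' : Opens X))
        W := W
        W_le_left := hWl
        W_le_right := hWr
        W_cover := fun x x' y hy => Opens.mem_iSup.mpr ⟨⟨y, hy⟩, hyW x x' ⟨y, hy⟩⟩ }
    obtain ⟨t, ht, -⟩ := hF c σ hWres
    refine ⟨t, fun x => ?_⟩
    have h1 := germ_res F x.1 (hxV x) (hVU x) t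
    have h2 : F.res (hVU x) t = σ x := ht x
    rw [h2] at h1
    rw [← h1]
    exact hσ x x.1 (hxV x)

end Groth.Agent.S7587
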