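import Groth.Statements.S7589
-- import your own Groth.Agent.* helpers here
import Mathlib
import Groth.Agent.Lib.Helper12.BaseChange

set_option autoImplicit false
universe u
open CategoryTheory CategoryTheory.Limits AlgebraicGeometry
attribute [local instance] Curv2.stalkAlgebra Curv2.resAlgebra
open Variety

namespace Groth.Agent.S7589

open Groth.Agent.Lib.Helper12 TensorProduct

/-- Let X be locally of finite type over a field k, K an extension field of k, y a point of the base
change X_K and x its image in X; write a = trdeg_k κ(x) and a' = trdeg_K κ(y). Then dim O_{X_K, y} +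
a' = dim O_{X, x} + a, and the fibre ring O_{X_K, y} / m_x O_{X_K, y} has Krull dimension a - a' (in
particular a' ≤ a); dimensions in WithBot ℕ∞. -/
theorem result (k : Type u) [Field k] (X : Scheme.{u}) [X.Over (Spec (CommRingCat.of k))] [LocallyOfFiniteType (X ↘ (Spec (CommRingCat.of k)))]
    (K : Type u) [Field K] [Algebra k K] (y : ↥(Curv2.bc k X K)) (a a' : ℕ)
    (ha : Algebra.trdeg k (X.residueField (Curv2.bcFst k X K y)) = a)
    (ha' : letI : (Curv2.bc k X K).Over (Spec (CommRingCat.of K)) := ⟨Curv2.bcSnd k X K⟩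
      Algebra.trdeg K ((Curv2.bc k X K).residueField y) = a') :
    ringKrullDim ((Curv2.bc k X K).presheaf.stalk y) + (a' : WithBot ℕ∞) =
        ringKrullDim (X.presheaf.stalk (Curv2.bcFst k X K y)) + (a : WithBot ℕ∞) ∧
      ringKrullDim (↥((Curv2.bc k X K).presheaf.stalk y) ⧸ Ideal.map ((Curv2.bcFst k X K).stalkMap y).hom (IsLocalRing.maximalIdeal ↥(X.presheaf.stalk (Curv2.bcFst k X K y)))) + (a' : WithBot ℕ∞) =
        (a : WithBot ℕ∞) := by
  obtain ⟨U, hU, hy⟩ := SchemeDimFT.exists_affineOpen_mem X (Curv2.bcFst k X K y)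
  letI := SchemeDimFT.secAlgebra k X U
  haveI := SchemeDimFT.finiteType_sec k X U hU
  letI ovK : (Curv2.bc k X K).Over (Spec (CommRingCat.of K)) := ⟨Curv2.bcSnd k X K⟩
  have hV := BaseChange.isAffineOpen_preimage k X K U hU
  obtain ⟨m, hm1, hm2⟩ := SchemeDimFT.exists_trdeg_eq_coheight k X U hU _ hy
  obtain ⟨m', hm1', hm2'⟩ := SchemeDimFT.exists_trdeg_eq_coheight K (Curv2.bc k X K)
    ((Curv2.bcFst k X K) ⁻¹ᵁ U) hV y hy
  have hma : m = a := by
    have : (m : Cardinal.{u}) = (a : Cardinal.{u}) := hm1.symm.trans ha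
    exact_mod_cast this
  have hma' : m' = a' := by
    have : (m' : Cardinal.{u}) = (a' : Cardinal.{u}) := hm1'.symm.trans ha'
    exact_mod_cast this
  subst hma hma'
  constructor
  · rw [BaseChange.ringKrullDim_stalk_eq_height _ hV ⟨y, hy⟩,
      BaseChange.ringKrullDim_stalk_eq_height U hU ⟨_, hy⟩]
    have h := BaseChange.height_add_coheight_bc k X K U hU y hy
    rw [hm2, hm2'] at h
    exact_mod_cast h
  · rw [BaseChange.ringKrullDim_fibre_stalk k X K U hU y hy]
    haveI := BaseChange.tensorPrime_liesOver k X K U hU y hy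
    have h := DimFT2.height_fibre_add_coheight k Γ(X, U) K
      (hU.primeIdealOf ⟨Curv2.bcFst k X K y, hy⟩).asIdeal
      (BaseChange.tensorPrime k X K U hU y hy).asIdeal
    have h2 := BaseChange.coheight_tensorPrime k X K U hU y hy
    have h3 : Order.coheight (⟨(BaseChange.tensorPrime k X K U hU y hy).asIdeal, inferInstance⟩ :
        PrimeSpectrum (Γ(X, U) ⊗[k] K)) = m' := by
      rw [← hm2', ← h2]
    have h4 : Order.coheight (⟨(hU.primeIdealOf ⟨Curv2.bcFst k X K y, hy⟩).asIdeal, inferInstance⟩ :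
        PrimeSpectrum Γ(X, U)) = m := hm2
    rw [h3, h4] at h
    exact_mod_cast h

end Groth.Agent.S7589
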