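import Groth.Statements.S7591
import Mathlib
import Groth.Agent.Lib.Helper11.ConnLevels

set_option autoImplicit false
universe u
open CategoryTheory CategoryTheory.Limits AlgebraicGeometry
open Variety

namespace Groth.Agent.S7591

open Groth.Agent.Lib.Helper11.FBaseLib Groth.Agent.Lib.Helper11.FBaseLib2
  Groth.Agent.Lib.Helper11.BcLevels Groth.Agent.Lib.Helper11.GeomSep
  Groth.Agent.Lib.Helper11.ConnLevels

/-- For a scheme X over a field k, geometric connectedness of X over k holds exactly when, for each
finite separable extension field k' of k, the base change X_{k'} is a connected (so nonempty)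
scheme. -/
theorem result (k : Type u) [Field k] (X : Scheme.{u}) [X.Over (Spec (CommRingCat.of k))] :
    GeometricallyConnected (X ↘ (Spec (CommRingCat.of k))) ↔
      ∀ (k' : Type u) [Field k'] [Algebra k k'] [FiniteDimensional k k'] [Algebra.IsSeparable k k'],
        ConnectedSpace ↥(Curv2.bc k X k') := by

  constructor
  · intro hgc k' _ _ _ _
    exact pullback_of_geometrically hgc.1 k' (Spec.map (CommRingCat.ofHom (algebraMap k k')))
  · intro h
    haveI : ConnectedSpace ↥(FBase.bc (X ↘ Spec (CommRingCat.of k)) (SeparableClosure k)) :=
      connectedSpace_of_levels (X ↘ Spec (CommRingCat.of k)) (SeparableClosure k)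
        (fun L hL => by
          haveI := hL
          exact h ↥L)
    exact geometricallyConnected_of_sepClosure (X ↘ Spec (CommRingCat.of k))

end Groth.Agent.S7591
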