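import Groth.Statements.S7592
import Mathlib
import Groth.Agent.S1584
import Groth.Agent.Lib.Helper11.GalInv

set_option autoImplicit false
universe u
open CategoryTheory CategoryTheory.Limits AlgebraicGeometry
open Variety

namespace Groth.Agent.S7592

open Groth.Agent.Lib.Helper11.FBaseLib Groth.Agent.Lib.Helper11.FBaseLib2
  Groth.Agent.Lib.Helper11.BcLevels Groth.Agent.Lib.Helper11.SepFibre
  Groth.Agent.Lib.Helper11.GalComp Groth.Agent.Lib.Helper11.GalInv
  Groth.Agent.Lib.Helper11.GalOrbit Groth.Agent.Lib.Helper11.GalConn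

theorem core {k : Type u} [Field k] {X T : Scheme.{u}} (a : X ⟶ Spec (CommRingCat.of k))
    (b : T ⟶ Spec (CommRingCat.of k)) (g : T ⟶ X) (hg : g ≫ a = b)
    (K : Type u) [Field K] [Algebra k K] [Algebra.IsIntegral k K] [Normal k K]
    [ConnectedSpace ↥(FBase.bc b K)] [ConnectedSpace ↥X] : ConnectedSpace ↥(FBase.bc a K) := by
  obtain ⟨t₀⟩ : Nonempty ↥(FBase.bc b K) := inferInstance
  set F := bcFun a b g hg K with hF
  set y₀ := F t₀ with hy₀
  have hrange : Set.range F ⊆ connectedComponent y₀ := by
    have h1 : _root_.IsPreconnected (F '' Set.univ) :=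
      isPreconnected_univ.image F F.continuous.continuousOn
    rw [Set.image_univ] at h1
    exact h1.subset_connectedComponent ⟨t₀, rfl⟩
  have hinv : ∀ σ : K ≃ₐ[k] K,
      (bcHom a (σ : K →ₐ[k] K)) '' connectedComponent y₀ = connectedComponent y₀ := by
    intro σ
    have h1 := image_connectedComponent_homeomorph (galHomeo a σ) y₀
    have h2 : (galHomeo a σ) y₀ ∈ connectedComponent y₀ := by
      apply hrange
      refine ⟨(bcHom b (σ : K →ₐ[k] K)) t₀, ?_⟩
      show (bcFun a b g hg K) ((bcHom b (σ : K →ₐ[k] K)) t₀) =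
        (bcHom a (σ : K →ₐ[k] K)) ((bcFun a b g hg K) t₀)
      rw [← Scheme.Hom.comp_apply, ← Scheme.Hom.comp_apply, bcFun_bcHom]
    have h3 : (galHomeo a σ) '' connectedComponent y₀ = connectedComponent y₀ := by
      rw [h1, ← connectedComponent_eq h2]
    exact h3
  have h1 := preimage_connectedComponent_eq_of_invariant a K y₀ hinv
  rw [PreconnectedSpace.connectedComponent_eq_univ, Set.preimage_univ] at h1
  refine connectedSpace_iff_univ.mpr ?_
  rw [h1]
  exact isConnected_connectedComponent

/-- Let K be a (possibly infinite) Galois extension of a field k and f : T → X a morphism of schemes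
over k. If the base change T_K is connected and X_K is not connected, then X is not connected. -/
theorem result (k : Type u) [Field k] (K : Type u) [Field K] [Algebra k K] [IsGalois k K]
    (T X : Scheme.{u}) [T.Over (Spec (CommRingCat.of k))] [X.Over (Spec (CommRingCat.of k))]
    (f : T ⟶ X) [f.IsOver (Spec (CommRingCat.of k))]
    [ConnectedSpace ↥(Curv2.bc k T K)] (hX : ¬ ConnectedSpace ↥(Curv2.bc k X K)) :
    ¬ ConnectedSpace ↥X := by

  intro hconn
  apply hX
  haveI : ConnectedSpace ↥(FBase.bc (T ↘ Spec (CommRingCat.of k)) K) :=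
    inferInstanceAs (ConnectedSpace ↥(Curv2.bc k T K))
  exact core (X ↘ Spec (CommRingCat.of k)) (T ↘ Spec (CommRingCat.of k)) f
    (comp_over f (Spec (CommRingCat.of k))) K

end Groth.Agent.S7592
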