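import Groth.Statements.S7593
import Mathlib
import Groth.Agent.S1584
import Groth.Agent.Lib.Helper11.GalInv

set_option autoImplicit false
universe u
open CategoryTheory CategoryTheory.Limits AlgebraicGeometry
open Variety

namespace Groth.Agent.S7593

open Groth.Agent.Lib.Helper11.FBaseLib Groth.Agent.Lib.Helper11.FBaseLib2
  Groth.Agent.Lib.Helper11.BcLevels Groth.Agent.Lib.Helper11.SepFibre
  Groth.Agent.Lib.Helper11.GalComp Groth.Agent.Lib.Helper11.GalInv
  Groth.Agent.Lib.Helper11.GalOrbit

theorem core {k : Type u} [Field k] {X : Scheme.{u}} (a : X ⟶ Spec (CommRingCat.of k))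
    (t : ↥(FBase.bc a (SeparableClosure k))) :
    (∀ σ : SeparableClosure k ≃ₐ[k] SeparableClosure k,
        ⇑(bcHom a (σ : SeparableClosure k →ₐ[k] SeparableClosure k)) '' connectedComponent t =
          connectedComponent t) ↔
      (⇑(FBase.bcπ a (SeparableClosure k)) ⁻¹'
          connectedComponent ((FBase.bcπ a (SeparableClosure k)) t) = connectedComponent t ∧
        ∀ (K' : Type u) [Field K'] [Algebra k K'],
          _root_.IsConnected (⇑(FBase.bcπ a K') ⁻¹'
            connectedComponent ((FBase.bcπ a (SeparableClosure k)) t))) := by
  constructor
  · intro hinv
    have h1 := preimage_connectedComponent_eq_of_invariant a (SeparableClosure k) t hinv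
    refine ⟨h1, ?_⟩
    intro K' _ _
    refine isConnected_preimage_connectedComponent_of_sepClosure a K'
      (S := connectedComponent ((FBase.bcπ a (SeparableClosure k)) t)) mem_connectedComponent ?_
    rw [h1]
    exact isPreconnected_connectedComponent
  · rintro ⟨h1, -⟩ σ
    rw [← h1]
    exact image_preimage_bcHom a σ _

/-- Let k̄ be a separable algebraic closure of a field k, X a scheme over k and t a point of X_{k̄} with
image x in X. The connected component of t is mapped onto itself by the action of every
k-automorphism of k̄ if and only if it equals the full inverse image of the connected component T of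
x in X and T is geometrically connected over k (the inverse image of T in X_K is connected for every
extension field K of k). -/
theorem result (k : Type u) [Field k] (X : Scheme.{u}) [X.Over (Spec (CommRingCat.of k))] (t : ↥(Curv2.bc k X (SeparableClosure k))) :
    (∀ σ : SeparableClosure k ≃ₐ[k] SeparableClosure k,
        (Curv2.galAct k X (SeparableClosure k) σ).base '' connectedComponent t = connectedComponent t) ↔
      ((Curv2.bcFst k X (SeparableClosure k)).base ⁻¹' connectedComponent (Curv2.bcFst k X (SeparableClosure k) t) = connectedComponent t ∧
        ∀ (K : Type u) [Field K] [Algebra k K],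
          _root_.IsConnected ((Curv2.bcFst k X K).base ⁻¹' connectedComponent (Curv2.bcFst k X (SeparableClosure k) t))) := by

  simp only [Groth.Agent.S1584.galAct_eq]
  exact core (X ↘ Spec (CommRingCat.of k)) t

end Groth.Agent.S7593
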