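import Groth.Statements.S7594
import Mathlib
import Groth.Agent.Lib.Helper11.GalInv
import Groth.Agent.Lib.Helper11.FibreCount

set_option autoImplicit false
universe u
open CategoryTheory CategoryTheory.Limits AlgebraicGeometry
open Variety

namespace Groth.Agent.S7594

open Groth.Agent.Lib.Helper11.FBaseLib Groth.Agent.Lib.Helper11.FBaseLib2
  Groth.Agent.Lib.Helper11.BcLevels Groth.Agent.Lib.Helper11.GeomSep
  Groth.Agent.Lib.Helper11.SepFibre Groth.Agent.Lib.Helper11.GalComp
  Groth.Agent.Lib.Helper11.GalOrbit Groth.Agent.Lib.Helper11.GalInv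
  Groth.Agent.Lib.Helper11.FibreCount

theorem eq_of_specializes_genericPoint {Y : Type*} [TopologicalSpace Y] [T0Space Y] {Z : Set Y}
    (hZ : Z ∈ irreducibleComponents Y) {η y : Y} (hη : IsGenericPoint η Z) (h : y ⤳ η) : y = η := by
  have h1 : Z ⊆ closure {y} := by
    rw [← hη.def]
    exact closure_minimal (Set.singleton_subset_iff.mpr h.mem_closure) isClosed_closure
  have h2 : closure {y} ⊆ Z := hZ.2 isIrreducible_singleton.closure h1
  have h3 : IsGenericPoint y Z := Set.Subset.antisymm h2 h1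
  exact h3.eq hη

theorem irreducibleSpace_of_components_eq {Y : Type*} [TopologicalSpace Y] [Nonempty Y]
    (h : ∀ Z₁ ∈ irreducibleComponents Y, ∀ Z₂ ∈ irreducibleComponents Y, Z₁ = Z₂) :
    IrreducibleSpace Y := by
  obtain ⟨y₀⟩ : Nonempty Y := inferInstance
  obtain ⟨T', hT', -⟩ := exists_mem_irreducibleComponents_subset_of_isIrreducible {y₀}
    isIrreducible_singleton
  have huniv : (Set.univ : Set Y) = T' := by
    rw [← sUnion_irreducibleComponents]
    apply Set.Subset.antisymm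
    · rintro z ⟨T'', hT'', hz⟩
      rw [← h T'' hT'' T' hT']
      exact hz
    · intro z hz
      exact ⟨T', hT', hz⟩
  rw [irreducibleSpace_def]
  show IsIrreducible (Set.univ : Set Y)
  rw [huniv]
  exact hT'.1

section Prod

variable {k : Type u} [Field k] {X : Scheme.{u}} (a : X ⟶ Spec (CommRingCat.of k))
  (K : Type u) [Field K] [Algebra k K]

/-- structure map of `X ×_k X` -/
noncomputable def a₂ : pullback a a ⟶ Spec (CommRingCat.of k) := pullback.fst a a ≫ a

lemma fst_a : pullback.fst a a ≫ a = a₂ a := rfl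

lemma snd_a : pullback.snd a a ≫ a = a₂ a := pullback.condition.symm

/-- any two points of `X_K` are the projections of a point of `(X ×_k X)_K` -/
theorem exists_point_over (y₁ y₂ : ↥(FBase.bc a K)) :
    ∃ w : ↥(FBase.bc (a₂ a) K),
      (bcFun a (a₂ a) (pullback.fst a a) (fst_a a) K) w = y₁ ∧
      (bcFun a (a₂ a) (pullback.snd a a) (snd_a a) K) w = y₂ := by
  let s := Spec.map (CommRingCat.ofHom (algebraMap k K))
  haveI : Subsingleton ↥(Spec (CommRingCat.of K)) := inferInstanceAs (Subsingleton (PrimeSpectrum K))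
  obtain ⟨z, hz1, hz2⟩ := Scheme.Pullback.exists_preimage_pullback
    (f := FBase.bcStr a K) (g := FBase.bcStr a K) y₁ y₂ (Subsingleton.elim _ _)
  let Q := pullback (FBase.bcStr a K) (FBase.bcStr a K)
  have hcond : (pullback.fst (FBase.bcStr a K) (FBase.bcStr a K) ≫ FBase.bcπ a K) ≫ a =
      (pullback.snd (FBase.bcStr a K) (FBase.bcStr a K) ≫ FBase.bcπ a K) ≫ a := by
    have hc : FBase.bcπ a K ≫ a = FBase.bcStr a K ≫ s := pullback.condition
    rw [Category.assoc, Category.assoc, hc, ← Category.assoc, ← Category.assoc, pullback.condition]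
  let v : Q ⟶ pullback a a :=
    pullback.lift (pullback.fst (FBase.bcStr a K) (FBase.bcStr a K) ≫ FBase.bcπ a K)
      (pullback.snd (FBase.bcStr a K) (FBase.bcStr a K) ≫ FBase.bcπ a K) hcond
  have hv1 : v ≫ pullback.fst a a =
      pullback.fst (FBase.bcStr a K) (FBase.bcStr a K) ≫ FBase.bcπ a K := pullback.lift_fst _ _ _
  have hv2 : v ≫ pullback.snd a a =
      pullback.snd (FBase.bcStr a K) (FBase.bcStr a K) ≫ FBase.bcπ a K := pullback.lift_snd _ _ _
  have hcond2 : v ≫ a₂ a =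
      (pullback.fst (FBase.bcStr a K) (FBase.bcStr a K) ≫ FBase.bcStr a K) ≫ s := by
    have hc : FBase.bcπ a K ≫ a = FBase.bcStr a K ≫ s := pullback.condition
    unfold a₂
    rw [← Category.assoc, hv1, Category.assoc, hc, Category.assoc]
  let m : Q ⟶ FBase.bc (a₂ a) K :=
    pullback.lift v (pullback.fst (FBase.bcStr a K) (FBase.bcStr a K) ≫ FBase.bcStr a K) hcond2
  have hm1 : m ≫ FBase.bcπ (a₂ a) K = v := pullback.lift_fst _ _ _
  have hm2 : m ≫ FBase.bcStr (a₂ a) K =
      pullback.fst (FBase.bcStr a K) (FBase.bcStr a K) ≫ FBase.bcStr a K := pullback.lift_snd _ _ _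
  have hP1 : m ≫ bcFun a (a₂ a) (pullback.fst a a) (fst_a a) K =
      pullback.fst (FBase.bcStr a K) (FBase.bcStr a K) := by
    apply pullback.hom_ext
    · change _ ≫ FBase.bcπ a K = _ ≫ FBase.bcπ a K
      rw [Category.assoc, bcFun_π, ← Category.assoc, hm1, hv1]
    · change _ ≫ FBase.bcStr a K = _ ≫ FBase.bcStr a K
      rw [Category.assoc, bcFun_str, hm2]
  have hP2 : m ≫ bcFun a (a₂ a) (pullback.snd a a) (snd_a a) K =
      pullback.snd (FBase.bcStr a K) (FBase.bcStr a K) := by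
    apply pullback.hom_ext
    · change _ ≫ FBase.bcπ a K = _ ≫ FBase.bcπ a K
      rw [Category.assoc, bcFun_π, ← Category.assoc, hm1, hv2]
    · change _ ≫ FBase.bcStr a K = _ ≫ FBase.bcStr a K
      rw [Category.assoc, bcFun_str, hm2, pullback.condition]
  refine ⟨m z, ?_, ?_⟩
  · rw [← Scheme.Hom.comp_apply, hP1]
    exact hz1
  · rw [← Scheme.Hom.comp_apply, hP2]
    exact hz2

end Prod

theorem core {k : Type u} [Field k] {X : Scheme.{u}} (a : X ⟶ Spec (CommRingCat.of k))
    [IrreducibleSpace ↥(pullback a a)] : GeometricallyIrreducible a := by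
  classical
  let K := SeparableClosure k
  obtain ⟨v₀⟩ : Nonempty ↥(pullback a a) := inferInstance
  haveI : Nonempty ↥X := ⟨pullback.fst a a v₀⟩
  obtain ⟨z₀, -⟩ := (FBase.bcπ a K).surjective (pullback.fst a a v₀)
  haveI : Nonempty ↥(FBase.bc a K) := ⟨z₀⟩
  set P₁ := bcFun a (a₂ a) (pullback.fst a a) (fst_a a) K with hP₁
  set P₂ := bcFun a (a₂ a) (pullback.snd a a) (snd_a a) K with hP₂
  have huniv : (Set.univ : Set ↥(pullback a a)) ∈ irreducibleComponents ↥(pullback a a) := by
    rw [irreducibleComponents_eq_singleton]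
    rfl
  have horbit := (orbit_components (a₂ a) K Set.univ huniv).2
  haveI : IrreducibleSpace ↥(FBase.bc a K) := by
    refine irreducibleSpace_of_components_eq ?_
    intro Z₁ hZ₁ Z₂ hZ₂
    obtain ⟨η₁, hη₁⟩ := QuasiSober.sober hZ₁.1 (isClosed_of_mem_irreducibleComponents Z₁ hZ₁)
    obtain ⟨η₂, hη₂⟩ := QuasiSober.sober hZ₂.1 (isClosed_of_mem_irreducibleComponents Z₂ hZ₂)
    obtain ⟨w₀, hw₀1, hw₀2⟩ := exists_point_over a K η₁ η₁
    obtain ⟨w', hw'1, hw'2⟩ := exists_point_over a K η₁ η₂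
    obtain ⟨W₀, hW₀, hw₀W₀⟩ := exists_mem_irreducibleComponents_subset_of_isIrreducible {w₀}
      isIrreducible_singleton
    obtain ⟨W', hW', hw'W'⟩ := exists_mem_irreducibleComponents_subset_of_isIrreducible {w'}
      isIrreducible_singleton
    obtain ⟨ω₀, hω₀⟩ := QuasiSober.sober hW₀.1 (isClosed_of_mem_irreducibleComponents W₀ hW₀)
    obtain ⟨ω', hω'⟩ := QuasiSober.sober hW'.1 (isClosed_of_mem_irreducibleComponents W' hW')
    have s₀ : ω₀ ⤳ w₀ := hω₀.specializes (hw₀W₀ rfl)
    have s' : ω' ⤳ w' := hω'.specializes (hw'W' rfl)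
    have e1 : P₁ ω₀ = η₁ := eq_of_specializes_genericPoint hZ₁ hη₁
      (hw₀1 ▸ s₀.map P₁.continuous)
    have e2 : P₂ ω₀ = η₁ := eq_of_specializes_genericPoint hZ₁ hη₁
      (hw₀2 ▸ s₀.map P₂.continuous)
    have e3 : P₁ ω' = η₁ := eq_of_specializes_genericPoint hZ₁ hη₁
      (hw'1 ▸ s'.map P₁.continuous)
    have e4 : P₂ ω' = η₂ := eq_of_specializes_genericPoint hZ₂ hη₂
      (hw'2 ▸ s'.map P₂.continuous)
    obtain ⟨σ, hσ⟩ := horbit W₀ W' hW₀ hW' (Set.subset_univ _) (Set.subset_univ _)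
    have hg := isGenericPoint_bcHom (a₂ a) σ hω₀
    rw [hσ] at hg
    have hωeq : (bcHom (a₂ a) (σ : K →ₐ[k] K)) ω₀ = ω' := hg.eq hω'
    have c1 : P₁ ((bcHom (a₂ a) (σ : K →ₐ[k] K)) ω₀) = (bcHom a (σ : K →ₐ[k] K)) (P₁ ω₀) := by
      rw [← Scheme.Hom.comp_apply, ← Scheme.Hom.comp_apply, hP₁, bcFun_bcHom]
    have c2 : P₂ ((bcHom (a₂ a) (σ : K →ₐ[k] K)) ω₀) = (bcHom a (σ : K →ₐ[k] K)) (P₂ ω₀) := by
      rw [← Scheme.Hom.comp_apply, ← Scheme.Hom.comp_apply, hP₂, bcFun_bcHom]
    rw [hωeq, e3, e1] at c1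
    rw [hωeq, e4, e2] at c2
    have : η₁ = η₂ := c1.trans c2.symm
    rw [← hη₁.def, ← hη₂.def, this]
  exact geometricallyIrreducible_of_sepClosure a

/-- A scheme X over a field k is geometrically irreducible over k precisely when the fibre product X ×_k
X of X with itself is an irreducible scheme. -/
theorem result (k : Type u) [Field k] (X : Scheme.{u}) [X.Over (Spec (CommRingCat.of k))] :
    GeometricallyIrreducible (X ↘ (Spec (CommRingCat.of k))) ↔ IrreducibleSpace ↥(pullback (X ↘ (Spec (CommRingCat.of k))) (X ↘ (Spec (CommRingCat.of k)))) := by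

  constructor
  · intro hgi
    haveI : IrreducibleSpace ↥X :=
      GeometricallyIrreducible.irreducibleSpace_of_subsingleton (X ↘ Spec (CommRingCat.of k))
    infer_instance
  · intro h
    exact core (X ↘ Spec (CommRingCat.of k))

end Groth.Agent.S7594
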