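import Groth.Statements.S7595
import Mathlib.AlgebraicGeometry.Morphisms.UniversallyOpen

set_option autoImplicit false
universe u
open CategoryTheory CategoryTheory.Limits AlgebraicGeometry
open Variety

namespace Groth.Agent.S7595

/-- Topological core: for a continuous generalizing map `f : Y → X` with `X` quasi-sober and
`T` an irreducible component of `X`, every point of `f ⁻¹' T` lies on an irreducible component
of `Y` contained in `f ⁻¹' T`. -/
lemma preimage_irreducibleComponent_eq_sUnion {X Y : Type*} [TopologicalSpace X]
    [TopologicalSpace Y] [QuasiSober X] (f : Y → X) (hf : Continuous f)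
    (hgen : GeneralizingMap f) (T : Set X) (hT : T ∈ irreducibleComponents X) :
    f ⁻¹' T = ⋃₀ {Z : Set Y | Z ∈ irreducibleComponents Y ∧ Z ⊆ f ⁻¹' T} := by
  apply le_antisymm
  · intro y hy
    have hTirr : IsIrreducible T := hT.1
    have hTcl : IsClosed T := isClosed_of_mem_irreducibleComponents T hT
    obtain ⟨η, hη⟩ := QuasiSober.sober hTirr hTcl
    -- `η ⤳ f y`
    have hspec : η ⤳ f y := hη.specializes hy
    obtain ⟨y', hy'y, hy'η⟩ := hgen hspec
    -- an irreducible component containing `closure {y'}`
    obtain ⟨Z, hZ, hZsub, hZmax'⟩ := exists_preirreducible (closure ({y'} : Set Y))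
      isIrreducible_singleton.closure.isPreirreducible
    have hZirr : IsIrreducible Z := ⟨⟨y', hZsub (subset_closure rfl)⟩, hZ⟩
    have hZmax : Z ∈ irreducibleComponents Y :=
      ⟨hZirr, fun W hW hZW => (hZmax' W hW.2 hZW).le⟩
    refine ⟨Z, ⟨hZmax, ?_⟩, hZsub hy'y.mem_closure⟩
    -- `f '' Z ⊆ T`
    have himg : IsIrreducible (closure (f '' Z)) :=
      (hZirr.image f hf.continuousOn).closure
    have hTsub : T ⊆ closure (f '' Z) := by
      rw [← hη.def]
      refine closure_minimal ?_ isClosed_closure
      rw [Set.singleton_subset_iff, ← hy'η]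
      exact subset_closure ⟨y', hZsub (subset_closure rfl), rfl⟩
    have hsub : closure (f '' Z) ⊆ T := hT.2 himg hTsub
    intro z hz
    exact hsub (subset_closure ⟨z, hz, rfl⟩)
  · rintro y ⟨Z, ⟨-, hZ⟩, hy⟩
    exact hZ hy

/-- Let X be a scheme over a field k, K an extension field of k and T an irreducible component of X.
Then each point of the inverse image of T in X_K lies on some irreducible component of X_K that is
contained in this inverse image; so the inverse image of T is the union of the irreducible
components of X_K lying inside it. -/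
theorem result (k : Type u) [Field k] (X : Scheme.{u}) [X.Over (Spec (CommRingCat.of k))] (K : Type u) [Field K] [Algebra k K]
    (T : Set ↥X) (hT : T ∈ irreducibleComponents ↥X) :
    (Curv2.bcFst k X K).base ⁻¹' T = ⋃₀ {Z : Set ↥(Curv2.bc k X K) | Z ∈ irreducibleComponents ↥(Curv2.bc k X K) ∧ Z ⊆ (Curv2.bcFst k X K).base ⁻¹' T} := by
  have hflat : Flat (Curv2.bcFst k X K) := by
    unfold Curv2.bcFst
    infer_instance
  exact preimage_irreducibleComponent_eq_sUnion _ (Curv2.bcFst k X K).continuous
    (Flat.generalizingMap _) T hT

end Groth.Agent.S7595
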