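import Groth.Statements.S7596
import Groth.Agent.Lib.Helper12.RatPoint

set_option autoImplicit false
universe u
open CategoryTheory CategoryTheory.Limits AlgebraicGeometry
open Variety

namespace Groth.Agent.S7596

open Groth.Agent.Lib.Helper12

/-- Let X be an irreducible scheme over a field k whose k-rational points (points x at which k → κ(x) is
onto) form a dense subset. Then X is geometrically irreducible over k. -/
theorem result (k : Type u) [Field k] (X : Scheme.{u}) [X.Over (Spec (CommRingCat.of k))] [IrreducibleSpace ↥X]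
    (hd : Dense {x : ↥X | Function.Surjective (Curv2.resMap k X x)}) :
    GeometricallyIrreducible (X ↘ (Spec (CommRingCat.of k))) := by
  refine ⟨fun K _ y Z fst snd h => ?_⟩
  -- `fst` is surjective and open
  have hysurj : Surjective y := by
    refine ⟨fun s => ?_⟩
    obtain ⟨t⟩ : Nonempty ↥(Spec (CommRingCat.of K)) := inferInstance
    exact ⟨t, Subsingleton.elim _ _⟩
  have hsurj : Surjective fst :=
    MorphismProperty.of_isPullback (P := @Surjective) h.flip hysurj
  have hopen : UniversallyOpen fst :=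
    MorphismProperty.of_isPullback (P := @UniversallyOpen) h.flip inferInstance
  have hfo : IsOpenMap fst := fst.isOpenMap
  haveI : Nonempty ↥Z := by
    obtain ⟨x⟩ : Nonempty ↥X := inferInstance
    obtain ⟨z, -⟩ := hsurj.surj x
    exact ⟨z⟩
  suffices hpre : PreirreducibleSpace ↥Z from { toPreirreducibleSpace := hpre, toNonempty := inferInstance }
  refine ⟨?_⟩
  intro U₁ U₂ hU₁ hU₂ hne₁ hne₂
  rw [Set.univ_inter] at hne₁ hne₂ ⊢
  have hV₁ : IsOpen (fst '' U₁) := hfo U₁ hU₁
  have hV₂ : IsOpen (fst '' U₂) := hfo U₂ hU₂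
  have hV₁ne : (fst '' U₁).Nonempty := hne₁.image _
  have hV₂ne : (fst '' U₂).Nonempty := hne₂.image _
  have hVne : (fst '' U₁ ∩ fst '' U₂).Nonempty :=
    nonempty_preirreducible_inter hV₁ hV₂ hV₁ne hV₂ne
  obtain ⟨x, ⟨hx₁, hx₂⟩, hxD⟩ := hd.inter_open_nonempty _ (hV₁.inter hV₂) hVne
  obtain ⟨z₁, hz₁, hzx₁⟩ := hx₁
  obtain ⟨z₂, hz₂, hzx₂⟩ := hx₂
  haveI := isIso_fromSpecResidueField_comp_of_surjective k X x hxD
  have hsub := subsingleton_preimage_of_isIso h x
  have : z₁ = z₂ := hsub hzx₁ hzx₂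
  exact ⟨z₁, hz₁, this ▸ hz₂⟩

end Groth.Agent.S7596
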