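import Groth.Statements.S7597
import Mathlib
import Groth.Agent.S1584
import Groth.Agent.Lib.Helper11.GalInv

set_option autoImplicit false
universe u
open CategoryTheory CategoryTheory.Limits AlgebraicGeometry
open Variety

namespace Groth.Agent.S7597

open Groth.Agent.Lib.Helper11.FBaseLib Groth.Agent.Lib.Helper11.FBaseLib2
  Groth.Agent.Lib.Helper11.BcLevels Groth.Agent.Lib.Helper11.SepFibre
  Groth.Agent.Lib.Helper11.GalComp Groth.Agent.Lib.Helper11.GalInv
  Groth.Agent.Lib.Helper11.GalOrbit

theorem core {k : Type u} [Field k] {X : Scheme.{u}} (a : X ⟶ Spec (CommRingCat.of k))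
    (K : Type u) [Field K] [Algebra k K] [Algebra.IsIntegral k K] [Normal k K] [IsSepClosed K]
    (Z : Set ↥(FBase.bc a K)) (hZ : Z ∈ irreducibleComponents ↥(FBase.bc a K)) :
    (∀ σ : K ≃ₐ[k] K, ⇑(bcHom a (σ : K →ₐ[k] K)) '' Z = Z) ↔
      ∃ T ∈ irreducibleComponents ↥X, ⇑(FBase.bcπ a K) ⁻¹' T = Z ∧
        ∀ (K' : Type u) [Field K'] [Algebra k K'], IsIrreducible (⇑(FBase.bcπ a K') ⁻¹' T) := by
  constructor
  · intro hinv
    obtain ⟨T, hT, hsub⟩ := exists_mem_irreducibleComponents_subset_of_isIrreducible
      (⇑(FBase.bcπ a K) '' Z) (hZ.1.image _ (FBase.bcπ a K).continuous.continuousOn)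
    have hmain := orbit_components a K T hT
    have hS : {T' : Set ↥(FBase.bc a K) | T' ∈ irreducibleComponents ↥(FBase.bc a K) ∧
        (FBase.bcπ a K) '' T' ⊆ T} = {Z} := by
      ext T''
      constructor
      · intro hT''
        obtain ⟨σ, hσ⟩ := hmain.2 Z T'' hZ hT''.1 hsub hT''.2
        rw [hinv σ] at hσ
        exact hσ.symm
      · rintro rfl
        exact ⟨hZ, hsub⟩
    have hpre : ⇑(FBase.bcπ a K) ⁻¹' T = Z := by
      rw [hmain.1, hS, Set.sUnion_singleton]
    refine ⟨T, hT, hpre, ?_⟩
    intro K' _ _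
    exact isIrreducible_preimage_of_isSepClosed a T (isClosed_of_mem_irreducibleComponents T hT) K
      (by rw [hpre]; exact hZ.1) K'
  · rintro ⟨T, -, rfl, -⟩ σ
    exact image_preimage_bcHom a σ T

/-- Let k̄ be a separable algebraic closure of a field k, X a scheme over k and Z an irreducible
component of X_{k̄}. Then Z is mapped onto itself by the action of every k-automorphism of k̄ if and
only if Z is the full inverse image of some irreducible component T of X which is geometrically
irreducible over k (the inverse image of T in X_K is irreducible for every extension field K of k). -/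
theorem result (k : Type u) [Field k] (X : Scheme.{u}) [X.Over (Spec (CommRingCat.of k))]
    (Z : Set ↥(Curv2.bc k X (SeparableClosure k))) (hZ : Z ∈ irreducibleComponents ↥(Curv2.bc k X (SeparableClosure k))) :
    (∀ σ : SeparableClosure k ≃ₐ[k] SeparableClosure k, (Curv2.galAct k X (SeparableClosure k) σ).base '' Z = Z) ↔
      ∃ T ∈ irreducibleComponents ↥X, (Curv2.bcFst k X (SeparableClosure k)).base ⁻¹' T = Z ∧
        ∀ (K : Type u) [Field K] [Algebra k K], IsIrreducible ((Curv2.bcFst k X K).base ⁻¹' T) := by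

  simp only [Groth.Agent.S1584.galAct_eq]
  exact core (X ↘ Spec (CommRingCat.of k)) (SeparableClosure k) Z hZ

end Groth.Agent.S7597
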