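import Groth.Statements.S7598
import Mathlib
import Groth.Agent.S1584
import Groth.Agent.Lib.Helper11.GalInv

set_option autoImplicit false
universe u
open CategoryTheory CategoryTheory.Limits AlgebraicGeometry
open Variety

namespace Groth.Agent.S7598

open Groth.Agent.Lib.Helper11.FBaseLib Groth.Agent.Lib.Helper11.FBaseLib2
  Groth.Agent.Lib.Helper11.BcLevels Groth.Agent.Lib.Helper11.SepFibre
  Groth.Agent.Lib.Helper11.GalComp Groth.Agent.Lib.Helper11.GalInv

theorem core {k : Type u} [Field k] {X : Scheme.{u}} (a : X ⟶ Spec (CommRingCat.of k))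
    (K : Type u) [Field K] [Algebra k K] [Algebra.IsIntegral k K] [Normal k K]
    (Z' Z'' : Set ↥(FBase.bc a K)) (hZ' : Z' ∈ irreducibleComponents ↥(FBase.bc a K))
    (hZ'' : Z'' ∈ irreducibleComponents ↥(FBase.bc a K)) :
    (⇑(FBase.bcπ a K) '' Z' = ⇑(FBase.bcπ a K) '' Z'') ↔
      ∃ σ : K ≃ₐ[k] K, ⇑(bcHom a (σ : K →ₐ[k] K)) '' Z' = Z'' := by
  constructor
  · intro h
    obtain ⟨η', hη'⟩ := QuasiSober.sober hZ'.1 (isClosed_of_mem_irreducibleComponents Z' hZ')
    obtain ⟨η'', hη''⟩ := QuasiSober.sober hZ''.1 (isClosed_of_mem_irreducibleComponents Z'' hZ'')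
    have g1 := hη'.image (FBase.bcπ a K).continuous
    have g2 := hη''.image (FBase.bcπ a K).continuous
    rw [← h] at g2
    have e : (FBase.bcπ a K) η'' = (FBase.bcπ a K) η' := g2.eq g1
    obtain ⟨σ, hy⟩ := exists_bcHom_eq a K η'' η' e
    refine ⟨σ, ?_⟩
    haveI := isIntegralHom_bcHom a (σ : K →ₐ[k] K)
    have hcl : IsClosedMap (bcHom a (σ : K →ₐ[k] K)) := (bcHom a (σ : K →ₐ[k] K)).isClosedMap
    rw [← hη'.def, ← hη''.def, ← hcl.closure_image_eq_of_continuous (bcHom a _).continuous,
      Set.image_singleton, ← hy]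
  · rintro ⟨σ, rfl⟩
    rw [Set.image_image]
    exact (Set.image_congr (fun z _ => bcHom_π_apply a (σ : K →ₐ[k] K) z)).symm

/-- Let k̄ be a separable algebraic closure of a field k and X a scheme over k. Two irreducible
components Z', Z'' of X_{k̄} have the same image in X if and only if Z'' is the image of Z' under
the action of some k-automorphism of k̄ on X_{k̄} (the fibres of the map on irreducible components
are the Galois orbits). -/
theorem result (k : Type u) [Field k] (X : Scheme.{u}) [X.Over (Spec (CommRingCat.of k))]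
    (Z' Z'' : Set ↥(Curv2.bc k X (SeparableClosure k))) (hZ' : Z' ∈ irreducibleComponents ↥(Curv2.bc k X (SeparableClosure k)))
    (hZ'' : Z'' ∈ irreducibleComponents ↥(Curv2.bc k X (SeparableClosure k))) :
    (Curv2.bcFst k X (SeparableClosure k)).base '' Z' = (Curv2.bcFst k X (SeparableClosure k)).base '' Z'' ↔
      ∃ σ : SeparableClosure k ≃ₐ[k] SeparableClosure k, (Curv2.galAct k X (SeparableClosure k) σ).base '' Z' = Z'' := by

  simp only [Groth.Agent.S1584.galAct_eq]
  exact core (X ↘ Spec (CommRingCat.of k)) (SeparableClosure k) Z' Z'' hZ' hZ''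

end Groth.Agent.S7598
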