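import Groth.Statements.S7603
import Mathlib
import Groth.Agent.S14401

set_option autoImplicit false
universe u
open CategoryTheory CategoryTheory.Limits AlgebraicGeometry
open Variety

namespace Groth.Agent.S7603

/-- (2) ⇔ (3): let X be a proper scheme over a field k which is geometrically normal (X_K is a normal
scheme for every extension field K of k). Then X is geometrically connected over k exactly when it
is geometrically irreducible over k. (The published statement lists geometric integrality as a
further equivalent condition; given geometric normality it is equivalent to geometric irreducibility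
by a direct argument, so this row omits it.) -/
theorem result (k : Type u) [Field k] (X : Scheme.{u}) [X.Over (Spec (CommRingCat.of k))] [IsProper (X ↘ (Spec (CommRingCat.of k)))]
    (hX : ∀ (K : Type u) [Field K] [Algebra k K], Pi1.IsNormalScheme (Curv2.bc k X K)) :
    GeometricallyConnected (X ↘ (Spec (CommRingCat.of k))) ↔ GeometricallyIrreducible (X ↘ (Spec (CommRingCat.of k))) := by

  constructor
  · intro hgc
    rw [geometricallyIrreducible_iff, geometrically_iff_of_isClosedUnderIsomorphisms]
    intro K _ y
    obtain ⟨φ, rfl⟩ : ∃ φ : CommRingCat.of k ⟶ CommRingCat.of K, Spec.map φ = y :=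
      ⟨Spec.preimage y, Spec.map_preimage y⟩
    letI : Algebra k K := φ.hom.toAlgebra
    have hφ : φ = CommRingCat.ofHom (algebraMap k K) := rfl
    rw [hφ]
    show IrreducibleSpace ↥(Curv2.bc k X K)
    haveI : ConnectedSpace ↥(Curv2.bc k X K) :=
      pullback_of_geometrically hgc.1 K (Spec.map (CommRingCat.ofHom (algebraMap k K)))
    have hn := hX K
    haveI : IsProper (Curv2.bcSnd k X K) :=
      MorphismProperty.pullback_snd (P := @IsProper) _ _ inferInstance
    haveI : IsLocallyNoetherian (Curv2.bc k X K) :=
      LocallyOfFiniteType.isLocallyNoetherian (Curv2.bcSnd k X K)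
    haveI : CompactSpace ↥(Curv2.bc k X K) :=
      QuasiCompact.compactSpace_of_compactSpace (Curv2.bcSnd k X K)
    haveI : AlgebraicGeometry.IsNoetherian (Curv2.bc k X K) := {}
    obtain ⟨hopen, -⟩ := Groth.Agent.S14401.result (Curv2.bc k X K) (fun x => (hn x).1)
    obtain ⟨x⟩ : Nonempty ↥(Curv2.bc k X K) := inferInstance
    have hZ := irreducibleComponent_mem_irreducibleComponents x
    have hclopen : IsClopen (irreducibleComponent x) :=
      ⟨isClosed_irreducibleComponent, hopen _ hZ⟩
    have huniv : irreducibleComponent x = Set.univ :=
      hclopen.eq_univ ⟨x, mem_irreducibleComponent⟩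
    have hirr : IsIrreducible (Set.univ : Set ↥(Curv2.bc k X K)) :=
      huniv ▸ isIrreducible_irreducibleComponent
    exact (irreducibleSpace_def _).mpr hirr
  · intro hgi
    refine ⟨fun K _ y Z fst snd h => ?_⟩
    haveI : IrreducibleSpace ↥Z := hgi.1 y fst snd h
    infer_instance

end Groth.Agent.S7603
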