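import Groth.Statements.S7605
import Mathlib
import Groth.Agent.Lib.Helper11.GammaBC
import Groth.Agent.Lib.Helper11.BcLevels

set_option autoImplicit false
universe u
open CategoryTheory CategoryTheory.Limits AlgebraicGeometry
open Variety

namespace Groth.Agent.S7605

open CategoryTheory CategoryTheory.Limits AlgebraicGeometry TensorProduct
open Groth.Agent.Lib.Helper11.FBaseLib Groth.Agent.Lib.Helper11.FBaseLib2
  Groth.Agent.Lib.Helper11.BcLevels Groth.Agent.Lib.Helper11.GammaBC

theorem isNoetherianRing_tensor_iff (k A K : Type u) [Field k] [CommRing A] [Algebra k A]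
    [Field K] [Algebra k K] [Algebra.EssFiniteType k K] :
    IsNoetherianRing A ↔ IsNoetherianRing (A ⊗[k] K) := by
  constructor
  · intro h
    exact Algebra.EssFiniteType.isNoetherianRing A (A ⊗[k] K)
  · intro h
    haveI : Module.FaithfullyFlat A (A ⊗[k] K) := inferInstance
    haveI : WellFoundedGT (Ideal (A ⊗[k] K)) := isNoetherian_iff'.mp h
    have hsm : StrictMono (Ideal.map (algebraMap A (A ⊗[k] K))) :=
      Monotone.strictMono_of_injective (fun _ _ hIJ => Ideal.map_mono hIJ)
        Ideal.map_injective_of_faithfullyFlat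
    exact isNoetherian_iff'.mpr hsm.wellFoundedGT

/-- For a scheme X over a field k and a finitely generated field extension k' of k, local Noetherianity
of X is equivalent to local Noetherianity of its base change X_{k'}. -/
theorem result (k : Type u) [Field k] (X : Scheme.{u}) [X.Over (Spec (CommRingCat.of k))] (k' : Type u) [Field k'] [Algebra k k']
    (hfg : (⊤ : IntermediateField k k').FG) :
    IsLocallyNoetherian X ↔ IsLocallyNoetherian (Curv2.bc k X k') := by

  haveI : Algebra.EssFiniteType k k' := IntermediateField.fg_top_iff.mp hfg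
  change _ ↔ IsLocallyNoetherian (FBase.bc (X ↘ Spec (CommRingCat.of k)) k')
  let S : X.affineOpens → (FBase.bc (X ↘ Spec (CommRingCat.of k)) k').affineOpens := fun U =>
    ⟨(FBase.bcπ (X ↘ Spec (CommRingCat.of k)) k') ⁻¹ᵁ U.1,
      U.2.preimage (FBase.bcπ (X ↘ Spec (CommRingCat.of k)) k')⟩
  have hS : (⨆ U, (S U : (FBase.bc (X ↘ Spec (CommRingCat.of k)) k').Opens)) = ⊤ := by
    rw [eq_top_iff]
    intro y _
    obtain ⟨_, ⟨U, hU, rfl⟩, hyU, -⟩ := X.isBasis_affineOpens.exists_subset_of_mem_open
      (Set.mem_univ ((FBase.bcπ (X ↘ Spec (CommRingCat.of k)) k') y)) isOpen_univ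
    exact TopologicalSpace.Opens.mem_iSup.mpr ⟨⟨U, hU⟩, hyU⟩
  rw [isLocallyNoetherian_iff_of_iSup_eq_top hS,
    isLocallyNoetherian_iff_of_iSup_eq_top (S := fun U : X.affineOpens => U)
      (iSup_affineOpens_eq_top X)]
  refine forall_congr' fun U => ?_
  letI := secAlgebra (X ↘ Spec (CommRingCat.of k)) U.1
  obtain ⟨e⟩ := exists_ringEquiv_tensor_open (X ↘ Spec (CommRingCat.of k)) k' U.1
    U.2.isCompact U.2.isQuasiSeparated
  rw [isNoetherianRing_tensor_iff k Γ(X, U.1) k']
  constructor
  · intro h
    exact isNoetherianRing_of_ringEquiv _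
      ((Algebra.TensorProduct.comm k Γ(X, U.1) k').toRingEquiv.trans e.symm)
  · intro h
    haveI : IsNoetherianRing Γ(FBase.bc (X ↘ Spec (CommRingCat.of k)) k',
        (FBase.bcπ (X ↘ Spec (CommRingCat.of k)) k') ⁻¹ᵁ U.1) := h
    exact isNoetherianRing_of_ringEquiv _
      (e.trans (Algebra.TensorProduct.comm k k' Γ(X, U.1)).toRingEquiv)

end Groth.Agent.S7605
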