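import Groth.Statements.S7609
import Groth.Agent.Lib.Helper14.CMFieldBCSch

set_option autoImplicit false
universe u
open CategoryTheory CategoryTheory.Limits AlgebraicGeometry
open Variety

namespace Groth.Agent.S7609

/-- Let X be a scheme locally of finite type over a field k, k' any extension field of k and x' a point
of X_{k'} with image x in X. Then the local ring O_{X, x} is Cohen-Macaulay if and only if
O_{X_{k'}, x'} is Cohen-Macaulay. -/
theorem result (k : Type u) [Field k] (X : Scheme.{u}) [X.Over (Spec (CommRingCat.of k))] [LocallyOfFiniteType (X ↘ (Spec (CommRingCat.of k)))]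
    (k' : Type u) [Field k'] [Algebra k k'] (x' : ↥(Curv2.bc k X k')) :
    LocCoh.IsCohenMacaulayLocalRing ↥(X.presheaf.stalk (Curv2.bcFst k X k' x')) ↔
      LocCoh.IsCohenMacaulayLocalRing ↥((Curv2.bc k X k').presheaf.stalk x') := by
  haveI : IsLocallyNoetherian (Spec (CommRingCat.of k)) := inferInstance
  haveI : IsLocallyNoetherian X :=
    LocallyOfFiniteType.isLocallyNoetherian (X ↘ Spec (CommRingCat.of k))
  letI := Groth.Agent.Lib.Helper14.StalkTensor.stalkAlgA (X ↘ Spec (CommRingCat.of k))
    (Curv2.bcFst k X k' x')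
  haveI hE : Algebra.EssFiniteType k (X.presheaf.stalk (Curv2.bcFst k X k' x')) := by
    rw [← RingHom.essFiniteType_algebraMap,
      Groth.Agent.Lib.Helper14.CMFieldBCSch.algebraMap_stalkAlgA]
    exact Groth.Agent.Lib.Helper14.GeomRegSmooth.essFiniteType_stalkStr _ _
  refine Groth.Agent.Lib.Helper14.CMFieldBCSch.cm_stalk_iff (X ↘ Spec (CommRingCat.of k)) k' x' ?_
    (Or.inl hE)
  haveI : IsNoetherianRing (TensorProduct k k' (X.presheaf.stalk (Curv2.bcFst k X k' x'))) :=
    Algebra.EssFiniteType.isNoetherianRing k' _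
  exact isNoetherianRing_of_ringEquiv _
    (Algebra.TensorProduct.comm k k' (X.presheaf.stalk (Curv2.bcFst k X k' x'))).toRingEquiv

end Groth.Agent.S7609
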