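import Groth.Statements.S7612
import Mathlib.AlgebraicGeometry.Morphisms.UniversallyOpen

set_option autoImplicit false
universe u
open CategoryTheory CategoryTheory.Limits AlgebraicGeometry
open Variety

namespace Groth.Agent.S7612

/-- In a fibre product over a one-point integral scheme, inside a fibre of the first projection
the preimage of a closure is contained in the closure of the preimage. -/
lemma fiber_inter_preimage_closure_subset {P X Y S : Scheme.{u}} {fst : P ⟶ X} {snd : P ⟶ Y}
    {f : X ⟶ S} {g : Y ⟶ S} (h : IsPullback fst snd f g) [IsIntegral S] [Subsingleton S]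
    (a : X) (B : Set Y) :
    fst ⁻¹' {a} ∩ snd ⁻¹' closure B ⊆ closure (fst ⁻¹' {a} ∩ snd ⁻¹' B) := by
  rintro z ⟨hza, hzB⟩
  have sq1 : IsPullback (fst.fiberι a) (fst.fiberToSpecResidueField a) fst
      (X.fromSpecResidueField a) := IsPullback.of_hasPullback _ _
  have sq := sq1.paste_horiz h.flip
  have hopen : UniversallyOpen (fst.fiberι a ≫ snd) :=
    MorphismProperty.of_isPullback (P := @UniversallyOpen) sq.flip inferInstance
  have hψ : IsOpenMap (fst.fiberι a ≫ snd) := (fst.fiberι a ≫ snd).isOpenMap
  have hψc : Continuous (fst.fiberι a ≫ snd) := (fst.fiberι a ≫ snd).continuous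
  have hrange := fst.range_fiberι a
  have hz : z ∈ Set.range (fst.fiberι a) := by rw [hrange]; exact hza
  obtain ⟨t, rfl⟩ := hz
  have ht : t ∈ (fst.fiberι a ≫ snd) ⁻¹' closure B := by
    simpa using hzB
  rw [hψ.preimage_closure_eq_closure_preimage hψc] at ht
  have himg : (fst.fiberι a) '' ((fst.fiberι a ≫ snd) ⁻¹' B) ⊆ fst ⁻¹' {a} ∩ snd ⁻¹' B := by
    rintro _ ⟨t', ht', rfl⟩
    refine ⟨?_, ?_⟩
    · rw [← hrange]; exact ⟨t', rfl⟩
    · simpa using ht'
  exact closure_mono himg
    (image_closure_subset_closure_image (fst.fiberι a).continuous ⟨t, ht, rfl⟩)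

/-- Let X and Y be schemes over a field k and A ⊆ X, B ⊆ Y subsets. Inside X ×_k Y, the closure of the
set of points projecting into A and into B equals the set of points projecting into the closure of A
and into the closure of B. -/
theorem result (k : Type u) [Field k] (X : Scheme.{u}) [X.Over (Spec (CommRingCat.of k))] (Y : Scheme.{u}) [Y.Over (Spec (CommRingCat.of k))] (A : Set ↥X) (B : Set ↥Y) :
    closure ((pullback.fst (X ↘ (Spec (CommRingCat.of k))) (Y ↘ (Spec (CommRingCat.of k)))).base ⁻¹' A ∩ (pullback.snd (X ↘ (Spec (CommRingCat.of k))) (Y ↘ (Spec (CommRingCat.of k)))).base ⁻¹' B) =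
      (pullback.fst (X ↘ (Spec (CommRingCat.of k))) (Y ↘ (Spec (CommRingCat.of k)))).base ⁻¹' closure A ∩ (pullback.snd (X ↘ (Spec (CommRingCat.of k))) (Y ↘ (Spec (CommRingCat.of k)))).base ⁻¹' closure B := by
  set p := pullback.fst (X ↘ (Spec (CommRingCat.of k))) (Y ↘ (Spec (CommRingCat.of k)))
  set q := pullback.snd (X ↘ (Spec (CommRingCat.of k))) (Y ↘ (Spec (CommRingCat.of k)))
  have h : IsPullback p q (X ↘ (Spec (CommRingCat.of k))) (Y ↘ (Spec (CommRingCat.of k))) :=
    IsPullback.of_hasPullback _ _
  apply le_antisymm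
  · refine closure_minimal ?_ ?_
    · exact Set.inter_subset_inter (Set.preimage_mono subset_closure)
        (Set.preimage_mono subset_closure)
    · exact (isClosed_closure.preimage p.continuous).inter (isClosed_closure.preimage q.continuous)
  · rintro z ⟨hzA, hzB⟩
    -- first step: the fibre of `q` through `z`
    have h1 := fiber_inter_preimage_closure_subset h.flip (q z) A ⟨rfl, hzA⟩
    refine closure_minimal ?_ isClosed_closure h1
    rintro w ⟨hwq, hwA⟩
    have hwq' : q w = q z := hwq
    have h2 := fiber_inter_preimage_closure_subset h (p w) B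
      ⟨rfl, show q w ∈ closure B by rw [hwq']; exact hzB⟩
    refine closure_mono ?_ h2
    rintro v ⟨hvp, hvB⟩
    have hvp' : p v = p w := hvp
    exact ⟨show p v ∈ A by rw [hvp']; exact hwA, hvB⟩

end Groth.Agent.S7612
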