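import Groth.Statements.S7614
import Groth.Agent.Lib.Helper16.QAffScheme

set_option autoImplicit false
universe u
open CategoryTheory CategoryTheory.Limits AlgebraicGeometry
open Variety

namespace Groth.Agent.S7614

/-- Let X be a scheme over a field k and K an extension field of k. If X_K is quasi-affine, then X is
quasi-affine. -/
theorem result (k : Type u) [Field k] (X : Scheme.{u}) [X.Over (Spec (CommRingCat.of k))] (K : Type u) [Field K] [Algebra k K]
    [(Curv2.bc k X K).IsQuasiAffine] : X.IsQuasiAffine := by
  haveI : Flat (Spec.map (CommRingCat.ofHom (algebraMap k K))) := by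
    rw [Flat.SpecMap_iff]
    exact RingHom.flat_algebraMap_iff.mpr inferInstance
  refine Groth.Agent.Lib.Helper16.isQuasiAffine_of_std_fpqc (X ↘ Spec (CommRingCat.of k)) (m := 1)
    (fun _ => Spec (CommRingCat.of K)) (fun _ => Curv2.bc k X K)
    (fun _ => Spec.map (CommRingCat.ofHom (algebraMap k K)))
    (fun _ => Limits.pullback.snd _ _) (fun _ => Limits.pullback.fst _ _)
    (fun _ => IsPullback.of_hasPullback _ _)
    (fun _ => inferInstance) (fun _ => inferInstance) (fun z => ⟨0, ?_⟩) (fun _ => inferInstance)
  haveI : Subsingleton (Spec (CommRingCat.of k)) :=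
    inferInstanceAs (Subsingleton (PrimeSpectrum k))
  obtain ⟨w⟩ : Nonempty (Spec (CommRingCat.of K)) := inferInstanceAs (Nonempty (PrimeSpectrum K))
  exact ⟨w, Subsingleton.elim _ _⟩

end Groth.Agent.S7614
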