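import Groth.Statements.S7615
import Mathlib
import Groth.Agent.Lib.Helper11.SteinBridge

set_option autoImplicit false
universe u
open CategoryTheory CategoryTheory.Limits AlgebraicGeometry
open Variety

namespace Groth.Agent.S7615

open CategoryTheory CategoryTheory.Limits AlgebraicGeometry TensorProduct
open Groth.Agent.Lib.Helper11.FBaseLib Groth.Agent.Lib.Helper11.FBaseLib2
  Groth.Agent.Lib.Helper11.SteinAlg Groth.Agent.Lib.Helper11.SteinBridge

theorem isIntegral_gamma {k : Type u} [Field k] {X : Scheme.{u}}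
    (f : X ⟶ Spec (CommRingCat.of k)) [UniversallyClosed f] :
    letI := gammaAlgebra f
    Algebra.IsIntegral k Γ(X, ⊤) := by
  letI := gammaAlgebra f
  rw [← algebraMap_isIntegral_iff]
  have h1 : f.appTop.hom.IsIntegral := isIntegral_appTop_of_universallyClosed f
  have h2 : (Scheme.ΓSpecIso (CommRingCat.of k)).inv.hom.IsIntegral :=
    RingHom.isIntegral_of_surjective _
      (Scheme.ΓSpecIso (CommRingCat.of k)).symm.commRingCatIsoToRingEquiv.surjective
  exact RingHom.IsIntegral.trans _ _ h2 h1

theorem isSeparable_of_isReduced_tensor (k L : Type u) [Field k] [Field L] [Algebra k L]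
    [Module.Finite k L] [IsReduced (AlgebraicClosure k ⊗[k] L)] : Algebra.IsSeparable k L := by
  haveI : Module.Finite (AlgebraicClosure k) (AlgebraicClosure k ⊗[k] L) := inferInstance
  haveI : IsArtinianRing (AlgebraicClosure k ⊗[k] L) :=
    IsArtinianRing.of_finite (AlgebraicClosure k) (AlgebraicClosure k ⊗[k] L)
  haveI : ∀ m : MaximalSpectrum (AlgebraicClosure k ⊗[k] L),
      Algebra.FormallyUnramified (AlgebraicClosure k)
        ((AlgebraicClosure k ⊗[k] L) ⧸ m.asIdeal) := by
    intro m
    letI : Field ((AlgebraicClosure k ⊗[k] L) ⧸ m.asIdeal) := Ideal.Quotient.field _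
    haveI : Algebra.IsIntegral (AlgebraicClosure k) ((AlgebraicClosure k ⊗[k] L) ⧸ m.asIdeal) :=
      inferInstance
    have hsurj : Function.Surjective
        (algebraMap (AlgebraicClosure k) ((AlgebraicClosure k ⊗[k] L) ⧸ m.asIdeal)) :=
      IsAlgClosed.algebraMap_bijective_of_isIntegral.2
    exact Algebra.FormallyUnramified.of_surjective
      (Algebra.ofId (AlgebraicClosure k) ((AlgebraicClosure k ⊗[k] L) ⧸ m.asIdeal)) hsurj
  haveI : Algebra.FormallyUnramified (AlgebraicClosure k)
      (∀ m : MaximalSpectrum (AlgebraicClosure k ⊗[k] L),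
        (AlgebraicClosure k ⊗[k] L) ⧸ m.asIdeal) := inferInstance
  haveI : Algebra.FormallyUnramified (AlgebraicClosure k) (AlgebraicClosure k ⊗[k] L) :=
    Algebra.FormallyUnramified.of_equiv
      ((IsArtinianRing.equivPi (AlgebraicClosure k ⊗[k] L)).restrictScalars
        (AlgebraicClosure k)).symm
  haveI : Algebra.FormallyUnramified k L :=
    Algebra.FormallyUnramified.of_formallyUnramified_tensorProduct_of_faithfullyFlat
      (AlgebraicClosure k)
  exact Algebra.FormallyUnramified.isSeparable k L

/-- Let X be a proper variety over a field k (integral, separated, of finite type and proper over k) and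
K = H^0(X, O_X), a k-algebra via the structure morphism. Then K is a field, finite over k; K/k is
separable when X is geometrically reduced over k, and purely inseparable when X is geometrically
irreducible over k. -/
theorem result (k : Type u) [Field k] (X : Scheme.{u}) [X.Over (Spec (CommRingCat.of k))] [IsIntegral X] [IsProper (X ↘ (Spec (CommRingCat.of k)))] :
    letI := ((X ↘ (Spec (CommRingCat.of k))).appTop.hom.comp (Scheme.ΓSpecIso (CommRingCat.of k)).inv.hom : k →+* Γ(X, ⊤)).toAlgebra
    IsField ↑Γ(X, ⊤) ∧ Module.Finite k ↑Γ(X, ⊤) ∧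
      (GeometricallyReduced (X ↘ (Spec (CommRingCat.of k))) → Algebra.IsSeparable k ↑Γ(X, ⊤)) ∧
      (GeometricallyIrreducible (X ↘ (Spec (CommRingCat.of k))) → IsPurelyInseparable k ↑Γ(X, ⊤)) := by

  letI alg : Algebra k Γ(X, ⊤) := gammaAlgebra (X ↘ (Spec (CommRingCat.of k)))
  have hfield : IsField ↑Γ(X, ⊤) := isField_of_universallyClosed k (X ↘ (Spec (CommRingCat.of k)))
  have hfin : Module.Finite k ↑Γ(X, ⊤) := by
    have h1 : (X ↘ (Spec (CommRingCat.of k))).appTop.hom.Finite :=
      finite_appTop_of_universallyClosed k (X ↘ (Spec (CommRingCat.of k)))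
    have h2 : (Scheme.ΓSpecIso (CommRingCat.of k)).inv.hom.Finite :=
      RingHom.Finite.of_surjective _
        (Scheme.ΓSpecIso (CommRingCat.of k)).symm.commRingCatIsoToRingEquiv.surjective
    exact RingHom.Finite.comp h1 h2
  refine ⟨hfield, hfin, ?_, ?_⟩
  · intro hgr
    haveI : IsReduced (FBase.bc (X ↘ (Spec (CommRingCat.of k))) (AlgebraicClosure k)) :=
      pullback_of_geometrically hgr.1 (AlgebraicClosure k)
        (Spec.map (CommRingCat.ofHom (algebraMap k (AlgebraicClosure k))))
    obtain ⟨e⟩ := exists_ringEquiv_tensor (X ↘ (Spec (CommRingCat.of k))) (AlgebraicClosure k)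
    haveI hred : _root_.IsReduced (AlgebraicClosure k ⊗[k] Γ(X, ⊤)) :=
      isReduced_of_injective e.symm e.symm.injective
    letI fL : Field Γ(X, ⊤) := hfield.toField
    exact @isSeparable_of_isReduced_tensor k Γ(X, ⊤) _ fL alg hfin hred
  · intro hgi
    haveI hirr : IrreducibleSpace ↥(FBase.bc (X ↘ (Spec (CommRingCat.of k))) (AlgebraicClosure k)) :=
      pullback_of_geometrically hgi.1 (AlgebraicClosure k)
        (Spec.map (CommRingCat.ofHom (algebraMap k (AlgebraicClosure k))))
    haveI hconn : ConnectedSpace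
        ↥(FBase.bc (X ↘ (Spec (CommRingCat.of k))) (AlgebraicClosure k)) := inferInstance
    obtain ⟨hne, hid⟩ := (connectedSpace_iff_idem _).mp hconn
    obtain ⟨e⟩ := exists_ringEquiv_tensor (X ↘ (Spec (CommRingCat.of k))) (AlgebraicClosure k)
    have hid' : ∀ x : AlgebraicClosure k ⊗[k] Γ(X, ⊤), IsIdempotentElem x → x = 0 ∨ x = 1 :=
      idem_transfer e.symm hid
    haveI : IsDomain Γ(X, ⊤) := hfield.isDomain
    haveI : Algebra.IsIntegral k Γ(X, ⊤) := isIntegral_gamma (X ↘ (Spec (CommRingCat.of k)))
    rw [isPurelyInseparable_iff_pow_mem k (ringExpChar k)]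
    intro a
    obtain ⟨n, c, hc⟩ := exists_pow_sub_nilpotent k hid' a
    exact ⟨n, c, (sub_eq_zero.mp hc.eq_zero).symm⟩

end Groth.Agent.S7615
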