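import Groth.Statements.S7616
import Groth.Agent.Lib.Helper12.NagataFin
-- import your own Groth.Agent.* helpers here

set_option autoImplicit false
universe u
open CategoryTheory CategoryTheory.Limits AlgebraicGeometry
open Variety

namespace Groth.Agent.S7616

open Groth.Agent.Lib.Helper12

/-- Let f : Y → X be a quasi-compact morphism of schemes locally of finite type over a field k, with Y
reduced; f is automatically quasi-separated. Then the normalization of X in Y is finite over X. -/
theorem result (k : Type u) [Field k] (X : Scheme.{u}) [X.Over (Spec (CommRingCat.of k))] [LocallyOfFiniteType (X ↘ (Spec (CommRingCat.of k)))]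
    (Y : Scheme.{u}) [Y.Over (Spec (CommRingCat.of k))] [LocallyOfFiniteType (Y ↘ (Spec (CommRingCat.of k)))] [IsReduced Y]
    (f : Y ⟶ X) [f.IsOver (Spec (CommRingCat.of k))] [QuasiCompact f] [QuasiSeparated f] :
    IsFinite f.fromNormalization := by
  haveI : LocallyOfFiniteType f := by
    have h : f ≫ (X ↘ Spec (CommRingCat.of k)) = Y ↘ Spec (CommRingCat.of k) :=
      comp_over f (Spec (CommRingCat.of k))
    haveI : LocallyOfFiniteType (f ≫ (X ↘ Spec (CommRingCat.of k))) := by
      rw [h]; infer_instance
    exact locallyOfFiniteType_of_comp f (X ↘ Spec (CommRingCat.of k))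
  refine NagataFin.isFinite_fromNormalization f (fun U => ?_)
  obtain ⟨φ, hφ⟩ := NormGen.exists_finiteType k (X ↘ Spec (CommRingCat.of k)) U.2
  letI := φ.toAlgebra
  haveI : Algebra.FiniteType k Γ(X, U.1) := hφ
  refine ⟨Algebra.FiniteType.isNoetherianRing k _, fun p _ => ?_⟩
  haveI : Algebra.FiniteType k (Γ(X, U.1) ⧸ p) :=
    Algebra.FiniteType.of_surjective (Ideal.Quotient.mkₐ k p) Ideal.Quotient.mk_surjective
  exact N2.N2'_of_finiteType k _

end Groth.Agent.S7616
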