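import Groth.Statements.S7617
-- import your own Groth.Agent.* helpers here
import Groth.Agent.Lib.Helper23.DeltaSepH
import Groth.Agent.S1562

set_option autoImplicit false
universe u
open CategoryTheory CategoryTheory.Limits AlgebraicGeometry
open Variety

namespace Groth.Agent.S7617

/-- Let X be an integral scheme locally of finite type over a field k, ν : X^ν → X its normalization,
and x a point of X with dim O_{X, x} = 1 such that for every point x' of X^ν over x the residue
field κ(x') is separable over k (Spec κ(x') → Spec k geometrically reduced). Then X is geometrically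
reduced at x, and at every point of X^ν over x the normalization is geometrically regular. (The
published statement covers every scheme locally of finite type over k with reduced local ring at x,
using the normalization of a possibly non-integral scheme; this row takes X integral.) -/
theorem result (k : Type u) [Field k] (X : Scheme.{u}) [X.Over (Spec (CommRingCat.of k))] [IsIntegral X] [LocallyOfFiniteType (X ↘ (Spec (CommRingCat.of k)))]
    [QuasiCompact (X.fromSpecStalk (genericPoint X))] [QuasiSeparated (X.fromSpecStalk (genericPoint X))]
    (x : ↥X) (hdim : ringKrullDim ↥(X.presheaf.stalk x) = 1)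
    (hsep : letI : (Curv2.normalization X).Over (Spec (CommRingCat.of k)) := ⟨Curv2.normalizationι X ≫ (X ↘ (Spec (CommRingCat.of k)))⟩
      ∀ x' : ↥(Curv2.normalization X), Curv2.normalizationι X x' = x →
        GeometricallyReduced (Spec.map (CommRingCat.ofHom (Curv2.resMap k (Curv2.normalization X) x')))) :
    Curv2.IsGeomReducedAt k X x ∧
      letI : (Curv2.normalization X).Over (Spec (CommRingCat.of k)) := ⟨Curv2.normalizationι X ≫ (X ↘ (Spec (CommRingCat.of k)))⟩
      ∀ x' : ↥(Curv2.normalization X), Curv2.normalizationι X x' = x → Curv2.IsGeomRegularAt k (Curv2.normalization X) x' := by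
  constructor
  · intro K _ _ y hy
    subst hy
    exact Groth.Agent.Lib.Helper23.DeltaSepG.isReduced_stalk_bc k X K y hdim hsep
  · intro x' hx'
    subst hx'
    letI := Groth.Agent.Lib.Helper23.DeltaSepH.ovν k X
    haveI : LocallyOfFiniteType ((Groth.Agent.Lib.Helper23.DeltaSepF.Xν X) ↘
        (Spec (CommRingCat.of k))) :=
      Groth.Agent.Lib.Helper23.DeltaSepH.locallyOfFiniteType_ν k X
    haveI : LocallyOfFinitePresentation ((Groth.Agent.Lib.Helper23.DeltaSepF.Xν X) ↘
        (Spec (CommRingCat.of k))) := inferInstance
    exact (Groth.Agent.S1562.result k (Groth.Agent.Lib.Helper23.DeltaSepF.Xν X) x').2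
      (Groth.Agent.Lib.Helper23.DeltaSepH.mem_smoothLocus k X x' hdim (hsep x' rfl))

end Groth.Agent.S7617
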