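import Groth.Statements.S7618
import Mathlib.RingTheory.Artinian.Algebra
import Mathlib.RingTheory.IntegralClosure.Algebra.Basic

set_option autoImplicit false
universe u
open CategoryTheory CategoryTheory.Limits AlgebraicGeometry
open Variety

namespace Groth.Agent.S7618

/-- Algebraic core: in a nontrivial reduced algebra over a field with only trivial idempotents,
the integral closure of the field is a field. -/
lemma isField_integralClosure_of_trivial_idempotents (k R : Type*) [Field k] [CommRing R]
    [Algebra k R] [Nontrivial R] [_root_.IsReduced R]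
    (hidem : ∀ e : R, e * e = e → e = 0 ∨ e = 1) : IsField ↥(integralClosure k R) := by
  refine ⟨⟨0, 1, zero_ne_one⟩, mul_comm, fun {a} ha => ?_⟩
  have hai : IsIntegral k (a : R) := a.2
  let B := Algebra.adjoin k {(a : R)}
  let b : B := ⟨a, Algebra.self_mem_adjoin_singleton k (a : R)⟩
  haveI : Module.Finite k B := Algebra.finite_adjoin_simple_of_isIntegral hai
  haveI : IsArtinianRing B := isArtinian_of_tower k inferInstance
  obtain ⟨n, y, hy⟩ := IsArtinian.exists_pow_succ_smul_dvd b (1 : B)
  have hy' : b ^ (n + 1) * y = b ^ n := by simpa using hy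
  -- `b ^ n = b ^ (n + j) * y ^ j`
  have hpow : ∀ j : ℕ, b ^ n = b ^ (n + j) * y ^ j := by
    intro j
    induction j with
    | zero => simp
    | succ j ih =>
      calc b ^ n = b ^ (n + j) * y ^ j := ih
        _ = (b ^ (n + 1) * y) * b ^ j * y ^ j := by rw [hy', pow_add]
        _ = b ^ (n + (j + 1)) * y ^ (j + 1) := by ring
  let e : B := b ^ n * y ^ n
  have he : e * e = e := by
    calc e * e = (b ^ (n + n) * y ^ n) * y ^ n := by simp only [e]; ring
      _ = b ^ n * y ^ n := by rw [← hpow n]
  have heR : (e : R) * (e : R) = (e : R) := by exact_mod_cast congrArg Subtype.val he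
  have hby : b * y = 1 := by
    rcases hidem (e : R) heR with h0 | h1
    · exfalso
      have he0 : e = 0 := Subtype.ext h0
      have hbn : b ^ n = 0 := by
        calc b ^ n = b ^ (n + n) * y ^ n := hpow n
          _ = b ^ n * e := by simp only [e]; ring
          _ = 0 := by rw [he0, mul_zero]
      have hbnR : (a : R) ^ n = 0 := by
        have := congrArg Subtype.val hbn
        simpa [b] using this
      have haR : (a : R) = 0 := IsReduced.eq_zero _ ⟨n, hbnR⟩
      exact ha (Subtype.ext haR)
    · have he1 : e = 1 := Subtype.ext h1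
      calc b * y = b * y * e := by rw [he1, mul_one]
        _ = (b ^ (n + 1) * y) * y ^ n := by simp only [e]; ring
        _ = e := by rw [hy']
        _ = 1 := he1
  have hyi : IsIntegral k (y : R) := by
    have : IsIntegral k y := Algebra.IsIntegral.isIntegral y
    exact this.map B.val
  refine ⟨⟨(y : R), hyi⟩, ?_⟩
  apply Subtype.ext
  have := congrArg Subtype.val hby
  simpa [b] using this

/-- Sections of a connected reduced scheme have only trivial idempotents. -/
lemma trivial_idempotents (X : Scheme.{u}) [ConnectedSpace ↥X] [IsReduced X] (e : Γ(X, ⊤))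
    (he : e * e = e) : e = 0 ∨ e = 1 := by
  have hdisj : X.basicOpen e ⊓ X.basicOpen (1 - e) = ⊥ := by
    rw [← Scheme.basicOpen_mul]
    have : e * (1 - e) = 0 := by rw [mul_sub, mul_one, he, sub_self]
    rw [this, Scheme.basicOpen_zero]
  have hcov : (⊤ : X.Opens) ≤ X.basicOpen e ⊔ X.basicOpen (1 - e) := by
    have := X.basicOpen_add_le e (1 - e)
    rwa [add_sub_cancel, Scheme.basicOpen_one] at this
  have hcompl : ((X.basicOpen e : X.Opens) : Set X)ᶜ = (X.basicOpen (1 - e) : Set X) := by
    ext x
    constructor
    · intro hx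
      have := hcov (show x ∈ (⊤ : X.Opens) from trivial)
      rcases this with h | h
      · exact absurd h hx
      · exact h
    · intro hx hx'
      have : x ∈ X.basicOpen e ⊓ X.basicOpen (1 - e) := ⟨hx', hx⟩
      rw [hdisj] at this
      exact this
  have hclopen : IsClopen ((X.basicOpen e : X.Opens) : Set X) := by
    refine ⟨?_, (X.basicOpen e).2⟩
    rw [← isOpen_compl_iff, hcompl]
    exact (X.basicOpen (1 - e)).2
  rcases isClopen_iff.mp hclopen with h | h
  · left
    have : X.basicOpen e = ⊥ := TopologicalSpace.Opens.ext h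
    exact (basicOpen_eq_bot_iff e).mp this
  · right
    have h2 : (X.basicOpen (1 - e) : Set X) = ∅ := by
      rw [← hcompl, h, Set.compl_univ]
    have : X.basicOpen (1 - e) = ⊥ := TopologicalSpace.Opens.ext h2
    have := (basicOpen_eq_bot_iff (1 - e)).mp this
    exact (sub_eq_zero.mp this).symm

/-- Let X be a connected reduced scheme over a field k. Then the global functions on X that are integral
over k form a field. -/
theorem result (k : Type u) [Field k] (X : Scheme.{u}) [X.Over (Spec (CommRingCat.of k))] [ConnectedSpace ↥X] [IsReduced X] :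
    letI := ((X ↘ (Spec (CommRingCat.of k))).appTop.hom.comp (Scheme.ΓSpecIso (CommRingCat.of k)).inv.hom : k →+* Γ(X, ⊤)).toAlgebra
    IsField ↥(integralClosure k ↑Γ(X, ⊤)) := by
  letI := ((X ↘ (Spec (CommRingCat.of k))).appTop.hom.comp (Scheme.ΓSpecIso (CommRingCat.of k)).inv.hom : k →+* Γ(X, ⊤)).toAlgebra
  haveI : Nonempty ↥(⊤ : X.Opens) := by
    obtain ⟨x⟩ := (inferInstance : Nonempty ↥X)
    exact ⟨⟨x, trivial⟩⟩
  exact isField_integralClosure_of_trivial_idempotents k Γ(X, ⊤) (trivial_idempotents X)

end Groth.Agent.S7618
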