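import Groth.Statements.S7619
import Mathlib.RingTheory.LocalRing.Module

set_option autoImplicit false
universe u
open CategoryTheory CategoryTheory.Limits AlgebraicGeometry
open scoped TensorProduct
open Variety

namespace Groth.Agent.S7619

/-- The fibre of the module of differentials is spanned by the classes `1 ⊗ db`. -/
lemma span_one_tmul_D (A B : Type u) [CommRing A] [CommRing B] [Algebra A B]
    (K : Type u) [Field K] [Algebra B K] :
    Submodule.span K (Set.range fun b : B => (1 : K) ⊗ₜ[B] KaehlerDifferential.D A B b) = ⊤ := by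
  rw [eq_top_iff]
  rintro z -
  set S := Submodule.span K (Set.range fun b : B => (1 : K) ⊗ₜ[B] KaehlerDifferential.D A B b)
  have h1 : ∀ ω : Ω[B⁄A], (1 : K) ⊗ₜ[B] ω ∈ S := by
    intro ω
    have hω : ω ∈ Submodule.span B (Set.range (KaehlerDifferential.D A B)) := by
      rw [KaehlerDifferential.span_range_derivation]; trivial
    induction hω using Submodule.span_induction with
    | mem x hx =>
      obtain ⟨b, rfl⟩ := hx
      exact Submodule.subset_span ⟨b, rfl⟩
    | zero => simp
    | add x y _ _ hx hy => rw [TensorProduct.tmul_add]; exact S.add_mem hx hy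
    | smul c x _ hx =>
      rw [TensorProduct.tmul_smul, ← algebraMap_smul K c ((1 : K) ⊗ₜ[B] x)]
      exact S.smul_mem _ hx
  induction z using TensorProduct.induction_on with
  | zero => exact S.zero_mem
  | tmul c ω =>
    have : c ⊗ₜ[B] ω = c • ((1 : K) ⊗ₜ[B] ω) := by
      rw [TensorProduct.smul_tmul', smul_eq_mul, mul_one]
    rw [this]
    exact S.smul_mem _ (h1 ω)
  | add x y hx hy => exact S.add_mem hx hy

/-- Let A → B be a finite type ring map (a finite type morphism of affine schemes), q a prime of B and r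
= dim_{κ(q)} Ω_{B/A} ⊗_B κ(q). Then there is an A-algebra homomorphism A[x_1, …, x_r] → B for which
B is unramified over A[x_1, …, x_r] at q. -/
theorem result (A B : Type u) [CommRing A] [CommRing B] [Algebra A B] [Algebra.FiniteType A B]
    (q : Ideal B) [q.IsPrime] (r : ℕ) (hr : Module.finrank q.ResidueField (q.ResidueField ⊗[B] Ω[B⁄A]) = r) :
    ∃ φ : MvPolynomial (Fin r) A →ₐ[A] B,
      letI := φ.toRingHom.toAlgebra
      Algebra.IsUnramifiedAt (MvPolynomial (Fin r) A) q := by
  set K := q.ResidueField
  have hspan := span_one_tmul_D A B K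
  set s := Set.range fun b : B => (1 : K) ⊗ₜ[B] KaehlerDifferential.D A B b
  haveI : Module.Finite K (Submodule.span K s) := by
    rw [hspan]; infer_instance
  obtain ⟨f, hf, hfspan, -⟩ := Submodule.exists_fun_fin_finrank_span_eq K s
  have hr' : Module.finrank K (Submodule.span K s) = r := by
    rw [hspan, finrank_top, hr]
  have hf' : ∀ i : Fin r, ∃ b : B, (1 : K) ⊗ₜ[B] KaehlerDifferential.D A B b = f (Fin.cast hr'.symm i) :=
    fun i => hf _
  choose b hb using hf'
  have hbspan : Submodule.span K (Set.range fun i : Fin r =>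
      (1 : K) ⊗ₜ[B] KaehlerDifferential.D A B (b i)) = ⊤ := by
    rw [← hspan, ← hfspan]
    congr 1
    ext x
    constructor
    · rintro ⟨i, rfl⟩
      exact ⟨_, (hb i).symm⟩
    · rintro ⟨i, rfl⟩
      refine ⟨Fin.cast hr' i, ?_⟩
      simp only [hb, Fin.cast_cast, Fin.cast_eq_self]
  let φ : MvPolynomial (Fin r) A →ₐ[A] B := MvPolynomial.aeval b
  refine ⟨φ, ?_⟩
  letI := φ.toRingHom.toAlgebra
  haveI : IsScalarTower A (MvPolynomial (Fin r) A) B :=
    IsScalarTower.of_algebraMap_eq' φ.comp_algebraMap.symm
  haveI : Algebra.FiniteType (MvPolynomial (Fin r) A) B :=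
    Algebra.FiniteType.of_restrictScalars_finiteType A (MvPolynomial (Fin r) A) B
  -- reduce to the vanishing of the fibre of `Ω[B⁄P]`
  suffices h : (⟨q, inferInstance⟩ : PrimeSpectrum B) ∈
      Algebra.unramifiedLocus (MvPolynomial (Fin r) A) B from h
  rw [Algebra.unramifiedLocus_eq_compl_support, Set.mem_compl_iff,
    Module.mem_support_iff_nontrivial_residueField_tensorProduct, not_nontrivial_iff_subsingleton]
  show Subsingleton (K ⊗[B] Ω[B⁄MvPolynomial (Fin r) A])
  let ψ : Ω[B⁄A] →ₗ[B] Ω[B⁄MvPolynomial (Fin r) A] :=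
    KaehlerDifferential.map A (MvPolynomial (Fin r) A) B B
  have hψ : Function.Surjective ψ := KaehlerDifferential.map_surjective A (MvPolynomial (Fin r) A) B
  have hψK : Function.Surjective (ψ.baseChange K) := by
    rw [LinearMap.baseChange_eq_ltensor]
    exact LinearMap.lTensor_surjective _ hψ
  have hzero : ψ.baseChange K = 0 := by
    apply LinearMap.ext_on hbspan
    rintro _ ⟨i, rfl⟩
    simp only [LinearMap.baseChange_tmul, LinearMap.zero_apply]
    have : ψ (KaehlerDifferential.D A B (b i)) = 0 := by
      simp only [ψ, KaehlerDifferential.map_D, Algebra.algebraMap_self, RingHom.id_apply]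
      have hbi : b i = algebraMap (MvPolynomial (Fin r) A) B (MvPolynomial.X i) := by
        show b i = φ (MvPolynomial.X i)
        simp [φ]
      rw [hbi, Derivation.map_algebraMap]
    rw [this, TensorProduct.tmul_zero]
  refine ⟨fun x y => ?_⟩
  obtain ⟨x', rfl⟩ := hψK x
  obtain ⟨y', rfl⟩ := hψK y
  rw [hzero]
  rfl

end Groth.Agent.S7619
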