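import Groth.Statements.S7620
import Groth.Agent.Lib.Helper12.IntegralDim
import Mathlib.RingTheory.NoetherNormalization
import Mathlib.RingTheory.RingHom.FiniteType

set_option autoImplicit false
universe u
open CategoryTheory CategoryTheory.Limits AlgebraicGeometry
open scoped TensorProduct
open Variety

namespace Groth.Agent.S7620

open Groth.Agent.Lib.Helper12

/-- Elements of the residue field at `p` are fractions with denominator outside `p`. -/
lemma exists_mul_eq (A : Type u) [CommRing A] (p : Ideal A) [p.IsPrime] (c : p.ResidueField) :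
    ∃ (a s : A), s ∉ p ∧ algebraMap A p.ResidueField s * c = algebraMap A p.ResidueField a := by
  obtain ⟨l, rfl⟩ := IsLocalRing.residue_surjective (R := Localization.AtPrime p) c
  obtain ⟨a, s, rfl⟩ := IsLocalization.exists_mk'_eq p.primeCompl l
  refine ⟨a, s.1, s.2, ?_⟩
  rw [IsScalarTower.algebraMap_apply A (Localization.AtPrime p) p.ResidueField,
    IsScalarTower.algebraMap_apply A (Localization.AtPrime p) p.ResidueField,
    IsLocalRing.ResidueField.algebraMap_eq, ← map_mul, mul_comm, IsLocalization.mk'_spec]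

/-- Every element of the fibre ring becomes a pure tensor `1 ⊗ b` after multiplying by an element
outside `p`. -/
lemma exists_smul_eq_one_tmul (A B : Type u) [CommRing A] [CommRing B] [Algebra A B]
    (p : Ideal A) [p.IsPrime] (z : p.ResidueField ⊗[A] B) :
    ∃ (s : A) (b : B), s ∉ p ∧ s • z = 1 ⊗ₜ[A] b := by
  induction z using TensorProduct.induction_on with
  | zero => exact ⟨1, 0, fun h => (Ideal.IsPrime.ne_top ‹_›) ((Ideal.eq_top_iff_one p).mpr h), by simp⟩
  | tmul c b =>
    obtain ⟨a, s, hs, hsc⟩ := exists_mul_eq A p c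
    refine ⟨s, a • b, hs, ?_⟩
    rw [TensorProduct.smul_tmul', Algebra.smul_def, hsc, Algebra.algebraMap_eq_smul_one,
      TensorProduct.smul_tmul]
  | add z₁ z₂ h₁ h₂ =>
    obtain ⟨s₁, b₁, hs₁, e₁⟩ := h₁
    obtain ⟨s₂, b₂, hs₂, e₂⟩ := h₂
    refine ⟨s₁ * s₂, s₂ • b₁ + s₁ • b₂, fun h => ?_, ?_⟩
    · rcases (Ideal.IsPrime.mem_or_mem ‹_› h) with h | h
      · exact hs₁ h
      · exact hs₂ h
    · rw [smul_add, mul_comm s₁ s₂, mul_smul, e₁, mul_comm s₂ s₁, mul_smul, e₂,
        TensorProduct.tmul_add, TensorProduct.tmul_smul, TensorProduct.tmul_smul]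

/-- Let A → B be a finite type ring map (a finite type morphism of affine schemes X → S), p a prime of A
and suppose the fibre ring κ(p) ⊗_A B has Krull dimension d. Then there is an A-algebra homomorphism
π : A[t_1, …, t_d] → B such that the induced map of fibres κ(p) ⊗_A A[t_1, …, t_d] → κ(p) ⊗_A B is
finite. -/
theorem result (A B : Type u) [CommRing A] [CommRing B] [Algebra A B] [Algebra.FiniteType A B]
    (p : Ideal A) [p.IsPrime] (d : ℕ) (hd : ringKrullDim (p.ResidueField ⊗[A] B) = d) :
    ∃ π : MvPolynomial (Fin d) A →ₐ[A] B,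
      (Algebra.TensorProduct.map (AlgHom.id p.ResidueField p.ResidueField) π).toRingHom.Finite := by
  haveI : Nontrivial (p.ResidueField ⊗[A] B) := by
    by_contra h
    rw [not_nontrivial_iff_subsingleton] at h
    rw [ringKrullDim_eq_bot_of_subsingleton] at hd
    exact WithBot.bot_ne_coe hd
  haveI : Algebra.FiniteType p.ResidueField (p.ResidueField ⊗[A] B) := inferInstance
  obtain ⟨s, g, hginj, hgfin⟩ :=
    exists_finite_inj_algHom_of_fg p.ResidueField (p.ResidueField ⊗[A] B)
  -- `s ≤ d`
  have hsd : s ≤ d := by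
    have h1 : ringKrullDim (MvPolynomial (Fin s) p.ResidueField) ≤
        ringKrullDim (p.ResidueField ⊗[A] B) := by
      letI := g.toRingHom.toAlgebra
      haveI : Module.Finite (MvPolynomial (Fin s) p.ResidueField) (p.ResidueField ⊗[A] B) := hgfin
      haveI : Algebra.IsIntegral (MvPolynomial (Fin s) p.ResidueField) (p.ResidueField ⊗[A] B) :=
        Algebra.IsIntegral.of_finite _ _
      exact ringKrullDim_le_of_isIntegral_of_injective hginj
    rw [ringKrullDim_mvPolynomial_field, hd] at h1
    exact_mod_cast h1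
  -- lift the images of the variables
  choose σ b hσ hb using fun i : Fin s =>
    exists_smul_eq_one_tmul A B p (g (MvPolynomial.X i))
  let π : MvPolynomial (Fin d) A →ₐ[A] B :=
    MvPolynomial.aeval (fun j : Fin d => if h : (j : ℕ) < s then b ⟨j, h⟩ else 0)
  refine ⟨π, ?_⟩
  have hunit : ∀ i, algebraMap A p.ResidueField (σ i) ≠ 0 := fun i h =>
    hσ i (Ideal.algebraMap_residueField_eq_zero.mp h)
  let θ : MvPolynomial (Fin s) p.ResidueField →ₐ[p.ResidueField]
      p.ResidueField ⊗[A] MvPolynomial (Fin d) A :=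
    MvPolynomial.aeval (fun i : Fin s =>
      (algebraMap A p.ResidueField (σ i))⁻¹ • ((1 : p.ResidueField) ⊗ₜ[A]
        (MvPolynomial.X (Fin.castLE hsd i) : MvPolynomial (Fin d) A)))
  have hcomp : (Algebra.TensorProduct.map (AlgHom.id p.ResidueField p.ResidueField) π).comp θ = g := by
    apply MvPolynomial.algHom_ext
    intro i
    have hπ : π (MvPolynomial.X (Fin.castLE hsd i)) = b i := by
      simp only [π, MvPolynomial.aeval_X, Fin.coe_castLE, Fin.is_lt, dite_true, Fin.eta]
    rw [AlgHom.comp_apply]
    simp only [θ, MvPolynomial.aeval_X]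
    rw [map_smul, Algebra.TensorProduct.map_tmul, hπ, map_one, ← hb i]
    rw [← algebraMap_smul p.ResidueField (σ i) (g (MvPolynomial.X i)), smul_smul,
      inv_mul_cancel₀ (hunit i), one_smul]
  have : ((Algebra.TensorProduct.map (AlgHom.id p.ResidueField p.ResidueField) π).toRingHom.comp
      θ.toRingHom).Finite := by
    have h2 : (Algebra.TensorProduct.map (AlgHom.id p.ResidueField p.ResidueField) π).toRingHom.comp
        θ.toRingHom = g.toRingHom := by
      rw [← hcomp]; rfl
    rw [h2]
    exact hgfin
  exact RingHom.Finite.of_comp_finite this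

end Groth.Agent.S7620
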