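import Groth.Statements.S7626
import Groth.Agent.Lib.Helper26.SecAvoid2


set_option autoImplicit false
universe u
open CategoryTheory CategoryTheory.Limits AlgebraicGeometry
open Variety

namespace Groth.Agent.S7626

/-- Let k be an infinite field, X a scheme of finite type over k, L a very ample invertible O_X-module
on X over k, n ≥ 0, x a k-rational point of X and x_1, …, x_n points of X with x_i ≠ x. Then there
is a global section s of L which vanishes at x (x is not in the open where s generates L) but does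
not vanish at any x_i. -/
theorem result (k : Type u) [Field k] (X : Scheme.{u}) [X.Over (Spec (CommRingCat.of k))] [Infinite k]
    [LocallyOfFiniteType (X ↘ (Spec (CommRingCat.of k)))] [QuasiCompact (X ↘ (Spec (CommRingCat.of k)))]
    (L : X.Modules) (hL : RelAmple.IsRelVeryAmplePn (X ↘ (Spec (CommRingCat.of k))) L)
    (x : ↥X) (hx : Function.Surjective (Curv2.resMap k X x)) (n : ℕ) (pts : Fin n → ↥X) (hne : ∀ i, pts i ≠ x) :
    ∃ s : Coh.structureModule X ⟶ L, x ∉ CohB1.genLocus L s ∧ ∀ i, pts i ∈ CohB1.genLocus L s := by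
  classical
  obtain ⟨κ, hfin, t, K, hcovK, himm⟩ :=
    Groth.Agent.Lib.Helper3.VAChart.isVA'_of_isRelVeryAmplePn (X ↘ Spec (CommRingCat.of k)) hL
  haveI := Fintype.ofFinite κ
  haveI := Groth.Agent.Lib.Helper12.isIso_fromSpecResidueField_comp_of_surjective k X x hx
  let σ : Spec (CommRingCat.of k) ⟶ X :=
    inv (X.fromSpecResidueField x ≫ (X ↘ Spec (CommRingCat.of k))) ≫ X.fromSpecResidueField x
  have hσ : σ ≫ (X ↘ Spec (CommRingCat.of k)) = 𝟙 _ := by
    simp only [σ, Category.assoc, IsIso.inv_hom_id]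
  have hσx : ∀ p, σ p = x := fun p => by
    show (inv (X.fromSpecResidueField x ≫ (X ↘ Spec (CommRingCat.of k))) ≫
      X.fromSpecResidueField x) p = x
    rw [Scheme.Hom.comp_apply]
    exact Scheme.fromSpecResidueField_apply x _
  obtain ⟨a, h1, h2⟩ := Groth.Agent.Lib.Helper26.SecAvoid.exists_comb
    (X ↘ Spec (CommRingCat.of k)) L t K hcovK himm σ hσ x hσx pts hne
  exact ⟨Groth.Agent.Lib.Helper3.InvAmple.globalHom L
    (Groth.Agent.Lib.Helper26.SecAvoid.comb L t
      (Groth.Agent.Lib.Helper26.SecAvoid.τ (X ↘ Spec (CommRingCat.of k))) a), h1, h2⟩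

end Groth.Agent.S7626
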