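import Groth.Statements.S7629
import Groth.Agent.Lib.Helper11.Birat4

set_option autoImplicit false
universe u
open CategoryTheory CategoryTheory.Limits AlgebraicGeometry
open Variety

namespace Groth.Agent.S7629

open CategoryTheory AlgebraicGeometry in
/-- the canonical map from `k` to a stalk of `Spec k` -/
noncomputable def ts (k : Type u) [CommRing k] (p : Spec (CommRingCat.of k)) :
    CommRingCat.of k ⟶ (Spec (CommRingCat.of k)).presheaf.stalk p :=
  (Scheme.ΓSpecIso (CommRingCat.of k)).inv ≫ (Spec (CommRingCat.of k)).presheaf.germ ⊤ p trivial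

open CategoryTheory AlgebraicGeometry in
theorem ts_ext (R : Type u) [CommRing R] (p : Spec (CommRingCat.of R)) {T : CommRingCat.{u}}
    (f g : (Spec (CommRingCat.of R)).presheaf.stalk p ⟶ T)
    (h : ts R p ≫ f = ts R p ≫ g) : f = g := by
  apply CommRingCat.hom_ext
  have := congrArg CommRingCat.Hom.hom h
  exact IsLocalization.ringHom_ext (R := R) (S := (Spec.structureSheaf R).presheaf.stalk p)
    (PrimeSpectrum.asIdeal p).primeCompl this

open CategoryTheory AlgebraicGeometry in
theorem ts_specializes (R : Type u) [CommRing R] {p q : Spec (CommRingCat.of R)} (h : p ⤳ q) :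
    ts R q ≫ (Spec (CommRingCat.of R)).presheaf.stalkSpecializes h = ts R p := by
  unfold ts
  rw [Category.assoc, TopCat.Presheaf.germ_stalkSpecializes]

open CategoryTheory AlgebraicGeometry in
theorem stalkMap_eq (k : Type u) [Field k] (Z : Scheme.{u}) [Z.Over (Spec (CommRingCat.of k))]
    (z : Z) :
    CommRingCat.ofHom (Curv2.stalkMap k Z z) =
      ts k ((Z ↘ Spec (CommRingCat.of k)).base z) ≫
        (Z ↘ Spec (CommRingCat.of k)).stalkMap z := by
  have h1 := Scheme.Hom.germ_stalkMap (Z ↘ Spec (CommRingCat.of k)) ⊤ z trivial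
  unfold ts
  rw [Category.assoc, h1]
  rfl

/-- (2) ⇒ (3): let X and Y be varieties over a field k (integral, separated, of finite type) and suppose
the function fields k(X) and k(Y) are isomorphic as k-algebras. Then there are nonempty open
subschemes U ⊆ X and V ⊆ Y which are isomorphic as schemes over k. -/
theorem result (k : Type u) [Field k] (X : Scheme.{u}) [X.Over (Spec (CommRingCat.of k))] [IsIntegral X] [IsSeparated (X ↘ (Spec (CommRingCat.of k)))] [LocallyOfFiniteType (X ↘ (Spec (CommRingCat.of k)))] [QuasiCompact (X ↘ (Spec (CommRingCat.of k)))]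
    (Y : Scheme.{u}) [Y.Over (Spec (CommRingCat.of k))] [IsIntegral Y] [IsSeparated (Y ↘ (Spec (CommRingCat.of k)))] [LocallyOfFiniteType (Y ↘ (Spec (CommRingCat.of k)))] [QuasiCompact (Y ↘ (Spec (CommRingCat.of k)))]
    (e : X.functionField ≅ Y.functionField)
    (he : e.hom.hom.comp (Curv2.stalkMap k X (genericPoint X)) = Curv2.stalkMap k Y (genericPoint Y)) :
    ∃ (U : X.Opens) (V : Y.Opens), (U : Set ↥X).Nonempty ∧
      ∃ φ : (U : Scheme.{u}) ≅ (V : Scheme.{u}), φ.hom ≫ V.ι ≫ (Y ↘ (Spec (CommRingCat.of k))) = U.ι ≫ (X ↘ (Spec (CommRingCat.of k))) := by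

  have hs : (X ↘ Spec (CommRingCat.of k)).base (genericPoint X) =
      (Y ↘ Spec (CommRingCat.of k)).base (genericPoint Y) :=
    Subsingleton.elim (α := ↥(Spec (CommRingCat.of k))) _ _
  have hYfin : (irreducibleComponents ↥Y).Finite := by
    rw [irreducibleComponents_eq_singleton]
    exact Set.finite_singleton _
  have hXk := stalkMap_eq k X (genericPoint X)
  have hYk := stalkMap_eq k Y (genericPoint Y)
  have he' : CommRingCat.ofHom (Curv2.stalkMap k X (genericPoint X)) ≫ e.hom =
      CommRingCat.ofHom (Curv2.stalkMap k Y (genericPoint Y)) := by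
    apply CommRingCat.hom_ext
    exact he
  have ha : (Y ↘ Spec (CommRingCat.of k)).stalkMap (genericPoint Y) ≫ e.inv =
      (Spec (CommRingCat.of k)).presheaf.stalkSpecializes (Inseparable.of_eq hs).specializes ≫
        (X ↘ Spec (CommRingCat.of k)).stalkMap (genericPoint X) := by
    apply ts_ext
    rw [← Category.assoc, ← hYk, ← he', Category.assoc, e.hom_inv_id, ← Category.assoc,
      ts_specializes, ← hXk]
    exact Category.comp_id _
  haveI : IsIso e.inv := inferInstance
  obtain ⟨U, V, iso, hxU, hyV, hcompat⟩ :=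
    Groth.Agent.Lib.Helper11.Birat.exists_iso_opens_of_stalkIso_lft
      (X ↘ Spec (CommRingCat.of k)) (Y ↘ Spec (CommRingCat.of k)) hYfin
      (genericPoint X) (genericPoint Y) hs e.inv ha
  exact ⟨U, V, ⟨_, hxU⟩, iso, hcompat⟩

end Groth.Agent.S7629
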