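import Groth.Statements.S7630
import Groth.Agent.Lib.Helper3.AmpleFieldC
import Groth.Agent.Lib.Helper3.RelAmpleLib

set_option autoImplicit false
universe u
open CategoryTheory CategoryTheory.Limits AlgebraicGeometry
open Variety

namespace Groth.Agent.S7630

/-- Let X be a scheme over a field k and K an extension field of k. If X_K → Spec K is quasi-projective
(of finite type and admitting a relatively ample invertible module), then so is X → Spec k. -/
theorem result (k : Type u) [Field k] (X : Scheme.{u}) [X.Over (Spec (CommRingCat.of k))] (K : Type u) [Field K] [Algebra k K]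
    (h : RelProj.IsQuasiProjective (Curv2.bcSnd k X K)) : RelProj.IsQuasiProjective (X ↘ (Spec (CommRingCat.of k))) := by
  obtain ⟨hlft, hqc, L', hL'⟩ := h
  have hsq : IsPullback (Curv2.bcFst k X K) (Curv2.bcSnd k X K)
      (X ↘ (Spec (CommRingCat.of k))) (Spec.map (CommRingCat.ofHom (algebraMap k K))) :=
    IsPullback.of_hasPullback _ _
  have hflat : Flat (Spec.map (CommRingCat.ofHom (algebraMap k K))) := by
    rw [Flat.SpecMap_iff]
    exact RingHom.flat_algebraMap_iff.mpr inferInstance
  have hsurj : Surjective (Spec.map (CommRingCat.ofHom (algebraMap k K))) := by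
    constructor
    intro y
    haveI : Subsingleton (Spec (CommRingCat.of k)) :=
      inferInstanceAs (Subsingleton (PrimeSpectrum k))
    haveI : Nonempty (Spec (CommRingCat.of K)) :=
      inferInstanceAs (Nonempty (PrimeSpectrum K))
    obtain ⟨z⟩ : Nonempty (Spec (CommRingCat.of K)) := inferInstance
    exact ⟨z, Subsingleton.elim _ _⟩
  have hqc' : QuasiCompact (Spec.map (CommRingCat.ofHom (algebraMap k K))) := inferInstance
  have hfpqc : (@Surjective ⊓ @Flat ⊓ @QuasiCompact : MorphismProperty Scheme.{u})
      (Spec.map (CommRingCat.ofHom (algebraMap k K))) := ⟨⟨hsurj, hflat⟩, hqc'⟩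
  have hLFT : LocallyOfFiniteType (X ↘ (Spec (CommRingCat.of k))) :=
    MorphismProperty.of_isPullback_of_descendsAlong (P := @LocallyOfFiniteType)
      (Q := (@Surjective ⊓ @Flat ⊓ @QuasiCompact : MorphismProperty Scheme.{u})) hsq.flip hfpqc hlft
  haveI := hqc
  haveI : CompactSpace ↥(Curv2.bc k X K) :=
    QuasiCompact.compactSpace_of_compactSpace (Curv2.bcSnd k X K)
  haveI : CompactSpace X := Groth.Agent.Lib.Helper3.AmpleField.compactSpace_of_bc k X K
  have hQC : QuasiCompact (X ↘ (Spec (CommRingCat.of k))) :=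
    (HasAffineProperty.iff_of_isAffine (P := @QuasiCompact)).mpr inferInstance
  haveI := hqc
  haveI := hQC
  have hA' : CohB1.IsAmple L' :=
    (Groth.Agent.Lib.Helper3.RelAmpleLib.isRelAmple_iff_isAmple_of_isAffine
      (Curv2.bcSnd k X K) L').1 hL'
  obtain ⟨L, hL⟩ := Groth.Agent.Lib.Helper3.AmpleField.exists_ample_of_ample_bc k X K L' hA'
  exact ⟨hLFT, hQC, L, (Groth.Agent.Lib.Helper3.RelAmpleLib.isRelAmple_iff_isAmple_of_isAffine
      (X ↘ (Spec (CommRingCat.of k))) L).2 hL⟩

end Groth.Agent.S7630
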