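import Groth.Statements.S7636
-- import your own Groth.Agent.* helpers here
import Groth.Agent.Lib.Helper23.FBC5
import Groth.Agent.Lib.Helper23.CurveE

set_option autoImplicit false
universe u
open CategoryTheory CategoryTheory.Limits AlgebraicGeometry
open Variety

namespace Groth.Agent.S7636

/-- Let X be proper of dimension at most one over a field k, let k' be a field extension of k and let E
be a finite locally free module of rank n on X. Then the degree of the pullback of E to the base
change X_{k'}, computed over k', equals the degree of E over k. -/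
theorem result (k : Type u) [Field k] (X : Scheme.{u}) [X.Over (Spec (CommRingCat.of k))] [IsProper (X ↘ (Spec (CommRingCat.of k)))]
    (hdim : topologicalKrullDim X ≤ 1) (k' : Type u) [Field k'] [Algebra k k']
    (n : ℕ) (E : X.Modules) (hE : FlatMod.IsFinLocFreeOfRank n E) :
    @Curv2.deg k' _ (Curv2.bc k X k') ⟨Curv2.bcSnd k X k'⟩
        ((Scheme.Modules.pullback (Curv2.bcFst k X k')).obj E) n = Curv2.deg k X E n := by
  haveI : E.IsQuasicoherent := (Groth.Agent.Lib.Helper23.Curve.isCoh_of_isFinLocFreeOfRank hE).1
  letI : (Curv2.bc k X k').Over (Spec (CommRingCat.of k')) := ⟨Curv2.bcSnd k X k'⟩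
  have hpb : IsPullback (Curv2.bcFst k X k') ((Curv2.bc k X k') ↘ Spec (CommRingCat.of k'))
      (X ↘ Spec (CommRingCat.of k)) (Spec.map (CommRingCat.ofHom (algebraMap k k'))) :=
    IsPullback.of_hasPullback _ _
  exact Groth.Agent.Lib.Helper23.FBC.deg_eq_of_isProper k k' hpb E n

end Groth.Agent.S7636
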