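import Groth.Statements.S7641
import Groth.Agent.Lib.Helper23.CurveH
import Groth.Agent.Lib.Helper23.CurveD
import Groth.Agent.Lib.Helper3.PbBasic
import Groth.Agent.Lib.Helper7.RedLib
import Groth.Agent.Lib.Helper3.GrModComap

set_option autoImplicit false
universe u
open CategoryTheory CategoryTheory.Limits AlgebraicGeometry
open Variety

namespace Groth.Agent.S7641

open Groth.Agent.Lib.Helper3 Groth.Agent.Lib.Helper3.QCSec Groth.Agent.Lib.Helper3.InvGen
  Groth.Agent.Lib.Helper3.InvTensor Groth.Agent.Lib.Helper3.InvMonoidal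
open TopologicalSpace

theorem radical_radical' {X : Scheme.{u}} (I : X.IdealSheafData) :
    I.radical.radical = I.radical := by
  apply Scheme.IdealSheafData.ext
  funext U
  simp only [Scheme.IdealSheafData.radical_ideal]
  exact Ideal.radical_idem _

theorem genLocus_zero' {X : Scheme.{u}} {L : X.Modules} (hL : PicF.IsInvertible L) :
    CohB1.genLocus L (0 : Coh.structureModule X ⟶ L) = ⊥ := by
  rw [eq_bot_iff]
  intro x hx
  obtain ⟨U, e, hxU, hg⟩ := exists_isGen hL x
  have h := genLocus_inf_eq_basicOpen (0 : Coh.structureModule X ⟶ L) hg 0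
    (by rw [zero_smul]; rfl)
  have hx' : x ∈ CohB1.genLocus L (0 : Coh.structureModule X ⟶ L) ⊓ U := ⟨hx, hxU⟩
  rw [h, Scheme.basicOpen_zero] at hx'
  exact hx'

/-- on a reduced scheme a section of an invertible module generating nowhere is zero -/
theorem eq_zero_of_genLocus_eq_bot {X : Scheme.{u}} [IsReduced X] {L : X.Modules}
    (hL : PicF.IsInvertible L) (s : Coh.structureModule X ⟶ L)
    (hs : CohB1.genLocus L s = ⊥) : s = 0 := by
  apply ProjUniq.unit_hom_ext
  have h0 : sec (0 : Coh.structureModule X ⟶ L) ⊤ = 0 := rfl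
  rw [h0]
  have hloc : ∀ x : X, ∃ U : X.Opens, x ∈ U ∧ sec s U = 0 := by
    intro x
    obtain ⟨U, e, hxU, hg⟩ := exists_isGen hL x
    obtain ⟨b, hb⟩ := hg.self.exists_coord (sec s U)
    have h1 := genLocus_inf_eq_basicOpen s hg b hb.symm
    have h2 : X.basicOpen b = ⊥ := by
      rw [← h1, hs, bot_inf_eq]
    have h3 : b = 0 := (basicOpen_eq_bot_iff b).mp h2
    exact ⟨U, hxU, by rw [← hb, h3, zero_smul]⟩
  choose U hxU hU using hloc
  apply sec_eq_of_locally_eq L U ⊤ (fun _ => le_top) (fun x _ => Opens.mem_iSup.mpr ⟨x, hxU x⟩)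
  intro x
  rw [res_sec, hU x, res_zero]

theorem isIso_of_genLocus_eq_top {X : Scheme.{u}} {L : X.Modules}
    (s : Coh.structureModule X ⟶ L) (hs : CohB1.genLocus L s = ⊤) : IsIso s := by
  apply Groth.Agent.Lib.Helper3.GrModComap.isIso_of_bijective_on_basis
  intro W y hy
  refine ⟨W, hy, le_rfl, ?_⟩
  rw [bijective_app_iff]
  have hg : IsGen _ W (sec s W) := isGen_sec_of_le s (by rw [hs]; exact le_top)
  exact hg.self

theorem genLocus_eq_top_of_isIso {X : Scheme.{u}} {L : X.Modules}
    (s : Coh.structureModule X ⟶ L) [IsIso s] : CohB1.genLocus L s = ⊤ := by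
  apply top_le_iff.mp
  apply le_genLocus
  intro V hV
  rw [res_sec, ← bijective_app_iff]
  refine Function.bijective_iff_has_inverse.mpr ⟨(inv s).app V, ?_, ?_⟩
  · intro z
    exact inv_app_app s V z
  · intro z
    exact iso_hom_inv_app (asIso s) V z

/-- Let X be proper over a field k, reduced and connected, with every irreducible component of dimension
one, and let L be an invertible module whose restriction to each irreducible component C, with its
reduced induced structure, has degree at most zero. Then H^0(X, L) = 0 or L is isomorphic to O_X. -/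
theorem result (k : Type u) [Field k] (X : Scheme.{u}) [X.Over (Spec (CommRingCat.of k))] [IsProper (X ↘ (Spec (CommRingCat.of k)))]
    [IsReduced X] [ConnectedSpace X] [IsNoetherian X]
    (hdim : ∀ (C : Set X), C ∈ irreducibleComponents (X : Type u) → topologicalKrullDim C = 1)
    (L : X.Modules) (hL : PicF.IsInvertible L)
    (hdeg : ∀ (C : Set X) (hC : C ∈ irreducibleComponents (X : Type u)), @Curv2.deg k _ (X.irreducibleComponentIdeal C hC).radical.subscheme ⟨(X.irreducibleComponentIdeal C hC).radical.subschemeι ≫ (X ↘ (Spec (CommRingCat.of k)))⟩ ((Scheme.Modules.pullback (X.irreducibleComponentIdeal C hC).radical.subschemeι).obj L) 1 ≤ 0) :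
    Subsingleton (Coh.HH X L 0) ∨ Nonempty (L ≅ Coh.structureModule X) := by
  classical
  by_cases h0 : Subsingleton (Coh.HH X L 0)
  · exact Or.inl h0
  right
  obtain ⟨s, hs⟩ := Groth.Agent.Lib.Helper23.Curve.exists_section_of_nontrivial L
    (not_subsingleton_iff_nontrivial.mp h0)
  have hcomp : ∀ (C : Set X) (hC : C ∈ irreducibleComponents (X : Type u)),
      C ⊆ ((CohB1.genLocus L s : X.Opens) : Set X) ∨
        C ∩ ((CohB1.genLocus L s : X.Opens) : Set X) = ∅ := by
    intro C hC
    have hirr : IsIrreducible
        (((X.irreducibleComponentIdeal C hC).radical.support : Closeds X) : Set X) := hC.1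
    haveI : IsReduced (X.irreducibleComponentIdeal C hC).radical.subscheme :=
      (Groth.Agent.Lib.Helper7.isReduced_subscheme_iff _).2
        (radical_radical' _)
    haveI : IrreducibleSpace (X.irreducibleComponentIdeal C hC).radical.subscheme :=
      Subtype.irreducibleSpace hirr
    haveI : IsIntegral (X.irreducibleComponentIdeal C hC).radical.subscheme :=
      isIntegral_of_irreducibleSpace_of_isReduced _
    have hle : topologicalKrullDim (X.irreducibleComponentIdeal C hC).radical.subscheme ≤ 1 :=
      (hdim C hC).le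
    letI : (X.irreducibleComponentIdeal C hC).radical.subscheme.Over (Spec (CommRingCat.of k)) :=
      ⟨(X.irreducibleComponentIdeal C hC).radical.subschemeι ≫ (X ↘ (Spec (CommRingCat.of k)))⟩
    haveI : IsProper ((X.irreducibleComponentIdeal C hC).radical.subscheme ↘
        Spec (CommRingCat.of k)) := by
      change IsProper ((X.irreducibleComponentIdeal C hC).radical.subschemeι ≫
        (X ↘ (Spec (CommRingCat.of k))))
      infer_instance
    have hLI := PbBasic.isInvertible_pullback
      (X.irreducibleComponentIdeal C hC).radical.subschemeι hL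
    have hgl := PbBasic.genLocus_pullHom (X.irreducibleComponentIdeal C hC).radical.subschemeι hL s
    by_cases ht : PbBasic.pullHom (X.irreducibleComponentIdeal C hC).radical.subschemeι s = 0
    · right
      rw [Set.eq_empty_iff_forall_notMem]
      rintro x ⟨hxC, hxG⟩
      have hx' : (⟨x, hxC⟩ : (X.irreducibleComponentIdeal C hC).radical.subscheme) ∈
          (X.irreducibleComponentIdeal C hC).radical.subschemeι ⁻¹ᵁ CohB1.genLocus L s := hxG
      rw [← hgl, ht, genLocus_zero' hLI] at hx'
      exact hx'
    · left
      have h1 := (Groth.Agent.Lib.Helper23.Curve.deg_nonneg_of_section k hle hLI _ ht).2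
        (hdeg C hC)
      have h2 := genLocus_eq_top_of_isIso
        (PbBasic.pullHom (X.irreducibleComponentIdeal C hC).radical.subschemeι s)
      rw [hgl] at h2
      intro x hxC
      have hx' : (⟨x, hxC⟩ : (X.irreducibleComponentIdeal C hC).radical.subscheme) ∈
          (X.irreducibleComponentIdeal C hC).radical.subschemeι ⁻¹ᵁ CohB1.genLocus L s := by
        rw [h2]; trivial
      exact hx'
  -- the generating locus is clopen
  have hfin : (irreducibleComponents (X : Type u)).Finite :=
    TopologicalSpace.NoetherianSpace.finite_irreducibleComponents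
  have hGeq : ((CohB1.genLocus L s : X.Opens) : Set X) =
      ⋃ C ∈ {C ∈ irreducibleComponents (X : Type u) |
        C ⊆ ((CohB1.genLocus L s : X.Opens) : Set X)}, C := by
    ext x
    simp only [Set.mem_iUnion, Set.mem_ofPred_eq]
    constructor
    · intro hx
      obtain ⟨C, hC, hxC⟩ := exists_mem_irreducibleComponents_subset_of_isIrreducible
        ({x} : Set X) isIrreducible_singleton
      have hxC' : x ∈ C := hxC rfl
      rcases hcomp C hC with h | h
      · exact ⟨C, ⟨hC, h⟩, hxC'⟩
      · exact absurd (show x ∈ C ∩ _ from ⟨hxC', hx⟩) (by rw [h]; exact Set.notMem_empty x)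
    · rintro ⟨C, ⟨-, hCG⟩, hxC⟩
      exact hCG hxC
  have hclosed : IsClosed ((CohB1.genLocus L s : X.Opens) : Set X) := by
    rw [hGeq]
    refine Set.Finite.isClosed_biUnion (hfin.subset (fun C hC => hC.1)) ?_
    intro C hC
    exact isClosed_of_mem_irreducibleComponents C hC.1
  have hclopen : IsClopen ((CohB1.genLocus L s : X.Opens) : Set X) :=
    ⟨hclosed, (CohB1.genLocus L s).2⟩
  rcases isClopen_iff.mp hclopen with h | h
  · exfalso
    apply hs
    apply eq_zero_of_genLocus_eq_bot hL s
    exact Opens.ext h
  · haveI : IsIso s := isIso_of_genLocus_eq_top s (Opens.ext h)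
    exact ⟨(asIso s).symm⟩

end Groth.Agent.S7641
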