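import Groth.Statements.S7647
import Groth.Agent.Lib.Helper7.DegPull2
import Groth.Agent.Lib.Helper3.PbTensor

set_option autoImplicit false
universe u
open CategoryTheory CategoryTheory.Limits AlgebraicGeometry
open Variety

namespace Groth.Agent.S7647

open Groth.Agent.Lib.Helper7.DegPull Groth.Agent.Lib.Helper23.Dev
  Groth.Agent.Lib.Helper23.DegTensorGen Groth.Agent.Lib.Helper23.Curve
  Groth.Agent.Lib.Helper23 Groth.Agent.Lib.Helper3.PbTensor Groth.Agent.Lib.Helper3.PbBasic
  Groth.Agent.Lib.Helper3.InvTensor

/-- Let X be proper over a field k, Z ⊆ X a closed subscheme of dimension ≤ 1 and L an invertible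
module. Then the intersection number (L · Z), i.e. the coefficient of n in the polynomial computing
χ(X, O_Z ⊗ L^{⊗n}), equals the degree of L|_Z on Z. -/
theorem result (k : Type u) [Field k] (X : Scheme.{u}) [X.Over (Spec (CommRingCat.of k))] [IsProper (X ↘ (Spec (CommRingCat.of k)))]
    (D : X.IdealSheafData) (hD : topologicalKrullDim (D.support : Set X) ≤ 1)
    (L : X.Modules) (hL : PicF.IsInvertible L) (P : MvPolynomial (Fin 1) ℚ)
    (hP : ∀ n : Fin 1 → ℕ, (Curv2.euler k X (Curv2.tensorPows (ClSub.quotMod D) 1 (fun _ => L) n) : ℚ) = MvPolynomial.eval (fun i => (n i : ℚ)) P) :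
    MvPolynomial.coeff (Finsupp.equivFunOnFinite.symm fun _ : Fin 1 => 1) P =
      (@Curv2.deg k _ D.subscheme ⟨D.subschemeι ≫ (X ↘ (Spec (CommRingCat.of k)))⟩
        ((Scheme.Modules.pullback D.subschemeι).obj L) 1 : ℚ) := by
  letI : D.subscheme.Over (Spec (CommRingCat.of k)) :=
    ⟨D.subschemeι ≫ (X ↘ Spec (CommRingCat.of k))⟩
  haveI : IsProper (D.subscheme ↘ Spec (CommRingCat.of k)) := by
    show IsProper (D.subschemeι ≫ (X ↘ Spec (CommRingCat.of k)))
    infer_instance
  have hdimZ : topologicalKrullDim D.subscheme ≤ 1 := by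
    have hs : ∀ z : D.subscheme, D.subschemeι z ∈ (D.support : Set X) := by
      intro z
      rw [← D.range_subschemeι]
      exact ⟨z, rfl⟩
    have hind : Topology.IsInducing (Set.codRestrict (fun z : D.subscheme => D.subschemeι z)
        (D.support : Set X) hs) := by
      rw [← Topology.IsInducing.subtypeVal.of_comp_iff]
      exact D.subschemeι.isEmbedding.isInducing
    exact hind.topologicalKrullDim_le.trans hD
  have hM : PicF.IsInvertible ((Scheme.Modules.pullback D.subschemeι).obj L) :=
    isInvertible_pullback D.subschemeι hL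
  have hM1 := isFinLocFreeOfRank_one_of_isInvertible hM
  have hpow : ∀ m : ℕ, Curv2.deg k D.subscheme
      (CohB1.tensorPow ((Scheme.Modules.pullback D.subschemeι).obj L) m) 1 =
      m * Curv2.deg k D.subscheme ((Scheme.Modules.pullback D.subschemeι).obj L) 1 := by
    intro m
    induction m with
    | zero =>
      show Curv2.deg k D.subscheme (Coh.structureModule D.subscheme) 1 = _
      unfold Curv2.deg
      push_cast
      ring
    | succ m ih =>
      have hMm := isFinLocFreeOfRank_one_of_isInvertible (isInvertible_tensorPow hM m)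
      have h := deg_tensor_gen k hMm hdimZ hM1
      show Curv2.deg k D.subscheme (CohB1.tensorMod
        (CohB1.tensorPow ((Scheme.Modules.pullback D.subschemeι).obj L) m)
        ((Scheme.Modules.pullback D.subschemeι).obj L)) 1 = _
      rw [show (1 * 1 : ℕ) = 1 from rfl] at h
      rw [h, ih]
      push_cast
      ring
  have key : ∀ m : ℕ, Curv2.euler k X (CohB1.tensorMod (ClSub.quotMod D) (CohB1.tensorPow L m)) =
      m * Curv2.deg k D.subscheme ((Scheme.Modules.pullback D.subschemeι).obj L) 1 +
        Curv2.euler k X (ClSub.quotMod D) := by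
    intro m
    have hLm := isFinLocFreeOfRank_one_of_isInvertible (isInvertible_tensorPow hL m)
    have h1 := deg_pullback_eq_delta k D.subschemeι rfl 1 (CohB1.tensorPow L m) hLm
    have h2 : Curv2.deg k D.subscheme
        ((Scheme.Modules.pullback D.subschemeι).obj (CohB1.tensorPow L m)) 1 =
        Curv2.deg k D.subscheme
          (CohB1.tensorPow ((Scheme.Modules.pullback D.subschemeι).obj L) m) 1 := by
      unfold Curv2.deg
      rw [FBC.euler_eq_of_iso' k (pbPowIso D.subschemeι L hL m)]
    rw [h2, hpow m] at h1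
    unfold Groth.Agent.Lib.Helper23.Dev.delta at h1
    push_cast at h1
    linarith
  have hev : ∀ n : Fin 1 → ℕ, MvPolynomial.eval (fun i => (n i : ℚ)) P =
      MvPolynomial.eval (fun i => (n i : ℚ))
        (MvPolynomial.C ((Curv2.euler k X (ClSub.quotMod D) : ℤ) : ℚ) +
          MvPolynomial.C ((Curv2.deg k D.subscheme
            ((Scheme.Modules.pullback D.subschemeι).obj L) 1 : ℤ) : ℚ) * MvPolynomial.X 0) := by
    intro n
    rw [← hP n]
    rw [show Curv2.tensorPows (ClSub.quotMod D) 1 (fun _ => L) n =
      CohB1.tensorMod (ClSub.quotMod D) (CohB1.tensorPow L (n 0)) from rfl, key (n 0)]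
    simp only [map_add, map_mul, MvPolynomial.eval_C, MvPolynomial.eval_X]
    push_cast
    ring
  have hPQ : P = MvPolynomial.C ((Curv2.euler k X (ClSub.quotMod D) : ℤ) : ℚ) +
          MvPolynomial.C ((Curv2.deg k D.subscheme
            ((Scheme.Modules.pullback D.subschemeι).obj L) 1 : ℤ) : ℚ) * MvPolynomial.X 0 := by
    refine MvPolynomial.funext_set (fun _ => Set.range (Nat.cast : ℕ → ℚ))
      (fun _ => Set.infinite_range_of_injective Nat.cast_injective) ?_
    intro x hx
    have hx' : ∀ i, ∃ n : ℕ, (n : ℚ) = x i := fun i => hx i (Set.mem_univ i)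
    choose n hn using hx'
    have hxe : x = fun i => (n i : ℚ) := funext fun i => (hn i).symm
    rw [hxe]
    exact hev n
  rw [hPQ]
  have hmono : (Finsupp.equivFunOnFinite.symm fun _ : Fin 1 => 1) = Finsupp.single (0 : Fin 1) 1 := by
    apply Finsupp.ext
    intro i
    have hi : i = 0 := Subsingleton.elim _ _
    subst hi
    simp
  rw [hmono, MvPolynomial.coeff_add, MvPolynomial.coeff_C, MvPolynomial.coeff_C_mul,
    MvPolynomial.coeff_X]
  rw [if_neg]
  · simp
  · intro h
    have := congrArg (fun f => f 0) h
    simp at this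

end Groth.Agent.S7647
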