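import Groth.Statements.S7651
import Groth.Agent.Lib.Helper12.OneDimLocal

set_option autoImplicit false
universe u
open CategoryTheory CategoryTheory.Limits AlgebraicGeometry
open Variety

namespace Groth.Agent.S7651

open Groth.Agent.Lib.Helper12 IsLocalRing

section
variable {A : Type u} [CommRing A] [IsLocalRing A]

lemma maximalIdeal_notMem_minimalPrimes (hdim : ringKrullDim A = 1) :
    maximalIdeal A ∉ minimalPrimes A := by
  intro hm
  have h0 : Ring.KrullDimLE 0 A := by
    rw [Ring.krullDimLE_zero_iff]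
    intro I hI
    have h1 : I ≤ maximalIdeal A := le_maximalIdeal hI.ne_top
    have h2 : maximalIdeal A ≤ I := hm.2 ⟨hI, bot_le⟩ h1
    rw [le_antisymm h1 h2]; exact maximalIdeal.isMaximal A
  have h1 : ringKrullDim A ≤ ((0 : ℕ) : WithBot ℕ∞) := Ring.krullDimLE_iff.1 h0
  rw [hdim] at h1
  have h2 : (1 : ℕ∞) ≤ 0 := by exact_mod_cast h1
  simp at h2

lemma exists_notMem [IsNoetherianRing A] (hdim : ringKrullDim A = 1) :
    ∃ f ∈ maximalIdeal A, ∀ p ∈ minimalPrimes A, f ∉ p := by
  classical
  have hfin := minimalPrimes.finite_of_isNoetherianRing A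
  by_contra hcon
  push Not at hcon
  have hsub : ((maximalIdeal A : Ideal A) : Set A) ⊆
      ⋃ p ∈ ((hfin.toFinset : Finset (Ideal A)) : Set (Ideal A)), ((p : Ideal A) : Set A) := by
    intro f hf
    obtain ⟨p, hp, hfp⟩ := hcon f hf
    simp only [Set.mem_iUnion]
    exact ⟨p, by simpa using hp, hfp⟩
  obtain ⟨p, hp, hle⟩ := (Ideal.subset_union_prime (f := fun p : Ideal A => p) ⊥ ⊥
    (fun p hp _ _ => ((hfin.mem_toFinset).1 hp).1.1)).1 hsub
  have hp' : p ∈ minimalPrimes A := hfin.mem_toFinset.1 hp
  have : p = maximalIdeal A := le_antisymm (le_maximalIdeal hp'.1.1.ne_top) hle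
  exact maximalIdeal_notMem_minimalPrimes hdim (this ▸ hp')

lemma radical_iff (hdim : ringKrullDim A = 1) {f : A} (hf : f ∈ maximalIdeal A) :
    (maximalIdeal A = (Ideal.span {f}).radical) ↔ (∀ p ∈ minimalPrimes A, f ∉ p) := by
  constructor
  · intro h p hp hfp
    have h1 : (Ideal.span {f}).radical ≤ p :=
      hp.1.1.radical_le_iff.2 ((Ideal.span_singleton_le_iff_mem _).2 hfp)
    have h2 : maximalIdeal A ≤ p := h ▸ h1
    have h3 : p = maximalIdeal A := le_antisymm (le_maximalIdeal hp.1.1.ne_top) h2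
    exact maximalIdeal_notMem_minimalPrimes hdim (h3 ▸ hp)
  · intro h
    refine le_antisymm ?_ ?_
    · exact maximalIdeal_le_radical_of_forall_not_le hdim.le _
        (fun p hp hle => h p hp (hle (Ideal.mem_span_singleton_self f)))
    · exact (maximalIdeal.isMaximal A).isPrime.radical_le_iff.2
        ((Ideal.span_singleton_le_iff_mem _).2 hf)

lemma exists_dvd_pow (hdim : ringKrullDim A = 1) {f g : A}
    (hf : ∀ p ∈ minimalPrimes A, f ∉ p) (hg : g ∈ maximalIdeal A) : ∃ n : ℕ, f ∣ g ^ n := by
  have h := maximalIdeal_le_radical_of_forall_not_le hdim.le (Ideal.span {f})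
    (fun p hp hle => hf p hp (hle (Ideal.mem_span_singleton_self f))) hg
  obtain ⟨n, hn⟩ := h
  exact ⟨n, Ideal.mem_span_singleton.1 hn⟩

lemma isUnit_algebraMap_pi {f : A} (hf : ∀ p ∈ minimalPrimes A, f ∉ p) :
    IsUnit (algebraMap A (∀ p : {p : PrimeSpectrum A // p.asIdeal ∈ minimalPrimes A},
      Localization.AtPrime p.1.asIdeal) f) := by
  rw [Pi.isUnit_iff]
  intro p
  exact (IsLocalization.AtPrime.isUnit_to_map_iff (Localization.AtPrime p.1.asIdeal)
    p.1.asIdeal f).2 (hf _ p.2)

/-- The comparison map `A_f → ∏ A_p`. -/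
noncomputable def toPi {f : A} (hf : ∀ p ∈ minimalPrimes A, f ∉ p) :
    Localization.Away f →ₐ[A] (∀ p : {p : PrimeSpectrum A // p.asIdeal ∈ minimalPrimes A},
      Localization.AtPrime p.1.asIdeal) :=
  { IsLocalization.Away.lift (S := Localization.Away f) f
      (g := algebraMap A (∀ p : {p : PrimeSpectrum A // p.asIdeal ∈ minimalPrimes A},
        Localization.AtPrime p.1.asIdeal)) (isUnit_algebraMap_pi hf) with
    commutes' := fun a => IsLocalization.Away.lift_eq f (isUnit_algebraMap_pi hf) a }

lemma toPi_bijective [IsNoetherianRing A] (hdim : ringKrullDim A = 1) {f : A}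
    (hfm : f ∈ maximalIdeal A) (hf : ∀ p ∈ minimalPrimes A, f ∉ p) :
    Function.Bijective (toPi hf) := by
  have hunit := isUnit_algebraMap_pi hf
  constructor
  · rw [injective_iff_map_eq_zero]
    intro z hz
    obtain ⟨n, x, hx⟩ := IsLocalization.Away.surj f z
    have h1 : algebraMap A (∀ p : {p : PrimeSpectrum A // p.asIdeal ∈ minimalPrimes A},
        Localization.AtPrime p.1.asIdeal) x = 0 := by
      have := congrArg (toPi hf) hx
      rw [map_mul, hz, zero_mul, AlgHom.commutes] at this
      exact this.symm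
    have hJ : ∀ p ∈ minimalPrimes A, ¬ annIdeal x ≤ p := by
      intro p hp hle
      haveI := hp.1.1
      have h2 : algebraMap A (Localization.AtPrime p) x = 0 := congrFun h1 ⟨⟨p, hp.1.1⟩, hp⟩
      obtain ⟨s, hs⟩ := (IsLocalization.map_eq_zero_iff p.primeCompl _ x).1 h2
      exact s.2 (hle hs)
    obtain ⟨N, hN⟩ := maximalIdeal_le_radical_of_forall_not_le hdim.le _ hJ hfm
    have h3 : algebraMap A (Localization.Away f) x = 0 :=
      (IsLocalization.map_eq_zero_iff (Submonoid.powers f) _ x).2 ⟨⟨f ^ N, pow_mem (Submonoid.mem_powers f) N⟩, hN⟩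
    rw [h3] at hx
    have hu : IsUnit (algebraMap A (Localization.Away f) f ^ n) :=
      (IsLocalization.Away.algebraMap_isUnit f).pow n
    exact (hu.mul_left_eq_zero).1 hx
  · intro ℓ
    obtain ⟨N, b, hb⟩ := exists_pow_smul_eq_algebraMap hdim.le ℓ hfm
    refine ⟨IsLocalization.mk' (Localization.Away f) b (⟨f ^ N, pow_mem (Submonoid.mem_powers f) N⟩ : Submonoid.powers f), ?_⟩
    have h1 : toPi hf (IsLocalization.mk' (Localization.Away f) b
          (⟨f ^ N, pow_mem (Submonoid.mem_powers f) N⟩ : Submonoid.powers f)) *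
        algebraMap A (∀ p : {p : PrimeSpectrum A // p.asIdeal ∈ minimalPrimes A},
          Localization.AtPrime p.1.asIdeal) (f ^ N) =
        algebraMap A (∀ p : {p : PrimeSpectrum A // p.asIdeal ∈ minimalPrimes A},
          Localization.AtPrime p.1.asIdeal) (f ^ N) * ℓ := by
      calc _ = toPi hf (IsLocalization.mk' (Localization.Away f) b
              (⟨f ^ N, pow_mem (Submonoid.mem_powers f) N⟩ : Submonoid.powers f)) *
              toPi hf (algebraMap A (Localization.Away f) (f ^ N)) := by rw [AlgHom.commutes]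
        _ = toPi hf (IsLocalization.mk' (Localization.Away f) b
              (⟨f ^ N, pow_mem (Submonoid.mem_powers f) N⟩ : Submonoid.powers f) *
              algebraMap A (Localization.Away f) (f ^ N)) := (map_mul _ _ _).symm
        _ = toPi hf (algebraMap A (Localization.Away f) b) := by
              rw [IsLocalization.mk'_spec (Localization.Away f) b
                (⟨f ^ N, pow_mem (Submonoid.mem_powers f) N⟩ : Submonoid.powers f)]
        _ = algebraMap A _ b := AlgHom.commutes _ _
        _ = f ^ N • ℓ := hb.symm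
        _ = _ := Algebra.smul_def _ _
    have hu : IsUnit (algebraMap A (∀ p : {p : PrimeSpectrum A // p.asIdeal ∈ minimalPrimes A},
          Localization.AtPrime p.1.asIdeal) (f ^ N)) := by
      rw [map_pow]; exact hunit.pow N
    rw [mul_comm] at h1
    exact hu.mul_left_cancel h1

lemma equiv_iff [IsNoetherianRing A] (hdim : ringKrullDim A = 1) {f : A}
    (hfm : f ∈ maximalIdeal A) :
    (∀ p ∈ minimalPrimes A, f ∉ p) ↔
      Nonempty (Localization.Away f ≃ₐ[A]
        (∀ p : {p : PrimeSpectrum A // p.asIdeal ∈ minimalPrimes A},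
          Localization.AtPrime p.1.asIdeal)) := by
  constructor
  · intro hf
    exact ⟨AlgEquiv.ofBijective (toPi hf) (toPi_bijective hdim hfm hf)⟩
  · rintro ⟨e⟩ p hp hfp
    haveI := hp.1.1
    have h1 : IsUnit (algebraMap A (∀ p : {p : PrimeSpectrum A // p.asIdeal ∈ minimalPrimes A},
          Localization.AtPrime p.1.asIdeal) f) := by
      rw [← e.commutes f]
      exact (IsLocalization.Away.algebraMap_isUnit f).map e
    rw [Pi.isUnit_iff] at h1
    have h2 := h1 ⟨⟨p, hp.1.1⟩, hp⟩
    exact (IsLocalization.AtPrime.isUnit_to_map_iff (Localization.AtPrime p) p f).1 h2 hfp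

lemma exists_nzd_of_depth (h : LocCoh.depth A A = 1) :
    ∃ g ∈ maximalIdeal A, g ∈ nonZeroDivisors A := by
  classical
  by_contra hcon
  push Not at hcon
  unfold LocCoh.depth LocCoh.idealDepth at h
  split_ifs at h with htop
  · exact absurd h (by simp)
  · have h0 : (⨆ (rs : List A) (_ : RingTheory.Sequence.IsWeaklyRegular A rs ∧
        ∀ r ∈ rs, r ∈ maximalIdeal A), (rs.length : ℕ∞)) = 0 := by
      refine le_antisymm (iSup₂_le fun rs hrs => ?_) zero_le
      cases rs with
      | nil => simp
      | cons r rs =>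
        exfalso
        have hreg := ((RingTheory.Sequence.isWeaklyRegular_cons_iff A r rs).mp hrs.1).1
        refine hcon r (hrs.2 r List.mem_cons_self) ?_
        rw [mem_nonZeroDivisors_iff_right]
        intro x hx
        exact hreg.right_eq_zero_of_smul (by rw [smul_eq_mul, mul_comm]; exact hx)
    rw [h0] at h
    exact zero_ne_one h

lemma mem_nonZeroDivisors_of (hdim : ringKrullDim A = 1)
    (hyp : LocCoh.depth A A = 1 ∨ IsReduced A) {f : A}
    (hf : ∀ p ∈ minimalPrimes A, f ∉ p) : f ∈ nonZeroDivisors A := by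
  rw [mem_nonZeroDivisors_iff_right]
  intro x hx
  rcases hyp with hd | hred
  · obtain ⟨g, hgm, hg⟩ := exists_nzd_of_depth hd
    obtain ⟨n, y, hy⟩ := exists_dvd_pow hdim hf hgm
    have : x * g ^ n = 0 := by rw [hy, ← mul_assoc, hx, zero_mul]
    exact (mem_nonZeroDivisors_iff_right.1 (pow_mem hg n)) x this
  · have hxnil : x ∈ (⊥ : Ideal A).radical := by
      rw [← Ideal.sInf_minimalPrimes, Ideal.mem_sInf]
      intro p hp
      have : x * f ∈ p := by rw [hx]; exact p.zero_mem
      exact (hp.1.1.mem_or_mem this).resolve_right (hf p hp)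
    obtain ⟨n, hn⟩ := hxnil
    rw [Ideal.mem_bot] at hn
    exact IsNilpotent.eq_zero ⟨n, hn⟩

lemma nzd_iff (hdim : ringKrullDim A = 1)
    (hyp : LocCoh.depth A A = 1 ∨ IsReduced A) {f : A} :
    (∀ p ∈ minimalPrimes A, f ∉ p) ↔ f ∈ nonZeroDivisors A :=
  ⟨mem_nonZeroDivisors_of hdim hyp, fun h p hp hfp =>
    Set.disjoint_left.1 (Ideal.disjoint_nonZeroDivisors_of_mem_minimalPrimes hp) hfp h⟩

lemma isLocalization_iff (hdim : ringKrullDim A = 1)
    (hyp : LocCoh.depth A A = 1 ∨ IsReduced A) {f : A} (hfm : f ∈ maximalIdeal A) :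
    (∀ p ∈ minimalPrimes A, f ∉ p) ↔
      IsLocalization (nonZeroDivisors A) (Localization.Away f) := by
  constructor
  · intro hf
    have hfn := mem_nonZeroDivisors_of hdim hyp hf
    refine IsLocalization.of_le (Submonoid.powers f) (nonZeroDivisors A)
      (Submonoid.powers_le.2 hfn) ?_
    intro r hr
    by_cases hru : IsUnit r
    · exact hru.map _
    · have hrm : r ∈ maximalIdeal A := (mem_maximalIdeal r).2 hru
      have hrmin : ∀ p ∈ minimalPrimes A, r ∉ p := fun p hp hrp =>
        Set.disjoint_left.1 (Ideal.disjoint_nonZeroDivisors_of_mem_minimalPrimes hp) hrp hr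
      rw [IsLocalization.Away.algebraMap_isUnit_iff (x := f)]
      exact exists_dvd_pow hdim hrmin hfm
  · intro hloc
    apply (nzd_iff hdim hyp).2
    rw [mem_nonZeroDivisors_iff_right]
    intro x hx
    have hinj : Function.Injective (algebraMap A (Localization.Away f)) :=
      IsLocalization.injective _ (le_refl (nonZeroDivisors A))
    apply hinj
    rw [map_zero]
    have : algebraMap A (Localization.Away f) x * algebraMap A _ f = 0 := by
      rw [← map_mul, hx, map_zero]
    exact ((IsLocalization.Away.algebraMap_isUnit f).mul_left_eq_zero).1 this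

lemma maximalIdeal_eq_bot [IsReduced A]
    (p : {p : PrimeSpectrum A // p.asIdeal ∈ minimalPrimes A}) :
    maximalIdeal (Localization.AtPrime p.1.asIdeal) = ⊥ := by
  haveI := IsLocalization.subsingleton_primeSpectrum_of_mem_minimalPrimes p.1.asIdeal p.2
    (Localization.AtPrime p.1.asIdeal)
  have hnil : nilradical (Localization.AtPrime p.1.asIdeal) = maximalIdeal _ := by
    rw [nilradical_eq_sInf]
    apply le_antisymm
    · exact sInf_le (maximalIdeal.isMaximal _).isPrime
    · apply le_sInf
      intro q hq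
      have h1 : (⟨q, hq⟩ : PrimeSpectrum (Localization.AtPrime p.1.asIdeal)) =
          ⟨maximalIdeal _, inferInstance⟩ := Subsingleton.elim _ _
      exact (congrArg PrimeSpectrum.asIdeal h1).ge
  rw [← hnil]; exact nilradical_eq_zero _

noncomputable def resEquiv [IsReduced A]
    (p : {p : PrimeSpectrum A // p.asIdeal ∈ minimalPrimes A}) :
    Localization.AtPrime p.1.asIdeal ≃ₐ[A] p.1.asIdeal.ResidueField :=
  AlgEquiv.ofBijective
    (IsScalarTower.toAlgHom A (Localization.AtPrime p.1.asIdeal) p.1.asIdeal.ResidueField)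
    ⟨by
      rw [injective_iff_map_eq_zero]
      intro x hx
      have : x ∈ maximalIdeal (Localization.AtPrime p.1.asIdeal) := by
        rw [← IsLocalRing.ker_residue, RingHom.mem_ker]; exact hx
      rw [maximalIdeal_eq_bot p] at this; exact this,
     IsLocalRing.residue_surjective⟩

lemma res_iff [IsNoetherianRing A] [IsReduced A] (hdim : ringKrullDim A = 1) {f : A}
    (hfm : f ∈ maximalIdeal A) :
    (∀ p ∈ minimalPrimes A, f ∉ p) ↔
      Nonempty (Localization.Away f ≃ₐ[A]
        (∀ p : {p : PrimeSpectrum A // p.asIdeal ∈ minimalPrimes A},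
          p.1.asIdeal.ResidueField)) := by
  rw [equiv_iff hdim hfm]
  constructor
  · rintro ⟨e⟩; exact ⟨e.trans (AlgEquiv.piCongrRight resEquiv)⟩
  · rintro ⟨e⟩; exact ⟨e.trans (AlgEquiv.piCongrRight resEquiv).symm⟩

end

/-- Let (A, m) be a Noetherian local ring of dimension one and f ∈ m. Then (1) m = √(f), (2) f lies in
no minimal prime of A, and (3) A_f ≅ ∏_{p minimal} A_p as A-algebras, are equivalent; such an f
exists; if A has depth one, for instance if A is reduced, they are also equivalent to (4) f is a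
nonzerodivisor and to (5) A → A_f is the localization of A at all its nonzerodivisors; and if A is
reduced they are also equivalent to (6) A_f ≅ ∏_{p minimal} κ(p) as A-algebras. -/
theorem result (A : Type u) [CommRing A] [IsLocalRing A]
    [IsNoetherianRing A] (hdim : ringKrullDim A = 1) :
    (∃ f ∈ IsLocalRing.maximalIdeal A, ∀ p ∈ minimalPrimes A, f ∉ p) ∧
    ∀ f ∈ IsLocalRing.maximalIdeal A,
      ((IsLocalRing.maximalIdeal A = (Ideal.span {f}).radical) ↔ (∀ p ∈ minimalPrimes A, f ∉ p)) ∧
      ((∀ p ∈ minimalPrimes A, f ∉ p) ↔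
        Nonempty (Localization.Away f ≃ₐ[A] (∀ p : {p : PrimeSpectrum A // p.asIdeal ∈ minimalPrimes A}, Localization.AtPrime p.1.asIdeal))) ∧
      ((LocCoh.depth A A = 1 ∨ IsReduced A) →
        ((∀ p ∈ minimalPrimes A, f ∉ p) ↔ f ∈ nonZeroDivisors A) ∧
        ((∀ p ∈ minimalPrimes A, f ∉ p) ↔ IsLocalization (nonZeroDivisors A) (Localization.Away f))) ∧
      (IsReduced A →
        ((∀ p ∈ minimalPrimes A, f ∉ p) ↔
          Nonempty (Localization.Away f ≃ₐ[A] (∀ p : {p : PrimeSpectrum A // p.asIdeal ∈ minimalPrimes A}, p.1.asIdeal.ResidueField)))) := by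
  refine ⟨exists_notMem hdim, fun f hfm => ⟨radical_iff hdim hfm, equiv_iff hdim hfm,
    fun hyp => ⟨nzd_iff hdim hyp, isLocalization_iff hdim hyp hfm⟩, fun hred => ?_⟩⟩
  haveI := hred
  exact res_iff hdim hfm

end Groth.Agent.S7651
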