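import Groth.Statements.S7653
import Groth.Agent.Lib.Helper12.OneDimNorm

set_option autoImplicit false
universe u
open CategoryTheory CategoryTheory.Limits AlgebraicGeometry
open Variety

namespace Groth.Agent.S7653

open Groth.Agent.Lib.Helper12 IsLocalRing in
/-- For a reduced local Nagata ring A of Krull dimension one, the δ-invariant of A is zero exactly when
A is a DVR (in particular a domain). -/
theorem result (A : Type u) [CommRing A] [IsLocalRing A]
    [IsReduced A] (hN : CAlg.IsNagata A) (hdim : ringKrullDim A = 1) :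
    Curv2.deltaInv A = 0 ↔ ∃ _ : IsDomain A, IsDiscreteValuationRing A := by
  haveI := hN.1
  have hsurj_iff : Curv2.deltaInv A = 0 ↔ ∀ x : integralClosure A (FractionRing A),
      ∃ a : A, algebraMap A (FractionRing A) a = x.1 := by
    unfold Curv2.deltaInv
    rw [Module.length_eq_zero_iff, Submodule.Quotient.subsingleton_iff, LinearMap.range_eq_top]
    constructor
    · intro h x
      obtain ⟨a, ha⟩ := h x
      exact ⟨a, congrArg Subtype.val ha⟩
    · intro h x
      obtain ⟨a, ha⟩ := h x
      exact ⟨a, Subtype.ext ha⟩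
  rw [hsurj_iff]
  constructor
  · intro hs
    obtain ⟨e⟩ := exists_fractionRing_equiv A hdim
    classical
    have hsub : ∀ p1 p2 : {p : PrimeSpectrum A // p.asIdeal ∈ minimalPrimes A}, p1 = p2 := by
      intro p1 p2
      by_contra hne
      have hidem : (e.symm (Pi.single p1 1)) * (e.symm (Pi.single p1 1)) =
          e.symm (Pi.single p1 1) := by
        rw [← map_mul, ← Pi.single_mul, one_mul]
      have hid : IsIntegral A (e.symm (Pi.single p1 1)) := by
        refine ⟨Polynomial.X ^ 2 - Polynomial.X, Polynomial.monic_X_pow_sub ?_, ?_⟩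
        · rw [Polynomial.degree_X]; norm_num
        · simp [pow_two, hidem]
      obtain ⟨a, ha⟩ := hs ⟨_, hid⟩
      have ha' : algebraMap A
          (∀ p : {p : PrimeSpectrum A // p.asIdeal ∈ minimalPrimes A}, p.1.asIdeal.ResidueField) a
          = Pi.single p1 1 := by
        rw [← e.commutes a, ha, e.apply_symm_apply]
      have h1 : a - 1 ∈ p1.1.asIdeal := by
        rw [← Ideal.algebraMap_residueField_eq_zero, map_sub, map_one, sub_eq_zero]
        have := congrFun ha' p1
        rw [Pi.single_eq_same] at this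
        exact this
      have h2 : a ∈ p2.1.asIdeal := by
        rw [← Ideal.algebraMap_residueField_eq_zero]
        have := congrFun ha' p2
        rw [Pi.single_eq_of_ne (Ne.symm hne)] at this
        exact this
      have hm1 : a - 1 ∈ maximalIdeal A := le_maximalIdeal p1.1.isPrime.ne_top h1
      have hm2 : a ∈ maximalIdeal A := le_maximalIdeal p2.1.isPrime.ne_top h2
      have h3 : (1 : A) ∈ maximalIdeal A := by
        have := (maximalIdeal A).sub_mem hm2 hm1
        rwa [sub_sub_cancel] at this
      exact (Ideal.ne_top_iff_one _).1 (maximalIdeal.isMaximal A).ne_top h3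
    obtain ⟨p0, hp0, -⟩ := Ideal.exists_minimalPrimes_le (bot_le : (⊥ : Ideal A) ≤ maximalIdeal A)
    have hp0' : p0 ∈ minimalPrimes A := hp0
    have hbot : p0 = ⊥ := by
      rw [eq_bot_iff]
      intro x hx
      have hxnil : x ∈ (⊥ : Ideal A).radical := by
        rw [← Ideal.sInf_minimalPrimes, Ideal.mem_sInf]
        intro p hp
        have hp' : p ∈ minimalPrimes A := hp
        have := hsub ⟨⟨p, hp'.1.1⟩, hp'⟩ ⟨⟨p0, hp0'.1.1⟩, hp0'⟩
        have h4 : p = p0 := congrArg (fun q => q.1.asIdeal) this
        rw [h4]; exact hx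
      obtain ⟨n, hn⟩ := hxnil
      rw [Ideal.mem_bot] at hn
      exact (Ideal.mem_bot).2 (IsNilpotent.eq_zero ⟨n, hn⟩)
    have hbp : (⊥ : Ideal A).IsPrime := hbot ▸ hp0'.1.1
    haveI hdom : IsDomain A := IsDomain.of_bot_isPrime A
    have hnf : ¬ IsField A := by
      intro hf
      have h0 := ringKrullDim_eq_zero_of_isField hf
      rw [hdim] at h0
      exact one_ne_zero h0
    haveI : Ring.KrullDimLE 1 A := Ring.krullDimLE_iff.2 (by simpa using hdim.le)
    have hiff : IsDiscreteValuationRing A ↔
        IsIntegrallyClosed A ∧ ∃! P : Ideal A, P ≠ ⊥ ∧ P.IsPrime :=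
      (IsDiscreteValuationRing.TFAE A hnf).out 0 3
    refine ⟨hdom, hiff.2 ⟨?_, ?_⟩⟩
    · rw [isIntegrallyClosed_iff (FractionRing A)]
      intro x hx
      exact hs ⟨x, hx⟩
    · refine ⟨maximalIdeal A, ⟨Ring.ne_bot_of_isMaximal_of_not_isField (maximalIdeal.isMaximal A) hnf,
        inferInstance⟩, ?_⟩
      rintro P ⟨hP, hPp⟩
      exact eq_maximalIdeal (hPp.isMaximal_of_ne_bot hP)
  · rintro ⟨hdom, hdvr⟩ x
    haveI : IsIntegrallyClosed A := inferInstance
    exact (isIntegrallyClosed_iff (FractionRing A)).1 inferInstance x.2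

end Groth.Agent.S7653
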