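import Groth.Statements.S7661

set_option autoImplicit false
universe u
open CategoryTheory CategoryTheory.Limits AlgebraicGeometry
open Variety

namespace Groth.Agent.S7661

theorem aux (A : Type u) [CommRing A] (I : Ideal A) :
    ∀ (n : ℕ) (s : Finset (Ideal A)), s.card = n → (∀ p ∈ s, p.IsPrime) → (∀ p ∈ s, ¬ I ≤ p) →
      ∀ x : A, ∃ y ∈ I, ∀ p ∈ s, x + y ∉ p := by
  classical
  intro n
  induction n with
  | zero =>
    intro s hcard _ _ x
    refine ⟨0, I.zero_mem, ?_⟩
    intro p hp
    rw [Finset.card_eq_zero] at hcard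
    simp [hcard] at hp
  | succ n ih =>
    intro s hcard hs hI x
    have hne : s.Nonempty := by
      rw [← Finset.card_pos]; omega
    obtain ⟨p, hp, hmin⟩ := s.exists_minimal hne
    have hp' : p ∈ s := hp
    have hcard' : (s.erase p).card = n := by
      rw [Finset.card_erase_of_mem hp', hcard]; rfl
    obtain ⟨y, hyI, hy⟩ := ih (s.erase p) hcard'
      (fun q hq => hs q (Finset.mem_of_mem_erase hq))
      (fun q hq => hI q (Finset.mem_of_mem_erase hq)) x
    by_cases hxy : x + y ∈ p
    · have hpp : p.IsPrime := hs p hp'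
      have hnot : ¬ (I ⊓ (s.erase p).inf id ≤ p) := by
        intro hle
        rcases hpp.inf_le.1 hle with h | h
        · exact hI p hp' h
        · obtain ⟨q, hq, hqp⟩ := hpp.inf_le'.1 h
          have hqs : q ∈ s := Finset.mem_of_mem_erase hq
          have : p ≤ q := hmin hqs hqp
          exact (Finset.ne_of_mem_erase hq) (le_antisymm hqp this)
      obtain ⟨z, hz, hzp⟩ := SetLike.not_le_iff_exists.1 hnot
      obtain ⟨hzI, hzq⟩ := hz
      have hzq : ∀ q ∈ s.erase p, z ∈ id q := Submodule.mem_finsetInf.1 hzq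
      refine ⟨y + z, I.add_mem hyI hzI, ?_⟩
      intro q hq hmem
      by_cases hqp : q = p
      · subst hqp
        apply hzp
        have : z = (x + (y + z)) - (x + y) := by ring
        rw [this]
        exact q.sub_mem hmem hxy
      · have hq' : q ∈ s.erase p := Finset.mem_erase.2 ⟨hqp, hq⟩
        apply hy q hq'
        have : x + y = (x + (y + z)) - z := by ring
        rw [this]
        exact q.sub_mem hmem (hzq q hq')
    · refine ⟨y, hyI, ?_⟩
      intro q hq
      by_cases hqp : q = p
      · subst hqp; exact hxy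
      · exact hy q (Finset.mem_erase.2 ⟨hqp, hq⟩)

/-- Let A be a ring, I an ideal, p_1, …, p_r prime ideals with I ⊄ p_i for all i, and let f̄ ∈ A/I. Then
f̄ lifts to an element f ∈ A with f ∉ p_i for all i. -/
theorem result (A : Type u) [CommRing A] (I : Ideal A)
    (s : Finset (Ideal A)) (hs : ∀ p ∈ s, p.IsPrime) (hI : ∀ p ∈ s, ¬ I ≤ p) (fbar : A ⧸ I) :
    ∃ f : A, Ideal.Quotient.mk I f = fbar ∧ ∀ p ∈ s, f ∉ p := by
  obtain ⟨x, rfl⟩ := Ideal.Quotient.mk_surjective fbar
  obtain ⟨y, hyI, hy⟩ := aux A I s.card s rfl hs hI x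
  refine ⟨x + y, ?_, hy⟩
  rw [map_add, Ideal.Quotient.eq_zero_iff_mem.2 hyI, add_zero]

end Groth.Agent.S7661
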