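import Groth.Statements.S7662
import Groth.Agent.Lib.Helper28.Pinch.FiniteAffine

set_option autoImplicit false
universe u
open CategoryTheory CategoryTheory.Limits AlgebraicGeometry
open Variety

namespace Groth.Agent.S7662

/-- Let X be a scheme with finitely many irreducible components Z_1, …, Z_t and T ⊆ X a finite set of
points such that, for each i, some affine open of Z_i with its reduced closed subscheme structure
contains the points of T on Z_i. Then some affine open of X contains every point of T. -/
theorem result (X : Scheme.{u})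
    (hX : (irreducibleComponents (X : Type u)).Finite) (T : Finset X)
    (h : ∀ (Z : Set X) (hZ : Z ∈ irreducibleComponents (X : Type u)),
      ∃ V : (Scheme.IdealSheafData.vanishingIdeal
          (⟨Z, isClosed_of_mem_irreducibleComponents Z hZ⟩ : TopologicalSpace.Closeds X)).subscheme.Opens,
        IsAffineOpen V ∧ ∀ t ∈ T, t ∈ Z → t ∈ (Scheme.IdealSheafData.vanishingIdeal
          (⟨Z, isClosed_of_mem_irreducibleComponents Z hZ⟩ : TopologicalSpace.Closeds X)).subschemeι.base '' (V : Set _)) :
    ∃ U : X.Opens, IsAffineOpen U ∧ ∀ t ∈ T, t ∈ U := by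
  classical
  let I : Set X → X.IdealSheafData := fun Z =>
    if hZ : Z ∈ irreducibleComponents (X : Type u) then
      Scheme.IdealSheafData.vanishingIdeal
        (⟨Z, isClosed_of_mem_irreducibleComponents Z hZ⟩ : TopologicalSpace.Closeds X)
    else ⊤
  have hgood : ∀ Z ∈ hX.toFinset,
      Groth.Agent.Lib.Helper28.Pinch.GoodFor (T : Set X) (I Z) := by
    intro Z hZ'
    have hZ : Z ∈ irreducibleComponents (X : Type u) := hX.mem_toFinset.mp hZ'
    obtain ⟨V, hV, hTV⟩ := h Z hZ
    have hIZ : I Z = Scheme.IdealSheafData.vanishingIdeal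
        (⟨Z, isClosed_of_mem_irreducibleComponents Z hZ⟩ : TopologicalSpace.Closeds X) :=
      dif_pos hZ
    rw [hIZ]
    refine ⟨V, hV, fun y hy => ?_⟩
    have hyZ : (Scheme.IdealSheafData.vanishingIdeal
        (⟨Z, isClosed_of_mem_irreducibleComponents Z hZ⟩ :
          TopologicalSpace.Closeds X)).subschemeι y ∈ Z := by
      have h1 := Set.mem_range_self (f := (Scheme.IdealSheafData.vanishingIdeal
        (⟨Z, isClosed_of_mem_irreducibleComponents Z hZ⟩ :
          TopologicalSpace.Closeds X)).subschemeι) y
      rw [Scheme.IdealSheafData.range_subschemeι,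
        Scheme.IdealSheafData.coe_support_vanishingIdeal] at h1
      exact h1
    obtain ⟨v, hv, hvy⟩ := hTV _ hy hyZ
    have := (Scheme.IdealSheafData.vanishingIdeal
        (⟨Z, isClosed_of_mem_irreducibleComponents Z hZ⟩ :
          TopologicalSpace.Closeds X)).subschemeι.isClosedEmbedding.injective hvy
    rw [← this]
    exact hv
  have hK := Groth.Agent.Lib.Helper28.Pinch.goodFor_finset_inf (T : Set X) T.finite_toSet I
    hX.toFinset hgood
  have hsurj : Function.Surjective (hX.toFinset.inf I).subschemeι := by
    intro x
    have hZ := irreducibleComponent_mem_irreducibleComponents x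
    have hIZ : I (irreducibleComponent x) = Scheme.IdealSheafData.vanishingIdeal
        (⟨irreducibleComponent x, isClosed_of_mem_irreducibleComponents _ hZ⟩ :
          TopologicalSpace.Closeds X) :=
      dif_pos hZ
    have h1 : x ∈ ((I (irreducibleComponent x)).support : Set X) := by
      rw [hIZ, Scheme.IdealSheafData.coe_support_vanishingIdeal]
      exact mem_irreducibleComponent
    have h2 : (I (irreducibleComponent x)).support ≤ (hX.toFinset.inf I).support :=
      Scheme.IdealSheafData.support_antitone (Finset.inf_le (hX.mem_toFinset.mpr hZ))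
    have h3 : x ∈ Set.range (hX.toFinset.inf I).subschemeι := by
      rw [Scheme.IdealSheafData.range_subschemeι]
      exact h2 h1
    exact h3
  obtain ⟨U, hU, hTU⟩ :=
    Groth.Agent.Lib.Helper28.Pinch.exists_isAffineOpen_of_goodFor (T : Set X) _ hsurj hK
  exact ⟨U, hU, fun t ht => hTU ht⟩

end Groth.Agent.S7662
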