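import Groth.Statements.S7663
import Groth.Agent.Lib.Helper12.KrullAkizuki

set_option autoImplicit false
universe u
open CategoryTheory CategoryTheory.Limits AlgebraicGeometry
open Variety

namespace Groth.Agent.S7663

open Groth.Agent.Lib.Helper12 in
/-- Let K be a field and A, B ⊆ K subrings with fraction field K, with A Noetherian of dimension one.
Then A ⊗ B → K is not surjective (equivalently, the subring generated by A and B is not K) if and
only if some discrete valuation ring O ⊆ K with fraction field K contains both A and B. -/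
theorem result (K : Type u) [Field K]
    (A : Subring K) [IsFractionRing A K] (B : Subring K) [IsFractionRing B K] [IsNoetherianRing A] (hdim : ringKrullDim A = 1) :
    A ⊔ B ≠ ⊤ ↔ ∃ O : ValuationSubring K, IsDiscreteValuationRing O ∧ A ≤ O.toSubring ∧ B ≤ O.toSubring := by
  constructor
  · intro hne
    haveI : Ring.KrullDimLE 1 A := Ring.krullDimLE_iff.2 (by simpa using hdim.le)
    obtain ⟨x, hx⟩ : ∃ x : K, x ∉ A ⊔ B := by
      by_contra hcon
      push Not at hcon
      exact hne (eq_top_iff.2 fun x _ => hcon x)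
    obtain ⟨a, b, hb, hab⟩ := IsFractionRing.div_surjective (A := A) x
    have hAC : A ≤ A ⊔ B := le_sup_left
    have hbK : (b : K) ≠ 0 := by
      intro h
      exact nonZeroDivisors.ne_zero hb (Subtype.ext h)
    have hab' : (a : K) / (b : K) = x := hab
    have hspan : Ideal.span {(⟨b, hAC b.2⟩ : ↥(A ⊔ B))} ≠ ⊤ := by
      intro h
      rw [Ideal.span_singleton_eq_top] at h
      obtain ⟨c, hc⟩ := h.exists_right_inv
      have hc' : (b : K) * (c : K) = 1 := congrArg Subtype.val hc
      have hxac : x = (a : K) * (c : K) := by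
        rw [← hab', div_eq_iff hbK, mul_assoc, mul_comm (c : K), hc', mul_one]
      exact hx (hxac ▸ (A ⊔ B).mul_mem (hAC a.2) c.2)
    obtain ⟨V, hCV, hV⟩ := Ideal.image_subset_nonunits_valuationSubring _ hspan
    have hbV : (b : K) ∈ V.nonunits :=
      hV ⟨⟨b, hAC b.2⟩, Ideal.subset_span rfl, rfl⟩
    have hVne : V ≠ ⊤ := by
      rintro rfl
      obtain ⟨hbmem, hbmax⟩ := ValuationSubring.mem_nonunits_iff_exists_mem_maximalIdeal.1 hbV
      apply (IsLocalRing.mem_maximalIdeal _).1 hbmax
      exact isUnit_iff_exists_inv.2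
        ⟨⟨(b : K)⁻¹, ValuationSubring.mem_top _⟩, Subtype.ext (mul_inv_cancel₀ hbK)⟩
    refine ⟨V, ?_, hAC.trans hCV, le_sup_right.trans hCV⟩
    exact KA.isDiscreteValuationRing_of_le (A := A) V (fun r => hCV (hAC r.2)) hVne
  · rintro ⟨O, hdvr, hA, hB⟩ htop
    haveI := hdvr
    have hO : O.toSubring = ⊤ := top_le_iff.1 (htop ▸ sup_le hA hB)
    apply IsDiscreteValuationRing.not_isField O
    refine ⟨⟨0, 1, zero_ne_one⟩, mul_comm, fun {a} ha => ?_⟩
    have hmem : (a : K)⁻¹ ∈ O := by
      have : (a : K)⁻¹ ∈ O.toSubring := hO ▸ Subring.mem_top _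
      exact this
    exact ⟨⟨(a : K)⁻¹, hmem⟩, Subtype.ext (mul_inv_cancel₀ (fun h => ha (Subtype.ext h)))⟩

end Groth.Agent.S7663
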