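import Groth.Statements.S7664

set_option autoImplicit false
universe u
open CategoryTheory CategoryTheory.Limits AlgebraicGeometry
open Variety

namespace Groth.Agent.S7664

theorem isLocalization_away {R S : Type*} [CommRing R] [CommRing S] [Algebra R S]
    (hinj : Function.Injective (algebraMap R S)) (r : R) (hr : IsUnit (algebraMap R S r))
    (hsurj : ∀ y : S, ∃ (n : ℕ) (a : R), y * algebraMap R S r ^ n = algebraMap R S a) :
    IsLocalization.Away r S := by
  refine (isLocalization_iff (Submonoid.powers r) S).2 ⟨?_, ?_, ?_⟩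
  · rintro ⟨_, n, rfl⟩
    rw [map_pow]
    exact hr.pow n
  · intro y
    obtain ⟨n, a, h⟩ := hsurj y
    refine ⟨(a, ⟨r ^ n, n, rfl⟩), ?_⟩
    rw [← h, map_pow]
  · intro a b h
    exact ⟨1, by rw [hinj h]⟩

theorem exists_ne_zero_mem_maximal {A : Type*} [CommRing A] [IsDomain A] (hA : ¬ IsField A)
    [Finite (MaximalSpectrum A)] : ∃ z : A, z ≠ 0 ∧ ∀ m : Ideal A, m.IsMaximal → z ∈ m := by
  classical
  haveI := Fintype.ofFinite (MaximalSpectrum A)
  have h1 : ∀ m : MaximalSpectrum A, ∃ z : A, z ∈ m.asIdeal ∧ z ≠ 0 := by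
    intro m
    by_contra hcon
    push Not at hcon
    have hbot : m.asIdeal = ⊥ := by
      rw [eq_bot_iff]
      intro z hz
      exact (Ideal.mem_bot).2 (hcon z hz)
    exact Ring.ne_bot_of_isMaximal_of_not_isField m.isMaximal hA hbot
  choose f hf hf0 using h1
  refine ⟨∏ m, f m, Finset.prod_ne_zero_iff.2 fun m _ => hf0 m, fun m hm => ?_⟩
  obtain ⟨c, hc⟩ := Finset.dvd_prod_of_mem f (Finset.mem_univ (⟨m, hm⟩ : MaximalSpectrum A))
  rw [hc]
  exact Ideal.mul_mem_right _ _ (hf ⟨m, hm⟩)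

theorem isUnit_one_add {A : Type*} [CommRing A] {x : A}
    (hx : ∀ m : Ideal A, m.IsMaximal → x ∈ m) : IsUnit (1 + x) := by
  by_contra h
  obtain ⟨m, hm, hmem⟩ := exists_max_ideal_of_mem_nonunits (mem_nonunits_iff.2 h)
  apply hm.ne_top
  rw [Ideal.eq_top_iff_one]
  have := m.sub_mem hmem (hx m hm)
  simpa using this

theorem exists_pow_mul_mem_subring {K : Type*} [Field K] (A : Subring K) [IsFractionRing A K]
    [Ring.KrullDimLE 1 A] {z : A} (hz : ∀ m : Ideal A, m.IsMaximal → z ∈ m) (y : K) :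
    ∃ n : ℕ, y * (z : K) ^ n ∈ A := by
  obtain ⟨a1, a2, ha2, h12⟩ := IsFractionRing.div_surjective (A := A) y
  have ha2' : a2 ≠ 0 := nonZeroDivisors.ne_zero ha2
  have ha2K : (a2 : K) ≠ 0 := fun h => ha2' (Subtype.ext h)
  have h12' : (a1 : K) / (a2 : K) = y := h12
  have hrad : z ∈ (Ideal.span {a2}).radical := by
    rw [Ideal.radical_eq_sInf, Ideal.mem_sInf]
    rintro J ⟨hJ, hJp⟩
    have hJne : J ≠ ⊥ := by
      rintro rfl
      exact ha2' ((Ideal.mem_bot).1 (hJ (Ideal.subset_span rfl)))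
    exact hz J (hJp.isMaximal_of_ne_bot hJne)
  obtain ⟨n, hn⟩ := hrad
  obtain ⟨c, hc⟩ := Ideal.mem_span_singleton'.1 hn
  have hcK : (c : K) * (a2 : K) = (z : K) ^ n := congrArg Subtype.val hc
  refine ⟨n, ?_⟩
  have : y * (z : K) ^ n = ((a1 * c : A) : K) := by
    rw [← h12', ← hcK, div_mul_eq_mul_div, div_eq_iff ha2K]
    show (a1 : K) * ((c : K) * (a2 : K)) = (a1 : K) * (c : K) * (a2 : K)
    ring
  rw [this]
  exact (a1 * c).2

theorem inv_mem_maximalIdeal {K : Type*} [Field K] (B : ValuationSubring K) {x : K} (hx : x ∉ B) :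
    ∃ h : x⁻¹ ∈ B, (⟨x⁻¹, h⟩ : B) ∈ IsLocalRing.maximalIdeal B := by
  have h : x⁻¹ ∈ B := (B.mem_or_inv_mem x).resolve_left hx
  refine ⟨h, ?_⟩
  rw [IsLocalRing.mem_maximalIdeal, mem_nonunits_iff]
  intro hu
  obtain ⟨v, hv⟩ := hu.exists_right_inv
  have hv' : x⁻¹ * (v : K) = 1 := congrArg Subtype.val hv
  have hx0 : x ≠ 0 := by
    rintro rfl
    exact hx B.zero_mem
  have hvx : (v : K) = x := by
    calc (v : K) = x * (x⁻¹ * (v : K)) := by rw [← mul_assoc, mul_inv_cancel₀ hx0, one_mul]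
      _ = x := by rw [hv', mul_one]
  exact hx (hvx ▸ v.2)

theorem exists_pow_mul_mem {K : Type*} [Field K] (B : ValuationSubring K)
    [IsDiscreteValuationRing B] {t : B} (ht : t ∈ IsLocalRing.maximalIdeal B) (y : K) :
    ∃ n : ℕ, y * (t : K) ^ n ∈ B := by
  rcases B.mem_or_inv_mem y with hy | hy
  · exact ⟨0, by rw [pow_zero, mul_one]; exact hy⟩
  · by_cases hy0 : y = 0
    · exact ⟨0, by rw [hy0, zero_mul]; exact B.zero_mem⟩
    obtain ⟨ϖ, hϖ⟩ := IsDiscreteValuationRing.exists_irreducible B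
    have hne : (⟨y⁻¹, hy⟩ : B) ≠ 0 := fun h => hy0 (inv_eq_zero.1 (congrArg Subtype.val h))
    obtain ⟨n, u, hu⟩ := IsDiscreteValuationRing.eq_unit_mul_pow_irreducible hne hϖ
    rw [hϖ.maximalIdeal_eq, Ideal.mem_span_singleton'] at ht
    obtain ⟨s, hs⟩ := ht
    refine ⟨n, ?_⟩
    have hK : y⁻¹ = ((u : B) : K) * (ϖ : K) ^ n := congrArg Subtype.val hu
    have hsK : (t : K) = (s : K) * (ϖ : K) := (congrArg Subtype.val hs).symm
    have haa' : ((u : B) : K) * (((u⁻¹ : Bˣ) : B) : K) = 1 :=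
      congrArg Subtype.val (Units.mul_inv u)
    have h1 : y * (((u : B) : K) * (ϖ : K) ^ n) = 1 := by
      rw [← hK]; exact mul_inv_cancel₀ hy0
    have : y * (t : K) ^ n = (((((u⁻¹ : Bˣ) : B)) * s ^ n : B) : K) := by
      show y * (t : K) ^ n = (((u⁻¹ : Bˣ) : B) : K) * (s : K) ^ n
      rw [hsK]
      linear_combination ((((u⁻¹ : Bˣ) : B) : K) * (s : K) ^ n) * h1
        - (y * (ϖ : K) ^ n * (s : K) ^ n) * haa'
    rw [this]
    exact Subtype.mem _

theorem exists_data (K : Type u) [Field K] (A : Subring K) [IsFractionRing A K]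
    [Ring.KrullDimLE 1 A] (hAnf : ¬ IsField A) [Finite (MaximalSpectrum A)]
    (B : ValuationSubring K) [IsDiscreteValuationRing B] (u : A) (huB : (u : K) ∉ B) :
    ∃ s t : K, s ∈ A ∧ s ∈ B ∧ t ∈ A ∧ t ∈ B ∧ s + t = 1 ∧ (∃ t' ∈ A, t * t' = 1) ∧
      (∃ s' ∈ B, s * s' = 1) ∧ (∀ y : K, ∃ n : ℕ, y * t ^ n ∈ B) ∧
      (∀ y : K, ∃ n : ℕ, y * s ^ n ∈ A) := by
  obtain ⟨z, hz0, hz⟩ := exists_ne_zero_mem_maximal (A := A) hAnf
  obtain ⟨hui, huim⟩ := inv_mem_maximalIdeal B huB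
  obtain ⟨n0, hn0⟩ := exists_pow_mul_mem B huim ((z : K)⁻¹)
  have hn0' : (z : K)⁻¹ * ((u : K)⁻¹) ^ n0 ∈ B := hn0
  have hxm : ∀ m : Ideal A, m.IsMaximal → z * u ^ (n0 + 1) ∈ m :=
    fun m hm => Ideal.mul_mem_right _ _ (hz m hm)
  have hzK : (z : K) ≠ 0 := fun h => hz0 (Subtype.ext h)
  have huK : (u : K) ≠ 0 := by
    intro h
    exact huB (h ▸ B.zero_mem)
  obtain ⟨x, hxdef⟩ : ∃ x : A, x = z * u ^ (n0 + 1) := ⟨_, rfl⟩
  rw [← hxdef] at hxm
  have hxK : (x : K) = (z : K) * (u : K) ^ (n0 + 1) := by rw [hxdef]; rfl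
  have hxK0 : (x : K) ≠ 0 := by rw [hxK]; exact mul_ne_zero hzK (pow_ne_zero _ huK)
  obtain ⟨xi, hxidef⟩ : ∃ xi : B, xi = ⟨(z : K)⁻¹ * ((u : K)⁻¹) ^ n0, hn0'⟩ * ⟨(u : K)⁻¹, hui⟩ :=
    ⟨_, rfl⟩
  have hxim : xi ∈ IsLocalRing.maximalIdeal B := by
    rw [hxidef]; exact Ideal.mul_mem_left _ _ huim
  have hxiK : (xi : K) = (x : K)⁻¹ := by
    have : (xi : K) = (z : K)⁻¹ * ((u : K)⁻¹) ^ n0 * (u : K)⁻¹ := by rw [hxidef]; rfl
    rw [this, hxK, pow_succ, mul_inv, mul_inv, inv_pow, mul_assoc]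
  obtain ⟨v, hv⟩ := (isUnit_one_add hxm).exists_right_inv
  obtain ⟨w, hw⟩ := (isUnit_one_add (x := xi) (fun m hm => by
    rw [IsLocalRing.eq_maximalIdeal hm]; exact hxim)).exists_right_inv
  have hvK : (1 + (x : K)) * (v : K) = 1 := congrArg Subtype.val hv
  have hwK : (1 + (x : K)⁻¹) * (w : K) = 1 := by
    rw [← hxiK]; exact congrArg Subtype.val hw
  have hsw : (x : K) * (v : K) = (w : K) := by
    have h1 : (1 + (x : K)⁻¹) * ((x : K) * (v : K)) = 1 := by
      have h2 : (1 + (x : K)⁻¹) * (x : K) = 1 + (x : K) := by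
        rw [add_mul, one_mul, inv_mul_cancel₀ hxK0, add_comm]
      rw [← mul_assoc, h2, hvK]
    calc (x : K) * (v : K)
        = ((1 + (x : K)⁻¹) * (w : K)) * ((x : K) * (v : K)) := by rw [hwK, one_mul]
      _ = (w : K) * ((1 + (x : K)⁻¹) * ((x : K) * (v : K))) := by ring
      _ = (w : K) := by rw [h1, mul_one]
  have htw : (v : K) = (x : K)⁻¹ * (w : K) := by
    rw [← hsw, ← mul_assoc, inv_mul_cancel₀ hxK0, one_mul]
  have htw' : (v : K) = ((xi * w : B) : K) := by
    rw [htw, ← hxiK]; rfl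
  refine ⟨(x : K) * (v : K), (v : K), (x * v).2, ?_, v.2, ?_, ?_, ?_, ?_, ?_, ?_⟩
  · rw [hsw]; exact w.2
  · rw [htw']; exact Subtype.mem _
  · rw [← hvK]; ring
  · exact ⟨1 + (x : K), (1 + x).2, by rw [mul_comm]; exact hvK⟩
  · refine ⟨1 + (x : K)⁻¹, ?_, by rw [hsw, mul_comm]; exact hwK⟩
    rw [← hxiK]; exact (1 + xi).2
  · intro y
    obtain ⟨n, hn⟩ := exists_pow_mul_mem B (t := xi * w) (Ideal.mul_mem_right _ _ hxim) y
    exact ⟨n, by rw [htw']; exact hn⟩
  · intro y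
    obtain ⟨n, hn⟩ := exists_pow_mul_mem_subring A (z := x * v)
      (fun m hm => Ideal.mul_mem_right _ _ (hxm m hm)) y
    exact ⟨n, hn⟩

theorem geom (K : Type u) [Field K] (A B : Subring K) (s t : K) (hsA : s ∈ A) (hsB : s ∈ B)
    (htA : t ∈ A) (htB : t ∈ B) (hst : s + t = 1) (ht' : ∃ t' ∈ A, t * t' = 1)
    (hs' : ∃ s' ∈ B, s * s' = 1) (hB : ∀ y : K, ∃ n : ℕ, y * t ^ n ∈ B)
    (hA : ∀ y : K, ∃ n : ℕ, y * s ^ n ∈ A) :
    IsOpenImmersion (Spec.map (CommRingCat.ofHom (Subring.inclusion (inf_le_left : A ⊓ B ≤ A)))) ∧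
    IsOpenImmersion (Spec.map (CommRingCat.ofHom (Subring.inclusion (inf_le_right : A ⊓ B ≤ B)))) ∧
    Set.range (Spec.map (CommRingCat.ofHom (Subring.inclusion (inf_le_left : A ⊓ B ≤ A)))).base ∪
      Set.range (Spec.map (CommRingCat.ofHom (Subring.inclusion (inf_le_right : A ⊓ B ≤ B)))).base
        = Set.univ ∧
    IsPushout (CommRingCat.ofHom (Subring.inclusion (inf_le_left : A ⊓ B ≤ A)))
      (CommRingCat.ofHom (Subring.inclusion (inf_le_right : A ⊓ B ≤ B)))
      (CommRingCat.ofHom A.subtype) (CommRingCat.ofHom B.subtype) := by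
  classical
  let sR : (A ⊓ B : Subring K) := ⟨s, Subring.mem_inf.2 ⟨hsA, hsB⟩⟩
  let tR : (A ⊓ B : Subring K) := ⟨t, Subring.mem_inf.2 ⟨htA, htB⟩⟩
  have hstR : sR + tR = 1 := Subtype.ext hst
  letI algA : Algebra (A ⊓ B : Subring K) A :=
    (Subring.inclusion (inf_le_left : A ⊓ B ≤ A)).toAlgebra
  letI algB : Algebra (A ⊓ B : Subring K) B :=
    (Subring.inclusion (inf_le_right : A ⊓ B ≤ B)).toAlgebra
  have hs0 : s ≠ 0 := by
    obtain ⟨s', _, h⟩ := hs'
    intro h0
    rw [h0, zero_mul] at h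
    exact zero_ne_one h
  have locA : IsLocalization.Away tR A := by
    apply isLocalization_away (Subring.inclusion_injective _)
    · obtain ⟨t', ht'A, h⟩ := ht'
      exact IsUnit.of_mul_eq_one ⟨t', ht'A⟩ (Subtype.ext h)
    · intro y
      obtain ⟨n, hn⟩ := hB (y : K)
      exact ⟨n, ⟨(y : K) * t ^ n, Subring.mem_inf.2 ⟨A.mul_mem y.2 (A.pow_mem htA n), hn⟩⟩,
        Subtype.ext rfl⟩
  have locB : IsLocalization.Away sR B := by
    apply isLocalization_away (Subring.inclusion_injective _)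
    · obtain ⟨s', hs'B, h⟩ := hs'
      exact IsUnit.of_mul_eq_one ⟨s', hs'B⟩ (Subtype.ext h)
    · intro y
      obtain ⟨n, hn⟩ := hA (y : K)
      exact ⟨n, ⟨(y : K) * s ^ n, Subring.mem_inf.2 ⟨hn, B.mul_mem y.2 (B.pow_mem hsB n)⟩⟩,
        Subtype.ext rfl⟩
  have locK : IsLocalization.Away (Subring.inclusion (inf_le_left : A ⊓ B ≤ A) sR) K := by
    apply isLocalization_away (fun a b h => Subtype.ext h)
    · exact isUnit_iff_ne_zero.2 hs0
    · intro y
      obtain ⟨n, hn⟩ := hA y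
      exact ⟨n, ⟨y * s ^ n, hn⟩, rfl⟩
  refine ⟨IsOpenImmersion.of_isLocalization (R := (A ⊓ B : Subring K)) (S := A) tR,
    IsOpenImmersion.of_isLocalization (R := (A ⊓ B : Subring K)) (S := B) sR, ?_, ?_⟩
  · rw [Set.eq_univ_iff_forall]
    intro (p : PrimeSpectrum (A ⊓ B : Subring K))
    have hA' := PrimeSpectrum.localization_away_comap_range A tR
    have hB' := PrimeSpectrum.localization_away_comap_range B sR
    by_cases hp : tR ∈ p.asIdeal
    · right
      have hsp : sR ∉ p.asIdeal := fun hs =>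
        p.isPrime.ne_top ((Ideal.eq_top_iff_one _).2 (hstR ▸ p.asIdeal.add_mem hs hp))
      have hmem : p ∈ (PrimeSpectrum.basicOpen sR : Set (PrimeSpectrum (A ⊓ B : Subring K))) := hsp
      rw [← hB'] at hmem
      obtain ⟨q, hq⟩ := hmem
      exact ⟨q, hq⟩
    · left
      have hmem : p ∈ (PrimeSpectrum.basicOpen tR : Set (PrimeSpectrum (A ⊓ B : Subring K))) := hp
      rw [← hA'] at hmem
      obtain ⟨q, hq⟩ := hmem
      exact ⟨q, hq⟩
  · haveI : IsLocalization (Submonoid.map (Subring.inclusion (inf_le_left : A ⊓ B ≤ A))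
        (Submonoid.powers sR)) K := by
      rw [Submonoid.map_powers]; exact locK
    exact CommRingCat.isPushout_of_isLocalization (Subring.inclusion (inf_le_left : A ⊓ B ≤ A))
      B.subtype (RingHom.ext fun _ => rfl) (Submonoid.powers sR)

theorem le_of_units (K : Type u) [Field K] (A : Subring K)
    [Finite (MaximalSpectrum A)] (B : ValuationSubring K) [IsDiscreteValuationRing B]
    (hall : ∀ u : A, IsUnit u → (u : K) ∈ B) : A ≤ B.toSubring := by
  classical
  intro x hxA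
  by_contra hxB
  have hxB' : x ∉ B := hxB
  obtain ⟨xA, hxAdef⟩ : ∃ xA : A, (xA : K) = x := ⟨⟨x, hxA⟩, rfl⟩
  have hcop : Pairwise (Function.onFun IsCoprime fun m : MaximalSpectrum A => m.asIdeal) := by
    intro i j hij
    haveI := i.isMaximal
    haveI := j.isMaximal
    exact Ideal.isCoprime_of_isMaximal (fun h => hij (MaximalSpectrum.ext h))
  obtain ⟨y, hy⟩ := Ideal.exists_forall_sub_mem_ideal hcop
    (fun m => if xA ∈ m.asIdeal then 1 else 0)
  have hy1 : ∀ m : Ideal A, m.IsMaximal → xA ∈ m → y - 1 ∈ m := by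
    intro m hm hx
    have := hy ⟨m, hm⟩
    simpa [hx] using this
  have hy0 : ∀ m : Ideal A, m.IsMaximal → xA ∉ m → y ∈ m := by
    intro m hm hx
    have := hy ⟨m, hm⟩
    simpa [hx] using this
  have hU1 : IsUnit (xA + y) := by
    by_contra h
    obtain ⟨m, hm, hmem⟩ := exists_max_ideal_of_mem_nonunits (mem_nonunits_iff.2 h)
    by_cases hx : xA ∈ m
    · apply hm.ne_top
      rw [Ideal.eq_top_iff_one]
      have := m.sub_mem (m.sub_mem hmem hx) (hy1 m hm hx)
      have h1 : (xA + y - xA) - (y - 1) = 1 := by ring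
      rwa [h1] at this
    · apply hx
      have := m.sub_mem hmem (hy0 m hm hx)
      have h1 : xA + y - y = xA := by ring
      rwa [h1] at this
  have hU2 : IsUnit (xA + y ^ 2) := by
    by_contra h
    obtain ⟨m, hm, hmem⟩ := exists_max_ideal_of_mem_nonunits (mem_nonunits_iff.2 h)
    by_cases hx : xA ∈ m
    · have hy2 : y ^ 2 ∈ m := by
        have := m.sub_mem hmem hx
        have h1 : xA + y ^ 2 - xA = y ^ 2 := by ring
        rwa [h1] at this
      have hym : y ∈ m := hm.isPrime.mem_of_pow_mem _ hy2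
      apply hm.ne_top
      rw [Ideal.eq_top_iff_one]
      have := m.sub_mem hym (hy1 m hm hx)
      have h1 : y - (y - 1) = 1 := by ring
      rwa [h1] at this
    · apply hx
      have := m.sub_mem hmem (Ideal.pow_mem_of_mem m (hy0 m hm hx) 2 (by norm_num))
      have h1 : xA + y ^ 2 - y ^ 2 = xA := by ring
      rwa [h1] at this
  have h1 : x + (y : K) ∈ B := by
    have := hall _ hU1
    rw [← hxAdef]; exact this
  have h2 : x + (y : K) ^ 2 ∈ B := by
    have := hall _ hU2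
    rw [← hxAdef]; exact this
  have hyB : (y : K) ∉ B := by
    intro hyB
    apply hxB'
    have := B.sub_mem h1 hyB
    have h3 : x + (y : K) - (y : K) = x := by ring
    rwa [h3] at this
  have hdiff : (y : K) ^ 2 - (y : K) ∈ B := by
    have := B.sub_mem h2 h1
    have h3 : x + (y : K) ^ 2 - (x + (y : K)) = (y : K) ^ 2 - (y : K) := by ring
    rwa [h3] at this
  obtain ⟨hyi, hyim⟩ := inv_mem_maximalIdeal B hyB
  have hyK0 : (y : K) ≠ 0 := by
    intro h
    exact hyB (h ▸ B.zero_mem)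
  obtain ⟨c, hc⟩ := (isUnit_one_add (x := -(⟨(y : K)⁻¹, hyi⟩ : B)) (fun m hm => by
    rw [IsLocalRing.eq_maximalIdeal hm]
    exact (Ideal.neg_mem_iff _).2 hyim)).exists_right_inv
  have hcK : (1 - (y : K)⁻¹) * (c : K) = 1 := by
    have := congrArg Subtype.val hc
    rw [sub_eq_add_neg]; exact this
  have hyi' : (y : K) * (y : K)⁻¹ = 1 := mul_inv_cancel₀ hyK0
  have hfin : (y : K) = ((y : K) ^ 2 - (y : K)) * (c : K) * (y : K)⁻¹ := by
    linear_combination (-(y : K)) * hcK - ((y : K) * (c : K)) * hyi'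
  apply hyB
  rw [hfin]
  exact mul_mem (mul_mem hdiff c.2) hyi

theorem comap_isMaximal (K : Type u) [Field K] (A : Subring K) [IsFractionRing A K]
    [Ring.KrullDimLE 1 A] (B : ValuationSubring K) [IsDiscreteValuationRing B]
    (h : A ≤ B.toSubring) :
    (Ideal.comap (Subring.inclusion h) (IsLocalRing.maximalIdeal B)).IsMaximal := by
  have hP : (Ideal.comap (Subring.inclusion h) (IsLocalRing.maximalIdeal B)).IsPrime :=
    Ideal.comap_isPrime _ _
  refine hP.isMaximal_of_ne_bot ?_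
  obtain ⟨ϖ, hϖ⟩ := IsDiscreteValuationRing.exists_irreducible B
  obtain ⟨a1, a2, ha2, h12⟩ := IsFractionRing.div_surjective (A := A) (ϖ : K)
  have ha2K : (a2 : K) ≠ 0 := fun h0 => nonZeroDivisors.ne_zero ha2 (Subtype.ext h0)
  have h12' : (a1 : K) = (ϖ : K) * (a2 : K) := by
    have h3 : (a1 : K) / (a2 : K) = (ϖ : K) := h12
    exact (div_eq_iff ha2K).1 h3
  have ha1 : a1 ≠ 0 := by
    intro h0
    have h3 : (ϖ : K) * (a2 : K) = 0 := by rw [← h12', h0]; rfl
    rcases mul_eq_zero.1 h3 with h' | h'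
    · exact hϖ.ne_zero (Subtype.ext h')
    · exact ha2K h'
  intro hbot
  apply ha1
  have hmem : a1 ∈ Ideal.comap (Subring.inclusion h) (IsLocalRing.maximalIdeal B) := by
    show (⟨(a1 : K), h a1.2⟩ : B) ∈ IsLocalRing.maximalIdeal B
    have h3 : (⟨(a1 : K), h a1.2⟩ : B) = ϖ * ⟨(a2 : K), h a2.2⟩ := Subtype.ext h12'
    rw [h3]
    exact Ideal.mul_mem_right _ _ ((IsLocalRing.mem_maximalIdeal _).2 hϖ.not_isUnit)
  rw [hbot] at hmem
  exact (Ideal.mem_bot).1 hmem

/-- Let K be a field, A ⊆ K a Noetherian semi-local domain of dimension one and B ⊆ K a discrete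
valuation ring, both with fraction field K, and R = A ∩ B. (a) If some unit of A does not lie in R,
then Spec A and Spec B each map to Spec R by an open immersion, Spec R is the union of the two
images, and the natural map A ⊗_R B → K is an isomorphism. (b) If every unit of A lies in R, then B
dominates the local ring of A at one of its maximal ideals (A ⊆ B and the maximal ideal of B
contracts to a maximal ideal of A) and A ⊗ B → K is not surjective. -/
theorem result (K : Type u) [Field K]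
    (A : Subring K) [IsFractionRing A K] [IsNoetherianRing A] (hdim : ringKrullDim A = 1) (hsl : Finite (MaximalSpectrum A))
    (B : ValuationSubring K) [IsDiscreteValuationRing B] :
    ((∃ u : A, IsUnit u ∧ (u : K) ∉ B) →
      IsOpenImmersion (Spec.map (CommRingCat.ofHom (Subring.inclusion (inf_le_left : A ⊓ B.toSubring ≤ A)))) ∧
      IsOpenImmersion (Spec.map (CommRingCat.ofHom (Subring.inclusion (inf_le_right : A ⊓ B.toSubring ≤ B.toSubring)))) ∧
      Set.range (Spec.map (CommRingCat.ofHom (Subring.inclusion (inf_le_left : A ⊓ B.toSubring ≤ A)))).base ∪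
        Set.range (Spec.map (CommRingCat.ofHom (Subring.inclusion (inf_le_right : A ⊓ B.toSubring ≤ B.toSubring)))).base = Set.univ ∧
      IsPushout (CommRingCat.ofHom (Subring.inclusion (inf_le_left : A ⊓ B.toSubring ≤ A)))
        (CommRingCat.ofHom (Subring.inclusion (inf_le_right : A ⊓ B.toSubring ≤ B.toSubring)))
        (CommRingCat.ofHom A.subtype) (CommRingCat.ofHom B.toSubring.subtype)) ∧
    ((∀ u : A, IsUnit u → (u : K) ∈ B) →
      (∃ h : A ≤ B.toSubring,
        (Ideal.comap (Subring.inclusion h) (IsLocalRing.maximalIdeal B)).IsMaximal) ∧ A ⊔ B.toSubring ≠ ⊤) := by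
  have hKD : Ring.KrullDimLE 1 A := Ring.krullDimLE_iff.2 (by simpa using hdim.le)
  have hAnf : ¬ IsField A := by
    intro hf
    have h0 := ringKrullDim_eq_zero_of_isField hf
    rw [hdim] at h0
    exact one_ne_zero h0
  refine ⟨?_, ?_⟩
  · rintro ⟨u, -, huB⟩
    obtain ⟨s, t, hsA, hsB, htA, htB, hst, ht', hs', hB, hA⟩ := exists_data K A hAnf B u huB
    exact geom K A B.toSubring s t hsA hsB htA htB hst ht' hs' hB hA
  · intro hall
    have h := le_of_units K A B hall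
    refine ⟨⟨h, comap_isMaximal K A B h⟩, ?_⟩
    intro htop
    rw [sup_eq_right.2 h] at htop
    apply IsDiscreteValuationRing.not_isField B
    refine ⟨⟨0, 1, zero_ne_one⟩, mul_comm, fun {a} ha => ?_⟩
    have hmem : (a : K)⁻¹ ∈ B := by
      have h3 : (a : K)⁻¹ ∈ B.toSubring := htop ▸ Subring.mem_top _
      exact h3
    exact ⟨⟨(a : K)⁻¹, hmem⟩, Subtype.ext (mul_inv_cancel₀ (fun h => ha (Subtype.ext h)))⟩

end Groth.Agent.S7664
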