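import Groth.Statements.S7665
import Groth.Agent.Lib.Helper12.SemiLocalGlue

set_option autoImplicit false
universe u
open CategoryTheory CategoryTheory.Limits AlgebraicGeometry
open Variety

namespace Groth.Agent.S7665

open Groth.Agent.Lib.Helper12.Glue

theorem nice_of {K : Type u} [Field K] (A : Subring K) [IsFractionRing A K] [IsNoetherianRing A]
    (hdimA : ringKrullDim A = 1) (hslA : Finite (MaximalSpectrum A)) : Nice A where
  frac := inferInstance
  dim := Ring.krullDimLE_iff.2 (by simpa using hdimA.le)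
  fin := hslA
  nf := fun h => by
    have h0 := ringKrullDim_eq_zero_of_isField h
    rw [hdimA] at h0
    exact one_ne_zero h0
  noeth := inferInstance

theorem range_iff {K : Type u} [Field K] {R A : Subring K} (hRA : R ≤ A) {t : K} (htR : t ∈ R)
    (htinv : t⁻¹ ∈ A) (ht0 : t ≠ 0) (hpow : ∀ y ∈ A, ∃ n : ℕ, y * t ^ n ∈ R) :
    IsOpenImmersion (Spec.map (CommRingCat.ofHom (Subring.inclusion hRA))) ∧
    ∀ p : PrimeSpectrum R,
      p ∈ Set.range (Spec.map (CommRingCat.ofHom (Subring.inclusion hRA))).base ↔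
        (⟨t, htR⟩ : R) ∉ p.asIdeal := by
  letI := (Subring.inclusion hRA).toAlgebra
  haveI : IsLocalization.Away (⟨t, htR⟩ : R) A := isLocalization_of_le hRA htR htinv ht0 hpow
  refine ⟨IsOpenImmersion.of_isLocalization (R := R) (S := A) ⟨t, htR⟩, fun p => ?_⟩
  have h := PrimeSpectrum.localization_away_comap_range A (⟨t, htR⟩ : R)
  constructor
  · rintro ⟨q, hq⟩
    have hmem : p ∈ Set.range (PrimeSpectrum.comap (algebraMap R A)) := ⟨q, hq⟩
    rw [h] at hmem
    exact hmem
  · intro hp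
    have hmem : p ∈ (PrimeSpectrum.basicOpen (⟨t, htR⟩ : R) : Set (PrimeSpectrum R)) := hp
    rw [← h] at hmem
    obtain ⟨q, hq⟩ := hmem
    exact ⟨q, hq⟩

/-- Let K be a field and A_1, …, A_r ⊆ K (r ≥ 1) Noetherian semi-local rings of dimension one with
fraction field K, and assume A_i and A_j generate K as a ring whenever i ≠ j. Then A = A_1 ∩ … ∩ A_r
is a Noetherian semi-local domain of dimension one with fraction field K contained in every A_i,
each Spec A_i → Spec A is an open immersion, Spec A is the union of their images, and every closed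
point of Spec A belongs to the image of exactly one Spec A_i. (The published statement asserts only
that some such subring A exists; this row takes A to be the intersection A_1 ∩ … ∩ A_r.) -/
theorem result (K : Type u) [Field K] (r : ℕ) (hr : 1 ≤ r)
    (A : Fin r → Subring K) [∀ i, IsNoetherianRing (A i)] [∀ i, IsFractionRing (A i) K]
    (hdim : ∀ i, ringKrullDim (A i) = 1) (hsl : ∀ i, Finite (MaximalSpectrum (A i)))
    (hgen : ∀ i j, i ≠ j → A i ⊔ A j = ⊤) :
    IsNoetherianRing ↥(⨅ i, A i) ∧ ringKrullDim ↥(⨅ i, A i) = 1 ∧ Finite (MaximalSpectrum ↥(⨅ i, A i)) ∧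
      IsFractionRing ↥(⨅ i, A i) K ∧
      (∀ i, IsOpenImmersion (Spec.map (CommRingCat.ofHom (Subring.inclusion (iInf_le A i))))) ∧
      (⋃ i, Set.range (Spec.map (CommRingCat.ofHom (Subring.inclusion (iInf_le A i)))).base) = Set.univ ∧
      (∀ m : PrimeSpectrum ↥(⨅ i, A i), m.asIdeal.IsMaximal →
        ∃! i, m ∈ Set.range (Spec.map (CommRingCat.ofHom (Subring.inclusion (iInf_le A i)))).base) := by
  classical
  obtain ⟨n, rfl⟩ : ∃ n, r = n + 1 := ⟨r - 1, by omega⟩
  have hN : ∀ i, Nice (A i) := fun i => nice_of (A i) (hdim i) (hsl i)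
  obtain ⟨e, hG, hR⟩ := glue_family n A hN hgen
    (fun R' i _ hR' hs => pair_general hR' (hN i) hs)
  have hrange := fun i =>
    range_iff (hG.le i) (hG.mem i) (hG.inv_mem i) (hG.ne_zero i) (hG.pow i)
  have hcover : ∀ p : PrimeSpectrum ↥(⨅ i, A i),
      ∃ i, (⟨e i, hG.mem i⟩ : ↥(⨅ i, A i)) ∉ p.asIdeal := by
    intro p
    obtain ⟨V, hV, hsub⟩ :=
      Ideal.image_subset_nonunits_valuationSubring p.asIdeal p.isPrime.ne_top
    obtain ⟨i, hi⟩ := hG.cover V hV
    refine ⟨i, fun hmem => ?_⟩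
    have h1 : e i ∈ V.nonunits := hsub ⟨⟨e i, hG.mem i⟩, hmem, rfl⟩
    rcases (V.mem_nonunits_iff_or).1 h1 with h0 | h2
    · exact hG.ne_zero i h0
    · exact h2 hi
  refine ⟨hR.noeth, ?_, hR.fin, hR.frac, fun i => (hrange i).1, ?_, ?_⟩
  · have hle : ringKrullDim ↥(⨅ i, A i) ≤ 1 := by
      have := Ring.krullDimLE_iff.1 hR.dim
      simpa using this
    have hne : ¬ ringKrullDim ↥(⨅ i, A i) ≤ 0 := by
      intro h0
      haveI : Ring.KrullDimLE 0 ↥(⨅ i, A i) := Ring.krullDimLE_iff.2 (by simpa using h0)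
      exact hR.nf Ring.KrullDimLE.isField_of_isDomain
    exact le_antisymm hle (Order.succ_le_of_lt (lt_of_not_ge hne))
  · rw [Set.eq_univ_iff_forall]
    intro p
    obtain ⟨i, hi⟩ := hcover p
    exact Set.mem_iUnion.2 ⟨i, ((hrange i).2 p).2 hi⟩
  · intro m hm
    obtain ⟨i, hi⟩ := hcover m
    refine ⟨i, ((hrange i).2 m).2 hi, fun j hj => ?_⟩
    by_contra hji
    have hj' := ((hrange j).2 m).1 hj
    letI := (Subring.inclusion (hG.le j)).toAlgebra
    haveI : IsLocalization.Away (⟨e j, hG.mem j⟩ : ↥(⨅ i, A i)) (A j) :=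
      isLocalization_of_le (hG.le j) (hG.mem j) (hG.inv_mem j) (hG.ne_zero j) (hG.pow j)
    haveI := (hN j).dim
    obtain ⟨m', hm'⟩ := exists_maximalSpectrum_comap (R := ↥(⨅ i, A i)) (S := A j)
      ⟨e j, hG.mem j⟩ (Subring.inclusion_injective _) hR.nf hm hj'
    have hmem := Tn.mem_of_isMaximal (hN j).nf (hG.jac i j (Ne.symm hji)) m'.asIdeal m'.isMaximal
    apply hi
    rw [← hm']
    exact Ideal.mem_comap.2 hmem

end Groth.Agent.S7665
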