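import Groth.Statements.S7666
import Groth.Agent.Lib.Helper12.OneDimLocal

set_option autoImplicit false
universe u
open CategoryTheory CategoryTheory.Limits AlgebraicGeometry
open Variety

namespace Groth.Agent.S7666

open Groth.Agent.Lib.Helper12 in
/-- Let A be a one-dimensional Noetherian local ring and L = ∏ A_p, the product over the minimal primes
of A. If a_1, a_2 ∈ m_A have the same image in L, then a_1 and a_2 have equal n-th powers for some
positive integer n. -/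
theorem result (A : Type u) [CommRing A]
    [IsLocalRing A] [IsNoetherianRing A] (hdim : ringKrullDim A = 1)
    (a₁ a₂ : A) (h₁ : a₁ ∈ IsLocalRing.maximalIdeal A) (h₂ : a₂ ∈ IsLocalRing.maximalIdeal A)
    (heq : ∀ p : {p : PrimeSpectrum A // p.asIdeal ∈ minimalPrimes A},
      algebraMap A (Localization.AtPrime p.1.asIdeal) a₁ = algebraMap A (Localization.AtPrime p.1.asIdeal) a₂) :
    ∃ n : ℕ, 0 < n ∧ a₁ ^ n = a₂ ^ n := by
  have hJ : ∀ p ∈ minimalPrimes A, ¬ annIdeal (a₁ - a₂) ≤ p := by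
    intro p hp hle
    haveI := hp.1.1
    obtain ⟨c, hc⟩ := (IsLocalization.eq_iff_exists p.primeCompl (Localization.AtPrime p)).1
      (heq ⟨⟨p, hp.1.1⟩, hp⟩)
    have : (c : A) ∈ annIdeal (a₁ - a₂) := by
      show (c : A) * (a₁ - a₂) = 0
      rw [mul_sub, hc, sub_self]
    exact c.2 (hle this)
  have hm := maximalIdeal_le_radical_of_forall_not_le hdim.le _ hJ
  obtain ⟨N₁, hN₁⟩ := hm h₁
  obtain ⟨N₂, hN₂⟩ := hm h₂
  have hN₁' : a₁ ^ N₁ * (a₁ - a₂) = 0 := hN₁
  have hN₂' : a₂ ^ N₂ * (a₁ - a₂) = 0 := hN₂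
  refine ⟨2 * (N₁ + N₂) + 1, by omega, ?_⟩
  rw [← sub_eq_zero, ← geom_sum₂_mul, Finset.sum_mul]
  apply Finset.sum_eq_zero
  intro i hi
  rw [Finset.mem_range] at hi
  by_cases hiN : N₁ ≤ i
  · have : a₁ ^ i * (a₁ - a₂) = 0 := by
      rw [← Nat.sub_add_cancel hiN, pow_add, mul_assoc, hN₁', mul_zero]
    rw [mul_right_comm, this, zero_mul]
  · have hk : N₂ ≤ 2 * (N₁ + N₂) + 1 - 1 - i := by omega
    have : a₂ ^ (2 * (N₁ + N₂) + 1 - 1 - i) * (a₁ - a₂) = 0 := by
      rw [← Nat.sub_add_cancel hk, pow_add, mul_assoc, hN₂', mul_zero]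
    rw [mul_assoc, this, mul_zero]

end Groth.Agent.S7666
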