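import Groth.Statements.S7667
import Groth.Agent.Lib.Helper12.OneDimLocal

set_option autoImplicit false
universe u
open CategoryTheory CategoryTheory.Limits AlgebraicGeometry
open Variety

namespace Groth.Agent.S7667

open Groth.Agent.Lib.Helper12 in
/-- Let A be a one-dimensional Noetherian local ring, L the product of the localizations A_p over its
minimal primes p, and I the intersection of those primes (the nilradical of A). If f ∈ L equals i +
a with a in the maximal ideal of A and i ∈ I·L, then for some positive integer n, f^n belongs to the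
subring of L obtained as the image of the structure map from A. -/
theorem result (A : Type u) [CommRing A]
    [IsLocalRing A] [IsNoetherianRing A] (hdim : ringKrullDim A = 1)
    (a : A) (ha : a ∈ IsLocalRing.maximalIdeal A)
    (i : ∀ p : {p : PrimeSpectrum A // p.asIdeal ∈ minimalPrimes A}, Localization.AtPrime p.1.asIdeal)
    (hi : i ∈ (nilradical A).map (algebraMap A (∀ p : {p : PrimeSpectrum A // p.asIdeal ∈ minimalPrimes A}, Localization.AtPrime p.1.asIdeal))) :
    ∃ n : ℕ, 0 < n ∧ (i + algebraMap A (∀ p : {p : PrimeSpectrum A // p.asIdeal ∈ minimalPrimes A}, Localization.AtPrime p.1.asIdeal) a) ^ n ∈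
      (algebraMap A (∀ p : {p : PrimeSpectrum A // p.asIdeal ∈ minimalPrimes A}, Localization.AtPrime p.1.asIdeal)).range := by
  have hinil : IsNilpotent i := by
    have hle : (nilradical A).map (algebraMap A (∀ p : {p : PrimeSpectrum A // p.asIdeal ∈ minimalPrimes A}, Localization.AtPrime p.1.asIdeal)) ≤ nilradical _ := by
      rw [Ideal.map_le_iff_le_comap]
      intro y hy
      rw [Ideal.mem_comap, mem_nilradical]
      exact (mem_nilradical.1 hy).map _
    exact mem_nilradical.1 (hle hi)
  obtain ⟨t, ht⟩ := hinil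
  have hN : ∀ j : ℕ, ∃ N : ℕ, ∃ b : A, a ^ N • (i ^ j) = algebraMap A _ b :=
    fun j => exists_pow_smul_eq_algebraMap hdim.le (i ^ j) ha
  choose Nf bf hNf using hN
  have hNle : ∀ j < t, Nf j ≤ ∑ j ∈ Finset.range t, Nf j := fun j hj =>
    Finset.single_le_sum (f := Nf) (fun _ _ => Nat.zero_le _) (Finset.mem_range.2 hj)
  refine ⟨(∑ j ∈ Finset.range t, Nf j) + t + 1, by omega, ?_⟩
  rw [add_pow]
  apply sum_mem
  intro j hj
  rw [Finset.mem_range] at hj
  by_cases hjt : j < t
  · have h1 : Nf j ≤ (∑ j ∈ Finset.range t, Nf j) + t + 1 - j := by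
      have := hNle j hjt; omega
    have : i ^ j * algebraMap A (∀ p : {p : PrimeSpectrum A // p.asIdeal ∈ minimalPrimes A}, Localization.AtPrime p.1.asIdeal) a ^ ((∑ j ∈ Finset.range t, Nf j) + t + 1 - j) =
        algebraMap A _ (a ^ ((∑ j ∈ Finset.range t, Nf j) + t + 1 - j - Nf j) * bf j) := by
      rw [map_mul, ← hNf j, Algebra.smul_def, ← mul_assoc, ← map_mul, ← pow_add,
        Nat.sub_add_cancel h1, map_pow, mul_comm]
    rw [this]
    exact mul_mem ⟨_, rfl⟩ (natCast_mem _ _)
  · have : i ^ j = 0 := by
      rw [← Nat.sub_add_cancel (not_lt.1 hjt), pow_add, ht, mul_zero]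
    rw [this, zero_mul, zero_mul]
    exact zero_mem _

end Groth.Agent.S7667
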