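import Groth.Statements.S7668

set_option autoImplicit false
universe u
open CategoryTheory CategoryTheory.Limits AlgebraicGeometry
open Variety

namespace Groth.Agent.S7668

section
variable {A : Type u} [CommRing A] {r : ℕ} (p : Fin r → PrimeSpectrum A)

lemma mem_S {x : A} : x ∈ (⨅ i, (p i).asIdeal.primeCompl : Submonoid A) ↔ ∀ i, x ∉ (p i).asIdeal := by
  rw [Submonoid.mem_iInf]
  exact Iff.rfl

lemma disjoint_iff (q : Ideal A) (hq : q.IsPrime) :
    Disjoint (((⨅ i, (p i).asIdeal.primeCompl : Submonoid A)) : Set A) (q : Set A) ↔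
      ∃ i, q ≤ (p i).asIdeal := by
  constructor
  · intro hd
    rcases isEmpty_or_nonempty (Fin r) with he | hne
    · exfalso
      have h0 : (0 : A) ∈ (⨅ i, (p i).asIdeal.primeCompl : Submonoid A) := by
        rw [mem_S]; intro i; exact (he.false i).elim
      exact Set.disjoint_left.1 hd h0 q.zero_mem
    · have hsub : (q : Set A) ⊆
          ⋃ i ∈ ((Finset.univ : Finset (Fin r)) : Set (Fin r)), ((p i).asIdeal : Set A) := by
        intro x hx
        by_contra hnot
        have hxS : x ∈ (⨅ i, (p i).asIdeal.primeCompl : Submonoid A) := by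
          rw [mem_S]; intro i hi
          apply hnot
          simp only [Set.mem_iUnion]
          exact ⟨i, by simp, hi⟩
        exact Set.disjoint_left.1 hd hxS hx
      obtain ⟨i, -, hi⟩ := (Ideal.subset_union_prime (Classical.arbitrary _) (Classical.arbitrary _)
        (fun i _ _ _ => (p i).isPrime)).1 hsub
      exact ⟨i, hi⟩
  · rintro ⟨i, hi⟩
    rw [Set.disjoint_left]
    intro x hxS hxq
    exact (mem_S p).1 hxS i (hi hxq)

theorem main (L : Type u) [CommRing L] [Algebra A L]
    [IsLocalization (⨅ i, (p i).asIdeal.primeCompl : Submonoid A) L] :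
    Finite (MaximalSpectrum L) ∧
      Set.BijOn (fun m : Ideal L => m.comap (algebraMap A L))
        {m | m.IsMaximal}
        {q | q ∈ Set.range (fun i => (p i).asIdeal) ∧
          ∀ j, q ≤ (p j).asIdeal → q = (p j).asIdeal} := by
  have hdisj : ∀ i, Disjoint (((⨅ i, (p i).asIdeal.primeCompl : Submonoid A)) : Set A)
      ((p i).asIdeal : Set A) :=
    fun i => (disjoint_iff p _ (p i).isPrime).2 ⟨i, le_rfl⟩
  have hmapprime : ∀ i, ((p i).asIdeal.map (algebraMap A L)).IsPrime :=
    fun i => IsLocalization.isPrime_of_isPrime_disjoint _ L _ (p i).isPrime (hdisj i)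
  have hcm : ∀ i, ((p i).asIdeal.map (algebraMap A L)).comap (algebraMap A L) = (p i).asIdeal :=
    fun i => IsLocalization.under_map_of_isPrime_disjoint _ L (p i).isPrime (hdisj i)
  have hmu : ∀ m : Ideal L, (m.comap (algebraMap A L)).map (algebraMap A L) = m :=
    fun m => IsLocalization.map_under (⨅ i, (p i).asIdeal.primeCompl : Submonoid A) L m
  have hmax : ∀ m : Ideal L, m.IsMaximal → ∃ i, m = (p i).asIdeal.map (algebraMap A L) := by
    intro m hm
    have := (IsLocalization.isPrime_iff_isPrime_disjoint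
      (⨅ i, (p i).asIdeal.primeCompl : Submonoid A) L m).1 hm.isPrime
    obtain ⟨i, hi⟩ := (disjoint_iff p _ this.1).1 this.2
    refine ⟨i, ?_⟩
    have hle : m ≤ (p i).asIdeal.map (algebraMap A L) := by
      rw [← hmu m]
      exact Ideal.map_mono hi
    exact hm.eq_of_le (hmapprime i).ne_top hle
  refine ⟨?_, ?_, ?_, ?_⟩
  · choose idx hidx using hmax
    refine Finite.of_injective (fun m : MaximalSpectrum L => idx m.asIdeal m.isMaximal) ?_
    intro m m' h
    apply MaximalSpectrum.ext
    rw [hidx m.asIdeal m.isMaximal, hidx m'.asIdeal m'.isMaximal]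
    simp only at h
    rw [h]
  · intro m hm
    obtain ⟨i, rfl⟩ := hmax m hm
    refine ⟨⟨i, (hcm i).symm⟩, ?_⟩
    intro j hj
    simp only at hj ⊢
    rw [hcm i] at hj ⊢
    have hle : (p i).asIdeal.map (algebraMap A L) ≤ (p j).asIdeal.map (algebraMap A L) :=
      Ideal.map_mono hj
    have := hm.eq_of_le (hmapprime j).ne_top hle
    rw [← hcm i, this, hcm j]
  · intro m _ m' _ h
    simp only at h
    rw [← hmu m, ← hmu m', h]
  · rintro q ⟨⟨i, rfl⟩, hqmax⟩
    simp only at hqmax
    refine ⟨(p i).asIdeal.map (algebraMap A L), ?_, hcm i⟩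
    obtain ⟨m', hm', hle⟩ := Ideal.exists_le_maximal _ (hmapprime i).ne_top
    obtain ⟨j, rfl⟩ := hmax m' hm'
    have hij : (p i).asIdeal ≤ (p j).asIdeal := by
      rw [← hcm i, ← hcm j]; exact Ideal.comap_mono hle
    have := hqmax j hij
    show ((p i).asIdeal.map (algebraMap A L)).IsMaximal
    rw [this]; exact hm'

end

/-- Let A be a ring, p_1, …, p_r primes of A and S = A ∖ ⋃ p_i. Then S is a multiplicative subset, S⁻¹A
is semi-local, and contraction to A is a bijection from the maximal ideals of S⁻¹A onto the maximal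
elements of {p_1, …, p_r}. -/
theorem result (A : Type u) [CommRing A]
    (r : ℕ) (p : Fin r → PrimeSpectrum A) :
    Finite (MaximalSpectrum (Localization (⨅ i, (p i).asIdeal.primeCompl))) ∧
      Set.BijOn (fun m : Ideal (Localization (⨅ i, (p i).asIdeal.primeCompl)) =>
          m.comap (algebraMap A (Localization (⨅ i, (p i).asIdeal.primeCompl))))
        {m | m.IsMaximal}
        {q | q ∈ Set.range (fun i => (p i).asIdeal) ∧
          ∀ j, q ≤ (p j).asIdeal → q = (p j).asIdeal} := by
  exact main p (Localization (⨅ i, (p i).asIdeal.primeCompl))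

end Groth.Agent.S7668
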