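-- Statement S7675 (Variety.inter_nonempty_and_dim_ge_projectiveSpace).
import Mathlib
import Groth.Statements.S7675
import Groth.Agent.Lib.Lead.ProjTop
import Groth.Agent.Lib.Lead.ProjTop2
import Groth.Agent.Lib.Helper12.DimFT2

set_option autoImplicit false
universe u
open CategoryTheory CategoryTheory.Limits AlgebraicGeometry
open Variety

namespace Groth.Agent.S7675

open TensorProduct MvPolynomial Groth.Agent.Lib.Helper12

section tensorDim

variable (k : Type u) [Field k]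

theorem isIntegral_map2 {A B D E : Type u} [CommRing A] [CommRing B] [CommRing D] [CommRing E]
    [Algebra k A] [Algebra k B] [Algebra k D] [Algebra k E] (g : A →ₐ[k] D) (g' : B →ₐ[k] E)
    (hg : g.IsIntegral) (hg' : g'.IsIntegral) :
    (Algebra.TensorProduct.map g g').IsIntegral := by
  intro x
  induction x using TensorProduct.induction_on with
  | zero => exact RingHom.isIntegralElem_zero _
  | add x y hx hy => exact RingHom.IsIntegralElem.add _ hx hy
  | tmul d e =>
    have h1 : (Algebra.TensorProduct.map g g').toRingHom.IsIntegralElem (d ⊗ₜ[k] (1 : E)) := by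
      have h0 := (hg d).map (Algebra.TensorProduct.includeLeft : D →ₐ[k] D ⊗[k] E).toRingHom
      have hcomp : (Algebra.TensorProduct.includeLeft : D →ₐ[k] D ⊗[k] E).toRingHom.comp
          g.toRingHom = (Algebra.TensorProduct.map g g').toRingHom.comp
            (Algebra.TensorProduct.includeLeft : A →ₐ[k] A ⊗[k] B).toRingHom := by
        ext r; simp
      rw [hcomp] at h0
      exact h0.of_comp
    have h2 : (Algebra.TensorProduct.map g g').toRingHom.IsIntegralElem ((1 : D) ⊗ₜ[k] e) := by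
      have h0 := (hg' e).map (Algebra.TensorProduct.includeRight : E →ₐ[k] D ⊗[k] E).toRingHom
      have hcomp : (Algebra.TensorProduct.includeRight : E →ₐ[k] D ⊗[k] E).toRingHom.comp
          g'.toRingHom = (Algebra.TensorProduct.map g g').toRingHom.comp
            (Algebra.TensorProduct.includeRight : B →ₐ[k] A ⊗[k] B).toRingHom := by
        ext r; simp
      rw [hcomp] at h0
      exact h0.of_comp
    have h3 := RingHom.IsIntegralElem.mul _ h1 h2
    simpa using h3

theorem map2_mem_nonZeroDivisors (r s : ℕ) {D E : Type u} [CommRing D] [IsDomain D]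
    [CommRing E] [IsDomain E] [Algebra k D] [Algebra k E]
    (g : MvPolynomial (Fin r) k →ₐ[k] D) (g' : MvPolynomial (Fin s) k →ₐ[k] E)
    (hg : Function.Injective g) (hg' : Function.Injective g')
    (c : MvPolynomial (Fin r) k ⊗[k] MvPolynomial (Fin s) k) (hc : c ≠ 0) :
    Algebra.TensorProduct.map g g' c ∈ nonZeroDivisors (D ⊗[k] E) := by
  let M := FractionRing E
  let ιE : E →ₐ[k] M := IsScalarTower.toAlgHom k E M
  have hιE : Function.Injective ιE := IsFractionRing.injective E M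
  let h' : MvPolynomial (Fin s) k →ₐ[k] M := ιE.comp g'
  have hh' : Function.Injective h' := hιE.comp hg'
  let j : D ⊗[k] E →ₐ[k] D ⊗[k] M := Algebra.TensorProduct.map (AlgHom.id k D) ιE
  have hj : Function.Injective j := by
    have h0 : (j : D ⊗[k] E → D ⊗[k] M) = LinearMap.lTensor D ιE.toLinearMap := by
      ext x
      induction x using TensorProduct.induction_on with
      | zero => simp
      | tmul d e => simp [j]
      | add x y hx hy => simp only [map_add, hx, hy]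
    rw [h0]
    exact Module.Flat.lTensor_preserves_injective_linearMap _ hιE
  let j₀ : MvPolynomial (Fin r) k ⊗[k] MvPolynomial (Fin s) k →ₐ[k]
      MvPolynomial (Fin r) k ⊗[k] M :=
    Algebra.TensorProduct.map (AlgHom.id k (MvPolynomial (Fin r) k)) h'
  have hj₀ : Function.Injective j₀ := by
    have h0 : (j₀ : MvPolynomial (Fin r) k ⊗[k] MvPolynomial (Fin s) k →
        MvPolynomial (Fin r) k ⊗[k] M) =
        LinearMap.lTensor (MvPolynomial (Fin r) k) h'.toLinearMap := by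
      ext x
      induction x using TensorProduct.induction_on with
      | zero => simp
      | tmul d e => simp [j₀]
      | add x y hx hy => simp only [map_add, hx, hy]
    rw [h0]
    exact Module.Flat.lTensor_preserves_injective_linearMap _ hh'
  have hc' : j₀ c ≠ 0 := fun h => hc (hj₀ (by rw [h, map_zero]))
  let e₁ : (MvPolynomial (Fin r) k) ⊗[k] M ≃+* MvPolynomial (Fin r) M :=
    ((Algebra.TensorProduct.comm k (MvPolynomial (Fin r) k) M).toRingEquiv).trans
      (MvPolynomial.algebraTensorAlgEquiv k M).toRingEquiv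
  haveI : IsDomain ((MvPolynomial (Fin r) k) ⊗[k] M) := e₁.toMulEquiv.isDomain _
  have hnzd := DimFT2.tensorMap_mem_nonZeroDivisors k g hg (j₀ c) hc'
  have hcompat : ∀ c' : MvPolynomial (Fin r) k ⊗[k] MvPolynomial (Fin s) k,
      j (Algebra.TensorProduct.map g g' c') =
        Algebra.TensorProduct.map g (AlgHom.id k M) (j₀ c') := by
    intro c'
    induction c' using TensorProduct.induction_on with
    | zero => simp
    | tmul p q => simp [j, j₀, h']
    | add x y hx hy => simp only [map_add, hx, hy]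
  rw [mem_nonZeroDivisors_iff_left]
  intro x hx
  apply hj
  rw [map_zero]
  have h1 : Algebra.TensorProduct.map g (AlgHom.id k M) (j₀ c) * j x = 0 := by
    rw [← hcompat, ← map_mul, hx, map_zero]
  exact (mem_nonZeroDivisors_iff_left.mp hnzd) (j x) h1

/-- the tensor product of two finite type domains over a field is equidimensional of dimension
the sum of the dimensions. -/
theorem equidim_tensor (D E : Type u) [CommRing D] [IsDomain D] [Algebra k D]
    [Algebra.FiniteType k D] [CommRing E] [IsDomain E] [Algebra k E] [Algebra.FiniteType k E]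
    (a b : ℕ) (ha : ringKrullDim D = a) (hb : ringKrullDim E = b) (P : Ideal (D ⊗[k] E))
    (hP : P ∈ minimalPrimes (D ⊗[k] E)) :
    ringKrullDim ((D ⊗[k] E) ⧸ P) = ((a + b : ℕ) : WithBot ℕ∞) := by
  obtain ⟨r, hr, -, g, hinj, hint⟩ := DimFT.exists_dim_eq_trdeg k D
  obtain ⟨s, hs, -, g', hinj', hint'⟩ := DimFT.exists_dim_eq_trdeg k E
  have hra : r = a := by
    rw [hr] at ha
    exact_mod_cast ha
  have hsb : s = b := by
    rw [hs] at hb
    exact_mod_cast hb
  subst hra hsb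
  let e₁ : (MvPolynomial (Fin r) k) ⊗[k] (MvPolynomial (Fin s) k) ≃+*
      MvPolynomial (Fin r) (MvPolynomial (Fin s) k) :=
    ((Algebra.TensorProduct.comm k (MvPolynomial (Fin r) k)
      (MvPolynomial (Fin s) k)).toRingEquiv).trans
      (MvPolynomial.algebraTensorAlgEquiv k (MvPolynomial (Fin s) k)).toRingEquiv
  haveI : IsDomain ((MvPolynomial (Fin r) k) ⊗[k] (MvPolynomial (Fin s) k)) :=
    e₁.toMulEquiv.isDomain _
  have hdim₁ : ringKrullDim ((MvPolynomial (Fin r) k) ⊗[k] (MvPolynomial (Fin s) k)) =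
      ((r + s : ℕ) : WithBot ℕ∞) := by
    rw [ringKrullDim_eq_of_ringEquiv e₁, MvPolynomial.ringKrullDim_of_isNoetherianRing,
      Groth.Agent.Lib.Helper12.ringKrullDim_mvPolynomial_field k s, Nat.card_eq_fintype_card,
      Fintype.card_fin, add_comm]
    norm_cast
  let φ := Algebra.TensorProduct.map g g'
  have hφint : φ.IsIntegral := isIntegral_map2 k g g' hint hint'
  haveI hPp : P.IsPrime := hP.1.1
  have hcomap : P.comap φ = ⊥ := by
    rw [eq_bot_iff]
    intro c hcmem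
    by_contra hc
    have hc0 : c ≠ 0 := fun h0 => hc (by rw [h0]; exact Submodule.zero_mem _)
    have hnzd := map2_mem_nonZeroDivisors k r s g g' hinj hinj' c hc0
    exact Set.disjoint_left.mp (Ideal.disjoint_nonZeroDivisors_of_mem_minimalPrimes hP)
      hcmem hnzd
  let ψ : (MvPolynomial (Fin r) k) ⊗[k] (MvPolynomial (Fin s) k) →+* (D ⊗[k] E) ⧸ P :=
    (Ideal.Quotient.mk P).comp φ.toRingHom
  have hψinj : Function.Injective ψ := by
    rw [injective_iff_map_eq_zero]
    intro c hc0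
    have : c ∈ P.comap φ := by
      rw [Ideal.mem_comap]
      exact Ideal.Quotient.eq_zero_iff_mem.mp hc0
    rw [hcomap] at this
    exact this
  have hψint : ψ.IsIntegral :=
    RingHom.IsIntegral.trans _ _ hφint
      (RingHom.isIntegral_of_surjective _ Ideal.Quotient.mk_surjective)
  letI : Algebra ((MvPolynomial (Fin r) k) ⊗[k] (MvPolynomial (Fin s) k)) ((D ⊗[k] E) ⧸ P) :=
    ψ.toAlgebra
  haveI : Algebra.IsIntegral ((MvPolynomial (Fin r) k) ⊗[k] (MvPolynomial (Fin s) k))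
      ((D ⊗[k] E) ⧸ P) := ⟨hψint⟩
  rw [← hdim₁]
  exact le_antisymm Groth.Agent.Lib.Helper12.ringKrullDim_le_of_isIntegral
    (Groth.Agent.Lib.Helper12.ringKrullDim_le_of_isIntegral_of_injective hψinj)

end tensorDim

section diag

variable (k : Type u) [Field k] (m : ℕ) {D E : Type u} [CommRing D] [CommRing E]
  [Algebra k D] [Algebra k E]

noncomputable def al (πp : MvPolynomial (Fin m) k →ₐ[k] D) (_πq : MvPolynomial (Fin m) k →ₐ[k] E) :
    MvPolynomial (Fin m) k →ₐ[k] D ⊗[k] E :=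
  (Algebra.TensorProduct.includeLeft : D →ₐ[k] D ⊗[k] E).comp πp

noncomputable def be (_πp : MvPolynomial (Fin m) k →ₐ[k] D) (πq : MvPolynomial (Fin m) k →ₐ[k] E) :
    MvPolynomial (Fin m) k →ₐ[k] D ⊗[k] E :=
  (Algebra.TensorProduct.includeRight : E →ₐ[k] D ⊗[k] E).comp πq

variable (πp : MvPolynomial (Fin m) k →ₐ[k] D) (πq : MvPolynomial (Fin m) k →ₐ[k] E)

lemma al_apply (f : MvPolynomial (Fin m) k) : al k m πp πq f = πp f ⊗ₜ[k] (1 : E) := rfl

lemma be_apply (f : MvPolynomial (Fin m) k) : be k m πp πq f = (1 : D) ⊗ₜ[k] πq f := rfl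

noncomputable def dl (i : Fin m) : D ⊗[k] E := al k m πp πq (X i) - be k m πp πq (X i)

/-- the ideal of the diagonal -/
noncomputable abbrev IΔ : Ideal (D ⊗[k] E) := Ideal.span (Set.range (dl k m πp πq))

theorem claim1 (f : MvPolynomial (Fin m) k) :
    al k m πp πq f - be k m πp πq f ∈ IΔ k m πp πq := by
  induction f using MvPolynomial.induction_on with
  | C c =>
    rw [← MvPolynomial.algebraMap_eq, AlgHom.commutes, AlgHom.commutes, sub_self]
    exact Submodule.zero_mem _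
  | add p q hp hq =>
    have : al k m πp πq (p + q) - be k m πp πq (p + q) =
        (al k m πp πq p - be k m πp πq p) + (al k m πp πq q - be k m πp πq q) := by
      rw [map_add, map_add]; ring
    rw [this]
    exact add_mem hp hq
  | mul_X p i hp =>
    have : al k m πp πq (p * X i) - be k m πp πq (p * X i) =
        al k m πp πq p * dl k m πp πq i +
          (al k m πp πq p - be k m πp πq p) * be k m πp πq (X i) := by
      rw [map_mul, map_mul, dl]; ring
    rw [this]
    exact add_mem (Ideal.mul_mem_left _ _ (Ideal.subset_span ⟨i, rfl⟩))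
      (Ideal.mul_mem_right _ _ hp)

theorem claim2 (hp : Function.Surjective πp) (hq : Function.Surjective πq) (t : D ⊗[k] E) :
    ∃ f : MvPolynomial (Fin m) k, t - al k m πp πq f ∈ IΔ k m πp πq := by
  induction t using TensorProduct.induction_on with
  | zero => exact ⟨0, by rw [map_zero, sub_zero]; exact Submodule.zero_mem _⟩
  | tmul d e =>
    obtain ⟨f1, rfl⟩ := hp d
    obtain ⟨f2, rfl⟩ := hq e
    refine ⟨f1 * f2, ?_⟩
    have h1 : (πp f1) ⊗ₜ[k] (πq f2) = al k m πp πq f1 * be k m πp πq f2 := by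
      rw [al_apply, be_apply, Algebra.TensorProduct.tmul_mul_tmul, mul_one, one_mul]
    have h2 : (πp f1) ⊗ₜ[k] (πq f2) - al k m πp πq (f1 * f2) =
        - (al k m πp πq f1 * (al k m πp πq f2 - be k m πp πq f2)) := by
      rw [h1, map_mul]; ring
    rw [h2]
    exact neg_mem (Ideal.mul_mem_left _ _ (claim1 k m πp πq f2))
  | add x y hx hy =>
    obtain ⟨f1, h1⟩ := hx
    obtain ⟨f2, h2⟩ := hy
    refine ⟨f1 + f2, ?_⟩
    have : x + y - al k m πp πq (f1 + f2) =
        (x - al k m πp πq f1) + (y - al k m πp πq f2) := by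
      rw [map_add]; ring
    rw [this]
    exact add_mem h1 h2

theorem dim_inter_gen {R : Type u} [CommRing R] [IsDomain R] [Algebra k R]
    [IsDomain D] [IsDomain E] [Algebra.FiniteType k D] [Algebra.FiniteType k E]
    (π : MvPolynomial (Fin m) k →ₐ[k] R)
    (hp : Function.Surjective πp) (hq : Function.Surjective πq) (hπ : Function.Surjective π)
    (fD : D →ₐ[k] R) (fE : E →ₐ[k] R) (hfD : ∀ f, fD (πp f) = π f) (hfE : ∀ f, fE (πq f) = π f)
    (hmin : ∀ 𝔫 : Ideal (MvPolynomial (Fin m) k), 𝔫.IsPrime → RingHom.ker πp ≤ 𝔫 →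
      RingHom.ker πq ≤ 𝔫 → 𝔫 ≤ RingHom.ker π → RingHom.ker π ≤ 𝔫)
    (a b : ℕ) (ha : ringKrullDim D = a) (hb : ringKrullDim E = b) :
    ((a + b : ℕ) : WithBot ℕ∞) ≤ ringKrullDim R + (m : WithBot ℕ∞) := by
  classical
  haveI : Algebra.FiniteType k (D ⊗[k] E) :=
    Algebra.FiniteType.trans (S := D) inferInstance inferInstance
  haveI : IsNoetherianRing (D ⊗[k] E) := Algebra.FiniteType.isNoetherianRing k (D ⊗[k] E)
  let ψ : D ⊗[k] E →+* R := (Algebra.TensorProduct.productMap fD fE).toRingHom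
  have hψα : ∀ f, ψ (al k m πp πq f) = π f := by
    intro f
    show Algebra.TensorProduct.productMap fD fE (al k m πp πq f) = _
    rw [al_apply, Algebra.TensorProduct.productMap_apply_tmul, map_one, mul_one, hfD]
  have hψβ : ∀ f, ψ (be k m πp πq f) = π f := by
    intro f
    show Algebra.TensorProduct.productMap fD fE (be k m πp πq f) = _
    rw [be_apply, Algebra.TensorProduct.productMap_apply_tmul, map_one, one_mul, hfE]
  have hψsurj : Function.Surjective ψ := by
    intro y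
    obtain ⟨f, rfl⟩ := hπ y
    exact ⟨al k m πp πq f, hψα f⟩
  haveI h𝔐p : (RingHom.ker ψ).IsPrime := RingHom.ker_isPrime ψ
  have hI𝔐 : IΔ k m πp πq ≤ RingHom.ker ψ := by
    rw [Ideal.span_le]
    rintro _ ⟨i, rfl⟩
    exact RingHom.mem_ker.mpr (by rw [dl, map_sub, hψα, hψβ, sub_self])
  have h𝔐min : RingHom.ker ψ ∈ (IΔ k m πp πq).minimalPrimes := by
    refine ⟨⟨h𝔐p, hI𝔐⟩, ?_⟩
    rintro 𝔑 ⟨h𝔑p, hI𝔑⟩ h𝔑𝔐
    haveI := h𝔑p
    have hn1 : RingHom.ker πp ≤ 𝔑.comap (al k m πp πq) := by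
      intro f hf
      have hf0 : πp f = 0 := RingHom.mem_ker.mp hf
      rw [Ideal.mem_comap, al_apply, hf0, TensorProduct.zero_tmul]
      exact Submodule.zero_mem _
    have hn2 : RingHom.ker πq ≤ 𝔑.comap (al k m πp πq) := by
      intro f hf
      have hf0 : πq f = 0 := RingHom.mem_ker.mp hf
      rw [Ideal.mem_comap]
      have h0 : be k m πp πq f = 0 := by rw [be_apply, hf0, TensorProduct.tmul_zero]
      have h1 := hI𝔑 (claim1 k m πp πq f)
      rw [h0, sub_zero] at h1
      exact h1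
    have hn3 : 𝔑.comap (al k m πp πq) ≤ RingHom.ker π := by
      intro f hf
      have h1 : ψ (al k m πp πq f) = 0 := RingHom.mem_ker.mp (h𝔑𝔐 (Ideal.mem_comap.mp hf))
      rw [hψα] at h1
      exact RingHom.mem_ker.mpr h1
    have hn4 : RingHom.ker π ≤ 𝔑.comap (al k m πp πq) :=
      hmin _ inferInstance hn1 hn2 hn3
    intro t ht
    obtain ⟨f, hf⟩ := claim2 k m πp πq hp hq t
    have h1 : ψ (t - al k m πp πq f) = 0 := RingHom.mem_ker.mp (hI𝔐 hf)
    have h2 : ψ t = 0 := RingHom.mem_ker.mp ht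
    rw [map_sub, h2, zero_sub, neg_eq_zero, hψα] at h1
    have h3 : al k m πp πq f ∈ 𝔑 := hn4 (RingHom.mem_ker.mpr h1)
    have h4 : t = (t - al k m πp πq f) + al k m πp πq f := by ring
    rw [h4]
    exact add_mem (hI𝔑 hf) h3
  have hht : (RingHom.ker ψ).height ≤ (m : ℕ∞) := by
    have h1 := Ideal.height_le_card_of_mem_minimalPrimes_span
      (Set.finite_range (dl k m πp πq)) h𝔐min
    have hcard : (Set.range (dl k m πp πq)).ncard ≤ m := by
      rw [← Set.image_univ]
      refine (Set.ncard_image_le Set.finite_univ).trans ?_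
      rw [Set.ncard_univ, Nat.card_eq_fintype_card, Fintype.card_fin]
    exact h1.trans (by exact_mod_cast hcard)
  let y : PrimeSpectrum (D ⊗[k] E) := ⟨RingHom.ker ψ, h𝔐p⟩
  have hsum := DimFT2.height_add_coheight_of_equidim k (D ⊗[k] E) (a + b)
    (fun P hP _ => equidim_tensor k D E a b ha hb P hP) y
  have hhy : Order.height y ≤ (m : ℕ∞) := by
    rw [← PrimeSpectrum.height_eq_orderHeight]
    exact hht
  have hdimQ : ringKrullDim R = ((Order.coheight y : ℕ∞) : WithBot ℕ∞) := by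
    rw [← DimFT.ringKrullDim_quotient_eq_coheight y]
    exact (ringKrullDim_eq_of_ringEquiv (RingHom.quotientKerEquivOfSurjective hψsurj)).symm
  rw [hdimQ]
  have h3 : ((a + b : ℕ) : ℕ∞) ≤ Order.coheight y + (m : ℕ∞) := by
    rw [← hsum, add_comm]
    gcongr
  exact_mod_cast h3

/-- **Affine dimension theorem** in `A^m`: every component of `V(𝔭) ∩ V(𝔮)` has dimension at least
`dim V(𝔭) + dim V(𝔮) - m`. -/
theorem dim_inter (𝔭 𝔮 Q : Ideal (MvPolynomial (Fin m) k)) [h𝔭 : 𝔭.IsPrime] [h𝔮 : 𝔮.IsPrime]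
    (a b : ℕ) (ha : ringKrullDim (MvPolynomial (Fin m) k ⧸ 𝔭) = a)
    (hb : ringKrullDim (MvPolynomial (Fin m) k ⧸ 𝔮) = b)
    (hQ : Q ∈ (𝔭 ⊔ 𝔮).minimalPrimes) :
    ((a + b : ℕ) : WithBot ℕ∞) ≤
      ringKrullDim (MvPolynomial (Fin m) k ⧸ Q) + (m : WithBot ℕ∞) := by
  haveI hQp : Q.IsPrime := hQ.1.1
  have h𝔭Q : 𝔭 ≤ Q := le_sup_left.trans hQ.1.2
  have h𝔮Q : 𝔮 ≤ Q := le_sup_right.trans hQ.1.2
  haveI : IsDomain (MvPolynomial (Fin m) k ⧸ 𝔭) := Ideal.Quotient.isDomain 𝔭
  haveI : IsDomain (MvPolynomial (Fin m) k ⧸ 𝔮) := Ideal.Quotient.isDomain 𝔮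
  haveI : IsDomain (MvPolynomial (Fin m) k ⧸ Q) := Ideal.Quotient.isDomain Q
  haveI : Algebra.FiniteType k (MvPolynomial (Fin m) k ⧸ 𝔭) :=
    Algebra.FiniteType.of_surjective (Ideal.Quotient.mkₐ k 𝔭) (Ideal.Quotient.mkₐ_surjective k 𝔭)
  haveI : Algebra.FiniteType k (MvPolynomial (Fin m) k ⧸ 𝔮) :=
    Algebra.FiniteType.of_surjective (Ideal.Quotient.mkₐ k 𝔮) (Ideal.Quotient.mkₐ_surjective k 𝔮)
  have hk : ∀ I : Ideal (MvPolynomial (Fin m) k), RingHom.ker (Ideal.Quotient.mkₐ k I) = I := by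
    intro I
    ext x
    rw [RingHom.mem_ker]
    exact Ideal.Quotient.eq_zero_iff_mem
  refine dim_inter_gen k m (Ideal.Quotient.mkₐ k 𝔭) (Ideal.Quotient.mkₐ k 𝔮)
    (Ideal.Quotient.mkₐ k Q) (Ideal.Quotient.mkₐ_surjective k 𝔭)
    (Ideal.Quotient.mkₐ_surjective k 𝔮) (Ideal.Quotient.mkₐ_surjective k Q)
    (Ideal.Quotient.factorₐ k h𝔭Q) (Ideal.Quotient.factorₐ k h𝔮Q) (fun f => rfl) (fun f => rfl)
    ?_ a b ha hb
  intro 𝔫 h𝔫 h1 h2 h3
  rw [hk] at h1 h2 h3 ⊢
  exact hQ.2 ⟨h𝔫, sup_le h1 h2⟩ h3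

end diag

section top

open Groth.Agent.Lib.Lead.ProjTop

variable (k : Type u) [Field k] (n : ℕ)

theorem exists_pt_coheight (X : Set (PS k n)) (hX : IsClosed X) (hne : X.Nonempty) (r : ℕ)
    (hXr : topologicalKrullDim ↥X = r) : ∃ x ∈ X, (r : ℕ∞) ≤ Order.coheight x := by
  rw [topDim_closed k n X hX] at hXr
  haveI : Nonempty ↥X := hne.to_subtype
  rw [Order.krullDim_eq_iSup_coheight_of_nonempty] at hXr
  have h1 : (⨆ a : ↥X, Order.coheight a) = (r : ℕ∞) := by exact_mod_cast hXr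
  have hlt : (⨆ a : ↥X, Order.coheight a) < ⊤ := by rw [h1]; exact ENat.coe_lt_top r
  obtain ⟨a, ha⟩ := ENat.exists_eq_iSup_of_lt_top hlt
  refine ⟨a.1, a.2, ?_⟩
  rw [← h1, ← ha]
  exact Order.coheight_le_coheight_apply_of_strictMono (Subtype.val : ↥X → PS k n)
    (fun _ _ h => h) a

theorem main (r s : ℕ) (X Y : Set (PS k n)) (hX : IsClosed X) (hY : IsClosed Y)
    (hXne : X.Nonempty) (hYne : Y.Nonempty)
    (hXr : topologicalKrullDim ↥X = r) (hYs : topologicalKrullDim ↥Y = s) (hrs : n ≤ r + s) :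
    (X ∩ Y).Nonempty ∧
      ((r + s : ℕ) : WithBot ℕ∞) ≤ topologicalKrullDim ↥(X ∩ Y) + (n : WithBot ℕ∞) := by
  classical
  obtain ⟨x0, hx0X, hx0⟩ := exists_pt_coheight k n X hX hXne r hXr
  obtain ⟨y0, hy0Y, hy0⟩ := exists_pt_coheight k n Y hY hYne s hYs
  obtain ⟨a, hca, hda⟩ := coheight_spec k n x0
  obtain ⟨b, hcb, hdb⟩ := coheight_spec k n y0
  rw [hca] at hx0
  rw [hcb] at hy0
  have hra : r ≤ a := by exact_mod_cast hx0
  have hsb : s ≤ b := by exact_mod_cast hy0
  haveI h𝔭 : x0.asHomogeneousIdeal.toIdeal.IsPrime := x0.isPrime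
  haveI h𝔮 : y0.asHomogeneousIdeal.toIdeal.IsPrime := y0.isPrime
  have hJle : x0.asHomogeneousIdeal.toIdeal ⊔ y0.asHomogeneousIdeal.toIdeal ≤
      (mIrr k n).asIdeal := sup_le (pr_lt k n x0).le (pr_lt k n y0).le
  haveI : (mIrr k n).asIdeal.IsPrime := (mIrr k n).isPrime
  obtain ⟨Q, hQmin, -⟩ := Ideal.exists_minimalPrimes_le hJle
  haveI hQp : Q.IsPrime := hQmin.1.1
  have hA := dim_inter k (n + 1) x0.asHomogeneousIdeal.toIdeal y0.asHomogeneousIdeal.toIdeal Q
    (a + 1) (b + 1) hda hdb hQmin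
  haveI : IsDomain (SR k n ⧸ Q) := Ideal.Quotient.isDomain Q
  haveI : Algebra.FiniteType k (SR k n ⧸ Q) :=
    Algebra.FiniteType.of_surjective (Ideal.Quotient.mkₐ k Q) (Ideal.Quotient.mkₐ_surjective k Q)
  obtain ⟨c', hc', -⟩ := DimFT.exists_dim_eq_trdeg k (SR k n ⧸ Q)
  rw [hc'] at hA
  have hA' : (a + 1) + (b + 1) ≤ c' + (n + 1) := by exact_mod_cast hA
  have hQh : Q.IsHomogeneous (CohB1.polyGrading n k) :=
    isHomogeneous_of_mem_minimalPrimes k n _ Q
      (x0.asHomogeneousIdeal.isHomogeneous.sup y0.asHomogeneousIdeal.isHomogeneous) hQmin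
  have hQne : ringKrullDim (SR k n ⧸ Q) ≠ 0 := by
    rw [hc']
    have : c' ≠ 0 := by omega
    exact_mod_cast this
  obtain ⟨z, hz⟩ := exists_pt_of_prime k n Q hQp hQh (not_irr_le_of_dim k n Q hQne)
  have hxz : x0 ≤ z := by
    intro f hf
    show f ∈ z.asHomogeneousIdeal.toIdeal
    rw [hz]
    exact hQmin.1.2 (le_sup_left (b := y0.asHomogeneousIdeal.toIdeal) hf)
  have hyz : y0 ≤ z := by
    intro f hf
    show f ∈ z.asHomogeneousIdeal.toIdeal
    rw [hz]
    exact hQmin.1.2 (le_sup_right (a := x0.asHomogeneousIdeal.toIdeal) hf)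
  have hzX : z ∈ X := mem_of_le_of_isClosed k n hX hx0X hxz
  have hzY : z ∈ Y := mem_of_le_of_isClosed k n hY hy0Y hyz
  obtain ⟨c, hcz, hdz⟩ := coheight_spec k n z
  rw [hz, hc'] at hdz
  have hcc : c' = c + 1 := by exact_mod_cast hdz
  have hW : IsClosed (X ∩ Y) := hX.inter hY
  have hdimW : ((c : ℕ) : WithBot ℕ∞) ≤ topologicalKrullDim ↥(X ∩ Y) := by
    rw [topDim_closed k n _ hW]
    have hIci : Set.Ici z ⊆ X ∩ Y := fun w hw =>
      ⟨mem_of_le_of_isClosed k n hX hzX hw, mem_of_le_of_isClosed k n hY hzY hw⟩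
    have h1 : Order.krullDim ↥(Set.Ici z) ≤ Order.krullDim ↥(X ∩ Y) :=
      Order.krullDim_le_of_strictMono (fun w => (⟨w.1, hIci w.2⟩ : ↥(X ∩ Y)))
        (fun _ _ h => h)
    rw [← Order.coheight_eq_krullDim_Ici, hcz] at h1
    exact_mod_cast h1
  refine ⟨⟨z, hzX, hzY⟩, ?_⟩
  have hnat : r + s ≤ c + n := by omega
  calc ((r + s : ℕ) : WithBot ℕ∞) ≤ ((c + n : ℕ) : WithBot ℕ∞) := by exact_mod_cast hnat
    _ = ((c : ℕ) : WithBot ℕ∞) + (n : WithBot ℕ∞) := by push_cast; rfl
    _ ≤ topologicalKrullDim ↥(X ∩ Y) + (n : WithBot ℕ∞) := by gcongr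

end top

/-- Let k be a field, n ≥ 0 and X, Y ⊆ P^n_k nonempty closed subsets of dimensions r and s with r + s ≥
n. Then X ∩ Y is nonempty and dim(X ∩ Y) ≥ r + s − n. -/
theorem result (k : Type u) [Field k] (n r s : ℕ)
    (X Y : Set ↥(CohB1.ProjSpace n k)) (hX : IsClosed X) (hY : IsClosed Y)
    (hXne : X.Nonempty) (hYne : Y.Nonempty)
    (hXr : topologicalKrullDim X = r) (hYs : topologicalKrullDim Y = s) (hrs : n ≤ r + s) :
    (X ∩ Y).Nonempty ∧ ((r + s : ℕ) : WithBot ℕ∞) ≤ topologicalKrullDim ↥(X ∩ Y) + (n : WithBot ℕ∞) := by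
  exact main k n r s X Y hX hY hXne hYne hXr hYs hrs

end Groth.Agent.S7675
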