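import Groth.Statements.S7678
import Groth.Agent.Lib.Helper11.MacLane

set_option autoImplicit false
universe u
open CategoryTheory CategoryTheory.Limits AlgebraicGeometry
open Variety

namespace Groth.Agent.S7678

open Groth.Agent.Lib.Helper11.MacLane TensorProduct in
theorem affine_piece (k : Type u) [Field k] (p : ℕ) [Fact p.Prime] [CharP k p]
    (A : CommRingCat.{u}) (φ : CommRingCat.of k ⟶ A)
    (h : IsReduced (pullback (Spec.map φ) (Spec.map (CommRingCat.ofHom (frobenius k p)))))
    (K : Type u) [Field K] [Algebra k K] :
    IsReduced (pullback (Spec.map φ) (Spec.map (CommRingCat.ofHom (algebraMap k K)))) := by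
  letI : Algebra k A := φ.hom.toAlgebra
  have hφ : φ = CommRingCat.ofHom (algebraMap k A) := rfl
  rw [hφ] at h ⊢
  have h' : IsReduced (pullback (Spec.map (CommRingCat.ofHom (algebraMap k A)))
      (Spec.map (CommRingCat.ofHom (algebraMap k (FrobK k p))))) := h
  haveI : IsReduced (Spec (.of (A ⊗[k] FrobK k p))) :=
    isReduced_of_isOpenImmersion (pullbackSpecIso k A (FrobK k p)).inv
  have h1 : _root_.IsReduced (A ⊗[k] FrobK k p) :=
    (affine_isReduced_iff (.of (A ⊗[k] FrobK k p))).mp inferInstance
  haveI : _root_.IsReduced (FrobK k p ⊗[k] A) :=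
    isReduced_of_injective (Algebra.TensorProduct.comm k (FrobK k p) A)
      (Algebra.TensorProduct.comm k (FrobK k p) A).injective
  haveI : _root_.IsReduced (K ⊗[k] A) := isReduced_tensor_of_frob k p A K
  have h2 : _root_.IsReduced (A ⊗[k] K) :=
    isReduced_of_injective (Algebra.TensorProduct.comm k A K)
      (Algebra.TensorProduct.comm k A K).injective
  haveI : IsReduced (Spec (.of (A ⊗[k] K))) :=
    (affine_isReduced_iff (.of (A ⊗[k] K))).mpr h2
  exact isReduced_of_isOpenImmersion (pullbackSpecIso k A K).hom

theorem geomReduced_of_frob (k : Type u) [Field k] (p : ℕ) [Fact p.Prime] [CharP k p]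
    (X : Scheme.{u}) (f : X ⟶ Spec (CommRingCat.of k))
    (h : IsReduced (pullback f (Spec.map (CommRingCat.ofHom (frobenius k p))))) :
    GeometricallyReduced f := by
  rw [geometricallyReduced_iff, geometrically_iff_of_commRing_of_isClosedUnderIsomorphisms]
  intro K _ _
  apply +allowSynthFailures @IsReduced.of_openCover
    (𝒰 := Scheme.Pullback.openCoverOfLeft X.affineOpenCover.openCover f _)
  intro i
  have key : ∀ i : X.affineOpenCover.openCover.I₀,
      IsReduced (pullback (X.affineOpenCover.openCover.f i ≫ f)
        (Spec.map (CommRingCat.ofHom (algebraMap k K)))) := by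
    intro i
    haveI := h
    have hi : IsReduced (pullback (X.affineOpenCover.openCover.f i ≫ f)
        (Spec.map (CommRingCat.ofHom (frobenius k p)))) := by
      let 𝒱 := Scheme.Pullback.openCoverOfLeft X.affineOpenCover.openCover f
          (Spec.map (CommRingCat.ofHom (frobenius k p)))
      show IsReduced (𝒱.X i)
      exact isReduced_of_isOpenImmersion (𝒱.f i)
    obtain ⟨φ, hφ⟩ : ∃ φ : CommRingCat.of k ⟶ X.affineOpenCover.X i,
        Spec.map φ = X.affineOpenCover.openCover.f i ≫ f := ⟨_, Spec.map_preimage _⟩
    rw [← hφ] at hi ⊢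
    exact affine_piece k p _ φ hi K
  exact key i

/-- For a field k of positive characteristic p and a k-scheme X, the base change of X along the p-th
power map of k is a reduced scheme exactly when X is geometrically reduced over k. -/
theorem result (k : Type u) [Field k] (X : Scheme.{u}) [X.Over (Spec (CommRingCat.of k))]
    (p : ℕ) [Fact p.Prime] [CharP k p] :
    GeometricallyReduced (X ↘ (Spec (CommRingCat.of k))) ↔
      IsReduced ↑(pullback (X ↘ (Spec (CommRingCat.of k))) (Spec.map (CommRingCat.ofHom (frobenius k p)))) := by

  constructor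
  · intro hg
    exact pullback_of_geometrically hg.geometrically_isReduced k
      (Spec.map (CommRingCat.ofHom (frobenius k p)))
  · intro h
    exact geomReduced_of_frob k p X _ h

end Groth.Agent.S7678
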