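import Groth.Statements.S7687
import Groth.Agent.Lib.Helper12.SemiLocalGlue

set_option autoImplicit false
universe u
open CategoryTheory CategoryTheory.Limits AlgebraicGeometry
open Variety

namespace Groth.Agent.S7687

open Groth.Agent.Lib.Helper12.Glue in
theorem nice_of {K : Type u} [Field K] (A : Subring K) [IsFractionRing A K] [IsNoetherianRing A]
    (hdimA : ringKrullDim A = 1) (hslA : Finite (MaximalSpectrum A)) : Nice A where
  frac := inferInstance
  dim := Ring.krullDimLE_iff.2 (by simpa using hdimA.le)
  fin := hslA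
  nf := fun h => by
    have h0 := ringKrullDim_eq_zero_of_isField h
    rw [hdimA] at h0
    exact one_ne_zero h0
  noeth := inferInstance

/-- Let K be a field and A, B ⊆ K Noetherian semi-local domains of dimension one with fraction field K
such that A ⊗ B → K is surjective, and R = A ∩ B. Then Spec A and Spec B each map to Spec R by an
open immersion, Spec R is the union of the two images, and the natural map A ⊗_R B → K is an
isomorphism. -/
theorem result (K : Type u) [Field K]
    (A : Subring K) [IsFractionRing A K] (B : Subring K) [IsFractionRing B K] [IsNoetherianRing A] [IsNoetherianRing B]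
    (hdimA : ringKrullDim A = 1) (hdimB : ringKrullDim B = 1)
    (hslA : Finite (MaximalSpectrum A)) (hslB : Finite (MaximalSpectrum B)) (hgen : A ⊔ B = ⊤) :
    IsOpenImmersion (Spec.map (CommRingCat.ofHom (Subring.inclusion (inf_le_left : A ⊓ B ≤ A)))) ∧
      IsOpenImmersion (Spec.map (CommRingCat.ofHom (Subring.inclusion (inf_le_right : A ⊓ B ≤ B)))) ∧
      Set.range (Spec.map (CommRingCat.ofHom (Subring.inclusion (inf_le_left : A ⊓ B ≤ A)))).base ∪
        Set.range (Spec.map (CommRingCat.ofHom (Subring.inclusion (inf_le_right : A ⊓ B ≤ B)))).base = Set.univ ∧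
      IsPushout (CommRingCat.ofHom (Subring.inclusion (inf_le_left : A ⊓ B ≤ A)))
        (CommRingCat.ofHom (Subring.inclusion (inf_le_right : A ⊓ B ≤ B)))
        (CommRingCat.ofHom A.subtype) (CommRingCat.ofHom B.subtype) := by
  have hA := nice_of A hdimA hslA
  have hB := nice_of B hdimB hslB
  obtain ⟨s, t, hP⟩ := Groth.Agent.Lib.Helper12.Glue.pair_general hA hB hgen
  exact Groth.Agent.S7664.geom K A B s t hP.hs.1 hP.s_mem_right hP.t_mem_left hP.ht.1 hP.hst
    ⟨t⁻¹, hP.t_inv_mem hA.ne_top, mul_inv_cancel₀ (hP.t_ne_zero hA.ne_top)⟩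
    ⟨s⁻¹, hP.s_inv_mem hB.ne_top, mul_inv_cancel₀ (hP.s_ne_zero hB.ne_top)⟩ hP.ht.2 hP.hs.2

end Groth.Agent.S7687
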