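import Groth.Statements.S7688
import Groth.Agent.Lib.Helper16.PicDesc.Charts

set_option autoImplicit false
universe u
open CategoryTheory CategoryTheory.Limits AlgebraicGeometry
open Variety

namespace Groth.Agent.S7688

/-- Let f : X → Y be finite with Y Noetherian of dimension at most one, and suppose that over some dense
open V ⊆ Y the restriction f⁻¹(V) → V is a closed immersion. Then each invertible O_X-module arises,
up to isomorphism, by pulling back an invertible O_Y-module along f. -/
theorem result {X Y : Scheme.{u}} (f : X ⟶ Y)
    [IsFinite f] [IsNoetherian Y] (hdim : topologicalKrullDim Y ≤ 1)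
    (V : Y.Opens) (hV : Dense (V : Set Y)) (hfV : IsClosedImmersion (f ∣_ V))
    (L : X.Modules) (hL : PicF.IsInvertible L) :
    ∃ N : Y.Modules, PicF.IsInvertible N ∧ Nonempty ((Scheme.Modules.pullback f).obj N ≅ L) := by
  haveI := hfV
  have hdim' : ∀ y : Y, ringKrullDim (Y.presheaf.stalk y) ≤ 1 := fun y =>
    (Groth.Agent.Lib.Helper26.AmpleCurve.ringKrullDim_stalk_le_topologicalKrullDim y).trans hdim
  exact H16PicDesc.main_descent f hdim' f.isClosedMap V hV
    (fun x x' hx hxx' => H16PicDesc.injOn_of_isClosedImmersion f V x x' hx hxx')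
    (fun W hWV hW => H16PicDesc.app_surjective_of_isClosedImmersion f V W hWV hW) hL
    (fun y hy => H16PicDesc.exists_nhd_isGen_of_finite f hL y hy)

end Groth.Agent.S7688
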