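import Groth.Statements.S7690
-- import your own Groth.Agent.* helpers here
import Groth.Agent.Lib.Helper23.FBC5
import Groth.Agent.Lib.Helper3.QProj
import Groth.Agent.Lib.Helper17.TensorSec
import Groth.Agent.Lib.Helper7.PnFinite

set_option autoImplicit false
universe u
open CategoryTheory CategoryTheory.Limits AlgebraicGeometry
open Variety

namespace Groth.Agent.S7690

/-- Let k'/k be a field extension (k' in the universe of k), n ≥ 0, F a coherent module on P^n_k with
pullback F' to P^n_{k'}. For every integer m, F is m-regular exactly when F' is. Here P^n_{k'} is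
taken as the base change P^n_k ×_k Spec k' and the m-regularity of F' is spelled out as the
vanishing of H^i(P^n_{k'}, (F(m − i))') for 1 ≤ i ≤ n, (F(m − i))' being the pullback of F ⊗ O(m −
i). -/
theorem result (k : Type u) [Field k] (n : ℕ)
    (k' : Type u) [Field k'] [Algebra k k'] (F : (CohB1.ProjSpace n k).Modules) (hF : Coh.IsCoh F) (m : ℤ) :
    Curv2.IsMRegular k n F m ↔
      ∀ i : ℕ, 1 ≤ i → i ≤ n →
        Subsingleton (Coh.HH (Curv2.bc k (CohB1.ProjSpace n k) k')
          ((Scheme.Modules.pullback (Curv2.bcFst k (CohB1.ProjSpace n k) k')).obj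
            (CohB1.tensorMod F (Twist.twistProjSpace n k (m - i)))) i) := by
  haveI : F.IsQuasicoherent := hF.1
  letI : (Curv2.bc k (CohB1.ProjSpace n k) k').Over (Spec (CommRingCat.of k')) :=
    ⟨Curv2.bcSnd k (CohB1.ProjSpace n k) k'⟩
  have hpb : IsPullback (Curv2.bcFst k (CohB1.ProjSpace n k) k')
      ((Curv2.bc k (CohB1.ProjSpace n k) k') ↘ Spec (CommRingCat.of k'))
      ((CohB1.ProjSpace n k) ↘ Spec (CommRingCat.of k))
      (Spec.map (CommRingCat.ofHom (algebraMap k k'))) :=
    IsPullback.of_hasPullback _ _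
  haveI : IsProper ((CohB1.ProjSpace n k) ↘ Spec (CommRingCat.of k)) :=
    Groth.Agent.Lib.Helper3.QProj.isProper_toSpec k n
  have key : ∀ i : ℕ,
      Subsingleton (Coh.HH (Curv2.bc k (CohB1.ProjSpace n k) k')
          ((Scheme.Modules.pullback (Curv2.bcFst k (CohB1.ProjSpace n k) k')).obj
            (CohB1.tensorMod F (Twist.twistProjSpace n k (m - i)))) i) ↔
      Subsingleton (Coh.HH (CohB1.ProjSpace n k)
        (CohB1.tensorMod F (Twist.twistProjSpace n k (m - i))) i) := by
    intro i
    haveI : (Twist.twistProjSpace n k (m - i)).IsQuasicoherent :=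
      (Groth.Agent.Lib.Helper7.PnFinite.isCoh_twist n k (m - i)).1
    haveI : (CohB1.tensorMod F (Twist.twistProjSpace n k (m - i))).IsQuasicoherent :=
      Groth.Agent.Lib.Helper17.TensorSec.isQuasicoherent_tensorMod F _
    exact Groth.Agent.Lib.Helper23.FBC.subsingleton_iff_of_isProper k k' hpb i _
  unfold Curv2.IsMRegular
  constructor
  · intro h i h1 h2
    exact (key i).2 (h i h1 h2)
  · intro h i h1 h2
    exact (key i).1 (h i h1 h2)

end Groth.Agent.S7690
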