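import Groth.Statements.S8267
import Groth.Agent.Lib.Helper3.SymGenFT

set_option autoImplicit false
universe u
open CategoryTheory CategoryTheory.Limits AlgebraicGeometry Opposite TopologicalSpace
open EGA2

namespace Groth.Agent.S8267

/-- Let E be a quasi-coherent O_S-module of finite type and A (through j : E → A) its symmetric algebra.
Then the vector bundle V(E) = Spec(A) is of finite type over S, i.e. its (affine) structure morphism
is locally of finite type. -/
theorem result {S : Scheme.{u}} (E : S.Modules) (hE : Coh.IsCoh E)
    (A : RelSpec.QCAlg S) (j : E ⟶ A.toModule) (hA : RelSpec.IsSymAlg E A j) :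
    LocallyOfFiniteType A.π := by
  haveI : E.IsQuasicoherent := hE.1
  haveI : E.IsFiniteType := hE.2
  exact Groth.Agent.Lib.Helper3.SymGenFT.locallyOfFiniteType_π A j hA

end Groth.Agent.S8267
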