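import Groth.Statements.S8272
import Mathlib

set_option autoImplicit false
universe u
open CategoryTheory CategoryTheory.Limits AlgebraicGeometry Opposite TopologicalSpace
open EGA2

namespace Groth.Agent.S8272

open HomogeneousLocalization in
lemma awayMap_injective {A : Type u} [CommRing A] {σ : Type*} [SetLike σ A]
    [AddSubgroupClass σ A] (𝒜 : ℕ → σ) [GradedRing 𝒜] {e d : ℕ} {f g : A} (hf : f ∈ 𝒜 d)
    (hg : g ∈ 𝒜 e) (hnz : g ∈ nonZeroDivisors A) {x : A} (hx : x = f * g) :
    Function.Injective (awayMap 𝒜 hg hx) := by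
  rw [injective_iff_map_eq_zero]
  intro a ha
  obtain ⟨n, s, hs, rfl⟩ := Away.mk_surjective 𝒜 hf a
  rw [awayMap_mk] at ha
  have h1 := congrArg HomogeneousLocalization.val ha
  rw [Away.val_mk, HomogeneousLocalization.val_zero, Localization.mk_eq_mk',
    IsLocalization.mk'_eq_zero_iff] at h1
  obtain ⟨⟨_, k, rfl⟩, hk⟩ := h1
  subst hx
  have h2 : g ^ (k + n) * (f ^ k * s) = 0 := by
    rw [← hk]; ring
  have h3 : f ^ k * s = 0 :=
    (mul_left_mem_nonZeroDivisors_eq_zero_iff (pow_mem hnz _)).mp h2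
  ext
  rw [Away.val_mk, HomogeneousLocalization.val_zero, Localization.mk_eq_mk',
    IsLocalization.mk'_eq_zero_iff]
  exact ⟨⟨f ^ k, k, rfl⟩, h3⟩

/-- Let T be a positively graded ring, Z = Proj T and g ∈ T_d (d > 0) a homogeneous element that is not
a zero divisor in T. Then Z is the smallest closed subscheme of Z containing the open D_+(g);
equivalently the kernel (ideal sheaf) of the open immersion D_+(g) → Z vanishes. -/
theorem result {R A : Type u} [CommRing R] [CommRing A] [Algebra R A]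
    (𝒜 : ℕ → Submodule R A) [GradedAlgebra 𝒜] {d : ℕ} (hd : 0 < d) (g : A) (hg : g ∈ 𝒜 d)
    (hnz : g ∈ nonZeroDivisors A) :
    (Proj.basicOpen 𝒜 g).ι.ker = ⊥ := by
  classical
  let ι := {f : A // ∃ m : ℕ, 0 < m ∧ f ∈ 𝒜 m}
  have hcover : ⨆ i : ι, Proj.basicOpen 𝒜 i.1 = ⊤ := by
    apply Proj.iSup_basicOpen_eq_top
    intro x hx
    rw [← DirectSum.sum_support_decompose 𝒜 x]
    refine Ideal.sum_mem _ fun i _ => ?_
    by_cases hi : i = 0
    · subst hi
      have h0 : (DirectSum.decompose 𝒜 x 0 : A) = 0 :=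
        (HomogeneousIdeal.mem_irrelevant_iff _ _).mp hx
      rw [h0]; exact zero_mem _
    · exact Ideal.subset_span ⟨⟨_, i, Nat.pos_of_ne_zero hi, SetLike.coe_mem _⟩, rfl⟩
  refine Scheme.IdealSheafData.ext_of_iSup_eq_top (fun i : ι => ⟨Proj.basicOpen 𝒜 i.1,
    Proj.isAffineOpen_basicOpen 𝒜 i.1 i.2.choose_spec.2 i.2.choose_spec.1⟩) hcover ?_
  rintro ⟨f, m, hm, hf⟩
  apply le_antisymm _ bot_le
  refine (Scheme.Hom.ideal_ker_le _ _).trans ?_
  rw [le_bot_iff, ← RingHom.injective_iff_ker_eq_bot]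
  -- the restriction map
  have hres : Function.Injective ((Proj 𝒜).presheaf.map (homOfLE (Proj.basicOpen_mono 𝒜 f (f * g)
      ⟨g, rfl⟩)).op).hom := by
    have h1 := Proj.awayMap_awayToSection 𝒜 (f := f) hg (x := f * g) rfl
    have hbij1 : Function.Bijective (Proj.awayToSection 𝒜 f).hom :=
      ConcreteCategory.bijective_of_isIso (Proj.basicOpenIsoAway 𝒜 f hf hm).hom
    have hbij2 : Function.Bijective (Proj.awayToSection 𝒜 (f * g)).hom :=
      ConcreteCategory.bijective_of_isIso (Proj.basicOpenIsoAway 𝒜 (f * g)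
        (SetLike.mul_mem_graded hf hg) (Nat.add_pos_left hm d)).hom
    have hinj : Function.Injective (CommRingCat.ofHom (HomogeneousLocalization.awayMap 𝒜 hg
        (rfl : f * g = f * g)) ≫ Proj.awayToSection 𝒜 (f * g)).hom :=
      hbij2.1.comp (awayMap_injective 𝒜 hf hg hnz rfl)
    rw [h1] at hinj
    exact (Function.Injective.of_comp_iff' _ hbij1).mp hinj
  have key : ∀ (W : (Proj 𝒜).Opens) (hW : W ≤ Proj.basicOpen 𝒜 f), W = Proj.basicOpen 𝒜 (f * g) →
      Function.Injective ((Proj 𝒜).presheaf.map (homOfLE hW).op).hom := by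
    rintro W hW rfl
    exact hres
  rw [Scheme.Opens.ι_app]
  apply key
  rw [Scheme.Hom.image_preimage_eq_opensRange_inf, Scheme.Opens.opensRange_ι, Proj.basicOpen_mul,
    inf_comm]

end Groth.Agent.S8272
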