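import Groth.Statements.S8273
import Groth.Agent.Lib.Helper3.RelProjGlue

set_option autoImplicit false
universe u
open CategoryTheory CategoryTheory.Limits AlgebraicGeometry Opposite TopologicalSpace
open scoped HomogeneousIdeal
open EGA2

namespace Groth.Agent.S8273

/-- Uniqueness of the relative homogeneous spectrum: two schemes over Y equipped with the chart data of
Proj(𝒮) are related by a unique morphism compatible with the charts (chartwise the identity of Proj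
𝒮(U)), and that morphism is a Y-isomorphism. -/
theorem result {Y P P' : Scheme.{u}} (𝒮 : RelProj.QCGrAlg Y) (p : P ⟶ Y)
    (chart : ∀ (U : Y.Opens) (hU : IsAffineOpen U), (((p ⁻¹ᵁ U : P.Opens) : Scheme.{u}) ≅ Proj (𝒮.deg U hU)))
    (hP : RelProj.IsRelProj 𝒮 p chart) (p' : P' ⟶ Y)
    (chart' : ∀ (U : Y.Opens) (hU : IsAffineOpen U), (((p' ⁻¹ᵁ U : P'.Opens) : Scheme.{u}) ≅ Proj (𝒮.deg U hU)))
    (hP' : RelProj.IsRelProj 𝒮 p' chart') :
    (∃! e : P ⟶ P', ∀ (U : Y.Opens) (hU : IsAffineOpen U),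
        (p ⁻¹ᵁ U).ι ≫ e = (chart U hU).hom ≫ (chart' U hU).inv ≫ (p' ⁻¹ᵁ U).ι) ∧
      ∀ e : P ⟶ P', (∀ (U : Y.Opens) (hU : IsAffineOpen U),
        (p ⁻¹ᵁ U).ι ≫ e = (chart U hU).hom ≫ (chart' U hU).inv ≫ (p' ⁻¹ᵁ U).ι) → IsIso e ∧ e ≫ p' = p := by
  have key : ∀ e : P ⟶ P', (∀ (U : Y.Opens) (hU : IsAffineOpen U),
      (p ⁻¹ᵁ U).ι ≫ e = (chart U hU).hom ≫ (chart' U hU).inv ≫ (p' ⁻¹ᵁ U).ι) ↔
      (∀ (U : Y.Opens) (hU : IsAffineOpen U), (p ⁻¹ᵁ U).ι ≫ e =
        Groth.Agent.Lib.Helper3.RelProjGlue.piece chart' chart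
          (fun U hU => 𝟙 (Proj (𝒮.deg U hU))) U hU) := by
    intro e
    refine forall_congr' (fun U => forall_congr' (fun hU => ?_))
    rw [Groth.Agent.Lib.Helper3.RelProjGlue.piece_id]
  refine ⟨?_, fun e he => ?_⟩
  · obtain ⟨e, he⟩ := Groth.Agent.Lib.Helper3.RelProjGlue.exists_chartMap
      (fun U hU => 𝟙 (Proj (𝒮.deg U hU))) hP' hP
      Groth.Agent.Lib.Helper3.RelProjGlue.compat_id
    refine ⟨e, (key e).mpr he, fun e' he' => ?_⟩
    exact Groth.Agent.Lib.Helper3.RelProjGlue.chartMap_unique _ e' e ((key e').mp he') he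
  · have he' := (key e).mp he
    have hcomp : e ≫ p' = p :=
      Groth.Agent.Lib.Helper3.RelProjGlue.comp_eq_of_piece _ hP' hP
        (fun U hU => Category.id_comp _) e he'
    refine ⟨?_, hcomp⟩
    rw [← MorphismProperty.isomorphisms.iff]
    refine Groth.Agent.Lib.Helper3.RelProjGlue.of_forall_piece
      (P := MorphismProperty.isomorphisms Scheme.{u}) _ e hcomp he' (fun U hU => ?_)
    rw [MorphismProperty.isomorphisms.iff]
    infer_instance

end Groth.Agent.S8273
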