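import Groth.Statements.S8291
import Groth.Agent.Lib.Helper3.ProjBC
import Groth.Agent.Lib.Helper3.RLPsi

set_option autoImplicit false
universe u
open CategoryTheory CategoryTheory.Limits AlgebraicGeometry Opposite TopologicalSpace
open scoped HomogeneousIdeal
noncomputable section
open EGA2

namespace Groth.Agent.S8291

/-- Let ψ : Y' → Y be a morphism, 𝒮 a quasi-coherent positively graded O_Y-algebra and 𝒮' = ψ^*𝒮,
presented as a quasi-coherent graded O_{Y'}-algebra with a graded ψ-morphism u : 𝒮 → ψ_*𝒮' whose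
squares O_Y(U) → O_{Y'}(U'), 𝒮(U) → 𝒮'(U') over affine opens U' ⊆ ψ⁻¹(U) are pushouts of rings. If g
: Proj(𝒮') → Proj(𝒮) is chartwise the morphism of homogeneous spectra induced by 𝒮(U) → 𝒮'(U'), then
Proj(𝒮') together with g and its structure morphism is the fibre product Proj(𝒮) ×_Y Y'. -/
theorem result {Y Y' P P' : Scheme.{u}} (ψ : Y' ⟶ Y) (𝒮 : RelProj.QCGrAlg Y)
    (𝒮' : RelProj.QCGrAlg Y') (u : 𝒮.presheaf ⟶ ψ.base _* 𝒮'.presheaf)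
    (hu : 𝒮.str ≫ u = ψ.c ≫ (TopCat.Presheaf.pushforward CommRingCat.{u} ψ.base).map 𝒮'.str)
    (φ : ∀ (U : Y.Opens) (hU : IsAffineOpen U) (U' : Y'.Opens) (hU' : IsAffineOpen U') (_ : U' ≤ ψ ⁻¹ᵁ U),
      𝒮.deg U hU →+*ᵍ 𝒮'.deg U' hU')
    (hφ : ∀ (U : Y.Opens) (hU : IsAffineOpen U) (U' : Y'.Opens) (hU' : IsAffineOpen U') (hle : U' ≤ ψ ⁻¹ᵁ U),
      (φ U hU U' hU' hle).toRingHom =
        ((u.app (op U) : 𝒮.presheaf.obj (op U) ⟶ 𝒮'.presheaf.obj (op (ψ ⁻¹ᵁ U))) ≫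
          𝒮'.presheaf.map (homOfLE hle).op).hom)
    (hpo : ∀ (U : Y.Opens) (hU : IsAffineOpen U) (U' : Y'.Opens) (hU' : IsAffineOpen U') (hle : U' ≤ ψ ⁻¹ᵁ U),
      IsPushout (ψ.appLE U U' hle) (𝒮.str.app (op U)) (𝒮'.str.app (op U'))
        ((u.app (op U) : 𝒮.presheaf.obj (op U) ⟶ 𝒮'.presheaf.obj (op (ψ ⁻¹ᵁ U))) ≫
          𝒮'.presheaf.map (homOfLE hle).op))
    (hirr : ∀ (U : Y.Opens) (hU : IsAffineOpen U) (U' : Y'.Opens) (hU' : IsAffineOpen U') (hle : U' ≤ ψ ⁻¹ᵁ U),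
      (𝒮'.deg U' hU')₊ ≤ ((𝒮.deg U hU)₊).map (φ U hU U' hU' hle))
    (p : P ⟶ Y)
    (chart : ∀ (U : Y.Opens) (hU : IsAffineOpen U), (((p ⁻¹ᵁ U : P.Opens) : Scheme.{u}) ≅ Proj (𝒮.deg U hU)))
    (hP : RelProj.IsRelProj 𝒮 p chart) (p' : P' ⟶ Y')
    (chart' : ∀ (U' : Y'.Opens) (hU' : IsAffineOpen U'), (((p' ⁻¹ᵁ U' : P'.Opens) : Scheme.{u}) ≅ Proj (𝒮'.deg U' hU')))
    (hP' : RelProj.IsRelProj 𝒮' p' chart') (g : P' ⟶ P)
    (hg : ∀ (U : Y.Opens) (hU : IsAffineOpen U) (U' : Y'.Opens) (hU' : IsAffineOpen U') (hle : U' ≤ ψ ⁻¹ᵁ U),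
      (p' ⁻¹ᵁ U').ι ≫ g =
        (chart' U' hU').hom ≫ Proj.map (φ U hU U' hU' hle) (hirr U hU U' hU' hle) ≫ RelProj.emb p chart U hU) :
    IsPullback g p' p ψ := by
  refine IsPullback.flip ?_
  let J : Type u :=
    {x : Y.affineOpens × Y'.affineOpens // (x.2 : Y'.Opens) ≤ ψ ⁻¹ᵁ (x.1 : Y.Opens)}
  refine Groth.Agent.Lib.Helper3.ProjBC.isPullback_of_cover p' g ψ p (J := J)
    (fun i => Spec Γ(Y', i.1.2.1)) (fun i => Proj (𝒮'.deg i.1.2.1 i.1.2.2))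
    (fun i => i.1.2.2.fromSpec)
    (fun i => RelProj.emb p' chart' i.1.2.1 i.1.2.2)
    (fun i => Proj.toSpecZero _ ≫ Spec.map (𝒮'.strZero i.1.2.1 i.1.2.2))
    ?_ ?_ ?_
  · intro y'
    obtain ⟨U, hU, hyU⟩ := Groth.Agent.Lib.Helper3.ProjQMap.exists_affine_mem (ψ y')
    obtain ⟨U', hU', hyU', hle⟩ := Groth.Agent.Lib.Helper3.RLPsi.exists_affine_pair ψ y' U hyU
    have hmem : y' ∈ hU'.fromSpec.opensRange := by
      rw [hU'.opensRange_fromSpec]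
      exact hyU'
    obtain ⟨z, hz⟩ := hmem
    exact ⟨⟨(⟨U, hU⟩, ⟨U', hU'⟩), hle⟩, z, hz⟩
  · intro i
    exact (Groth.Agent.Lib.Helper3.ProjBC.isPullback_emb hP' i.1.2.1 i.1.2.2).flip
  · rintro ⟨⟨⟨U, hU⟩, ⟨U', hU'⟩⟩, hle⟩
    have Q0 := Groth.Agent.Lib.Helper3.ProjBC.isPullback_projMap (𝒮.deg U hU) (𝒮'.deg U' hU')
      (ψ.appLE U U' hle).hom (𝒮.str.app (op U)).hom (𝒮'.str.app (op U')).hom (φ U hU U' hU' hle)
      (𝒮.str_mem U hU) (𝒮'.str_mem U' hU')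
      (by rw [hφ]; exact hpo U hU U' hU' hle) (hirr U hU U' hU' hle)
    have Q1 := Groth.Agent.Lib.Helper3.ProjBC.isPullback_emb hP U hU
    have Q2 := Q0.flip.paste_vert Q1
    have e1 : Spec.map (ψ.appLE U U' hle) ≫ hU.fromSpec = hU'.fromSpec ≫ ψ :=
      IsAffineOpen.SpecMap_appLE_fromSpec ψ hU hU' hle
    have e2 : RelProj.emb p' chart' U' hU' ≫ g =
        Proj.map (φ U hU U' hU' hle) (hirr U hU U' hU' hle) ≫ RelProj.emb p chart U hU := by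
      show (chart' U' hU').inv ≫ (p' ⁻¹ᵁ U').ι ≫ g = _
      rw [hg U hU U' hU' hle, Iso.inv_hom_id_assoc]
    show IsPullback (Proj.toSpecZero (𝒮'.deg U' hU') ≫ Spec.map (𝒮'.strZero U' hU'))
      (RelProj.emb p' chart' U' hU' ≫ g) (hU'.fromSpec ≫ ψ) p
    rw [e2, ← e1]
    exact Q2

end Groth.Agent.S8291
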