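import Groth.Statements.S8302
import Mathlib
import Groth.Agent.Lib.Helper17.AffGlue
import Groth.Agent.Lib.Helper3.QCProps

set_option autoImplicit false
universe u
open CategoryTheory CategoryTheory.Limits AlgebraicGeometry Opposite TopologicalSpace
noncomputable section
open EGA2

namespace Groth.Agent.S8302

/-- The case of a single scheme X affine over S and the identity morphism of X: let f : X → S be an
affine morphism and F, G quasi-coherent O_X-modules. Then the direct image u ↦ f_*(u) is a bijection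
from the set of O_X-module homomorphisms F → G onto the set of homomorphisms f_*F → f_*G of modules
over the direct-image algebra f_*O_X. -/
theorem result {X S : Scheme.{u}} (f : X ⟶ S) [IsAffineHom f]
    (F G : X.Modules) (hF : Coh.IsQCoh F) (hG : Coh.IsQCoh G) :
    Function.Bijective
      ((AMod.dirImg f).map : (F ⟶ G) → ((AMod.dirImg f).obj F ⟶ (AMod.dirImg f).obj G)) := by
  haveI : F.IsQuasicoherent := hF
  haveI : G.IsQuasicoherent := hG
  let W : {V : S.Opens // IsAffineOpen V} → X.Opens := fun i => f ⁻¹ᵁ i.1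
  have hW : ∀ i, IsAffineOpen (W i) := fun i => i.2.preimage f
  have hcov : ∀ x : X, ∃ i, x ∈ W i := by
    intro x
    obtain ⟨V, hV, hxV⟩ := Groth.Agent.Lib.Helper3.QCProps.exists_affine_nbhd (f.base x)
    exact ⟨⟨V, hV⟩, hxV⟩
  constructor
  · intro u v huv
    apply Groth.Agent.Lib.Helper17.AffGlue.hom_ext_of_charts F G W hW hcov u v
    intro i m
    have h1 : ∀ (w : F ⟶ G), (((AMod.dirImg f).map w).val.app (op i.1)).hom m =
        w.app (f ⁻¹ᵁ i.1) m := fun w => rfl
    rw [← h1 u, ← h1 v, huv]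
  · intro φ
    let r : {V : S.Opens // IsAffineOpen V} → {V : S.Opens // IsAffineOpen V} → Prop :=
      fun i k => k.1 ≤ i.1
    have hle : ∀ i k, r i k → W k ≤ W i := fun i k h x hx => h hx
    have hinf : ∀ i j (x : X), x ∈ W i → x ∈ W j → ∃ k, x ∈ W k ∧ r i k ∧ r j k := by
      intro i j x hxi hxj
      obtain ⟨_, ⟨V, hV, rfl⟩, hxV, hVij⟩ := S.isBasis_affineOpens.exists_subset_of_mem_open
        (show f.base x ∈ ((i.1 ⊓ j.1 : S.Opens) : Set S) from ⟨hxi, hxj⟩) (i.1 ⊓ j.1).2
      exact ⟨⟨V, hV⟩, hxV, fun y hy => (hVij hy).1, fun y hy => (hVij hy).2⟩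
    let ψ : ∀ i, Γ(F, W i) →ₗ[Γ(X, W i)] Γ(G, W i) := fun i =>
      { toFun := fun m => (φ.val.app (op i.1)).hom m
        map_add' := fun a b => map_add (φ.val.app (op i.1)).hom a b
        map_smul' := fun c m => (φ.val.app (op i.1)).hom.map_smul c m }
    have compat : ∀ i k (h : r i k) (m : Γ(F, W i)),
        ψ k (F.presheaf.map (homOfLE (hle i k h)).op m) =
          G.presheaf.map (homOfLE (hle i k h)).op (ψ i m) := by
      intro i k h m
      have hn := φ.val.naturality (homOfLE h).op
      exact congrArg (fun t => t.hom m) hn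
    obtain ⟨u, hu⟩ := Groth.Agent.Lib.Helper17.AffGlue.exists_hom_of_charts F G W hW hcov r hle
      hinf ψ compat
    refine ⟨u, ?_⟩
    apply SheafOfModules.hom_ext
    apply PresheafOfModules.hom_ext
    intro V
    induction V using Opposite.rec with
    | op V => ?_
    apply ModuleCat.hom_ext
    apply LinearMap.ext
    intro (m : Γ(F, f ⁻¹ᵁ V))
    change u.app (f ⁻¹ᵁ V) m = (φ.val.app (op V)).hom m
    refine TopCat.Presheaf.section_ext ⟨G.presheaf, G.isSheaf⟩ (f ⁻¹ᵁ V) _ _ fun y hy => ?_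
    obtain ⟨_, ⟨V', hV', rfl⟩, hyV', hV'V⟩ := S.isBasis_affineOpens.exists_subset_of_mem_open
      (show f.base y ∈ (V : Set S) from hy) V.2
    have hle' : V' ≤ V := hV'V
    have hWle : f ⁻¹ᵁ V' ≤ f ⁻¹ᵁ V := fun z hz => hle' hz
    have hy' : y ∈ f ⁻¹ᵁ V' := hyV'
    have e1 : G.presheaf.map (homOfLE hWle).op (u.app (f ⁻¹ᵁ V) m) =
        u.app (f ⁻¹ᵁ V') (F.presheaf.map (homOfLE hWle).op m) := by
      have hn := u.mapPresheaf.naturality (homOfLE hWle).op
      exact (congrArg (fun t => t.hom m) hn).symm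
    have e2 : G.presheaf.map (homOfLE hWle).op ((φ.val.app (op V)).hom m) =
        (φ.val.app (op V')).hom (F.presheaf.map (homOfLE hWle).op m) := by
      have hn := φ.val.naturality (homOfLE hle').op
      exact (congrArg (fun t => t.hom m) hn).symm
    rw [← TopCat.Presheaf.germ_res_apply G.presheaf (homOfLE hWle) y hy' (u.app (f ⁻¹ᵁ V) m),
      ← TopCat.Presheaf.germ_res_apply G.presheaf (homOfLE hWle) y hy' ((φ.val.app (op V)).hom m),
      e1, e2]
    exact congrArg _ (hu ⟨V', hV'⟩ _)

end Groth.Agent.S8302
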