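import Groth.Statements.S8303
import Mathlib
import Groth.Agent.Lib.Helper17.QCAlgFT
import Groth.Agent.Lib.Helper3.QCPush

set_option autoImplicit false
universe u
open CategoryTheory CategoryTheory.Limits AlgebraicGeometry Opposite TopologicalSpace
noncomputable section
open EGA2

namespace Groth.Agent.S8303

/-- For the algebra f_*O_X of a scheme X affine over S: let f : X → S be an affine morphism and F a
quasi-coherent O_X-module. Then F is of finite type (locally on X generated by finitely many
sections) if and only if the direct image f_*F is of finite type as a module over the sheaf of rings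
f_*O_X (locally on S generated by finitely many sections over f_*O_X). -/
theorem result {X S : Scheme.{u}} (f : X ⟶ S) [IsAffineHom f]
    (F : X.Modules) (hF : Coh.IsQCoh F) :
    SheafOfModules.IsFiniteType.{u} (R := X.ringCatSheaf) F ↔
      SheafOfModules.IsFiniteType.{u} (R := AMod.ringSheaf (RelSpec.QCAlg.directImage f)) ((AMod.dirImg f).obj F) := by
  haveI : F.IsQuasicoherent := hF
  have hB : SheafOfModules.IsQuasicoherent (R := S.ringCatSheaf)
      ((SheafOfModules.restrictScalars.{u} (AMod.strHom (RelSpec.QCAlg.directImage f))).obj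
        (SheafOfModules.unit (AMod.ringSheaf (RelSpec.QCAlg.directImage f)))) := by
    have e : (SheafOfModules.restrictScalars.{u} (AMod.strHom (RelSpec.QCAlg.directImage f))).obj
        (SheafOfModules.unit (AMod.ringSheaf (RelSpec.QCAlg.directImage f))) ≅
        (Scheme.Modules.pushforward f).obj (SheafOfModules.unit X.ringCatSheaf) := Iso.refl _
    haveI : SheafOfModules.IsQuasicoherent (R := X.ringCatSheaf)
        (SheafOfModules.unit X.ringCatSheaf) := inferInstance
    exact (SheafOfModules.isQuasicoherent S.ringCatSheaf).prop_of_iso e.symm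
      (Groth.Agent.Lib.Helper3.QCSec.isQuasicoherent_pushforward f
        (SheafOfModules.unit X.ringCatSheaf))
  have hF' : SheafOfModules.IsQuasicoherent (R := S.ringCatSheaf)
      ((SheafOfModules.restrictScalars.{u} (AMod.strHom (RelSpec.QCAlg.directImage f))).obj
        ((AMod.dirImg f).obj F)) :=
    Groth.Agent.Lib.Helper3.QCSec.isQuasicoherent_pushforward f F
  constructor
  · intro h
    haveI := h
    apply Groth.Agent.Lib.Helper17.QCAlgFT.isFiniteType_of_finite_sections _ hB _ hF'
    intro s
    obtain ⟨V, hV, hsV⟩ := Groth.Agent.Lib.Helper3.QCProps.exists_affine_nbhd s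
    refine ⟨V, hV, hsV, ?_⟩
    have hU : IsAffineOpen (f ⁻¹ᵁ V) := hV.preimage f
    exact Groth.Agent.Lib.Helper3.QCProps.finite_sections F hU
  · intro h
    haveI := h
    apply Groth.Agent.Lib.Helper3.QCProps.isFiniteType_of_charts
    intro x
    obtain ⟨V, hV, hsV, hfin⟩ :=
      Groth.Agent.Lib.Helper17.QCAlgFT.exists_finite_sections_of_isFiniteType _ hB _ hF' (f.base x)
    exact ⟨f ⁻¹ᵁ V, hV.preimage f, hsV, inferInstance, hfin⟩

end Groth.Agent.S8303
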