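import Groth.Statements.S8305
import Mathlib
import Groth.Agent.Lib.Helper17.AffIso
import Groth.Agent.Lib.Helper3.QCPush

set_option autoImplicit false
universe u
open CategoryTheory CategoryTheory.Limits AlgebraicGeometry Opposite TopologicalSpace
noncomputable section
open EGA2

namespace Groth.Agent.S8305

/-- Let X and Y be schemes affine over S with structure morphisms gX and gY, h : Y → X a morphism over
S, F a quasi-coherent O_X-module, G a quasi-coherent O_Y-module and v : F → h_*G a homomorphism of
O_X-modules, so that (h, v) is a morphism of pairs (Y, G) → (X, F). Then h and v are isomorphisms if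
and only if the direct-image algebra homomorphism A(h) : gX_*O_X → gY_*O_Y and the direct image A(v)
= gX_*(v) : gX_*F → gX_*h_*G are isomorphisms (the pair (A(h), A(v)) is a di-isomorphism). -/
theorem result {X Y S : Scheme.{u}} (gX : X ⟶ S) [IsAffineHom gX]
    (gY : Y ⟶ S) [IsAffineHom gY] (h : Y ⟶ X) (hh : h ≫ gX = gY)
    (F : X.Modules) (G : Y.Modules) (hF : Coh.IsQCoh F) (hG : Coh.IsQCoh G)
    (v : F ⟶ (Scheme.Modules.pushforward h).obj G) :
    (IsIso h ∧ IsIso v) ↔
      (IsIso (AffAlg.algHom gX gY h hh) ∧ IsIso ((Scheme.Modules.pushforward gX).map v)) := by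
  subst hh
  haveI : F.IsQuasicoherent := hF
  haveI : G.IsQuasicoherent := hG
  constructor
  · rintro ⟨hh, hv⟩
    haveI := hh
    haveI := hv
    refine ⟨?_, inferInstance⟩
    unfold AffAlg.algHom
    haveI : IsIso ((TopCat.Presheaf.pushforward CommRingCat.{u} gX.base).map h.c) := by
      apply (config := { allowSynthFailures := true }) NatIso.isIso_of_isIso_app
    infer_instance
  · rintro ⟨hA, hv⟩
    unfold AffAlg.algHom at hA
    haveI := hA
    haveI hA' : IsIso ((TopCat.Presheaf.pushforward CommRingCat.{u} gX.base).map h.c) := by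
      have key : ∀ {P Q R : TopCat.Presheaf CommRingCat.{u} S.carrier} (α : P ⟶ Q) (p : Q = R),
          IsIso (α ≫ eqToHom p) → IsIso α := by
        intro P Q R α p hαβ
        subst p
        simpa using hαβ
      exact key _ _ hA
    have happ : ∀ V : S.Opens, IsIso (h.app (gX ⁻¹ᵁ V)) := by
      intro V
      have h1 : IsIso (((TopCat.Presheaf.pushforward CommRingCat.{u} gX.base).map h.c).app
          (Opposite.op V)) := inferInstance
      exact h1
    have hiso : IsIso h := by
      apply Groth.Agent.Lib.Helper17.AffIso.isIso_of_affine_cover h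
        (fun V : S.affineOpens => gX ⁻¹ᵁ V.1)
        (fun V => V.2.preimage gX)
        (fun V => V.2.preimage (h ≫ gX))
      · rw [eq_top_iff]
        intro x _
        obtain ⟨V, hV, hxV⟩ := Groth.Agent.Lib.Helper3.QCProps.exists_affine_nbhd (gX x)
        exact TopologicalSpace.Opens.mem_iSup.mpr ⟨⟨V, hV⟩, hxV⟩
      · intro V
        exact happ V.1
    refine ⟨hiso, ?_⟩
    haveI := hiso
    haveI : ((Scheme.Modules.pushforward h).obj G).IsQuasicoherent :=
      Groth.Agent.Lib.Helper3.QCSec.isQuasicoherent_pushforward h G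
    apply Groth.Agent.Lib.Helper17.AffIso.isIso_of_bijective_on_affine_cover
    intro x
    obtain ⟨V, hV, hxV⟩ := Groth.Agent.Lib.Helper3.QCProps.exists_affine_nbhd (gX x)
    refine ⟨gX ⁻¹ᵁ V, hV.preimage gX, hxV, ?_⟩
    haveI := hv
    exact Groth.Agent.Lib.Helper17.AffIso.bijective_app_of_isIso
      ((Scheme.Modules.pushforward gX).map v) V

end Groth.Agent.S8305
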