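import Groth.Statements.S8307
import Groth.Agent.Lib.Helper3.ConeSwapB
import Groth.Agent.Lib.Helper3.PolyExist
import Groth.Agent.Lib.Helper3.ConeImm
import Groth.Agent.Lib.Helper3.RelProjExist
import Groth.Agent.Lib.Helper3.SpecMapLocal

set_option autoImplicit false
universe u
open CategoryTheory CategoryTheory.Limits AlgebraicGeometry Opposite TopologicalSpace
open scoped HomogeneousIdeal
noncomputable section
open EGA2

namespace Groth.Agent.S8307

/-- The identification of the pointed projective cone of a line bundle: let L be an invertible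
O_Y-module and L' an inverse of L (invertible, with L ⊗ L' isomorphic to O_Y); let 𝒮 = Sym(L) be the
graded symmetric algebra of L, C = V(L) = Spec(𝒮) the line bundle, Ŝ = 𝒮[z] (given through a graded
homomorphism ι : 𝒮 → Ŝ and a global section z of degree one, polynomial over every affine open), Ĉ =
Proj(Ŝ) the projective closure of V(L) with its charts, and Ê ⊆ Ĉ its pointed projective cone (the
union of the chart images of the opens where the morphism induced by ι(U) is defined); let 𝒮' =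
Sym(L') and V(L') = Spec(𝒮'). Then V(L') and Ê are isomorphic as schemes over Y: there is an
isomorphism V(L') ≅ Ê whose composite with the inclusion of Ê and the projection Ĉ → Y is the
structure morphism of V(L') (existence of an isomorphism; the published isomorphism is a canonical
one). -/
theorem result {Y PC : Scheme.{u}} (L L' : Y.Modules)
    (hL : PicF.IsInvertible L) (hL' : PicF.IsInvertible L') (hLq : Coh.IsQCoh L) (hL'q : Coh.IsQCoh L')
    (hLL' : Nonempty (CohB1.tensorMod L L' ≅ Coh.structureModule Y))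
    (𝒮 𝒮h : RelProj.QCGrAlg Y) (j : L ⟶ 𝒮.toModule) (hS : RelProj.IsGrSymAlg L 𝒮 j) (h0 : RelCone.StrZeroBij 𝒮)
    (ι : 𝒮.toQCAlg ⟶ 𝒮h.toQCAlg) (z : 𝒮h.presheaf.obj (op ⊤)) (hz : RelCone.IsPolyOver 𝒮 𝒮h ι z)
    (pC : PC ⟶ Y)
    (chartC : ∀ (U : Y.Opens) (hU : IsAffineOpen U), (((pC ⁻¹ᵁ U : PC.Opens) : Scheme.{u}) ≅ Proj (𝒮h.deg U hU)))
    (hPC : RelProj.IsRelProj 𝒮h pC chartC)
    (𝒮' : RelSpec.QCAlg Y) (j' : L' ⟶ 𝒮'.toModule) (hS' : RelSpec.IsSymAlg L' 𝒮' j') :
    ∃ e : 𝒮'.spec ≅ ((RelCone.pointedProjCone 𝒮 hz pC chartC : PC.Opens) : Scheme.{u}),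
      e.hom ≫ (RelCone.pointedProjCone 𝒮 hz pC chartC).ι ≫ pC = 𝒮'.π := by
  classical
  haveI : L.IsQuasicoherent := hLq
  haveI : L'.IsQuasicoherent := hL'q
  obtain ⟨ε₀⟩ := hLL'
  obtain ⟨𝒮g, 𝒮gh, jg, hSg, ιg, zg, hzg⟩ := Groth.Agent.Lib.Helper3.PolyExist.exists_polyOver L'
  obtain ⟨Q, q, chartQ, hQ⟩ := Groth.Agent.Lib.Helper3.RelProjExist.exists_isRelProj 𝒮gh
  obtain ⟨i', hi'⟩ := Groth.Agent.Lib.Helper3.ConeImm.exists_i hzg hQ
  obtain ⟨i, hi⟩ := Groth.Agent.Lib.Helper3.ConeImm.exists_i hz hPC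
  obtain ⟨Φ, hΦ, hA, -⟩ := Groth.Agent.Lib.Helper3.ConeSwapB.exists_swap hL hL' ε₀ hS hz hPC hi
    hSg hzg hQ hi'
  haveI hoi : IsOpenImmersion i' :=
    Groth.Agent.Lib.Helper3.ConeImm.isOpenImmersion_of_isConeImm hzg hQ hi'
  have hover : i' ≫ q = 𝒮g.toQCAlg.π :=
    Groth.Agent.Lib.Helper6.PointedProjCone.coneImm_over hzg hQ hi'
  have hΦinv : ∀ w : Q, Φ.hom.base (Φ.inv.base w) = w := fun w =>
    congrArg (fun f : Q ⟶ Q => f.base w) Φ.inv_hom_id
  have hΦinv' : ∀ x : PC, Φ.inv.base (Φ.hom.base x) = x := fun x =>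
    congrArg (fun f : PC ⟶ PC => f.base x) Φ.hom_inv_id
  let m : 𝒮g.toQCAlg.spec ⟶ PC := i' ≫ Φ.inv
  haveI : IsOpenImmersion m := inferInstance
  have hm : ∀ w, m.base w = Φ.inv.base (i'.base w) := fun w => rfl
  have hrange : Set.range m = Set.range (RelCone.pointedProjCone 𝒮 hz pC chartC).ι := by
    rw [Scheme.Opens.range_ι]
    ext x
    constructor
    · rintro ⟨w, rfl⟩
      have h1 : Φ.hom.base (m.base w) ∈ Set.range i'.base := by
        rw [hm, hΦinv]
        exact ⟨w, rfl⟩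
      exact (hA _).1 h1
    · intro hx
      obtain ⟨w, hw⟩ := (hA x).2 hx
      refine ⟨w, ?_⟩
      have h2 : m.base w = x := by rw [hm, hw, hΦinv']
      exact h2
  let e₁ : 𝒮g.toQCAlg.spec ≅ ((RelCone.pointedProjCone 𝒮 hz pC chartC : PC.Opens) : Scheme.{u}) :=
    IsOpenImmersion.isoOfRangeEq m (RelCone.pointedProjCone 𝒮 hz pC chartC).ι hrange
  have he₁ : e₁.hom ≫ (RelCone.pointedProjCone 𝒮 hz pC chartC).ι = m :=
    IsOpenImmersion.isoOfRangeEq_hom_fac _ _ hrange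
  obtain ⟨a, -⟩ := Groth.Agent.Lib.Helper3.SymLocal.exists_iso hS' hSg.1
  haveI hiso : IsIso (RelSpec.QCAlg.specMap a.hom) := by
    have h := Groth.Agent.Lib.Helper3.SpecMapLocal.specMap_of_charts (ψ := a.hom)
      (MorphismProperty.isomorphisms Scheme.{u}) (fun U hU => by
        haveI : IsIso (a.hom.hom.app (op U)) :=
          ⟨⟨a.inv.hom.app (op U),
            NatTrans.congr_app (congrArg RelSpec.QCAlg.Hom.hom a.hom_inv_id) (op U),
            NatTrans.congr_app (congrArg RelSpec.QCAlg.Hom.hom a.inv_hom_id) (op U)⟩⟩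
        exact (MorphismProperty.isomorphisms.iff _).2 inferInstance)
    exact (MorphismProperty.isomorphisms.iff _).1 h
  refine ⟨(asIso (RelSpec.QCAlg.specMap a.hom)).symm ≪≫ e₁, ?_⟩
  have hq : Φ.inv ≫ pC = q := by rw [← hΦ, Iso.inv_hom_id_assoc]
  have hs : RelSpec.QCAlg.specMap a.hom ≫ 𝒮'.π = 𝒮g.toQCAlg.π := RelSpec.QCAlg.specMap_π a.hom
  change (inv (RelSpec.QCAlg.specMap a.hom) ≫ e₁.hom) ≫ _ ≫ pC = 𝒮'.π
  rw [Category.assoc, reassoc_of% he₁, IsIso.inv_comp_eq, hs]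
  change (i' ≫ Φ.inv) ≫ pC = _
  rw [Category.assoc, hq, hover]

end Groth.Agent.S8307
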