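import Groth.Statements.S8308
import Groth.Agent.Lib.Helper3.ProjCone

set_option autoImplicit false
universe u
open CategoryTheory CategoryTheory.Limits AlgebraicGeometry Opposite TopologicalSpace
open scoped HomogeneousIdeal
noncomputable section
open EGA2

namespace Groth.Agent.S8308

/-- The canonical retraction of the pointed projective cone: let 𝒮 be a quasi-coherent positively graded
O_Y-algebra with 𝒮_0 = O_Y, Ŝ = 𝒮[z] (given through a graded homomorphism ι : 𝒮 → Ŝ and a global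
section z of degree one, polynomial over every affine open), X = Proj(𝒮) and Ĉ = Proj(Ŝ) the
relative homogeneous spectra with their charts, and Ê ⊆ Ĉ the pointed projective cone. There is
exactly one morphism p : Ê → X such that for every affine open U of Y and every f ∈ 𝒮(U) homogeneous
of positive degree, on the affine piece Spec Ŝ(U)_(ι f) of Ê (the standard open D_+(ι f) of Proj
Ŝ(U) carried into Ĉ by the chart) p is Spec of the canonical homomorphism 𝒮(U)_(f) → Ŝ(U)_(ι f)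
followed by the standard open D_+(f) of Proj 𝒮(U) and the chart of X. Every such p is affine and
surjective, lies over Y, and is a retraction of the immersion at infinity: if j : X → Ĉ is the
morphism chartwise induced by the graded retraction θ : Ŝ → 𝒮 of ι with θ(z) = 0, then j factors
through Ê and the factorisation followed by p is the identity of X. -/
theorem result {Y PC P : Scheme.{u}} (𝒮 𝒮h : RelProj.QCGrAlg Y) (h0 : RelCone.StrZeroBij 𝒮)
    (ι : 𝒮.toQCAlg ⟶ 𝒮h.toQCAlg) (z : 𝒮h.presheaf.obj (op ⊤)) (hz : RelCone.IsPolyOver 𝒮 𝒮h ι z)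
    (pC : PC ⟶ Y)
    (chartC : ∀ (U : Y.Opens) (hU : IsAffineOpen U), (((pC ⁻¹ᵁ U : PC.Opens) : Scheme.{u}) ≅ Proj (𝒮h.deg U hU)))
    (hPC : RelProj.IsRelProj 𝒮h pC chartC)
    (p : P ⟶ Y)
    (chart : ∀ (U : Y.Opens) (hU : IsAffineOpen U), (((p ⁻¹ᵁ U : P.Opens) : Scheme.{u}) ≅ Proj (𝒮.deg U hU)))
    (hP : RelProj.IsRelProj 𝒮 p chart) :
    (∃! r : ((RelCone.pointedProjCone 𝒮 hz pC chartC : PC.Opens) : Scheme.{u}) ⟶ P,
      (∀ (U : Y.Opens) (hU : IsAffineOpen U) (d : ℕ) (hd : 0 < d) (f : 𝒮.presheaf.obj (op U)) (hf : f ∈ 𝒮.deg U hU d)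
        (g : Spec (CommRingCat.of (HomogeneousLocalization.Away (𝒮h.deg U hU) ((RelProj.gradedHomAt ι hz.graded U hU) f))) ⟶
          ((RelCone.pointedProjCone 𝒮 hz pC chartC : PC.Opens) : Scheme.{u})),
        g ≫ (RelCone.pointedProjCone 𝒮 hz pC chartC).ι =
            Proj.awayι (𝒮h.deg U hU) ((RelProj.gradedHomAt ι hz.graded U hU) f) ((RelProj.gradedHomAt ι hz.graded U hU).2 hf) hd ≫
              RelProj.emb pC chartC U hU →
          g ≫ r =
            Spec.map (CommRingCat.ofHom (HomogeneousLocalization.Away.map (RelProj.gradedHomAt ι hz.graded U hU) f)) ≫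
              Proj.awayι (𝒮.deg U hU) f hf hd ≫ RelProj.emb p chart U hU)) ∧
    ∀ r : ((RelCone.pointedProjCone 𝒮 hz pC chartC : PC.Opens) : Scheme.{u}) ⟶ P,
      (∀ (U : Y.Opens) (hU : IsAffineOpen U) (d : ℕ) (hd : 0 < d) (f : 𝒮.presheaf.obj (op U)) (hf : f ∈ 𝒮.deg U hU d)
        (g : Spec (CommRingCat.of (HomogeneousLocalization.Away (𝒮h.deg U hU) ((RelProj.gradedHomAt ι hz.graded U hU) f))) ⟶
          ((RelCone.pointedProjCone 𝒮 hz pC chartC : PC.Opens) : Scheme.{u})),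
        g ≫ (RelCone.pointedProjCone 𝒮 hz pC chartC).ι =
            Proj.awayι (𝒮h.deg U hU) ((RelProj.gradedHomAt ι hz.graded U hU) f) ((RelProj.gradedHomAt ι hz.graded U hU).2 hf) hd ≫
              RelProj.emb pC chartC U hU →
          g ≫ r =
            Spec.map (CommRingCat.ofHom (HomogeneousLocalization.Away.map (RelProj.gradedHomAt ι hz.graded U hU) f)) ≫
              Proj.awayι (𝒮.deg U hU) f hf hd ≫ RelProj.emb p chart U hU) →
      IsAffineHom r ∧ Function.Surjective r.base ∧ r ≫ p = (RelCone.pointedProjCone 𝒮 hz pC chartC).ι ≫ pC ∧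
        ∀ (θ : 𝒮h.toQCAlg ⟶ 𝒮.toQCAlg) (hθ : RelProj.IsGradedHom θ), ι ≫ θ = 𝟙 _ →
          (θ.hom.app (op ⊤)).hom z = 0 →
          ∀ (hirr : ∀ (U : Y.Opens) (hU : IsAffineOpen U),
              (𝒮.deg U hU)₊ ≤ ((𝒮h.deg U hU)₊).map (RelProj.gradedHomAt θ hθ U hU))
            (j : P ⟶ PC), RelProj.IsRelProjMap θ hθ hirr chartC chart j →
            ∀ j' : P ⟶ ((RelCone.pointedProjCone 𝒮 hz pC chartC : PC.Opens) : Scheme.{u}), j' ≫ (RelCone.pointedProjCone 𝒮 hz pC chartC).ι = j → j' ≫ r = 𝟙 P := by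
  have hpt : RelCone.pointedProjCone 𝒮 hz pC chartC =
      RelProj.domQ (RelProj.QGrHom.ofHom ι hz.graded) pC chartC :=
    Groth.Agent.Lib.Helper3.ProjCone.iSup_eq_domQ ι hz.graded hPC
  obtain ⟨hall, hcov, r0, hr0⟩ := Groth.Agent.Lib.Helper3.ProjCone.exists_eqsOn_of_eq
    (chartA := chart) ι hz.graded hP hPC _ hpt
  refine ⟨⟨r0, Groth.Agent.Lib.Helper3.ProjCone.eqsG_of_eqsOn ι hz.graded _ r0 hr0, ?_⟩, ?_⟩
  · intro r hr
    exact Groth.Agent.Lib.Helper3.ProjCone.eq_of_eqsOn ι hz.graded _ r r0 hall hcov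
      (Groth.Agent.Lib.Helper3.ProjCone.eqsOn_of_eqsG ι hz.graded _ r hr) hr0
  · intro r hr
    have hr' := Groth.Agent.Lib.Helper3.ProjCone.eqsOn_of_eqsG ι hz.graded _ r hr
    refine ⟨Groth.Agent.Lib.Helper3.ProjQMapOn.isAffineHom_on ι hz.graded _ r hP hPC hall hcov hr',
      ?_, Groth.Agent.Lib.Helper3.ProjQMapOn.comp_eq_on ι hz.graded _ r hP hPC hall hcov hr', ?_⟩
    · refine Groth.Agent.Lib.Helper3.ProjCone.surjective_of_eqsOn ι hz.graded _ r hall hr' ?_
      intro U hU d hd f hf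
      exact Groth.Agent.Lib.Helper3.ProjCone.specMap_surjective_of_retraction
        (Groth.Agent.Lib.Helper3.ProjQMap.ψU ι hz.graded U hU)
        (Groth.Agent.Lib.Helper3.ProjCone.εG (Groth.Agent.Lib.Helper3.ProjQMap.ψU ι hz.graded U hU)
          (ι.hom.app (op U)).hom
          (fun a => (Groth.Agent.Lib.Helper3.ProjQMap.ψU_apply ι hz.graded U hU a).symm)
          (RelCone.restrictTop 𝒮h z U) (hz.deg_z U hU) (hz.bij U hU))
        (Groth.Agent.Lib.Helper3.ProjCone.εG_ι _ _ _ _ _ _) f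
    · intro θ hθ hιθ _ hirr j hj j' hj'
      refine Groth.Agent.Lib.Helper3.ProjCone.retraction_of_eqsOn ι hz.graded _ r hall hr' θ hθ
        ?_ hirr j hj j' hj'
      intro U hU x
      rw [Groth.Agent.Lib.Helper3.ProjQMap.ψU_apply]
      have := congrArg (fun m : 𝒮.toQCAlg ⟶ 𝒮.toQCAlg => (m.hom.app (op U)).hom x) hιθ
      exact this

end Groth.Agent.S8308
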