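import Groth.Statements.S8312
import Mathlib.RingTheory.Ideal.Operations
import Mathlib.RingTheory.Nilpotent.Basic

set_option autoImplicit false
universe u
open scoped HomogeneousIdeal
open EGA2

namespace Groth.Agent.S8312


section
variable {R A B : Type u} [CommRing R] [CommRing A] [Algebra R A]
    (𝒜 : ℕ → Submodule R A) [GradedAlgebra 𝒜] [CommRing B] [Algebra R B] (ℬ : ℕ → Submodule R B) [GradedAlgebra ℬ]
    (φ : B →ₐ[R] Polynomial A) (hφ : Function.Injective φ)
    (hdeg : ∀ n : ℕ, Submodule.map φ.toLinearMap (ℬ n) =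
      Submodule.map ((Polynomial.monomial n : A →ₗ[A] Polynomial A).restrictScalars R) (⨆ (m : ℕ) (_ : n ≤ m), 𝒜 m))

include hdeg in
theorem exists_lift_of_mem (k m : ℕ) (hkm : k ≤ m) (c : A) (hc : c ∈ 𝒜 m) :
    ∃ b ∈ ℬ k, φ b = Polynomial.monomial k c := by
  have h1 : c ∈ ⨆ (m : ℕ) (_ : k ≤ m), 𝒜 m :=
    Submodule.mem_iSup_of_mem m (Submodule.mem_iSup_of_mem hkm hc)
  have h2 : Polynomial.monomial k c ∈ Submodule.map φ.toLinearMap (ℬ k) := by
    rw [hdeg k]
    exact ⟨c, h1, rfl⟩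
  obtain ⟨b, hb, hbc⟩ := h2
  exact ⟨b, hb, hbc⟩

include hdeg in
theorem exists_lift_of_mem_iSup (k : ℕ) (c : A) (hc : c ∈ ⨆ (m : ℕ) (_ : k ≤ m), 𝒜 m) :
    ∃ b ∈ ℬ k, φ b = Polynomial.monomial k c := by
  have h2 : Polynomial.monomial k c ∈ Submodule.map φ.toLinearMap (ℬ k) := by
    rw [hdeg k]
    exact ⟨c, hc, rfl⟩
  obtain ⟨b, hb, hbc⟩ := h2
  exact ⟨b, hb, hbc⟩

variable {ι : Type u} (d : ι → ℕ) (f : ι → A) (hf : ∀ a, f a ∈ 𝒜 (d a))
    (hrad : ∀ g ∈ (HomogeneousIdeal.irrelevant 𝒜).toIdeal, ∃ n : ℕ, 0 < n ∧ g ^ n ∈ Ideal.span (Set.range f))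
    (fn : ι → B) (hfn : ∀ a, φ (fn a) = Polynomial.monomial (d a) (f a))

include hφ hdeg hf hrad hfn in
theorem hom_mem_radical (n m : ℕ) (hn : 0 < n) (hnm : n ≤ m) (a : A) (ha : a ∈ 𝒜 m) (g : B)
    (hg : φ g = Polynomial.monomial n a) : g ∈ (Ideal.span (Set.range fn)).radical := by
  classical
  have ha_irr : a ∈ (HomogeneousIdeal.irrelevant 𝒜).toIdeal :=
    HomogeneousIdeal.mem_irrelevant_of_mem _ (lt_of_lt_of_le hn hnm) ha
  obtain ⟨N, -, haN⟩ := hrad a ha_irr
  rw [Finsupp.mem_ideal_span_range_iff_exists_finsupp] at haN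
  obtain ⟨c, hc⟩ := haN
  set j : ℕ := c.support.sum d with hj
  set M : ℕ := N + j with hM
  have hdj : ∀ α ∈ c.support, d α ≤ j := fun α hα =>
    Finset.single_le_sum (f := d) (fun _ _ => Nat.zero_le _) hα
  have hMn : ∀ α ∈ c.support, d α ≤ M * n := fun α hα =>
    (hdj α hα).trans (by nlinarith)
  have hMm : ∀ α ∈ c.support, d α ≤ M * m := fun α hα =>
    (hMn α hα).trans (Nat.mul_le_mul_left _ hnm)
  -- a^M as a combination
  have h1 : a ^ M = ∑ α ∈ c.support, (a ^ j * c α) * f α := by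
    rw [hM, pow_add, mul_comm (a ^ N), ← hc, Finsupp.sum, Finset.mul_sum]
    exact Finset.sum_congr rfl fun α _ => (mul_assoc _ _ _).symm
  have haM : a ^ M ∈ 𝒜 (M * m) := by
    have := SetLike.pow_mem_graded M ha
    simpa [smul_eq_mul] using this
  -- take the component of degree M * m
  have h2 : a ^ M = ∑ α ∈ c.support,
      ((DirectSum.decompose 𝒜 (a ^ j * c α) (M * m - d α) : 𝒜 (M * m - d α)) : A) * f α := by
    have h3 : a ^ M = GradedRing.proj 𝒜 (M * m) (a ^ M) := by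
      rw [GradedRing.proj_apply, DirectSum.decompose_of_mem_same _ haM]
    rw [h3]
    conv_lhs => rw [h1]
    rw [map_sum]
    refine Finset.sum_congr rfl fun α hα => ?_
    rw [GradedRing.proj_apply, DirectSum.coe_decompose_mul_of_right_mem_of_le _ (hf α) (hMm α hα)]
  -- the subgroup of images of elements of the ideal
  let I' : Ideal B := Ideal.span (Set.range fn)
  let G : AddSubgroup (Polynomial A) := AddSubgroup.map φ.toRingHom.toAddMonoidHom I'.toAddSubgroup
  have hmemG : Polynomial.monomial (M * n) (a ^ M) ∈ G := by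
    rw [h2, map_sum]
    refine sum_mem fun α hα => ?_
    obtain ⟨b, -, hb⟩ := exists_lift_of_mem 𝒜 ℬ φ hdeg (M * n - d α) (M * m - d α)
      (Nat.sub_le_sub_right (Nat.mul_le_mul_left _ hnm) _)
      ((DirectSum.decompose 𝒜 (a ^ j * c α) (M * m - d α) : 𝒜 (M * m - d α)) : A) (SetLike.coe_mem _)
    refine ⟨b * fn α, Ideal.mul_mem_left _ _ (Ideal.subset_span ⟨α, rfl⟩), ?_⟩
    change φ (b * fn α) = _
    rw [map_mul, hb, hfn α, Polynomial.monomial_mul_monomial, Nat.sub_add_cancel (hMn α hα)]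
  obtain ⟨b, hbI, hb⟩ := hmemG
  have hb' : φ b = φ (g ^ M) := by
    change φ b = _ at hb
    rw [hb, map_pow φ g M, hg, Polynomial.monomial_pow, mul_comm]
  exact ⟨M, by rw [← hφ hb']; exact hbI⟩

include hφ hdeg hf hrad hfn in
theorem mem_radical_of_mem_iSup (n : ℕ) (hn : 0 < n) (a : A) (ha : a ∈ ⨆ (m : ℕ) (_ : n ≤ m), 𝒜 m) :
    ∀ g : B, φ g = Polynomial.monomial n a → g ∈ (Ideal.span (Set.range fn)).radical := by
  rw [iSup_subtype'] at ha
  induction ha using Submodule.iSup_induction' with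
  | mem i x hx =>
    intro g hg
    exact hom_mem_radical 𝒜 ℬ φ hφ hdeg d f hf hrad fn hfn n i.1 hn i.2 x hx g hg
  | zero =>
    intro g hg
    rw [map_zero] at hg
    have : g = 0 := hφ (hg.trans (map_zero φ).symm)
    rw [this]
    exact zero_mem _
  | add x y hx hy ihx ihy =>
    intro g hg
    have hx' : x ∈ ⨆ (m : ℕ) (_ : n ≤ m), 𝒜 m := by
      rw [iSup_subtype']; exact hx
    obtain ⟨g₁, -, hg₁⟩ := exists_lift_of_mem_iSup 𝒜 ℬ φ hdeg n x hx'
    have hg₂ : φ (g - g₁) = Polynomial.monomial n y := by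
      rw [map_sub, hg, hg₁, map_add, add_sub_cancel_left]
    have := add_mem (ihx g₁ hg₁) (ihy (g - g₁) hg₂)
    rwa [add_sub_cancel] at this

include hφ hdeg hf hrad hfn in
theorem irrelevant_le_radical :
    (HomogeneousIdeal.irrelevant ℬ).toIdeal ≤ (Ideal.span (Set.range fn)).radical := by
  rw [HomogeneousIdeal.toIdeal_irrelevant_le]
  intro n hn g hg
  have h2 : φ g ∈ Submodule.map φ.toLinearMap (ℬ n) := ⟨g, hg, rfl⟩
  rw [hdeg n] at h2
  obtain ⟨a, ha, hag⟩ := h2
  exact mem_radical_of_mem_iSup 𝒜 ℬ φ hφ hdeg d f hf hrad fn hfn n hn a ha g hag.symm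

end



/-- Let S be a positively graded ring (an ℕ-graded R-algebra) and S♮ the graded ring with S♮_n = S_[n] =
⊕_{m ≥ n} S_m, presented as a graded ring S' with an injective algebra homomorphism φ : S' → S[X]
carrying S'_n onto S_[n]·X^n; for a homogeneous f ∈ S_d write f♮ for the element of S' with φ(f♮) =
f·X^d (f placed in degree d of S♮). If (f_α) is a family of homogeneous elements of S of positive
degrees such that every element of the irrelevant ideal S_+ has a positive power in the ideal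
generated by the f_α (that is, S_+ is the radical in S_+ of that ideal), then every element of the
irrelevant ideal S'_+ has a positive power in the ideal of S' generated by the f_α♮. -/
theorem result {R A B : Type u} [CommRing R] [CommRing A] [Algebra R A]
    (𝒜 : ℕ → Submodule R A) [GradedAlgebra 𝒜] [CommRing B] [Algebra R B] (ℬ : ℕ → Submodule R B) [GradedAlgebra ℬ]
    (φ : B →ₐ[R] Polynomial A) (hφ : Function.Injective φ)
    (hdeg : ∀ n : ℕ, Submodule.map φ.toLinearMap (ℬ n) =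
      Submodule.map ((Polynomial.monomial n : A →ₗ[A] Polynomial A).restrictScalars R) (⨆ (m : ℕ) (_ : n ≤ m), 𝒜 m))
    {ι : Type u} (d : ι → ℕ) (hd : ∀ a, 0 < d a) (f : ι → A) (hf : ∀ a, f a ∈ 𝒜 (d a))
    (hrad : ∀ g ∈ (HomogeneousIdeal.irrelevant 𝒜).toIdeal, ∃ n : ℕ, 0 < n ∧ g ^ n ∈ Ideal.span (Set.range f))
    (fn : ι → B) (hfn : ∀ a, φ (fn a) = Polynomial.monomial (d a) (f a)) :
    ∀ g ∈ (HomogeneousIdeal.irrelevant ℬ).toIdeal, ∃ n : ℕ, 0 < n ∧ g ^ n ∈ Ideal.span (Set.range fn) := by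
  intro g hg
  obtain ⟨n, hn⟩ := irrelevant_le_radical 𝒜 ℬ φ hφ hdeg d f hf hrad fn hfn hg
  rcases Nat.eq_zero_or_pos n with h0 | hpos
  · refine ⟨1, one_pos, ?_⟩
    rw [h0, pow_zero] at hn
    rw [pow_one]
    have := Ideal.mul_mem_left _ g hn
    rwa [mul_one] at this
  · exact ⟨n, hpos, hn⟩

end Groth.Agent.S8312
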