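import Groth.Statements.S8313
import Groth.Agent.Lib.Helper3.ConeSwapB

set_option autoImplicit false
universe u
open CategoryTheory CategoryTheory.Limits AlgebraicGeometry Opposite TopologicalSpace
open scoped HomogeneousIdeal
noncomputable section
open EGA2

namespace Groth.Agent.S8313

/-- Let L be an invertible O_Y-module and L' an inverse of L (invertible, with L ⊗ L' isomorphic to
O_Y). For L form 𝒮 = Sym(L) (graded symmetric algebra, degree-zero part O_Y), the line bundle C =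
V(L) = Spec(𝒮) with its vertex (zero) section ε attached to the augmentation, 𝒮[z] (graded
homomorphism ι and degree-one global section z, polynomial over affine opens), the projective
closure Ĉ = Proj(𝒮[z]) with its charts and the canonical open immersion i : C → Ĉ; and likewise 𝒮',
C' = V(L'), ε', 𝒮'[z'], Ĉ', i' for L'. Then there is an isomorphism Φ : Ĉ ≅ Ĉ' of schemes over Y
which maps the zero section i(ε(Y)) of Ĉ onto the locus at infinity Ĉ' − i'(C') of Ĉ', and the locus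
at infinity Ĉ − i(C) of Ĉ onto the zero section i'(ε'(Y)) of Ĉ' (both as subsets; existence of an
isomorphism — the published isomorphism is canonical and identifies the corresponding closed
subschemes). -/
theorem result {Y PC PC' : Scheme.{u}} (L L' : Y.Modules)
    (hL : PicF.IsInvertible L) (hL' : PicF.IsInvertible L') (hLq : Coh.IsQCoh L) (hL'q : Coh.IsQCoh L')
    (hLL' : Nonempty (CohB1.tensorMod L L' ≅ Coh.structureModule Y))
    (𝒮 𝒮h : RelProj.QCGrAlg Y) (j : L ⟶ 𝒮.toModule) (hS : RelProj.IsGrSymAlg L 𝒮 j)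
    (h0 : RelCone.StrZeroBij 𝒮)
    (ι : 𝒮.toQCAlg ⟶ 𝒮h.toQCAlg) (z : 𝒮h.presheaf.obj (op ⊤)) (hz : RelCone.IsPolyOver 𝒮 𝒮h ι z)
    (pC : PC ⟶ Y)
    (chartC : ∀ (U : Y.Opens) (hU : IsAffineOpen U), (((pC ⁻¹ᵁ U : PC.Opens) : Scheme.{u}) ≅ Proj (𝒮h.deg U hU)))
    (hPC : RelProj.IsRelProj 𝒮h pC chartC)
    (aug : 𝒮.toQCAlg ⟶ RelSpec.QCAlg.unit Y) (haug : RelCone.IsAugmentation 𝒮 aug)
    (ε : Y ⟶ 𝒮.toQCAlg.spec) (hε : RelCone.IsVertex 𝒮 aug ε)
    (i : 𝒮.toQCAlg.spec ⟶ PC) (hi : RelCone.IsConeImm 𝒮 hz pC chartC i)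
    (𝒮' 𝒮h' : RelProj.QCGrAlg Y) (j' : L' ⟶ 𝒮'.toModule) (hS' : RelProj.IsGrSymAlg L' 𝒮' j')
    (h0' : RelCone.StrZeroBij 𝒮')
    (ι' : 𝒮'.toQCAlg ⟶ 𝒮h'.toQCAlg) (z' : 𝒮h'.presheaf.obj (op ⊤)) (hz' : RelCone.IsPolyOver 𝒮' 𝒮h' ι' z')
    (pC' : PC' ⟶ Y)
    (chartC' : ∀ (U : Y.Opens) (hU : IsAffineOpen U), (((pC' ⁻¹ᵁ U : PC'.Opens) : Scheme.{u}) ≅ Proj (𝒮h'.deg U hU)))
    (hPC' : RelProj.IsRelProj 𝒮h' pC' chartC')
    (aug' : 𝒮'.toQCAlg ⟶ RelSpec.QCAlg.unit Y) (haug' : RelCone.IsAugmentation 𝒮' aug')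
    (ε' : Y ⟶ 𝒮'.toQCAlg.spec) (hε' : RelCone.IsVertex 𝒮' aug' ε')
    (i' : 𝒮'.toQCAlg.spec ⟶ PC') (hi' : RelCone.IsConeImm 𝒮' hz' pC' chartC' i') :
    ∃ Φ : PC ≅ PC', Φ.hom ≫ pC' = pC ∧
      Φ.hom.base '' Set.range (ε ≫ i).base = (Set.range i'.base)ᶜ ∧
        Φ.hom.base '' (Set.range i.base)ᶜ = Set.range (ε' ≫ i').base := by
  classical
  haveI : L.IsQuasicoherent := hLq
  haveI : L'.IsQuasicoherent := hL'q
  obtain ⟨ε₀⟩ := hLL'
  obtain ⟨Φ, hΦ, hA, hB⟩ := Groth.Agent.Lib.Helper3.ConeSwapB.exists_swap hL hL' ε₀ hS hz hPC hi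
    hS' hz' hPC' hi'
  have hE := Groth.Agent.Lib.Helper6.PointedProjCone.pointedProjCone_eq hz h0 hPC aug haug ε hε i hi
  have hE' := Groth.Agent.Lib.Helper6.PointedProjCone.pointedProjCone_eq hz' h0' hPC' aug' haug'
    ε' hε' i' hi'
  have hΦinv : ∀ w : PC', Φ.hom.base (Φ.inv.base w) = w := by
    intro w
    exact congrArg (fun f : PC' ⟶ PC' => f.base w) Φ.inv_hom_id
  refine ⟨Φ, hΦ, ?_, ?_⟩
  · ext w
    constructor
    · rintro ⟨x, hx, rfl⟩
      intro hw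
      have hxE : x ∈ ((RelCone.pointedProjCone 𝒮 hz pC chartC : PC.Opens) : Set PC) :=
        (hA x).1 hw
      rw [hE] at hxE
      exact hxE hx
    · intro hw
      refine ⟨Φ.inv.base w, ?_, hΦinv w⟩
      by_contra hcon
      have h1 : Φ.inv.base w ∈ ((RelCone.pointedProjCone 𝒮 hz pC chartC : PC.Opens) : Set PC) := by
        rw [hE]
        exact hcon
      have h2 := (hA (Φ.inv.base w)).2 h1
      rw [hΦinv w] at h2
      exact hw h2
  · ext w
    constructor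
    · rintro ⟨x, hx, rfl⟩
      by_contra hcon
      have h1 : Φ.hom.base x ∈
          ((RelCone.pointedProjCone 𝒮' hz' pC' chartC' : PC'.Opens) : Set PC') := by
        rw [hE']
        exact hcon
      exact hx ((hB x).1 h1)
    · intro hw
      refine ⟨Φ.inv.base w, ?_, hΦinv w⟩
      intro hx
      have h2 := (hB (Φ.inv.base w)).2 hx
      rw [hΦinv w] at h2
      have h3 : w ∈ ((RelCone.pointedProjCone 𝒮' hz' pC' chartC' : PC'.Opens) : Set PC') := h2
      rw [hE'] at h3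
      exact h3 hw

end Groth.Agent.S8313
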