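import Groth.Statements.S8315
import Mathlib
import Groth.Agent.Lib.Helper17.CoprodSec
import Groth.Agent.Lib.Helper17.AffIso
import Groth.Agent.Lib.Helper17.QCAlgCore
import Groth.Agent.Lib.Helper3.QCPush
import Groth.Agent.Lib.Helper3.QCLim

set_option autoImplicit false
universe u
open CategoryTheory CategoryTheory.Limits AlgebraicGeometry Opposite TopologicalSpace
noncomputable section
open EGA2

namespace Groth.Agent.S8315

/-- Commutation with direct sums: in the form it takes for the direct image: let f : X → S be an affine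
morphism and (F_i) a family of quasi-coherent O_X-modules. Then the canonical comparison morphism
from the direct sum of the f_*F_i to f_*(⊕ F_i), in the category of modules over the direct-image
algebra f_*O_X, is an isomorphism. (The published statement says that the module on X attached to a
quasi-coherent f_*O_X-module commutes with direct sums; through the equivalence on quasi-coherent
modules this is the same as the direct image commuting with direct sums of quasi-coherent modules.) -/
theorem result {X S : Scheme.{u}} (f : X ⟶ S) [IsAffineHom f]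
    {ι : Type u} (F : ι → X.Modules) (hF : ∀ i, Coh.IsQCoh (F i)) :
    IsIso (sigmaComparison (AMod.dirImg f) F) := by
  classical
  have hFq : ∀ i, (F i).IsQuasicoherent := hF
  let B := RelSpec.QCAlg.directImage f
  let G := AMod.dirImg f
  let T : AMod B ⥤ S.Modules := AMod.toOS B
  haveI hTr : T.ReflectsIsomorphisms :=
    Groth.Agent.Lib.Helper13.ModSheafBasic.restrictScalars_reflectsIsomorphisms (AMod.strHom B)
  haveI hTp : PreservesColimitsOfShape (Discrete ι) T :=
    Groth.Agent.Lib.Helper17.QCAlgCore.restrictScalars_preservesColimitsOfShape.{u, u, u}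
      (AMod.strHom B) (Discrete ι)
  set θ := sigmaComparison G F with hθ
  -- the colimit cofan downstairs
  let F' : ι → S.Modules := fun i => T.obj (G.obj (F i))
  let c1 : Cofan F' := Cofan.mk (T.obj (∐ fun i => G.obj (F i)))
    (fun i => T.map (Sigma.ι (fun i => G.obj (F i)) i))
  have hc1 : IsColimit c1 :=
    (isColimitMapCoconeCofanMkEquiv T (fun i => G.obj (F i)) _).1
      (isColimitOfPreserves T (coproductIsCoproduct (fun i => G.obj (F i))))
  -- quasi-coherence
  haveI hN : ((Scheme.Modules.pushforward f).obj (∐ F)).IsQuasicoherent := by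
    haveI := Groth.Agent.Lib.Helper3.QCLim.isQuasicoherent_colimit (Discrete.functor F)
      (fun j => hFq j.as)
    exact Groth.Agent.Lib.Helper3.QCSec.isQuasicoherent_pushforward f (∐ F)
  haveI hM : (T.obj (∐ fun i => G.obj (F i))).IsQuasicoherent := by
    have h1 : ∀ j, ((Discrete.functor F').obj j).IsQuasicoherent := fun j => by
      haveI := hFq j.as
      exact Groth.Agent.Lib.Helper3.QCSec.isQuasicoherent_pushforward f (F j.as)
    have h2 := Groth.Agent.Lib.Helper3.QCLim.isQuasicoherent_colimit (Discrete.functor F') h1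
    exact (SheafOfModules.isQuasicoherent S.ringCatSheaf).prop_of_iso
      (IsColimit.coconePointUniqueUpToIso (coproductIsCoproduct F') hc1) h2
  -- the key compatibility
  have hcomp : ∀ i, c1.inj i ≫ T.map θ = (Scheme.Modules.pushforward f).map (Sigma.ι F i) := by
    intro i
    change T.map (Sigma.ι (fun i => G.obj (F i)) i) ≫ T.map θ = _
    rw [← T.map_comp, hθ, ι_comp_sigmaComparison]
    rfl
  suffices h : IsIso (T.map θ) from isIso_of_reflects_iso θ T
  refine @Groth.Agent.Lib.Helper17.AffIso.isIso_of_bijective_on_affine_cover S _ _ hM hN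
    (T.map θ) ?_
  intro s
  obtain ⟨V, hV, hsV⟩ := Groth.Agent.Lib.Helper3.QCProps.exists_affine_nbhd s
  refine ⟨V, hV, hsV, ?_⟩
  have hW : IsAffineOpen (f ⁻¹ᵁ V) := hV.preimage f
  have hsec : ∀ (i : ι) (t : Γ(F i, f ⁻¹ᵁ V)),
      (T.map θ).app V ((c1.inj i).app V t) = (Sigma.ι F i).app (f ⁻¹ᵁ V) t := by
    intro i t
    exact congrArg (fun w => w.app V t) (hcomp i)
  constructor
  · refine (injective_iff_map_eq_zero ((T.map θ).app V).hom).2 ?_
    intro m hm
    obtain ⟨s, t, rfl⟩ := Groth.Agent.Lib.Helper17.CoprodSec.exists_finset_sum_of_isColimit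
      F' c1 hc1 hV m
    have h0 : ∑ i ∈ s, (Sigma.ι F i).app (f ⁻¹ᵁ V) (t i) = 0 := by
      refine Eq.trans ?_ hm
      change _ = ((T.map θ).app V) _
      rw [map_sum]
      exact Finset.sum_congr rfl fun i _ => (hsec i (t i)).symm
    have h1 := Groth.Agent.Lib.Helper17.CoprodSec.eq_zero_of_sum_eq_zero F (f ⁻¹ᵁ V) s t h0
    refine Finset.sum_eq_zero fun i hi => ?_
    have : t i = 0 := h1 i hi
    rw [this]
    exact map_zero ((c1.inj i).app V).hom
  · intro n
    obtain ⟨s, t, ht⟩ := Groth.Agent.Lib.Helper17.CoprodSec.exists_finset_sum F hW n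
    refine ⟨∑ i ∈ s, (c1.inj i).app V (t i), ?_⟩
    rw [ht, map_sum]
    exact Finset.sum_congr rfl fun i _ => hsec i (t i)

end Groth.Agent.S8315
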