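import Groth.Statements.S8316
import Mathlib
import Groth.Agent.Lib.Helper17.ModColimSec
import Groth.Agent.Lib.Helper17.AffIso
import Groth.Agent.Lib.Helper17.QCAlgCore
import Groth.Agent.Lib.Helper3.QCPush
import Groth.Agent.Lib.Helper3.QCLim

set_option autoImplicit false
universe u
open CategoryTheory CategoryTheory.Limits AlgebraicGeometry Opposite TopologicalSpace
noncomputable section
open EGA2

namespace Groth.Agent.S8316

/-- Commutation with inductive limits: in the form it takes for the direct image: let f : X → S be an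
affine morphism and (F_j)_{j ∈ J} an inductive system of quasi-coherent O_X-modules indexed by a
nonempty directed preordered set J. Then the canonical morphism from the inductive limit of the
f_*F_j to f_*(lim→ F_j), in the category of modules over the direct-image algebra f_*O_X, is an
isomorphism. (The published statement says that the module on X attached to a quasi-coherent
f_*O_X-module commutes with inductive limits; through the equivalence on quasi-coherent modules this
is the direct image commuting with inductive limits of quasi-coherent modules.) -/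
theorem result {X S : Scheme.{u}} (f : X ⟶ S) [IsAffineHom f]
    {J : Type u} [Preorder J] [Nonempty J] [IsDirected J (fun a b => a ≤ b)]
    (D : J ⥤ X.Modules) (hD : ∀ j, Coh.IsQCoh (D.obj j)) :
    IsIso (colimit.desc (D ⋙ AMod.dirImg f) ((AMod.dirImg f).mapCocone (colimit.cocone D))) := by
  have hDq : ∀ j, (D.obj j).IsQuasicoherent := hD
  let B := RelSpec.QCAlg.directImage f
  let T : AMod B ⥤ S.Modules := AMod.toOS B
  haveI hTr : T.ReflectsIsomorphisms :=
    Groth.Agent.Lib.Helper13.ModSheafBasic.restrictScalars_reflectsIsomorphisms (AMod.strHom B)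
  haveI hTp : PreservesColimitsOfShape J T :=
    Groth.Agent.Lib.Helper17.QCAlgCore.restrictScalars_preservesColimitsOfShape.{u, u, u}
      (AMod.strHom B) J
  set θ := colimit.desc (D ⋙ AMod.dirImg f) ((AMod.dirImg f).mapCocone (colimit.cocone D)) with hθ
  -- the two colimit cocones
  let c1 : Cocone ((D ⋙ AMod.dirImg f) ⋙ T) := T.mapCocone (colimit.cocone (D ⋙ AMod.dirImg f))
  have hc1 : IsColimit c1 := isColimitOfPreserves T (colimit.isColimit (D ⋙ AMod.dirImg f))
  let c2 : Cocone D := colimit.cocone D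
  have hc2 : IsColimit c2 := colimit.isColimit D
  -- quasi-coherence
  haveI hN : ((Scheme.Modules.pushforward f).obj (colimit D)).IsQuasicoherent := by
    haveI := Groth.Agent.Lib.Helper3.QCLim.isQuasicoherent_colimit D hDq
    exact Groth.Agent.Lib.Helper3.QCSec.isQuasicoherent_pushforward f (colimit D)
  haveI hM : (T.obj (colimit (D ⋙ AMod.dirImg f))).IsQuasicoherent := by
    have h1 : ∀ j, (((D ⋙ AMod.dirImg f) ⋙ T).obj j).IsQuasicoherent := fun j => by
      haveI := hDq j
      exact Groth.Agent.Lib.Helper3.QCSec.isQuasicoherent_pushforward f (D.obj j)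
    have h2 := Groth.Agent.Lib.Helper3.QCLim.isQuasicoherent_colimit ((D ⋙ AMod.dirImg f) ⋙ T) h1
    exact (SheafOfModules.isQuasicoherent S.ringCatSheaf).prop_of_iso
      (preservesColimitIso T (D ⋙ AMod.dirImg f)).symm h2
  -- the key compatibility
  have hcomp : ∀ j, c1.ι.app j ≫ T.map θ = (Scheme.Modules.pushforward f).map (c2.ι.app j) := by
    intro j
    change T.map (colimit.ι (D ⋙ AMod.dirImg f) j) ≫ T.map θ = _
    rw [← T.map_comp, hθ, colimit.ι_desc]
    rfl
  suffices h : IsIso (T.map θ) from isIso_of_reflects_iso θ T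
  refine @Groth.Agent.Lib.Helper17.AffIso.isIso_of_bijective_on_affine_cover S _ _ hM hN
    (T.map θ) ?_
  intro s
  obtain ⟨V, hV, hsV⟩ := Groth.Agent.Lib.Helper3.QCProps.exists_affine_nbhd s
  refine ⟨V, hV, hsV, ?_⟩
  have hW : IsAffineOpen (f ⁻¹ᵁ V) := hV.preimage f
  have hsec : ∀ (j : J) (t : Γ(D.obj j, f ⁻¹ᵁ V)),
      (T.map θ).app V ((c1.ι.app j).app V t) = (c2.ι.app j).app (f ⁻¹ᵁ V) t := by
    intro j t
    exact congrArg (fun w => w.app V t) (hcomp j)
  constructor
  · refine (injective_iff_map_eq_zero ((T.map θ).app V).hom).2 ?_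
    intro m hm
    obtain ⟨j, t, rfl⟩ := Groth.Agent.Lib.Helper17.ModColimSec.exists_section_of_colimit
      ((D ⋙ AMod.dirImg f) ⋙ T) c1 hc1 V
      (Groth.Agent.Lib.Helper17.ModColimSec.refinable_of_isAffineOpen hV) m
    have hm' : (c2.ι.app j).app (f ⁻¹ᵁ V) t = 0 := (hsec j t).symm.trans hm
    have h0 : (c2.ι.app j).app (f ⁻¹ᵁ V) t = (c2.ι.app j).app (f ⁻¹ᵁ V) 0 := by
      rw [hm', map_zero]
    obtain ⟨k, hjk, hk⟩ := Groth.Agent.Lib.Helper17.ModColimSec.exists_map_eq_of_ι_eq D c2 hc2
      (f ⁻¹ᵁ V) hW.isCompact j t 0 h0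
    rw [map_zero] at hk
    have hw : c1.ι.app j = ((D ⋙ AMod.dirImg f) ⋙ T).map (homOfLE hjk) ≫ c1.ι.app k :=
      (c1.w (homOfLE hjk)).symm
    rw [hw]
    change (c1.ι.app k).app V ((D.map (homOfLE hjk)).app (f ⁻¹ᵁ V) t) = 0
    rw [hk]
    exact map_zero ((c1.ι.app k).app V).hom
  · intro n
    obtain ⟨j, t, ht⟩ := Groth.Agent.Lib.Helper17.ModColimSec.exists_section_of_colimit D c2 hc2
      (f ⁻¹ᵁ V) (Groth.Agent.Lib.Helper17.ModColimSec.refinable_of_isAffineOpen hW) n
    exact ⟨(c1.ι.app j).app V t, (hsec j t).trans ht⟩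

end Groth.Agent.S8316
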