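import Groth.Statements.S8317
import Groth.Agent.Lib.Helper3.ConeNormal

set_option autoImplicit false
universe u
open CategoryTheory CategoryTheory.Limits AlgebraicGeometry Opposite TopologicalSpace
open scoped HomogeneousIdeal
noncomputable section
open EGA2

namespace Groth.Agent.S8317

/-- Let f : X → Y be a separated quasi-compact morphism such that f^♯ : O_Y → f_*O_X is an isomorphism,
L an invertible O_X-module, V = V(L) = Spec(Sym L) its line bundle with projection π : V → X, and C
= Spec((f∘π)_*O_V) the relative spectrum over Y of the direct-image algebra of f∘π. (The published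
statement takes C to be the affine cone Spec(O_Y ⊕ ⊕_{n≥1} f_*(L^{⊗n})); when f^♯ is an isomorphism
that cone is this relative spectrum.) Then: if X is integral, C is integral; and if X is locally
integral (every point has an integral open neighbourhood) and normal (all local rings integrally
closed domains), then C is normal. -/
theorem result {X Y : Scheme.{u}} (f : X ⟶ Y) [IsSeparated f] [QuasiCompact f]
    (hlam : IsIso f.c) (L : X.Modules) (hL : PicF.IsInvertible L) (hLq : Coh.IsQCoh L)
    (𝒜 : RelSpec.QCAlg X) (jL : L ⟶ 𝒜.toModule) (hA : RelSpec.IsSymAlg L 𝒜 jL) :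
    (IsIntegral X → IsIntegral (RelSpec.QCAlg.directImage (𝒜.π ≫ f)).spec) ∧
      ((∀ x : X, ∃ U : X.Opens, x ∈ U ∧ IsIntegral (U : Scheme.{u})) → Pi1.IsNormalScheme X →
        Pi1.IsNormalScheme (RelSpec.QCAlg.directImage (𝒜.π ≫ f)).spec) := by
  classical
  haveI : L.IsQuasicoherent := hLq
  constructor
  · intro hXint
    haveI := hXint
    have htop : IsIrreducible (((⊤ : X.Opens) : X.Opens) : Set X) := by
      rw [TopologicalSpace.Opens.coe_top]
      exact IrreducibleSpace.isIrreducible_univ X
    haveI hVred : IsReduced 𝒜.spec :=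
      Groth.Agent.Lib.Helper3.ConeNormal.isReduced_spec hL hA (fun x => ⟨⊤, trivial, htop⟩)
    have hVirr := Groth.Agent.Lib.Helper3.ConeNormal.isIrreducible_preimage hL hA ⊤ htop
    haveI : IrreducibleSpace 𝒜.spec := by
      rw [irreducibleSpace_def]
      have h2 : (𝒜.π ⁻¹ᵁ (⊤ : X.Opens)) = ⊤ := rfl
      rw [h2, TopologicalSpace.Opens.coe_top] at hVirr
      exact hVirr
    haveI : IsIntegral 𝒜.spec := isIntegral_of_irreducibleSpace_of_isReduced _
    exact Groth.Agent.Lib.Helper3.ConeNormal.isIntegral_directImage_spec (𝒜.π ≫ f)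
  · intro hloc hX
    have hloc' : ∀ x : X, ∃ U : X.Opens, x ∈ U ∧ IsIrreducible (U : Set X) := by
      intro x
      obtain ⟨U, hxU, hU⟩ := hloc x
      haveI := hU
      exact ⟨U, hxU, isIrreducible_iff_irreducibleSpace.mpr
        (inferInstance : IrreducibleSpace ↥(U : Scheme.{u}))⟩
    haveI : IsReduced X := by
      haveI : ∀ x : X, _root_.IsReduced (X.presheaf.stalk x) := fun x => by
        haveI := (hX x).1
        infer_instance
      exact isReduced_of_isReduced_stalk X
    have hV := Groth.Agent.Lib.Helper3.ConeNormal.isNormalScheme_spec hL hA hX hloc'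
    apply Groth.Agent.Lib.Helper3.ConeNormal.isNormalScheme_directImage_spec (𝒜.π ≫ f) hV
    intro y
    obtain ⟨W, hWa, hyW, hirr⟩ :=
      Groth.Agent.Lib.Helper3.ConeNormal.exists_affine_irreducible_preimage f hlam hloc' y
    refine ⟨W, hWa, hyW, ?_⟩
    rw [Scheme.Hom.comp_preimage]
    exact Groth.Agent.Lib.Helper3.ConeNormal.isIrreducible_preimage hL hA (f ⁻¹ᵁ W) hirr

end Groth.Agent.S8317
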