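import Groth.Statements.S8324
import Groth.Agent.Lib.Helper3.RelTilde

set_option autoImplicit false
universe u
open CategoryTheory CategoryTheory.Limits AlgebraicGeometry Opposite TopologicalSpace
open scoped HomogeneousIdeal
noncomputable section
open EGA2

namespace Groth.Agent.S8324

/-- If the quasi-coherent graded 𝒮-module ℳ satisfies (TN) — its pieces of all large degrees vanish —
then the module (ℳ(n))~ on P = Proj(𝒮) (given through its chartwise identifications) is zero, for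
every integer n. -/
theorem result {Y P : Scheme.{u}} (𝒮 : RelProj.QCGrAlg Y) (p : P ⟶ Y)
    (chart : ∀ (U : Y.Opens) (hU : IsAffineOpen U), (((p ⁻¹ᵁ U : P.Opens) : Scheme.{u}) ≅ Proj (𝒮.deg U hU)))
    (hP : RelProj.IsRelProj 𝒮 p chart) (ℳ : RelProj.GrModule 𝒮)
    (hℳ : Coh.IsQCoh ((AMod.toOS 𝒮.toQCAlg).obj ℳ.mod)) (hTN : ℳ.IsTN) (n : ℤ) (F : P.Modules)
    (lam : ∀ (U : Y.Opens) (hU : IsAffineOpen U),
      F ⟶ (Scheme.Modules.pushforward (RelProj.emb p chart U hU)).obj (GrMod.tilde (𝒮.deg U hU) (ℳ.deg U hU) n))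
    (hF : RelProj.IsRelTilde 𝒮 p chart ℳ n F lam) : IsZero F := by
  obtain ⟨n₀, hn₀⟩ := hTN
  refine Groth.Agent.Lib.Helper3.ModBasis.isZero_of_zero_on_basis _ (fun W x hx => ?_)
  obtain ⟨U, hU, d, hd, f, hf, V, hxV, hVW, hVU, hV⟩ :=
    Groth.Agent.Lib.Helper3.RelTilde.exists_basic p chart W x hx
  refine ⟨V, hxV, hVW, fun t => ?_⟩
  exact Groth.Agent.Lib.Helper3.RelTilde.eq_zero_on_chart (𝒮.deg U hU) (ℳ.deg U hU)
    (RelProj.emb p chart U hU) n₀ (hn₀ U hU) n (lam U hU) V hd f hf hV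
    ((hF.bijective U hU V hVU).1) t

end Groth.Agent.S8324
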