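import Groth.Statements.S8333
import Groth.Agent.Lib.Helper3.RelTwistGG

set_option autoImplicit false
universe u
open CategoryTheory CategoryTheory.Limits AlgebraicGeometry Opposite TopologicalSpace
open scoped HomogeneousIdeal
noncomputable section
open EGA2

namespace Groth.Agent.S8333

/-- Let Y be a scheme with quasi-compact underlying space, 𝒮 a quasi-coherent positively graded
O_Y-algebra generated by 𝒮_1 with 𝒮_1 of finite type, p : P = Proj(𝒮) → Y, and F a quasi-coherent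
O_P-module of finite type. Then there is n₀ such that for all n ≥ n₀ the canonical morphism
p^*(p_*(F(n))) → F(n) is an epimorphism, where F(n) = F ⊗ O_P(n) with O_P(n) given through its
chartwise identifications. -/
theorem result {Y P : Scheme.{u}} (𝒮 : RelProj.QCGrAlg Y) (p : P ⟶ Y)
    (chart : ∀ (U : Y.Opens) (hU : IsAffineOpen U), (((p ⁻¹ᵁ U : P.Opens) : Scheme.{u}) ≅ Proj (𝒮.deg U hU)))
    (hP : RelProj.IsRelProj 𝒮 p chart) [CompactSpace Y] (hgen : 𝒮.IsGenDegOne)
    (hft : 𝒮.IsFTDeg 1) (F : P.Modules) (hFq : Coh.IsQCoh F) (hFt : CohB1.IsFT F) :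
    ∃ n₀ : ℤ, ∀ (n : ℤ), n₀ ≤ n → ∀ (L : P.Modules)
      (lam : ∀ (U : Y.Opens) (hU : IsAffineOpen U),
      L ⟶ (Scheme.Modules.pushforward (RelProj.emb p chart U hU)).obj (GrTwist.twist (𝒮.deg U hU) n)),
      RelProj.IsRelTwist 𝒮 p chart n L lam →
        Epi ((Scheme.Modules.pullbackPushforwardAdjunction p).counit.app (CohB1.tensorMod F L)) := by
  classical
  haveI : F.IsQuasicoherent := hFq
  haveI : F.IsFiniteType := hFt
  have hcov : ∀ y : Y, ∃ V : Y.Opens, IsAffineOpen V ∧ y ∈ V :=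
    fun y => Groth.Agent.Lib.Helper3.ProjQMap.exists_affine_mem y
  choose V hV hyV using hcov
  obtain ⟨t, ht⟩ := isCompact_univ.elim_finite_subcover (fun y : Y => ((V y : Y.Opens) : Set Y))
    (fun y => (V y).isOpen) (fun y _ => Set.mem_iUnion.mpr ⟨y, hyV y⟩)
  have hk := fun y : Y => Groth.Agent.Lib.Helper3.RelTwistGG.exists_isFinSpanned_restrict hP hgen
    hft F (V y) (hV y)
  choose k₀ hk₀ using hk
  refine ⟨((t.sup k₀ : ℕ) : ℤ), fun n hn L lam hL => ?_⟩
  obtain ⟨k, rfl⟩ : ∃ k : ℕ, n = k :=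
    ⟨n.toNat, (Int.toNat_of_nonneg (le_trans (Int.natCast_nonneg _) hn)).symm⟩
  have hkk : t.sup k₀ ≤ k := by exact_mod_cast hn
  have hLinv : PicF.IsInvertible L :=
    Groth.Agent.Lib.Helper3.GrTwistGen.isInvertible_of_isRelTwist 𝒮 p chart hgen _ L lam
      hL.bijective
  haveI := Groth.Agent.Lib.Helper3.InvCoh.isQuasicoherent_tensorMod F L hLinv
  apply Groth.Agent.Lib.Helper3.CounitGG.epi_counit_of_isGloballyGenerated_restrict
  intro x
  obtain ⟨y, hy⟩ := Set.mem_iUnion.mp (ht (Set.mem_univ (p x)))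
  obtain ⟨hyt, hxy⟩ := Set.mem_iUnion.mp hy
  refine ⟨V y, hxy, ?_⟩
  haveI : ((CohB1.tensorMod F L).restrict (p ⁻¹ᵁ V y).ι).IsQuasicoherent :=
    Scheme.Modules.isQuasicoherent_restrictFunctor (p ⁻¹ᵁ V y).ι _
  exact ((hk₀ y k ((Finset.le_sup (f := k₀) hyt).trans hkk) L lam hL).isSpanned).isGloballyGenerated

end Groth.Agent.S8333
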