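import Groth.Statements.S8346
import Groth.Agent.S8344

set_option autoImplicit false
universe u
open ConstrTop

namespace Groth.Agent.S8346

open TopologicalSpace in
/-- Let X be a topological space admitting a basis of open subsets which are retrocompact in X. Then
every locally constructible subset T of X is retrocompact in X. -/
theorem result {X : Type u} [TopologicalSpace X]
    {B : Set (Set X)} (hB : IsTopologicalBasis B) (hBr : ∀ U ∈ B, IsRetrocompact U) {T : Set X}
    (hT : Topology.IsLocallyConstructible T) : IsRetrocompact T := by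
  intro K hKc hKo
  have key : ∀ x ∈ K, ∃ V, IsOpen V ∧ x ∈ V ∧ V ⊆ K ∧ IsCompact (T ∩ V) := by
    intro x hx
    obtain ⟨U, hxU, hUo, hUT⟩ := hT x
    obtain ⟨V, hVB, hxV, hVUK⟩ := hB.mem_nhds_iff.mp (Filter.inter_mem hxU (hKo.mem_nhds hx))
    have hVU : V ⊆ U := hVUK.trans Set.inter_subset_left
    have hVK : V ⊆ K := hVUK.trans Set.inter_subset_right
    have hVo : IsOpen V := hB.isOpen hVB
    have hVc : IsCompact V := by
      have := hBr V hVB hKc hKo
      rwa [Set.inter_eq_left.mpr hVK] at this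
    refine ⟨V, hVo, hxV, hVK, ?_⟩
    have h1 : IsRetrocompact (Subtype.val ⁻¹' T : Set U) := Groth.Agent.S8344.result hUT
    have hVc' : IsCompact (Subtype.val ⁻¹' V : Set U) := by
      rw [Subtype.isCompact_iff, Subtype.image_preimage_coe, Set.inter_eq_right.mpr hVU]
      exact hVc
    have h2 : IsCompact ((Subtype.val ⁻¹' T : Set U) ∩ (Subtype.val ⁻¹' V : Set U)) :=
      h1 hVc' (hVo.preimage continuous_subtype_val)
    have h3 : Subtype.val '' ((Subtype.val ⁻¹' T : Set U) ∩ (Subtype.val ⁻¹' V : Set U)) = T ∩ V := by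
      rw [← Set.preimage_inter, Subtype.image_preimage_coe]
      ext y
      simp only [Set.mem_inter_iff]
      constructor
      · rintro ⟨-, h⟩; exact h
      · rintro ⟨hT', hV'⟩; exact ⟨hVU hV', hT', hV'⟩
    rw [← h3]
    exact h2.image continuous_subtype_val
  choose! V hVo hxV hVK hVT using key
  obtain ⟨σ, hσK, hKσ⟩ := hKc.elim_nhds_subcover V (fun x hx => (hVo x hx).mem_nhds (hxV x hx))
  have : T ∩ K = ⋃ x ∈ σ, T ∩ V x := by
    ext y
    simp only [Set.mem_inter_iff, Set.mem_iUnion, exists_prop]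
    constructor
    · rintro ⟨hyT, hyK⟩
      obtain ⟨x, hxσ, hy⟩ := Set.mem_iUnion₂.mp (hKσ hyK)
      exact ⟨x, hxσ, hyT, hy⟩
    · rintro ⟨x, hxσ, hyT, hy⟩
      exact ⟨hyT, hVK x (hσK x hxσ) hy⟩
  rw [this]
  exact σ.isCompact_biUnion fun x hx => hVT x (hσK x hx)

end Groth.Agent.S8346
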