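import Groth.Statements.S8348
import Groth.Agent.Lib.Helper13.CyclesSplit

set_option autoImplicit false
universe v u
open CategoryTheory CategoryTheory.Limits
open HomAlg3

namespace Groth.Agent.S8348

/-- Let C be an abelian category and Q a cochain complex of objects of C in degrees 0, 1, 2, ... such
that every Q^i is injective, every homology object H^i(Q) with i ≥ 1 is zero, and every inclusion of
the cycles Z^i(Q) into Q^i (i ≥ 0) is a split monomorphism. Then Q is an injective object of the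
category of cochain complexes of C indexed by the natural numbers. (The published statement is for
the narrower class of complexes with Z^i(Q) = B^i(Q) for every i ≥ 0, which in degree 0, where there
is no incoming differential, forces Z^0(Q) = 0; this row allows a nonzero Z^0(Q), so that it pairs
with the embedding of an arbitrary complex into such a Q. Such a Q is the direct sum of Z^0(Q)
placed in degree 0 and of the two-term complexes with Z^{i+1}(Q) in degrees i and i+1 and the
identity as differential, and the published argument carries over with Z^i(Q) in place of B^i(Q) as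
the first summand of Q^i.) -/
theorem result {C : Type u} [Category.{v} C] [Abelian C]
    (Q : CochainComplex C ℕ) (hinj : ∀ i : ℕ, Injective (Q.X i)) (hac : ∀ i : ℕ, IsZero (Q.homology (i + 1)))
    (hsplit : ∀ i : ℕ, IsSplitMono (Q.iCycles i)) : Injective Q := by
  let r : ∀ i, Q.X i ⟶ Q.cycles i := fun i => Lib.Helper13.cyclesRetr Q i (hac i) (hsplit i)
  let s : ∀ i, Q.cycles (i + 1) ⟶ Q.X i := fun i => Lib.Helper13.cyclesSect Q i (hac i) (hsplit i)
  have hfr : ∀ i, Q.iCycles i ≫ r i = 𝟙 _ :=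
    fun i => Lib.Helper13.iCycles_cyclesRetr Q i (hac i) (hsplit i)
  have hsg : ∀ i, s i ≫ Q.toCycles i (i + 1) = 𝟙 _ :=
    fun i => Lib.Helper13.cyclesSect_toCycles Q i (hac i) (hsplit i)
  have hid : ∀ i, r i ≫ Q.iCycles i + Q.toCycles i (i + 1) ≫ s i = 𝟙 (Q.X i) :=
    fun i => Lib.Helper13.cyclesRetr_iCycles_add Q i (hac i) (hsplit i)
  have hrf : ∀ i, r i ≫ Q.iCycles i = 𝟙 (Q.X i) - Q.toCycles i (i + 1) ≫ s i :=
    fun i => Lib.Helper13.cyclesRetr_iCycles Q i (hac i) (hsplit i)
  have hsd : ∀ i, s i ≫ Q.d i (i + 1) = Q.iCycles (i + 1) := by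
    intro i
    rw [← Q.toCycles_i i (i + 1), ← Category.assoc, hsg, Category.id_comp]
  clear_value r s
  refine ⟨fun {A B} g f hf => ?_⟩
  let γ : ∀ i, A.X i ⟶ Q.cycles i := fun i => g.f i ≫ r i
  have hγ : ∀ i, γ i = g.f i ≫ r i := fun i => rfl
  let ρ : ∀ i, B.X i ⟶ Q.cycles i := fun i =>
    haveI := hinj i
    Injective.factorThru (γ i ≫ Q.iCycles i) (f.f i) ≫ r i
  have hρ : ∀ i, f.f i ≫ ρ i = γ i := by
    intro i
    haveI := hinj i
    change f.f i ≫ Injective.factorThru (γ i ≫ Q.iCycles i) (f.f i) ≫ r i = γ i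
    rw [← Category.assoc, Injective.comp_factorThru, Category.assoc, hfr, Category.comp_id]
  clear_value ρ γ
  let hh : ∀ i, B.X i ⟶ Q.X i := fun i =>
    ρ i ≫ Q.iCycles i + B.d i (i + 1) ≫ ρ (i + 1) ≫ s i
  have hcomm : ∀ i j, (ComplexShape.up ℕ).Rel i j → hh i ≫ Q.d i j = B.d i j ≫ hh j := by
    intro i j hij
    obtain rfl : i + 1 = j := hij
    change (ρ i ≫ Q.iCycles i + B.d i (i + 1) ≫ ρ (i + 1) ≫ s i) ≫ Q.d i (i + 1) =
      B.d i (i + 1) ≫ (ρ (i + 1) ≫ Q.iCycles (i + 1) +
        B.d (i + 1) (i + 1 + 1) ≫ ρ (i + 1 + 1) ≫ s (i + 1))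
    rw [Preadditive.add_comp, Category.assoc, Q.iCycles_d, comp_zero, zero_add, Category.assoc,
      Category.assoc, hsd, Preadditive.comp_add, B.d_comp_d_assoc, zero_comp, add_zero]
  refine ⟨⟨hh, hcomm⟩, ?_⟩
  ext i
  change f.f i ≫ (ρ i ≫ Q.iCycles i + B.d i (i + 1) ≫ ρ (i + 1) ≫ s i) = g.f i
  have hz : A.d i (i + 1) ≫ g.f (i + 1) ≫ Q.toCycles (i + 1) (i + 1 + 1) = 0 := by
    rw [← cancel_mono (Q.iCycles (i + 1 + 1)), Category.assoc, Category.assoc, Q.toCycles_i,
      zero_comp, g.comm, A.d_comp_d_assoc, zero_comp]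
  have hkey : g.f i ≫ Q.toCycles i (i + 1) = A.d i (i + 1) ≫ γ (i + 1) := by
    rw [← cancel_mono (Q.iCycles (i + 1)), Category.assoc, Q.toCycles_i, g.comm, hγ,
      Category.assoc, Category.assoc, hrf, Preadditive.comp_sub, Preadditive.comp_sub,
      Category.comp_id]
    have hz' : A.d i (i + 1) ≫ g.f (i + 1) ≫ Q.toCycles (i + 1) (i + 1 + 1) ≫ s (i + 1) = 0 := by
      have := hz =≫ s (i + 1)
      simpa only [Category.assoc, zero_comp] using this
    rw [hz', sub_zero]
  rw [Preadditive.comp_add, ← Category.assoc, hρ, ← Category.assoc (f.f i), f.comm, Category.assoc,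
    ← Category.assoc (f.f (i + 1)), hρ, ← Category.assoc (A.d i (i + 1)), ← hkey, hγ,
    Category.assoc, Category.assoc, ← Preadditive.comp_add, hid, Category.comp_id]

end Groth.Agent.S8348
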