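import Groth.Statements.S8351
import Groth.Agent.Lib.Helper5.HyperPush
import Groth.Agent.Lib.Helper5.HDULocal
import Groth.Agent.Lib.Helper5.BCBeta
import Groth.Agent.Lib.Helper2.RDBridge

set_option autoImplicit false
universe u
open CategoryTheory CategoryTheory.Limits TopologicalSpace
open CohCx

namespace Groth.Agent.S8351

/-- For abelian sheaves on topological spaces and a complex bounded below. Let f : X ⟶ Y be a continuous
map and K a bounded below complex of abelian sheaves on X. For every p, the p-th cohomology sheaf of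
the derived direct image R f_*(K) (bounded below right derived functor of f_*, computed with
injective resolutions) is isomorphic to the sheaf associated with the presheaf U ↦ H^p(f⁻¹(U), K) on
Y, where H^p(V, K) denotes hypercohomology (morphisms from the free abelian sheaf on V to K[p] in
the derived category). (The published statement is for modules over arbitrary ringed spaces,
complexes unbounded via Cartan-Eilenberg resolutions, and a canonical isomorphism; here only the
existence of an isomorphism is asserted, and the derived categories are assumed to exist with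
morphism types in the universe of X and Y.) -/
theorem result {X Y : TopCat.{u}} (f : X ⟶ Y)
    [HasDerivedCategory.{u} (CohTop.Ab X)] [HasDerivedCategory.{u} (CohTop.Ab Y)]
    (K : CochainComplex.Plus (CohTop.Ab X)) (p : ℤ) :
    Nonempty ((DerivedCategory.Plus.homologyFunctor (CohTop.Ab Y) p).obj
        ((CohTop.push f).rightDerivedFunctorPlus.obj
          (DerivedCategory.Plus.Qh.obj ((HomotopyCategory.Plus.quotient (CohTop.Ab X)).obj K))) ≅
      (presheafToSheaf (Opens.grothendieckTopology Y) AddCommGrpCat.{u}).obj
        ((Opens.map f).op ⋙ CohCx.HDUPresheaf (DerivedCategory.Q.obj K.obj) p)) := by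
  classical
  obtain ⟨a, ha⟩ := K.property
  obtain ⟨L, hL, i, hi⟩ := CochainComplex.Plus.exists_quasiIso_injective K a
  let J : CochainComplex.Plus (CohTop.Ab X) := (InjectiveObject.ι _).mapCochainComplexPlus.obj L
  have hinj : ∀ n, Injective (J.obj.X n) := fun n => (L.obj.X n).property
  have hQ : QuasiIso i.hom := hi
  have := Groth.Agent.Lib.Helper2.RDPlus.isIso_PlusQ_map i
  let e : DerivedCategory.Plus.Q.obj K ≅ DerivedCategory.Plus.Q.obj J :=
    asIso (DerivedCategory.Plus.Q.map i)
  let lhs := (Groth.Agent.Lib.Helper2.RDBridge.HD p).mapIso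
      (Groth.Agent.Lib.Helper2.RDPlus.vIso (CohTop.push f) K J e) ≪≫
    Groth.Agent.Lib.Helper2.RDBridge.hIso (CohTop.push f) p J
  have : CochainComplex.IsStrictlyGE J.obj a :=
    inferInstanceAs (CochainComplex.IsStrictlyGE (((InjectiveObject.ι (CohTop.Ab X)).mapHomologicalComplex
      (ComplexShape.up ℤ)).obj L.obj) a)
  have : J.obj.IsKInjective := CochainComplex.isKInjective_of_injective J.obj a
  have : ∀ n, Injective ((Groth.Agent.Lib.Helper5.HyperPush.L' f J.obj).X n) := fun n =>
    Injective.injective_of_adjoint (Groth.Agent.Lib.Helper5.ClosedPsi.adj f) (J.obj.X n)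
  have : (Groth.Agent.Lib.Helper5.HyperPush.L' f J.obj).IsKInjective :=
    CochainComplex.isKInjective_of_injective _ a
  let eK : DerivedCategory.Q.obj K.obj ≅ DerivedCategory.Q.obj J.obj :=
    asIso (DerivedCategory.Q.map i.hom)
  let r1 : (Opens.map f).op ⋙ CohCx.HDUPresheaf (DerivedCategory.Q.obj K.obj) p ≅
      (Opens.map f).op ⋙ CohCx.HDUPresheaf (DerivedCategory.Q.obj J.obj) p :=
    Functor.isoWhiskerLeft _ (Functor.isoWhiskerLeft _
      (preadditiveYoneda.mapIso ((shiftFunctor _ p).mapIso eK)))
  let r2 := Groth.Agent.Lib.Helper5.HyperPush.presheafIso f J.obj p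
  obtain ⟨r3⟩ := Groth.Agent.Lib.Helper5.HDULocal.nonempty_sheafify_HDUPresheaf_iso
    (DerivedCategory.Q.obj (Groth.Agent.Lib.Helper5.HyperPush.L' f J.obj)) p
  let r4 : CohCx.HD (DerivedCategory.Q.obj (Groth.Agent.Lib.Helper5.HyperPush.L' f J.obj)) p ≅
      (Groth.Agent.Lib.Helper5.HyperPush.L' f J.obj).homology p :=
    (DerivedCategory.homologyFunctorFactors _ p).app _
  exact ⟨lhs ≪≫ r4.symm ≪≫ r3.symm ≪≫ (presheafToSheaf _ _).mapIso (r1 ≪≫ r2).symm⟩

end Groth.Agent.S8351
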