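import Groth.Statements.S8353
-- import your own Groth.Agent.* helpers here
import Mathlib
import Groth.Agent.Lib.Helper22.FiltComplete

set_option autoImplicit false
universe u
open HomAlg3

namespace Groth.Agent.S8353

/-- Let S be a Noetherian ring which is separated and complete for the adic topology of an ideal J, and
let M be an S-module with a decreasing filtration (F^p M)_{p ∈ ℤ} by submodules such that F^p M = M
for some p, J·F^p M ⊆ F^{p+1} M for all p, and ⋂_p F^p M = 0. Then the following are equivalent: (a)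
M is a finitely generated S-module and J·F^p M = F^{p+1} M for all large p; (c) every F^p M /
F^{p+1} M is a finitely generated S-module and, for all large p, the map J ⊗ (F^p M/F^{p+1} M) ⟶
F^{p+1} M/F^{p+2} M is surjective, that is F^{p+1} M = J·F^p M + F^{p+2} M. (The published statement
also lists a third equivalent condition, finite generation of the associated graded module over the
associated graded ring; this row states the equivalence of the other two.) -/
theorem result {S : Type u} [CommRing S] [IsNoetherianRing S]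
    (J : Ideal S) [IsAdicComplete J S] {M : Type u} [AddCommGroup M] [Module S M]
    (F : ℤ → Submodule S M) (hF : Antitone F) (hcod : ∃ p₀ : ℤ, F p₀ = ⊤)
    (hJ : ∀ p : ℤ, J • F p ≤ F (p + 1)) (hsep : ⨅ p : ℤ, F p = ⊥) :
    (Module.Finite S M ∧ ∃ p₁ : ℤ, ∀ p : ℤ, p₁ ≤ p → J • F p = F (p + 1)) ↔
      ((∀ p : ℤ, (Submodule.map (F (p + 1)).mkQ (F p)).FG) ∧
        ∃ p₁ : ℤ, ∀ p : ℤ, p₁ ≤ p → F (p + 1) = J • F p ⊔ F (p + 2)) := by
  constructor
  · rintro ⟨hfin, p₁, hp₁⟩
    haveI : IsNoetherian S M := isNoetherian_of_isNoetherianRing_of_finite S M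
    refine ⟨fun p => (IsNoetherian.noetherian (F p)).map _, p₁, fun p hp => ?_⟩
    have h1 : F (p + 2) ≤ J • F p := by
      rw [hp₁ p hp]
      exact hF (by omega)
    rw [sup_eq_left.2 h1, hp₁ p hp]
  · rintro ⟨hgr, p₁, hp₁⟩
    obtain ⟨p₀, hp₀⟩ := hcod
    set q : ℤ := max p₀ p₁ with hq
    obtain ⟨hfg, hpow⟩ := Groth.Agent.Lib.Helper22.FiltComplete.key J F hF hJ hsep q (hgr q)
      (fun p hp => hp₁ p (le_trans (le_max_right _ _) hp))
    have hdesc : ∀ n : ℕ, (F (q - n)).FG := by
      intro n
      induction n with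
      | zero => simpa using hfg
      | succ n ih =>
        have e : q - (n : ℤ) = (q - ((n + 1 : ℕ) : ℤ)) + 1 := by push_cast; ring
        rw [e] at ih
        refine Submodule.fg_of_fg_map_of_fg_inf_ker (F (q - ((n + 1 : ℕ) : ℤ) + 1)).mkQ (hgr _) ?_
        rw [Submodule.ker_mkQ, inf_eq_right.2 (hF (by omega))]
        exact ih
    refine ⟨?_, q, fun p hp => ?_⟩
    · rw [Module.finite_def, ← hp₀]
      have : p₀ = q - ((q - p₀).toNat : ℤ) := by
        have : p₀ ≤ q := le_max_left _ _
        omega
      rw [this]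
      exact hdesc _
    · obtain ⟨n, rfl⟩ : ∃ n : ℕ, p = q + n := ⟨(p - q).toNat, by omega⟩
      have h1 := hpow (n + 1)
      rw [hpow n, ← mul_smul, ← pow_succ']
      rw [← h1]
      congr 1
      push_cast
      ring

end Groth.Agent.S8353
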