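import Groth.Statements.S8355
import Groth.Agent.Lib.Helper13.SpSeqBasic

set_option autoImplicit false
universe v u
open CategoryTheory CategoryTheory.Limits
open SpSeq

namespace Groth.Agent.S8355

/-- Let E be a spectral sequence in an abelian category and suppose E_r^{p,q} = 0. Then E_k^{p,q} = 0
for every k ≥ r, and E_∞^{p,q} = 0: for any abutment data (H^n) of E, the graded piece gr^p H^{p+q},
identified by the abutment with the limit term at (p, q), is zero. -/
theorem result {C : Type u} [Category.{v} C] [Abelian C] {r₀ : ℤ}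
    (E : CohomologicalSpectralSequence C r₀) (r : ℤ) (hr : r₀ ≤ r) (pq : ℤ × ℤ)
    (h : IsZero ((E.page r hr).X pq)) :
    (∀ (k : ℤ) (hk : r ≤ k), IsZero ((E.page k (hr.trans hk)).X pq)) ∧
      ∀ (H : ℤ → C) (a : SpSeq.Abutment E H),
        IsZero (SpSeq.grPiece (a.fil (pq.1 + pq.2)) (a.anti (pq.1 + pq.2)) pq.1) := by
  refine ⟨fun k hk => Lib.Helper13.isZero_page_of_le E pq r hr h k hk, fun H a => ?_⟩
  refine IsZero.of_iso ?_ (a.β pq).symm
  obtain ⟨e⟩ := Lib.Helper13.nonempty_pageIso_of_stationary E pq (a.rk pq) (a.stat pq)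
    (max r (a.rk pq)) (le_max_right _ _)
  exact IsZero.of_iso (Lib.Helper13.isZero_page_of_le E pq r hr h _ (le_max_left _ _)) e

end Groth.Agent.S8355
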