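import Groth.Statements.S8357
import Groth.Agent.Lib.Helper13.LieSAdd

set_option autoImplicit false
universe u
open CategoryTheory MonObj AlgebraicGeometry
open LieS

namespace Groth.Agent.S8357

/-- For a group scheme G over a scheme S and an affine S-scheme T = Spec B, the map induced on
Lie(G/S)(T) by the n-th power map of G is multiplication by n; that is, for v in Lie(G/S)(T) and an
integer n, the n-th power of v in the group law inherited from G is the rescaling of v by the image
of n in B. -/
theorem result (S : Scheme.{u}) (G : Over S) [GrpObj G] (B : Type u) [CommRing B]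
    (f : Spec (CommRingCat.of B) ⟶ S) (v : LieS.Lie G B f) (n : ℤ) :
    v ^ n = ((n : B) • v : LieS.Lie G B f) := by
  apply Subtype.ext
  rw [Subgroup.coe_zpow, LieS.smul_val]
  have hv : LieS.zeroSec B f ≫ v.1 = 1 := (LieS.mem_Lie_iff G B f v.1).1 v.2
  have h1 : Lib.Helper13.scaleMonoidHom B f v.1 hv (Multiplicative.ofAdd 1) = v.1 :=
    Lib.Helper13.scale_one_comp B f v.1
  have h2 : Lib.Helper13.scaleMonoidHom B f v.1 hv (Multiplicative.ofAdd (n : B)) =
      LieS.scale B f (n : B) ≫ v.1 := rfl
  rw [← h2]
  conv_lhs => rw [← h1]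
  rw [← map_zpow, ← ofAdd_zsmul, zsmul_one]

end Groth.Agent.S8357
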