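import Groth.Statements.S8358


set_option autoImplicit false
universe u
open CategoryTheory MonObj AlgebraicGeometry
open LieS

namespace Groth.Agent.S8358


open TrivSqZeroExt WithConv

section

variable (R : Type u) [CommRing R] (M : Type) [AddCommGroup M]
  (B : Type u) [CommRing B] [Algebra R B]

/-- The `R`-algebra homomorphism `R[M] → B[ε]` attached to a `Spec B[ε]`-point of `D(M)`. -/
noncomputable def psi
    (v : LieS.dpt B (Spec.map (CommRingCat.ofHom (algebraMap R B))) ⟶ Red.diag R M) :
    MonoidAlgebra R (Multiplicative M) →ₐ[R] DualNumber B :=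
  (Spec.mapMulEquiv.symm ((LieS.dptIso B).inv ≫ v)).ofConv

lemma psi_mul (v w : LieS.dpt B (Spec.map (CommRingCat.ofHom (algebraMap R B))) ⟶ Red.diag R M)
    (m : Multiplicative M) :
    psi R M B (v * w) (MonoidAlgebra.single m 1) =
      psi R M B v (MonoidAlgebra.single m 1) * psi R M B w (MonoidAlgebra.single m 1) := by
  unfold psi
  rw [MonObj.comp_mul, map_mul]
  exact MonoidAlgebra.convMul_algHom_single_one _ _ m

lemma psi_injective
    (v w : LieS.dpt B (Spec.map (CommRingCat.ofHom (algebraMap R B))) ⟶ Red.diag R M)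
    (h : psi R M B v = psi R M B w) : v = w := by
  unfold psi at h
  have h1 := Spec.mapMulEquiv.symm.injective (WithConv.ofConv_injective h)
  exact (cancel_epi (LieS.dptIso B).inv).1 h1

/-- The point attached to an algebra homomorphism. -/
noncomputable def pointOf (φ : MonoidAlgebra R (Multiplicative M) →ₐ[R] DualNumber B) :
    LieS.dpt B (Spec.map (CommRingCat.ofHom (algebraMap R B))) ⟶ Red.diag R M :=
  (LieS.dptIso B).hom ≫ Spec.mapMulEquiv (toConv φ)

lemma psi_pointOf (φ : MonoidAlgebra R (Multiplicative M) →ₐ[R] DualNumber B) :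
    psi R M B (pointOf R M B φ) = φ := by
  unfold psi pointOf
  rw [Iso.inv_hom_id_assoc, MulEquiv.symm_apply_apply, ofConv_toConv]

lemma pointOf_psi
    (v : LieS.dpt B (Spec.map (CommRingCat.ofHom (algebraMap R B))) ⟶ Red.diag R M) :
    pointOf R M B (psi R M B v) = v :=
  psi_injective R M B _ _ (psi_pointOf R M B _)

/-- Naturality of `Spec.mapMulEquiv` in the test algebra. -/
lemma comp_mapMulEquiv {S T T' : Type u} [CommRing S] [CommRing T] [CommRing T'] [Bialgebra R S]
    [Algebra R T] [Algebra R T'] (h : T →ₐ[R] T') (φ : S →ₐ[R] T)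
    (q : (Spec (CommRingCat.of T')).asOver (Spec (CommRingCat.of R)) ⟶
      (Spec (CommRingCat.of T)).asOver (Spec (CommRingCat.of R)))
    (hq : q.left = Spec.map (CommRingCat.ofHom h.toRingHom)) :
    q ≫ Spec.mapMulEquiv (toConv φ) = Spec.mapMulEquiv (toConv (h.comp φ)) := by
  apply Over.OverMorphism.ext
  rw [Over.comp_left, hq]
  change Spec.map (CommRingCat.ofHom h.toRingHom) ≫ Spec.map (CommRingCat.ofHom φ.toRingHom) =
    Spec.map (CommRingCat.ofHom (h.comp φ).toRingHom)
  rw [LieS.specMap_comp]
  rfl

lemma one_apply_single (T : Type u) [CommRing T] [Algebra R T] (m : Multiplicative M) :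
    (1 : WithConv (MonoidAlgebra R (Multiplicative M) →ₐ[R] T)).ofConv
      (MonoidAlgebra.single m 1) = 1 := by
  change algebraMap R T (Coalgebra.counit (MonoidAlgebra.single m (1 : R))) = 1
  rw [MonoidAlgebra.counit_single]
  simp

lemma zeroSec_comp_eq_one_iff
    (v : LieS.dpt B (Spec.map (CommRingCat.ofHom (algebraMap R B))) ⟶ Red.diag R M) :
    LieS.zeroSec B (Spec.map (CommRingCat.ofHom (algebraMap R B))) ≫ v = 1 ↔
      ∀ m, (psi R M B v (MonoidAlgebra.single m 1)).fst = 1 := by
  have hq : (LieS.zeroSec B (Spec.map (CommRingCat.ofHom (algebraMap R B))) ≫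
      (LieS.dptIso B).hom).left = Spec.map (CommRingCat.ofHom (fstHom R B B).toRingHom) := by
    rw [Over.comp_left]
    change Spec.map _ ≫ 𝟙 _ = Spec.map _
    rw [Category.comp_id]
    rfl
  have key : LieS.zeroSec B (Spec.map (CommRingCat.ofHom (algebraMap R B))) ≫ v =
      Spec.mapMulEquiv (toConv ((fstHom R B B).comp (psi R M B v))) := by
    conv_lhs => rw [← pointOf_psi R M B v]
    unfold pointOf
    rw [← Category.assoc]
    exact comp_mapMulEquiv R (fstHom R B B) (psi R M B v) _ hq
  rw [key]
  constructor
  · intro h m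
    have h1 : toConv ((fstHom R B B).comp (psi R M B v)) = 1 :=
      Spec.mapMulEquiv.injective (h.trans (map_one _).symm)
    have h2 := congrArg (fun f => f.ofConv (MonoidAlgebra.single m 1)) h1
    exact h2.trans (one_apply_single R M B m)
  · intro h
    have h1 : toConv ((fstHom R B B).comp (psi R M B v)) = 1 := by
      apply WithConv.ofConv_injective
      refine MonoidAlgebra.algHom_ext (fun m => ?_) (Subsingleton.elim _ _)
      exact (h m).trans (one_apply_single R M B m).symm
    rw [h1, map_one]
    rfl

/-- Rescaling `ε ↦ bε` as an `R`-algebra endomorphism. -/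
noncomputable def scaleAlg (b : B) : DualNumber B →ₐ[R] DualNumber B :=
  { LieS.scaleHom b with
    commutes' := fun r => by
      simp [LieS.scaleHom, TrivSqZeroExt.algebraMap_eq_inl'] }

lemma psi_scale (b : B)
    (v : LieS.dpt B (Spec.map (CommRingCat.ofHom (algebraMap R B))) ⟶ Red.diag R M) :
    psi R M B (LieS.scale B (Spec.map (CommRingCat.ofHom (algebraMap R B))) b ≫ v) =
      (scaleAlg R B b).comp (psi R M B v) := by
  have hq : ((LieS.dptIso B).inv ≫ LieS.scale B (Spec.map (CommRingCat.ofHom (algebraMap R B))) b ≫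
      (LieS.dptIso B).hom).left = Spec.map (CommRingCat.ofHom (scaleAlg R B b).toRingHom) := by
    rw [Over.comp_left, Over.comp_left]
    change 𝟙 _ ≫ Spec.map _ ≫ 𝟙 _ = Spec.map _
    rw [Category.comp_id, Category.id_comp]
    rfl
  have key := comp_mapMulEquiv R (scaleAlg R B b) (psi R M B v) _ hq
  have h1 : (LieS.dptIso B).inv ≫
      LieS.scale B (Spec.map (CommRingCat.ofHom (algebraMap R B))) b ≫ v =
      Spec.mapMulEquiv (toConv ((scaleAlg R B b).comp (psi R M B v))) := by
    conv_lhs => rw [← pointOf_psi R M B v]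
    unfold pointOf
    rw [← key]
    simp only [Category.assoc]
  change (Spec.mapMulEquiv.symm ((LieS.dptIso B).inv ≫
    LieS.scale B (Spec.map (CommRingCat.ofHom (algebraMap R B))) b ≫ v)).ofConv = _
  rw [h1, MulEquiv.symm_apply_apply, ofConv_toConv]

lemma fst_psi_of_mem (v : LieS.LieR (Red.diag R M) B) (m : Multiplicative M) :
    (psi R M B v.1 (MonoidAlgebra.single m 1)).fst = 1 :=
  (zeroSec_comp_eq_one_iff R M B v.1).1 ((LieS.mem_Lie_iff _ _ _ v.1).1 v.2) m

/-- The additive map attached to a point of the Lie algebra. -/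
noncomputable def lam (v : LieS.LieR (Red.diag R M) B) : M →+ B where
  toFun m := (psi R M B v.1 (MonoidAlgebra.single (Multiplicative.ofAdd m) 1)).snd
  map_zero' := by
    rw [ofAdd_zero, ← MonoidAlgebra.one_def, map_one, TrivSqZeroExt.snd_one]
  map_add' m m' := by
    have h : MonoidAlgebra.single (Multiplicative.ofAdd (m + m')) (1 : R) =
        MonoidAlgebra.single (Multiplicative.ofAdd m) 1 *
          MonoidAlgebra.single (Multiplicative.ofAdd m') 1 := by
      rw [MonoidAlgebra.single_mul_single, _root_.mul_one, ofAdd_add]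
    rw [h, map_mul, DualNumber.snd_mul, fst_psi_of_mem, fst_psi_of_mem, _root_.one_mul,
      _root_.mul_one, add_comm]

lemma lam_apply (v : LieS.LieR (Red.diag R M) B) (m : M) :
    lam R M B v m = (psi R M B v.1 (MonoidAlgebra.single (Multiplicative.ofAdd m) 1)).snd := rfl

lemma lam_mul (v w : LieS.LieR (Red.diag R M) B) :
    lam R M B (v * w) = lam R M B v + lam R M B w := by
  ext m
  rw [AddMonoidHom.add_apply, lam_apply, lam_apply, lam_apply, Subgroup.coe_mul, psi_mul,
    DualNumber.snd_mul, fst_psi_of_mem, fst_psi_of_mem, _root_.one_mul, _root_.mul_one, add_comm]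

lemma lam_injective (v w : LieS.LieR (Red.diag R M) B) (h : lam R M B v = lam R M B w) :
    v = w := by
  apply Subtype.ext
  apply psi_injective
  refine MonoidAlgebra.algHom_ext (fun m => ?_) (Subsingleton.elim _ _)
  apply TrivSqZeroExt.ext
  · rw [fst_psi_of_mem, fst_psi_of_mem]
  · exact DFunLike.congr_fun h (Multiplicative.toAdd m)

/-- The character `m ↦ 1 + l(m) ε`. -/
noncomputable def chi (l : M →+ B) : Multiplicative M →* DualNumber B where
  toFun m := 1 + TrivSqZeroExt.inr (l (Multiplicative.toAdd m))
  map_one' := by simp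
  map_mul' a b := by
    have h : (TrivSqZeroExt.inr (l (Multiplicative.toAdd a)) : DualNumber B) *
        TrivSqZeroExt.inr (l (Multiplicative.toAdd b)) = 0 := TrivSqZeroExt.inr_mul_inr _ _ _
    simp only [toAdd_mul, map_add, TrivSqZeroExt.inr_add]
    linear_combination -h

/-- The point of the Lie algebra attached to an additive map. -/
noncomputable def pointOfLam (l : M →+ B) : LieS.LieR (Red.diag R M) B :=
  ⟨pointOf R M B (MonoidAlgebra.lift R (DualNumber B) (Multiplicative M) (chi M B l)), by
    rw [LieS.mem_Lie_iff, zeroSec_comp_eq_one_iff]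
    intro m
    rw [psi_pointOf, MonoidAlgebra.lift_single, one_smul]
    simp [chi]⟩

lemma lam_pointOfLam (l : M →+ B) : lam R M B (pointOfLam R M B l) = l := by
  ext m
  rw [lam_apply]
  change (psi R M B (pointOf R M B _) _).snd = _
  rw [psi_pointOf, MonoidAlgebra.lift_single, one_smul]
  simp [chi]

lemma lam_smul (b : B) (v : LieS.LieR (Red.diag R M) B) :
    lam R M B (b • v) = b • lam R M B v := by
  ext m
  rw [AddMonoidHom.smul_apply, lam_apply, lam_apply, LieS.smul_val, psi_scale]
  change (LieS.scaleHom b (psi R M B v.1 _)).snd = _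
  simp [LieS.scaleHom, TrivSqZeroExt.algebraMap_eq_inl', mul_comm]

end

/-- First isomorphism: over an affine base: for a commutative ring R, a commutative group M, the
diagonalisable group D(M) = Spec R[M] over Spec R and a commutative R-algebra B, the group
Lie(D(M))(Spec B) is identified with the additive group Hom(M, B) of group homomorphisms: there is a
multiplicative isomorphism which sends a point v of D(M) with values in B[ε], read as an R-algebra
homomorphism from R[M] to B[ε], to the homomorphism m ↦ (ε-coefficient of the image of m), and which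
carries the rescaling action of b in B to multiplication of homomorphisms by b. -/
theorem result (R : Type u) [CommRing R] (M : Type) [AddCommGroup M]
    (B : Type u) [CommRing B] [Algebra R B] :
    ∃ e : LieS.LieR (Red.diag R M) B ≃* Multiplicative (M →+ B),
      (∀ (v : LieS.LieR (Red.diag R M) B) (m : M),
        Multiplicative.toAdd (e v) m =
          TrivSqZeroExt.snd (((Spec.mapMulEquiv.symm ((LieS.dptIso B).inv ≫ v.1)).ofConv :
            MonoidAlgebra R (Multiplicative M) →ₐ[R] DualNumber B)
            (MonoidAlgebra.single (Multiplicative.ofAdd m) 1))) ∧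
      ∀ (b : B) (v : LieS.LieR (Red.diag R M) B),
        e (b • v) = Multiplicative.ofAdd (b • Multiplicative.toAdd (e v)) := by
  let e₀ : LieS.LieR (Red.diag R M) B →* Multiplicative (M →+ B) :=
    MonoidHom.mk' (fun v => Multiplicative.ofAdd (lam R M B v)) (by
      intro v w
      rw [lam_mul]
      rfl)
  have hbij : Function.Bijective e₀ := by
    constructor
    · intro v w h
      exact lam_injective R M B v w (Multiplicative.ofAdd.injective h)
    · intro l
      exact ⟨pointOfLam R M B (Multiplicative.toAdd l),
        congrArg Multiplicative.ofAdd (lam_pointOfLam R M B (Multiplicative.toAdd l))⟩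
  refine ⟨MulEquiv.ofBijective e₀ hbij, ?_, ?_⟩
  · intro v m
    rfl
  · intro b v
    exact congrArg Multiplicative.ofAdd (lam_smul R M B b v)

end Groth.Agent.S8358
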