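import Groth.Statements.S8362
import Mathlib

set_option autoImplicit false
universe u
open CategoryTheory AlgebraicGeometry
open SGA3

namespace Groth.Agent.S8362


open TensorProduct in
/-- Ring lemma: an `R`-algebra endomorphism of `C` which is the identity modulo `J` with `J² = 0`
is bijective. -/
theorem bijective_of_sqZero {R C : Type u} [CommRing R] [CommRing C] [Algebra R C] (J : Ideal R)
    (hJ : J * J = ⊥) (φ : C →+* C) (hφ : ∀ r, φ (algebraMap R C r) = algebraMap R C r)
    (h : ∀ c, (φ c) ⊗ₜ[R] (1 : R ⧸ J) = c ⊗ₜ[R] (1 : R ⧸ J)) : Function.Bijective φ := by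
  have key : ∀ c : C, c ⊗ₜ[R] (1 : R ⧸ J) = 0 → c ∈ (J • ⊤ : Submodule R C) := by
    intro c hc
    have h1 := congrArg (TensorProduct.tensorQuotEquivQuotSMul C J) hc
    rw [← map_one (Ideal.Quotient.mk J), TensorProduct.tensorQuotEquivQuotSMul_tmul_mk, one_smul,
      map_zero] at h1
    exact (Submodule.Quotient.mk_eq_zero _).mp h1
  have hd : ∀ c, φ c - c ∈ (J • ⊤ : Submodule R C) := fun c =>
    key _ (by rw [TensorProduct.sub_tmul, h, sub_self])
  have hzero : ∀ j ∈ J, ∀ m ∈ (J • ⊤ : Submodule R C), j • m = 0 := by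
    intro j hj m hm
    have h1 : j • m ∈ J • (J • ⊤ : Submodule R C) := Submodule.smul_mem_smul hj hm
    rw [← Submodule.mul_smul, hJ, Submodule.bot_smul] at h1
    exact (Submodule.mem_bot _).mp h1
  have hfix : ∀ k ∈ (J • ⊤ : Submodule R C), φ k = k := by
    intro k hk
    refine Submodule.smul_induction_on hk (fun j hj c _ => ?_) (fun x y hx hy => ?_)
    · have h1 : φ (j • c) = j • φ c := by
        rw [Algebra.smul_def, map_mul, hφ, ← Algebra.smul_def]
      have h2 : j • (φ c - c) = 0 := hzero j hj _ (hd c)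
      rw [smul_sub, sub_eq_zero] at h2
      rw [h1, h2]
    · rw [map_add, hx, hy]
  constructor
  · rw [injective_iff_map_eq_zero]
    intro c hc
    have h1 : c ∈ (J • ⊤ : Submodule R C) := by
      have := hd c
      rw [hc, zero_sub] at this
      exact (Submodule.neg_mem_iff _).mp this
    rw [← hfix c h1, hc]
  · intro c
    refine ⟨c - (φ c - c), ?_⟩
    rw [map_sub, hfix _ (hd c)]
    ring

/-- Over an affine base S = Spec R with S₀ = Spec (R/J) for an ideal J of square zero: for an arbitrary
S-scheme X, every S-endomorphism of X inducing the identity on X ×_S S₀ is an automorphism. (The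
published statement is over an arbitrary base scheme with a quasi-coherent ideal of square zero;
this row is its case of an affine base, to which it reduces since being an isomorphism is local on
the base.) -/
theorem result (R : Type u) [CommRing R] (J : Ideal R) (hJ : J * J = ⊥)
    (X : Over (Spec (CommRingCat.of R))) (u : X ⟶ X)
    (h : (Over.pullback (Spec.map (CommRingCat.ofHom (Ideal.Quotient.mk J)))).map u = 𝟙 _) :
    IsIso u := by
  let S := Spec (CommRingCat.of R)
  let i₀ : Spec (CommRingCat.of (R ⧸ J)) ⟶ S := Spec.map (CommRingCat.ofHom (Ideal.Quotient.mk J))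
  let π : X.left ⟶ S := X.hom
  let v : X.left ⟶ X.left := u.left
  have hvπ : v ≫ π = π := Over.w u
  let p : Limits.pullback π i₀ ⟶ X.left := Limits.pullback.fst π i₀
  have hpv : p ≫ v = p := by
    have h1 := congrArg (fun t => t.left ≫ Limits.pullback.fst π i₀) h
    simp only [Over.pullback_map_left, Over.id_left, Category.id_comp] at h1
    exact (Limits.pullback.lift_fst _ _ _).symm.trans h1
  -- `i₀` is surjective
  have hJnil : J ≤ nilradical R := by
    intro j hj
    refine ⟨2, ?_⟩
    have : j * j ∈ J * J := Ideal.mul_mem_mul hj hj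
    rw [hJ] at this
    rw [pow_two]
    exact (Submodule.mem_bot _).mp this
  have hi₀ : Surjective i₀ := by
    constructor
    intro q
    have hq : q ∈ PrimeSpectrum.zeroLocus (RingHom.ker (Ideal.Quotient.mk J) : Set R) := by
      rw [Ideal.mk_ker]
      intro j hj
      exact (nilradical_le_prime q.asIdeal) (hJnil hj)
    rw [← range_comap_of_surjective _ _ Ideal.Quotient.mk_surjective] at hq
    obtain ⟨q', hq'⟩ := hq
    exact ⟨q', hq'⟩
  have hpsurj : Function.Surjective p := by
    have : Surjective p := inferInstanceAs (Surjective (Limits.pullback.fst π i₀))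
    exact this.surj
  have hvx : ∀ x : X.left, v x = x := by
    intro x
    obtain ⟨z, rfl⟩ := hpsurj x
    rw [← Scheme.Hom.comp_apply, hpv]
  have h1 : ∀ U : X.left.Opens, v ⁻¹ᵁ U = U := by
    intro U
    ext x
    simp only [Scheme.Hom.coe_preimage, Set.mem_preimage, SetLike.mem_coe, hvx]
  suffices hiso : IsIso v by
    haveI : IsIso ((Over.forget _).map u) := hiso
    exact isIso_of_reflects_iso u (Over.forget _)
  rw [← MorphismProperty.isomorphisms.iff,
    HasAffineProperty.iff_of_iSup_eq_top (P := MorphismProperty.isomorphisms Scheme)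
      (fun U : X.left.affineOpens => U) (iSup_affineOpens_eq_top _)]
  intro U
  have hU : IsAffineOpen U.1 := U.2
  refine ⟨?_, ?_⟩
  · show IsAffineOpen (v ⁻¹ᵁ U.1)
    rw [h1]
    exact hU
  -- the ring map
  let ψ' : CommRingCat.of R ⟶ Γ(X.left, U.1) := Spec.preimage (hU.fromSpec ≫ π)
  have hψ : Spec.map ψ' = hU.fromSpec ≫ π := Spec.map_preimage _
  algebraize [ψ'.hom]
  have e : U.1 ≤ v ⁻¹ᵁ U.1 := (h1 U.1).ge
  let φ : Γ(X.left, U.1) ⟶ Γ(X.left, U.1) := v.appLE U.1 U.1 e
  have hφf : Spec.map φ ≫ hU.fromSpec = hU.fromSpec ≫ v := hU.SpecMap_appLE_fromSpec v hU e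
  have hφψ : ψ' ≫ φ = ψ' := by
    apply Spec.map_injective
    rw [Spec.map_comp, hψ, ← Category.assoc, hφf, Category.assoc, hvπ]
  let incl : Γ(X.left, U.1) ⟶ CommRingCat.of (TensorProduct R Γ(X.left, U.1) (R ⧸ J)) :=
    CommRingCat.ofHom Algebra.TensorProduct.includeLeftRingHom
  let j : Limits.pullback (Spec.map ψ') i₀ ⟶ Limits.pullback π i₀ :=
    Limits.pullback.map _ _ _ _ hU.fromSpec (𝟙 _) (𝟙 _) (by rw [Category.comp_id, hψ])
      (by rw [Category.comp_id, Category.id_comp])
  let iso := pullbackSpecIso R Γ(X.left, U.1) (R ⧸ J)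
  have hj : (iso.inv ≫ j) ≫ p = Spec.map incl ≫ hU.fromSpec := by
    have hfst : iso.inv ≫ Limits.pullback.fst (Spec.map ψ') i₀ = Spec.map incl :=
      pullbackSpecIso_inv_fst R _ _
    simp only [j, p, Category.assoc, Limits.pullback.lift_fst]
    rw [← Category.assoc, hfst]
  have hinc : Spec.map incl ≫ Spec.map φ = Spec.map incl := by
    rw [← cancel_mono hU.fromSpec, Category.assoc, hφf, ← Category.assoc, ← hj, Category.assoc,
      hpv]
  have hinc' : φ ≫ incl = incl := by
    apply Spec.map_injective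
    rw [Spec.map_comp, hinc]
  have hb : Function.Bijective φ.hom := by
    refine bijective_of_sqZero J hJ φ.hom (fun r => ?_) (fun c => ?_)
    · exact congr($(hφψ).hom r)
    · exact congr($(hinc').hom c)
  have hφiso : IsIso φ := (ConcreteCategory.isIso_iff_bijective φ).mpr hb
  -- conclude
  have hgen : ∀ (V : X.left.Opens) (hV : V = v ⁻¹ᵁ U.1), IsIso (v.appLE U.1 V (le_of_eq hV)) →
      IsIso (v ∣_ U.1).appTop := by
    intro V hV hi
    subst hV
    have harr := arrowResLEAppIso v U.1 (v ⁻¹ᵁ U.1) le_rfl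
    rw [Scheme.Hom.resLE_eq_morphismRestrict] at harr
    exact ((MorphismProperty.isomorphisms CommRingCat).arrow_mk_iso_iff harr).mpr hi
  exact hgen U.1 (h1 U.1).symm hφiso

end Groth.Agent.S8362
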