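import Groth.Statements.S8364
-- import your own Groth.Agent.* helpers here

set_option autoImplicit false
universe u
open SGA3

namespace Groth.Agent.S8364

theorem endo_bijective {R A : Type u} [CommRing R] [CommRing A] [Algebra R A] (I : Ideal A)
    (hI : I * I = ⊥) (hgen : ∃ s : Set A, (∀ x ∈ s, ∃ r : R, algebraMap R A r = x) ∧ I = Ideal.span s)
    (θ : A →ₐ[R] A) (hθ : ∀ a, θ a - a ∈ I) : Function.Bijective θ := by
  obtain ⟨s, hs, rfl⟩ := hgen
  have hfix : ∀ x ∈ Ideal.span s, θ x = x := by
    intro x hx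
    induction hx using Submodule.span_induction with
    | mem x hx =>
      obtain ⟨r, rfl⟩ := hs x hx
      exact θ.commutes r
    | zero => exact map_zero θ
    | add x y _ _ hx hy => rw [map_add, hx, hy]
    | smul a x hx ih =>
      rw [smul_eq_mul, map_mul, ih]
      have h1 : (θ a - a) * x ∈ Ideal.span s * Ideal.span s := Ideal.mul_mem_mul (hθ a) hx
      rw [hI, Ideal.mem_bot] at h1
      linear_combination h1
  constructor
  · rw [injective_iff_map_eq_zero]
    intro a ha
    have h1 : a ∈ Ideal.span s := by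
      have := hθ a
      rw [ha, zero_sub] at this
      simpa using neg_mem this
    rw [hfix a h1] at ha
    exact ha
  · intro b
    refine ⟨b - (θ b - b), ?_⟩
    rw [map_sub, hfix _ (hθ b)]
    ring

/-- For a commutative ring R, an ideal J of R of square zero, a smooth R-algebra A and the extended
ideal I = J·A, every R-algebra automorphism of A/I lifts to an R-algebra automorphism of A. (The
published statement concerns the automorphism functor of a smooth affine S-scheme E and affine test
schemes Y; this row is the case Y = S = Spec R, E = Spec A, which gives the general one after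
replacing R by the ring of Y.) -/
theorem result (R A : Type u) [CommRing R] [CommRing A] [Algebra R A]
    [Algebra.Smooth R A] (J : Ideal R) (hJ : J * J = ⊥)
    (φ₀ : (A ⧸ Ideal.map (algebraMap R A) J) ≃ₐ[R] (A ⧸ Ideal.map (algebraMap R A) J)) :
    ∃ φ : A ≃ₐ[R] A,
      (Ideal.Quotient.mkₐ R (Ideal.map (algebraMap R A) J)).comp φ.toAlgHom =
        φ₀.toAlgHom.comp (Ideal.Quotient.mkₐ R (Ideal.map (algebraMap R A) J)) := by
  let I : Ideal A := Ideal.map (algebraMap R A) J
  have hII : I * I = ⊥ := by
    change Ideal.map (algebraMap R A) J * Ideal.map (algebraMap R A) J = ⊥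
    rw [← Ideal.map_mul, hJ, Ideal.map_bot]
  have hnil : IsNilpotent I := ⟨2, by rw [pow_two]; exact hII⟩
  have hgen : ∃ s : Set A, (∀ x ∈ s, ∃ r : R, algebraMap R A r = x) ∧ I = Ideal.span s :=
    ⟨algebraMap R A '' J, fun x ⟨r, _, hr⟩ => ⟨r, hr⟩, rfl⟩
  let ψ : A →ₐ[R] A := Algebra.FormallySmooth.lift I hnil (φ₀.toAlgHom.comp (Ideal.Quotient.mkₐ R I))
  let ψ' : A →ₐ[R] A := Algebra.FormallySmooth.lift I hnil (φ₀.symm.toAlgHom.comp (Ideal.Quotient.mkₐ R I))
  have hψ : ∀ a, Ideal.Quotient.mk I (ψ a) = φ₀ (Ideal.Quotient.mk I a) := fun a =>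
    Algebra.FormallySmooth.mk_lift I hnil _ a
  have hψ' : ∀ a, Ideal.Quotient.mk I (ψ' a) = φ₀.symm (Ideal.Quotient.mk I a) := fun a =>
    Algebra.FormallySmooth.mk_lift I hnil _ a
  have h1 : Function.Bijective (ψ.comp ψ') := by
    apply endo_bijective I hII hgen
    intro a
    rw [← Ideal.Quotient.eq]
    change Ideal.Quotient.mk I (ψ (ψ' a)) = _
    rw [hψ, hψ', AlgEquiv.apply_symm_apply]
  have h2 : Function.Bijective (ψ'.comp ψ) := by
    apply endo_bijective I hII hgen
    intro a
    rw [← Ideal.Quotient.eq]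
    change Ideal.Quotient.mk I (ψ' (ψ a)) = _
    rw [hψ', hψ, AlgEquiv.symm_apply_apply]
  have hbij : Function.Bijective ψ := by
    constructor
    · exact Function.Injective.of_comp (f := ψ') h2.1
    · exact Function.Surjective.of_comp (g := ψ') h1.2
  refine ⟨AlgEquiv.ofBijective ψ hbij, ?_⟩
  ext a
  exact hψ a

end Groth.Agent.S8364
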