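import Groth.Statements.S8369
import Mathlib.RingTheory.Flat.EquationalCriterion
import Mathlib.RingTheory.Nilpotent.Lemmas

set_option autoImplicit false
universe u v
open SGA3

namespace Groth.Agent.S8369


theorem inf_smul_top_le_smul_of_flat (A : Type u) [CommRing A] (J : Ideal A)
    (M : Type v) [AddCommGroup M] [Module A M] (N : Submodule A M) [Module.Flat A (M ⧸ N)] :
    N ⊓ J • (⊤ : Submodule A M) ≤ J • N := by
  classical
  rintro x ⟨hxN, hxJ⟩
  have hxJ' : x ∈ J • Submodule.span A (Set.range (id : M → M)) := by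
    simpa using hxJ
  rw [Submodule.mem_ideal_smul_span_iff_exists_sum] at hxJ'
  obtain ⟨a, haJ, hax⟩ := hxJ'
  -- relation in the quotient, indexed by the support
  let ι := {m // m ∈ a.support}
  have hsum : ∀ {X : Type v} [AddCommMonoid X] (g : M → X), ∑ i : ι, g i.1 = ∑ m ∈ a.support, g m := by
    intro X _ g
    rw [Finset.univ_eq_attach]
    exact Finset.sum_attach _ g
  have hrel : ∑ i : ι, a i.1 • (N.mkQ i.1) = 0 := by
    have h1 : N.mkQ x = 0 := (Submodule.Quotient.mk_eq_zero N).mpr hxN
    rw [← hax, Finsupp.sum, map_sum] at h1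
    rw [← h1, hsum (fun m => a m • N.mkQ m)]
    simp
  obtain ⟨k, c, y, hy, hc⟩ := Module.Flat.isTrivialRelation_of_sum_smul_eq_zero hrel
  beta_reduce at hy hc
  choose y' hy' using fun l => N.mkQ_surjective (y l)
  have hn : ∀ i : ι, i.1 - ∑ l, c i l • y' l ∈ N := by
    intro i
    rw [← Submodule.Quotient.mk_eq_zero N]
    change N.mkQ (i.1 - ∑ l, c i l • y' l) = 0
    rw [map_sub, map_sum, hy i, sub_eq_zero]
    simp [hy']
  have hx : x = ∑ i : ι, a i.1 • (i.1 - ∑ l, c i l • y' l) := by
    have h2 : ∑ i : ι, a i.1 • ∑ l, c i l • y' l = 0 := by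
      simp_rw [Finset.smul_sum, smul_smul]
      rw [Finset.sum_comm]
      refine Finset.sum_eq_zero fun l _ => ?_
      rw [← Finset.sum_smul, hc l, zero_smul]
    simp_rw [smul_sub, Finset.sum_sub_distrib, h2, sub_zero]
    rw [← hax, Finsupp.sum, hsum (fun m => a m • m)]
    simp
  rw [hx]
  exact Submodule.sum_mem _ fun i _ => Submodule.smul_mem_smul (haJ i.1) (hn i)

theorem le_of_le_sup_smul_of_isNilpotent (A : Type u) [CommRing A] (J : Ideal A) (hJ : IsNilpotent J)
    (M : Type v) [AddCommGroup M] [Module A M] (N N' : Submodule A M)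
    (h : N ≤ N' ⊔ J • N) : N ≤ N' := by
  obtain ⟨n, hn⟩ := hJ
  have key : ∀ k : ℕ, N ≤ N' ⊔ J ^ k • N := by
    intro k
    induction k with
    | zero => simp
    | succ k ih =>
      calc N ≤ N' ⊔ J • N := h
        _ ≤ N' ⊔ J • (N' ⊔ J ^ k • N) := sup_le_sup_left (Submodule.smul_mono le_rfl ih) _
        _ = N' ⊔ (J • N' ⊔ J ^ (k + 1) • N) := by
          rw [Submodule.smul_sup, ← Submodule.mul_smul, pow_succ']
        _ ≤ N' ⊔ J ^ (k + 1) • N := by
          rw [← sup_assoc]
          exact sup_le_sup_right (sup_le le_rfl Submodule.smul_le_right) _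
  have := key n
  rw [hn] at this
  simpa using this

theorem main (A : Type u) [CommRing A] (J : Ideal A) (hJ : IsNilpotent J)
    (M : Type v) [AddCommGroup M] [Module A M] (N : Submodule A M) [Module.Flat A (M ⧸ N)] (s : Set M)
    (hs : s ⊆ N)
    (hgen : (Submodule.span A s).map (J • (⊤ : Submodule A M)).mkQ = N.map (J • (⊤ : Submodule A M)).mkQ) :
    Submodule.span A s = N := by
  have hle : Submodule.span A s ≤ N := Submodule.span_le.mpr hs
  refine le_antisymm hle ?_
  apply le_of_le_sup_smul_of_isNilpotent A J hJ M N (Submodule.span A s)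
  have h1 : J • (⊤ : Submodule A M) ⊔ Submodule.span A s = J • (⊤ : Submodule A M) ⊔ N := by
    rw [← Submodule.comap_map_mkQ, ← Submodule.comap_map_mkQ, hgen]
  intro n hn
  have h2 : n ∈ J • (⊤ : Submodule A M) ⊔ Submodule.span A s := by
    rw [h1]; exact Submodule.mem_sup_right hn
  obtain ⟨a, ha, b, hb, rfl⟩ := Submodule.mem_sup.mp h2
  have haN : a ∈ N := by
    have := N.sub_mem hn (hle hb)
    simpa using this
  exact Submodule.mem_sup.mpr ⟨b, hb, a,
    inf_smul_top_le_smul_of_flat A J M N ⟨haN, ha⟩, add_comm _ _⟩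



/-- Let A be a commutative ring, J a nilpotent ideal, N ⊆ M A-modules with M/N flat over A. If elements
of N have images generating the image of N in M/JM, then they generate N. (The published statement
takes finitely many elements; this row allows an arbitrary set, which the same argument permits.) -/
theorem result (A : Type u) [CommRing A] (J : Ideal A) (hJ : IsNilpotent J)
    (M : Type v) [AddCommGroup M] [Module A M] (N : Submodule A M) [Module.Flat A (M ⧸ N)] (s : Set M)
    (hs : s ⊆ N)
    (hgen : (Submodule.span A s).map (J • (⊤ : Submodule A M)).mkQ = N.map (J • (⊤ : Submodule A M)).mkQ) :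
    Submodule.span A s = N :=
  main A J hJ M N s hs hgen

end Groth.Agent.S8369
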