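import Groth.Statements.S8370
import Groth.Agent.Lib.Helper13.LieSBasic

set_option autoImplicit false
universe u
open CategoryTheory MonObj AlgebraicGeometry
open LieS

namespace Groth.Agent.S8370

/-- For a group scheme G over a scheme S (the group law of the Lie algebra functor of a group scheme is
commutative, which the published statement assumes), a sub-group-scheme K of G given by a
monomorphic homomorphism i, and an affine S-scheme T = Spec B: an element x of Lie(G/S)(T) belongs
to the Lie algebra of the centraliser of K, i.e. the point x of G with values in the dual numbers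
I_T commutes with every point of K with values in any scheme over I_T, if and only if x is fixed by
the adjoint action of every point of K with values in an affine scheme T' = Spec B' over T (acting
on the restriction of x to T'). -/
theorem result (S : Scheme.{u}) (G K : Over S) [GrpObj G] [GrpObj K] (i : K ⟶ G)
    [IsMonHom i] [Mono i] (B : Type u) [CommRing B] (f : Spec (CommRingCat.of B) ⟶ S) (x : LieS.Lie G B f) :
    (∀ (X' : Over S) (y : X' ⟶ LieS.dpt B f) (h : X' ⟶ K), (y ≫ x.1) * (h ≫ i) = (h ≫ i) * (y ≫ x.1)) ↔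
    (∀ (B' : Type u) [CommRing B'] (h : B →+* B')
      (k : LieS.pt B' (Spec.map (CommRingCat.ofHom h) ≫ f) ⟶ K),
      LieS.Ad G B' (Spec.map (CommRingCat.ofHom h) ≫ f) (k ≫ i) (LieS.pull G f h x) = LieS.pull G f h x) := by
  constructor
  · intro H B' _ h k
    apply Subtype.ext
    have hc := H (LieS.dpt B' (Spec.map (CommRingCat.ofHom h) ≫ f)) (LieS.dptMap f h)
      (LieS.proj B' (Spec.map (CommRingCat.ofHom h) ≫ f) ≫ k)
    change (LieS.proj B' (Spec.map (CommRingCat.ofHom h) ≫ f) ≫ k ≫ i) * (LieS.dptMap f h ≫ x.1) *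
      (LieS.proj B' (Spec.map (CommRingCat.ofHom h) ≫ f) ≫ k ≫ i)⁻¹ = LieS.dptMap f h ≫ x.1
    rw [Category.assoc] at hc
    rw [← hc, _root_.mul_inv_cancel_right]
  · intro H X' y h
    apply Over.OverMorphism.ext
    refine Lib.Helper13.scheme_hom_ext_of_forall_spec _ _ (fun C _ w => ?_)
    let yl : X'.left ⟶ Spec (CommRingCat.of (DualNumber B)) := y.left
    have hyl : yl ≫ Spec.map (CommRingCat.ofHom (algebraMap B (DualNumber B))) ≫ f = X'.hom := Over.w y
    let ψ : CommRingCat.of (DualNumber B) ⟶ CommRingCat.of C := Spec.preimage (w ≫ yl)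
    have hψ : Spec.map ψ = w ≫ yl := Spec.map_preimage _
    let hC : B →+* C := ψ.hom.comp (algebraMap B (DualNumber B))
    have hw : w ≫ X'.hom = Spec.map (CommRingCat.ofHom hC) ≫ f := by
      rw [← hyl, ← Category.assoc, ← hψ, ← Category.assoc, ← Spec.map_comp]
      rfl
    let jP : LieS.pt C (Spec.map (CommRingCat.ofHom hC) ≫ f) ⟶ X' := Over.homMk w hw
    let c : C := ψ.hom DualNumber.eps
    have hc : c * c = 0 := by
      change ψ.hom DualNumber.eps * ψ.hom DualNumber.eps = 0
      rw [← map_mul, LieS.eps_sq, map_zero]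
    let σ : LieS.pt C (Spec.map (CommRingCat.ofHom hC) ≫ f) ⟶
        LieS.dpt C (Spec.map (CommRingCat.ofHom hC) ≫ f) :=
      Over.homMk (Spec.map (CommRingCat.ofHom (LieS.dualHom (RingHom.id C) c hc))) (by
        change Spec.map _ ≫ Spec.map _ ≫ _ = _
        rw [← Category.assoc, LieS.specMap_comp, LieS.dualHom_comp_algebraMap, CommRingCat.ofHom_id]
        erw [Spec.map_id]
        exact Category.id_comp _)
    have hσproj : σ ≫ LieS.proj C (Spec.map (CommRingCat.ofHom hC) ≫ f) = 𝟙 _ := by
      apply Over.OverMorphism.ext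
      change Spec.map _ ≫ Spec.map _ = 𝟙 _
      rw [LieS.specMap_comp, LieS.dualHom_comp_algebraMap, CommRingCat.ofHom_id]
      erw [Spec.map_id]
    have hσy : σ ≫ LieS.dptMap f hC = jP ≫ y := by
      apply Over.OverMorphism.ext
      change Spec.map _ ≫ Spec.map _ = w ≫ yl
      rw [LieS.specMap_comp, ← hψ]
      congr 1
      apply CommRingCat.hom_ext
      refine RingHom.ext fun t => ?_
      change LieS.dualHom (RingHom.id C) c hc (LieS.bcHom hC t) = ψ.hom t
      have ht : t = algebraMap B (DualNumber B) t.fst + algebraMap B (DualNumber B) t.snd * DualNumber.eps := by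
        refine TrivSqZeroExt.ext ?_ ?_ <;> simp [TrivSqZeroExt.algebraMap_eq_inl']
      conv_rhs => rw [ht]
      simp [LieS.bcHom, LieS.dualHom_apply, TrivSqZeroExt.algebraMap_eq_inl', hC, c]
    have hA := congrArg Subtype.val (H C hC (jP ≫ h))
    change (LieS.proj C (Spec.map (CommRingCat.ofHom hC) ≫ f) ≫ (jP ≫ h) ≫ i) * (LieS.dptMap f hC ≫ x.1) *
      (LieS.proj C (Spec.map (CommRingCat.ofHom hC) ≫ f) ≫ (jP ≫ h) ≫ i)⁻¹ = LieS.dptMap f hC ≫ x.1 at hA
    have hcomm := mul_inv_eq_iff_eq_mul.mp hA
    have h2 := congrArg (fun t => σ ≫ t) hcomm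
    simp only [MonObj.comp_mul] at h2
    rw [← Category.assoc σ, hσproj, Category.id_comp, ← Category.assoc σ, hσy, Category.assoc,
      Category.assoc] at h2
    have h3 : jP ≫ ((y ≫ x.1) * (h ≫ i)) = jP ≫ ((h ≫ i) * (y ≫ x.1)) := by
      rw [MonObj.comp_mul, MonObj.comp_mul]
      exact h2.symm
    exact congrArg (fun t => t.left) h3

end Groth.Agent.S8370
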