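import Groth.Statements.S8371
-- import your own Groth.Agent.* helpers here

set_option autoImplicit false
universe u
open CategoryTheory MonObj AlgebraicGeometry
open LieS

namespace Groth.Agent.S8371

/-- The sequence of Lie algebras, with M = O_S: if 1 → G' → G → G'' → 1 is a sequence of homomorphisms
of group schemes over a scheme S which is exact on points with values in every S-scheme, then for
every affine S-scheme T = Spec B the derived morphisms give an exact sequence 1 → Lie(G'/S)(T) →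
Lie(G/S)(T) → Lie(G''/S)(T) → 1: the first is injective, the second surjective, and the kernel of
the second is the image of the first. -/
theorem result (S : Scheme.{u}) (G' G G'' : Over S) [GrpObj G'] [GrpObj G] [GrpObj G'']
    (i : G' ⟶ G) [IsMonHom i] (q : G ⟶ G'') [IsMonHom q]
    (hex : ∀ T : Over S, Function.Injective (fun a : T ⟶ G' => a ≫ i) ∧
      Function.Surjective (fun b : T ⟶ G => b ≫ q) ∧ ∀ b : T ⟶ G, b ≫ q = 1 ↔ ∃ a : T ⟶ G', a ≫ i = b)
    (B : Type u) [CommRing B] (f : Spec (CommRingCat.of B) ⟶ S) :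
    Function.Injective (LieS.map B f i) ∧ Function.Surjective (LieS.map B f q) ∧
      ∀ v : LieS.Lie G B f, LieS.map B f q v = 1 ↔ ∃ w : LieS.Lie G' B f, LieS.map B f i w = v := by
  have hmap_i : ∀ w : LieS.Lie G' B f, (LieS.map B f i w).1 = w.1 ≫ i := fun _ => rfl
  have hmap_q : ∀ v : LieS.Lie G B f, (LieS.map B f q v).1 = v.1 ≫ q := fun _ => rfl
  have hiq : ∀ (T : Over S) (a : T ⟶ G'), (a ≫ i) ≫ q = 1 := fun T a =>
    ((hex T).2.2 (a ≫ i)).mpr ⟨a, rfl⟩
  refine ⟨?_, ?_, ?_⟩
  · intro w w' h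
    apply Subtype.ext
    apply (hex (LieS.dpt B f)).1
    have := congrArg Subtype.val h
    rw [hmap_i, hmap_i] at this
    exact this
  · intro w
    obtain ⟨b, hb⟩ := (hex (LieS.dpt B f)).2.1 w.1
    dsimp only at hb
    -- restriction of b to the zero section comes from G'
    have hb0 : (LieS.zeroSec B f ≫ b) ≫ q = 1 := by
      rw [Category.assoc, hb]
      exact (LieS.mem_Lie_iff G'' B f w.1).1 w.2
    obtain ⟨a, ha⟩ := ((hex (LieS.pt B f)).2.2 _).mp hb0
    let b' : LieS.dpt B f ⟶ G := b * (LieS.proj B f ≫ a ≫ i)⁻¹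
    have hb'mem : b' ∈ LieS.Lie G B f := by
      rw [LieS.mem_Lie_iff]
      change LieS.zeroSec B f ≫ (b * (LieS.proj B f ≫ a ≫ i)⁻¹) = 1
      rw [MonObj.comp_mul, GrpObj.comp_inv, ← Category.assoc (LieS.zeroSec B f), LieS.zeroSec_proj,
        Category.id_comp, ha, _root_.mul_inv_cancel]
    refine ⟨⟨b', hb'mem⟩, ?_⟩
    apply Subtype.ext
    rw [hmap_q]
    change (b * (LieS.proj B f ≫ a ≫ i)⁻¹) ≫ q = w.1
    rw [MonObj.mul_comp, GrpObj.inv_comp, hb, Category.assoc, hiq, MonObj.comp_one, _root_.inv_one, _root_.mul_one]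
  · intro v
    constructor
    · intro h
      have h1 : v.1 ≫ q = 1 := by
        have := congrArg Subtype.val h
        rw [hmap_q] at this
        exact this
      obtain ⟨a, ha⟩ := ((hex (LieS.dpt B f)).2.2 v.1).mp h1
      have hamem : a ∈ LieS.Lie G' B f := by
        rw [LieS.mem_Lie_iff]
        apply (hex (LieS.pt B f)).1
        change (LieS.zeroSec B f ≫ a) ≫ i = (1 : LieS.pt B f ⟶ G') ≫ i
        rw [Category.assoc, ha, MonObj.one_comp]
        exact (LieS.mem_Lie_iff G B f v.1).1 v.2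
      exact ⟨⟨a, hamem⟩, Subtype.ext (by rw [hmap_i]; exact ha)⟩
    · rintro ⟨w, rfl⟩
      apply Subtype.ext
      rw [hmap_q, hmap_i]
      exact hiq _ _

end Groth.Agent.S8371
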