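import Groth.Statements.S8372
import Groth.Agent.Lib.Helper24.CartanRel

set_option autoImplicit false
universe u
open scoped TensorProduct
open SGA3t2b

namespace Groth.Agent.S8372

/-- Over an affine base Spec A: let L be a Lie algebra over the commutative ring A which is a finitely
generated projective A-module, and a an element of L which is quasi-regular (its image in every
fibre κ(p) ⊗ L is a regular element). Then every Cartan subalgebra of L relative to A (locally a
direct summand, with nilpotent self-normalizing fibres) which contains a is the Engel subalgebra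
Nil(a, L) of elements killed by a power of ad(a); and a lies in some relative Cartan subalgebra (a
is regular) if and only if the quotient module of L by Nil(a, L) is projective and ad(a) induces a
bijection of that quotient (injective and surjective modulo Nil(a, L)). -/
theorem result {A : Type u} [CommRing A] {L : Type u} [LieRing L]
    [LieAlgebra A L] [Module.Finite A L] [Module.Projective A L] (a : L) (ha : SGA3t2b.IsQuasiRegular A L a) :
    (∀ H : LieSubalgebra A L, SGA3t2b.IsCartanRel H → a ∈ H → H = LieSubalgebra.engel A a) ∧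
    ((∃ H : LieSubalgebra A L, SGA3t2b.IsCartanRel H ∧ a ∈ H) ↔
      (Module.Projective A (L ⧸ (LieSubalgebra.engel A a).toSubmodule) ∧
        (∀ z : L, ⁅a, z⁆ ∈ LieSubalgebra.engel A a → z ∈ LieSubalgebra.engel A a) ∧
        (∀ y : L, ∃ z : L, ⁅a, z⁆ - y ∈ LieSubalgebra.engel A a))) := by
  refine ⟨fun H hH haH => Groth.Agent.Lib.Helper24.CartanRel.eq_engel H hH haH ha, ⟨?_, ?_⟩⟩
  · rintro ⟨H, hH, haH⟩
    obtain rfl : H = LieSubalgebra.engel A a :=
      Groth.Agent.Lib.Helper24.CartanRel.eq_engel H hH haH ha
    refine ⟨hH.1, fun z hz => Groth.Agent.Lib.Helper24.CartanRel.mem_engel_of_lie_mem_engel hz,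
      fun y => ?_⟩
    obtain ⟨w, hw⟩ := (Groth.Agent.Lib.Helper24.CartanRel.adQ_bijective _ hH haH ha).2
      ((LieSubalgebra.engel A a).toSubmodule.mkQ y)
    obtain ⟨z, rfl⟩ := Submodule.mkQ_surjective _ w
    refine ⟨z, ?_⟩
    rw [Groth.Agent.Lib.Helper24.CartanRel.adQ_mk] at hw
    have h0 : (LieSubalgebra.engel A a).toSubmodule.mkQ (⁅a, z⁆ - y) = 0 := by
      rw [map_sub, hw, sub_self]
    exact (Submodule.Quotient.mk_eq_zero _).mp h0
  · rintro ⟨hproj, -, hsurj⟩
    exact ⟨LieSubalgebra.engel A a,
      Groth.Agent.Lib.Helper24.CartanRel.isCartanRel_engel a ha hproj hsurj,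
      LieSubalgebra.self_mem_engel A a⟩

end Groth.Agent.S8372
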