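import Groth.Statements.S8384
import Groth.Agent.Lib.Helper13.LocalPoints

set_option autoImplicit false
universe u
open CategoryTheory MonoidalCategory CartesianMonoidalCategory MonObj GrpObj AlgebraicGeometry
open SGA3x

namespace Groth.Agent.S8384

/-- Let A be a local ring, separated and complete for the topology defined by its maximal ideal m, S =
Spec A and Sₙ = Spec(A/mⁿ). Then for every scheme X the canonical map Hom(S, X) → lim Hom(Sₙ, X) is
bijective: two morphisms S → X that agree on every Sₙ are equal, and every family of morphisms Sₙ →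
X compatible with the closed immersions Sₙ → Sₙ₊₁ is induced by a morphism S → X. -/
theorem result (A : Type u) [CommRing A] [IsLocalRing A]
    [IsAdicComplete (IsLocalRing.maximalIdeal A) A] (X : Scheme.{u}) :
    (∀ f g : (Spec (CommRingCat.of A)) ⟶ X,
      (∀ n : ℕ, (Spec.map (CommRingCat.ofHom (Ideal.Quotient.mk ((IsLocalRing.maximalIdeal A) ^ n)))) ≫ f = (Spec.map (CommRingCat.ofHom (Ideal.Quotient.mk ((IsLocalRing.maximalIdeal A) ^ n)))) ≫ g) → f = g) ∧
    (∀ u : (n : ℕ) → (Spec (CommRingCat.of (A ⧸ (IsLocalRing.maximalIdeal A) ^ n)) ⟶ X),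
      (∀ n : ℕ, (Spec.map (CommRingCat.ofHom (Ideal.Quotient.factor
          (Ideal.pow_le_pow_right (I := (IsLocalRing.maximalIdeal A)) (Nat.le_succ n))))) ≫ u (n + 1) = u n) →
      ∃ f : (Spec (CommRingCat.of A)) ⟶ X, ∀ n : ℕ, (Spec.map (CommRingCat.ofHom (Ideal.Quotient.mk ((IsLocalRing.maximalIdeal A) ^ n)))) ≫ f = u n) := by
  have hne : Nontrivial (A ⧸ (IsLocalRing.maximalIdeal A) ^ 1) := by
    rw [pow_one]
    exact Ideal.Quotient.nontrivial_iff.mpr (IsLocalRing.maximalIdeal.isMaximal A).ne_top
  obtain ⟨y₁⟩ : Nonempty (PrimeSpectrum (A ⧸ (IsLocalRing.maximalIdeal A) ^ 1)) := inferInstance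
  have hq1 : (Spec.map (CommRingCat.ofHom (Ideal.Quotient.mk ((IsLocalRing.maximalIdeal A) ^ 1)))) y₁ =
      IsLocalRing.closedPoint A := Lib.Helper13.comap_mk_pow_eq_closedPoint A 1 y₁
  -- a morphism out of Spec A lands in any open containing the image of the closed point
  have hrange : ∀ (f : Spec (CommRingCat.of A) ⟶ X) (U : X.Opens),
      f (IsLocalRing.closedPoint A) ∈ U → Set.range f ⊆ (U : Set X) := by
    intro f U hx
    have htop : f ⁻¹ᵁ U = ⊤ := (IsLocalRing.closedPoint_mem_iff (f ⁻¹ᵁ U)).mp hx
    rintro _ ⟨y, rfl⟩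
    have : y ∈ f ⁻¹ᵁ U := by rw [htop]; trivial
    exact this
  constructor
  · intro f g h
    have hfg : f (IsLocalRing.closedPoint A) = g (IsLocalRing.closedPoint A) := by
      rw [← hq1, ← Scheme.Hom.comp_apply, ← Scheme.Hom.comp_apply, h 1]
    obtain ⟨_, ⟨U, hU, rfl⟩, hxU, -⟩ := X.isBasis_affineOpens.exists_subset_of_mem_open
      (Set.mem_univ (f (IsLocalRing.closedPoint A))) isOpen_univ
    change X.Opens at U
    change IsAffineOpen U at hU
    obtain ⟨φ, hφ⟩ := Lib.Helper13.exists_specMap_comp_fromSpec f U hU (hrange f U hxU)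
    obtain ⟨ψ, hψ⟩ := Lib.Helper13.exists_specMap_comp_fromSpec g U hU
      (hrange g U (by rw [← hfg]; exact hxU))
    have hφψ : φ = ψ := by
      apply CommRingCat.hom_ext
      apply DFunLike.coe_injective
      apply IsHausdorff.funext' (IsLocalRing.maximalIdeal A)
      intro n b
      have h1 := h n
      rw [hφ, hψ, ← Category.assoc, ← Category.assoc, ← Spec.map_comp, ← Spec.map_comp] at h1
      have h2 := Lib.Helper13.specMap_comp_fromSpec_injective U hU _ _ h1
      exact congrArg (fun t => t.hom b) h2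
    rw [hφ, hψ, hφψ]
  · intro u hu
    -- compatibility for m ≤ n
    have hu' : ∀ (k n : ℕ) (hkn : k ≤ n), Spec.map (CommRingCat.ofHom (Ideal.Quotient.factor
        (Ideal.pow_le_pow_right (I := (IsLocalRing.maximalIdeal A)) hkn))) ≫ u n = u k := by
      intro k n hkn
      induction n, hkn using Nat.le_induction with
      | base =>
        have : Ideal.Quotient.factor (Ideal.pow_le_pow_right (I := (IsLocalRing.maximalIdeal A))
            (le_refl k)) = RingHom.id _ := by
          ext x; simp
        rw [this, CommRingCat.ofHom_id]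
        erw [Spec.map_id]
        exact Category.id_comp _
      | succ n hkn ih =>
        rw [← ih, ← hu n, ← Category.assoc, ← Spec.map_comp, ← CommRingCat.ofHom_comp,
          Ideal.Quotient.factor_comp]
    let x : X := u 1 y₁
    obtain ⟨_, ⟨U, hU, rfl⟩, hxU, -⟩ := X.isBasis_affineOpens.exists_subset_of_mem_open
      (Set.mem_univ x) isOpen_univ
    change X.Opens at U
    change IsAffineOpen U at hU
    have hur : ∀ n : ℕ, Set.range (u n) ⊆ (U : Set X) := by
      intro n
      rintro _ ⟨y, rfl⟩
      have hn : 1 ≤ n := by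
        rcases Nat.eq_zero_or_pos n with rfl | hn
        · exfalso
          have : Subsingleton (A ⧸ (IsLocalRing.maximalIdeal A) ^ 0) := by
            rw [pow_zero, Ideal.one_eq_top]
            exact Ideal.Quotient.subsingleton_iff.mpr rfl
          exact (PrimeSpectrum.isEmpty_iff_subsingleton.mpr this).false y
        · exact hn
      have hy : y = Spec.map (CommRingCat.ofHom (Ideal.Quotient.factor
          (Ideal.pow_le_pow_right (I := (IsLocalRing.maximalIdeal A)) hn))) y₁ := by
        apply PrimeSpectrum.comap_injective_of_surjective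
          (Ideal.Quotient.mk ((IsLocalRing.maximalIdeal A) ^ n)) Ideal.Quotient.mk_surjective
        rw [Lib.Helper13.comap_mk_pow_eq_closedPoint A n y]
        change _ = PrimeSpectrum.comap (Ideal.Quotient.mk ((IsLocalRing.maximalIdeal A) ^ n))
          (PrimeSpectrum.comap (Ideal.Quotient.factor
            (Ideal.pow_le_pow_right (I := (IsLocalRing.maximalIdeal A)) hn)) y₁)
        rw [← PrimeSpectrum.comap_comp_apply, Ideal.Quotient.factor_comp_mk]
        exact (Lib.Helper13.comap_mk_pow_eq_closedPoint A 1 y₁).symm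
      rw [hy, ← Scheme.Hom.comp_apply, hu' 1 n hn]
      exact hxU
    choose φ hφ using fun n => Lib.Helper13.exists_specMap_comp_fromSpec (u n) U hU (hur n)
    have hcomp : ∀ {k : ℕ}, (Ideal.Quotient.factorPow (IsLocalRing.maximalIdeal A)
        (strictMono_id.monotone k.le_succ)).comp (φ (k + 1)).hom = (φ k).hom := by
      intro k
      have h1 := hu k
      rw [hφ (k + 1), hφ k, ← Category.assoc, ← Spec.map_comp] at h1
      have h2 := Lib.Helper13.specMap_comp_fromSpec_injective U hU _ _ h1
      exact congrArg (fun t => t.hom) h2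
    let Φ : Γ(X, U) →+* A := IsAdicComplete.StrictMono.liftRingHom (IsLocalRing.maximalIdeal A)
      strictMono_id (fun n => (φ n).hom) hcomp
    have hΦ : ∀ n, (Ideal.Quotient.mk ((IsLocalRing.maximalIdeal A) ^ n)).comp Φ = (φ n).hom :=
      fun n => IsAdicComplete.StrictMono.mk_comp_liftRingHom (IsLocalRing.maximalIdeal A)
        strictMono_id (fun n => (φ n).hom) hcomp
    refine ⟨Spec.map (CommRingCat.ofHom Φ) ≫ hU.fromSpec, fun n => ?_⟩
    rw [← Category.assoc, ← Spec.map_comp, ← CommRingCat.ofHom_comp, hΦ n, hφ n]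
    rfl

end Groth.Agent.S8384
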