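import Groth.Statements.S8385
import Groth.Agent.Lib.Helper25.FinComplPts
import Groth.Agent.Lib.Helper15.FiniteComplete

set_option linter.style.haveILetI false

set_option autoImplicit false
universe u
open CategoryTheory MonoidalCategory CartesianMonoidalCategory MonObj GrpObj AlgebraicGeometry
open SGA3x

namespace Groth.Agent.S8385

/-- Let A be a complete Noetherian local ring with maximal ideal m, S = Spec A, Sₙ = Spec(A/mⁿ), X =
Spec B a scheme finite over S (B a finite A-algebra) and Y an S-scheme. Then the canonical map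
Hom_S(X, Y) → lim Hom_{Sₙ}(Xₙ, Yₙ), Xₙ = Spec(B/mⁿB), is bijective: two S-morphisms X → Y agreeing
on every Xₙ are equal, and every family of S-morphisms Xₙ → Y compatible with the closed immersions
Xₙ → Xₙ₊₁ comes from an S-morphism X → Y. -/
theorem result (A : Type u) [CommRing A] [IsLocalRing A]
    [IsNoetherianRing A] [IsAdicComplete (IsLocalRing.maximalIdeal A) A] (B : Type u) [CommRing B] [Algebra A B]
    [Module.Finite A B] (Y : Over (Spec (CommRingCat.of A))) :
    (∀ f g : Spec (CommRingCat.of B) ⟶ Y.left, f ≫ Y.hom = Spec.map (CommRingCat.ofHom (algebraMap A B)) →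
      g ≫ Y.hom = Spec.map (CommRingCat.ofHom (algebraMap A B)) →
      (∀ n : ℕ, Spec.map (CommRingCat.ofHom (Ideal.Quotient.mk (Ideal.map (algebraMap A B) ((IsLocalRing.maximalIdeal A) ^ n)))) ≫ f =
        Spec.map (CommRingCat.ofHom (Ideal.Quotient.mk (Ideal.map (algebraMap A B) ((IsLocalRing.maximalIdeal A) ^ n)))) ≫ g) → f = g) ∧
    (∀ u : (n : ℕ) → (Spec (CommRingCat.of (B ⧸ (Ideal.map (algebraMap A B) ((IsLocalRing.maximalIdeal A) ^ n)))) ⟶ Y.left),
      (∀ n : ℕ, u n ≫ Y.hom =
        Spec.map (CommRingCat.ofHom ((Ideal.Quotient.mk (Ideal.map (algebraMap A B) ((IsLocalRing.maximalIdeal A) ^ n))).comp (algebraMap A B)))) →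
      (∀ n : ℕ, Spec.map (CommRingCat.ofHom (Ideal.Quotient.factor
          (Ideal.map_mono (Ideal.pow_le_pow_right (I := (IsLocalRing.maximalIdeal A)) (Nat.le_succ n))))) ≫ u (n + 1) = u n) →
      ∃ f : Spec (CommRingCat.of B) ⟶ Y.left, f ≫ Y.hom = Spec.map (CommRingCat.ofHom (algebraMap A B)) ∧
        ∀ n : ℕ, Spec.map (CommRingCat.ofHom (Ideal.Quotient.mk (Ideal.map (algebraMap A B) ((IsLocalRing.maximalIdeal A) ^ n)))) ≫ f = u n) := by
  classical
  haveI hfin := Groth.Agent.Lib.Helper15.FiniteComplete.finite_maximalSpectrum A B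
  have hp : Function.Bijective (RingHom.pi fun m : MaximalSpectrum B =>
      algebraMap B (Localization.AtPrime m.asIdeal)) :=
    Groth.Agent.Lib.Helper15.FiniteComplete.bijective_algebraMap_pi A B
  have hfinR : ∀ m : MaximalSpectrum B, Module.Finite A (Localization.AtPrime m.asIdeal) :=
    fun m => Module.Finite.of_surjective
      (IsScalarTower.toAlgHom A B (Localization.AtPrime m.asIdeal)).toLinearMap
      (Groth.Agent.Lib.Helper15.FiniteComplete.algebraMap_localization_surjective A B m)
  have habs := fun X : Scheme.{u} => Groth.Agent.Lib.Helper25.FinComplPts.abs_points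
    (IsLocalRing.maximalIdeal A) (fun m : MaximalSpectrum B => Localization.AtPrime m.asIdeal)
    (fun m => algebraMap B (Localization.AtPrime m.asIdeal)) hp
    (fun m => (IsLocalRing.maximalIdeal A).map (algebraMap A (Localization.AtPrime m.asIdeal)))
    (fun m => by rw [← IsScalarTower.algebraMap_eq])
    (fun m => by
      haveI := hfinR m
      exact Groth.Agent.Lib.Helper15.FiniteComplete.isAdicComplete_mS A _)
    (fun m q hq hle => by
      haveI := hfinR m
      haveI := hq
      haveI : Algebra.IsIntegral A (Localization.AtPrime m.asIdeal) :=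
        Algebra.IsIntegral.of_finite A _
      have h1 : IsLocalRing.maximalIdeal A ≤
          q.comap (algebraMap A (Localization.AtPrime m.asIdeal)) :=
        Ideal.map_le_iff_le_comap.mp hle
      have h2 : IsLocalRing.maximalIdeal A =
          q.comap (algebraMap A (Localization.AtPrime m.asIdeal)) :=
        (IsLocalRing.maximalIdeal.isMaximal A).eq_of_le (Ideal.comap_ne_top _ hq.ne_top) h1
      have h3 : q.IsMaximal :=
        Ideal.isMaximal_of_isIntegral_of_isMaximal_comap q
          (h2 ▸ IsLocalRing.maximalIdeal.isMaximal A)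
      exact IsLocalRing.eq_maximalIdeal h3) X
  refine ⟨fun f g _ _ h => (habs Y.left).1 f g h, fun u hu1 hu2 => ?_⟩
  obtain ⟨f, hf⟩ := (habs Y.left).2 u hu2
  refine ⟨f, ?_, hf⟩
  apply (habs (Spec (CommRingCat.of A))).1
  intro n
  rw [← Category.assoc, hf n, hu1 n, ← Spec.map_comp, ← CommRingCat.ofHom_comp]

end Groth.Agent.S8385
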