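-- Statement S8392.
import Groth.Statements.S8392
import Mathlib
import Groth.Agent.Lib.Helper1.DiagGa
set_option linter.style.haveILetI false

set_option autoImplicit false
universe u
open CategoryTheory MonoidalCategory CartesianMonoidalCategory MonObj GrpObj AlgebraicGeometry
open SGA3x

namespace Groth.Agent.S8392

/-- Let H be an S-group scheme of multiplicative type. Then every homomorphism of S-groups H → 𝔾_a is
trivial. (Stated for H of multiplicative type and of finite type, the class of multiplicative groups
available here; the published statement allows any group of multiplicative type.) -/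
theorem result (S : Scheme.{u}) (H : Over S) [GrpObj H] (hH : SGA3x.IsMultTypeFT H)
    (u : H ⟶ Red.Ga S) [IsMonHom u] : u = 1 := by
  obtain ⟨S', f, hflat, hsurj, _, hloc⟩ := hH
  apply Groth.Agent.Lib.Helper13.gaFn_injective
  rw [Groth.Agent.Lib.Helper13.gaFn_one]
  apply Groth.Agent.Lib.Helper1.DiagGa.eq_zero_of_flat_cover
  intro x
  obtain ⟨s', hs'⟩ := hsurj.surj (H.hom.base x)
  obtain ⟨U, hsU, M, _, _, ⟨φ⟩⟩ := hloc s'
  haveI := hflat
  obtain ⟨z, hz, _⟩ := Scheme.Pullback.exists_preimage_pullback (f := H.hom) (g := U.ι ≫ f) x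
    (⟨s', hsU⟩ : U) (by
      rw [Scheme.Hom.comp_base]
      exact hs'.symm)
  exact ⟨_, Limits.pullback.fst H.hom (U.ι ≫ f), z, inferInstance, hz,
    Groth.Agent.Lib.Helper1.DiagGa.pullback_gaFn_eq_zero (U.ι ≫ f) H u M φ⟩

end Groth.Agent.S8392
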