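import Groth.Statements.S8395
-- import your own Groth.Agent.* helpers here
import Mathlib
import Groth.Agent.Lib.Helper22.PowEtE

set_option autoImplicit false
universe u
open CategoryTheory MonoidalCategory CartesianMonoidalCategory MonObj GrpObj AlgebraicGeometry
open SGA3x

namespace Groth.Agent.S8395

/-- Let k be a field, G a k-group scheme locally of finite type, n an integer invertible in k, and u : G
→ G the n-th power morphism. Then u is etale at every point of G lying in the centre of G; here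
stated at a k-rational point g of G which is central (commutes with all points of G): u is etale on
some open neighbourhood of g. (The published statement is for any point of the centre; its proof
reduces to rational points by extending the base field.) -/
theorem result (k : Type u) [Field k]
    (G : Over (Spec (CommRingCat.of k))) [GrpObj G] [LocallyOfFiniteType G.hom] (n : ℕ) (hn : (n : k) ≠ 0)
    (g : 𝟙_ (Over (Spec (CommRingCat.of k))) ⟶ G)
    (hg : ∀ (X : Over (Spec (CommRingCat.of k))) (x : X ⟶ G), (toUnit X ≫ g) * x = x * (toUnit X ≫ g)) :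
    ∃ U : G.left.Opens, Set.range g.left.base ⊆ (U : Set ↥G.left) ∧
      Etale (U.ι ≫ ((𝟙 G : G ⟶ G) ^ n).left) := by
  haveI : Subsingleton ↥(Spec (CommRingCat.of k)) := by
    change Subsingleton (PrimeSpectrum k)
    infer_instance
  obtain ⟨W, heW, hW⟩ := Groth.Agent.Lib.Helper22.PowEt.exists_etale_nhd k G n hn
  have key : ∀ c : G ⟶ G, (∀ f : G ⟶ G, f ≫ c = c) → (c * 𝟙 G) ≫ (c⁻¹ * 𝟙 G) = 𝟙 G := by
    intro c hc
    rw [MonObj.comp_mul, GrpObj.comp_inv, hc, Category.comp_id, inv_mul_cancel_left]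
  have key' : ∀ c : G ⟶ G, (∀ f : G ⟶ G, f ≫ c = c) → (c⁻¹ * 𝟙 G) ≫ (c * 𝟙 G) = 𝟙 G := by
    intro c hc
    rw [MonObj.comp_mul, hc, Category.comp_id, mul_inv_cancel_left]
  set c : G ⟶ G := toUnit G ≫ g with hcdef
  have hc : ∀ f : G ⟶ G, f ≫ c = c := by
    intro f
    rw [hcdef, ← Category.assoc]
    congr 1
    exact toUnit_unique _ _
  have hcn : ∀ f : G ⟶ G, f ≫ c ^ n = c ^ n := by
    intro f
    rw [MonObj.comp_pow, hc]
  have hcomm : Commute c (𝟙 G) := hg G (𝟙 G)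
  have h1 : (c * 𝟙 G) ≫ (𝟙 G ^ n : G ⟶ G) = (𝟙 G ^ n : G ⟶ G) ≫ (c ^ n * 𝟙 G) := by
    rw [MonObj.comp_pow, Category.comp_id, MonObj.comp_mul, hcn, Category.comp_id, hcomm.mul_pow]
  have h2 : (𝟙 G ^ n : G ⟶ G) = (c⁻¹ * 𝟙 G) ≫ (𝟙 G ^ n : G ⟶ G) ≫ (c ^ n * 𝟙 G) := by
    rw [← h1, ← Category.assoc, key' c hc, Category.id_comp]
  haveI iso1 : IsIso (c⁻¹ * 𝟙 G) := ⟨c * 𝟙 G, key' c hc, key c hc⟩
  haveI iso2 : IsIso (c ^ n * 𝟙 G) := ⟨(c ^ n)⁻¹ * 𝟙 G, key (c ^ n) hcn, key' (c ^ n) hcn⟩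
  haveI iso1' : IsIso (c⁻¹ * 𝟙 G).left := (Over.forget _).map_isIso (c⁻¹ * 𝟙 G)
  haveI iso2' : IsIso (c ^ n * 𝟙 G).left := (Over.forget _).map_isIso (c ^ n * 𝟙 G)
  have hgη : g ≫ (c⁻¹ * 𝟙 G) = η[G] := by
    have hgc : g ≫ c = g := by
      rw [hcdef, ← Category.assoc]
      have : g ≫ toUnit G = 𝟙 _ := toUnit_unique _ _
      rw [this, Category.id_comp]
    rw [MonObj.comp_mul, GrpObj.comp_inv, hgc, Category.comp_id, inv_mul_cancel, Hom.one_def]
    have : toUnit (𝟙_ (Over (Spec (CommRingCat.of k)))) = 𝟙 _ := toUnit_unique _ _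
    rw [this, Category.id_comp]
  refine ⟨(c⁻¹ * 𝟙 G).left ⁻¹ᵁ W, ?_, ?_⟩
  · rintro _ ⟨x, rfl⟩
    show (c⁻¹ * 𝟙 G).left (g.left x) ∈ W
    have hx : x = IsLocalRing.closedPoint k :=
      Subsingleton.elim (α := ↥(Spec (CommRingCat.of k))) _ _
    have e1 : (c⁻¹ * 𝟙 G).left (g.left x) = (g ≫ (c⁻¹ * 𝟙 G)).left x := by
      rw [Over.comp_left]
      rfl
    rw [e1, hgη, hx]
    exact heW
  · have e2 : ((c⁻¹ * 𝟙 G).left ⁻¹ᵁ W).ι ≫ (𝟙 G ^ n : G ⟶ G).left =
        ((c⁻¹ * 𝟙 G).left ∣_ W) ≫ (W.ι ≫ (𝟙 G ^ n : G ⟶ G).left) ≫ (c ^ n * 𝟙 G).left := by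
      conv_lhs => rw [h2]
      rw [Over.comp_left, Over.comp_left, ← Category.assoc, ← morphismRestrict_ι]
      simp only [Category.assoc]
    rw [e2]
    infer_instance

end Groth.Agent.S8395
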