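import Groth.Statements.S8441
import Mathlib.LinearAlgebra.Determinant
import Mathlib.LinearAlgebra.Matrix.Block

set_option autoImplicit false
universe u v w
open SGA3t2b

namespace Groth.Agent.S8441

/-- Let R be a root system with a system of simple roots a₁, …, aₙ and simple reflections rᵢ, and put θᵢ
= rₙ ⋯ rᵢ₊₁(aᵢ). Then the θᵢ form a basis of the group generated by the roots. Stated for a root
pairing over ℤ (Mathlib) with a base whose support is enumerated by Fin n: the θᵢ are ℤ-linearly
independent and their ℤ-span is the ℤ-span of all roots. -/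
theorem result {ι : Type u} {M : Type v} {N : Type w} [AddCommGroup M] [Module ℤ M]
    [AddCommGroup N] [Module ℤ N] (P : RootPairing ι ℤ M N) (b : P.Base) (n : ℕ) (e : Fin n ≃ ↥b.support) :
    LinearIndependent ℤ (fun i : Fin n =>
      ((List.finRange n).filter (fun j => i < j)).foldl (fun x j => P.reflection (e j : ι) x) (P.root (e i : ι))) ∧
    Submodule.span ℤ (Set.range (fun i : Fin n =>
      ((List.finRange n).filter (fun j => i < j)).foldl (fun x j => P.reflection (e j : ι) x) (P.root (e i : ι)))) =
      Submodule.span ℤ (Set.range P.root) := by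
  classical
  have hM : ‹Module ℤ M› = AddCommGroup.toIntModule M := Subsingleton.elim _ _
  subst hM
  set a : Fin n → M := fun i => P.root (e i : ι) with ha
  have hli : LinearIndependent ℤ a := by
    have h := b.linearIndepOn_root
    exact (LinearIndependent.comp h e e.injective :
      LinearIndependent ℤ ((fun x : b.support => P.root x) ∘ e))
  have hspan : Submodule.span ℤ (Set.range a) = Submodule.span ℤ (Set.range P.root) := by
    rw [← b.span_int_root_support]
    congr 1
    ext m
    constructor
    · rintro ⟨i, rfl⟩
      exact ⟨e i, (e i).2, rfl⟩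
    · rintro ⟨j, hj, rfl⟩
      exact ⟨e.symm ⟨j, hj⟩, by simp [a]⟩
  let L := Fintype.linearCombination ℤ a
  have hL : Function.Injective L := hli.fintypeLinearCombination_injective
  have hLs : ∀ j : Fin n, L (Pi.single j 1) = a j := by
    intro j
    rw [Fintype.linearCombination_apply_single]
    exact one_smul ℤ _
  let ρ : Fin n → (Fin n → ℤ) → (Fin n → ℤ) :=
    fun j c => c - (P.coroot' (e j : ι) (L c)) • Pi.single j 1
  have hρ : ∀ j c, L (ρ j c) = P.reflection (e j : ι) (L c) := by
    intro j c
    simp only [ρ, map_sub, map_smul, hLs, RootPairing.reflection_apply]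
    rfl
  have hfold : ∀ (l : List (Fin n)) c, L (l.foldl (fun x j => ρ j x) c) =
      l.foldl (fun x j => P.reflection (e j : ι) x) (L c) := by
    intro l
    induction l with
    | nil => intro c; rfl
    | cons j l ih =>
      intro c
      simp only [List.foldl_cons]
      rw [ih, hρ]
  have hcoord : ∀ (l : List (Fin n)) c k, k ∉ l → (l.foldl (fun x j => ρ j x) c) k = c k := by
    intro l
    induction l with
    | nil => intros; rfl
    | cons j l ih =>
      intro c k hk
      simp only [List.foldl_cons]
      rw [ih _ _ (fun h => hk (List.mem_cons_of_mem _ h))]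
      have hkj : k ≠ j := fun h => hk (h ▸ List.mem_cons_self ..)
      simp [ρ, Pi.single_apply, hkj]
  let c : Fin n → Fin n → ℤ := fun i =>
    ((List.finRange n).filter (fun j => i < j)).foldl (fun x j => ρ j x) (Pi.single i 1)
  have hθ : ∀ i, L (c i) = ((List.finRange n).filter (fun j => i < j)).foldl
      (fun x j => P.reflection (e j : ι) x) (P.root (e i : ι)) := by
    intro i
    rw [hfold, hLs]
  have hck : ∀ i k, k ≤ i → c i k = if k = i then 1 else 0 := by
    intro i k hk
    have h1 : c i k = (Pi.single i 1 : Fin n → ℤ) k := hcoord _ _ _ (by simp [not_lt.mpr hk])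
    rw [h1, Pi.single_apply]
  have hdet : IsUnit ((Pi.basisFun ℤ (Fin n)).det c) := by
    rw [Pi.basisFun_det_apply, Matrix.det_of_isUpperTriangular]
    · simp [hck]
    · intro i k hik
      have hik' : k < i := hik
      simp [hck i k (le_of_lt hik'), ne_of_lt hik']
  obtain ⟨hcli, hcspan⟩ := (Pi.basisFun ℤ (Fin n)).is_basis_iff_det.mpr hdet
  have hθfun : (fun i : Fin n => ((List.finRange n).filter (fun j => i < j)).foldl
      (fun x j => P.reflection (e j : ι) x) (P.root (e i : ι))) = L ∘ c :=
    funext fun i => (hθ i).symm
  rw [hθfun]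
  constructor
  · exact hcli.map' L (LinearMap.ker_eq_bot.mpr hL)
  · rw [Set.range_comp, ← Submodule.map_span, hcspan, Submodule.map_top,
      Fintype.range_linearCombination, hspan]

end Groth.Agent.S8441
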