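import Mathlib
import Groth.Statements.S8471


set_option autoImplicit false
open Red

namespace Aux8471

open Polynomial

variable {k : Type} [Field k]

lemma hom_scale {S R : Type*} [CommRing S] [CommRing R] (g : S →+* R) (P : S[X]) (s w : S) (ρ : R)
    (h : g w = g s * ρ) :
    g ((scaleRoots P s).eval w) = g s ^ P.natDegree * eval₂ g ρ P := by
  rw [← Polynomial.eval₂_at_apply, h, Polynomial.scaleRoots_eval₂_mul]

lemma step1 {A L : Type*} [CommRing A] [Field L] (ι : A →+* L) (hι : Function.Injective ι)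
    (g : k →+* A) (x y : A) (p q : k[X])
    (hpx : p.eval₂ g x ≠ 0) (hqx : q.eval₂ g x ≠ 0) (hpy : p.eval₂ g y ≠ 0)
    (hqy : q.eval₂ g y ≠ 0)
    (hFE : p.eval₂ (ι.comp g) (ι x + ι y * (p.eval₂ (ι.comp g) (ι x) / q.eval₂ (ι.comp g) (ι x))) /
        q.eval₂ (ι.comp g) (ι x + ι y * (p.eval₂ (ι.comp g) (ι x) / q.eval₂ (ι.comp g) (ι x))) =
      (p.eval₂ (ι.comp g) (ι x) / q.eval₂ (ι.comp g) (ι x)) *
        (p.eval₂ (ι.comp g) (ι y) / q.eval₂ (ι.comp g) (ι y))) :
    ((p.map g).scaleRoots (q.eval₂ g x)).eval (x * q.eval₂ g x + y * p.eval₂ g x) *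
        (q.eval₂ g x) ^ ((q.map g).natDegree + 1) * q.eval₂ g y =
      p.eval₂ g x * p.eval₂ g y *
        ((q.map g).scaleRoots (q.eval₂ g x)).eval (x * q.eval₂ g x + y * p.eval₂ g x) *
        (q.eval₂ g x) ^ (p.map g).natDegree := by
  have e1 : p.eval₂ (ι.comp g) (ι x) = ι (p.eval₂ g x) := (hom_eval₂ p g ι x).symm
  have e2 : q.eval₂ (ι.comp g) (ι x) = ι (q.eval₂ g x) := (hom_eval₂ q g ι x).symm
  have e3 : p.eval₂ (ι.comp g) (ι y) = ι (p.eval₂ g y) := (hom_eval₂ p g ι y).symm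
  have e4 : q.eval₂ (ι.comp g) (ι y) = ι (q.eval₂ g y) := (hom_eval₂ q g ι y).symm
  rw [e1, e2, e3, e4] at hFE
  obtain ⟨px, hpx'⟩ : ∃ px, px = p.eval₂ g x := ⟨_, rfl⟩
  obtain ⟨qx, hqx'⟩ : ∃ qx, qx = q.eval₂ g x := ⟨_, rfl⟩
  obtain ⟨py, hpy'⟩ : ∃ py, py = p.eval₂ g y := ⟨_, rfl⟩
  obtain ⟨qy, hqy'⟩ : ∃ qy, qy = q.eval₂ g y := ⟨_, rfl⟩
  rw [← hpx', ← hqx', ← hpy', ← hqy'] at hFE ⊢
  rw [← hpx'] at hpx
  rw [← hqx'] at hqx
  rw [← hpy'] at hpy
  rw [← hqy'] at hqy
  have hpxL : ι px ≠ 0 := (map_ne_zero_iff ι hι).2 hpx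
  have hqxL : ι qx ≠ 0 := (map_ne_zero_iff ι hι).2 hqx
  have hpyL : ι py ≠ 0 := (map_ne_zero_iff ι hι).2 hpy
  have hqyL : ι qy ≠ 0 := (map_ne_zero_iff ι hι).2 hqy
  obtain ⟨u, hu⟩ : ∃ u, u = ι x + ι y * (ι px / ι qx) := ⟨_, rfl⟩
  rw [← hu] at hFE
  have hw : ι (x * qx + y * px) = ι qx * u := by
    rw [hu, map_add, map_mul, map_mul]
    field_simp
  have hHp := hom_scale ι (p.map g) qx (x * qx + y * px) u hw
  have hHq := hom_scale ι (q.map g) qx (x * qx + y * px) u hw
  rw [eval₂_map] at hHp hHq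
  obtain ⟨a, ha⟩ : ∃ a, a = p.eval₂ (ι.comp g) u := ⟨_, rfl⟩
  obtain ⟨b, hb⟩ : ∃ b, b = q.eval₂ (ι.comp g) u := ⟨_, rfl⟩
  rw [← ha] at hHp hFE
  rw [← hb] at hHq hFE
  have hb0 : b ≠ 0 := by
    intro hb0
    rw [hb0, div_zero] at hFE
    exact (mul_ne_zero (div_ne_zero hpxL hqxL) (div_ne_zero hpyL hqyL)) hFE.symm
  have hcross : a * ι qx * ι qy = ι px * ι py * b := by
    rw [div_eq_iff hb0] at hFE
    rw [hFE]
    field_simp
  apply hι
  simp only [map_mul, map_pow]
  rw [hHp, hHq]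
  linear_combination (ι qx ^ (p.map g).natDegree * ι qx ^ (q.map g).natDegree) * hcross

lemma step2 {A R : Type*} [CommRing A] [CommRing R] (Φ : A →+* R) (g : k →+* A) (x y : A)
    (p q : k[X]) (ρ : R)
    (hρ : Φ (x * q.eval₂ g x + y * p.eval₂ g x) = Φ (q.eval₂ g x) * ρ)
    (hA : ((p.map g).scaleRoots (q.eval₂ g x)).eval (x * q.eval₂ g x + y * p.eval₂ g x) *
        (q.eval₂ g x) ^ ((q.map g).natDegree + 1) * q.eval₂ g y =
      p.eval₂ g x * p.eval₂ g y *
        ((q.map g).scaleRoots (q.eval₂ g x)).eval (x * q.eval₂ g x + y * p.eval₂ g x) *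
        (q.eval₂ g x) ^ (p.map g).natDegree) :
    (Φ (q.eval₂ g x) ^ (p.map g).natDegree * p.eval₂ (Φ.comp g) ρ) *
        Φ (q.eval₂ g x) ^ ((q.map g).natDegree + 1) * Φ (q.eval₂ g y) =
      Φ (p.eval₂ g x) * Φ (p.eval₂ g y) *
        (Φ (q.eval₂ g x) ^ (q.map g).natDegree * q.eval₂ (Φ.comp g) ρ) *
        Φ (q.eval₂ g x) ^ (p.map g).natDegree := by
  have h := congrArg Φ hA
  simp only [map_mul, map_pow] at h
  rw [hom_scale Φ (p.map g) _ _ ρ hρ, hom_scale Φ (q.map g) _ _ ρ hρ, eval₂_map, eval₂_map] at h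
  exact h

lemma eval₂_ne_zero (p : k[X]) (i : Fin 2) (hp : p.eval 0 ≠ 0) :
    p.eval₂ (algebraMap k (MvPolynomial (Fin 2) k)) (MvPolynomial.X i) ≠ 0 := by
  intro h
  apply hp
  have h' := congrArg (MvPolynomial.eval (fun _ : Fin 2 => (0 : k))) h
  rw [hom_eval₂, map_zero, MvPolynomial.eval_X] at h'
  have hc : (MvPolynomial.eval (fun _ : Fin 2 => (0 : k))).comp
      (algebraMap k (MvPolynomial (Fin 2) k)) = RingHom.id k := by
    ext a; simp
  rw [hc] at h'
  exact h'

/-- `p(X)` in `K = k(X)`. -/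
noncomputable def pK (F : RatFunc k) : RatFunc k := algebraMap k[X] (RatFunc k) F.num

/-- `q(X)` in `K = k(X)`. -/
noncomputable def qK (F : RatFunc k) : RatFunc k := algebraMap k[X] (RatFunc k) F.denom

/-- the linear polynomial `X + (p/q)·Y` in `K[Y]`. -/
noncomputable def rr (F : RatFunc k) : (RatFunc k)[X] := C (pK F / qK F) * X + C RatFunc.X

lemma qK_ne (F : RatFunc k) : qK F ≠ 0 :=
  (map_ne_zero_iff _ (RatFunc.algebraMap_injective k)).2 F.denom_ne_zero

lemma hev (P : k[X]) :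
    P.eval₂ (algebraMap k (RatFunc k)) RatFunc.X = algebraMap k[X] (RatFunc k) P := by
  rw [← aeval_def, RatFunc.aeval_X_left_eq_algebraMap]

theorem star (F : RatFunc k) (h0 : F.denom.eval 0 ≠ 0) (h1 : F.num.eval 0 = F.denom.eval 0)
    (hFE : RatFunc.eval (algebraMap k (FractionRing (MvPolynomial (Fin 2) k)))
        (algebraMap (MvPolynomial (Fin 2) k) (FractionRing (MvPolynomial (Fin 2) k)) (MvPolynomial.X 0) +
          algebraMap (MvPolynomial (Fin 2) k) (FractionRing (MvPolynomial (Fin 2) k)) (MvPolynomial.X 1) *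
            RatFunc.eval (algebraMap k (FractionRing (MvPolynomial (Fin 2) k)))
              (algebraMap (MvPolynomial (Fin 2) k) (FractionRing (MvPolynomial (Fin 2) k)) (MvPolynomial.X 0)) F) F =
      RatFunc.eval (algebraMap k (FractionRing (MvPolynomial (Fin 2) k)))
          (algebraMap (MvPolynomial (Fin 2) k) (FractionRing (MvPolynomial (Fin 2) k)) (MvPolynomial.X 0)) F *
        RatFunc.eval (algebraMap k (FractionRing (MvPolynomial (Fin 2) k)))
          (algebraMap (MvPolynomial (Fin 2) k) (FractionRing (MvPolynomial (Fin 2) k)) (MvPolynomial.X 1)) F) :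
    C (qK F) * ((F.num.map (algebraMap k (RatFunc k))).comp (rr F)) *
        (F.denom.map (algebraMap k (RatFunc k))) =
      C (pK F) * (F.num.map (algebraMap k (RatFunc k))) *
        ((F.denom.map (algebraMap k (RatFunc k))).comp (rr F)) := by
  have hp0 : F.num.eval 0 ≠ 0 := by rw [h1]; exact h0
  have hcomp : (algebraMap (MvPolynomial (Fin 2) k) (FractionRing (MvPolynomial (Fin 2) k))).comp
      (algebraMap k (MvPolynomial (Fin 2) k)) =
      algebraMap k (FractionRing (MvPolynomial (Fin 2) k)) :=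
    (IsScalarTower.algebraMap_eq k _ _).symm
  have hA := step1 (algebraMap (MvPolynomial (Fin 2) k) (FractionRing (MvPolynomial (Fin 2) k)))
    (IsFractionRing.injective _ _) (algebraMap k (MvPolynomial (Fin 2) k))
    (MvPolynomial.X 0) (MvPolynomial.X 1) F.num F.denom
    (eval₂_ne_zero _ 0 hp0) (eval₂_ne_zero _ 0 h0) (eval₂_ne_zero _ 1 hp0) (eval₂_ne_zero _ 1 h0)
    (by rw [hcomp]; exact hFE)
  obtain ⟨Φ, hΦ⟩ : ∃ Φ : MvPolynomial (Fin 2) k →+* (RatFunc k)[X],
      Φ = MvPolynomial.eval₂Hom ((C : RatFunc k →+* (RatFunc k)[X]).comp (algebraMap k (RatFunc k)))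
        ![C RatFunc.X, X] := ⟨_, rfl⟩
  have hΦx : Φ (MvPolynomial.X 0) = C RatFunc.X := by
    rw [hΦ, MvPolynomial.eval₂Hom_X']; rfl
  have hΦy : Φ (MvPolynomial.X 1) = X := by
    rw [hΦ, MvPolynomial.eval₂Hom_X']; rfl
  have hΦg : Φ.comp (algebraMap k (MvPolynomial (Fin 2) k)) =
      (C : RatFunc k →+* (RatFunc k)[X]).comp (algebraMap k (RatFunc k)) := by
    ext a
    rw [RingHom.comp_apply, MvPolynomial.algebraMap_eq, hΦ, MvPolynomial.eval₂Hom_C]
  have hΦpx : Φ (F.num.eval₂ (algebraMap k (MvPolynomial (Fin 2) k)) (MvPolynomial.X 0)) =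
      C (pK F) := by
    rw [hom_eval₂, hΦg, hΦx, ← hom_eval₂, hev]; rfl
  have hΦqx : Φ (F.denom.eval₂ (algebraMap k (MvPolynomial (Fin 2) k)) (MvPolynomial.X 0)) =
      C (qK F) := by
    rw [hom_eval₂, hΦg, hΦx, ← hom_eval₂, hev]; rfl
  have hΦpy : Φ (F.num.eval₂ (algebraMap k (MvPolynomial (Fin 2) k)) (MvPolynomial.X 1)) =
      F.num.map (algebraMap k (RatFunc k)) := by
    rw [hom_eval₂, hΦg, hΦy]; rfl
  have hΦqy : Φ (F.denom.eval₂ (algebraMap k (MvPolynomial (Fin 2) k)) (MvPolynomial.X 1)) =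
      F.denom.map (algebraMap k (RatFunc k)) := by
    rw [hom_eval₂, hΦg, hΦy]; rfl
  have hqK0 := qK_ne F
  have hρ : Φ (MvPolynomial.X 0 * F.denom.eval₂ (algebraMap k (MvPolynomial (Fin 2) k)) (MvPolynomial.X 0) +
      MvPolynomial.X 1 * F.num.eval₂ (algebraMap k (MvPolynomial (Fin 2) k)) (MvPolynomial.X 0)) =
      Φ (F.denom.eval₂ (algebraMap k (MvPolynomial (Fin 2) k)) (MvPolynomial.X 0)) * rr F := by
    rw [map_add, map_mul, map_mul, hΦx, hΦy, hΦqx, hΦpx, rr]
    have e : C (pK F) = C (qK F) * C (pK F / qK F) := by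
      rw [← C_mul]; congr 1; field_simp
    rw [e]; ring
  have h2 := step2 Φ (algebraMap k _) (MvPolynomial.X 0) (MvPolynomial.X 1) F.num F.denom
    (rr F) hρ hA
  rw [hΦqx, hΦpx, hΦpy, hΦqy, hΦg] at h2
  have hcmp : ∀ P : k[X], P.eval₂ ((C : RatFunc k →+* (RatFunc k)[X]).comp
      (algebraMap k (RatFunc k))) (rr F) = (P.map (algebraMap k (RatFunc k))).comp (rr F) := by
    intro P; rw [Polynomial.comp, eval₂_map]
  rw [hcmp, hcmp] at h2
  have hC0 : (C (qK F) : (RatFunc k)[X]) ≠ 0 := C_ne_zero.2 hqK0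
  have hne : (C (qK F) : (RatFunc k)[X]) ^ (F.num.map (algebraMap k (MvPolynomial (Fin 2) k))).natDegree *
      C (qK F) ^ (F.denom.map (algebraMap k (MvPolynomial (Fin 2) k))).natDegree ≠ 0 :=
    mul_ne_zero (pow_ne_zero _ hC0) (pow_ne_zero _ hC0)
  apply mul_left_cancel₀ hne
  linear_combination h2

lemma stageA (p q : k[X]) (hcop : IsCoprime p q) (hq : q.Monic) (c ξ γ π : RatFunc k)
    (hc : c ≠ 0) (hπ : π ≠ 0)
    (h : C γ * ((p.map (algebraMap k (RatFunc k))).comp (C c * X + C ξ)) *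
        (q.map (algebraMap k (RatFunc k))) =
      C π * (p.map (algebraMap k (RatFunc k))) *
        ((q.map (algebraMap k (RatFunc k))).comp (C c * X + C ξ))) :
    (q.map (algebraMap k (RatFunc k))).eval ξ =
      algebraMap k (RatFunc k) (q.eval 0) * c ^ q.natDegree := by
  obtain ⟨f, hf⟩ : ∃ f : k →+* RatFunc k, f = algebraMap k (RatFunc k) := ⟨_, rfl⟩
  rw [← hf] at h ⊢
  obtain ⟨r, hr⟩ : ∃ r : (RatFunc k)[X], r = C c * X + C ξ := ⟨_, rfl⟩
  rw [← hr] at h
  have hr1 : r.natDegree = 1 := by rw [hr]; exact natDegree_linear hc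
  have hrl : r.leadingCoeff = c := by rw [hr]; exact leadingCoeff_linear hc
  have hr0 : r.eval 0 = ξ := by rw [hr]; simp
  have hq' : (q.map f).Monic := hq.map f
  have hcop' : IsCoprime (q.map f) (p.map f) := by
    have h' := (hcop.map (Polynomial.mapRingHom f)).symm
    simpa only [Polynomial.coe_mapRingHom] using h'
  have hπ' : (C π : (RatFunc k)[X]) * C (π⁻¹) = 1 := by
    rw [← C_mul, mul_inv_cancel₀ hπ, C_1]
  have hdvd : q.map f ∣ (q.map f).comp r * p.map f :=
    ⟨C (π⁻¹) * C γ * (p.map f).comp r, by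
      linear_combination (-((q.map f).comp r * p.map f)) * hπ' - C (π⁻¹) * h⟩
  obtain ⟨V, hV⟩ := hcop'.dvd_of_dvd_mul_right hdvd
  have hQl : ((q.map f).comp r).leadingCoeff = c ^ q.natDegree := by
    rw [leadingCoeff_comp (by rw [hr1]; exact one_ne_zero), hq'.leadingCoeff, one_mul, hrl,
      natDegree_map]
  have hQ0 : (q.map f).comp r ≠ 0 := by
    intro h0
    rw [h0, leadingCoeff_zero] at hQl
    exact pow_ne_zero _ hc hQl.symm
  have hV0 : V ≠ 0 := by
    intro h0; rw [h0, mul_zero] at hV; exact hQ0 hV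
  have hdeg : V.natDegree = 0 := by
    have h1 := congrArg natDegree hV
    rw [natDegree_comp, hr1, mul_one, natDegree_mul hq'.ne_zero hV0] at h1
    omega
  have hVC : V = C (c ^ q.natDegree) := by
    have h1 := congrArg leadingCoeff hV
    rw [hQl, leadingCoeff_mul, hq'.leadingCoeff, one_mul] at h1
    rw [eq_C_of_natDegree_eq_zero hdeg] at h1 ⊢
    rw [leadingCoeff_C] at h1
    rw [← h1]
  have h2 := congrArg (eval 0) hV
  rw [eval_comp, hr0, eval_mul, eval_zero_map, hVC, eval_C] at h2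
  exact h2

theorem main (F : RatFunc k)
    (h0 : F.denom.eval 0 ≠ 0) (h1 : F.num.eval 0 = F.denom.eval 0)
    (hFE : RatFunc.eval (algebraMap k (FractionRing (MvPolynomial (Fin 2) k)))
        (algebraMap (MvPolynomial (Fin 2) k) (FractionRing (MvPolynomial (Fin 2) k)) (MvPolynomial.X 0) +
          algebraMap (MvPolynomial (Fin 2) k) (FractionRing (MvPolynomial (Fin 2) k)) (MvPolynomial.X 1) *
            RatFunc.eval (algebraMap k (FractionRing (MvPolynomial (Fin 2) k)))
              (algebraMap (MvPolynomial (Fin 2) k) (FractionRing (MvPolynomial (Fin 2) k)) (MvPolynomial.X 0)) F) F =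
      RatFunc.eval (algebraMap k (FractionRing (MvPolynomial (Fin 2) k)))
          (algebraMap (MvPolynomial (Fin 2) k) (FractionRing (MvPolynomial (Fin 2) k)) (MvPolynomial.X 0)) F *
        RatFunc.eval (algebraMap k (FractionRing (MvPolynomial (Fin 2) k)))
          (algebraMap (MvPolynomial (Fin 2) k) (FractionRing (MvPolynomial (Fin 2) k)) (MvPolynomial.X 1)) F) :
    ∃ a : k, F = 1 + RatFunc.C a * RatFunc.X := by
  have hst := star F h0 h1 hFE
  have hp0 : F.num.eval 0 ≠ 0 := by rw [h1]; exact h0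
  have hpne : F.num ≠ 0 := fun h => hp0 (by rw [h, eval_zero])
  have hpK0 : pK F ≠ 0 := (map_ne_zero_iff _ (RatFunc.algebraMap_injective k)).2 hpne
  have hqK0 := qK_ne F
  have hc0 : pK F / qK F ≠ 0 := div_ne_zero hpK0 hqK0
  have hcop := RatFunc.isCoprime_num_denom F
  have hmon := RatFunc.monic_denom F
  -- Stage A: the denominator is 1
  have hden : F.denom = 1 := by
    have hA := stageA F.num F.denom hcop hmon (pK F / qK F) RatFunc.X (qK F) (pK F) hc0 hpK0 hst
    rw [eval_map, hev] at hA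
    have h4 : qK F * qK F ^ F.denom.natDegree =
        algebraMap k (RatFunc k) (F.denom.eval 0) * pK F ^ F.denom.natDegree := by
      have h3 : qK F * qK F ^ F.denom.natDegree =
          algebraMap k (RatFunc k) (F.denom.eval 0) * (pK F / qK F) ^ F.denom.natDegree *
            qK F ^ F.denom.natDegree := congrArg (· * qK F ^ F.denom.natDegree) hA
      rw [h3, mul_assoc, ← mul_pow, div_mul_cancel₀ _ hqK0]
    have h5 : F.denom * F.denom ^ F.denom.natDegree =
        C (F.denom.eval 0) * F.num ^ F.denom.natDegree := by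
      apply RatFunc.algebraMap_injective k
      rw [map_mul, map_mul, map_pow, map_pow]
      exact h4
    have hd : F.denom ∣ C (F.denom.eval 0) * F.num ^ F.denom.natDegree :=
      ⟨_, h5.symm⟩
    have hd' : F.denom ∣ C (F.denom.eval 0) :=
      (hcop.symm.pow_right).dvd_of_dvd_mul_right hd
    have hu : IsUnit (C (F.denom.eval 0) : k[X]) := isUnit_C.2 (isUnit_iff_ne_zero.2 h0)
    exact hmon.eq_one_of_isUnit (isUnit_of_dvd_unit hd' hu)
  -- Stage B
  have hst' := hst
  simp only [qK, rr, hden, map_one, div_one, Polynomial.map_one, one_comp, mul_one, one_mul]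
    at hst'
  have hr1 : (C (pK F) * X + C RatFunc.X : (RatFunc k)[X]).natDegree = 1 := natDegree_linear hpK0
  have hrl : (C (pK F) * X + C RatFunc.X : (RatFunc k)[X]).leadingCoeff = pK F :=
    leadingCoeff_linear hpK0
  have hl := congrArg leadingCoeff hst'
  rw [leadingCoeff_comp (by rw [hr1]; exact one_ne_zero), hrl, leadingCoeff_mul, leadingCoeff_C,
    natDegree_map] at hl
  have hlp : (F.num.map (algebraMap k (RatFunc k))).leadingCoeff ≠ 0 := by
    rw [leadingCoeff_ne_zero]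
    exact (Polynomial.map_ne_zero_iff (algebraMap k (RatFunc k)).injective).2 hpne
  have hpow : pK F ^ F.num.natDegree = pK F := by
    apply mul_left_cancel₀ hlp
    rw [hl, mul_comm]
  have hpow' : F.num ^ F.num.natDegree = F.num := by
    apply RatFunc.algebraMap_injective k
    rw [map_pow]
    exact hpow
  have hmm : F.num.natDegree * F.num.natDegree = F.num.natDegree := by
    have := congrArg natDegree hpow'
    rw [natDegree_pow] at this
    exact this
  have hle : F.num.natDegree ≤ 1 := by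
    by_contra hlt
    have hlt' : 2 ≤ F.num.natDegree := by omega
    have h2m : 2 * F.num.natDegree ≤ F.num.natDegree * F.num.natDegree :=
      Nat.mul_le_mul_right _ hlt'
    rw [hmm] at h2m
    omega
  have hlin := eq_X_add_C_of_natDegree_le_one hle
  have hc0' : F.num.coeff 0 = 1 := by
    rw [coeff_zero_eq_eval_zero, h1, hden, eval_one]
  obtain ⟨a, ha⟩ : ∃ a, a = F.num.coeff 1 := ⟨_, rfl⟩
  rw [← ha, hc0', C_1] at hlin
  refine ⟨a, ?_⟩
  have hF := RatFunc.num_div_denom F
  rw [hden, map_one, div_one] at hF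
  have hF' : F = algebraMap k[X] (RatFunc k) (C a * X + 1) := by
    rw [← hlin]; exact hF.symm
  rw [hF', map_add, map_mul, map_one, RatFunc.algebraMap_X, RatFunc.algebraMap_C, add_comm]

end Aux8471
namespace Groth.Agent.S8471

/-- Let k be a field and F ∈ k(X) a rational function whose denominator does not vanish at 0 and with
F(0) = 1. Suppose that in the field of fractions L of k[X₀, X₁] one has F(X₀ + X₁ · F(X₀)) = F(X₀) ·
F(X₁) (the functional equation F(x + y F(x)) = F(x) F(y)). Then there is a ∈ k with F = 1 + a X.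
(The published statement takes the identity on an open neighbourhood of the origin of 𝔾_a × 𝔾_a on
which all terms are defined; this row takes it as an identity of rational functions in two
variables.) -/
theorem result (k : Type) [Field k] (F : RatFunc k)
    (h0 : F.denom.eval 0 ≠ 0) (h1 : F.num.eval 0 = F.denom.eval 0)
    (hFE : RatFunc.eval (algebraMap k (FractionRing (MvPolynomial (Fin 2) k)))
        (algebraMap (MvPolynomial (Fin 2) k) (FractionRing (MvPolynomial (Fin 2) k)) (MvPolynomial.X 0) +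
          algebraMap (MvPolynomial (Fin 2) k) (FractionRing (MvPolynomial (Fin 2) k)) (MvPolynomial.X 1) *
            RatFunc.eval (algebraMap k (FractionRing (MvPolynomial (Fin 2) k)))
              (algebraMap (MvPolynomial (Fin 2) k) (FractionRing (MvPolynomial (Fin 2) k)) (MvPolynomial.X 0)) F) F =
      RatFunc.eval (algebraMap k (FractionRing (MvPolynomial (Fin 2) k)))
          (algebraMap (MvPolynomial (Fin 2) k) (FractionRing (MvPolynomial (Fin 2) k)) (MvPolynomial.X 0)) F *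
        RatFunc.eval (algebraMap k (FractionRing (MvPolynomial (Fin 2) k)))
          (algebraMap (MvPolynomial (Fin 2) k) (FractionRing (MvPolynomial (Fin 2) k)) (MvPolynomial.X 1)) F) :
    ∃ a : k, F = 1 + RatFunc.C a * RatFunc.X := by
  exact Aux8471.main F h0 h1 hFE

end Groth.Agent.S8471
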