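import Groth.Statements.S8524
import Mathlib.AlgebraicGeometry.Morphisms.UniversallyOpen

set_option autoImplicit false
universe u
open CategoryTheory CategoryTheory.Limits AlgebraicGeometry Opposite
open EtAcyc

namespace Groth.Agent.S8524

/-- For the small etale site of a scheme and abelian sheaves: let L be a set of primes, F an abelian
L-torsion sheaf on the small etale site of a scheme X, and U an etale X-scheme with quasi-compact
underlying space. Then every section of F over U is killed by some positive integer all of whose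
prime factors lie in L. -/
theorem result {X : Scheme.{u}} (L : Set ℕ) (F : EtCoh.Ab X)
    (hF : EtAcyc.IsLTorsion L F) (U : X.Etale) [CompactSpace U.left] (s : EtCoh.sect F U) :
    ∃ m : ℕ, EtAcyc.PrimesIn L m ∧ m • s = 0 := by
  classical
  have comp_app : ∀ {A B C : X.Etale} (a : A ⟶ B) (b : B ⟶ C) (x : F.obj.obj (op C)),
      F.obj.map (a ≫ b).op x = F.obj.map a.op (F.obj.map b.op x) := by
    intro A B C a b x
    rw [op_comp, F.obj.map_comp]
    rfl
  choose V g m hv hm hs using fun x : U.left => hF U s x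
  have hopen : ∀ x, IsOpen (Set.range (g x).left.base) := fun x =>
    (g x).left.isOpenMap.isOpen_range
  have hcov : (Set.univ : Set U.left) ⊆ ⋃ x, Set.range (g x).left.base := by
    intro x _
    obtain ⟨v, hv'⟩ := hv x
    exact Set.mem_iUnion.mpr ⟨x, v, hv'⟩
  obtain ⟨t, ht⟩ := isCompact_univ.elim_finite_subcover _ hopen hcov
  refine ⟨∏ x ∈ t, m x, ⟨Finset.prod_pos fun x _ => (hm x).1, ?_⟩, ?_⟩
  · intro p hp hdvd
    obtain ⟨x, hx, hpx⟩ := (Prime.dvd_finsetProd_iff hp.prime _).mp hdvd
    exact (hm x).2 p hp hpx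
  · have hcovt : Sieve.ofArrows _ (fun x : t => g x.1) ∈ X.smallEtaleTopology U := by
      rw [Scheme.ofArrows_mem_smallEtaleTopology_iff]
      ext u
      simp only [Set.mem_iUnion, Set.mem_univ, iff_true]
      have := ht (Set.mem_univ u)
      simp only [Set.mem_iUnion, exists_prop] at this
      obtain ⟨x, hx, hu⟩ := this
      exact ⟨⟨x, hx⟩, hu⟩
    have hsh : Presieve.IsSheaf X.smallEtaleTopology (F.obj ⋙ forget AddCommGrpCat) :=
      (isSheaf_iff_isSheaf_of_type _ _).mp
        ((Presheaf.isSheaf_iff_isSheaf_forget _ _ (forget AddCommGrpCat)).mp F.property)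
    have hsep := (hsh _ hcovt).isSeparatedFor
    refine hsep.ext ?_
    rintro Y f ⟨Z, k, _, ⟨x⟩, rfl⟩
    change F.obj.map (k ≫ g x.1).op ((∏ x ∈ t, m x) • s) = F.obj.map (k ≫ g x.1).op 0
    have h0 : m x.1 • F.obj.map k.op (F.obj.map (g x.1).op s) = 0 := by
      rw [← map_nsmul, hs, map_zero]
    rw [map_zero, map_nsmul, comp_app, ← Finset.mul_prod_erase t m x.2, mul_nsmul, h0, smul_zero]

end Groth.Agent.S8524
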