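import Groth.Statements.S8525
import Groth.Agent.Lib.Helper15.EtGlue
import Groth.Agent.Lib.Helper13.StalkConservative

set_option autoImplicit false
universe u
open CategoryTheory CategoryTheory.Limits AlgebraicGeometry Opposite
open EtAcyc

open Groth.Agent.Lib.Helper13.StalkConservative

namespace Groth.Agent.S8525

/-- Let L be a set of primes and F an abelian sheaf on the small etale site of a scheme X. Then F is an
L-torsion sheaf if and only if for every geometric point ξ of X every element of the stalk F_ξ is
killed by a positive integer all of whose prime factors lie in L. -/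
theorem result {X : Scheme.{u}} (L : Set ℕ) (F : EtCoh.Ab X) :
    EtAcyc.IsLTorsion L F ↔
      ∀ (Ω : Type u) [Field Ω] [IsSepClosed Ω] (ξ : Spec (CommRingCat.of Ω) ⟶ X)
        (t : (EtCoh.stalk ξ).obj F), ∃ m : ℕ, EtAcyc.PrimesIn L m ∧ m • t = 0 := by
  constructor
  · intro hF Ω _ _ ξ t
    obtain ⟨V, v, s, rfl⟩ := (Scheme.pointSmallEtale ξ).toPresheafFiber_jointly_surjective
      (P := F.obj) t
    -- choose torsion neighbourhoods around every point of `V`
    choose W g m hpt hm hkill using fun x : V.left => hF V s x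
    have hcov : Sieve.ofArrows W g ∈ X.smallEtaleTopology V := by
      rw [Groth.Agent.Lib.Helper15.EtGlue.mem_iff]
      intro x
      obtain ⟨w, hw⟩ := hpt x
      exact ⟨W x, g x, w, Sieve.ofArrows_mk _ _ x, hw⟩
    obtain ⟨Y, f, hf, y, hy⟩ := (Scheme.pointSmallEtale ξ).jointly_surjective _ hcov v
    obtain ⟨Z, a, b, hb, rfl⟩ := hf
    obtain ⟨x⟩ := hb
    refine ⟨m x, hm x, ?_⟩
    rw [← hy, ← (Scheme.pointSmallEtale ξ).toPresheafFiber_w_apply]
    have h0 : m x • F.obj.map (a ≫ g x).op s = 0 := by
      rw [op_comp, Functor.map_comp, ConcreteCategory.comp_apply, ← map_nsmul, hkill x, map_zero]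
    have h1 : (Scheme.pointSmallEtale ξ).toPresheafFiber _ y F.obj
        (m x • F.obj.map (a ≫ g x).op s) = 0 := by rw [h0, map_zero]
    rw [map_nsmul] at h1
    exact h1
  · intro h U s x
    let ub : Spec (CommRingCat.of (SeparableClosure (U.left.residueField x))) ⟶ U.left :=
      (Scheme.SpecToEquivOfField (SeparableClosure (U.left.residueField x)) _).2
        ⟨x, CommRingCat.ofHom (algebraMap (U.left.residueField x) _)⟩
    have hub : ub.base default = x := by simp [ub, Scheme.SpecToEquivOfField]
    let ue : (Scheme.pointSmallEtale (ub ≫ U.hom)).fiber.obj U := Over.homMk ub rfl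
    obtain ⟨m, hm, hkill⟩ := h (SeparableClosure (U.left.residueField x)) (ub ≫ U.hom)
      ((Scheme.pointSmallEtale (ub ≫ U.hom)).toPresheafFiber U ue F.obj s)
    have h0 : (Scheme.pointSmallEtale (ub ≫ U.hom)).toPresheafFiber U ue F.obj (m • s) =
        (Scheme.pointSmallEtale (ub ≫ U.hom)).toPresheafFiber U ue F.obj 0 := by
      rw [map_nsmul, map_zero]
      exact hkill
    rw [(Scheme.pointSmallEtale (ub ≫ U.hom)).toPresheafFiber_eq_iff'] at h0
    obtain ⟨Y, f, y, hy, hf⟩ := h0
    refine ⟨Y, f, m, ⟨y.left.base (default : Spec (CommRingCat.of (SeparableClosure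
      (U.left.residueField x)))), ?_⟩, hm, ?_⟩
    · have h1 : y.left ≫ f.left = ub := congrArg (fun t => t.left) hy
      exact (congrArg (fun φ : Spec (CommRingCat.of (SeparableClosure
        (U.left.residueField x))) ⟶ U.left => φ.base default) h1).trans hub
    · rw [← map_nsmul]
      exact hf.trans (map_zero _)

end Groth.Agent.S8525
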