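import Groth.Statements.S8535
import Mathlib.CategoryTheory.Abelian.Refinements
import Mathlib.CategoryTheory.Limits.FunctorCategory.EpiMono
import Mathlib.Algebra.Homology.ShortComplex.ExactFunctor

set_option autoImplicit false
universe v v' u u'
open CategoryTheory CategoryTheory.Limits
open DeltaF

namespace Groth.Agent.S8535

/-- Let A and B be abelian categories, T and T' cohomological delta-functors from A to B in degrees ≥ 0
whose degree-0 components are left exact (they vanish in negative degrees), such that T^i is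
effaceable for every i > 0, and let φ : T → T' be a morphism of delta-functors and n a natural
number. Then the following are equivalent: (a) φ^i is an isomorphism for i ≤ n and a monomorphism
for i = n + 1; (b) φ^0 is a monomorphism and φ^i is an epimorphism for every i ≤ n; (c) φ^0 is an
isomorphism and, for 0 < i ≤ n, T'^i is effaceable (every object X admits a monomorphism X → Y
killed by T'^i). -/
theorem result {A : Type u} [Category.{v} A] [Abelian A]
    {B : Type u'} [Category.{v'} B] [Abelian B] (T T' : DeltaF.CohDeltaFunctor A B ℕ)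
    (h0 : T.ZeroMono) (h0' : T'.ZeroMono) (hT : T.IsEffaceable) (φ : T ⟶ T') (n : ℕ) :
    ((∀ i : ℕ, i ≤ n → IsIso (φ.app i)) ∧ Mono (φ.app (n + 1)) ↔
      (Mono (φ.app 0) ∧ ∀ i : ℕ, i ≤ n → Epi (φ.app i))) ∧
    ((∀ i : ℕ, i ≤ n → IsIso (φ.app i)) ∧ Mono (φ.app (n + 1)) ↔
      (IsIso (φ.app 0) ∧ ∀ i : ℕ, 0 < i → i ≤ n → ∀ X : A, ∃ (Y : A) (u : X ⟶ Y), Mono u ∧ (T'.F i).map u = 0)) := by
  -- short exact sequence attached to a monomorphism
  have hSE : ∀ {X Y : A} (u : X ⟶ Y) [Mono u],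
      (ShortComplex.mk u (cokernel.π u) (cokernel.condition u)).ShortExact := fun u _ =>
    { exact := ShortComplex.exact_cokernel u }
  -- key 1: isomorphism in degree k gives monomorphism in degree k + 1
  have mono_succ : ∀ k : ℕ, (∀ X, IsIso ((φ.app k).app X)) → ∀ X, Mono ((φ.app (k + 1)).app X) := by
    intro k hk X
    obtain ⟨Y, u, hu, hu0⟩ := hT k X
    have hS := hSE u
    set S := ShortComplex.mk u (cokernel.π u) (cokernel.condition u) with hSdef
    have hδepi : Epi (T.δ S hS k (k + 1) rfl) :=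
      (T.exact₁ S hS k (k + 1) rfl).epi_f hu0
    apply Preadditive.mono_of_cancel_zero
    intro W a ha
    obtain ⟨W₁, π₁, hπ₁, z, hz⟩ := surjective_up_to_refinements_of_epi (T.δ S hS k (k + 1) rfl) a
    have h1 : (z ≫ (φ.app k).app S.X₃) ≫ T'.δ S hS k (k + 1) rfl = 0 := by
      rw [Category.assoc, ← φ.comm S hS k (k + 1) rfl, ← Category.assoc, ← hz, Category.assoc, ha,
        comp_zero]
    obtain ⟨W₂, π₂, hπ₂, y', hy'⟩ :=
      (T'.exact₃ S hS k (k + 1) rfl).exact_up_to_refinements (z ≫ (φ.app k).app S.X₃) h1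
    dsimp at hy'
    have hkY := hk S.X₂
    have hkZ := hk S.X₃
    have h2 : π₂ ≫ z = (y' ≫ inv ((φ.app k).app S.X₂)) ≫ (T.F k).map S.g := by
      rw [← cancel_mono ((φ.app k).app S.X₃), Category.assoc, hy', Category.assoc, Category.assoc,
        (φ.app k).naturality, IsIso.inv_hom_id_assoc]
    have h3 : (π₂ ≫ π₁) ≫ a = 0 := by
      rw [Category.assoc, hz, ← Category.assoc, h2, Category.assoc, T.comp_δ S hS k (k + 1) rfl,
        comp_zero]
    have : Epi (π₂ ≫ π₁) := epi_comp _ _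
    exact (cancel_epi (π₂ ≫ π₁)).mp (h3.trans comp_zero.symm)
  -- key 2: epimorphism in degree k and effaceability of T' in degree k + 1 give epimorphism in degree k + 1
  have epi_succ : ∀ k : ℕ, (∀ X, Epi ((φ.app k).app X)) → ∀ X,
      (∃ (Y : A) (u : X ⟶ Y), Mono u ∧ (T'.F (k + 1)).map u = 0) → Epi ((φ.app (k + 1)).app X) := by
    intro k hk X ⟨Y, u, hu, hu0⟩
    have hS := hSE u
    set S := ShortComplex.mk u (cokernel.π u) (cokernel.condition u) with hSdef
    have hδepi : Epi (T'.δ S hS k (k + 1) rfl) :=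
      (T'.exact₁ S hS k (k + 1) rfl).epi_f hu0
    have hkZ := hk S.X₃
    have : Epi (T.δ S hS k (k + 1) rfl ≫ (φ.app (k + 1)).app S.X₁) := by
      rw [φ.comm S hS k (k + 1) rfl]
      exact epi_comp _ _
    exact epi_of_epi (T.δ S hS k (k + 1) rfl) _
  -- componentwise characterisations
  have iso_iff : ∀ i, IsIso (φ.app i) ↔ ∀ X, IsIso ((φ.app i).app X) := fun i =>
    NatTrans.isIso_iff_isIso_app _
  have mono_iff : ∀ i, Mono (φ.app i) ↔ ∀ X, Mono ((φ.app i).app X) := fun i =>
    NatTrans.mono_iff_mono_app _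
  have epi_iff : ∀ i, Epi (φ.app i) ↔ ∀ X, Epi ((φ.app i).app X) := fun i =>
    NatTrans.epi_iff_epi_app _
  -- (b) ⇒ iso in all degrees ≤ n
  have b_iso : (Mono (φ.app 0) ∧ ∀ i : ℕ, i ≤ n → Epi (φ.app i)) → ∀ i : ℕ, i ≤ n → ∀ X, IsIso ((φ.app i).app X) := by
    rintro ⟨h0m, hepi⟩ i
    induction i with
    | zero =>
      intro _ X
      have := (mono_iff 0).mp h0m X
      have := (epi_iff 0).mp (hepi 0 (Nat.zero_le _)) X
      exact isIso_of_mono_of_epi _
    | succ k ih =>
      intro hk X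
      have := mono_succ k (ih (Nat.le_of_succ_le hk)) X
      have := (epi_iff (k + 1)).mp (hepi (k + 1) hk) X
      exact isIso_of_mono_of_epi _
  -- (c) ⇒ iso in all degrees ≤ n
  have c_iso : (IsIso (φ.app 0) ∧ ∀ i : ℕ, 0 < i → i ≤ n → ∀ X : A, ∃ (Y : A) (u : X ⟶ Y), Mono u ∧ (T'.F i).map u = 0) →
      ∀ i : ℕ, i ≤ n → ∀ X, IsIso ((φ.app i).app X) := by
    rintro ⟨h0, heff⟩ i
    induction i with
    | zero => intro _ X; exact (iso_iff 0).mp h0 X
    | succ k ih =>
      intro hk X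
      have hkiso := ih (Nat.le_of_succ_le hk)
      have := mono_succ k hkiso X
      have := epi_succ k (fun X => inferInstance) X (heff (k + 1) (Nat.succ_pos k) hk X)
      exact isIso_of_mono_of_epi _
  refine ⟨⟨?_, ?_⟩, ⟨?_, ?_⟩⟩
  · rintro ⟨hiso, _⟩
    exact ⟨by have := hiso 0 (Nat.zero_le _); infer_instance, fun i hi => by have := hiso i hi; infer_instance⟩
  · intro hb
    have h := b_iso hb
    exact ⟨fun i hi => (iso_iff i).mpr (h i hi), (mono_iff (n + 1)).mpr (mono_succ n (h n le_rfl))⟩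
  · rintro ⟨hiso, _⟩
    refine ⟨hiso 0 (Nat.zero_le _), fun i hi0 hin X => ?_⟩
    obtain ⟨k, rfl⟩ : ∃ k, i = k + 1 := ⟨i - 1, by omega⟩
    obtain ⟨Y, u, hu, hu0⟩ := hT k X
    refine ⟨Y, u, hu, ?_⟩
    have hi := (iso_iff (k + 1)).mp (hiso (k + 1) hin)
    have := hi X
    rw [← cancel_epi ((φ.app (k + 1)).app X), ← (φ.app (k + 1)).naturality, hu0, zero_comp, comp_zero]
  · intro hc
    have h := c_iso hc
    exact ⟨fun i hi => (iso_iff i).mpr (h i hi), (mono_iff (n + 1)).mpr (mono_succ n (h n le_rfl))⟩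

end Groth.Agent.S8535
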