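import Groth.Statements.S8536
import Mathlib.CategoryTheory.Sites.EpiMono
import Mathlib.Algebra.Homology.DerivedCategory.Ext.ExactSequences

set_option autoImplicit false
universe u
open CategoryTheory CategoryTheory.Limits AlgebraicGeometry Opposite
open EtAcyc

namespace Groth.Agent.S8536

open Abelian

section

variable {X Y : Scheme.{u}} (h : Y ⟶ X) [PreservesFiniteLimits (EtCoh.pull h)]

lemma Hpull_apply {G : EtCoh.Ab X} {n : ℕ} (x : EtCoh.H X G n) :
    EtCore.Hpull h G n x =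
      (Ext.mk₀ (EtCore.pullConst h ℤ).inv).comp (x.mapExactFunctor (EtCoh.pull h)) (zero_add n) := rfl

lemma Hpull_comp_mk₀ {G G' : EtCoh.Ab X} (φ : G ⟶ G') {n : ℕ} (x : EtCoh.H X G n) :
    EtCore.Hpull h G' n (x.comp (Ext.mk₀ φ) (add_zero n)) =
      (EtCore.Hpull h G n x).comp (Ext.mk₀ ((EtCoh.pull h).map φ)) (add_zero n) := by
  rw [Hpull_apply, Hpull_apply, Ext.mapExactFunctor_comp, Ext.mapExactFunctor_mk₀,
    Ext.comp_assoc_of_third_deg_zero]

lemma Hpull_comp_extClass {S : ShortComplex (EtCoh.Ab X)} (hS : S.ShortExact) {n m : ℕ}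
    (hnm : n + 1 = m) (x : EtCoh.H X S.X₃ n) :
    EtCore.Hpull h S.X₁ m (x.comp hS.extClass hnm) =
      (EtCore.Hpull h S.X₃ n x).comp (hS.map_of_exact (EtCoh.pull h)).extClass hnm := by
  rw [Hpull_apply, Hpull_apply, Ext.mapExactFunctor_comp, Ext.mapExactFunctor_extClass]
  exact (Ext.comp_assoc _ _ _ (zero_add n) hnm (by omega)).symm

end

/-- A quotient of an `L`-torsion sheaf is `L`-torsion. -/
lemma isLTorsion_of_epi {X : Scheme.{u}} {L : Set ℕ} {G C : EtCoh.Ab X} (π : G ⟶ C) [Epi π]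
    (hG : IsLTorsion L G) : IsLTorsion L C := by
  intro U s x
  have hls : Sheaf.IsLocallySurjective π := (Sheaf.isLocallySurjective_iff_epi' (φ := π)).mpr inferInstance
  obtain ⟨T, hT, hmem⟩ : ∃ T : Sieve U, (∀ ⦃V : X.Etale⦄ (g : V ⟶ U), T g →
      ∃ t : G.obj.obj (op V), π.hom.app (op V) t = C.obj.map g.op s) ∧ T ∈ X.smallEtaleTopology U :=
    ⟨_, fun V g hg => hg, Presheaf.imageSieve_mem X.smallEtaleTopology π.hom (U := op U) s⟩
  have eX : X.smallEtaleTopology =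
      (X.smallPretopology (P := EtCoh.etaleMP) (Q := EtCoh.etaleMP)).toGrothendieck :=
    Scheme.smallGrothendieckTopology_eq_toGrothendieck_smallPretopology X le_rfl
  rw [eX] at hmem
  obtain ⟨V, g, v, hgT, -, hv⟩ := (Scheme.mem_toGrothendieck_smallPretopology U _).1 hmem x
  obtain ⟨t, ht⟩ := hT g hgT
  obtain ⟨V', g', m, ⟨v', hv'⟩, hm, hkill⟩ := hG V t v
  refine ⟨V', g' ≫ g, m, ⟨v', ?_⟩, hm, ?_⟩
  · have : (g' ≫ g).left = g'.left ≫ g.left := rfl
    rw [this, Scheme.Hom.comp_base, TopCat.comp_app, hv']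
    exact hv
  · have h1 : C.obj.map (g' ≫ g).op s = π.hom.app (op V') (G.obj.map g'.op t) := by
      rw [op_comp, Functor.map_comp_apply, NatTrans.naturality_apply, ht]
    rw [h1, ← map_nsmul, hkill, map_zero]

/-- Let h : Y → X be a morphism of quasi-compact quasi-separated schemes, L a set of primes and n a
natural number, and suppose that for every abelian L-torsion sheaf on X the pullback map on etale
cohomology along h is bijective in degrees ≤ n and injective in degree n + 1. Let u : F → G be a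
monomorphism of abelian L-torsion sheaves on X and ξ a class in H^{n+1}(Y, h⁻¹F) whose image in
H^{n+1}(Y, h⁻¹G) comes from H^{n+1}(X, G). Then ξ comes from H^{n+1}(X, F). -/
theorem result {X Y : Scheme.{u}} [CompactSpace X] [QuasiSeparatedSpace X]
    [CompactSpace Y] [QuasiSeparatedSpace Y] (h : Y ⟶ X) (L : Set ℕ) (n : ℕ) (hc : EtAcyc.CompN h L n)
    [PreservesFiniteLimits (EtCoh.pull h)] {F G : EtCoh.Ab X} (u : F ⟶ G) [Mono u]
    (hF : EtAcyc.IsLTorsion L F) (hG : EtAcyc.IsLTorsion L G)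
    (ξ : EtCoh.H Y ((EtCoh.pull h).obj F) (n + 1))
    (hξ : (EtCoh.HF Y (n + 1)).map ((EtCoh.pull h).map u) ξ ∈ Set.range (EtCore.Hpull h G (n + 1))) :
    ξ ∈ Set.range (EtCore.Hpull h F (n + 1)) := by
  obtain ⟨η, hη⟩ := hξ
  let S : ShortComplex (EtCoh.Ab X) := ShortComplex.mk u (cokernel.π u) (cokernel.condition u)
  have hS : S.ShortExact := { exact := ShortComplex.exact_cokernel u }
  have hC : IsLTorsion L S.X₃ := isLTorsion_of_epi (cokernel.π u) hG
  have hcC := hc S.X₃ hC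
  have hS' := hS.map_of_exact (EtCoh.pull h)
  have hη' : EtCore.Hpull h G (n + 1) η = ξ.comp (Ext.mk₀ ((EtCoh.pull h).map S.f)) (add_zero _) := hη
  have h1 : η.comp (Ext.mk₀ S.g) (add_zero _) = 0 := by
    apply hcC.2
    rw [map_zero, Hpull_comp_mk₀, hη', Ext.comp_assoc_of_third_deg_zero, Ext.mk₀_comp_mk₀,
      ← Functor.map_comp, S.zero, Functor.map_zero, Ext.mk₀_zero, Ext.comp_zero]
  obtain ⟨ζ, hζ⟩ := Ext.covariant_sequence_exact₂ _ hS η h1
  have h3 : (ξ - EtCore.Hpull h F (n + 1) ζ).comp (Ext.mk₀ ((EtCoh.pull h).map S.f)) (add_zero _) = 0 := by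
    rw [sub_eq_add_neg, Ext.add_comp, Ext.neg_comp, ← Hpull_comp_mk₀, hζ, hη', add_neg_cancel]
  obtain ⟨c', hc'⟩ := Ext.covariant_sequence_exact₁ _ hS' (ξ - EtCore.Hpull h F (n + 1) ζ) h3
    (rfl : n + 1 = n + 1)
  obtain ⟨c, rfl⟩ := (hcC.1 n le_rfl).2 c'
  refine ⟨ζ + c.comp hS.extClass rfl, ?_⟩
  have e : EtCore.Hpull h F (n + 1) (c.comp hS.extClass rfl) = ξ - EtCore.Hpull h F (n + 1) ζ :=
    (Hpull_comp_extClass h hS rfl c).trans hc'
  rw [map_add, e]
  abel

end Groth.Agent.S8536
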