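import Groth.Statements.S8538
-- import your own Groth.Agent.* helpers here
import Mathlib
import Groth.Agent.Lib.Helper12.DimFormulaLocal
import Groth.Agent.Lib.Helper12.JacDim
import Groth.Agent.Lib.Helper12.ClosedDim
import Groth.Agent.S3433

set_option autoImplicit false
universe u
open CategoryTheory CategoryTheory.Limits AlgebraicGeometry Opposite
open EtCd

namespace Groth.Agent.S8538

open Groth.Agent.Lib.Helper12 Groth.Agent.Lib.Helper12.SchemeDimFT
open Groth.Agent.Lib.Helper12.SchemeDimIneq Groth.Agent.Lib.Helper12.OrdTools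
open Groth.Agent.Lib.Helper12.JacDim Groth.Agent.Lib.Helper12.DimFormulaLocal
open Groth.Agent.Lib.Helper14

theorem krullDim_Icc_spec (A : Type u) [CommRing A] (p q : Spec (CommRingCat.of A)) :
    Order.krullDim (Set.Icc p q) =
      Order.krullDim (Set.Icc (show PrimeSpectrum A from q) (show PrimeSpectrum A from p)) := by
  have := krullDim_Icc_eq_of_anti (α := Spec (CommRingCat.of A)) (β := PrimeSpectrum A)
    (fun z => z) (fun a b => (AffineSpace.spec_le_iff _ b a).symm) (fun _ _ h => h)
    ⟨fun _ _ _ _ c _ => ⟨c, rfl⟩⟩ p q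
  exact this.symm

theorem krullDim_Iic_le_of_forall {α : Type*} [Preorder α] (x : α) (C : WithBot ℕ∞)
    (h : ∀ z ≤ x, ∃ z' ≤ z, Order.krullDim (Set.Icc z' x) ≤ C) :
    Order.krullDim (Set.Iic x) ≤ C := by
  unfold Order.krullDim
  refine iSup_le fun l => ?_
  obtain ⟨z', hz', hC⟩ := h l.head.1 l.head.2
  let l' : LTSeries (Set.Icc z' x) :=
    { length := l.length
      toFun := fun i => ⟨(l i).1, hz'.trans (l.head_le i), (l i).2⟩
      step := fun i => l.step i }
  exact (Order.LTSeries.length_le_krullDim l').trans hC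

theorem krullDim_Icc_le_Iic {α : Type*} [Preorder α] (z x : α) :
    Order.krullDim (Set.Icc z x) ≤ Order.krullDim (Set.Iic x) :=
  Order.krullDim_le_of_strictMono (fun w : Set.Icc z x => (⟨w.1, w.2.2⟩ : Set.Iic x))
    (fun _ _ h => h)

/-- Let A be a Noetherian universally catenary local ring, f : X → Spec A a morphism of finite type, x a
point of X with image y, and X₀ the closed fibre of f. Put δ(x) = dim closure(y) + trdeg(κ(x)/κ(y))
= dim(A/p_y) + trdeg(κ(x)/κ(y)) and d(x) = dim closure(x) (topological Krull dimension of the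
closure of x in X). Then d(x) = δ(x) when the closure of x meets X₀, and d(x) + 1 = δ(x) when it
does not. -/
theorem result (A : Type u) [CommRing A] [IsNoetherianRing A] [IsLocalRing A]
    (hA : CAlg.IsUniversallyCatenary A) {X : Scheme.{u}} (f : X ⟶ Spec (CommRingCat.of A)) [LocallyOfFiniteType f]
    [QuasiCompact f] (x : X) (a b d : ℕ) (ha : ringKrullDim (A ⧸ (f.base x).asIdeal) = a)
    (hb : letI := (f.residueFieldMap x).hom.toAlgebra;
      Algebra.trdeg ((Spec (CommRingCat.of A)).residueField (f.base x)) (X.residueField x) = b)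
    (hd : topologicalKrullDim ↥(closure ({x} : Set X)) = d) :
    ((closure ({x} : Set X) ∩ f.base ⁻¹' {((IsLocalRing.closedPoint A : PrimeSpectrum A) : ↥(Spec (CommRingCat.of A)))}).Nonempty →
        d = a + b) ∧
    (closure ({x} : Set X) ∩ f.base ⁻¹' {((IsLocalRing.closedPoint A : PrimeSpectrum A) : ↥(Spec (CommRingCat.of A)))} = ∅ →
        d + 1 = a + b) := by
  classical
  haveI : IsLocallyNoetherian X := LocallyOfFiniteType.isLocallyNoetherian f
  haveI : CompactSpace X := by
    have := (HasAffineProperty.iff_of_isAffine (P := @QuasiCompact) (f := f)).mp inferInstance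
    exact this
  have hAcat : CAlg.IsCatenary A := hA.2 A inferInstance
  have hΓ : CAlg.IsUniversallyCatenary Γ(Spec (CommRingCat.of A), ⊤) :=
    isUniversallyCatenary_of_ringEquiv
      (Scheme.ΓSpecIso (CommRingCat.of A)).commRingCatIsoToRingEquiv.symm hA
  have hb' : trn f x = (b : ℕ∞) := by
    unfold trn
    rw [hb]
    simp
  -- dimension of the closure as a height
  have hd' : Order.krullDim (Set.Iic x) = (d : WithBot ℕ∞) := by
    rw [← hd, ClosedDim.topologicalKrullDim_eq_krullDim_of_isLocallyClosed _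
      isClosed_closure.isLocallyClosed]
    have : closure ({x} : Set X) = Set.Iic x := by
      ext t
      rw [← specializes_iff_mem_closure]
      rfl
    rw [this]
  set m : Spec (CommRingCat.of A) := (IsLocalRing.closedPoint A : PrimeSpectrum A) with hm
  -- intervals from the closed point
  have hIm : ∀ y : Spec (CommRingCat.of A), Order.krullDim (Set.Icc m y) =
      ringKrullDim (A ⧸ y.asIdeal) := by
    intro y
    rw [krullDim_Icc_spec, DimFT.ringKrullDim_quotient_eq_coheight]
    exact krullDim_Icc_eq_coheight_of_greatest (show PrimeSpectrum A from y)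
      (IsLocalRing.closedPoint A) (fun z => le_top (a := z))
  -- the key computation at closed points
  have key : ∀ z : X, IsClosed ({z} : Set X) → x ⤳ z → ∃ n : ℕ,
      Order.krullDim (Set.Icc z x) = (n : WithBot ℕ∞) ∧
        (f z = m → n = a + b) ∧ (f z ≠ m → n + 1 = a + b) := by
    intro z hz hxz
    have DF := scheme_dimFormula_of_affine f hΓ z x hxz
    rw [trn_eq_zero_of_isClosed f z hz, hb'] at DF
    obtain ⟨n, hn⟩ := exists_nat_krullDim_Icc (a := z) (b := x) hxz
    refine ⟨n, hn, ?_, ?_⟩
    · intro hfz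
      rw [hn, hfz, hIm, ha] at DF
      have : (n : WithBot ℕ∞) = ((a + b : ℕ) : WithBot ℕ∞) := by
        simpa using DF
      exact_mod_cast this
    · intro hfz
      -- the image is a closed point of the punctured spectrum
      let V : (Spec (CommRingCat.of A)).Opens :=
        ⟨({IsLocalRing.closedPoint A}ᶜ : Set (PrimeSpectrum A)),
          (IsLocalRing.isClosed_singleton_closedPoint A).isOpen_compl⟩
      haveI : JacobsonSpace ↥(V.toScheme) := (Groth.Agent.S3433.result A).1
      have hzV : z ∈ f ⁻¹ᵁ V := hfz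
      have hcl : IsClosed ({(⟨z, hzV⟩ : ↥(f ⁻¹ᵁ V))} : Set ↥(f ⁻¹ᵁ V)) := by
        have : ({(⟨z, hzV⟩ : ↥(f ⁻¹ᵁ V))} : Set ↥(f ⁻¹ᵁ V)) = Subtype.val ⁻¹' {z} := by
          ext w
          simp only [Set.mem_singleton_iff, Set.mem_preimage]
          exact ⟨fun h => by rw [h], fun h => Subtype.ext h⟩
        rw [this]
        exact hz.preimage continuous_subtype_val
      have hcl2 := (f ∣_ V).closePoints_subset_preimage_closedPoints
        (show (⟨z, hzV⟩ : ↥(f ⁻¹ᵁ V)) ∈ closedPoints ↥(f ⁻¹ᵁ V) from hcl)
      have hcl3 : IsClosed ({(f ∣_ V) ⟨z, hzV⟩} : Set ↥V) := hcl2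
      have hval : ((f ∣_ V) ⟨z, hzV⟩).1 = f z := morphismRestrict_base_coe f V ⟨z, hzV⟩
      have hdim1 : ringKrullDim (A ⧸ (f z).asIdeal) = 1 := by
        have := ((Groth.Agent.S3433.result A).2 ((f ∣_ V) ⟨z, hzV⟩)).mp hcl3
        rw [hval] at this
        exact this
      -- catenary additivity in `Spec A`
      have hle : (show PrimeSpectrum A from f x) ≤ (show PrimeSpectrum A from f z) := by
        have h1 : f x ⤳ f z := hxz.map f.continuous
        exact (PrimeSpectrum.le_iff_specializes _ _).mpr h1
      have hadd := coheight_eq_add_krullDim_Icc (L := PrimeSpectrum A) hAcat hle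
      rw [← DimFT.ringKrullDim_quotient_eq_coheight, ← DimFT.ringKrullDim_quotient_eq_coheight,
        ha, hdim1, ← krullDim_Icc_spec] at hadd
      obtain ⟨k, hk⟩ := exists_nat_krullDim_Icc (a := f z) (b := f x) (hxz.map f.continuous)
      rw [hk] at hadd DF
      rw [hn] at DF
      have e1 : a = 1 + k := by exact_mod_cast hadd
      have e2 : (n : WithBot ℕ∞) = ((k + b : ℕ) : WithBot ℕ∞) := by simpa using DF
      have e3 : n = k + b := by exact_mod_cast e2
      omega
  -- every point of the closure specializes to a closed point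
  have hex : ∀ z₀ : X, x ⤳ z₀ → ∃ z : X, IsClosed ({z} : Set X) ∧ z₀ ⤳ z := by
    intro z₀ _
    obtain ⟨z, hz1, hz2⟩ := IsClosed.exists_closed_singleton (isClosed_closure (s := {z₀}))
      ⟨z₀, subset_closure rfl⟩
    exact ⟨z, hz2, specializes_iff_mem_closure.mpr hz1⟩
  constructor
  · rintro ⟨w, hw1, hw2⟩
    have hxw : x ⤳ w := specializes_iff_mem_closure.mpr hw1
    obtain ⟨z, hz, hwz⟩ := hex w hxw
    have hfz : f z = m := by
      have h1 : f w ⤳ f z := hwz.map f.continuous
      have h2 : f w = m := hw2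
      rw [h2] at h1
      have h3 : f z ∈ closure ({m} : Set (Spec (CommRingCat.of A))) :=
        specializes_iff_mem_closure.mp h1
      have hmcl : IsClosed ({m} : Set (Spec (CommRingCat.of A))) :=
        IsLocalRing.isClosed_singleton_closedPoint A
      rw [hmcl.closure_eq] at h3
      exact h3
    obtain ⟨n, hn, hn1, -⟩ := key z hz (hxw.trans hwz)
    have hlow := krullDim_Icc_le_Iic z x
    rw [hn, hd', hn1 hfz] at hlow
    have hup : Order.krullDim (Set.Iic x) ≤ ((a + b : ℕ) : WithBot ℕ∞) := by
      apply krullDim_Iic_le_of_forall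
      intro z₀ hz₀
      obtain ⟨z', hz', hz₀z'⟩ := hex z₀ hz₀
      obtain ⟨n', hn', h1, h2⟩ := key z' hz' (Specializes.trans hz₀ hz₀z')
      refine ⟨z', hz₀z', ?_⟩
      rw [hn']
      by_cases hf : f z' = m
      · rw [h1 hf]
      · have := h2 hf
        have : n' ≤ a + b := by omega
        exact_mod_cast this
    rw [hd'] at hup
    have l1 : a + b ≤ d := by exact_mod_cast hlow
    have l2 : d ≤ a + b := by exact_mod_cast hup
    omega
  · intro hemp
    have hne : ∀ z : X, x ⤳ z → f z ≠ m := by
      intro z hxz hfz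
      have h9 : z ∈ (∅ : Set X) := by
        rw [← hemp]
        exact ⟨specializes_iff_mem_closure.mp hxz, hfz⟩
      exact h9
    obtain ⟨z, hz, hxz⟩ := hex x specializes_rfl
    obtain ⟨n, hn, -, hn2⟩ := key z hz hxz
    have hn3 := hn2 (hne z hxz)
    have hlow := krullDim_Icc_le_Iic z x
    rw [hn, hd'] at hlow
    have hup : Order.krullDim (Set.Iic x) ≤ ((n : ℕ) : WithBot ℕ∞) := by
      apply krullDim_Iic_le_of_forall
      intro z₀ hz₀
      obtain ⟨z', hz', hz₀z'⟩ := hex z₀ hz₀
      have hxz' : x ⤳ z' := Specializes.trans hz₀ hz₀z'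
      obtain ⟨n', hn', -, h2⟩ := key z' hz' hxz'
      refine ⟨z', hz₀z', ?_⟩
      rw [hn']
      have := h2 (hne z' hxz')
      have : n' ≤ n := by omega
      exact_mod_cast this
    rw [hd'] at hup
    have l1 : n ≤ d := by exact_mod_cast hlow
    have l2 : d ≤ n := by exact_mod_cast hup
    omega

end Groth.Agent.S8538
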