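import Groth.Statements.S8542
import Groth.Agent.Lib.Helper13.EtSecPull

set_option autoImplicit false
universe u
open CategoryTheory CategoryTheory.Limits AlgebraicGeometry Opposite
open EtBC
open Groth.Agent.Lib.Helper13 Groth.Agent.Lib.Helper13.FlatPullback

namespace Groth.Agent.S8542

/-- Let h : Y → X be a morphism of quasi-compact quasi-separated schemes such that for every sheaf of
sets F on the small etale site of X the pullback map Γ(X, F) → Γ(Y, h^*F) is injective. Let u : F →
G be a monomorphism of sheaves of sets on X and ξ ∈ Γ(Y, h^*F) a section whose image in Γ(Y, h^*G)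
lies in the image of Γ(X, G). Then ξ lies in the image of Γ(X, F). -/
theorem result {X Y : Scheme.{u}} [CompactSpace X] [QuasiSeparatedSpace X]
    [CompactSpace Y] [QuasiSeparatedSpace Y] (h : Y ⟶ X)
    (hinj : ∀ F : EtDesc.Sh X, Function.Injective (EtDesc.secPull h F))
    {F G : EtDesc.Sh X} (u : F ⟶ G) [Mono u] (ξ : EtDesc.sect ((EtDesc.pullSh h).obj F) (EtCoh.top Y))
    (hξ : ((EtDesc.pullSh h).map u).hom.app (op (EtCoh.top Y)) ξ ∈ Set.range (EtDesc.secPull h G)) :
    ξ ∈ Set.range (EtDesc.secPull h F) := by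
  obtain ⟨η, hη⟩ := hξ
  -- the two images of `η` in the cokernel pair agree
  have hab : (pushout.inl u u).hom.app (op (EtCoh.top X)) η = (pushout.inr u u).hom.app (op (EtCoh.top X)) η := by
    apply hinj (pushout u u)
    rw [EtSecPull.secPull_natural, EtSecPull.secPull_natural, hη]
    have h1 : ∀ (a b : G ⟶ pushout u u), u ≫ a = u ≫ b →
        ((EtDesc.pullSh h).map a).hom.app (op (EtCoh.top Y))
          (((EtDesc.pullSh h).map u).hom.app (op (EtCoh.top Y)) ξ) =
        ((EtDesc.pullSh h).map b).hom.app (op (EtCoh.top Y))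
          (((EtDesc.pullSh h).map u).hom.app (op (EtCoh.top Y)) ξ) := by
      intro a b hab
      have := congrArg (fun α => ((EtDesc.pullSh h).map α).hom.app (op (EtCoh.top Y)) ξ) hab
      simp only [Functor.map_comp] at this
      exact this
    exact h1 _ _ pushout.condition
  obtain ⟨ζ, hζ⟩ := EtSecPull.exists_of_inl_eq_inr u (op (EtCoh.top X)) η hab
  refine ⟨ζ, ?_⟩
  have : Mono ((EtDesc.pullSh h).map u) := inferInstance
  apply EtSecPull.injective_of_mono ((EtDesc.pullSh h).map u) (op (EtCoh.top Y))
  rw [← EtSecPull.secPull_natural, hζ, hη]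

end Groth.Agent.S8542
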