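import Groth.Statements.S8544
-- import your own Groth.Agent.* helpers here
import Mathlib
import Groth.Agent.Lib.Helper12.StratTowerLoc

set_option autoImplicit false
universe u
open CategoryTheory CategoryTheory.Limits AlgebraicGeometry Opposite
open EtPBC

namespace Groth.Agent.S8544

/-- Let f : X → Y be a surjective morphism locally of finite presentation, with Y quasi-compact and
quasi-separated. Then there are a finite partition of Y by subschemes Y_i of finite presentation
over Y (immersions e_i of finite presentation with pairwise disjoint images covering Y) and, for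
each i, finite surjective morphisms g_i : Y_i'' → Y_i' and h_i : Y_i' → Y_i with h_i etale and g_i
flat, of finite presentation and radicial (universally injective), together with a Y-morphism s_i :
Y_i'' → X, i.e. s_i followed by f equals g_i, h_i, e_i composed. -/
theorem result {X Y : Scheme.{u}} (f : X ⟶ Y) [Surjective f]
    [LocallyOfFinitePresentation f] [CompactSpace Y] [QuasiSeparatedSpace Y] :
    ∃ (m : ℕ) (T T' T'' : Fin m → Scheme.{u}) (e : ∀ i, T i ⟶ Y) (hh : ∀ i, T' i ⟶ T i) (gg : ∀ i, T'' i ⟶ T' i)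
      (s : ∀ i, T'' i ⟶ X),
      (∀ i, IsImmersion (e i) ∧ LocallyOfFinitePresentation (e i) ∧ QuasiCompact (e i)) ∧
      Pairwise (fun i j => Disjoint (Set.range (e i).base) (Set.range (e j).base)) ∧
      (⋃ i, Set.range (e i).base) = Set.univ ∧
      (∀ i, IsFinite (hh i) ∧ Surjective (hh i) ∧ Etale (hh i)) ∧
      (∀ i, IsFinite (gg i) ∧ Surjective (gg i) ∧ Flat (gg i) ∧ LocallyOfFinitePresentation (gg i) ∧
        UniversallyInjective (gg i)) ∧
      ∀ i, s i ≫ f = gg i ≫ hh i ≫ e i := by
  classical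
  obtain ⟨n, T, e, h1, h2, h3⟩ := Groth.Agent.Lib.Helper12.StratSch.exists_strat
    (S := Y) (fun {T} e => Groth.Agent.Lib.Helper12.StratTowerLoc.HasTower f e)
    (fun h a H => H.comp h)
    (fun s => by
      obtain ⟨T, a, ha, hT, σ, hσ⟩ :=
        Groth.Agent.Lib.Helper12.StratTowerLoc.exists_local_tower f s (f.surjective s)
      exact ⟨T, a, ha, hT, σ, hσ⟩)
  choose T' T'' h g σ hh hg hσ using fun i => (h1 i).2.2.2.2
  refine ⟨n, T, T', T'', e, h, g, σ,
    fun i => ⟨(h1 i).2.1, (h1 i).2.2.2.1, (h1 i).2.2.1⟩, h2, h3, fun i => ?_,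
    fun i => ?_, hσ⟩
  · obtain ⟨a1, a2, a3⟩ := hh i
    exact ⟨a1, a2, a3⟩
  · obtain ⟨b1, b2, b3, b4, b5⟩ := hg i
    exact ⟨b1, b2, b3, b4, b5⟩

end Groth.Agent.S8544
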