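import Groth.Statements.S8547
import Groth.Agent.Lib.Helper13.EtBaseChange

set_option autoImplicit false
universe u
open CategoryTheory CategoryTheory.Limits AlgebraicGeometry Opposite
open EtBC
open Groth.Agent.Lib.Helper13 Groth.Agent.Lib.Helper13.FlatPullback

namespace Groth.Agent.S8547

/-- Let h : Y → X and p : X̄ → X be morphisms of schemes with X, Y, X̄ quasi-compact and quasi-separated
(p need not be surjective), and Ȳ = Y ×_X X̄ with projections h̄ : Ȳ → X̄ and p_Y : Ȳ → Y. If the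
pullback map on global sections Γ(X, F) → Γ(Y, h^*F) is injective for every sheaf of sets F on X and
the base change morphism h^* p_* F̄ → p_{Y*} h̄^* F̄ is a monomorphism for every sheaf of sets F̄ on
X̄, then Γ(X̄, F̄) → Γ(Ȳ, h̄^*F̄) is injective for every F̄. If the maps for h are bijective and the
base change morphisms are isomorphisms, then the maps for h̄ are bijective. -/
theorem result {X Y Xb Yb : Scheme.{u}} [CompactSpace X]
    [QuasiSeparatedSpace X] [CompactSpace Y] [QuasiSeparatedSpace Y] [CompactSpace Xb] [QuasiSeparatedSpace Xb]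
    (h : Y ⟶ X) (p : Xb ⟶ X) (hb : Yb ⟶ Xb) (pY : Yb ⟶ Y) (sq : IsPullback hb pY p h) :
    ((∀ F : EtDesc.Sh X, Function.Injective (EtDesc.secPull h F)) →
      (∀ Fb : EtDesc.Sh Xb, Mono (EtBC.baseChange0Sh p h pY hb sq.w Fb)) →
      ∀ Fb : EtDesc.Sh Xb, Function.Injective (EtDesc.secPull hb Fb)) ∧
    ((∀ F : EtDesc.Sh X, Function.Bijective (EtDesc.secPull h F)) →
      (∀ Fb : EtDesc.Sh Xb, IsIso (EtBC.baseChange0Sh p h pY hb sq.w Fb)) →
      ∀ Fb : EtDesc.Sh Xb, Function.Bijective (EtDesc.secPull hb Fb)) := by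
  have einv : ∀ (Fb : EtDesc.Sh Xb) (s' : EtDesc.sect Fb (EtCoh.top Xb)),
      Fb.obj.map (EtCore.bcTopIso p).inv.op (Fb.obj.map (EtCore.bcTopIso p).hom.op s') = s' := by
    intro Fb s'
    rw [← Functor.map_comp_apply, ← op_comp, Iso.inv_hom_id, op_id, Functor.map_id_apply]
  have inj : (∀ F : EtDesc.Sh X, Function.Injective (EtDesc.secPull h F)) →
      (∀ Fb : EtDesc.Sh Xb, Mono (EtBC.baseChange0Sh p h pY hb sq.w Fb)) →
      ∀ Fb : EtDesc.Sh Xb, Function.Injective (EtDesc.secPull hb Fb) := by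
    intro hinj hmono Fb s₁ s₂ h12
    have := hmono Fb
    rw [← einv Fb s₁, ← einv Fb s₂, EtSecPull.secPull_baseChange h p hb pY sq.w,
      EtSecPull.secPull_baseChange h p hb pY sq.w] at h12
    have h1 := (EtSecPull.bijective_map_iso _ (EtCore.bcTopIso pY)).1 h12
    have h2 := EtSecPull.injective_of_mono _ _ h1
    have h3 := hinj _ h2
    rw [← einv Fb s₁, ← einv Fb s₂, h3]
  refine ⟨inj, ?_⟩
  intro hbij hiso Fb
  refine ⟨inj (fun F => (hbij F).1) (fun Fb => by have := hiso Fb; infer_instance) Fb, ?_⟩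
  intro y
  have := hiso Fb
  obtain ⟨y₁, hy₁⟩ := (EtSecPull.bijective_map_iso ((EtDesc.pullSh hb).obj Fb) (EtCore.bcTopIso pY)).2 y
  obtain ⟨y₂, hy₂⟩ := (EtSecPull.bijective_of_isIso (EtBC.baseChange0Sh p h pY hb sq.w Fb)
    (op (EtCoh.top Y))).2 y₁
  obtain ⟨s, hs⟩ := (hbij ((EtDesc.pushSh p).obj Fb)).2 y₂
  refine ⟨Fb.obj.map (EtCore.bcTopIso p).inv.op s, ?_⟩
  rw [EtSecPull.secPull_baseChange h p hb pY sq.w, hs, hy₂, hy₁]

end Groth.Agent.S8547
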