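import Groth.Statements.S8562
-- import your own Groth.Agent.* helpers here

set_option autoImplicit false
universe u
open CategoryTheory CategoryTheory.Limits AlgebraicGeometry Opposite
open NonAbH1

namespace Groth.Agent.S8562

/-- The fibre product of two etale `Y`-schemes as an object of the small etale site. -/
noncomputable def prodEt {Y : Scheme.{u}} (W V : Y.Etale) : Y.Etale :=
  Scheme.Etale.mk (pullback.fst W.hom V.hom ≫ W.hom)

noncomputable def prodFst {Y : Scheme.{u}} (W V : Y.Etale) : prodEt W V ⟶ W :=
  MorphismProperty.Over.homMk (pullback.fst W.hom V.hom) rfl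

noncomputable def prodSnd {Y : Scheme.{u}} (W V : Y.Etale) : prodEt W V ⟶ V :=
  MorphismProperty.Over.homMk (pullback.snd W.hom V.hom) (pullback.condition.symm)

/-- Exactness of the sequence 0 → H¹(Y, f_*F) → H¹(X, F) → H⁰(Y, R¹f_*F) at its middle term, in terms of
torsors: let f : X ⟶ Y be a morphism of schemes, F a sheaf of groups on the small etale site of X,
f_*F its direct image on Y (sections over an etale Y-scheme V are the sections of F over X ×_Y V),
and Q an F-torsor. Then Q is the image of a class in H¹(Y, f_*F), in the sense that there are an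
f_*F-torsor P on Y and a morphism of sheaves of sets from P to the direct image of the sheaf
underlying Q which is equivariant for the actions of f_*F, if and only if the class of Q is locally
trivial over Y: there is a jointly surjective family of etale Y-schemes Y_i such that Q has a
section over every X ×_Y Y_i. -/
theorem result {X Y : Scheme.{u}} (f : X ⟶ Y)
    [EtCoh.BCCont f] (F : Sheaf X.smallEtaleTopology GrpCat.{u + 1}) (Q : NonAbH1.Torsor F) :
    (∃ (P : NonAbH1.Torsor (((EtCoh.bc f).sheafPushforwardContinuous GrpCat.{u + 1}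
        Y.smallEtaleTopology X.smallEtaleTopology).obj F))
      (φ : P.P ⟶ ((EtCoh.bc f).sheafPushforwardContinuous (Type (u + 1))
        Y.smallEtaleTopology X.smallEtaleTopology).obj Q.P),
      ∀ (V : Y.Etaleᵒᵖ) (g : F.obj.obj (op ((EtCoh.bc f).obj V.unop))) (s : P.P.obj.obj V),
        φ.hom.app V (P.smul g s) = Q.smul g (φ.hom.app V s)) ↔
    ∃ (ι : Type u) (V : ι → Y.Etale), EtCoh.Covers V ∧
      ∀ i, Nonempty (Q.P.obj.obj (op ((EtCoh.bc f).obj (V i)))) := by
  constructor
  · rintro ⟨P, φ, -⟩
    obtain ⟨S, hS, hne⟩ := P.isTorsor.2 (EtCoh.top Y)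
    have eY : Y.smallEtaleTopology =
        (Y.smallPretopology (P := EtCoh.etaleMP) (Q := EtCoh.etaleMP)).toGrothendieck :=
      Scheme.smallGrothendieckTopology_eq_toGrothendieck_smallPretopology Y le_rfl
    rw [eY] at hS
    replace hS := (Scheme.mem_toGrothendieck_smallPretopology (EtCoh.top Y) S).1 hS
    choose V g v hg _ hv using hS
    refine ⟨_, V, ?_, ?_⟩
    · intro x
      refine ⟨x, v x, ?_⟩
      have hw : (g x).left = (V x).hom :=
        (Category.comp_id (g x).left).symm.trans (Over.w (g x).hom)
      rw [← hw]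
      exact hv x
    · intro i
      obtain ⟨s⟩ := hne (g i) (hg i)
      exact ⟨φ.hom.app (op (V i)) s⟩
  · rintro ⟨ι, V, hcov, hne⟩
    let P : NonAbH1.GSheaf (((EtCoh.bc f).sheafPushforwardContinuous GrpCat.{u + 1}
        Y.smallEtaleTopology X.smallEtaleTopology).obj F) :=
      { P := ((EtCoh.bc f).sheafPushforwardContinuous (Type (u + 1))
          Y.smallEtaleTopology X.smallEtaleTopology).obj Q.P
        smul := fun {U} g p => Q.smul (U := op ((EtCoh.bc f).obj U.unop)) g p
        one_smul := fun {U} p => Q.one_smul (U := op ((EtCoh.bc f).obj U.unop)) p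
        mul_smul := fun {U} g h p => Q.mul_smul (U := op ((EtCoh.bc f).obj U.unop)) g h p
        map_smul := fun {U V} a g p => Q.map_smul ((EtCoh.bc f).map a.unop).op g p }
    have hP : P.IsTorsor := by
      refine ⟨fun U p q => Q.isTorsor.1 (op ((EtCoh.bc f).obj U.unop)) p q, fun W => ?_⟩
      refine ⟨Sieve.ofArrows (fun i => prodEt W (V i)) (fun i => prodFst W (V i)), ?_, ?_⟩
      · rw [Scheme.ofArrows_mem_smallEtaleTopology_iff]
        ext w
        simp only [Set.mem_iUnion, Set.mem_range, Set.mem_univ, iff_true]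
        obtain ⟨i, y, hy⟩ := hcov (W.hom.base w)
        obtain ⟨z, hz, -⟩ := Scheme.Pullback.exists_preimage_pullback (f := W.hom) (g := (V i).hom) w y hy.symm
        exact ⟨i, z, hz⟩
      · rintro V' g' ⟨Z, k, _, ⟨i⟩, rfl⟩
        obtain ⟨q⟩ := hne i
        exact ⟨Q.P.obj.map ((EtCoh.bc f).map (k ≫ prodSnd W (V i))).op q⟩
    exact ⟨⟨P, hP⟩, 𝟙 _, fun V g s => rfl⟩

end Groth.Agent.S8562
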