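import Groth.Statements.S8564
import Groth.Agent.Lib.Helper5.CechFlasque

set_option autoImplicit false
open CategoryTheory CategoryTheory.Limits
universe u
open CohCx

namespace Groth.Agent.S8564

open CategoryTheory.Limits in
lemma acyclicAt_pi {A : Type*} [Category A] [Preadditive A] (P : ChainComplex A ℕ)
    {T : Type*} (F : T → A) [HasProduct F] (q : ℕ)
    (h : ∀ t, Groth.Agent.Lib.Helper5.CechFlasque.AcyclicAt P (F t) q) :
    Groth.Agent.Lib.Helper5.CechFlasque.AcyclicAt P (∏ᶜ F) q := by
  intro φ hφ
  choose ψ hψ using fun t => h t (φ ≫ Pi.π F t) (by rw [reassoc_of% hφ, zero_comp])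
  refine ⟨Pi.lift ψ, ?_⟩
  apply Pi.hom_ext
  intro t
  rw [Category.assoc, Pi.lift_π, hψ]


/-- Let (F_t) be a family of abelian sheaves on a small site, indexed by a small set, such that each F_t
is totally acyclic, i.e. H^p(K, F_t) = 0 for every sheaf of sets K and every p > 0. Then the product
sheaf of the family is totally acyclic. (The published statement is for modules over a ringed topos;
this row is the case of abelian sheaves.) -/
theorem result {C : Type u} [SmallCategory C] (J : GrothendieckTopology C)
    {T : Type u} (F : T → Sheaf J AddCommGrpCat.{u}) (hF : ∀ t, CohCx.IsTotallyAcyclic (F t)) :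
    CohCx.IsTotallyAcyclic (∏ᶜ F) := by
  apply Groth.Agent.Lib.Helper5.CechFlasque.isTotallyAcyclic_of_cechAcyclic J
  intro K' K f _ q
  exact acyclicAt_pi _ F q (fun t =>
    Groth.Agent.Lib.Helper5.CechFlasque.acyclicAt_of_isTotallyAcyclic J q (F t) (hF t) f)

end Groth.Agent.S8564
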