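import Groth.Statements.S8569
import Groth.Agent.Lib.Helper5.LexReflTopos
import Mathlib.CategoryTheory.Functor.Currying
import Mathlib.CategoryTheory.Adjunction.Whiskering
import Mathlib.CategoryTheory.Limits.Preserves.FunctorCategory

set_option autoImplicit false
open CategoryTheory
universe v u
open SGA4

namespace Groth.Agent.S8569


open CategoryTheory.Limits in
theorem aux {C : Type u} [SmallCategory C] (J : GrothendieckTopology C)
    (D : Type u) [SmallCategory D] :
    ∃ (C' : Type u) (_ : SmallCategory C') (J' : GrothendieckTopology C'),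
      Nonempty ((D ⥤ Sheaf J (Type u)) ≌ Sheaf J' (Type u)) := by
  let C' : Type u := (D × Cᵒᵖ)ᵒᵖ
  let e₁ : (C'ᵒᵖ ⥤ Type u) ≌ (D ⥤ Cᵒᵖ ⥤ Type u) :=
    (opOpEquivalence (D × Cᵒᵖ)).congrLeft.trans (Functor.currying (C := D) (D := Cᵒᵖ) (E := Type u)).symm
  let G : (D ⥤ Sheaf J (Type u)) ⥤ (C'ᵒᵖ ⥤ Type u) :=
    (Functor.whiskeringRight D _ _).obj (sheafToPresheaf J (Type u)) ⋙ e₁.inverse
  let L' : (C'ᵒᵖ ⥤ Type u) ⥤ (D ⥤ Sheaf J (Type u)) :=
    e₁.functor ⋙ (Functor.whiskeringRight D _ _).obj (presheafToSheaf J (Type u))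
  let adj : L' ⊣ G := e₁.toAdjunction.comp ((sheafificationAdjunction J (Type u)).whiskerRight D)
  haveI : G.Full := by
    haveI : e₁.inverse.Full := inferInstance
    exact Functor.Full.comp _ _
  haveI : G.Faithful := Functor.Faithful.comp _ _
  haveI h1 : PreservesLimitsOfSize.{0, 0} e₁.functor :=
    e₁.symm.toAdjunction.rightAdjoint_preservesLimits
  haveI h2 : PreservesFiniteLimits e₁.functor :=
    PreservesLimitsOfSize.preservesFiniteLimits.{0, 0} _
  haveI h3 : PreservesFiniteLimits
      ((Functor.whiskeringRight D _ _).obj (presheafToSheaf J (Type u))) :=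
    ⟨fun K _ _ => inferInstance⟩
  haveI : PreservesFiniteLimits L' := comp_preservesFiniteLimits _ _
  obtain ⟨J', ⟨e⟩⟩ := Groth.Agent.Lib.Helper5.LexReflTopos.exists_sheaf_equivalence G L' adj
  exact ⟨C', inferInstance, J', ⟨e⟩⟩

/-- Let E be a topos (a category equivalent to the category of sheaves of sets on a small site, for the
universe u) and D a u-small category. Then the category of functors D ⥤ E, which is the category of
sections of the constant D-topos with value E, is a topos. (The published statement is for an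
arbitrary D-topos, i.e. a category bifibred in topoi over D; this row is the case of a constant
one.) -/
theorem result {E : Type v} [Category.{u} E] (hE : SGA4.IsTopos E)
    (D : Type u) [SmallCategory D] : SGA4.IsTopos (D ⥤ E) := by
  obtain ⟨C, hC, J, ⟨e⟩⟩ := hE
  obtain ⟨C', hC', J', ⟨e'⟩⟩ := aux J D
  exact ⟨C', hC', J', ⟨(e.congrRight (E := D)).trans e'⟩⟩

end Groth.Agent.S8569
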