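import Groth.Statements.S8579
import Groth.Agent.Lib.Helper5.TopPsi
import Groth.Agent.Lib.Helper5.DescentSS
import Groth.Agent.Lib.Helper5.LiftOver

set_option autoImplicit false
open CategoryTheory CategoryTheory.Limits TopologicalSpace
universe u
open CohTop

namespace Groth.Agent.S8579

open Groth.Agent.Lib.Helper5 Opposite Simplicial
open Groth.Agent.Lib.Helper13.SiteCohLocal Groth.Agent.Lib.Helper13.ExtAdj
open Groth.Agent.Lib.Helper13.ClosedEmbPush

/-- `H^q(S, id^* F) ≅ H^q(S, F)`. -/
noncomputable def eBase {S : TopCat.{u}} (F : CohTop.Ab S) (q : ℕ) :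
    (TopPsi.Ψ S F q).obj (op (Over.mk (𝟙 S))) ≅ AddCommGrpCat.of (CohTop.H F q) :=
  TopPsi.ΨObjIso S F q (Over.mk (𝟙 S)) ≪≫
    AddEquiv.toAddCommGrpIso
      (show CohTop.H ((CohTop.pull (𝟙 S)).obj F) q ≃+ CohTop.H F q from
        extIsoRight (constZ (Opens.grothendieckTopology S))
          (((adj (𝟙 S)).leftAdjointUniq
            (Adjunction.id.ofNatIsoRight (TopPsi.ρ₀ S).symm)).app F) q)


/-- In the setting of topological spaces and abelian sheaves (where every continuous map is flat for the
inverse image of sheaves), let f : X → S be a continuous map with a continuous section s, f ∘ s =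
id, and F an abelian sheaf on S. Then f is of universal cohomological descent, and the descent
spectral sequence reads, in existence form: there is a bounded spectral sequence of abelian groups
starting at page one with E_1^{p,q} isomorphic, for p, q ≥ 0, to H^q(X_p, F|X_p), where X_p is the
(p+1)-fold fibre product of X over S and F|X_p the inverse image of F along its projection to S, and
zero otherwise, together with abutment data whose filtrations are finite on H^n(S, F) for n ≥ 0
(zero for n < 0). (The E_1 identifications and the abutment isomorphisms are asserted to exist only;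
the differentials are not part of this statement.) -/
theorem result {X S : TopCat.{u}} (f : X ⟶ S) (s : S ⟶ X)
    (hs : s ≫ f = 𝟙 S) (F : CohTop.Ab S) :
    ∃ (E : CohomologicalSpectralSequence AddCommGrpCat.{u} 1)
      (a : SpSeq.Abutment E (fun n : ℤ =>
        if 0 ≤ n then AddCommGrpCat.of (CohTop.H F n.toNat) else AddCommGrpCat.of PUnit.{u + 1})),
      (∀ n, a.IsFinite n) ∧ SpSeq.IsBounded E ∧
      ∀ p q : ℤ, Nonempty ((E.page 1 le_rfl).X (p, q) ≅
        (if 0 ≤ p ∧ 0 ≤ q then
          AddCommGrpCat.of (CohTop.H ((CohTop.pull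
            (WidePullback.base (fun _ : Fin (p.toNat + 1) => f) :
              widePullback S (fun _ : Fin (p.toNat + 1) => X) (fun _ => f) ⟶ S)).obj F) q.toNat)
         else AddCommGrpCat.of PUnit.{u + 1})) := by
  let A : SimplicialObject.Augmented TopCat.{u} := (Arrow.mk f).augmentedCechNerve
  let ed : SimplicialObject.Augmented.ExtraDegeneracy A :=
    Arrow.AugmentedCechNerve.extraDegeneracy (Arrow.mk f) ⟨s, hs⟩
  have hZ : IsZero (AddCommGrpCat.of PUnit.{u + 1}) := by
    rw [AddCommGrpCat.isZero_iff_subsingleton]
    infer_instance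
  exact DescentSS.exists_spectralSequence (𝒯 := Over S) (fun q => TopPsi.Ψ S F q)
    (LiftOver.augOver A) (LiftOver.extraDegeneracy ed)
    (fun q => AddCommGrpCat.of (CohTop.H F q)) (fun q => ⟨eBase F q⟩)
    (fun p q => AddCommGrpCat.of (CohTop.H ((CohTop.pull
            (WidePullback.base (fun _ : Fin (p + 1) => f) :
              widePullback S (fun _ : Fin (p + 1) => X) (fun _ => f) ⟶ S)).obj F) q))
    (fun p q => ⟨TopPsi.ΨObjIso S F q (Over.mk (A.hom.app (op ⦋p⦌)))⟩)
    _ _ hZ hZ

end Groth.Agent.S8579
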