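import Groth.Statements.S8580
import Groth.Agent.Lib.Helper5.EtPsi
import Groth.Agent.Lib.Helper5.DescentSS
import Groth.Agent.Lib.Helper5.LiftOver

set_option autoImplicit false
open CategoryTheory CategoryTheory.Limits AlgebraicGeometry
universe u
open EtDesc

namespace Groth.Agent.S8580

open Groth.Agent.Lib.Helper5 Opposite Simplicial
open Groth.Agent.Lib.Helper13.ExtAdj

/-- `H^q(S, id^* F) ≅ H^q(S, F)`. -/
noncomputable def eBase {S : Scheme.{u}} (F : EtCoh.Ab S) (q : ℕ) :
    (EtPsi.Ψ S F q).obj (op (Over.mk (𝟙 S))) ≅ AddCommGrpCat.of (EtCoh.H S F q) :=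
  EtPsi.ΨObjIso S F q (Over.mk (𝟙 S)) ≪≫
    AddEquiv.toAddCommGrpIso
      (show EtCoh.H S ((EtCoh.pull (𝟙 S)).obj F) q ≃+ EtCoh.H S F q from
        extIsoRight (EtCoh.const S ℤ)
          (((EtCoh.pullPushAdj (𝟙 S)).leftAdjointUniq
            (Adjunction.id.ofNatIsoRight (EtPsi.ρ₀ S).symm)).app F) q)


/-- In the setting of schemes and abelian sheaves on their small etale sites (where every morphism is
flat for the inverse image of sheaves), let f : X → Y be a morphism of schemes with a section s, s
followed by f being the identity, and F any abelian sheaf on the small etale site of Y. Then f is of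
universal cohomological descent, and the descent spectral sequence reads, in existence form: there
is a bounded spectral sequence of abelian groups starting at page one with E_1^{p,q} isomorphic, for
p, q ≥ 0, to the etale cohomology group H^q(X_p, F|X_p), where X_p is the (p+1)-fold fibre product
of X over Y and F|X_p the inverse image of F along its projection to Y, and zero otherwise, together
with abutment data whose filtrations are finite on H^n(Y_et, F) for n ≥ 0 (zero for n < 0). (The E_1
identifications and the abutment isomorphisms are asserted to exist only; the differentials are not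
part of this statement.) -/
theorem result {X Y : Scheme.{u}} (f : X ⟶ Y) (s : Y ⟶ X)
    (hs : s ≫ f = 𝟙 Y) (F : EtCoh.Ab Y) :
    ∃ (E : CohomologicalSpectralSequence AddCommGrpCat.{u + 1} 1)
      (a : SpSeq.Abutment E (fun n : ℤ =>
        if 0 ≤ n then AddCommGrpCat.of (EtCoh.H Y F n.toNat) else AddCommGrpCat.of PUnit.{u + 2})),
      (∀ n, a.IsFinite n) ∧ SpSeq.IsBounded E ∧
      ∀ p q : ℤ, Nonempty ((E.page 1 le_rfl).X (p, q) ≅
        (if 0 ≤ p ∧ 0 ≤ q then
          AddCommGrpCat.of (EtCoh.H (widePullback Y (fun _ : Fin (p.toNat + 1) => X) (fun _ => f))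
            ((EtCoh.pull (WidePullback.base (fun _ : Fin (p.toNat + 1) => f) :
              widePullback Y (fun _ : Fin (p.toNat + 1) => X) (fun _ => f) ⟶ Y)).obj F) q.toNat)
         else AddCommGrpCat.of PUnit.{u + 2})) := by
  let A : SimplicialObject.Augmented Scheme.{u} := (Arrow.mk f).augmentedCechNerve
  let ed : SimplicialObject.Augmented.ExtraDegeneracy A :=
    Arrow.AugmentedCechNerve.extraDegeneracy (Arrow.mk f) ⟨s, hs⟩
  have hZ : IsZero (AddCommGrpCat.of PUnit.{u + 2}) := by
    rw [AddCommGrpCat.isZero_iff_subsingleton]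
    infer_instance
  exact DescentSS.exists_spectralSequence (𝒯 := Over Y) (fun q => EtPsi.Ψ Y F q)
    (LiftOver.augOver A) (LiftOver.extraDegeneracy ed)
    (fun q => AddCommGrpCat.of (EtCoh.H Y F q)) (fun q => ⟨eBase F q⟩)
    (fun p q => AddCommGrpCat.of (EtCoh.H (widePullback Y (fun _ : Fin (p + 1) => X) (fun _ => f))
            ((EtCoh.pull (WidePullback.base (fun _ : Fin (p + 1) => f) :
              widePullback Y (fun _ : Fin (p + 1) => X) (fun _ => f) ⟶ Y)).obj F) q))
    (fun p q => ⟨EtPsi.ΨObjIso Y F q (Over.mk (A.hom.app (op ⦋p⦌)))⟩)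
    _ _ hZ hZ

end Groth.Agent.S8580
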