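import Groth.Statements.S8591
import Groth.Agent.Lib.Helper14.DetAeval

set_option autoImplicit false
universe u
open CAlg

namespace Groth.Agent.S8591

/-- Let k be a commutative ring, M a finite free k-module, u an endomorphism of M with characteristic
polynomial χ, and P a polynomial over k. Then the norm, from the k-algebra k[T]/(χ) (free of rank
the rank of M) down to k, of the class of P(T) equals det(P(u)). (The published statement writes the
quotient by det(u - T), which generates the same ideal as χ(T) = det(T - u).) -/
theorem result (k : Type u) [CommRing k] (M : Type u) [AddCommGroup M] [Module k M]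
    [Module.Free k M] [Module.Finite k M] (u : M →ₗ[k] M) (P : Polynomial k) :
    Algebra.norm k (AdjoinRoot.mk u.charpoly P) = LinearMap.det (Polynomial.aeval u P) := by
  classical
  rcases subsingleton_or_nontrivial k with hk | hk
  · exact Subsingleton.elim _ _
  have hχm : u.charpoly.Monic := LinearMap.charpoly_monic u
  -- matrix of u
  let b := Module.finBasis k M
  let U := LinearMap.toMatrix b b u
  have hU : U.charpoly = u.charpoly := LinearMap.charpoly_toMatrix u b
  have hdet : LinearMap.det (Polynomial.aeval u P) = (Polynomial.aeval U P).det := by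
    rw [← LinearMap.det_toMatrix b]
    congr 1
    show LinearMap.toMatrixAlgEquiv b (Polynomial.aeval u P) =
      Polynomial.aeval (LinearMap.toMatrixAlgEquiv b u) P
    exact (Polynomial.aeval_algHom_apply (LinearMap.toMatrixAlgEquiv b).toAlgHom u P).symm
  -- norm side
  let pb := AdjoinRoot.powerBasis' hχm
  let V := Algebra.leftMulMatrix pb.basis (AdjoinRoot.root u.charpoly)
  have hnorm : Algebra.norm k (AdjoinRoot.mk u.charpoly P) = (Polynomial.aeval V P).det := by
    rw [Algebra.norm_eq_matrix_det pb.basis]
    congr 1
    rw [← AdjoinRoot.aeval_eq]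
    exact (Polynomial.aeval_algHom_apply (Algebra.leftMulMatrix pb.basis)
      (AdjoinRoot.root u.charpoly) P).symm
  have hV : V.charpoly = u.charpoly := by
    have h0 : Polynomial.aeval (AdjoinRoot.root u.charpoly) V.charpoly = 0 := by
      apply Algebra.leftMulMatrix_injective pb.basis
      rw [map_zero, ← Polynomial.aeval_algHom_apply]
      exact Matrix.aeval_self_charpoly V
    rw [AdjoinRoot.aeval_eq, AdjoinRoot.mk_eq_zero] at h0
    refine Polynomial.eq_of_monic_of_dvd_of_natDegree_le hχm (Matrix.charpoly_monic V) h0 ?_
    rw [Matrix.charpoly_natDegree_eq_dim, Fintype.card_fin]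
    exact le_of_eq (AdjoinRoot.powerBasis'_dim hχm)
  have hn : pb.dim = Module.finrank k M := by
    rw [AdjoinRoot.powerBasis'_dim hχm, LinearMap.charpoly_natDegree]
  rw [hnorm, hdet]
  exact Groth.Agent.Lib.Helper14.DetAeval.det_aeval_congr P V U hn (hV.trans hU.symm)


end Groth.Agent.S8591
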