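import Groth.Statements.S8603
import Mathlib

set_option autoImplicit false
universe u
open CategoryTheory CategoryTheory.Limits AlgebraicGeometry Opposite
open DEt

namespace Groth.Agent.S8603

/-- The domination half of 'the category of compactifications of f is cofiltering': let f : X -> Y be a
morphism of quasi-compact quasi-separated schemes and let (Xbar_1, j_1, fbar_1), (Xbar_2, j_2,
fbar_2) be two compactifications of f (j_i : X -> Xbar_i open immersions, fbar_i : Xbar_i -> Y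
proper, fbar_i ∘ j_i = f). Then there are a compactification (Xbar, j, fbar) of f and proper
morphisms p_i : Xbar -> Xbar_i (i = 1, 2) with p_i ∘ j = j_i and fbar_i ∘ p_i = fbar, i.e. a
compactification mapping to both by morphisms of compactifications. (The published statement also
includes the equalizing axiom: two morphisms of compactifications are equalized by a third; only
domination is stated here.) -/
theorem result {X Y : Scheme.{u}} [CompactSpace ↥X] [QuasiSeparatedSpace ↥X]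
    [CompactSpace ↥Y] [QuasiSeparatedSpace ↥Y] {f : X ⟶ Y} (c₁ c₂ : DEt.Compactification f) :
    ∃ (c : DEt.Compactification f) (p₁ : c.Xbar ⟶ c₁.Xbar) (p₂ : c.Xbar ⟶ c₂.Xbar),
      IsProper p₁ ∧ IsProper p₂ ∧ c.j ≫ p₁ = c₁.j ∧ c.j ≫ p₂ = c₂.j ∧
        p₁ ≫ c₁.fbar = c.fbar ∧ p₂ ≫ c₂.fbar = c.fbar := by
  obtain ⟨k, hk1, hk2⟩ : ∃ k : X ⟶ pullback c₁.fbar c₂.fbar,
      k ≫ pullback.fst c₁.fbar c₂.fbar = c₁.j ∧ k ≫ pullback.snd c₁.fbar c₂.fbar = c₂.j :=
    ⟨pullback.lift c₁.j c₂.j (by rw [c₁.fac, c₂.fac]), pullback.lift_fst _ _ _,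
      pullback.lift_snd _ _ _⟩
  haveI : IsImmersion k := by
    haveI : IsImmersion (k ≫ pullback.fst c₁.fbar c₂.fbar) := by rw [hk1]; infer_instance
    exact IsImmersion.of_comp k (pullback.fst c₁.fbar c₂.fbar)
  haveI : QuasiCompact k := by
    haveI : QuasiCompact (k ≫ (pullback.fst c₁.fbar c₂.fbar ≫ c₁.fbar)) := by
      rw [← Category.assoc, hk1, c₁.fac]; infer_instance
    exact QuasiCompact.of_comp k (pullback.fst c₁.fbar c₂.fbar ≫ c₁.fbar)
  have hfac : k.toImage ≫ k.imageι ≫ pullback.fst c₁.fbar c₂.fbar ≫ c₁.fbar = f := by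
    rw [← Category.assoc, k.toImage_imageι, ← Category.assoc, hk1, c₁.fac]
  refine ⟨⟨k.image, k.toImage, k.imageι ≫ pullback.fst c₁.fbar c₂.fbar ≫ c₁.fbar, inferInstance,
    inferInstance, hfac⟩, k.imageι ≫ pullback.fst c₁.fbar c₂.fbar,
    k.imageι ≫ pullback.snd c₁.fbar c₂.fbar, inferInstance, inferInstance, ?_, ?_, ?_, ?_⟩
  · show k.toImage ≫ k.imageι ≫ pullback.fst c₁.fbar c₂.fbar = c₁.j
    rw [← Category.assoc, k.toImage_imageι, hk1]
  · show k.toImage ≫ k.imageι ≫ pullback.snd c₁.fbar c₂.fbar = c₂.j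
    rw [← Category.assoc, k.toImage_imageι, hk2]
  · show (k.imageι ≫ pullback.fst c₁.fbar c₂.fbar) ≫ c₁.fbar =
      k.imageι ≫ pullback.fst c₁.fbar c₂.fbar ≫ c₁.fbar
    rw [Category.assoc]
  · show (k.imageι ≫ pullback.snd c₁.fbar c₂.fbar) ≫ c₂.fbar =
      k.imageι ≫ pullback.fst c₁.fbar c₂.fbar ≫ c₁.fbar
    rw [Category.assoc, pullback.condition]

end Groth.Agent.S8603
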