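import Groth.Statements.S8607
import Mathlib

set_option autoImplicit false
universe u
open CategoryTheory CategoryTheory.Limits AlgebraicGeometry Opposite
open DEt

namespace Groth.Agent.S8607

/-- The equalizing half of 'the category of compactifications of f is cofiltering': let f : X -> Y be a
morphism of quasi-compact quasi-separated schemes, (Xbar_1, j_1, fbar_1) and (Xbar_2, j_2, fbar_2)
two compactifications of f, and r, s : Xbar_1 -> Xbar_2 two morphisms of compactifications (r ∘ j_1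
= j_2 = s ∘ j_1 and fbar_2 ∘ r = fbar_1 = fbar_2 ∘ s). Then there are a compactification (Xbar, j,
fbar) of f and a proper morphism t : Xbar -> Xbar_1 of compactifications (t ∘ j = j_1, fbar_1 ∘ t =
fbar) with r ∘ t = s ∘ t. -/
theorem result {X Y : Scheme.{u}} [CompactSpace ↥X] [QuasiSeparatedSpace ↥X]
    [CompactSpace ↥Y] [QuasiSeparatedSpace ↥Y] {f : X ⟶ Y} (c₁ c₂ : DEt.Compactification f)
    (r s : c₁.Xbar ⟶ c₂.Xbar) (hr : c₁.j ≫ r = c₂.j) (hs : c₁.j ≫ s = c₂.j)
    (hr' : r ≫ c₂.fbar = c₁.fbar) (hs' : s ≫ c₂.fbar = c₁.fbar) :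
    ∃ (c : DEt.Compactification f) (t : c.Xbar ⟶ c₁.Xbar), IsProper t ∧ c.j ≫ t = c₁.j ∧ t ≫ c₁.fbar = c.fbar ∧
      t ≫ r = t ≫ s := by
  obtain ⟨d, hd1, hd2⟩ : ∃ d : c₁.Xbar ⟶ pullback c₂.fbar c₂.fbar,
      d ≫ pullback.fst c₂.fbar c₂.fbar = r ∧ d ≫ pullback.snd c₂.fbar c₂.fbar = s :=
    ⟨pullback.lift r s (hr'.trans hs'.symm), pullback.lift_fst _ _ _, pullback.lift_snd _ _ _⟩
  obtain ⟨e, he⟩ : ∃ e : pullback d (pullback.diagonal c₂.fbar) ⟶ c₁.Xbar,
      e = pullback.fst d (pullback.diagonal c₂.fbar) := ⟨_, rfl⟩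
  haveI : IsClosedImmersion e := by rw [he]; infer_instance
  have hcond : e ≫ d = pullback.snd d (pullback.diagonal c₂.fbar) ≫ pullback.diagonal c₂.fbar := by
    rw [he]; exact pullback.condition
  have e1 : e ≫ r = pullback.snd d (pullback.diagonal c₂.fbar) := by
    rw [← hd1, ← Category.assoc, hcond, Category.assoc, pullback.diagonal_fst, Category.comp_id]
  have e2 : e ≫ s = pullback.snd d (pullback.diagonal c₂.fbar) := by
    rw [← hd2, ← Category.assoc, hcond, Category.assoc, pullback.diagonal_snd, Category.comp_id]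
  have hkc : c₁.j ≫ d = c₂.j ≫ pullback.diagonal c₂.fbar := by
    apply pullback.hom_ext
    · rw [Category.assoc, hd1, Category.assoc, pullback.diagonal_fst, Category.comp_id, hr]
    · rw [Category.assoc, hd2, Category.assoc, pullback.diagonal_snd, Category.comp_id, hs]
  obtain ⟨k, hk1⟩ : ∃ k : X ⟶ pullback d (pullback.diagonal c₂.fbar), k ≫ e = c₁.j :=
    ⟨pullback.lift c₁.j c₂.j hkc, by rw [he]; exact pullback.lift_fst _ _ _⟩
  haveI : IsImmersion k := by
    haveI : IsImmersion (k ≫ e) := by rw [hk1]; infer_instance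
    exact IsImmersion.of_comp k e
  haveI : QuasiCompact k := by
    haveI : QuasiCompact (k ≫ (e ≫ c₁.fbar)) := by
      rw [← Category.assoc, hk1, c₁.fac]; infer_instance
    exact QuasiCompact.of_comp k (e ≫ c₁.fbar)
  have hfac : k.toImage ≫ (k.imageι ≫ e) ≫ c₁.fbar = f := by
    rw [Category.assoc, ← Category.assoc, k.toImage_imageι, ← Category.assoc, hk1, c₁.fac]
  refine ⟨⟨k.image, k.toImage, (k.imageι ≫ e) ≫ c₁.fbar, inferInstance, inferInstance, hfac⟩,
    k.imageι ≫ e, inferInstance, ?_, rfl, ?_⟩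
  · show k.toImage ≫ k.imageι ≫ e = c₁.j
    rw [← Category.assoc, k.toImage_imageι, hk1]
  · show (k.imageι ≫ e) ≫ r = (k.imageι ≫ e) ≫ s
    rw [Category.assoc, Category.assoc, e1, e2]

end Groth.Agent.S8607
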