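import Groth.Statements.S8611
import Mathlib
-- import your own Groth.Agent.* helpers here

set_option autoImplicit false
universe w v u
open CategoryTheory CategoryTheory.Limits
open SGA4h

namespace Groth.Agent.S8611


section Helpers

open CategoryTheory CategoryTheory.Limits DeltaF

variable {C : Type u} [Category.{v} C] [Abelian C]

/-- short exact sequence of a monomorphism -/
noncomputable abbrev sesOf {A N : C} (u : A ⟶ N) : ShortComplex C := ShortComplex.cokernelSequence u

lemma sesOf_shortExact {A N : C} (u : A ⟶ N) [Mono u] : (sesOf u).ShortExact :=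
  ShortComplex.ShortExact.mk' (ShortComplex.cokernelSequence_exact u)
    (show Mono u from inferInstance) (show Epi (cokernel.π u) from inferInstance)

lemma zero_app {X Y : AddCommGrpCat.{w}} {f : X ⟶ Y} (h : f = 0) (x : X) : f x = 0 := by
  subst h; rfl

lemma inj_of_ker {X Y : AddCommGrpCat.{w}} (f : X ⟶ Y) (h : ∀ x : X, f x = 0 → x = 0) :
    Function.Injective f := by
  intro a b hab
  have h1 : f (a - b) = 0 := by rw [map_sub, hab, sub_self]
  exact sub_eq_zero.1 (h _ h1)

variable (T T' : CohDeltaFunctor C AddCommGrpCat.{w} ℕ)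

lemma ex1 (S : ShortComplex C) (hS : S.ShortExact) (q : ℕ) (x : (T.F (q + 1)).obj S.X₁)
    (hx : (T.F (q + 1)).map S.f x = 0) : ∃ y : (T.F q).obj S.X₃, T.δ S hS q (q + 1) rfl y = x :=
  (ShortComplex.ab_exact_iff _).1 (T.exact₁ S hS q (q + 1) rfl) x hx

lemma ex3 (S : ShortComplex C) (hS : S.ShortExact) (q : ℕ) (y : (T.F q).obj S.X₃)
    (hy : T.δ S hS q (q + 1) rfl y = 0) : ∃ z : (T.F q).obj S.X₂, (T.F q).map S.g z = y :=
  (ShortComplex.ab_exact_iff _).1 (T.exact₃ S hS q (q + 1) rfl) y hy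

lemma ex2 (S : ShortComplex C) (hS : S.ShortExact) (q : ℕ) (z : (T.F q).obj S.X₂)
    (hz : (T.F q).map S.g z = 0) : ∃ w : (T.F q).obj S.X₁, (T.F q).map S.f w = z :=
  (ShortComplex.ab_exact_iff _).1 (T.exact₂ S hS q) z hz

lemma g_delta (S : ShortComplex C) (hS : S.ShortExact) (q : ℕ) (z : (T.F q).obj S.X₂) :
    T.δ S hS q (q + 1) rfl ((T.F q).map S.g z) = 0 :=
  zero_app (T.comp_δ S hS q (q + 1) rfl) z

lemma f_g (S : ShortComplex C) (q : ℕ) (z : (T.F q).obj S.X₁) :
    (T.F q).map S.g ((T.F q).map S.f z) = 0 := by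
  have h : (T.F q).map S.f ≫ (T.F q).map S.g = 0 := by
    rw [← Functor.map_comp, S.zero, Functor.map_zero]
  exact zero_app h z

lemma map_comp_app (q : ℕ) {A B D : C} (f : A ⟶ B) (g : B ⟶ D) (x : (T.F q).obj A) :
    (T.F q).map (f ≫ g) x = (T.F q).map g ((T.F q).map f x) := by
  rw [Functor.map_comp]; rfl

variable {T T'} (φ : T ⟶ T')

lemma phi_nat (q : ℕ) {A B : C} (u : A ⟶ B) (x : (T.F q).obj A) :
    (φ.app q).app B ((T.F q).map u x) = (T'.F q).map u ((φ.app q).app A x) :=
  ConcreteCategory.congr_hom ((φ.app q).naturality u) x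

lemma phi_delta (S : ShortComplex C) (hS : S.ShortExact) (q : ℕ) (y : (T.F q).obj S.X₃) :
    (φ.app (q + 1)).app S.X₁ (T.δ S hS q (q + 1) rfl y) =
      T'.δ S hS q (q + 1) rfl ((φ.app q).app S.X₃ y) :=
  ConcreteCategory.congr_hom (φ.comm S hS q (q + 1) rfl) y

include φ in
lemma step_inj (hT : ∀ (q : ℕ) (A : C) (α : (T.F (q + 1)).obj A),
      ∃ (M : C) (u : A ⟶ M), Mono u ∧ (T.F (q + 1)).map u α = 0) (q : ℕ)
    (hs : ∀ A : C, Function.Surjective ((φ.app q).app A))
    (hi : ∀ A : C, Function.Injective ((φ.app q).app A)) (A : C) :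
    Function.Injective ((φ.app (q + 1)).app A) := by
  apply inj_of_ker
  intro α hα
  obtain ⟨N, u, hu, hαu⟩ := hT q A α
  haveI := hu
  have hS := sesOf_shortExact u
  obtain ⟨β, hβ⟩ := ex1 T (sesOf u) hS q α hαu
  have h1 : T'.δ (sesOf u) hS q (q + 1) rfl ((φ.app q).app (sesOf u).X₃ β) = 0 := by
    rw [← phi_delta φ (sesOf u) hS q β, hβ]
    exact hα
  obtain ⟨ν', hν'⟩ := ex3 T' (sesOf u) hS q _ h1
  obtain ⟨ν, hν⟩ := hs _ ν'
  have h2 : (T.F q).map (sesOf u).g ν = β := by
    apply hi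
    rw [phi_nat φ q (sesOf u).g ν, hν, hν']
  rw [← hβ, ← h2]
  exact g_delta T (sesOf u) hS q ν

include φ in
lemma step_surj (q : ℕ) (hs : ∀ A : C, Function.Surjective ((φ.app q).app A)) {A N : C}
    (w : A ⟶ N) [Mono w] (α' : (T'.F (q + 1)).obj A) (h : (T'.F (q + 1)).map w α' = 0) :
    ∃ α : (T.F (q + 1)).obj A, (φ.app (q + 1)).app A α = α' := by
  have hS := sesOf_shortExact w
  obtain ⟨β', hβ'⟩ := ex1 T' (sesOf w) hS q α' h
  obtain ⟨β, hβ⟩ := hs _ β'
  refine ⟨T.δ (sesOf w) hS q (q + 1) rfl β, ?_⟩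
  have := phi_delta φ (sesOf w) hS q β
  rw [hβ, hβ'] at this
  exact this

include φ in
lemma base_inj (hT0 : T.ZeroMono) (E : ObjectProperty C)
    (hE : ∀ A : C, ∃ (M : C) (i : A ⟶ M), Mono i ∧ E M)
    (h0 : ∀ M : C, E M → Function.Injective ((φ.app 0).app M)) (A : C) :
    Function.Injective ((φ.app 0).app A) := by
  apply inj_of_ker
  intro a ha
  obtain ⟨M, i, hi, hM⟩ := hE A
  haveI := hi
  have hS := sesOf_shortExact i
  have h1 : (T.F 0).map i a = 0 := by
    apply h0 M hM
    rw [phi_nat φ 0 i a, ha, map_zero, map_zero]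
  have h2 : Function.Injective ((T.F 0).map i) :=
    (AddCommGrpCat.mono_iff_injective _).1 (hT0 (sesOf i) hS)
  apply h2
  rw [h1, map_zero]

include φ in
lemma base_surj (hT0 : T.ZeroMono) (hT'0 : T'.ZeroMono) (E : ObjectProperty C)
    (hE : ∀ A : C, ∃ (M : C) (i : A ⟶ M), Mono i ∧ E M)
    (h0 : ∀ M : C, E M → Function.Bijective ((φ.app 0).app M)) (A : C) :
    Function.Surjective ((φ.app 0).app A) := by
  intro a'
  obtain ⟨M, i, hi, hM⟩ := hE A
  haveI := hi
  have hS := sesOf_shortExact i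
  obtain ⟨m, hm⟩ := (h0 M hM).2 ((T'.F 0).map i a')
  have hinj := base_inj φ hT0 E hE (fun M hM => (h0 M hM).1)
  have h1 : (T.F 0).map (sesOf i).g m = 0 := by
    apply hinj
    have e1 : (φ.app 0).app (sesOf i).X₃ ((T.F 0).map (sesOf i).g m) =
        (T'.F 0).map (sesOf i).g ((φ.app 0).app M m) := phi_nat φ 0 (sesOf i).g m
    rw [e1, hm, map_zero]
    exact f_g T' (sesOf i) 0 a'
  obtain ⟨a, ha⟩ := ex2 T (sesOf i) hS 0 m h1
  refine ⟨a, ?_⟩
  have h2 : Function.Injective ((T'.F 0).map i) :=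
    (AddCommGrpCat.mono_iff_injective _).1 (hT'0 (sesOf i) hS)
  apply h2
  rw [← phi_nat φ 0 i a]
  have : (T.F 0).map i a = m := ha
  rw [this, hm]

end Helpers

/-- Let C be an abelian category, T and T' cohomological delta-functors on C in degrees ≥ 0 with values
in abelian groups, both left exact in degree 0, with T effaceable in every degree q > 0 (every
element of T^q(A) is killed by T^q(u) for some monomorphism u : A → M, depending on the element),
and φ : T → T' a morphism of delta-functors. Let E be a class of objects such that every object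
admits a monomorphism into a member of E. Then the following are equivalent: (i) φ^q(A) is bijective
for all q and all A; (ii) φ^0(M) is bijective and φ^q(M) is surjective for q > 0, for all M in E;
(iii) φ^0(A) is bijective for all A and T' is effaceable in every degree > 0 (in the same
element-wise sense). Stated as (i) ⇔ (ii) together with (i) ⇔ (iii). -/
theorem result {C : Type u} [Category.{v} C] [Abelian C]
    (T T' : DeltaF.CohDeltaFunctor C AddCommGrpCat.{w} ℕ) (hT0 : T.ZeroMono) (hT'0 : T'.ZeroMono)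
    (hT : ∀ (q : ℕ) (A : C) (α : (T.F (q + 1)).obj A),
      ∃ (M : C) (u : A ⟶ M), Mono u ∧ (T.F (q + 1)).map u α = 0)
    (φ : T ⟶ T') (E : ObjectProperty C)
    (hE : ∀ A : C, ∃ (M : C) (i : A ⟶ M), Mono i ∧ E M) :
    ((∀ (q : ℕ) (A : C), IsIso ((φ.app q).app A)) ↔
      ((∀ M : C, E M → IsIso ((φ.app 0).app M)) ∧
        ∀ (q : ℕ) (M : C), E M → Epi ((φ.app (q + 1)).app M))) ∧
    ((∀ (q : ℕ) (A : C), IsIso ((φ.app q).app A)) ↔
      ((∀ A : C, IsIso ((φ.app 0).app A)) ∧
        ∀ (q : ℕ) (A : C) (α : (T'.F (q + 1)).obj A),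
          ∃ (M : C) (u : A ⟶ M), Mono u ∧ (T'.F (q + 1)).map u α = 0)) := by
  have key1 : ∀ (hb : ∀ A : C, Function.Bijective ((φ.app 0).app A))
      (he : ∀ (q : ℕ) (A : C) (α' : (T'.F (q + 1)).obj A),
        ∃ (N : C) (w : A ⟶ N), Mono w ∧ (T'.F (q + 1)).map w α' = 0),
      ∀ (q : ℕ) (A : C), Function.Bijective ((φ.app q).app A) := by
    intro hb he q
    induction q with
    | zero => exact hb
    | succ q ih =>
      intro A
      refine ⟨step_inj φ hT q (fun A => (ih A).2) (fun A => (ih A).1) A, ?_⟩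
      intro α'
      obtain ⟨N, w, hw, hα'⟩ := he q A α'
      haveI := hw
      exact step_surj φ q (fun A => (ih A).2) w α' hα'
  have iso_iff : ∀ (q : ℕ) (A : C), IsIso ((φ.app q).app A) ↔
      Function.Bijective ((φ.app q).app A) := fun q A =>
    ConcreteCategory.isIso_iff_bijective _
  constructor
  · constructor
    · intro h
      exact ⟨fun M _ => h 0 M, fun q M _ => by haveI := h (q + 1) M; infer_instance⟩
    · rintro ⟨h0, h1⟩ q A
      rw [iso_iff]
      have hb0 : ∀ M : C, E M → Function.Bijective ((φ.app 0).app M) := fun M hM =>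
        (iso_iff 0 M).1 (h0 M hM)
      refine key1 (fun A => ⟨base_inj φ hT0 E hE (fun M hM => (hb0 M hM).1) A,
        base_surj φ hT0 hT'0 E hE hb0 A⟩) ?_ q A
      intro q A α'
      obtain ⟨M, i, hi, hM⟩ := hE A
      haveI := hi
      have hs : Function.Surjective ((φ.app (q + 1)).app M) :=
        (AddCommGrpCat.epi_iff_surjective _).1 (h1 q M hM)
      obtain ⟨μ, hμ⟩ := hs ((T'.F (q + 1)).map i α')
      obtain ⟨N, v, hv, hμv⟩ := hT q M μ
      haveI := hv
      refine ⟨N, i ≫ v, mono_comp i v, ?_⟩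
      rw [map_comp_app T' (q + 1) i v α', ← hμ, ← phi_nat φ (q + 1) v μ, hμv, map_zero]
  · constructor
    · intro h
      refine ⟨fun A => h 0 A, ?_⟩
      intro q A α'
      obtain ⟨β, hβ⟩ := ((iso_iff (q + 1) A).1 (h (q + 1) A)).2 α'
      obtain ⟨M, u, hu, hβu⟩ := hT q A β
      refine ⟨M, u, hu, ?_⟩
      rw [← hβ, ← phi_nat φ (q + 1) u β, hβu, map_zero]
    · rintro ⟨h0, he⟩ q A
      rw [iso_iff]
      exact key1 (fun A => (iso_iff 0 A).1 (h0 A)) he q A

end Groth.Agent.S8611
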