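import Groth.Statements.S8625
import Mathlib.Tactic.Group

set_option autoImplicit false
universe u
open SGA4h

namespace Groth.Agent.S8625

section Aux

variable {G : Type u} [Group G] (F : G →* G)

lemma fix_twist (g : G) (h : F (F g * g⁻¹) = F g * g⁻¹) : F (g⁻¹ * F g) = g⁻¹ * F g := by
  have h0 : F (F g) * (F g)⁻¹ = F g * g⁻¹ := by
    rw [← h, map_mul, map_inv]
  have h1 : F (F g) = F g * g⁻¹ * F g := by
    calc F (F g) = F (F g) * (F g)⁻¹ * F g := by group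
      _ = F g * g⁻¹ * F g := by rw [h0]
  rw [map_mul, map_inv, h1]
  group

/-- Same Lang value: the two elements differ by a fixed element on the right. -/
lemma key (g g' : G) (h : F g' * g'⁻¹ = F g * g⁻¹) : F (g⁻¹ * g') = g⁻¹ * g' := by
  have h1 : F g' = F g * g⁻¹ * g' := by
    calc F g' = F g' * g'⁻¹ * g' := by group
      _ = F g * g⁻¹ * g' := by rw [h]
  rw [map_mul, map_inv, h1]
  group

lemma conj_lemma (g g' h : G) (hh : F h = h)
    (e : h * (F g * g⁻¹) * h⁻¹ = F g' * g'⁻¹) :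
    F ((h * g)⁻¹ * g') = (h * g)⁻¹ * g' ∧
      ((h * g)⁻¹ * g')⁻¹ * (g⁻¹ * F g) * ((h * g)⁻¹ * g') = g'⁻¹ * F g' := by
  have e1 : F g' * g'⁻¹ = F (h * g) * (h * g)⁻¹ := by
    rw [map_mul, hh, ← e]
    group
  refine ⟨key F (h * g) g' e1, ?_⟩
  have e2 : F g' = h * (F g * g⁻¹) * h⁻¹ * g' := by
    calc F g' = F g' * g'⁻¹ * g' := by group
      _ = h * (F g * g⁻¹) * h⁻¹ * g' := by rw [e]
  rw [e2]
  group

end Aux

/-- Let G be a group with an endomorphism F, and assume the Lang map g ↦ F(g)g⁻¹ is surjective (for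
instance the geometric points of a connected algebraic group over F_q with its Frobenius, where the
surjectivity is the classical result of Lang; the other Lang map g ↦ g⁻¹F(g) is then surjective too,
by g ↦ g⁻¹). Let G^F be the subgroup of fixed points of F. (i) If F(g)g⁻¹ is fixed by F then so is
g⁻¹F(g). (ii), (iii) There is a bijection of the set of conjugacy classes of G^F with itself
sending, for every g with F(g)g⁻¹ ∈ G^F, the class of F(g)g⁻¹ to the class of g⁻¹F(g) (in particular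
the latter class depends only on the former). -/
theorem result {G : Type u} [Group G] (F : G →* G)
    (hL : Function.Surjective fun g : G => F g * g⁻¹) :
    (∀ g : G, F (F g * g⁻¹) = F g * g⁻¹ → F (g⁻¹ * F g) = g⁻¹ * F g) ∧
    ∃ φ : ConjClasses ↥(F.eqLocus (MonoidHom.id G)) → ConjClasses ↥(F.eqLocus (MonoidHom.id G)),
      Function.Bijective φ ∧
      ∀ (g : G) (h : F (F g * g⁻¹) = F g * g⁻¹) (h' : F (g⁻¹ * F g) = g⁻¹ * F g),
        φ (ConjClasses.mk (⟨F g * g⁻¹, h⟩ : ↥(F.eqLocus (MonoidHom.id G)))) =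
          ConjClasses.mk (⟨g⁻¹ * F g, h'⟩ : ↥(F.eqLocus (MonoidHom.id G))) := by
  classical
  refine ⟨fun g h => fix_twist F g h, ?_⟩
  -- a section of the Lang map
  let sec : G → G := fun a => Classical.choose (hL a)
  have sec_spec : ∀ a, F (sec a) * (sec a)⁻¹ = a := fun a => Classical.choose_spec (hL a)
  have memH : ∀ x : G, x ∈ F.eqLocus (MonoidHom.id G) ↔ F x = x := fun x => Iff.rfl
  have fixsec : ∀ a : ↥(F.eqLocus (MonoidHom.id G)),
      F (F (sec a.1) * (sec a.1)⁻¹) = F (sec a.1) * (sec a.1)⁻¹ := fun a => by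
    rw [sec_spec]; exact a.2
  let ψ : ↥(F.eqLocus (MonoidHom.id G)) → ConjClasses ↥(F.eqLocus (MonoidHom.id G)) := fun a =>
    ConjClasses.mk ⟨(sec a.1)⁻¹ * F (sec a.1), fix_twist F _ (fixsec a)⟩
  -- general conjugacy statement
  have gen : ∀ (g g' : G) (hg : F (g⁻¹ * F g) = g⁻¹ * F g) (hg' : F (g'⁻¹ * F g') = g'⁻¹ * F g')
      (h : G) (hh : F h = h) (e : h * (F g * g⁻¹) * h⁻¹ = F g' * g'⁻¹),
      ConjClasses.mk (⟨g⁻¹ * F g, hg⟩ : ↥(F.eqLocus (MonoidHom.id G))) =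
        ConjClasses.mk (⟨g'⁻¹ * F g', hg'⟩ : ↥(F.eqLocus (MonoidHom.id G))) := by
    intro g g' hg hg' h hh e
    obtain ⟨hx, hc⟩ := conj_lemma F g g' h hh e
    rw [ConjClasses.mk_eq_mk_iff_isConj, isConj_iff]
    refine ⟨⟨((h * g)⁻¹ * g')⁻¹, by rw [memH, map_inv, hx]⟩, ?_⟩
    apply Subtype.ext
    simpa using hc
  have hψ : ∀ a a' : ↥(F.eqLocus (MonoidHom.id G)), IsConj a a' → ψ a = ψ a' := by
    intro a a' haa'
    obtain ⟨c, hc⟩ := isConj_iff.1 haa'
    refine gen _ _ _ _ c.1 c.2 ?_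
    rw [sec_spec, sec_spec, ← hc]
    rfl
  let φ : ConjClasses ↥(F.eqLocus (MonoidHom.id G)) → ConjClasses ↥(F.eqLocus (MonoidHom.id G)) :=
    Quotient.lift ψ (fun a a' h => hψ a a' h)
  have hφ : ∀ (g : G) (h : F (F g * g⁻¹) = F g * g⁻¹) (h' : F (g⁻¹ * F g) = g⁻¹ * F g),
      φ (ConjClasses.mk (⟨F g * g⁻¹, h⟩ : ↥(F.eqLocus (MonoidHom.id G)))) =
        ConjClasses.mk (⟨g⁻¹ * F g, h'⟩ : ↥(F.eqLocus (MonoidHom.id G))) := by
    intro g h h'
    change ψ ⟨F g * g⁻¹, h⟩ = _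
    refine gen _ _ _ _ 1 (map_one F) ?_
    rw [sec_spec]
    simp
  refine ⟨φ, ⟨?_, ?_⟩, hφ⟩
  · -- injective
    intro A A'
    induction A using Quotient.inductionOn with | _ a => ?_
    induction A' using Quotient.inductionOn with | _ a' => ?_
    intro hAA'
    change ψ a = ψ a' at hAA'
    rw [ConjClasses.mk_eq_mk_iff_isConj, isConj_iff] at hAA'
    obtain ⟨y, hy⟩ := hAA'
    have hy' : y.1 * ((sec a.1)⁻¹ * F (sec a.1)) * y.1⁻¹ = (sec a'.1)⁻¹ * F (sec a'.1) :=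
      congrArg Subtype.val hy
    have hyF : F y.1 = y.1 := y.2
    set g := sec a.1 with hg
    set g' := sec a'.1 with hg'
    have hFg' : F g' = g' * (y.1 * (g⁻¹ * F g) * y.1⁻¹) := by rw [hy']; group
    have hz : F (g' * y.1 * g⁻¹) = g' * y.1 * g⁻¹ := by
      have hFg : (F g)⁻¹ = (F g)⁻¹ := rfl
      rw [map_mul, map_mul, map_inv, hyF, hFg']
      group
    have haa' : (g' * y.1 * g⁻¹) * a.1 * (g' * y.1 * g⁻¹)⁻¹ = a'.1 := by
      rw [← sec_spec a.1, ← sec_spec a'.1]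
      change (g' * y.1 * g⁻¹) * (F g * g⁻¹) * (g' * y.1 * g⁻¹)⁻¹ = F g' * g'⁻¹
      rw [hFg']
      group
    change (Quotient.mk _ a : ConjClasses _) = Quotient.mk _ a'
    change ConjClasses.mk a = ConjClasses.mk a'
    rw [ConjClasses.mk_eq_mk_iff_isConj, isConj_iff]
    exact ⟨⟨g' * y.1 * g⁻¹, hz⟩, Subtype.ext haa'⟩
  · -- surjective
    intro B
    induction B using Quotient.inductionOn with | _ b => ?_
    obtain ⟨k, hk⟩ := hL b.1⁻¹
    replace hk : F k * k⁻¹ = b.1⁻¹ := hk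
    have hb : F b.1 = b.1 := b.2
    have hFk : F k = b.1⁻¹ * k := by
      calc F k = F k * k⁻¹ * k := by group
        _ = b.1⁻¹ * k := by rw [hk]
    have e1 : (k⁻¹)⁻¹ * F k⁻¹ = b.1 := by
      rw [map_inv, hFk]; group
    have ha : F (F k⁻¹ * (k⁻¹)⁻¹) = F k⁻¹ * (k⁻¹)⁻¹ := by
      rw [map_mul, map_inv, map_inv, map_inv, map_inv, hFk, map_mul, map_inv, hb, hFk]
      group
    refine ⟨ConjClasses.mk ⟨F k⁻¹ * (k⁻¹)⁻¹, ha⟩, ?_⟩
    rw [hφ k⁻¹ ha (fix_twist F _ ha)]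
    change ConjClasses.mk _ = ConjClasses.mk b
    congr 1
    exact Subtype.ext e1

end Groth.Agent.S8625
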