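import Groth.Statements.S8630
import Mathlib

set_option autoImplicit false
open Zeta

namespace Groth.Agent.S8630


open PowerSeries

/-- primitive power series -/
def Prim (F : ℤ⟦X⟧) : Prop := ∀ p : ℕ, p.Prime → ∃ n, ¬ ((p : ℤ) ∣ coeff n F)

theorem lemmaG (F : ℤ⟦X⟧) (hF : Prim F) : ∀ (k : ℕ) (N : ℤ) (W : ℤ⟦X⟧), N.natAbs = k → N ≠ 0 →
    F * W = C N → ∃ W₀ : ℤ⟦X⟧, F * W₀ = 1 := by
  intro k
  induction k using Nat.strong_induction_on with
  | _ k ih =>
    intro N W hk hN hFW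
    by_cases h1 : N.natAbs = 1
    · rcases Int.natAbs_eq N with h | h
      · refine ⟨W, ?_⟩
        rw [hFW, h, h1]; simp
      · refine ⟨-W, ?_⟩
        rw [mul_neg, hFW, h, h1]; simp
    · have hp : (N.natAbs.minFac).Prime := Nat.minFac_prime h1
      have hpN : ((N.natAbs.minFac : ℕ) : ℤ) ∣ N :=
        Int.natCast_dvd.mpr (Nat.minFac_dvd N.natAbs)
      generalize N.natAbs.minFac = p at hp hpN
      haveI : Fact p.Prime := ⟨hp⟩
      have hmod : map (Int.castRingHom (ZMod p)) F * map (Int.castRingHom (ZMod p)) W = 0 := by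
        rw [← map_mul, hFW, map_C]
        have h2 : (Int.castRingHom (ZMod p)) N = 0 :=
          (ZMod.intCast_zmod_eq_zero_iff_dvd N p).mpr hpN
        rw [h2, map_zero]
      rcases mul_eq_zero.mp hmod with h2 | h2
      · exfalso
        obtain ⟨n, hn⟩ := hF p hp
        apply hn
        have h3 := congrArg (coeff n) h2
        rw [coeff_map, map_zero] at h3
        exact (ZMod.intCast_zmod_eq_zero_iff_dvd _ p).mp h3
      · have hdiv : ∀ n, (p : ℤ) ∣ coeff n W := by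
          intro n
          have h3 := congrArg (coeff n) h2
          rw [coeff_map, map_zero] at h3
          exact (ZMod.intCast_zmod_eq_zero_iff_dvd _ p).mp h3
        choose w hw using hdiv
        have hW : W = C (p : ℤ) * PowerSeries.mk w := by
          ext n
          rw [coeff_C_mul, coeff_mk, hw]
        obtain ⟨N', rfl⟩ := hpN
        have hFW₁ : F * PowerSeries.mk w = C N' := by
          have hp0 : (C (p : ℤ) : ℤ⟦X⟧) ≠ 0 := by
            intro h0
            have h4 := congrArg (coeff 0) h0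
            rw [coeff_zero_C, map_zero] at h4
            exact hp.ne_zero (by exact_mod_cast h4)
          apply mul_left_cancel₀ hp0
          rw [← mul_assoc, mul_comm (C (p : ℤ)) F, mul_assoc, ← hW, hFW, map_mul]
        have hN' : N' ≠ 0 := fun h0 => hN (by rw [h0, mul_zero])
        refine ih N'.natAbs ?_ N' (PowerSeries.mk w) rfl hN' hFW₁
        rw [← hk, Int.natAbs_mul, Int.natAbs_natCast]
        have h5 : 0 < N'.natAbs := Int.natAbs_pos.mpr hN'
        nlinarith [hp.two_le]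

theorem norm_spec (U : Polynomial ℚ) : ∃ (b : ℤ) (U₁ : Polynomial ℤ), b ≠ 0 ∧
    PowerSeries.map (Int.castRingHom ℚ) (U₁ : ℤ⟦X⟧) = C (b : ℚ) * (U : ℚ⟦X⟧) := by
  obtain ⟨b, hb, hU⟩ := IsLocalization.integerNormalization_spec (nonZeroDivisors ℤ) U
  refine ⟨b, IsLocalization.integerNormalization (nonZeroDivisors ℤ) U,
    nonZeroDivisors.ne_zero hb, ?_⟩
  ext n
  have h1 := congrArg (fun p => Polynomial.coeff p n) hU
  simp only [Polynomial.coeff_map, Polynomial.coeff_smul, Algebra.smul_def] at h1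
  rw [coeff_map, Polynomial.coeff_coe, coeff_C_mul, Polynomial.coeff_coe]
  simpa using h1

theorem map_inj_int {F G : ℤ⟦X⟧}
    (h : PowerSeries.map (Int.castRingHom ℚ) F = PowerSeries.map (Int.castRingHom ℚ) G) :
    F = G := by
  ext n
  have h1 := congrArg (coeff n) h
  rw [coeff_map, coeff_map] at h1
  exact Int.cast_injective h1

/-- Fatou's lemma: let P, Q ∈ ℚ[T] be coprime with constant coefficient 1, and suppose the power series
P/Q has integer coefficients, i.e. P = Q·Z in ℚ⟦T⟧ for a power series Z with coefficients in ℤ. Then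
P and Q have integer coefficients. -/
theorem result (P Q : Polynomial ℚ)
    (hPQ : IsCoprime P Q) (hP : P.coeff 0 = 1) (hQ : Q.coeff 0 = 1) (Z : PowerSeries ℤ)
    (hZ : (P : PowerSeries ℚ) = (Q : PowerSeries ℚ) * PowerSeries.map (Int.castRingHom ℚ) Z) :
    (∃ P₀ : Polynomial ℤ, P₀.map (Int.castRingHom ℚ) = P) ∧
      ∃ Q₀ : Polynomial ℤ, Q₀.map (Int.castRingHom ℚ) = Q := by
  classical
  obtain ⟨U, V, hUV⟩ := hPQ
  obtain ⟨bU, U₁, hbU, hU'⟩ := norm_spec U
  obtain ⟨bV, V₁, hbV, hV'⟩ := norm_spec V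
  obtain ⟨bQ, Q₁, hbQ, hQ'⟩ := norm_spec Q
  have h1 : (U : ℚ⟦X⟧) * (P : ℚ⟦X⟧) + (V : ℚ⟦X⟧) * (Q : ℚ⟦X⟧) = 1 := by
    rw [← Polynomial.coe_mul, ← Polynomial.coe_mul, ← Polynomial.coe_add, hUV, Polynomial.coe_one]
  have h2 : (Q : ℚ⟦X⟧) * ((U : ℚ⟦X⟧) * PowerSeries.map (Int.castRingHom ℚ) Z) +
      (Q : ℚ⟦X⟧) * (V : ℚ⟦X⟧) = 1 := by
    rw [← mul_assoc, mul_comm (Q : ℚ⟦X⟧) (U : ℚ⟦X⟧), mul_assoc, ← hZ,
      mul_comm (Q : ℚ⟦X⟧) (V : ℚ⟦X⟧)]
    exact h1
  have key : (Q₁ : ℤ⟦X⟧) * (C bV * (U₁ : ℤ⟦X⟧) * Z + C bU * (V₁ : ℤ⟦X⟧)) =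
      C (bQ * bU * bV) := by
    apply map_inj_int
    rw [map_mul, map_add, map_mul, map_mul, map_mul, map_C, map_C, map_C, hQ', hU', hV']
    simp only [eq_intCast, Int.cast_mul, map_mul]
    linear_combination (C (bQ : ℚ) * C (bU : ℚ) * C (bV : ℚ)) * h2
  -- primitive part
  have hcp := Polynomial.eq_C_content_mul_primPart Q₁
  have hprim : Prim (Q₁.primPart : ℤ⟦X⟧) := by
    intro p hp
    by_contra hcon
    push Not at hcon
    have h3 : Polynomial.C (p : ℤ) ∣ Q₁.primPart := by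
      rw [Polynomial.C_dvd_iff_dvd_coeff]
      intro n
      have := hcon n
      rwa [Polynomial.coeff_coe] at this
    have h4 := Q₁.isPrimitive_primPart _ h3
    have h5 : IsUnit p := Int.ofNat_isUnit.mp h4
    exact hp.one_lt.ne' (Nat.isUnit_iff.mp h5)
  have key2 : (Q₁.primPart : ℤ⟦X⟧) * (C Q₁.content *
      (C bV * (U₁ : ℤ⟦X⟧) * Z + C bU * (V₁ : ℤ⟦X⟧))) = C (bQ * bU * bV) := by
    rw [← key]
    conv_rhs => rw [hcp, Polynomial.coe_mul, Polynomial.coe_C]
    ring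
  have hN : bQ * bU * bV ≠ 0 := mul_ne_zero (mul_ne_zero hbQ hbU) hbV
  obtain ⟨W₀, hW₀⟩ := lemmaG _ hprim _ _ _ rfl hN key2
  have hq0 : Q₁.primPart.coeff 0 = 1 ∨ Q₁.primPart.coeff 0 = -1 := by
    have h3 := congrArg (coeff 0) hW₀
    rw [coeff_zero_eq_constantCoeff_apply, map_mul, Polynomial.constantCoeff_coe] at h3
    have h4 : constantCoeff (1 : ℤ⟦X⟧) = 1 := map_one _
    rw [coeff_zero_eq_constantCoeff_apply, h4] at h3
    exact Int.eq_one_or_neg_one_of_mul_eq_one h3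
  -- coefficients of Q
  have hcoef : ∀ n, ((Q₁.content * Q₁.primPart.coeff n : ℤ) : ℚ) = (bQ : ℚ) * Q.coeff n := by
    intro n
    have h3 := congrArg (coeff n) hQ'
    rw [coeff_map, Polynomial.coeff_coe, coeff_C_mul, Polynomial.coeff_coe] at h3
    rw [← h3]
    conv_rhs => rw [hcp, Polynomial.coeff_C_mul]
    rfl
  have hQint : ∀ n, Q.coeff n ∈ Set.range (Int.castRingHom ℚ) := by
    have hbQ' : (bQ : ℚ) ≠ 0 := by exact_mod_cast hbQ
    have h0 := hcoef 0
    rw [hQ, mul_one] at h0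
    intro n
    have hn := hcoef n
    rcases hq0 with h | h
    · rw [h, mul_one] at h0
      refine ⟨Q₁.primPart.coeff n, ?_⟩
      apply mul_left_cancel₀ hbQ'
      rw [← hn, ← h0]
      push_cast
      rfl
    · rw [h] at h0
      refine ⟨-Q₁.primPart.coeff n, ?_⟩
      apply mul_left_cancel₀ hbQ'
      push_cast at h0 hn ⊢
      simp only [eq_intCast, Int.cast_neg]
      linear_combination hn + (Q₁.primPart.coeff n : ℚ) * h0
  obtain ⟨Q₀, hQ₀⟩ := (Polynomial.mem_lifts Q).mp ((Polynomial.lifts_iff_coeff_lifts Q).mpr hQint)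
  refine ⟨?_, ⟨Q₀, hQ₀⟩⟩
  have hPint : ∀ n, P.coeff n ∈ Set.range (Int.castRingHom ℚ) := by
    intro n
    refine ⟨coeff n ((Q₀ : ℤ⟦X⟧) * Z), ?_⟩
    have h3 : (P : ℚ⟦X⟧) = PowerSeries.map (Int.castRingHom ℚ) ((Q₀ : ℤ⟦X⟧) * Z) := by
      rw [hZ, map_mul, ← Polynomial.polynomial_map_coe, hQ₀]
    have h4 := congrArg (coeff n) h3
    rw [Polynomial.coeff_coe, coeff_map] at h4
    exact h4.symm
  exact (Polynomial.mem_lifts P).mp ((Polynomial.lifts_iff_coeff_lifts P).mpr hPint)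

end Groth.Agent.S8630
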