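-- Statement S8654.
import Groth.Statements.S8654
import Mathlib
import Groth.Agent.Lib.Helper1.RegComp

set_option autoImplicit false
universe u
open CategoryTheory CategoryTheory.Limits AlgebraicGeometry
open RegImm

namespace Groth.Agent.S8654

/-- Let i : Y ⟶ X and j : Z ⟶ Y be Koszul-regular immersions (not necessarily closed). Then the
composite Z ⟶ X is a Koszul-regular immersion. -/
theorem result {X Y Z : Scheme.{u}} (i : Y ⟶ X) (j : Z ⟶ Y)
    (hi : RegImm.IsRegularImmersion .koszul i) (hj : RegImm.IsRegularImmersion .koszul j) :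
    RegImm.IsRegularImmersion .koszul (j ≫ i) := by
  haveI := hi.1
  haveI := hj.1
  refine ⟨inferInstance, fun z => ?_⟩
  obtain ⟨⟨U₁, hU₁⟩, hzU₁, hcl₁, rs₁, hrs₁, hker₁⟩ := hi.2 (j z)
  obtain ⟨⟨V₁, hV₁⟩, hzV₁, hcl₂, ss, hss, hker₂⟩ := hj.2 z
  haveI := hcl₁
  haveI := hcl₂
  obtain ⟨U, hU, hzU, hcl, rs, -, hrs, hker⟩ :=
    Groth.Agent.Lib.Helper1.RegComp.comp_chart i j z hU₁ hzU₁ rs₁ hrs₁ hker₁ hV₁ hzV₁ ss hss hker₂
  exact ⟨⟨U, hU⟩, hzU, hcl, rs, hrs, hker⟩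

end Groth.Agent.S8654
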