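-- Statement S8655.
import Groth.Statements.S8655
import Mathlib
import Groth.Agent.Lib.Helper1.RegComp

set_option autoImplicit false
universe u
open CategoryTheory CategoryTheory.Limits AlgebraicGeometry
open RegImm

namespace Groth.Agent.S8655

/-- Let i : Y ⟶ X be a Koszul-regular immersion of constant codimension n and j : Z ⟶ Y a Koszul-regular
immersion of constant codimension m (around every point the ideal is generated by a Koszul-regular
sequence of that length). Then j ≫ i is a Koszul-regular immersion of constant codimension m + n. -/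
theorem result {X Y Z : Scheme.{u}} (n m : ℕ) (i : Y ⟶ X) (j : Z ⟶ Y)
    (hi : RegImm.IsRegularImmersionOfCodim .koszul n i) (hj : RegImm.IsRegularImmersionOfCodim .koszul m j) :
    RegImm.IsRegularImmersionOfCodim .koszul (m + n) (j ≫ i) := by
  haveI := hi.1
  haveI := hj.1
  refine ⟨inferInstance, fun z => ?_⟩
  obtain ⟨⟨U₁, hU₁⟩, hzU₁, hcl₁, rs₁, hl₁, hrs₁, hker₁⟩ := hi.2 (j z)
  obtain ⟨⟨V₁, hV₁⟩, hzV₁, hcl₂, ss, hl₂, hss, hker₂⟩ := hj.2 z
  haveI := hcl₁
  haveI := hcl₂
  obtain ⟨U, hU, hzU, hcl, rs, hlen, hrs, hker⟩ :=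
    Groth.Agent.Lib.Helper1.RegComp.comp_chart i j z hU₁ hzU₁ rs₁ hrs₁ hker₁ hV₁ hzV₁ ss hss hker₂
  exact ⟨⟨U, hU⟩, hzU, hcl, rs, by rw [hlen, hl₁, hl₂], hrs, hker⟩

end Groth.Agent.S8655
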