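-- Statement S8657.
import Groth.Statements.S8657
import Mathlib
import Groth.Agent.Lib.Helper1.SmDesc2

set_option autoImplicit false
universe u
open CategoryTheory CategoryTheory.Limits AlgebraicGeometry
open Synt

namespace Groth.Agent.S8657

/-- Let i : X ⟶ V and j : X ⟶ V' be immersions and p : V' ⟶ V a smooth morphism with j ≫ p = i. Then i
is a Koszul-regular immersion if and only if j is. -/
theorem result {X V V' : Scheme.{u}} (i : X ⟶ V) [IsImmersion i] (j : X ⟶ V') [IsImmersion j]
    (p : V' ⟶ V) [Smooth p] (h : j ≫ p = i) :
    RegImm.IsRegularImmersion .koszul i ↔ RegImm.IsRegularImmersion .koszul j := by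
  subst h
  constructor
  · intro hi
    exact Groth.Agent.Lib.Helper1.SmDesc.isRegularImmersion_of_comp_smooth j p hi
  · intro hj
    exact Groth.Agent.Lib.Helper1.SmDesc.isRegularImmersion_comp_smooth j p hj

end Groth.Agent.S8657
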