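import Groth.Statements.S8666
-- import your own Groth.Agent.* helpers here
import Mathlib

set_option autoImplicit false
universe u
open CAlg

namespace Groth.Agent.S8666

/-- Let A be a Noetherian ring, M an invertible A-module and p_1, …, p_k finitely many primes of A
(points of Spec A). Then there is a single element s ∈ M whose image generates M_{p_i} as an
A_{p_i}-module for every i, i.e. s is a basis of the stalk of M at each of the given points. -/
theorem result (A : Type u) [CommRing A] [IsNoetherianRing A]
    (M : Type u) [AddCommGroup M] [Module A M] [Module.Invertible A M] (ι : Type) [Finite ι] (p : ι → PrimeSpectrum A) :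
    ∃ s : M, ∀ i : ι, Submodule.span (Localization.AtPrime (p i).asIdeal)
      {LocalizedModule.mkLinearMap (p i).asIdeal.primeCompl M s} = ⊤ := by
  classical
  rcases isEmpty_or_nonempty ι with hι | hι
  · exact ⟨0, fun i => isEmptyElim i⟩
  haveI : Fintype ι := Fintype.ofFinite ι
  obtain ⟨S, hS⟩ : ∃ S : Submonoid A, S = ⨅ i, (p i).asIdeal.primeCompl := ⟨_, rfl⟩
  have memS : ∀ x : A, x ∈ S ↔ ∀ i, x ∉ (p i).asIdeal := by
    intro x; rw [hS, Submonoid.mem_iInf]; exact Iff.rfl
  have hdisj : ∀ i, Disjoint (S : Set A) ((p i).asIdeal : Set A) := by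
    intro i
    rw [Set.disjoint_left]
    intro x hx hx'
    exact (memS x).mp hx i hx'
  have hmax : ∀ m' : MaximalSpectrum (Localization S),
      ∃ i, m'.asIdeal = (p i).asIdeal.map (algebraMap A (Localization S)) := by
    intro m'
    have hq : ((m'.asIdeal.comap (algebraMap A (Localization S)) : Ideal A) : Set A) ⊆
        ⋃ i ∈ ((Finset.univ : Finset ι) : Set ι), ((p i).asIdeal : Set A) := by
      intro x hx
      by_contra hcon
      have hxS : x ∈ S := by
        rw [memS]; intro i hi
        exact hcon (Set.mem_biUnion (Finset.mem_coe.mpr (Finset.mem_univ i)) hi)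
      have hu : IsUnit (algebraMap A (Localization S) x) :=
        IsLocalization.map_units (Localization S) ⟨x, hxS⟩
      exact m'.isMaximal.ne_top (Ideal.eq_top_of_isUnit_mem _ (Ideal.mem_comap.mp hx) hu)
    obtain ⟨i, _, hi⟩ := (Ideal.subset_union_prime (Classical.arbitrary ι) (Classical.arbitrary ι)
      (fun i _ _ _ => (p i).isPrime)).mp hq
    refine ⟨i, ?_⟩
    have hle : m'.asIdeal ≤ (p i).asIdeal.map (algebraMap A (Localization S)) := by
      rw [← IsLocalization.map_comap S (Localization S) m'.asIdeal]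
      exact Ideal.map_mono hi
    have hprime : ((p i).asIdeal.map (algebraMap A (Localization S))).IsPrime :=
      IsLocalization.isPrime_of_isPrime_disjoint S (Localization S) _ (p i).isPrime (hdisj i)
    exact m'.isMaximal.eq_of_le hprime.ne_top hle
  haveI : Finite (MaximalSpectrum (Localization S)) := by
    choose φ hφ using hmax
    refine Finite.of_injective φ (fun m₁ m₂ h => ?_)
    apply MaximalSpectrum.ext
    rw [hφ m₁, hφ m₂, h]
  have hfree : Module.Free (Localization S) (LocalizedModule S M) := inferInstance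
  obtain ⟨e⟩ := Module.Invertible.free_iff_linearEquiv.mp hfree
  obtain ⟨s, t, hst⟩ : ∃ (s : M) (t : S), e.symm 1 = LocalizedModule.mk s t :=
    LocalizedModule.induction_on (fun m t => ⟨m, t, rfl⟩) (e.symm 1)
  have star : ∀ m : M, ∃ t' : A, t' ∈ S ∧ ∃ a : A, t' • m = a • s := by
    intro m
    have h1 : LocalizedModule.mk m (1 : S)
        = e (LocalizedModule.mk m 1) • LocalizedModule.mk s t := by
      rw [← hst, ← map_smul, smul_eq_mul, mul_one, e.symm_apply_apply]
    obtain ⟨a, u, hau⟩ : ∃ (a : A) (u : S), e (LocalizedModule.mk m 1) = Localization.mk a u :=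
      Localization.induction_on (e (LocalizedModule.mk m 1)) (fun y => ⟨y.1, y.2, rfl⟩)
    rw [hau, LocalizedModule.mk_smul_mk, LocalizedModule.mk_eq] at h1
    obtain ⟨v, hv⟩ := h1
    simp only [Submonoid.smul_def, Submonoid.coe_mul, Submonoid.coe_one, one_smul] at hv
    refine ⟨(v : A) * ((u : A) * (t : A)), S.mul_mem v.2 (S.mul_mem u.2 t.2), (v : A) * a, ?_⟩
    rw [mul_smul, hv, mul_smul]
  refine ⟨s, fun i => ?_⟩
  rw [eq_top_iff]
  intro y _
  obtain ⟨m, w, rfl⟩ : ∃ (m : M) (w : (p i).asIdeal.primeCompl), y = LocalizedModule.mk m w :=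
    LocalizedModule.induction_on (fun m w => ⟨m, w, rfl⟩) y
  obtain ⟨t', ht', a, hta⟩ := star m
  have ht'P : t' ∈ (p i).asIdeal.primeCompl := (memS t').mp ht' i
  rw [Submodule.mem_span_singleton]
  refine ⟨Localization.mk a (⟨t', ht'P⟩ * w), ?_⟩
  rw [LocalizedModule.mkLinearMap_apply, LocalizedModule.mk_smul_mk, mul_one, ← hta]
  exact LocalizedModule.mk_cancel_common_left ⟨t', ht'P⟩ w m

end Groth.Agent.S8666
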