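import Groth.Statements.S8678
-- import your own Groth.Agent.* helpers here
import Mathlib
import Groth.Agent.Lib.Helper23.Lam

set_option autoImplicit false
universe u
open Finset
open LambdaRing

namespace Groth.Agent.S8678

/-- As the identity it proves in the pre-λ-ring K(Y') of the exceptional divisor: let K be a pre-λ-ring
(λ^0 = 1, λ^1 = id, additive formula) with λ^k(1) = 0 for all k ≥ 2, let d ≥ 2, and let F, L, N' ∈ K
satisfy λ^j(L) = 0 for j ≥ 2 (L is the class of an invertible module), λ^i(N') = 0 for i ≥ d − 1 (N'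
is the class of a bundle of rank d − 2) and F + L = N' + 2 (for the blowing up of a regular
immersion of codimension d: on the exceptional divisor the pulled-back conormal class is F + L, and
N = N' + 2). Then 1 − L divides λ_{−1}(F) = Σ_{i<d} (−1)^i λ^i(F). (The published proof uses only
additivity of λ_t and λ_t(1) = 1 + t, the hypotheses taken here.) -/
theorem result (K : Type u) [CommRing K] [LambdaRing.LambdaOps K]
    (h1 : ∀ k : ℕ, 2 ≤ k → LambdaRing.LambdaOps.lam k (1 : K) = 0) (d : ℕ) (hd : 2 ≤ d) (F L N' : K)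
    (hL : ∀ j : ℕ, 2 ≤ j → LambdaRing.LambdaOps.lam j L = 0) (hN' : ∀ i : ℕ, d - 1 ≤ i → LambdaRing.LambdaOps.lam i N' = 0)
    (hrel : F + L = N' + 2) :
    (1 - L) ∣ ∑ i ∈ range d, (-1 : K) ^ i * LambdaRing.LambdaOps.lam i F := by
  have hF : ∀ i : ℕ, (1 - L) ∣ LambdaOps.lam i F - LambdaOps.lam i (N' + 1) := by
    intro i
    induction i with
    | zero => rw [LambdaOps.lam_zero, LambdaOps.lam_zero, sub_self]; exact dvd_zero _
    | succ i ih =>
      have e1 := Groth.Agent.Lib.Helper23.Lam.lam_succ_add_line F L hL i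
      have e2 := Groth.Agent.Lib.Helper23.Lam.lam_succ_add_one h1 (N' + 1) i
      have e3 : F + L = N' + 1 + 1 := by rw [hrel]; ring
      rw [e3, e2] at e1
      have e4 : LambdaOps.lam (i + 1) F - LambdaOps.lam (i + 1) (N' + 1)
          = (1 - L) * LambdaOps.lam i F - (LambdaOps.lam i F - LambdaOps.lam i (N' + 1)) := by
        linear_combination -e1
      rw [e4]
      exact dvd_sub (dvd_mul_right _ _) ih
  have hM : ∑ i ∈ range d, (-1 : K) ^ i * LambdaOps.lam i (N' + 1) = 0 := by
    obtain ⟨e, rfl⟩ : ∃ e, d = e + 1 := ⟨d - 1, by omega⟩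
    rw [Groth.Agent.Lib.Helper23.Lam.alt_sum_lam_add_one h1, hN' e (by omega), mul_zero]
  have key : ∑ i ∈ range d, (-1 : K) ^ i * LambdaOps.lam i F
      = ∑ i ∈ range d, (-1 : K) ^ i * (LambdaOps.lam i F - LambdaOps.lam i (N' + 1)) := by
    simp only [mul_sub, Finset.sum_sub_distrib, hM, sub_zero]
  rw [key]
  exact Finset.dvd_sum fun i _ => Dvd.dvd.mul_left (hF i) _

end Groth.Agent.S8678
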