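import Groth.Statements.S8686
import Groth.Agent.Lib.Helper20.LamBasic

set_option autoImplicit false
universe u v w
open LambdaRing Finset

namespace Groth.Agent.S8686

open Groth.Agent.Lib.Helper20.LamBasic PowerSeries

theorem result (K : Type u) [CommRing K] [LambdaRing.LambdaOps K]
    (h1 : ∀ n : ℕ, 2 ≤ n → LambdaRing.LambdaOps.lam n (1 : K) = 0) (k : ℕ) (hk : 1 ≤ k) :
    LambdaRing.adamsOp k (1 : K) = 1 := by
  obtain ⟨k, rfl⟩ : ∃ j, k = j + 1 := ⟨k - 1, by omega⟩
  have hlam : lamSeries (1 : K) = 1 + X := by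
    ext n
    rw [coeff_lamSeries, map_add, coeff_one, coeff_X]
    rcases n with _ | _ | n
    · simp [LambdaOps.lam_zero]
    · simp [LambdaOps.lam_one]
    · rw [h1 _ (by omega)]; simp
  have hinv : (lamSeries (1 : K)).invOfUnit 1 = PowerSeries.mk (fun n => (-1 : K) ^ n) := by
    apply invOfUnit_eq_of_mul_eq_one _ _ (constantCoeff_lamSeries _)
    rw [hlam]
    ext n
    rw [add_mul, one_mul, map_add, coeff_mk, coeff_one]
    rcases n with _ | n
    · simp
    · rw [coeff_succ_X_mul, coeff_mk, if_neg (Nat.succ_ne_zero n), pow_succ]; ring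
  rw [adamsOp_succ]
  unfold logDerivSeries
  rw [hinv, hlam, map_add, Derivation.map_one_eq_zero, zero_add, derivative_X, one_mul, coeff_mk,
    ← mul_pow]
  simp

end Groth.Agent.S8686
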