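import Groth.Statements.S8687
import Groth.Agent.Lib.Helper20.NewtonNu
-- import your own Groth.Agent.* helpers here

set_option autoImplicit false
universe u
open LambdaRing

namespace Groth.Agent.S8687

open MvPolynomial Groth.Agent.Lib.Helper20.NewtonNu Groth.Agent.Lib.Helper20.SymFT
  Groth.Agent.Lib.Helper20.SymStab

/-- Let K be a λ-ring in the strict sense (λ_t(1) = 1 + t and the identities λ^n(xy) = P_n(λ^1 x, …; λ^1
y, …), λ^j(λ^i x) = Q_{i,j}(λ^1 x, …) for the universal polynomials). Then for every k ≥ 1 the Adams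
operation ψ^k is multiplicative: ψ^k(xy) = ψ^k(x) ψ^k(y). The hypothesis hP, that a universal
polynomial P_n exists for every n, is a true statement carried here so that the product identities
of K can be used at every n. -/
theorem result (K : Type u) [CommRing K] [LambdaRing.LambdaOps K]
    (hK : LambdaRing.IsSpecial K)
    (hP : ∀ n : ℕ, ∃ P : MvPolynomial (Fin n ⊕ Fin n) ℤ, LambdaRing.IsMulPoly n P)
    (k : ℕ) (hk : 1 ≤ k) (x y : K) :
    LambdaRing.adamsOp k (x * y) = LambdaRing.adamsOp k x * LambdaRing.adamsOp k y := by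
  classical
  choose P hPP using hP
  obtain ⟨G, hGdef⟩ : ∃ G : ℕ → MvPolynomial (Fin k ⊕ Fin k) ℤ, ∀ j (h : j ≤ k),
      G j = rename (Sum.map (Fin.castLE h) (Fin.castLE h)) (P j) :=
    ⟨fun j => if h : j ≤ k then rename (Sum.map (Fin.castLE h) (Fin.castLE h)) (P j) else 0,
      fun j h => dif_pos h⟩
  obtain ⟨ev, hev⟩ : ∃ ev : MvPolynomial (Fin k ⊕ Fin k) ℤ →ₐ[ℤ] K,
      ev = aeval (Sum.elim (fun i : Fin k => LambdaOps.lam ((i : ℕ) + 1) x)
        (fun i : Fin k => LambdaOps.lam ((i : ℕ) + 1) y)) := ⟨_, rfl⟩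
  have hA : ∀ j, 1 ≤ j → j ≤ k → LambdaOps.lam j (x * y) = ev (G j) := by
    intro j _ h
    rw [hGdef j h, hev, aeval_rename, hK.lam_mul j (P j) (hPP j) x y]
    refine congrArg (fun f => aeval f (P j)) (funext fun i => ?_)
    rcases i with i | i <;> rfl
  have hB : ∀ j, 1 ≤ j → j ≤ k → Phi k k (G j) = mulGen k j := by
    intro j _ h
    rw [hGdef j h, Phi_rename_castLE h, Phi_eq_mulGen_of_isMulPoly h (hPP j)]
  have hid := nu_mul_identity k k hk le_rfl G hB
  rw [adamsOp_eq_nu, adamsOp_eq_nu, adamsOp_eq_nu]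
  have h1 : nu (fun j => LambdaOps.lam j (x * y)) k = nu (fun j => ev (G j)) k := nu_congr k hA
  rw [h1, ← map_nu ev G k, hid, map_mul, map_nu, map_nu]
  congr 1
  · apply nu_congr
    intro j hj1 hj2
    show ev (Xl k j) = _
    rw [hev, aeval_Xl k j hj1 hj2]
    show LambdaOps.lam (j - 1 + 1) x = _
    rw [Nat.sub_add_cancel hj1]
  · apply nu_congr
    intro j hj1 hj2
    show ev (Xr k j) = _
    rw [hev, aeval_Xr k j hj1 hj2]
    show LambdaOps.lam (j - 1 + 1) y = _
    rw [Nat.sub_add_cancel hj1]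

end Groth.Agent.S8687
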