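import Groth.Statements.S8688
import Groth.Agent.Lib.Helper20.NewtonNu
import Groth.Agent.S8686
import Groth.Agent.S8687
-- import your own Groth.Agent.* helpers here

set_option autoImplicit false
universe u
open LambdaRing

namespace Groth.Agent.S8688

open MvPolynomial Groth.Agent.Lib.Helper20.NewtonNu Groth.Agent.Lib.Helper20.SymFT
  Groth.Agent.Lib.Helper20.SymStab Groth.Agent.Lib.Helper20

/-- Let K be a λ-ring in the strict sense (λ_t(1) = 1 + t and the identities with the universal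
polynomials P_n, Q_{i,j}). Then the Adams operations satisfy ψ^k ∘ ψ^{k'} = ψ^{kk'} for all k, k' ≥
1. The hypotheses hP and hQ, that the universal polynomials exist for all indices, are true
statements carried here so that the identities of K can be used at every index. -/
theorem result (K : Type u) [CommRing K] [LambdaRing.LambdaOps K]
    (hK : LambdaRing.IsSpecial K)
    (hP : ∀ n : ℕ, ∃ P : MvPolynomial (Fin n ⊕ Fin n) ℤ, LambdaRing.IsMulPoly n P)
    (hQ : ∀ i j : ℕ, ∃ Q : MvPolynomial (Fin (i * j)) ℤ, LambdaRing.IsCompPoly i j Q)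
    (k k' : ℕ) (hk : 1 ≤ k) (hk' : 1 ≤ k') (x : K) :
    LambdaRing.adamsOp k (LambdaRing.adamsOp k' x) = LambdaRing.adamsOp (k * k') x := by
  classical
  choose Q hQQ using hQ
  obtain ⟨N, hN⟩ : ∃ N, N = k * k' := ⟨_, rfl⟩
  obtain ⟨G, hGdef⟩ : ∃ G : ℕ → ℕ → MvPolynomial (Fin N) ℤ, ∀ j i (h : j * i ≤ N),
      G j i = rename (Fin.castLE h) (Q j i) :=
    ⟨fun j i => if h : j * i ≤ N then rename (Fin.castLE h) (Q j i) else 0,
      fun j i h => dif_pos h⟩
  obtain ⟨ev, hev⟩ : ∃ ev : MvPolynomial (Fin N) ℤ →ₐ[ℤ] K,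
      ev = aeval (fun a : Fin N => LambdaOps.lam ((a : ℕ) + 1) x) := ⟨_, rfl⟩
  have hle : ∀ j i, j ≤ k' → i ≤ k → j * i ≤ N := by
    intro j i hj hi
    rw [hN, mul_comm k k']
    exact Nat.mul_le_mul hj hi
  have hA : ∀ j i, 1 ≤ j → j ≤ k' → 1 ≤ i → i ≤ k →
      LambdaOps.lam i (LambdaOps.lam j x) = ev (G j i) := by
    intro j i _ hj _ hi
    rw [hGdef j i (hle j i hj hi), hev, aeval_rename, hK.lam_lam j i (Q j i) (hQQ j i) x]
    rfl
  have hB : ∀ j i, 1 ≤ j → j ≤ k' → 1 ≤ i → i ≤ k → epsU N N (G j i) = compGen N j i := by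
    intro j i _ hj _ hi
    rw [hGdef j i (hle j i hj hi), epsU_rename_castLE,
      epsU_eq_compGen_of_isCompPoly (hle j i hj hi) (hQQ j i)]
  have hid := nu_comp_identity N k k' hk hk' hN G hB
  -- `ψ^k` is a ring homomorphism
  have h0 : adamsOp k (0 : K) = 0 := by
    have h := LamBasic.adamsOp_add k (0 : K) 0
    rw [add_zero] at h
    linear_combination (-1 : K) * h
  let ψ : K →+* K :=
    { toFun := adamsOp k
      map_one' := Groth.Agent.S8686.result K hK.lam_one_eq_zero k hk
      map_mul' := Groth.Agent.S8687.result K hK hP k hk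
      map_zero' := h0
      map_add' := LamBasic.adamsOp_add k }
  have step1 : adamsOp k (adamsOp k' x) = nu (fun j => adamsOp k (LambdaOps.lam j x)) k' := by
    rw [adamsOp_eq_nu x k']
    exact map_nu ψ (fun j => LambdaOps.lam j x) k'
  have step2 : ∀ j, 1 ≤ j → j ≤ k' → adamsOp k (LambdaOps.lam j x) = ev (nu (G j) k) := by
    intro j h1 h2
    rw [adamsOp_eq_nu, map_nu ev]
    exact nu_congr k (fun i hi1 hi2 => hA j i h1 h2 hi1 hi2)
  have step3 : nu (fun j => adamsOp k (LambdaOps.lam j x)) k' =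
      nu (fun j => ev (nu (G j) k)) k' := nu_congr k' step2
  rw [step1, step3, ← map_nu ev (fun j => nu (G j) k) k', hid, map_nu ev, ← hN, adamsOp_eq_nu x N]
  apply nu_congr
  intro j h1 h2
  show ev (X1 N j) = _
  rw [hev, aeval_X1 N j h1 h2]
  show LambdaOps.lam (j - 1 + 1) x = _
  rw [Nat.sub_add_cancel h1]

end Groth.Agent.S8688
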