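import Groth.Statements.S8699
import Groth.Agent.Lib.Helper20.SpecialOfAdams
-- import your own Groth.Agent.* helpers here

set_option autoImplicit false
universe u
open LambdaRing

namespace Groth.Agent.S8699

open PowerSeries Groth.Agent.Lib.Helper20.LamBasic Groth.Agent.Lib.Helper20.SpecialOfAdams

theorem lam_rec (K : Type u) [CommRing K] [LambdaRing.LambdaOps K] [BinomialRing K]
    (hKb : LambdaRing.IsBinomial K) (x : K) (n : ℕ) :
    ((n : K) + 1) * LambdaOps.lam (n + 1) x = LambdaOps.lam n x * (x - n) := by
  rw [hKb, hKb]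
  have h := Ring.choose_smul_choose x (Nat.le_succ n)
  rw [Nat.choose_succ_self_right, Nat.succ_sub (le_refl n), Nat.sub_self, Ring.choose_one_right,
    nsmul_eq_mul] at h
  rw [← h]
  push_cast
  ring

theorem adamsOp_of_isBinomial (K : Type u) [CommRing K] [LambdaRing.LambdaOps K] [BinomialRing K]
    (hKb : LambdaRing.IsBinomial K) (k : ℕ) (hk : 1 ≤ k) (x : K) : adamsOp k x = x := by
  obtain ⟨k, rfl⟩ : ∃ j, k = j + 1 := ⟨k - 1, by omega⟩
  have hD : (1 + X) * derivative K (lamSeries x) = C x * lamSeries x := by
    ext n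
    rw [add_mul, one_mul, map_add, coeff_C_mul, coeff_lamSeries]
    rcases n with _ | n
    · rw [coeff_zero_X_mul, add_zero, coeff_derivative, coeff_lamSeries, LambdaOps.lam_zero,
        LambdaOps.lam_one]
      push_cast
      ring
    · rw [coeff_succ_X_mul, coeff_derivative, coeff_derivative, coeff_lamSeries, coeff_lamSeries]
      have h := lam_rec K hKb x (n + 1)
      push_cast at h ⊢
      linear_combination h
  have hL : (1 + X) * logDerivSeries x = C x := by
    unfold logDerivSeries
    rw [← mul_assoc, hD, mul_assoc, lamSeries_mul_inv, mul_one]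
  have hc : ∀ m, coeff m (logDerivSeries x) = (-1) ^ m * x := by
    intro m
    induction m with
    | zero =>
      have h := congrArg (coeff 0) hL
      rw [add_mul, one_mul, map_add, coeff_zero_X_mul, add_zero, coeff_zero_C] at h
      rw [h, pow_zero, one_mul]
    | succ m ih =>
      have h := congrArg (coeff (m + 1)) hL
      rw [add_mul, one_mul, map_add, coeff_succ_X_mul, ih, coeff_C, if_neg (Nat.succ_ne_zero m)] at h
      rw [pow_succ]
      linear_combination h
  rw [adamsOp_succ, hc, ← mul_assoc, ← mul_pow]
  simp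

/-- A binomial ring K (no additive torsion and all binomial coefficients C(x, n) defined) with its
binomial λ-structure λ^n(x) = C(x, n), i.e. λ_t(x) = (1 + t)^x, is a λ-ring in the strict sense:
λ_t(1) = 1 + t, λ^n(xy) = P_n(λ^1 x, …; λ^1 y, …) and λ^j(λ^i x) = Q_{i,j}(λ^1 x, …) for the
universal polynomials. In particular the integers with λ^n(m) = C(m, n) form a λ-ring. -/
theorem result (K : Type u) [CommRing K] [LambdaRing.LambdaOps K] [BinomialRing K]
    (hKb : LambdaRing.IsBinomial K) : LambdaRing.IsSpecial K := by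
  have hψ := adamsOp_of_isBinomial K hKb
  apply isSpecial_of_adamsOp K ?_ (fun k hk => hψ k hk 1)
    (fun k hk x y => by rw [hψ k hk, hψ k hk, hψ k hk])
    (fun k k' hk hk' x => by rw [hψ k' hk', hψ k hk, hψ (k * k') (Nat.mul_pos hk hk')])
  intro n a b h
  have htf := BinomialRing.toIsAddTorsionFree (R := K)
  have h' : (n + 1) • a = (n + 1) • b := by
    rw [nsmul_eq_mul, nsmul_eq_mul]
    push_cast
    exact h
  exact (nsmul_right_inj (Nat.succ_ne_zero n)).mp h'

end Groth.Agent.S8699
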