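import Groth.Statements.S8702
import Groth.Agent.Lib.Helper20.LamBasic

set_option autoImplicit false
universe u v w
open LambdaRing Finset

namespace Groth.Agent.S8702

open Groth.Agent.Lib.Helper20.LamBasic PowerSeries

section
variable {K : Type u} [CommRing K] [Algebra ℚ K]

/-- the inverse of `n + 1` in a `ℚ`-algebra -/
noncomputable def cinv (K : Type u) [CommRing K] [Algebra ℚ K] (n : ℕ) : K :=
  algebraMap ℚ K ((n + 1 : ℚ)⁻¹)

theorem cinv_mul (n : ℕ) : cinv K n * ((n : K) + 1) = 1 := by
  have h : (algebraMap ℚ K) ((n : ℚ) + 1) = (n : K) + 1 := by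
    rw [map_add, map_natCast, map_one]
  rw [cinv, ← h, ← map_mul, inv_mul_cancel₀ (by positivity), map_one]

/-- coefficients of the solution of `F' = F * L`, `F(0) = 1`. -/
noncomputable def sol (ℓ : ℕ → K) : ℕ → K
  | 0 => 1
  | n + 1 => cinv K n * ∑ i ∈ range (n + 1), sol ℓ (n - i) * ℓ i
termination_by n => n
decreasing_by omega

theorem sol_zero (ℓ : ℕ → K) : sol ℓ 0 = 1 := by rw [sol]

theorem sol_succ (ℓ : ℕ → K) (n : ℕ) :
    sol ℓ (n + 1) * ((n : K) + 1) = ∑ i ∈ range (n + 1), sol ℓ (n - i) * ℓ i := by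
  rw [sol]
  calc cinv K n * (∑ i ∈ range (n + 1), sol ℓ (n - i) * ℓ i) * ((n : K) + 1)
      = (cinv K n * ((n : K) + 1)) * ∑ i ∈ range (n + 1), sol ℓ (n - i) * ℓ i := by ring
    _ = _ := by rw [cinv_mul, one_mul]

theorem derivative_mk_sol (ℓ : ℕ → K) :
    derivative K (PowerSeries.mk (sol ℓ)) = PowerSeries.mk (sol ℓ) * PowerSeries.mk ℓ := by
  ext n
  rw [coeff_derivative, coeff_mk, sol_succ, coeff_mul,
    Finset.Nat.sum_antidiagonal_eq_sum_range_succ_mk, ← Finset.sum_flip]
  apply Finset.sum_congr rfl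
  intro i hi
  have hi' : i ≤ n := Nat.lt_succ_iff.mp (Finset.mem_range.mp hi)
  rw [coeff_mk, coeff_mk, Nat.sub_sub_self hi']

/-- uniqueness of solutions of `F' = F * L` with given constant coefficient -/
theorem ode_unique (L F G : PowerSeries K) (hF : derivative K F = F * L)
    (hG : derivative K G = G * L) (h0 : constantCoeff F = constantCoeff G) : F = G := by
  ext n
  induction n using Nat.strong_induction_on with
  | _ n ih =>
    rcases n with _ | m
    · rw [coeff_zero_eq_constantCoeff_apply, coeff_zero_eq_constantCoeff_apply, h0]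
    · have h1 := congrArg (coeff m) hF
      have h2 := congrArg (coeff m) hG
      rw [coeff_derivative, coeff_mul] at h1 h2
      have h3 : ∑ p ∈ antidiagonal m, coeff p.1 F * coeff p.2 L =
          ∑ p ∈ antidiagonal m, coeff p.1 G * coeff p.2 L := by
        apply Finset.sum_congr rfl
        intro p hp
        have : p.1 + p.2 = m := Finset.HasAntidiagonal.mem_antidiagonal.mp hp
        rw [ih p.1 (by omega)]
      rw [h3, ← h2] at h1
      exact (isUnit_natCast_succ K m).mul_right_cancel h1

end

theorem lambdaOps_ext {K : Type u} [CommRing K] (L L' : LambdaOps K)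
    (h : ∀ n x, L.lam n x = L'.lam n x) : L = L' := by
  obtain ⟨lam, h0, h1, h2⟩ := L
  obtain ⟨lam', h0', h1', h2'⟩ := L'
  have : lam = lam' := funext fun n => funext fun x => h n x
  subst this
  rfl

theorem result (K : Type u) [CommRing K] [Algebra ℚ K]
    (ψ : ℕ → K →+ K) (hψ : ψ 1 = AddMonoidHom.id K) :
    ∃! L : LambdaRing.LambdaOps K, ∀ k : ℕ, 1 ≤ k → ∀ x : K, @LambdaRing.adamsOp K _ L k x = ψ k x := by
  -- the logarithmic derivative series attached to ψ
  set ℓ : K → ℕ → K := fun x i => (-1) ^ i * ψ (i + 1) x with hℓ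
  have hℓadd : ∀ x y, PowerSeries.mk (ℓ (x + y)) = PowerSeries.mk (ℓ x) + PowerSeries.mk (ℓ y) := by
    intro x y
    ext n
    simp only [hℓ, coeff_mk, map_add, mul_add]
  have hconst : ∀ x, constantCoeff (PowerSeries.mk (sol (ℓ x))) = 1 := by
    intro x
    rw [← coeff_zero_eq_constantCoeff_apply, coeff_mk, sol_zero]
  have hmul : ∀ x y, PowerSeries.mk (sol (ℓ (x + y))) =
      PowerSeries.mk (sol (ℓ x)) * PowerSeries.mk (sol (ℓ y)) := by
    intro x y
    apply ode_unique (PowerSeries.mk (ℓ (x + y)))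
    · exact derivative_mk_sol _
    · rw [Derivation.leibniz, derivative_mk_sol, derivative_mk_sol, hℓadd]
      simp only [smul_eq_mul]
      ring
    · rw [map_mul, hconst, hconst, hconst, one_mul]
  let L₀ : LambdaOps K :=
    { lam := fun n x => sol (ℓ x) n
      lam_zero := fun x => sol_zero _
      lam_one := fun x => by
        have h := sol_succ (ℓ x) 0
        simp only [Nat.cast_zero, zero_add, mul_one, Finset.range_one, Finset.sum_singleton,
          Nat.sub_zero, sol_zero, one_mul] at h
        rw [h]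
        simp only [hℓ, pow_zero, one_mul, zero_add, hψ, AddMonoidHom.id_apply]
      lam_add := fun k x y => by
        have h := congrArg (coeff k) (hmul x y)
        rw [coeff_mk, coeff_mul, Finset.Nat.sum_antidiagonal_eq_sum_range_succ_mk] at h
        rw [h]
        apply Finset.sum_congr rfl
        intro i _
        rw [coeff_mk, coeff_mk] }
  have hL₀series : ∀ x, @lamSeries K _ L₀ x = PowerSeries.mk (sol (ℓ x)) := fun x => rfl
  refine ⟨L₀, ?_, ?_⟩
  · intro k hk x
    obtain ⟨m, rfl⟩ : ∃ j, k = j + 1 := ⟨k - 1, by omega⟩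
    have hlog : @logDerivSeries K _ L₀ x = PowerSeries.mk (ℓ x) := by
      have h1 := @derivative_lamSeries K _ L₀ x
      have h2 := @lamSeries_mul_inv K _ L₀ x
      rw [hL₀series, derivative_mk_sol] at h1
      rw [hL₀series] at h2
      calc @logDerivSeries K _ L₀ x
          = (PowerSeries.mk (sol (ℓ x)) * (PowerSeries.mk (sol (ℓ x))).invOfUnit 1) *
              @logDerivSeries K _ L₀ x := by rw [h2, one_mul]
        _ = (PowerSeries.mk (sol (ℓ x)) * @logDerivSeries K _ L₀ x) *
              (PowerSeries.mk (sol (ℓ x))).invOfUnit 1 := by ring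
        _ = (PowerSeries.mk (sol (ℓ x)) * PowerSeries.mk (ℓ x)) *
              (PowerSeries.mk (sol (ℓ x))).invOfUnit 1 := by rw [← h1]
        _ = (PowerSeries.mk (sol (ℓ x)) * (PowerSeries.mk (sol (ℓ x))).invOfUnit 1) *
              PowerSeries.mk (ℓ x) := by ring
        _ = _ := by rw [h2, one_mul]
    rw [@adamsOp_succ K _ L₀, hlog, coeff_mk]
    simp only [hℓ]
    rw [← mul_assoc, ← mul_pow]
    simp
  · intro L' hL'
    apply lambdaOps_ext
    intro n x
    have hlog : @logDerivSeries K _ L' x = PowerSeries.mk (ℓ x) := by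
      ext i
      rw [@coeff_logDerivSeries K _ L', hL' (i + 1) (by omega), coeff_mk]
    have h1 := @derivative_lamSeries K _ L' x
    rw [hlog] at h1
    have h2 := ode_unique (PowerSeries.mk (ℓ x)) (@lamSeries K _ L' x) (PowerSeries.mk (sol (ℓ x)))
      h1 (derivative_mk_sol _) (by rw [@constantCoeff_lamSeries K _ L', hconst])
    have h3 := congrArg (coeff n) h2
    rw [@coeff_lamSeries K _ L', coeff_mk] at h3
    exact h3

end Groth.Agent.S8702
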