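import Groth.Statements.S8703
import Groth.Agent.Lib.Helper20.LamBasic

set_option autoImplicit false
universe u v w
open LambdaRing Finset

namespace Groth.Agent.S8703

open Groth.Agent.Lib.Helper20.LamBasic

theorem result (K K' : Type u) [CommRing K] [CommRing K']
    [LambdaRing.LambdaOps K] [LambdaRing.LambdaOps K'] [Algebra ℚ K] [Algebra ℚ K'] (f : K →+* K') :
    LambdaRing.IsLambdaHom f ↔
      ∀ k : ℕ, 1 ≤ k → ∀ x : K, f (LambdaRing.adamsOp k x) = LambdaRing.adamsOp k (f x) := by
  constructor
  · intro hf
    have key : ∀ m : ℕ, ∀ x : K, f (adamsOp (m + 1) x) = adamsOp (m + 1) (f x) := by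
      intro m
      induction m using Nat.strong_induction_on with
      | _ m ih =>
        intro x
        have h1 := congrArg f (newton' m x)
        have h2 := newton' m (f x)
        rw [map_mul, map_add, map_natCast, map_one, hf, h2, map_add, map_sum, map_mul, map_pow,
          map_neg, map_one] at h1
        have h3 : ∑ i ∈ range m, f (LambdaOps.lam (m - i) x * ((-1) ^ i * adamsOp (i + 1) x)) =
            ∑ i ∈ range m, LambdaOps.lam (m - i) (f x) * ((-1) ^ i * adamsOp (i + 1) (f x)) := by
          apply Finset.sum_congr rfl
          intro i hi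
          rw [map_mul, map_mul, map_pow, map_neg, map_one, hf, ih i (Finset.mem_range.mp hi)]
        rw [h3] at h1
        have h4 := add_left_cancel h1
        have hu : IsUnit ((-1 : K') ^ m) := (isUnit_one.neg).pow m
        exact (hu.mul_left_cancel h4).symm
    intro k hk x
    obtain ⟨m, rfl⟩ : ∃ j, k = j + 1 := ⟨k - 1, by omega⟩
    exact key m x
  · intro hψ n
    induction n using Nat.strong_induction_on with
    | _ n ih =>
      intro x
      rcases n with _ | m
      · rw [LambdaOps.lam_zero, LambdaOps.lam_zero, map_one]
      · have h1 := congrArg f (newton m x)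
        have h2 := newton m (f x)
        rw [map_mul, map_add, map_natCast, map_one, map_sum] at h1
        have h3 : ∑ i ∈ range (m + 1), f (LambdaOps.lam (m - i) x * ((-1) ^ i * adamsOp (i + 1) x)) =
            ∑ i ∈ range (m + 1), LambdaOps.lam (m - i) (f x) * ((-1) ^ i * adamsOp (i + 1) (f x)) := by
          apply Finset.sum_congr rfl
          intro i hi
          rw [map_mul, map_mul, map_pow, map_neg, map_one, ih (m - i) (by omega),
            hψ (i + 1) (by omega)]
        rw [h3, ← h2] at h1
        exact (isUnit_natCast_succ K' m).mul_right_cancel h1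

end Groth.Agent.S8703
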