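import Groth.Statements.S8704
import Groth.Agent.Lib.Helper20.GammaBasic

set_option autoImplicit false
universe u v
open LambdaRing

namespace Groth.Agent.S8704

open Groth.Agent.Lib.Helper20.GammaBasic

section aux

variable {K : Type u} [CommRing K] [LambdaRing.LambdaOps K] {A : Type v} [CommRing A]
  [LambdaRing.LambdaOps A] [Algebra K A] (ε : A →ₐ[K] K) (S : Set A)

/-- the proposed generators in weight `≥ n` -/
def gens (n : ℕ) : Set A :=
  {y : A | ∃ l : List (ℕ × A), (∀ p ∈ l, p.2 ∈ S) ∧ n ≤ (l.map Prod.fst).sum ∧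
    y = (l.map fun p => LambdaRing.gamma p.1 (p.2 - algebraMap K A (ε p.2))).prod}

/-- their `K`-span -/
def M (n : ℕ) : Submodule K A := Submodule.span K (gens ε S n)

theorem M_anti {m n : ℕ} (h : m ≤ n) : M ε S n ≤ M ε S m := by
  apply Submodule.span_mono
  rintro y ⟨l, hl, hn, rfl⟩
  exact ⟨l, hl, h.trans hn, rfl⟩

theorem M_mul {m n : ℕ} {a b : A} (ha : a ∈ M ε S m) (hb : b ∈ M ε S n) :
    a * b ∈ M ε S (m + n) := by
  have h : M ε S m * M ε S n ≤ M ε S (m + n) := by
    rw [M, M, Submodule.span_mul_span]
    apply Submodule.span_mono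
    rintro _ ⟨y, ⟨l, hl, hm, rfl⟩, z, ⟨l', hl', hn, rfl⟩, rfl⟩
    refine ⟨l ++ l', ?_, ?_, ?_⟩
    · intro p hp
      rcases List.mem_append.mp hp with h | h
      · exact hl p h
      · exact hl' p h
    · rw [List.map_append, List.sum_append]
      omega
    · rw [List.map_append, List.prod_append]
  exact h (Submodule.mul_mem_mul ha hb)

theorem one_mem_M : (1 : A) ∈ M ε S 0 :=
  Submodule.subset_span ⟨[], by simp, by simp, by simp⟩

theorem gen_mem (i : ℕ) (s : A) (hs : s ∈ S) :
    LambdaRing.gamma i (s - algebraMap K A (ε s)) ∈ M ε S i :=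
  Submodule.subset_span ⟨[(i, s)], by simpa using hs, by simp, by simp⟩

theorem algebraMap_mem (c : K) : algebraMap K A c ∈ M ε S 0 := by
  rw [Algebra.algebraMap_eq_smul_one]
  exact Submodule.smul_mem _ c (one_mem_M ε S)

theorem mem_M_zero (hS : AddSubgroup.closure S = ⊤) (a : A) : a ∈ M ε S 0 := by
  have ha : a ∈ AddSubgroup.closure S := by rw [hS]; trivial
  induction ha using AddSubgroup.closure_induction with
  | mem s hs =>
    have h1 := M_anti ε S (Nat.zero_le 1) (gen_mem ε S 1 s hs)
    rw [gamma_one_apply] at h1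
    have h2 := Submodule.add_mem _ h1 (algebraMap_mem ε S (ε s))
    rwa [sub_add_cancel] at h2
  | zero => exact Submodule.zero_mem _
  | add x y _ _ hx hy => exact Submodule.add_mem _ hx hy
  | neg x _ hx => exact Submodule.neg_mem _ hx

theorem gamma_phi_mem (hS : AddSubgroup.closure S = ⊤) (a : A) :
    ∀ i, LambdaRing.gamma i (a - algebraMap K A (ε a)) ∈ M ε S i := by
  have ha : a ∈ AddSubgroup.closure S := by rw [hS]; trivial
  induction ha using AddSubgroup.closure_induction with
  | mem s hs => intro i; exact gen_mem ε S i s hs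
  | zero =>
    intro i
    simp only [map_zero, sub_zero]
    rcases i with _ | i
    · rw [gamma_zero_apply]; exact one_mem_M ε S
    · rw [gamma_apply_zero _ (by omega)]; exact Submodule.zero_mem _
  | add x y _ _ hx hy =>
    intro i
    have e : x + y - algebraMap K A (ε (x + y)) =
        (x - algebraMap K A (ε x)) + (y - algebraMap K A (ε y)) := by
      rw [map_add, map_add]; ring
    rw [e, gamma_add]
    apply Submodule.sum_mem
    intro j hj
    rw [Finset.mem_range] at hj
    have h := M_mul ε S (hx j) (hy (i - j))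
    rwa [Nat.add_sub_cancel' (by omega)] at h
  | neg x _ hx =>
    intro i
    have e : -x - algebraMap K A (ε (-x)) = -(x - algebraMap K A (ε x)) := by
      rw [map_neg, map_neg]; ring
    rw [e]
    induction i using Nat.strong_induction_on with
    | _ i ih =>
      rcases i with _ | n
      · rw [gamma_zero_apply]; exact one_mem_M ε S
      · rw [gamma_neg_rec]
        apply Submodule.neg_mem
        apply Submodule.sum_mem
        intro j hj
        rw [Finset.mem_range] at hj
        have h := M_mul ε S (hx (j + 1)) (ih (n - j) (by omega))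
        have e2 : j + 1 + (n - j) = n + 1 := by omega
        rwa [e2] at h

theorem list_prod_mem (hS : AddSubgroup.closure S = ⊤) (l : List (ℕ × A))
    (hl : ∀ p ∈ l, ε p.2 = 0) :
    (l.map fun p => LambdaRing.gamma p.1 p.2).prod ∈ M ε S (l.map Prod.fst).sum := by
  induction l with
  | nil => simpa using one_mem_M ε S
  | cons p l ih =>
    simp only [List.map_cons, List.prod_cons, List.sum_cons]
    apply M_mul
    · have h0 := hl p List.mem_cons_self
      have h := gamma_phi_mem ε S hS p.2 p.1
      rwa [h0, map_zero, sub_zero] at h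
    · exact ih (fun q hq => hl q (List.mem_cons_of_mem _ hq))

end aux


/-- Let K and A be λ-rings in the strict sense, A an augmented K-λ-algebra with augmentation ε : A → K,
and Fil^n A its γ-filtration, the ideal generated by the products γ^{i_1}(x_1) ⋯ γ^{i_k}(x_k) with
i_1 + ⋯ + i_k ≥ n and all ε(x_r) = 0. If a subset S generates A as an abelian group, then Fil^n A,
as a K-submodule of A, is generated over K by the products γ^{i_1}(s_1 − ε(s_1)) ⋯ γ^{i_k}(s_k −
ε(s_k)) with s_r ∈ S and i_1 + ⋯ + i_k ≥ n. -/
theorem result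
    (K : Type u) [CommRing K] [LambdaRing.LambdaOps K] (hK : LambdaRing.IsSpecial K)
    (A : Type v) [CommRing A] [LambdaRing.LambdaOps A] [Algebra K A] (hA : LambdaRing.IsSpecial A)
    (ε : A →ₐ[K] K) (hε : LambdaRing.IsAugLambdaAlg K A ε)
    (S : Set A) (hS : AddSubgroup.closure S = ⊤) (n : ℕ) :
    (LambdaRing.gammaFil (ε : A →+* K) n).restrictScalars K =
      Submodule.span K {y : A | ∃ l : List (ℕ × A), (∀ p ∈ l, p.2 ∈ S) ∧ n ≤ (l.map Prod.fst).sum ∧
        y = (l.map fun p => LambdaRing.gamma p.1 (p.2 - algebraMap K A (ε p.2))).prod} := by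
  apply le_antisymm
  · intro z hz
    rw [Submodule.restrictScalars_mem] at hz
    show z ∈ M ε S n
    unfold LambdaRing.gammaFil at hz
    refine Submodule.span_induction (p := fun z _ => z ∈ M ε S n) ?_ ?_ ?_ ?_ hz
    · rintro y ⟨l, hl, hn, rfl⟩
      exact M_anti ε S hn (list_prod_mem ε S hS l hl)
    · exact Submodule.zero_mem _
    · intro x y _ _ hx hy
      exact Submodule.add_mem _ hx hy
    · intro a x _ hx
      have h := M_mul ε S (mem_M_zero ε S hS a) hx
      rwa [zero_add] at h
  · apply Submodule.span_le.mpr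
    rintro y ⟨l, hl, hn, rfl⟩
    rw [SetLike.mem_coe, Submodule.restrictScalars_mem]
    apply Ideal.subset_span
    refine ⟨l.map (fun p => (p.1, p.2 - algebraMap K A (ε p.2))), ?_, ?_, ?_⟩
    · intro p hp
      obtain ⟨q, _, rfl⟩ := List.mem_map.mp hp
      show ε (q.2 - algebraMap K A (ε q.2)) = 0
      rw [map_sub, AlgHom.commutes]
      simp
    · rw [List.map_map]
      exact hn
    · rw [List.map_map]
      rfl

end Groth.Agent.S8704
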