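import Groth.Statements.S8705
import Mathlib

set_option autoImplicit false
universe u
open SGA7

namespace Groth.Agent.S8705

/-- a symmetric 2-cocycle on `P` with values in `M` -/
structure Cocyc (P M : Type u) [AddCommGroup P] [AddCommGroup M] where
  c : P → P → M
  hc : ∀ p q r, c (p + q) r - c p (q + r) + c p q - c q r = 0
  hs : ∀ p q, c p q = c q p

/-- the extension of `P` by `M` defined by a symmetric cocycle -/
@[ext] structure Ext {P M : Type u} [AddCommGroup P] [AddCommGroup M] (C : Cocyc P M) where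
  m : M
  p : P

namespace Ext

variable {P M : Type u} [AddCommGroup P] [AddCommGroup M] (C : Cocyc P M)

theorem c_right_zero (p : P) : C.c p 0 = C.c 0 0 := by
  have h := C.hc p 0 0
  simp only [add_zero] at h
  have h2 : C.c p 0 - C.c 0 0 = 0 := by rw [← h]; abel
  exact sub_eq_zero.mp h2

theorem c_left_zero (p : P) : C.c 0 p = C.c 0 0 := by rw [C.hs, c_right_zero]

instance : Add (Ext C) := ⟨fun a b => ⟨a.m + b.m + C.c a.p b.p, a.p + b.p⟩⟩
instance : Zero (Ext C) := ⟨⟨- C.c 0 0, 0⟩⟩
instance : Neg (Ext C) := ⟨fun a => ⟨- a.m - C.c (-a.p) a.p - C.c 0 0, - a.p⟩⟩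

theorem add_m (a b : Ext C) : (a + b).m = a.m + b.m + C.c a.p b.p := rfl
theorem add_p (a b : Ext C) : (a + b).p = a.p + b.p := rfl
theorem zero_m : (0 : Ext C).m = - C.c 0 0 := rfl
theorem zero_p : (0 : Ext C).p = 0 := rfl
theorem neg_m (a : Ext C) : (-a).m = - a.m - C.c (-a.p) a.p - C.c 0 0 := rfl
theorem neg_p (a : Ext C) : (-a).p = - a.p := rfl

instance : AddCommGroup (Ext C) :=
  { AddGroup.ofLeftAxioms (G := Ext C)
      (by
        intro a b d
        apply Ext.ext
        · simp only [add_m, add_p]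
          have h := C.hc a.p b.p d.p
          rw [← sub_eq_zero, ← h]; abel
        · simp only [add_p, add_assoc])
      (by
        intro a
        apply Ext.ext
        · simp only [add_m, zero_m, zero_p, c_left_zero]; abel
        · simp only [add_p, zero_p, zero_add])
      (by
        intro a
        apply Ext.ext
        · simp only [add_m, neg_m, neg_p, zero_m]; abel
        · simp only [add_p, neg_p, zero_p, neg_add_cancel]) with
    add_comm := by
      intro a b
      apply Ext.ext
      · simp only [add_m, C.hs a.p b.p]; abel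
      · simp only [add_p, add_comm] }

/-- the inclusion of `M` -/
def incl : M →+ Ext C where
  toFun m := ⟨m - C.c 0 0, 0⟩
  map_zero' := by
    apply Ext.ext
    · simp only [zero_m, zero_sub]
    · simp only [zero_p]
  map_add' m m' := by
    apply Ext.ext
    · simp only [add_m]; abel
    · simp only [add_p, add_zero]

theorem incl_eq_zero (m : M) (h : incl C m = 0) : m = 0 := by
  have h1 := congrArg Ext.m h
  simp only [incl, AddMonoidHom.coe_mk, ZeroHom.coe_mk, zero_m] at h1
  have : m - C.c 0 0 + C.c 0 0 = - C.c 0 0 + C.c 0 0 := by rw [h1]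
  simpa using this

theorem key (p q : P) : (⟨0, p⟩ : Ext C) + ⟨0, q⟩ = ⟨0, p + q⟩ + incl C (C.c p q) := by
  apply Ext.ext
  · simp only [add_m, incl, AddMonoidHom.coe_mk, ZeroHom.coe_mk, c_right_zero]; abel
  · simp only [add_p, incl, AddMonoidHom.coe_mk, ZeroHom.coe_mk, add_zero]

end Ext

theorem main (P : Type u) [AddCommGroup P]
    (ε : (P →₀ ℤ) →ₗ[ℤ] P) (hε : ε = Finsupp.linearCombination ℤ (fun p : P => p))
    (d₀ : (P × P →₀ ℤ) →ₗ[ℤ] (P →₀ ℤ)) (hd₀ : d₀ = Finsupp.linearCombination ℤ
      (fun pq : P × P => Finsupp.single (pq.1 + pq.2) 1 - Finsupp.single pq.1 1 - Finsupp.single pq.2 1))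
    (d₁ : (P × P × P →₀ ℤ) →ₗ[ℤ] (P × P →₀ ℤ)) (hd₁ : d₁ = Finsupp.linearCombination ℤ
      (fun t : P × P × P => Finsupp.single (t.1 + t.2.1, t.2.2) 1 - Finsupp.single (t.1, t.2.1 + t.2.2) 1
        + Finsupp.single (t.1, t.2.1) 1 - Finsupp.single (t.2.1, t.2.2) 1))
    (d₁' : (P × P →₀ ℤ) →ₗ[ℤ] (P × P →₀ ℤ)) (hd₁' : d₁' = Finsupp.linearCombination ℤ
      (fun pq : P × P => Finsupp.single pq 1 - Finsupp.single (pq.2, pq.1) 1)) :
    Function.Surjective ε ∧ LinearMap.ker ε = LinearMap.range d₀ ∧
      LinearMap.ker d₀ = LinearMap.range d₁ ⊔ LinearMap.range d₁' := by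
  have eε : ∀ p : P, ε (Finsupp.single p 1) = p := by
    intro p; rw [hε, Finsupp.linearCombination_single, one_smul]
  have ed₀ : ∀ p q : P, d₀ (Finsupp.single (p, q) 1) =
      Finsupp.single (p + q) 1 - Finsupp.single p 1 - Finsupp.single q 1 := by
    intro p q; rw [hd₀, Finsupp.linearCombination_single, one_smul]
  have ed₁ : ∀ p q r : P, d₁ (Finsupp.single (p, q, r) 1) =
      Finsupp.single (p + q, r) 1 - Finsupp.single (p, q + r) 1
        + Finsupp.single (p, q) 1 - Finsupp.single (q, r) 1 := by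
    intro p q r; rw [hd₁, Finsupp.linearCombination_single, one_smul]
  have ed₁' : ∀ p q : P, d₁' (Finsupp.single (p, q) 1) =
      Finsupp.single (p, q) 1 - Finsupp.single (q, p) 1 := by
    intro p q; rw [hd₁', Finsupp.linearCombination_single, one_smul]
  refine ⟨?_, ?_, ?_⟩
  · intro p; exact ⟨Finsupp.single p 1, eε p⟩
  · apply le_antisymm
    · -- ker ε ≤ range d₀
      intro x hx
      set R := LinearMap.range d₀ with hR
      have hadd : ∀ p q : P, R.mkQ (Finsupp.single (p + q) 1) =
          R.mkQ (Finsupp.single p 1) + R.mkQ (Finsupp.single q 1) := by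
        intro p q
        rw [← map_add, Submodule.mkQ_apply, Submodule.mkQ_apply, Submodule.Quotient.eq]
        refine ⟨Finsupp.single (p, q) 1, ?_⟩
        rw [ed₀]; abel
      let s : P →+ (P →₀ ℤ) ⧸ R := AddMonoidHom.mk' (fun p => R.mkQ (Finsupp.single p 1)) hadd
      have hT : s.toIntLinearMap ∘ₗ ε = R.mkQ := by
        apply Finsupp.lhom_ext'
        intro p
        apply LinearMap.ext_ring
        simp only [LinearMap.comp_apply, Finsupp.lsingle_apply, eε]
        rfl
      have h1 : R.mkQ x = s (ε x) := by rw [← hT]; rfl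
      rw [LinearMap.mem_ker.mp hx, map_zero] at h1
      exact (Submodule.Quotient.mk_eq_zero R).mp h1
    · -- range d₀ ≤ ker ε
      rw [LinearMap.range_le_ker_iff]
      apply Finsupp.lhom_ext'
      intro pq
      apply LinearMap.ext_ring
      obtain ⟨p, q⟩ := pq
      simp only [LinearMap.comp_apply, Finsupp.lsingle_apply, ed₀, map_sub, eε, LinearMap.zero_apply]
      abel
  · apply le_antisymm
    · -- ker d₀ ≤ range d₁ ⊔ range d₁'
      intro x hx
      set Rr := LinearMap.range d₁ ⊔ LinearMap.range d₁' with hRr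
      let C : Cocyc P ((P × P →₀ ℤ) ⧸ Rr) :=
        { c := fun p q => Rr.mkQ (Finsupp.single (p, q) 1)
          hc := by
            intro p q r
            rw [← map_sub, ← map_add, ← map_sub, ← ed₁, Submodule.mkQ_apply,
              Submodule.Quotient.mk_eq_zero]
            exact le_sup_left (a := LinearMap.range d₁) ⟨_, rfl⟩
          hs := by
            intro p q
            rw [← sub_eq_zero, ← map_sub, ← ed₁', Submodule.mkQ_apply,
              Submodule.Quotient.mk_eq_zero]
            exact le_sup_right (b := LinearMap.range d₁') ⟨_, rfl⟩ }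
      let φ : (P →₀ ℤ) →ₗ[ℤ] Ext C := Finsupp.linearCombination ℤ (fun p => (⟨0, p⟩ : Ext C))
      have eφ : ∀ p : P, φ (Finsupp.single p 1) = ⟨0, p⟩ := by
        intro p
        show Finsupp.linearCombination ℤ (fun p => (⟨0, p⟩ : Ext C)) (Finsupp.single p 1) = _
        rw [Finsupp.linearCombination_single, one_smul]
      have hcomp : φ ∘ₗ d₀ = - ((Ext.incl C).toIntLinearMap ∘ₗ Rr.mkQ) := by
        apply Finsupp.lhom_ext'
        intro pq
        apply LinearMap.ext_ring
        obtain ⟨p, q⟩ := pq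
        simp only [LinearMap.comp_apply, Finsupp.lsingle_apply, ed₀, map_sub, eφ,
          LinearMap.neg_apply, AddMonoidHom.coe_toIntLinearMap]
        have hk := Ext.key C p q
        have hc : C.c p q = Rr.mkQ (Finsupp.single (p, q) 1) := rfl
        rw [← hc, sub_sub, hk]
        abel
      have h1 : φ (d₀ x) = - (Ext.incl C (Rr.mkQ x)) := by
        have := LinearMap.congr_fun hcomp x
        simpa using this
      rw [LinearMap.mem_ker.mp hx, map_zero] at h1
      have h2 : Ext.incl C (Rr.mkQ x) = 0 := by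
        have := congrArg Neg.neg h1
        simpa using this.symm
      have h3 := Ext.incl_eq_zero C _ h2
      exact (Submodule.Quotient.mk_eq_zero Rr).mp h3
    · -- range d₁ ⊔ range d₁' ≤ ker d₀
      apply sup_le
      · rw [LinearMap.range_le_ker_iff]
        apply Finsupp.lhom_ext'
        intro t
        apply LinearMap.ext_ring
        obtain ⟨p, q, r⟩ := t
        simp only [LinearMap.comp_apply, Finsupp.lsingle_apply, ed₁, map_sub, map_add, ed₀,
          LinearMap.zero_apply, add_assoc]
        abel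
      · rw [LinearMap.range_le_ker_iff]
        apply Finsupp.lhom_ext'
        intro pq
        apply LinearMap.ext_ring
        obtain ⟨p, q⟩ := pq
        simp only [LinearMap.comp_apply, Finsupp.lsingle_apply, ed₁', map_sub, ed₀,
          LinearMap.zero_apply, add_comm q p]
        abel

theorem result (P : Type u) [AddCommGroup P] :
    letI ε : (P →₀ ℤ) →ₗ[ℤ] P := Finsupp.linearCombination ℤ (fun p : P => p)
    letI d₀ : (P × P →₀ ℤ) →ₗ[ℤ] (P →₀ ℤ) := Finsupp.linearCombination ℤ
      (fun pq : P × P => Finsupp.single (pq.1 + pq.2) 1 - Finsupp.single pq.1 1 - Finsupp.single pq.2 1)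
    letI d₁ : (P × P × P →₀ ℤ) →ₗ[ℤ] (P × P →₀ ℤ) := Finsupp.linearCombination ℤ
      (fun t : P × P × P => Finsupp.single (t.1 + t.2.1, t.2.2) 1 - Finsupp.single (t.1, t.2.1 + t.2.2) 1
        + Finsupp.single (t.1, t.2.1) 1 - Finsupp.single (t.2.1, t.2.2) 1)
    letI d₁' : (P × P →₀ ℤ) →ₗ[ℤ] (P × P →₀ ℤ) := Finsupp.linearCombination ℤ
      (fun pq : P × P => Finsupp.single pq 1 - Finsupp.single (pq.2, pq.1) 1)
    Function.Surjective ε ∧ LinearMap.ker ε = LinearMap.range d₀ ∧
      LinearMap.ker d₀ = LinearMap.range d₁ ⊔ LinearMap.range d₁' :=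
  main P _ rfl _ rfl _ rfl _ rfl

end Groth.Agent.S8705
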