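import Groth.Statements.S8719
import Groth.Agent.Lib.Helper14.FormalMorse

set_option autoImplicit false
universe u
open VanCyc

namespace Groth.Agent.S8719

/-- The formal computation carried out in its proof: let k be a field and f a power series in k[[x_0,
..., x_n]] with vanishing constant and linear terms whose degree-two part is a non-degenerate
quadratic form (the Gram determinant of its polar bilinear form is a unit). Then the partial
derivatives of f generate the maximal ideal of k[[x_0, ..., x_n]] (so f together with its partial
derivatives cut out the origin with multiplicity one). -/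
theorem result (k : Type u) [Field k] (n : ℕ)
    (f : MvPowerSeries (Fin (n + 1)) k) (hf : VanCyc.NondegQuadSeries f) :
    Ideal.span (Set.range fun i : Fin (n + 1) => MvPowerSeries.pderiv k i f) =
      IsLocalRing.maximalIdeal (MvPowerSeries (Fin (n + 1)) k) := by
  classical
  obtain ⟨⟨h0, h1⟩, hnd⟩ := hf
  have hmat : VanCyc.polarMatrix (VanCyc.quadPart f) =
      Groth.Agent.Lib.Helper14.FormalMorse.quadTable f +
        (Groth.Agent.Lib.Helper14.FormalMorse.quadTable f).transpose := by
    ext i j
    simp only [VanCyc.polarMatrix, Matrix.add_apply, Matrix.transpose_apply]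
    by_cases hij : i = j
    · subst hij
      rw [if_pos rfl, two_mul]
      rfl
    · rw [if_neg hij]
      rcases lt_or_gt_of_ne hij with h | h
      · rw [if_pos h]
        have : Groth.Agent.Lib.Helper14.FormalMorse.quadTable f j i = 0 := by
          rw [Groth.Agent.Lib.Helper14.FormalMorse.quadTable, if_neg (Ne.symm hij),
            if_neg (not_lt.mpr h.le)]
        rw [this, add_zero]
        rfl
      · rw [if_neg (not_lt.mpr h.le)]
        have : Groth.Agent.Lib.Helper14.FormalMorse.quadTable f i j = 0 := by
          rw [Groth.Agent.Lib.Helper14.FormalMorse.quadTable, if_neg hij, if_neg (not_lt.mpr h.le)]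
        rw [this, zero_add]
        rfl
  have hdet : IsUnit (Groth.Agent.Lib.Helper14.FormalMorse.quadTable f +
      (Groth.Agent.Lib.Helper14.FormalMorse.quadTable f).transpose).det := by
    rw [← hmat]; exact hnd
  rw [Groth.Agent.Lib.Helper14.FormalMorse.span_pderiv_eq_span_X f h1 hdet]
  ext g
  rw [Groth.Agent.Lib.Helper14.FormalIFT.mem_span_X_iff, IsLocalRing.mem_maximalIdeal,
    mem_nonunits_iff, MvPowerSeries.isUnit_iff_constantCoeff, isUnit_iff_ne_zero, not_not]


end Groth.Agent.S8719
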