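import Groth.Statements.S8720
import Mathlib
import Groth.Agent.Lib.Helper14.FormalIFT

set_option autoImplicit false
universe u
open VanCyc

namespace Groth.Agent.S8720


namespace H8720

open MvPowerSeries Groth.Agent.Lib.Helper14.FormalIFT

section Gen

variable {σ : Type*} {k : Type*} [Field k]

theorem mem_max_of_cc {φ : MvPowerSeries σ k} (h : constantCoeff φ = 0) :
    φ ∈ IsLocalRing.maximalIdeal (MvPowerSeries σ k) := by
  rw [IsLocalRing.mem_maximalIdeal, mem_nonunits_iff, MvPowerSeries.isUnit_iff_constantCoeff, h]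
  exact not_isUnit_zero

theorem two_eq_zero' (k : Type*) [Field k] [CharP k 2] : (2 : MvPowerSeries σ k) = 0 := by
  have h : (2 : k) = 0 := CharTwo.two_eq_zero
  rw [← map_ofNat (C (σ := σ) (R := k)) 2, h, map_zero]

end Gen

variable (k : Type*) [Field k] (m : ℕ)

/-- the quadratic form -/
noncomputable def q : MvPowerSeries (Option (Fin m ⊕ Fin m)) k :=
  MvPowerSeries.X none ^ 2 +
    ∑ i : Fin m, MvPowerSeries.X (some (Sum.inl i)) * MvPowerSeries.X (some (Sum.inr i))

/-- the target ideal -/
noncomputable def T : Ideal (MvPowerSeries (Option (Fin m ⊕ Fin m)) k) :=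
  Ideal.span ({MvPowerSeries.X none ^ 2} ∪
    Set.range fun j : Fin m ⊕ Fin m =>
      (MvPowerSeries.X (some j) : MvPowerSeries (Option (Fin m ⊕ Fin m)) k))

theorem X_some_mem_T (j : Fin m ⊕ Fin m) :
    (X (some j) : MvPowerSeries (Option (Fin m ⊕ Fin m)) k) ∈ T k m :=
  Ideal.subset_span (Set.mem_union_right _ ⟨j, rfl⟩)

theorem X_none_sq_mem_T :
    (X none : MvPowerSeries (Option (Fin m ⊕ Fin m)) k) ^ 2 ∈ T k m :=
  Ideal.subset_span (Set.mem_union_left _ (Set.mem_singleton _))

theorem T_fg : (T k m).FG := by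
  unfold T
  exact Submodule.fg_span ((Set.finite_singleton _).union (Set.finite_range _))

variable {m} in
/-- monomials in `X none` only -/
def pureP (d : Option (Fin m ⊕ Fin m) →₀ ℕ) : Prop := ∀ j : Fin m ⊕ Fin m, d (some j) = 0

instance : DecidablePred (pureP (m := m)) := fun d => by unfold pureP; infer_instance

variable {m} in
theorem pure_eq {d : Option (Fin m ⊕ Fin m) →₀ ℕ} (h : pureP d) :
    d = Finsupp.single none (d none) := by
  ext o
  cases o with
  | none => simp
  | some j => simp [h j]

theorem decomp (K : ℕ) (h : MvPowerSeries (Option (Fin m ⊕ Fin m)) k) (hh : Fil (K + 1) h) :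
    ∃ g : Option (Fin m ⊕ Fin m) → MvPowerSeries (Option (Fin m ⊕ Fin m)) k,
      (∀ i, Fil K (g i)) ∧
      h = ∑ i ∈ (Finset.univ.erase (none : Option (Fin m ⊕ Fin m))), X i * g i +
        filt (pureP (m := m)) h := by
  classical
  have hsplit : h = filt (fun d => ¬ pureP (m := m) d) h + filt (pureP (m := m)) h := by
    ext d
    rw [map_add, coeff_filt, coeff_filt]
    by_cases hd : pureP d
    · rw [if_neg (not_not.mpr hd), if_pos hd, zero_add]
    · rw [if_pos hd, if_neg hd, add_zero]
  obtain ⟨g, hg, hsum⟩ := exists_decomp (Finset.univ.erase (none : Option (Fin m ⊕ Fin m))) K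
    (filt (fun d => ¬ pureP (m := m) d) h) (fil_filt _ hh) (by
      intro d hd
      rw [coeff_filt, if_neg]
      rw [not_not]
      intro j
      exact hd (some j) (Finset.mem_erase.mpr ⟨by simp, Finset.mem_univ _⟩))
  refine ⟨g, hg, ?_⟩
  rw [← hsum]
  exact hsplit

theorem mem_T_of_coeff (h : MvPowerSeries (Option (Fin m ⊕ Fin m)) k)
    (h0 : coeff 0 h = 0) (h1 : coeff (Finsupp.single none 1) h = 0) : h ∈ T k m := by
  classical
  have hfil : Fil (0 + 1) h := by
    intro d hd
    have hd0 : Finsupp.degree d = 0 := by omega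
    rw [(Finsupp.degree_eq_zero_iff d).mp hd0]
    exact h0
  obtain ⟨g, -, hsum⟩ := decomp k m 0 h hfil
  rw [hsum]
  refine Ideal.add_mem _ (Ideal.sum_mem _ ?_) ?_
  · intro i hi
    have hi' : i ≠ none := (Finset.mem_erase.mp hi).1
    cases i with
    | none => exact absurd rfl hi'
    | some j => exact Ideal.mul_mem_right _ _ (X_some_mem_T k m j)
  · have hdvd : (X none : MvPowerSeries (Option (Fin m ⊕ Fin m)) k) ^ 2 ∣
        filt (pureP (m := m)) h := by
      rw [X_pow_dvd_iff]
      intro d hd
      rw [coeff_filt]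
      by_cases hp : pureP d
      · rw [if_pos hp]
        obtain ⟨a, ha, hda⟩ : ∃ a, a < 2 ∧ d = Finsupp.single none a := ⟨d none, hd, pure_eq hp⟩
        rw [hda]
        have ha' : a = 0 ∨ a = 1 := by omega
        rcases ha' with e | e
        · rw [e, Finsupp.single_zero]; exact h0
        · rw [e]; exact h1
      · rw [if_neg hp]
    obtain ⟨r, hr⟩ := hdvd
    rw [hr]
    exact Ideal.mul_mem_right _ _ (X_none_sq_mem_T k m)

theorem coeff_eq_zero_of_mem_T (h : MvPowerSeries (Option (Fin m ⊕ Fin m)) k) (hT : h ∈ T k m)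
    (d : Option (Fin m ⊕ Fin m) →₀ ℕ) (hd1 : d none < 2) (hd2 : ∀ j, d (some j) = 0) :
    coeff d h = 0 := by
  unfold T at hT
  rw [Ideal.span_union] at hT
  obtain ⟨a', ha', b', hb', rfl⟩ := Submodule.mem_sup.mp hT
  obtain ⟨a, rfl⟩ := Ideal.mem_span_singleton'.mp ha'
  obtain ⟨c, rfl⟩ := (Ideal.mem_span_range_iff_exists_fun).mp hb'
  rw [map_add, map_sum]
  have h1 : coeff d (a * (X none : MvPowerSeries (Option (Fin m ⊕ Fin m)) k) ^ 2) = 0 :=
    (X_pow_dvd_iff.mp (Dvd.intro_left a rfl)) d hd1
  rw [h1, zero_add]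
  apply Finset.sum_eq_zero
  intro j _
  exact (X_dvd_iff.mp (Dvd.intro_left (c j) rfl)) d (hd2 j)

theorem sub_mem_mul_of_fil_two (h : MvPowerSeries (Option (Fin m ⊕ Fin m)) k) (hh : Fil 2 h) :
    h - C (coeff (Finsupp.single none 2) h) * X none ^ 2 ∈
      IsLocalRing.maximalIdeal (MvPowerSeries (Option (Fin m ⊕ Fin m)) k) * T k m := by
  classical
  obtain ⟨g, hg, hsum⟩ := decomp k m 1 h hh
  obtain ⟨c, hc⟩ : ∃ c, c = coeff (Finsupp.single none 2) h := ⟨_, rfl⟩
  rw [← hc]
  have hdvd : (X none : MvPowerSeries (Option (Fin m ⊕ Fin m)) k) ^ 3 ∣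
      filt (pureP (m := m)) h - C c * X none ^ 2 := by
    rw [X_pow_dvd_iff]
    intro d hd
    rw [map_sub, coeff_filt, coeff_C_mul, coeff_X_pow]
    by_cases hp : pureP d
    · rw [if_pos hp]
      obtain ⟨a, ha, hda⟩ : ∃ a, a < 3 ∧ d = Finsupp.single none a := ⟨d none, hd, pure_eq hp⟩
      rw [hda]
      by_cases ha2 : a = 2
      · rw [ha2, if_pos rfl, mul_one, hc, sub_self]
      · have hne : ¬ (Finsupp.single (none : Option (Fin m ⊕ Fin m)) a = Finsupp.single none 2) := by
          intro he
          apply ha2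
          have h3 := DFunLike.congr_fun he none
          simpa using h3
        rw [if_neg hne, mul_zero, sub_zero]
        apply hh
        rw [Finsupp.degree_single]
        omega
    · rw [if_neg hp]
      have hne : ¬ (d = Finsupp.single none 2) := by
        intro he
        apply hp
        intro j
        rw [he]
        simp
      rw [if_neg hne, mul_zero, sub_zero]
  obtain ⟨r, hr⟩ := hdvd
  have hrew : h - C c * X none ^ 2 =
      ∑ i ∈ Finset.univ.erase (none : Option (Fin m ⊕ Fin m)), X i * g i +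
        X none * (X none ^ 2 * r) := by
    linear_combination hsum + hr
  rw [hrew]
  refine Ideal.add_mem _ (Ideal.sum_mem _ ?_) ?_
  · intro i hi
    have hi' : i ≠ none := (Finset.mem_erase.mp hi).1
    cases i with
    | none => exact absurd rfl hi'
    | some j =>
      rw [mul_comm (X (some j)) (g (some j))]
      refine Ideal.mul_mem_mul (mem_max_of_cc ?_) (X_some_mem_T k m j)
      rw [← coeff_zero_eq_constantCoeff_apply]
      exact hg _ 0 (by simp)
  · exact Ideal.mul_mem_mul (mem_max_of_cc (constantCoeff_X none))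
      (Ideal.mul_mem_right _ _ (X_none_sq_mem_T k m))

theorem fil_two_q : Fil 2 (q k m) := by
  unfold q
  exact Fil.add (fil_X_pow none 2) (Fil.sum _ _ (fun i _ => (fil_X _).mul (fil_X _)))

theorem pderiv_q_none [CharP k 2] : pderiv k none (q k m) = 0 := by
  classical
  unfold q
  rw [map_add, map_sum]
  have h1 : pderiv k none
      ((X none : MvPowerSeries (Option (Fin m ⊕ Fin m)) k) ^ 2) = 0 := by
    rw [pow_two, Derivation.leibniz, pderiv_X_self, smul_eq_mul, mul_one, ← two_mul,
      two_eq_zero' k, zero_mul]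
  have h3 : ∀ i : Fin m, pderiv k none
      (X (some (Sum.inl i)) * X (some (Sum.inr i)) :
        MvPowerSeries (Option (Fin m ⊕ Fin m)) k) = 0 := by
    intro i
    simp [Derivation.leibniz]
  rw [h1, zero_add]
  exact Finset.sum_eq_zero (fun i _ => h3 i)

theorem pderiv_q_inr (i₀ : Fin m) :
    pderiv k (some (Sum.inr i₀)) (q k m) = X (some (Sum.inl i₀)) := by
  classical
  unfold q
  rw [map_add, map_sum]
  have h1 : pderiv k (some (Sum.inr i₀))
      ((X none : MvPowerSeries (Option (Fin m ⊕ Fin m)) k) ^ 2) = 0 := by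
    simp [pow_two, Derivation.leibniz]
  rw [h1, zero_add, Finset.sum_eq_single i₀]
  · simp [Derivation.leibniz]
  · intro i _ hi
    simp [Derivation.leibniz, hi]
  · intro h
    exact absurd (Finset.mem_univ _) h

theorem pderiv_q_inl (i₀ : Fin m) :
    pderiv k (some (Sum.inl i₀)) (q k m) = X (some (Sum.inr i₀)) := by
  classical
  unfold q
  rw [map_add, map_sum]
  have h1 : pderiv k (some (Sum.inl i₀))
      ((X none : MvPowerSeries (Option (Fin m ⊕ Fin m)) k) ^ 2) = 0 := by
    simp [pow_two, Derivation.leibniz]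
  rw [h1, zero_add, Finset.sum_eq_single i₀]
  · simp [Derivation.leibniz]
  · intro i _ hi
    simp [Derivation.leibniz, hi]
  · intro h
    exact absurd (Finset.mem_univ _) h

/-- the linear map `h ↦ (h₀, h_{X none})` -/
noncomputable def phi : MvPowerSeries (Option (Fin m ⊕ Fin m)) k →ₗ[k] k × k :=
  LinearMap.prod (coeff (0 : Option (Fin m ⊕ Fin m) →₀ ℕ)) (coeff (Finsupp.single none 1))

theorem phi_apply (h : MvPowerSeries (Option (Fin m ⊕ Fin m)) k) :
    phi k m h = (coeff 0 h, coeff (Finsupp.single none 1) h) := rfl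

theorem finrank_quot :
    Module.finrank k (MvPowerSeries (Option (Fin m ⊕ Fin m)) k ⧸ T k m) = 2 := by
  classical
  have hsurj : Function.Surjective (phi k m) := by
    rintro ⟨a, b⟩
    refine ⟨C a + C b * X none, ?_⟩
    rw [phi_apply]
    refine Prod.ext ?_ ?_
    · show coeff 0 (C a + C b * X none) = a
      rw [map_add, coeff_zero_C, coeff_C_mul, coeff_zero_X, mul_zero, add_zero]
    · show coeff (Finsupp.single none 1) (C a + C b * X none) = b
      rw [map_add, coeff_C, if_neg, coeff_C_mul, coeff_index_single_self_X, mul_one, zero_add]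
      intro h0
      have h3 := DFunLike.congr_fun h0 none
      simp at h3
  have hker : LinearMap.ker (phi k m) = (T k m).restrictScalars k := by
    ext h
    rw [LinearMap.mem_ker, Submodule.restrictScalars_mem, phi_apply]
    constructor
    · intro hφ
      exact mem_T_of_coeff k m h (congrArg Prod.fst hφ) (congrArg Prod.snd hφ)
    · intro hT
      refine Prod.ext ?_ ?_
      · exact coeff_eq_zero_of_mem_T k m h hT 0 (by simp) (by simp)
      · exact coeff_eq_zero_of_mem_T k m h hT _ (by simp) (by simp)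
  have e1 := Submodule.Quotient.restrictScalarsEquiv k (T k m)
  have e2 := (phi k m).quotKerEquivOfSurjective hsurj
  have e3 := Submodule.quotEquivOfEq _ _ hker
  have h1 : Module.finrank k (MvPowerSeries (Option (Fin m ⊕ Fin m)) k ⧸ T k m) =
      Module.finrank k (k × k) := LinearEquiv.finrank_eq (e1.symm.trans (e3.symm.trans e2))
  exact h1.trans (by rw [Module.finrank_prod, Module.finrank_self])

theorem main [CharP k 2]
    (f : MvPowerSeries (Option (Fin m ⊕ Fin m)) k)
    (hf : ∀ d : Option (Fin m ⊕ Fin m) →₀ ℕ, d.degree < 3 →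
      MvPowerSeries.coeff d f = MvPowerSeries.coeff d (q k m)) :
    Ideal.span ({f} ∪ Set.range fun i : Option (Fin m ⊕ Fin m) => MvPowerSeries.pderiv k i f) =
      T k m ∧
    Module.finrank k (MvPowerSeries (Option (Fin m ⊕ Fin m)) k ⧸ T k m) = 2 := by
  classical
  refine ⟨?_, finrank_quot k m⟩
  obtain ⟨g, hg⟩ : ∃ g, g = f - q k m := ⟨_, rfl⟩
  have hfg : f = q k m + g := by rw [hg]; ring
  have hg3 : Fil 3 g := by
    intro d hd
    rw [hg, map_sub, hf d hd, sub_self]
  have hq2 : Fil 2 (q k m) := fil_two_q k m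
  have hpg : ∀ j, Fil 2 (pderiv k j g) := by
    intro j d hd
    rw [coeff_pderiv, hg3 _ (by rw [map_add, Finsupp.degree_single]; omega), zero_mul]
  have hpf : ∀ j, pderiv k j f = pderiv k j (q k m) + pderiv k j g := by
    intro j
    rw [hfg, map_add]
  have hFil2T : ∀ h : MvPowerSeries (Option (Fin m ⊕ Fin m)) k, Fil 2 h → h ∈ T k m :=
    fun h hh => mem_T_of_coeff k m h (hh 0 (by simp))
      (hh _ (by rw [Finsupp.degree_single]; norm_num))
  have hXM : ∀ i : Option (Fin m ⊕ Fin m), (X i : MvPowerSeries (Option (Fin m ⊕ Fin m)) k) ∈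
      IsLocalRing.maximalIdeal (MvPowerSeries (Option (Fin m ⊕ Fin m)) k) :=
    fun i => mem_max_of_cc (constantCoeff_X i)
  apply le_antisymm
  · rw [Ideal.span_le]
    rintro x (h1 | ⟨j, rfl⟩)
    · rw [Set.mem_singleton_iff] at h1
      rw [h1, hfg]
      exact Ideal.add_mem _ (hFil2T _ hq2) (hFil2T _ (hg3.mono (by norm_num)))
    · show pderiv k j f ∈ T k m
      rw [hpf j]
      refine Ideal.add_mem _ ?_ (hFil2T _ (hpg j))
      rcases j with _ | (i | i)
      · rw [pderiv_q_none]; exact Ideal.zero_mem _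
      · rw [pderiv_q_inl]; exact X_some_mem_T k m _
      · rw [pderiv_q_inr]; exact X_some_mem_T k m _
  · apply Submodule.le_of_le_smul_of_le_jacobson_bot
      (I := IsLocalRing.maximalIdeal (MvPowerSeries (Option (Fin m ⊕ Fin m)) k))
      (T_fg k m) (IsLocalRing.maximalIdeal_le_jacobson ⊥)
    rw [Ideal.smul_eq_mul]
    have hfJ : f ∈ Ideal.span ({f} ∪ Set.range fun i : Option (Fin m ⊕ Fin m) =>
        MvPowerSeries.pderiv k i f) :=
      Ideal.subset_span (Set.mem_union_left _ (Set.mem_singleton _))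
    have hpJ : ∀ j, pderiv k j f ∈ Ideal.span ({f} ∪ Set.range fun i : Option (Fin m ⊕ Fin m) =>
        MvPowerSeries.pderiv k i f) :=
      fun j => Ideal.subset_span (Set.mem_union_right _ ⟨j, rfl⟩)
    have hX0 : (X none : MvPowerSeries (Option (Fin m ⊕ Fin m)) k) ^ 2 ∈
        Ideal.span ({f} ∪ Set.range fun i : Option (Fin m ⊕ Fin m) =>
          MvPowerSeries.pderiv k i f) ⊔
        IsLocalRing.maximalIdeal (MvPowerSeries (Option (Fin m ⊕ Fin m)) k) * T k m := by
      have e : (X none : MvPowerSeries (Option (Fin m ⊕ Fin m)) k) ^ 2 =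
          f - ∑ i : Fin m, X (some (Sum.inl i)) * X (some (Sum.inr i)) - g := by
        rw [hg]; unfold q; ring
      rw [e]
      refine Ideal.sub_mem _ (Ideal.sub_mem _ (Ideal.mem_sup_left hfJ) ?_) ?_
      · apply Ideal.mem_sup_right
        apply Ideal.sum_mem
        intro i _
        exact Ideal.mul_mem_mul (hXM _) (X_some_mem_T k m _)
      · apply Ideal.mem_sup_right
        have h5 := sub_mem_mul_of_fil_two k m g (hg3.mono (by norm_num))
        rwa [hg3 (Finsupp.single none 2) (by rw [Finsupp.degree_single]; norm_num), map_zero,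
          zero_mul, sub_zero] at h5
    have hF2 : ∀ h : MvPowerSeries (Option (Fin m ⊕ Fin m)) k, Fil 2 h →
        h ∈ Ideal.span ({f} ∪ Set.range fun i : Option (Fin m ⊕ Fin m) =>
          MvPowerSeries.pderiv k i f) ⊔
        IsLocalRing.maximalIdeal (MvPowerSeries (Option (Fin m ⊕ Fin m)) k) * T k m := by
      intro h hh
      have h1 := sub_mem_mul_of_fil_two k m h hh
      have e : h = (h - C (coeff (Finsupp.single none 2) h) * X none ^ 2) +
          C (coeff (Finsupp.single none 2) h) * X none ^ 2 := by ring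
      rw [e]
      exact Ideal.add_mem _ (Ideal.mem_sup_right h1) (Ideal.mul_mem_left _ _ hX0)
    refine Ideal.span_le.mpr ?_
    rintro x (h1 | ⟨j, rfl⟩)
    · rw [Set.mem_singleton_iff] at h1
      rw [h1]
      exact hX0
    · rcases j with i | i
      · have e : (X (some (Sum.inl i)) : MvPowerSeries (Option (Fin m ⊕ Fin m)) k) =
            pderiv k (some (Sum.inr i)) f - pderiv k (some (Sum.inr i)) g := by
          rw [hpf, pderiv_q_inr]; ring
        show (X (some (Sum.inl i)) : MvPowerSeries (Option (Fin m ⊕ Fin m)) k) ∈ _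
        rw [e]
        exact Ideal.sub_mem _ (Ideal.mem_sup_left (hpJ _)) (hF2 _ (hpg _))
      · have e : (X (some (Sum.inr i)) : MvPowerSeries (Option (Fin m ⊕ Fin m)) k) =
            pderiv k (some (Sum.inl i)) f - pderiv k (some (Sum.inl i)) g := by
          rw [hpf, pderiv_q_inl]; ring
        show (X (some (Sum.inr i)) : MvPowerSeries (Option (Fin m ⊕ Fin m)) k) ∈ _
        rw [e]
        exact Ideal.sub_mem _ (Ideal.mem_sup_left (hpJ _)) (hF2 _ (hpg _))

end H8720

/-- The formal computation carried out in its proof: let k be a field of characteristic 2, m a natural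
number, and f a power series over k in the variables x_0 and x_i, x_i' (i = 1, ..., m) whose terms
of degree less than 3 are exactly those of x_0^2 + x_1 x_1' + ... + x_m x_m'. Then the ideal
generated by f and all its partial derivatives is the ideal generated by x_0^2 and the x_i, x_i',
and the quotient of the power series ring by this ideal is two-dimensional over k. (Characteristic 2
is what makes the derivative in x_0 lose its linear term.) -/
theorem result (k : Type u) [Field k] [CharP k 2] (m : ℕ)
    (f : MvPowerSeries (Option (Fin m ⊕ Fin m)) k)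
    (hf : ∀ d : Option (Fin m ⊕ Fin m) →₀ ℕ, d.degree < 3 →
      MvPowerSeries.coeff d f = MvPowerSeries.coeff d
        (MvPowerSeries.X none ^ 2 +
          ∑ i : Fin m, MvPowerSeries.X (some (Sum.inl i)) * MvPowerSeries.X (some (Sum.inr i)))) :
    Ideal.span ({f} ∪ Set.range fun i : Option (Fin m ⊕ Fin m) => MvPowerSeries.pderiv k i f) =
      Ideal.span ({MvPowerSeries.X none ^ 2} ∪
        Set.range fun j : Fin m ⊕ Fin m => (MvPowerSeries.X (some j) : MvPowerSeries (Option (Fin m ⊕ Fin m)) k)) ∧
    Module.finrank k (MvPowerSeries (Option (Fin m ⊕ Fin m)) k ⧸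
      Ideal.span ({MvPowerSeries.X none ^ 2} ∪
        Set.range fun j : Fin m ⊕ Fin m => (MvPowerSeries.X (some j) : MvPowerSeries (Option (Fin m ⊕ Fin m)) k))) = 2 := by
  exact H8720.main k m f hf

end Groth.Agent.S8720
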