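import Groth.Statements.S8721
import Mathlib
import Groth.Agent.S3212

set_option autoImplicit false
universe u v
open SGA7II

namespace Groth.Agent.S8721

namespace H8721

theorem map_span_le {k : Type u} [Field k] {V : Type v} [AddCommGroup V] [Module k V]
    (q : ℕ) (φ : V →+ V) (hφ : ∀ (c : k) (v : V), φ (c • v) = c ^ q • φ v) (S : Set V) :
    ∀ v ∈ Submodule.span k S, φ v ∈ Submodule.span k (φ '' S) := by
  intro v hv
  induction hv using Submodule.span_induction with
  | mem x hx => exact Submodule.subset_span ⟨x, hx, rfl⟩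
  | zero => rw [map_zero]; exact Submodule.zero_mem _
  | add x y _ _ hx hy => rw [map_add]; exact Submodule.add_mem _ hx hy
  | smul a x _ hx => rw [hφ]; exact Submodule.smul_mem _ _ hx

theorem main' (k : Type u) [Field k] [IsSepClosed k] (p : ℕ)
    [Fact p.Prime] [CharP k p] (r : ℕ) (hr : 0 < r) (V : Type v) [AddCommGroup V] [Module k V]
    [FiniteDimensional k V] (φ : V →+ V) (hφ : ∀ (c : k) (v : V), φ (c • v) = c ^ (p ^ r) • φ v)
    (Vss : Submodule k V) (hV : Vss = ⨅ n : ℕ, Submodule.span k (Set.range (φ^[n + 1]))) :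
    ∃ b : Module.Basis (Fin (Module.finrank k ↥Vss)) k ↥Vss, (∀ i, φ (b i : V) = (b i : V)) ∧
      ∀ v : V, φ v = v → ∃ c : Fin (Module.finrank k ↥Vss) → k,
        (∀ i, c i ^ (p ^ r) = c i) ∧ v = ∑ i, c i • (b i : V) := by
  classical
  have hrange : ∀ n, φ '' (Set.range φ^[n]) = Set.range φ^[n + 1] := by
    intro n
    ext x
    constructor
    · rintro ⟨_, ⟨y, rfl⟩, rfl⟩
      exact ⟨y, Function.iterate_succ_apply' φ n y⟩
    · rintro ⟨y, rfl⟩
      exact ⟨φ^[n] y, ⟨y, rfl⟩, (Function.iterate_succ_apply' φ n y).symm⟩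
  have hanti : ∀ n, Submodule.span k (Set.range (φ^[n + 1 + 1])) ≤
      Submodule.span k (Set.range (φ^[n + 1])) := by
    intro n
    apply Submodule.span_mono
    rintro _ ⟨y, rfl⟩
    exact ⟨φ y, (Function.iterate_succ_apply φ (n + 1) y).symm⟩
  have hAnti : Antitone (fun n : ℕ => Submodule.span k (Set.range (φ^[n + 1]))) :=
    antitone_nat_of_succ_le hanti
  obtain ⟨N, hN⟩ : ∃ N, ∀ m, N ≤ m → Submodule.span k (Set.range (φ^[N + 1])) =
      Submodule.span k (Set.range (φ^[m + 1])) := by
    obtain ⟨N, hN⟩ := IsArtinian.monotone_stabilizes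
      (⟨fun n => OrderDual.toDual (Submodule.span k (Set.range (φ^[n + 1]))),
        monotone_nat_of_le_succ fun n => OrderDual.toDual_le_toDual.mpr (hanti n)⟩ :
        ℕ →o (Submodule k V)ᵒᵈ)
    exact ⟨N, fun m hm => congrArg OrderDual.ofDual (hN m hm)⟩
  have hVN : Vss = Submodule.span k (Set.range (φ^[N + 1])) := by
    rw [hV]
    apply le_antisymm (iInf_le _ N)
    refine le_iInf fun n => ?_
    rcases le_total n N with h | h
    · exact hAnti h
    · exact (hN n h).le
  have hVN1 : Vss = Submodule.span k (Set.range (φ^[N + 1 + 1])) := by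
    rw [hVN]; exact hN (N + 1) (Nat.le_succ N)
  have hstable : ∀ v ∈ Vss, φ v ∈ Vss := by
    intro v hv
    rw [hVN] at hv
    have := map_span_le (p ^ r) φ hφ _ v hv
    rw [hrange] at this
    rw [hVN1]; exact this
  obtain ⟨φ', hφ'⟩ : ∃ φ' : ↥Vss →+ ↥Vss, ∀ x : ↥Vss, ((φ' x : ↥Vss) : V) = φ (x : V) :=
    ⟨AddMonoidHom.mk' (fun x : ↥Vss => ⟨φ x, hstable x x.2⟩)
      (by intro a b; apply Subtype.ext; simp), fun x => rfl⟩
  have hφ'lin : ∀ (c : k) (x : ↥Vss), φ' (c • x) = c ^ (p ^ r) • φ' x := by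
    intro c x
    apply Subtype.ext
    rw [hφ', Submodule.coe_smul, hφ, Submodule.coe_smul, hφ']
  have hss' : Submodule.span k (Set.range φ') = ⊤ := by
    have himg : Vss.subtype '' (Set.range φ') = φ '' (Vss : Set V) := by
      ext x
      constructor
      · rintro ⟨_, ⟨y, rfl⟩, rfl⟩
        exact ⟨y, y.2, (hφ' y).symm⟩
      · rintro ⟨y, hy, rfl⟩
        exact ⟨φ' ⟨y, hy⟩, ⟨⟨y, hy⟩, rfl⟩, hφ' ⟨y, hy⟩⟩
    have hmap : Submodule.map Vss.subtype (Submodule.span k (Set.range φ')) = Vss := by
      rw [Submodule.map_span, himg]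
      apply le_antisymm
      · rw [Submodule.span_le]
        rintro _ ⟨y, hy, rfl⟩
        exact hstable y hy
      · conv_lhs => rw [hVN1, ← hrange]
        apply Submodule.span_mono
        apply Set.image_mono
        rintro _ ⟨y, rfl⟩
        rw [hVN]
        exact Submodule.subset_span ⟨y, rfl⟩
    have h2 : Submodule.comap Vss.subtype (Submodule.map Vss.subtype
        (Submodule.span k (Set.range φ'))) = Submodule.span k (Set.range φ') :=
      Submodule.comap_map_eq_of_injective (Submodule.injective_subtype Vss) _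
    rw [← h2, hmap, Submodule.comap_subtype_self]
  obtain ⟨b, hb1, hb2⟩ := Groth.Agent.S3212.result k p r hr ↥Vss φ' hφ'lin hss'
  refine ⟨b, fun i => ?_, fun v hv => ?_⟩
  · rw [← hφ', hb1 i]
  · have hv_mem : v ∈ Vss := by
      rw [hV, Submodule.mem_iInf]
      intro n
      exact Submodule.subset_span ⟨v, Function.iterate_fixed hv (n + 1)⟩
    have hfix : φ' ⟨v, hv_mem⟩ = ⟨v, hv_mem⟩ := by
      apply Subtype.ext
      rw [hφ']; exact hv
    refine ⟨fun i => b.repr ⟨v, hv_mem⟩ i, fun i => hb2 _ hfix i, ?_⟩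
    have h := congrArg (Subtype.val) (b.sum_repr ⟨v, hv_mem⟩)
    rw [Submodule.coe_sum] at h
    simp only [Submodule.coe_smul] at h
    exact h.symm

end H8721

/-- Let k be a separably closed field of characteristic p > 0, q = p^r with r >= 1, V a
finite-dimensional k-vector space and phi : V -> V additive with phi(c v) = c^q phi(v). Let V_ss be
the intersection, over n >= 1, of the k-subspaces spanned by the images of the iterates phi^n (the
semisimple part of V). Then V_ss has a k-basis consisting of phi-fixed vectors, and every phi-fixed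
vector of V is a linear combination of this basis with coefficients c satisfying c^q = c; that is,
V_ss is obtained from the F_q-space of fixed vectors by extension of scalars. -/
theorem result (k : Type u) [Field k] [IsSepClosed k] (p : ℕ)
    [Fact p.Prime] [CharP k p] (r : ℕ) (hr : 0 < r) (V : Type v) [AddCommGroup V] [Module k V]
    [FiniteDimensional k V] (φ : V →+ V) (hφ : ∀ (c : k) (v : V), φ (c • v) = c ^ (p ^ r) • φ v) :
    let Vss : Submodule k V := ⨅ n : ℕ, Submodule.span k (Set.range (φ^[n + 1]))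
    ∃ b : Module.Basis (Fin (Module.finrank k ↥Vss)) k ↥Vss, (∀ i, φ (b i : V) = (b i : V)) ∧
      ∀ v : V, φ v = v → ∃ c : Fin (Module.finrank k ↥Vss) → k,
        (∀ i, c i ^ (p ^ r) = c i) ∧ v = ∑ i, c i • (b i : V) := by
  intro Vss
  exact H8721.main' k p r hr V φ hφ _ rfl

end Groth.Agent.S8721
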