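import Groth.Statements.S8722
import Mathlib
import Groth.Agent.S3212

set_option autoImplicit false
universe u v
open SGA7II

namespace Groth.Agent.S8722

namespace H8722

theorem iterate_semilinear {k : Type u} [Field k] {V : Type v} [AddCommGroup V] [Module k V]
    (q : ℕ) (φ : V →+ V) (hφ : ∀ (c : k) (v : V), φ (c • v) = c ^ q • φ v) (n : ℕ) :
    ∃ ψ : V →+ V, (∀ v, ψ v = φ^[n] v) ∧ ∀ (c : k) (v : V), ψ (c • v) = c ^ (q ^ n) • ψ v := by
  induction n with
  | zero => exact ⟨AddMonoidHom.id V, fun v => rfl, fun c v => by simp⟩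
  | succ n ih =>
    obtain ⟨ψ, h1, h2⟩ := ih
    refine ⟨φ.comp ψ, fun v => ?_, fun c v => ?_⟩
    · rw [AddMonoidHom.comp_apply, h1, Function.iterate_succ_apply']
    · rw [AddMonoidHom.comp_apply, h2, hφ, AddMonoidHom.comp_apply, ← pow_mul, pow_succ]

theorem main (k : Type u) [Field k] [IsSepClosed k] (p : ℕ)
    [Fact p.Prime] [CharP k p] (r : ℕ) (hr : 0 < r) (V : Type v) [AddCommGroup V] [Module k V]
    [FiniteDimensional k V] (φ : V →+ V) (hφ : ∀ (c : k) (v : V), φ (c • v) = c ^ (p ^ r) • φ v)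
    (hss : Submodule.span k (Set.range φ) = ⊤) (n : ℕ) (v : V) :
    φ^[n] v = v ↔ ∃ (s : Finset V) (c : V → k), (∀ w ∈ s, φ w = w) ∧
      (∀ w ∈ s, c w ^ ((p ^ r) ^ n) = c w) ∧ v = ∑ w ∈ s, c w • w := by
  classical
  obtain ⟨ψ, hψ1, hψ2⟩ := iterate_semilinear (p ^ r) φ hφ n
  have hψfix : ∀ w, φ w = w → ψ w = w := by
    intro w hw
    rw [hψ1]
    exact Function.iterate_fixed hw n
  constructor
  · intro hv
    obtain ⟨b, hb1, -⟩ := Groth.Agent.S3212.result k p r hr V φ hφ hss
    have hψv : ψ v = v := by rw [hψ1]; exact hv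
    have h1 : ψ v = ∑ i, (b.repr v i) ^ ((p ^ r) ^ n) • b i := by
      conv_lhs => rw [← b.sum_repr v]
      rw [map_sum]
      refine Finset.sum_congr rfl fun i _ => ?_
      rw [hψ2, hψfix _ (hb1 i)]
    have hcoord : ∀ i, (b.repr v i) ^ ((p ^ r) ^ n) = b.repr v i := by
      intro i
      have h3 : b.repr (∑ i, (b.repr v i) ^ ((p ^ r) ^ n) • b i) i
          = (b.repr v i) ^ ((p ^ r) ^ n) :=
        congrFun (b.repr_sum_self (fun i => (b.repr v i) ^ ((p ^ r) ^ n))) i
      rw [← h1, hψv] at h3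
      exact h3.symm
    obtain ⟨c, hc⟩ : ∃ c : V → k, ∀ i, c (b i) = b.repr v i := by
      refine ⟨fun w => if h : ∃ i, b i = w then b.repr v h.choose else 0, fun i => ?_⟩
      have hex : ∃ j, b j = b i := ⟨i, rfl⟩
      simp only [dif_pos hex]
      rw [b.injective hex.choose_spec]
    refine ⟨Finset.univ.image b, c, ?_, ?_, ?_⟩
    · intro w hw
      obtain ⟨i, -, rfl⟩ := Finset.mem_image.mp hw
      exact hb1 i
    · intro w hw
      obtain ⟨i, -, rfl⟩ := Finset.mem_image.mp hw
      rw [hc]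
      exact hcoord i
    · rw [Finset.sum_image (fun i _ j _ h => b.injective h)]
      conv_lhs => rw [← b.sum_repr v]
      refine Finset.sum_congr rfl fun i _ => ?_
      rw [hc]
  · rintro ⟨s, c, h1, h2, rfl⟩
    rw [← hψ1, map_sum]
    refine Finset.sum_congr rfl fun w hw => ?_
    rw [hψ2, hψfix w (h1 w hw), h2 w hw]

end H8722

/-- Let k be a separably closed field of characteristic p > 0, q = p^r with r >= 1, V a
finite-dimensional k-vector space and phi : V -> V additive with phi(c v) = c^q phi(v), semisimple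
in the sense that its image spans V. Then for n >= 1 the fixed vectors of the n-th iterate of phi
are exactly the finite linear combinations of phi-fixed vectors with coefficients c satisfying
c^(q^n) = c; that is, the fixed space of phi^n is obtained from the F_q-space of phi-fixed vectors
by extending scalars to F_{q^n}. -/
theorem result (k : Type u) [Field k] [IsSepClosed k] (p : ℕ)
    [Fact p.Prime] [CharP k p] (r : ℕ) (hr : 0 < r) (V : Type v) [AddCommGroup V] [Module k V]
    [FiniteDimensional k V] (φ : V →+ V) (hφ : ∀ (c : k) (v : V), φ (c • v) = c ^ (p ^ r) • φ v)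
    (hss : Submodule.span k (Set.range φ) = ⊤) (n : ℕ) (hn : 0 < n) (v : V) :
    φ^[n] v = v ↔ ∃ (s : Finset V) (c : V → k), (∀ w ∈ s, φ w = w) ∧
      (∀ w ∈ s, c w ^ ((p ^ r) ^ n) = c w) ∧ v = ∑ w ∈ s, c w • w := by
  exact H8722.main k p r hr V φ hφ hss n v

end Groth.Agent.S8722
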