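import Groth.Statements.S8724
import Mathlib

set_option autoImplicit false
open LefPen

namespace Groth.Agent.S8724

open Finset

theorem doubleSum {R : Type*} [CommRing R] (F : ℕ → ℕ → R) (b : ℕ) :
    ∑ i ∈ range (b + 1), ∑ j ∈ range (b + 1), (if i + j + 1 ≤ b then F i j else 0)
      = ∑ m ∈ range b, ∑ k ∈ range (m + 1), F k (m - k) := by
  rw [← Finset.sum_product', ← Finset.sum_filter, Finset.sum_sigma']
  refine Finset.sum_nbij' (fun x => ⟨x.1 + x.2, x.1⟩) (fun x => (x.2, x.1 - x.2)) ?_ ?_ ?_ ?_ ?_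
  · intro x hx
    simp only [mem_filter, mem_product, mem_range] at hx
    simp only [mem_sigma, mem_range]
    omega
  · intro x hx
    simp only [mem_sigma, mem_range] at hx
    simp only [mem_filter, mem_product, mem_range]
    omega
  · intro x hx
    simp only [add_tsub_cancel_left]
  · intro x hx
    simp only [mem_sigma, mem_range] at hx
    obtain ⟨m, k⟩ := x
    simp only at hx ⊢
    have : k + (m - k) = m := by omega
    rw [this]
  · intro x hx
    simp only [add_tsub_cancel_left]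

theorem lemG {R : Type*} [CommRing R] (y z : R) (c : ℕ → R) (b : ℕ) :
    (y - z) * ∑ i ∈ range (b + 1), ∑ j ∈ range (b + 1),
        (if i + j + 1 ≤ b then c (i + j + 1) * y ^ i * z ^ j else 0)
      = ∑ m ∈ range (b + 1), c m * (y ^ m - z ^ m) := by
  rw [Finset.sum_range_succ' (fun m => c m * (y ^ m - z ^ m))]
  simp only [pow_zero, sub_self, mul_zero, add_zero]
  have hgeom : ∀ m : ℕ, y ^ (m + 1) - z ^ (m + 1) = (y - z) * ∑ k ∈ range (m + 1), y ^ k * z ^ (m - k) := by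
    intro m
    have h := Commute.geom_sum₂_mul (Commute.all y z) (m + 1)
    rw [← h, mul_comm]
    simp
  rw [doubleSum (fun i j => c (i + j + 1) * y ^ i * z ^ j) b, Finset.mul_sum]
  apply Finset.sum_congr rfl
  intro m hm
  rw [hgeom, Finset.mul_sum, Finset.mul_sum, Finset.mul_sum]
  apply Finset.sum_congr rfl
  intro k hk
  have hk' : k ≤ m := Nat.lt_succ_iff.mp (Finset.mem_range.mp hk)
  have : k + (m - k) + 1 = m + 1 := by omega
  rw [this]; ring

theorem partA {R : Type*} [CommRing R] (y z : R) (b : ℕ) :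
    (1 + y) ^ b - (1 + z) ^ b =
      (y - z) * ∑ i ∈ range (b + 1), ∑ j ∈ range (b + 1),
        if i + j + 1 ≤ b then ((b.choose (i + j + 1) : ℕ) : R) * y ^ i * z ^ j else 0 := by
  rw [lemG y z (fun m => ((b.choose m : ℕ) : R)) b, add_comm 1 y, add_comm 1 z, add_pow, add_pow,
    ← Finset.sum_sub_distrib]
  apply Finset.sum_congr rfl
  intro m _
  simp only [one_pow, mul_one]; ring

theorem partB {R : Type*} [CommRing R] (y z : R) (a : ℕ) (ha : 1 ≤ a) :
    (1 + y) ^ a * z - (1 + z) ^ a * y =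
      (y - z) * (-1 + ∑ i ∈ range (a + 1), ∑ j ∈ range (a + 1),
        if 1 ≤ i ∧ 1 ≤ j ∧ i + j ≤ a then ((a.choose (i + j) : ℕ) : R) * y ^ i * z ^ j else 0) := by
  obtain ⟨b, rfl⟩ : ∃ b, a = b + 1 := ⟨a - 1, by omega⟩
  -- shift the double sum
  have hshift : ∑ i ∈ range (b + 1 + 1), ∑ j ∈ range (b + 1 + 1),
        (if 1 ≤ i ∧ 1 ≤ j ∧ i + j ≤ b + 1 then (((b + 1).choose (i + j) : ℕ) : R) * y ^ i * z ^ j else 0)
      = y * z * ∑ i ∈ range (b + 1), ∑ j ∈ range (b + 1),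
        (if i + j + 1 ≤ b then (((b + 1).choose (i + j + 1 + 1) : ℕ) : R) * y ^ i * z ^ j else 0) := by
    rw [Finset.sum_range_succ' _ (b + 1)]
    have h0 : ∑ j ∈ range (b + 1 + 1),
        (if 1 ≤ 0 ∧ 1 ≤ j ∧ 0 + j ≤ b + 1 then (((b + 1).choose (0 + j) : ℕ) : R) * y ^ 0 * z ^ j else 0) = 0 := by
      apply Finset.sum_eq_zero; intro j _; simp
    rw [h0, add_zero, Finset.mul_sum]
    apply Finset.sum_congr rfl
    intro i _
    rw [Finset.sum_range_succ' _ (b + 1)]
    have h1 : (if 1 ≤ i + 1 ∧ 1 ≤ 0 ∧ i + 1 + 0 ≤ b + 1 then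
        (((b + 1).choose (i + 1 + 0) : ℕ) : R) * y ^ (i + 1) * z ^ 0 else 0) = 0 := by simp
    rw [h1, add_zero, Finset.mul_sum]
    apply Finset.sum_congr rfl
    intro j _
    have e1 : (1 ≤ i + 1 ∧ 1 ≤ j + 1 ∧ i + 1 + (j + 1) ≤ b + 1) ↔ i + j + 1 ≤ b := by omega
    have e2 : i + 1 + (j + 1) = i + j + 1 + 1 := by omega
    by_cases h : i + j + 1 ≤ b
    · rw [if_pos (e1.mpr h), if_pos h, e2]; ring
    · rw [if_neg (fun h' => h (e1.mp h')), if_neg h, mul_zero]
  rw [hshift, mul_add, mul_neg_one, ← mul_assoc, mul_comm (y - z) (y * z), mul_assoc,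
    lemG y z (fun m => (((b + 1).choose (m + 1) : ℕ) : R)) b]
  rw [add_comm 1 y, add_comm 1 z, add_pow, add_pow, Finset.sum_mul, Finset.sum_mul,
    ← Finset.sum_sub_distrib, Finset.sum_range_succ' _ (b + 1), Finset.mul_sum]
  simp only [one_pow, mul_one, pow_zero, Nat.choose_zero_right, Nat.cast_one, one_mul]
  rw [add_comm]
  congr 1
  · ring
  · apply Finset.sum_congr rfl
    intro m _
    ring

theorem result (a : ℕ) (ha : 1 ≤ a) :
    let y : MvPolynomial (Fin 2) ℤ := MvPolynomial.X 0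
    let z : MvPolynomial (Fin 2) ℤ := MvPolynomial.X 1
    ((1 + y) ^ (a - 1) - (1 + z) ^ (a - 1) =
      (y - z) * ∑ i ∈ Finset.range a, ∑ j ∈ Finset.range a,
        if i + j + 1 ≤ a - 1 then ((a - 1).choose (i + j + 1) : MvPolynomial (Fin 2) ℤ) * y ^ i * z ^ j else 0) ∧
    ((1 + y) ^ a * z - (1 + z) ^ a * y =
      (y - z) * (-1 + ∑ i ∈ Finset.range (a + 1), ∑ j ∈ Finset.range (a + 1),
        if 1 ≤ i ∧ 1 ≤ j ∧ i + j ≤ a then (a.choose (i + j) : MvPolynomial (Fin 2) ℤ) * y ^ i * z ^ j else 0)) := by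
  intro y z
  constructor
  · obtain ⟨b, rfl⟩ : ∃ b, a = b + 1 := ⟨a - 1, by omega⟩
    simp only [Nat.add_sub_cancel]
    exact partA y z b
  · exact partB y z a ha

end Groth.Agent.S8724
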