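import Groth.Statements.S8731
import Groth.Agent.Lib.Helper7.HypZero
import Groth.Agent.Lib.Helper7.QuotCoh
import Groth.Agent.S0844

set_option autoImplicit false
universe u
open CategoryTheory CategoryTheory.Limits AlgebraicGeometry
open LefPen

namespace Groth.Agent.S8731

/-- (iv), the assertions on the structure sheaf: let k be an algebraically closed field, n >= 1, and Q a
quadratic form in n + 2 variables whose zero scheme X = V(Q) ⊂ P^{n+1}_k is smooth over k of
relative dimension n (a smooth quadric of dimension n). Then H^i(X, O_X) = 0 for every i >= 1, and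
the structure map identifies k with H^0(X, O_X). (The published item also computes H^1(X, O_X(1)),
the canonical sheaf and the Picard group, not stated here.) -/
theorem result (k : Type u) [Field k] [IsAlgClosed k] (n : ℕ) (hn : 1 ≤ n)
    (Q : LefPen.Form (n + 1) k 2)
    [SmoothOfRelativeDimension n ((LefPen.hypIdeal Q).subschemeι ≫ CohB1.ProjSpace.toSpec (n + 1) k)] :
    (∀ i : ℕ, 1 ≤ i → Subsingleton (Coh.HH (LefPen.hypIdeal Q).subscheme
        (Coh.structureModule (LefPen.hypIdeal Q).subscheme) i)) ∧
      Function.Bijective ((LefPen.hypIdeal Q).subschemeι ≫ CohB1.ProjSpace.toSpec (n + 1) k).appTop.hom := by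
  have hvan : ∀ j : ℕ, Subsingleton (Coh.HH (CohB1.ProjSpace (n + 1) k)
      (ClSub.idealMod (LefPen.hypIdeal Q)) j) := by
    intro j
    by_cases hQ : Q = 0
    · exact Groth.Agent.Lib.Helper7.Hypersurf.subsingleton_HH_of_isZero _
        (Groth.Agent.Lib.Helper7.HypIdeal.isZero_idealMod_of_eq_zero Q hQ) j
    · obtain ⟨e⟩ := Groth.Agent.Lib.Helper7.HypIdeal.idealMod_hypIdeal_iso Q hQ
      have h := Groth.Agent.S0844.result k (n + 1) (-((2 : ℕ) : ℤ)) j
        (by rintro ⟨-, h⟩; omega) (by rintro ⟨-, h⟩; push_cast at h; omega)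
      exact Groth.Agent.Lib.Helper7.TwFun.subsingleton_HH_of_iso e j h
  exact ⟨fun i hi => Groth.Agent.Lib.Helper7.QuotCoh.sub_subscheme _ hvan i hi,
    Groth.Agent.Lib.Helper7.QuotCoh.appTop_bijective _ (hvan 0) (hvan 1)⟩

end Groth.Agent.S8731
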