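import Mathlib
import Groth.Statements.S8738

set_option autoImplicit false
universe u
open SGA7II

namespace Groth.Agent.S8738

open PowerSeries

/-! ### the divided iterates of a derivation -/

section Exp

variable {k : Type u} [Field k] [CharZero k] {A : Type u} [CommRing A] [Algebra k A]

noncomputable def ediv (D : Derivation k A A) (n : ℕ) (a : A) : A :=
  algebraMap k A ((n.factorial : k)⁻¹) * (⇑D)^[n] a

lemma ediv_zero (D : Derivation k A A) (a : A) : ediv D 0 a = a := by
  rw [ediv, Nat.factorial_zero, Nat.cast_one, inv_one, map_one, one_mul,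
    Function.iterate_zero_apply]

lemma ediv_one (D : Derivation k A A) (a : A) : ediv D 1 a = D a := by
  rw [ediv, Nat.factorial_one, Nat.cast_one, inv_one, map_one, one_mul, Function.iterate_one]

lemma D_algebraMap_mul (D : Derivation k A A) (c : k) (y : A) :
    D (algebraMap k A c * y) = algebraMap k A c * D y := by
  rw [D.leibniz, D.map_algebraMap, smul_zero, add_zero, smul_eq_mul]

lemma natCast_isUnit (k : Type u) [Field k] [CharZero k] {A : Type u} [CommRing A] [Algebra k A]
    (n : ℕ) : IsUnit (((n + 1 : ℕ) : A)) := by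
  have h : ((n + 1 : ℕ) : A) = algebraMap k A ((n + 1 : ℕ) : k) :=
    (map_natCast (algebraMap k A) (n + 1)).symm
  rw [h]
  exact (Ne.isUnit (Nat.cast_ne_zero.2 (Nat.succ_ne_zero n))).map (algebraMap k A)

lemma ediv_succ (D : Derivation k A A) (n : ℕ) (a : A) :
    ((n + 1 : ℕ) : A) * ediv D (n + 1) a = D (ediv D n a) := by
  have hk : ((n + 1 : ℕ) : k) * (((n + 1).factorial : ℕ) : k)⁻¹ = ((n.factorial : ℕ) : k)⁻¹ := by
    rw [Nat.factorial_succ, Nat.cast_mul, mul_inv,
      mul_inv_cancel_left₀ (Nat.cast_ne_zero.2 (Nat.succ_ne_zero n))]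
  rw [ediv, ediv, D_algebraMap_mul, Function.iterate_succ_apply', ← mul_assoc,
    ← map_natCast (algebraMap k A) (n + 1), ← map_mul, hk]

lemma ediv_add (D : Derivation k A A) (n : ℕ) (a b : A) :
    ediv D n (a + b) = ediv D n a + ediv D n b := by
  rw [ediv, ediv, ediv, iterate_map_add, mul_add]

lemma ediv_zero_arg (D : Derivation k A A) (n : ℕ) : ediv D n 0 = 0 := by
  rw [ediv, iterate_map_zero, mul_zero]

lemma ediv_one_arg (D : Derivation k A A) (n : ℕ) :
    ediv D n (1 : A) = if n = 0 then 1 else 0 := by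
  cases n with
  | zero => rw [ediv_zero, if_pos rfl]
  | succ n =>
    rw [if_neg (Nat.succ_ne_zero n), ediv, Function.iterate_succ_apply, D.map_one_eq_zero,
      iterate_map_zero, mul_zero]

lemma ediv_mul (D : Derivation k A A) (n : ℕ) (a b : A) :
    ediv D n (a * b) = ∑ p ∈ Finset.HasAntidiagonal.antidiagonal n, ediv D p.1 a * ediv D p.2 b := by
  induction n with
  | zero =>
    simp only [Finset.Nat.antidiagonal_zero, Finset.sum_singleton, ediv_zero]
  | succ n ih =>
    apply (natCast_isUnit k n).mul_left_cancel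
    have h1 : ∑ q ∈ Finset.HasAntidiagonal.antidiagonal (n + 1),
        ((q.2 : ℕ) : A) * (ediv D q.1 a * ediv D q.2 b) =
        ∑ p ∈ Finset.HasAntidiagonal.antidiagonal n, ediv D p.1 a * D (ediv D p.2 b) := by
      rw [Finset.Nat.sum_antidiagonal_succ']
      simp only [Nat.cast_zero, zero_mul, zero_add]
      refine Finset.sum_congr rfl (fun p _ => ?_)
      rw [← ediv_succ]
      ring
    have h2 : ∑ q ∈ Finset.HasAntidiagonal.antidiagonal (n + 1),
        ((q.1 : ℕ) : A) * (ediv D q.1 a * ediv D q.2 b) =
        ∑ p ∈ Finset.HasAntidiagonal.antidiagonal n, ediv D p.2 b * D (ediv D p.1 a) := by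
      rw [Finset.Nat.sum_antidiagonal_succ]
      simp only [Nat.cast_zero, zero_mul, zero_add]
      refine Finset.sum_congr rfl (fun p _ => ?_)
      rw [← ediv_succ]
      ring
    have h3 : ((n + 1 : ℕ) : A) *
        ∑ q ∈ Finset.HasAntidiagonal.antidiagonal (n + 1), ediv D q.1 a * ediv D q.2 b =
        ∑ q ∈ Finset.HasAntidiagonal.antidiagonal (n + 1), ((q.2 : ℕ) : A) * (ediv D q.1 a * ediv D q.2 b) +
        ∑ q ∈ Finset.HasAntidiagonal.antidiagonal (n + 1), ((q.1 : ℕ) : A) * (ediv D q.1 a * ediv D q.2 b) := by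
      rw [Finset.mul_sum, ← Finset.sum_add_distrib]
      refine Finset.sum_congr rfl (fun q hq => ?_)
      have hq' : q.1 + q.2 = n + 1 := Finset.HasAntidiagonal.mem_antidiagonal.1 hq
      rw [← hq', Nat.cast_add]
      ring
    rw [ediv_succ, ih, map_sum, h3, h1, h2, ← Finset.sum_add_distrib]
    refine Finset.sum_congr rfl (fun p _ => ?_)
    rw [D.leibniz, smul_eq_mul, smul_eq_mul]

/-- the exponential `a ↦ ∑ (Dⁿ a / n!) Tⁿ` -/
noncomputable def Eexp (D : Derivation k A A) : A →+* PowerSeries A where
  toFun a := PowerSeries.mk (fun n => ediv D n a)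
  map_one' := by
    ext n
    rw [coeff_mk, coeff_one, ediv_one_arg]
  map_mul' a b := by
    ext n
    rw [coeff_mk, coeff_mul, ediv_mul]
    refine Finset.sum_congr rfl (fun p _ => ?_)
    rw [coeff_mk, coeff_mk]
  map_zero' := by
    ext n
    rw [coeff_mk, ediv_zero_arg, map_zero]
  map_add' a b := by
    ext n
    rw [coeff_mk, map_add, coeff_mk, coeff_mk, ediv_add]

lemma coeff_Eexp (D : Derivation k A A) (n : ℕ) (a : A) : coeff n (Eexp D a) = ediv D n a := by
  show coeff n (PowerSeries.mk fun n => ediv D n a) = _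
  rw [coeff_mk]

variable (D : Derivation k A A)

noncomputable def EK0 : A →+* PowerSeries (FractionRing A) :=
  (PowerSeries.map (algebraMap A (FractionRing A))).comp (Eexp D)

lemma coeff_EK0 (n : ℕ) (a : A) :
    coeff n (EK0 D a) = algebraMap A (FractionRing A) (ediv D n a) := by
  rw [EK0, RingHom.comp_apply, coeff_map, coeff_Eexp]

lemma EK0_unit (s : nonZeroDivisors A) : IsUnit (EK0 D (s : A)) := by
  rw [isUnit_iff_constantCoeff, ← coeff_zero_eq_constantCoeff_apply, coeff_EK0, ediv_zero]
  exact IsLocalization.map_units (FractionRing A) s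

noncomputable def EK : FractionRing A →+* PowerSeries (FractionRing A) :=
  IsLocalization.lift (M := nonZeroDivisors A) (g := EK0 D) (EK0_unit D)

lemma EK_algebraMap (a : A) : EK D (algebraMap A (FractionRing A) a) = EK0 D a :=
  IsLocalization.lift_eq _ a

lemma constantCoeff_EK (x : FractionRing A) : constantCoeff (EK D x) = x := by
  have h : (constantCoeff (R := FractionRing A)).comp (EK D) = RingHom.id (FractionRing A) := by
    apply IsLocalization.ringHom_ext (nonZeroDivisors A)
    ext a
    simp only [RingHom.comp_apply, RingHom.id_apply]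
    rw [EK_algebraMap, ← coeff_zero_eq_constantCoeff_apply, coeff_EK0, ediv_zero]
  exact RingHom.congr_fun h x

noncomputable def DK (x : FractionRing A) : FractionRing A := coeff 1 (EK D x)

lemma DK_add (x y : FractionRing A) : DK D (x + y) = DK D x + DK D y := by
  rw [DK, map_add, map_add]
  rfl

lemma DK_mul (x y : FractionRing A) : DK D (x * y) = x * DK D y + y * DK D x := by
  have key : ∀ f : ℕ × ℕ → FractionRing A,
      ∑ p ∈ Finset.HasAntidiagonal.antidiagonal 1, f p = f (0, 1) + f (1, 0) := by
    intro f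
    have h := Finset.Nat.sum_antidiagonal_succ (n := 0) (f := f)
    rw [Finset.Nat.antidiagonal_zero, Finset.sum_singleton] at h
    exact h
  rw [DK, map_mul, coeff_mul, key, coeff_zero_eq_constantCoeff_apply,
    coeff_zero_eq_constantCoeff_apply, constantCoeff_EK, constantCoeff_EK, DK, DK]
  ring

lemma DK_algebraMap (a : A) :
    DK D (algebraMap A (FractionRing A) a) = algebraMap A (FractionRing A) (D a) := by
  rw [DK, EK_algebraMap, coeff_EK0, ediv_one]

/-- the key step: the derivative of an almost integral element is almost integral -/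
lemma AI_DK {d : A} {x : FractionRing A}
    (hx : ∀ n : ℕ, ∃ a : A,
      algebraMap A (FractionRing A) d * x ^ n = algebraMap A (FractionRing A) a) :
    ∀ n : ℕ, ∃ a : A, algebraMap A (FractionRing A) (d * d) * (DK D x) ^ n =
      algebraMap A (FractionRing A) a := by
  intro n
  obtain ⟨S, hS⟩ : ∃ S : Subring (PowerSeries (FractionRing A)),
      S = (PowerSeries.map (algebraMap A (FractionRing A))).range := ⟨_, rfl⟩
  obtain ⟨δ, hδ⟩ : ∃ δ, δ = EK D (algebraMap A (FractionRing A) d) := ⟨_, rfl⟩
  obtain ⟨c, hc⟩ : ∃ c : PowerSeries (FractionRing A),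
      c = C (algebraMap A (FractionRing A) d) := ⟨_, rfl⟩
  obtain ⟨u, hu⟩ : ∃ u, u = EK D x := ⟨_, rfl⟩
  have h1 : ∀ i, δ * u ^ i ∈ S := by
    intro i
    obtain ⟨a, ha⟩ := hx i
    rw [hδ, hu, ← map_pow (EK D), ← map_mul (EK D), ha, EK_algebraMap, hS]
    exact ⟨Eexp D a, rfl⟩
  have h2 : ∀ j, c * (C x) ^ j ∈ S := by
    intro j
    obtain ⟨a, ha⟩ := hx j
    rw [hc, ← map_pow (C (R := FractionRing A)), ← map_mul (C (R := FractionRing A)), ha, hS]
    exact ⟨C a, map_C _ _⟩
  have h3 : (δ * c) * (u - C x) ^ n ∈ S := by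
    rw [sub_eq_add_neg, add_pow, Finset.mul_sum]
    refine sum_mem (fun i _ => ?_)
    have e : δ * c * (u ^ i * (-C x) ^ (n - i) * (n.choose i : PowerSeries (FractionRing A))) =
        (δ * u ^ i) * (c * (C x) ^ (n - i)) *
          ((-1) ^ (n - i) * (n.choose i : PowerSeries (FractionRing A))) := by
      rw [neg_pow (C x)]
      ring
    rw [e]
    exact S.mul_mem (S.mul_mem (h1 i) (h2 _))
      (S.mul_mem (S.pow_mem (S.neg_mem S.one_mem) _) (natCast_mem S _))
  obtain ⟨u', hu'⟩ : ∃ u' : PowerSeries (FractionRing A),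
      u' = PowerSeries.mk fun p => coeff (p + 1) u := ⟨_, rfl⟩
  have hshift : u - C x = X * u' := by
    have h := sub_const_eq_X_mul_shift u
    rw [hu', ← h, hu, constantCoeff_EK]
  obtain ⟨ψ, hψ⟩ : ∃ ψ, PowerSeries.map (algebraMap A (FractionRing A)) ψ =
      (δ * c) * (u - C x) ^ n := by
    rw [hS] at h3
    exact RingHom.mem_range.1 h3
  have hG : (δ * c) * (u - C x) ^ n = X ^ n * ((δ * c) * u' ^ n) := by
    rw [hshift, mul_pow]
    ring
  have hcoef : coeff n ((δ * c) * (u - C x) ^ n) = constantCoeff ((δ * c) * u' ^ n) := by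
    rw [hG, ← coeff_zero_eq_constantCoeff_apply]
    have h := coeff_X_pow_mul ((δ * c) * u' ^ n) n 0
    rw [zero_add] at h
    exact h
  have e1 : constantCoeff ((δ * c) * u' ^ n) =
      algebraMap A (FractionRing A) d * algebraMap A (FractionRing A) d * (DK D x) ^ n := by
    rw [map_mul, map_mul, map_pow, hδ, constantCoeff_EK, hc, constantCoeff_C, hu',
      ← coeff_zero_eq_constantCoeff_apply, coeff_mk, zero_add, hu]
    rfl
  refine ⟨coeff n ψ, ?_⟩
  rw [← coeff_map, hψ, hcoef, e1, map_mul]

end Exp

/-! ### almost integral elements -/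

section AI

variable {A : Type u} [CommRing A]

lemma exists_AI_of_isIntegral (x : FractionRing A) (hx : IsIntegral A x) :
    ∃ d ∈ nonZeroDivisors A, ∀ n : ℕ, ∃ a : A,
      algebraMap A (FractionRing A) d * x ^ n = algebraMap A (FractionRing A) a := by
  classical
  obtain ⟨s, hs⟩ := hx.fg_adjoin_singleton
  obtain ⟨b, hb⟩ := IsLocalization.exist_integer_multiples_of_finset (nonZeroDivisors A) s
  refine ⟨b, b.2, fun n => ?_⟩
  have hmem : x ^ n ∈ Submodule.span A (s : Set (FractionRing A)) := by
    rw [hs]
    exact (Subalgebra.mem_toSubmodule _).2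
      (pow_mem (Algebra.subset_adjoin (Set.mem_singleton x)) n)
  refine Submodule.span_induction
    (p := fun y _ => ∃ a : A, algebraMap A (FractionRing A) b * y =
      algebraMap A (FractionRing A) a) ?_ ?_ ?_ ?_ hmem
  · intro y hy
    obtain ⟨a, ha⟩ := hb y hy
    refine ⟨a, ?_⟩
    rw [ha, Algebra.smul_def]
  · exact ⟨0, by rw [mul_zero, map_zero]⟩
  · rintro y z _ _ ⟨a, ha⟩ ⟨a', ha'⟩
    exact ⟨a + a', by rw [mul_add, ha, ha', map_add]⟩
  · rintro r y _ ⟨a, ha⟩
    exact ⟨r * a, by rw [Algebra.smul_def, mul_left_comm, ha, map_mul]⟩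

lemma isIntegral_of_AI [IsNoetherianRing A] {d : A} (hd : d ∈ nonZeroDivisors A)
    {y : FractionRing A}
    (hy : ∀ n : ℕ, ∃ a : A,
      algebraMap A (FractionRing A) d * y ^ n = algebraMap A (FractionRing A) a) :
    IsIntegral A y := by
  obtain ⟨u, hu⟩ : ∃ u : FractionRing A, u * algebraMap A (FractionRing A) d = 1 :=
    (IsLocalization.map_units (FractionRing A) (⟨d, hd⟩ : nonZeroDivisors A)).exists_left_inv
  have hN : IsNoetherian A (Submodule.span A ({u} : Set (FractionRing A))) :=
    isNoetherian_of_fg_of_noetherian _ (Submodule.fg_span_singleton u)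
  have hle : Subalgebra.toSubmodule (Algebra.adjoin A ({y} : Set (FractionRing A))) ≤
      Submodule.span A ({u} : Set (FractionRing A)) := by
    intro z hz
    rw [Subalgebra.mem_toSubmodule, Algebra.adjoin_singleton_eq_range_aeval] at hz
    obtain ⟨P, hP⟩ := hz
    rw [← hP]
    show Polynomial.aeval y P ∈ _
    rw [Polynomial.aeval_eq_sum_range]
    refine Submodule.sum_mem _ (fun i _ => Submodule.smul_mem _ _ ?_)
    obtain ⟨a, ha⟩ := hy i
    refine Submodule.mem_span_singleton.2 ⟨a, ?_⟩
    rw [Algebra.smul_def, ← ha]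
    calc algebraMap A (FractionRing A) d * y ^ i * u
        = (u * algebraMap A (FractionRing A) d) * y ^ i := by ring
      _ = y ^ i := by rw [hu, one_mul]
  have hfg : (Subalgebra.toSubmodule (Algebra.adjoin A ({y} : Set (FractionRing A)))).FG :=
    isNoetherian_submodule.1 hN _ hle
  exact IsIntegral.of_mem_of_fg _ hfg y (Algebra.subset_adjoin (Set.mem_singleton y))

end AI


/-- Let k be a field of characteristic zero and A a reduced Noetherian local k-algebra of Krull
dimension one, essentially of finite type over k (the local ring of a reduced curve over k at one of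
its points), and let A' be the integral closure of A in its total ring of fractions (the
normalization). Then every k-derivation D of A extends to a k-derivation D' of A', i.e. D' agrees
with D on the image of A. -/
theorem result (k : Type u) [Field k] [CharZero k] (A : Type u) [CommRing A]
    [Algebra k A] [IsReduced A] [IsNoetherianRing A] [IsLocalRing A] [Algebra.EssFiniteType k A]
    (hdim : ringKrullDim A = 1) (D : Derivation k A A) :
    ∃ D' : Derivation k ↥(integralClosure A (FractionRing A)) ↥(integralClosure A (FractionRing A)),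
      ∀ a : A, (D' (algebraMap A ↥(integralClosure A (FractionRing A)) a) : FractionRing A) =
        algebraMap A (FractionRing A) (D a) := by
  classical
  have hint : ∀ x : FractionRing A, IsIntegral A x → IsIntegral A (DK D x) := by
    intro x hx
    obtain ⟨d, hd, hAI⟩ := exists_AI_of_isIntegral x hx
    exact isIntegral_of_AI (mul_mem hd hd) (AI_DK D hAI)
  have hDKk : ∀ (c : k) (x : FractionRing A), DK D (c • x) = c • DK D x := by
    intro c x
    rw [Algebra.smul_def, Algebra.smul_def, DK_mul,
      IsScalarTower.algebraMap_apply k A (FractionRing A), DK_algebraMap, D.map_algebraMap,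
      map_zero, mul_zero, add_zero]
  have hDK1 : DK D (1 : FractionRing A) = 0 := by
    rw [← map_one (algebraMap A (FractionRing A)), DK_algebraMap, D.map_one_eq_zero, map_zero]
  refine ⟨{ toFun := fun x => ⟨DK D x.1, hint x.1 x.2⟩
            map_add' := ?_
            map_smul' := ?_
            map_one_eq_zero' := ?_
            leibniz' := ?_ }, ?_⟩
  · intro x y
    apply Subtype.ext
    exact DK_add D x.1 y.1
  · intro c x
    apply Subtype.ext
    exact hDKk c x.1
  · apply Subtype.ext
    exact hDK1
  · intro a b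
    apply Subtype.ext
    exact DK_mul D a.1 b.1
  · intro a
    exact DK_algebraMap D a

end Groth.Agent.S8738
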