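import Groth.Statements.S8746
import Mathlib.RingTheory.AdjoinRoot
import Mathlib.RingTheory.RingHom.Flat

set_option autoImplicit false
universe u
open CategoryTheory Limits
open Adeq

namespace Groth.Agent.S8746

open ChangeOfRings

/-- If `g : R → S` has an `R`-linear retraction, `m ↦ 1 ⊗ m` is injective. -/
theorem one_tmul_injective {R S : Type u} [CommRing R] [CommRing S] (g : R →+* S)
    (ρ : S →+ R) (hρ : ∀ r s, ρ (g r * s) = r * ρ s) (hρ1 : ρ 1 = 1)
    {M : Type*} [AddCommGroup M] [Module R M] (m₁ m₂ : M)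
    (h : (1 : S) ⊗ₜ[R,g] m₁ = (1 : S) ⊗ₜ[R,g] m₂) : m₁ = m₂ := by
  letI : Module R S := Module.compHom S g
  let ρ' : S →ₗ[R] R :=
    { toFun := ρ, map_add' := ρ.map_add, map_smul' := fun r s => hρ r s }
  have key : ∀ m : M, TensorProduct.lid R M (ρ'.rTensor M ((1 : S) ⊗ₜ[R] m)) = m := by
    intro m
    rw [LinearMap.rTensor_tmul, TensorProduct.lid_tmul]
    show ρ 1 • m = m
    rw [hρ1, one_smul]
  have h2 := congrArg (fun t => TensorProduct.lid R M (ρ'.rTensor M t)) h
  rw [← key m₁, ← key m₂]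
  exact h2

theorem map_eq_bc {A : Type u} [CommRing A] (G : Adeq.MVF A) {B C : Adeq.Alg A} (f : B ⟶ C)
    (m : G.obj (Adeq.pt B)) :
    G.map (Adeq.ptHom f) m = (G.bc f) ((1 : C) ⊗ₜ[B, f.hom.toRingHom] m) := by
  have h : (ModuleCat.extendRestrictScalarsAdj.{u + 1, u, u} f.hom.toRingHom).homEquiv _ _ (G.bc f)
      = G.map (Adeq.ptHom f) := by
    unfold Adeq.MVF.bc
    exact Equiv.apply_symm_apply _ _
  rw [← h]
  rfl

theorem map_inj {A : Type u} [CommRing A] (G : Adeq.MVF A) {B C : Adeq.Alg A} (f : B ⟶ C)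
    (hiso : IsIso (G.bc f)) (ρ : (C : Type u) →+ (B : Type u))
    (hρ : ∀ r s, ρ (f.hom.toRingHom r * s) = r * ρ s) (hρ1 : ρ 1 = 1)
    (m₁ m₂ : G.obj (Adeq.pt B))
    (h : G.map (Adeq.ptHom f) m₁ = G.map (Adeq.ptHom f) m₂) : m₁ = m₂ := by
  rw [map_eq_bc, map_eq_bc] at h
  have h' := (ConcreteCategory.bijective_of_isIso (G.bc f)).1 h
  exact one_tmul_injective f.hom.toRingHom ρ hρ hρ1 _ _ h'

theorem sub_units_smul {A : Type u} [CommRing A] (F G : Adeq.MVF A)
    (φ : ∀ B : Adeq.Alg A, F.obj (Adeq.pt B) → G.obj (Adeq.pt B))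
    (hadd : ∀ (B : Adeq.Alg A) (x y : F.obj (Adeq.pt B)), φ B (x + y) = φ B x + φ B y)
    (hunit : ∀ (B : Adeq.Alg A) (v : (B : Type u)ˣ) (x : F.obj (Adeq.pt B)),
      φ B ((v : B) • x) = (v : B) • φ B x)
    (C : Adeq.Alg A) (u v : (C : Type u)ˣ) (x : F.obj (Adeq.pt C)) :
    φ C (((u : C) - (v : C)) • x) = ((u : C) - (v : C)) • φ C x := by
  have h1 : ((u : C) - (v : C)) • x + (v : C) • x = (u : C) • x := by
    rw [← add_smul, sub_add_cancel]
  have h2 := hadd C (((u : C) - (v : C)) • x) ((v : C) • x)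
  rw [h1, hunit, hunit] at h2
  have h3 : φ C (((u : C) - (v : C)) • x) = (u : C) • φ C x - (v : C) • φ C x := by
    rw [h2, add_sub_cancel_right]
  rw [h3, sub_smul]

theorem exists_cover (A : Type u) [CommRing A] (B : Adeq.Alg A) [Nontrivial B] (b : B) :
    ∃ (C : Adeq.Alg A) (f : B ⟶ C), f.hom.toRingHom.Flat ∧
      (∃ ρ : (C : Type u) →+ (B : Type u),
        (∀ r s, ρ (f.hom.toRingHom r * s) = r * ρ s) ∧ ρ 1 = 1) ∧
      ∃ u v : (C : Type u)ˣ, f.hom b = (u : C) - (v : C) := by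
  let p : Polynomial (B : Type u) :=
    Polynomial.X ^ 2 + (Polynomial.C b * Polynomial.X + Polynomial.C (-1))
  have hlt : (Polynomial.C b * Polynomial.X + Polynomial.C (-1) : Polynomial (B : Type u)).degree
      < ((2 : ℕ) : WithBot ℕ) := Polynomial.degree_linear_lt
  have hp : p.Monic := Polynomial.monic_X_pow_add hlt
  have hdeg : p.degree = ((2 : ℕ) : WithBot ℕ) := by
    have h' : (Polynomial.C b * Polynomial.X + Polynomial.C (-1) : Polynomial (B : Type u)).degree
        < (Polynomial.X ^ 2 : Polynomial (B : Type u)).degree := by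
      rw [Polynomial.degree_X_pow]; exact hlt
    show (Polynomial.X ^ 2 + (Polynomial.C b * Polynomial.X + Polynomial.C (-1)) :
      Polynomial (B : Type u)).degree = _
    rw [Polynomial.degree_add_eq_left_of_degree_lt h', Polynomial.degree_X_pow]
  let f : B ⟶ Adeq.algOf A (AdjoinRoot p) :=
    CommAlgCat.ofHom (IsScalarTower.toAlgHom A (B : Type u) (AdjoinRoot p))
  refine ⟨Adeq.algOf A (AdjoinRoot p), f, ?_, ?_, ?_⟩
  · have : Module.Free (B : Type u) (AdjoinRoot p) := hp.free_adjoinRoot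
    have hfl : (algebraMap (B : Type u) (AdjoinRoot p)).Flat :=
      RingHom.flat_algebraMap_iff.mpr inferInstance
    exact hfl
  · let ρ : AdjoinRoot p →ₗ[(B : Type u)] (B : Type u) :=
      (Polynomial.lcoeff (B : Type u) 0).comp (AdjoinRoot.modByMonicHom hp)
    refine ⟨ρ.toAddMonoidHom, ?_, ?_⟩
    · intro r s
      show ρ (algebraMap (B : Type u) (AdjoinRoot p) r * s) = r * ρ s
      rw [← Algebra.smul_def, map_smul, smul_eq_mul]
    · show Polynomial.coeff (AdjoinRoot.modByMonicHom hp 1) 0 = 1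
      have h1 : (1 : AdjoinRoot p) = AdjoinRoot.mk p 1 := (map_one _).symm
      rw [h1, AdjoinRoot.modByMonicHom_mk, (Polynomial.modByMonic_eq_self_iff hp).mpr,
        Polynomial.coeff_one_zero]
      rw [hdeg]
      exact lt_of_le_of_lt Polynomial.degree_one_le (by norm_num)
  · have hroot : (AdjoinRoot.root p) * (AdjoinRoot.root p + AdjoinRoot.of p b) = 1 := by
      have h := AdjoinRoot.eval₂_root p
      simp only [p, Polynomial.eval₂_add, Polynomial.eval₂_mul, Polynomial.eval₂_pow,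
        Polynomial.eval₂_X, Polynomial.eval₂_C, Polynomial.eval₂_neg, Polynomial.eval₂_one,
        map_neg, map_one] at h
      linear_combination h
    refine ⟨⟨AdjoinRoot.root p + AdjoinRoot.of p b, AdjoinRoot.root p,
        by rw [mul_comm]; exact hroot, hroot⟩,
      ⟨AdjoinRoot.root p, AdjoinRoot.root p + AdjoinRoot.of p b, hroot,
        by rw [mul_comm]; exact hroot⟩, ?_⟩
    show AdjoinRoot.of p b = (AdjoinRoot.root p + AdjoinRoot.of p b) - AdjoinRoot.root p
    ring

/-- Let `F`, `G` be module-valued functors on `A`-algebras and `φ` a transformation of the underlying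
set-valued functors which is additive and satisfies `φ(uξ) = uφ(ξ)` for units `u`. If `B' ⊗_B G(B) →
G(B')` is an isomorphism for every flat `B → B'`, then `φ` is `B`-linear for every `B`, i.e. a
morphism of module-valued functors. -/
theorem result (A : Type u) [CommRing A] (F G : Adeq.MVF A)
    (φ : ∀ B : Adeq.Alg A, F.obj (Adeq.pt B) → G.obj (Adeq.pt B))
    (hnat : ∀ ⦃B B' : Adeq.Alg A⦄ (f : B ⟶ B') (x : F.obj (Adeq.pt B)),
      φ B' (F.map (Adeq.ptHom f) x) = G.map (Adeq.ptHom f) (φ B x))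
    (hadd : ∀ (B : Adeq.Alg A) (x y : F.obj (Adeq.pt B)), φ B (x + y) = φ B x + φ B y)
    (hunit : ∀ (B : Adeq.Alg A) (v : (B : Type u)ˣ) (x : F.obj (Adeq.pt B)), φ B ((v : B) • x) = (v : B) • φ B x)
    (hG : ∀ ⦃B B' : Adeq.Alg A⦄ (f : B ⟶ B'), f.hom.toRingHom.Flat → IsIso (G.bc f))
    (B : Adeq.Alg A) (b : B) (x : F.obj (Adeq.pt B)) : φ B (b • x) = b • φ B x := by
  rcases subsingleton_or_nontrivial (B : Type u) with hB | hB
  · have : Subsingleton (G.obj (Adeq.pt B)) := Module.subsingleton (B : Type u) _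
    exact Subsingleton.elim _ _
  · obtain ⟨C, f, hflat, ⟨ρ, hρ, hρ1⟩, u, v, huv⟩ := exists_cover A B b
    apply map_inj G f (hG f hflat) ρ hρ hρ1
    have e1 : F.map (Adeq.ptHom f) (b • x) =
        (f.hom b) • (F.map (Adeq.ptHom f) x : F.obj (Adeq.pt C)) :=
      F.map_smul (Adeq.ptHom f) b x
    have e2 : G.map (Adeq.ptHom f) (b • φ B x) =
        (f.hom b) • (G.map (Adeq.ptHom f) (φ B x) : G.obj (Adeq.pt C)) :=
      G.map_smul (Adeq.ptHom f) b (φ B x)
    have lin : ∀ y : F.obj (Adeq.pt C), φ C ((f.hom b) • y) = (f.hom b) • φ C y := by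
      intro y
      rw [huv]
      exact sub_units_smul F G φ hadd hunit C u v y
    have s1 : G.map (Adeq.ptHom f) (φ B (b • x)) = (f.hom b) • φ C (F.map (Adeq.ptHom f) x) :=
      ((hnat f (b • x)).symm.trans (congrArg (φ C) e1)).trans (lin _)
    have s2 : G.map (Adeq.ptHom f) (b • φ B x) = (f.hom b) • φ C (F.map (Adeq.ptHom f) x) :=
      e2.trans (congrArg (fun z : G.obj (Adeq.pt C) => (f.hom b) • z) (hnat f x).symm)
    exact s1.trans s2.symm

end Groth.Agent.S8746
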