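import Groth.Statements.S8769
import Mathlib
import Groth.Agent.S8770

set_option autoImplicit false
universe u
open PureExt

namespace Groth.Agent.S8769

open TensorProduct

theorem LPsys_of_pure {R : Type u} [CommRing R] {L N : Type u} [AddCommGroup L] [Module R L]
    [AddCommGroup N] [Module R N] (g : L →ₗ[R] N) (hg : Function.Surjective g)
    (hpure : CAlgX.UniversallyInjective R (LinearMap.ker g).subtype)
    (t s : ℕ) (a : Fin t → Fin s → R) (nb : Fin t → N) (h : ∀ l, ∑ i, a i l • nb i = 0) :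
    ∃ x' : Fin t → L, (∀ i, g (x' i) = nb i) ∧ ∀ l, ∑ i, a i l • x' i = 0 := by
  classical
  choose x hx using fun i => hg (nb i)
  have hz : ∀ l, ∑ i, a i l • x i ∈ LinearMap.ker g := by
    intro l
    rw [LinearMap.mem_ker, map_sum]
    simp only [map_smul, hx]
    exact h l
  let z : Fin s → LinearMap.ker g := fun l => ⟨∑ i, a i l • x i, hz l⟩
  let U : Submodule R (Fin s → R) :=
    Submodule.span R (Set.range fun i : Fin t => fun l => a i l)
  let eb : Fin s → ((Fin s → R) ⧸ U) := fun l => U.mkQ (Pi.single l 1)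
  have hspan : Submodule.span R (Set.range eb) = ⊤ := by
    have h1 : Submodule.span R (Set.range (Pi.basisFun R (Fin s))) = ⊤ :=
      (Pi.basisFun R (Fin s)).span_eq
    have h2 : eb = U.mkQ ∘ (Pi.basisFun R (Fin s)) := by
      funext l
      show U.mkQ (Pi.single l 1) = U.mkQ (Pi.basisFun R (Fin s) l)
      rw [Pi.basisFun_apply]
    rw [h2, Set.range_comp, ← Submodule.map_span, h1, Submodule.map_top, Submodule.range_mkQ]
  have heb : ∀ i, ∑ l, a i l • eb l = 0 := by
    intro i
    have h5 : (∑ l, a i l • (Pi.single l (1 : R) : Fin s → R)) = fun l => a i l := by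
      ext j
      simp [Pi.single_apply]
    show ∑ l, a i l • U.mkQ (Pi.single l 1) = 0
    simp only [← map_smul, ← map_sum]
    rw [h5, Submodule.mkQ_apply, Submodule.Quotient.mk_eq_zero]
    exact Submodule.subset_span ⟨i, rfl⟩
  have hw : (LinearMap.ker g).subtype.rTensor ((Fin s → R) ⧸ U) (∑ l, z l ⊗ₜ[R] eb l) = 0 := by
    rw [map_sum]
    simp only [LinearMap.rTensor_tmul, Submodule.subtype_apply]
    show ∑ l, (∑ i, a i l • x i) ⊗ₜ[R] eb l = 0
    simp only [TensorProduct.sum_tmul, TensorProduct.smul_tmul]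
    rw [Finset.sum_comm]
    simp only [← TensorProduct.tmul_sum]
    simp only [heb, TensorProduct.tmul_zero, Finset.sum_const_zero]
  have hw0 : ∑ l, z l ⊗ₜ[R] eb l = 0 :=
    (injective_iff_map_eq_zero _).1 (hpure ((Fin s → R) ⧸ U)) _ hw
  have hw1 : ∑ l, eb l ⊗ₜ[R] z l = 0 := by
    have := congrArg (TensorProduct.comm R (LinearMap.ker g) ((Fin s → R) ⧸ U)) hw0
    simpa using this
  obtain ⟨k₀, b, y, hzy, hb⟩ := TensorProduct.vanishesTrivially_of_sum_tmul_eq_zero R hspan hw1
  have hbU : ∀ j, (fun l => b l j) ∈ U := by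
    intro j
    have h5 : (∑ l, b l j • (Pi.single l (1 : R) : Fin s → R)) = fun l => b l j := by
      ext j'
      simp [Pi.single_apply]
    have h6 := hb j
    change ∑ l, b l j • U.mkQ (Pi.single l 1) = 0 at h6
    simp only [← map_smul, ← map_sum] at h6
    rw [h5, Submodule.mkQ_apply, Submodule.Quotient.mk_eq_zero] at h6
    exact h6
  have hc : ∀ j, ∃ c : Fin t → R, ∑ i, c i • (fun l => a i l) = fun l => b l j := by
    intro j
    exact (Submodule.mem_span_range_iff_exists_fun R).1 (hbU j)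
  choose c hc using hc
  have hcl : ∀ j l, ∑ i, a i l * c j i = b l j := by
    intro j l
    have := congrFun (hc j) l
    rw [Finset.sum_apply] at this
    simp only [Pi.smul_apply, smul_eq_mul] at this
    rw [← this]
    exact Finset.sum_congr rfl (fun i _ => mul_comm _ _)
  let kk : Fin t → LinearMap.ker g := fun i => ∑ j, c j i • y j
  have hkz : ∀ l, ∑ i, a i l • kk i = z l := by
    intro l
    rw [hzy l]
    show ∑ i, a i l • ∑ j, c j i • y j = _
    simp only [Finset.smul_sum, smul_smul]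
    rw [Finset.sum_comm]
    refine Finset.sum_congr rfl (fun j _ => ?_)
    rw [← Finset.sum_smul, hcl]
  refine ⟨fun i => x i - (kk i : L), ?_, ?_⟩
  · intro i
    rw [map_sub, hx, LinearMap.mem_ker.1 (kk i).2, sub_zero]
  · intro l
    simp only [smul_sub, Finset.sum_sub_distrib]
    have h7 := congrArg (LinearMap.ker g).subtype (hkz l)
    rw [map_sum] at h7
    simp only [map_smul, Submodule.subtype_apply] at h7
    rw [h7]
    exact sub_self _

theorem lift_fp {R : Type u} [CommRing R] {L N : Type u} [AddCommGroup L] [Module R L]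
    [AddCommGroup N] [Module R N] (g : L →ₗ[R] N) (hg : Function.Surjective g)
    (hpure : CAlgX.UniversallyInjective R (LinearMap.ker g).subtype)
    (F : Type u) [AddCommGroup F] [Module R F] [Module.FinitePresentation R F]
    (φ : F →ₗ[R] N) : ∃ ψ : F →ₗ[R] L, g ∘ₗ ψ = φ := by
  classical
  obtain ⟨t, Kt, e, hKfg⟩ := Module.FinitePresentation.exists_fin R F
  obtain ⟨s, rr, hrr⟩ := Submodule.fg_iff_exists_fin_generating_family.1 hKfg
  let π : (Fin t → R) →ₗ[R] F := e.symm.toLinearMap ∘ₗ Kt.mkQ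
  let nb : Fin t → N := fun i => φ (π (Pi.single i 1))
  have hπK : ∀ v ∈ Kt, π v = 0 := by
    intro v hv
    show e.symm (Kt.mkQ v) = 0
    rw [Submodule.mkQ_apply, (Submodule.Quotient.mk_eq_zero Kt).2 hv, map_zero]
  have hrel : ∀ l, ∑ i, rr l i • nb i = 0 := by
    intro l
    have h5 : (∑ i, rr l i • (Pi.single i (1 : R) : Fin t → R)) = rr l := by
      ext j
      simp [Pi.single_apply]
    show ∑ i, rr l i • φ (π (Pi.single i 1)) = 0
    simp only [← map_smul, ← map_sum]
    rw [h5, hπK _ (by rw [← hrr]; exact Submodule.subset_span ⟨l, rfl⟩), map_zero]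
  obtain ⟨x', hx'g, hx'rel⟩ := LPsys_of_pure g hg hpure t s (fun i l => rr l i) nb hrel
  have hψ0 : Kt ≤ LinearMap.ker (Fintype.linearCombination R x') := by
    intro v hv
    rw [← hrr] at hv
    refine Submodule.span_le.2 ?_ hv
    rintro _ ⟨l, rfl⟩
    rw [SetLike.mem_coe, LinearMap.mem_ker, Fintype.linearCombination_apply]
    exact hx'rel l
  have key : (g ∘ₗ Kt.liftQ (Fintype.linearCombination R x') hψ0) ∘ₗ Kt.mkQ =
      (φ ∘ₗ e.symm.toLinearMap) ∘ₗ Kt.mkQ := by
    apply (Pi.basisFun R (Fin t)).ext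
    intro i
    rw [Pi.basisFun_apply]
    show g (Fintype.linearCombination R x' (Pi.single i 1)) = φ (π (Pi.single i 1))
    rw [Fintype.linearCombination_apply_single, one_smul, hx'g]
  have key2 : g ∘ₗ Kt.liftQ (Fintype.linearCombination R x') hψ0 =
      φ ∘ₗ e.symm.toLinearMap := by
    apply LinearMap.ext
    intro v
    obtain ⟨w, rfl⟩ := Kt.mkQ_surjective v
    exact LinearMap.congr_fun key w
  refine ⟨Kt.liftQ (Fintype.linearCombination R x') hψ0 ∘ₗ e.toLinearMap, ?_⟩
  ext f
  have := LinearMap.congr_fun key2 (e f)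
  simpa using this


/-- An `R`-module `P` is pure projective (every linear map `P → N` lifts along every surjection `L → N`
for which `0 → ker → L → N → 0` is universally exact, i.e. whose kernel inclusion is universally
injective) if and only if `P` is a direct summand of a direct sum of finitely presented `R`-modules. -/
theorem result (R : Type u) [CommRing R]
    (P : Type u) [AddCommGroup P] [Module R P] :
    (∀ ⦃L N : Type u⦄ [AddCommGroup L] [Module R L] [AddCommGroup N] [Module R N] (g : L →ₗ[R] N),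
        Function.Surjective g → CAlgX.UniversallyInjective R (LinearMap.ker g).subtype →
        ∀ φ : P →ₗ[R] N, ∃ ψ : P →ₗ[R] L, g ∘ₗ ψ = φ) ↔
    ∃ (ι : Type u) (Q : ι → Type u) (_ : ∀ i, AddCommGroup (Q i)) (_ : ∀ i, Module R (Q i)),
      (∀ i, Module.FinitePresentation R (Q i)) ∧
      ∃ (s : P →ₗ[R] (Π₀ i, Q i)) (r : (Π₀ i, Q i) →ₗ[R] P), r ∘ₗ s = LinearMap.id := by
  constructor
  · intro hP
    obtain ⟨ι, Q, i1, i2, hfp, g, hg, hpure⟩ := Groth.Agent.S8770.result R P
    obtain ⟨ψ, hψ⟩ := hP g hg hpure LinearMap.id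
    exact ⟨ι, Q, i1, i2, hfp, ψ, g, hψ⟩
  · rintro ⟨ι, Q, i1, i2, hfp, s, r, hrs⟩ L N _ _ _ _ g hg hpure φ
    classical
    have hlift : ∀ i, ∃ ψi : Q i →ₗ[R] L, g ∘ₗ ψi = (φ ∘ₗ r) ∘ₗ DFinsupp.lsingle i :=
      fun i => lift_fp g hg hpure (Q i) _
    choose ψi hψi using hlift
    refine ⟨DFinsupp.lsum ℕ ψi ∘ₗ s, ?_⟩
    have h1 : g ∘ₗ DFinsupp.lsum ℕ ψi = φ ∘ₗ r := by
      apply DFinsupp.lhom_ext'
      intro i
      rw [← hψi i]
      ext v
      simp
    rw [← LinearMap.comp_assoc, h1, LinearMap.comp_assoc, hrs, LinearMap.comp_id]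

end Groth.Agent.S8769
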