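import Groth.Statements.S8781
import Mathlib
import Groth.Agent.Lib.Helper25.TangentMVF
open Groth.Agent.Lib.Helper25.TangentMVF

set_option autoImplicit false
universe u
open CategoryTheory Limits
open AdeqTF

namespace Groth.Agent.S8781

/-- Say a module-valued functor `F` on `A`-algebras has right exact tangent functors if for every
`A`-algebra `B` and every short exact sequence `0 → N₁ → N → N₂ → 0` of `B`-modules the sequence
`TF(B, N₁) → TF(B, N) → TF(B, N₂) → 0` is exact. If `0 → F → G → H → 0` is a short exact sequence of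
module-valued functors and `F`, `G` have right exact tangent functors, so does `H`. -/
theorem result (A : Type u) [CommRing A] (C : ShortComplex (Adeq.MVF A))
    (hC : C.ShortExact)
    (h₁ : (∀ (B : Adeq.Alg A) (S : ShortComplex (ModuleCat.{u} B)), S.ShortExact →
        Function.Surjective (AdeqTF.tangentMap B C.X₁ S.g) ∧
          (AdeqTF.tangentMap B C.X₁ S.g).ker = (AdeqTF.tangentMap B C.X₁ S.f).range))
    (h₂ : (∀ (B : Adeq.Alg A) (S : ShortComplex (ModuleCat.{u} B)), S.ShortExact →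
        Function.Surjective (AdeqTF.tangentMap B C.X₂ S.g) ∧
          (AdeqTF.tangentMap B C.X₂ S.g).ker = (AdeqTF.tangentMap B C.X₂ S.f).range)) :
    (∀ (B : Adeq.Alg A) (S : ShortComplex (ModuleCat.{u} B)), S.ShortExact →
        Function.Surjective (AdeqTF.tangentMap B C.X₃ S.g) ∧
          (AdeqTF.tangentMap B C.X₃ S.g).ker = (AdeqTF.tangentMap B C.X₃ S.f).range) := by
  intro Bb S hS
  haveI := hC.epi_g
  obtain ⟨hF1, hF2⟩ := h₁ Bb S hS
  obtain ⟨hG1, hG2⟩ := h₂ Bb S hS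
  constructor
  · intro h₂'
    obtain ⟨g₂, hg₂⟩ := tmap_surj Bb C.g S.X₃ h₂'
    obtain ⟨g, hg⟩ := hG1 g₂
    refine ⟨tmap Bb C.g S.X₂ g, ?_⟩
    rw [← tmap_nat Bb C.g S.g g, hg, hg₂]
  · apply le_antisymm
    · intro h hh
      rw [AddMonoidHom.mem_ker] at hh
      obtain ⟨g, rfl⟩ := tmap_surj Bb C.g S.X₂ h
      have h1 : tmap Bb C.g S.X₃ (AdeqTF.tangentMap Bb C.X₂ S.g g) = 0 := by
        rw [tmap_nat]; exact hh
      obtain ⟨f₂, hf₂⟩ := tmap_exact Bb C hC S.X₃ _ h1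
      obtain ⟨f, hf⟩ := hF1 f₂
      have h2 : AdeqTF.tangentMap Bb C.X₂ S.g (g - tmap Bb C.f S.X₂ f) = 0 := by
        rw [map_sub, ← tmap_nat Bb C.f S.g f, hf, hf₂, sub_self]
      have h3 : g - tmap Bb C.f S.X₂ f ∈ (AdeqTF.tangentMap Bb C.X₂ S.g).ker := h2
      rw [hG2] at h3
      obtain ⟨g₁, hg₁⟩ := h3
      refine ⟨tmap Bb C.g S.X₁ g₁, ?_⟩
      rw [← tmap_nat Bb C.g S.f g₁, hg₁, map_sub, tmap_zero, sub_zero]
    · rintro _ ⟨h₁', rfl⟩
      rw [AddMonoidHom.mem_ker]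
      obtain ⟨g₁, rfl⟩ := tmap_surj Bb C.g S.X₁ h₁'
      rw [← tmap_nat Bb C.g S.f g₁, ← tmap_nat Bb C.g S.g]
      have h4 : AdeqTF.tangentMap Bb C.X₂ S.g (AdeqTF.tangentMap Bb C.X₂ S.f g₁) = 0 := by
        have h5 : AdeqTF.tangentMap Bb C.X₂ S.f g₁ ∈ (AdeqTF.tangentMap Bb C.X₂ S.f).range :=
          ⟨g₁, rfl⟩
        rw [← hG2] at h5
        exact h5
      rw [h4, map_zero]

end Groth.Agent.S8781
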