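import Groth.Statements.S8782
import Mathlib
import Groth.Agent.Lib.Helper25.TangentMVF
open Groth.Agent.Lib.Helper25.TangentMVF

set_option autoImplicit false
universe u
open CategoryTheory Limits
open AdeqTF

namespace Groth.Agent.S8782

/-- If `0 → F → G → H → 0` is a short exact sequence of module-valued functors on `A`-algebras and `F`,
`H` have right exact tangent functors (for every `A`-algebra `B` and short exact `0 → N₁ → N → N₂ →
0` of `B`-modules, `T(B, N₁) → T(B, N) → T(B, N₂) → 0` is exact), so does `G`. -/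
theorem result (A : Type u) [CommRing A] (C : ShortComplex (Adeq.MVF A))
    (hC : C.ShortExact)
    (h₁ : (∀ (B : Adeq.Alg A) (S : ShortComplex (ModuleCat.{u} B)), S.ShortExact →
        Function.Surjective (AdeqTF.tangentMap B C.X₁ S.g) ∧
          (AdeqTF.tangentMap B C.X₁ S.g).ker = (AdeqTF.tangentMap B C.X₁ S.f).range))
    (h₃ : (∀ (B : Adeq.Alg A) (S : ShortComplex (ModuleCat.{u} B)), S.ShortExact →
        Function.Surjective (AdeqTF.tangentMap B C.X₃ S.g) ∧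
          (AdeqTF.tangentMap B C.X₃ S.g).ker = (AdeqTF.tangentMap B C.X₃ S.f).range)) :
    (∀ (B : Adeq.Alg A) (S : ShortComplex (ModuleCat.{u} B)), S.ShortExact →
        Function.Surjective (AdeqTF.tangentMap B C.X₂ S.g) ∧
          (AdeqTF.tangentMap B C.X₂ S.g).ker = (AdeqTF.tangentMap B C.X₂ S.f).range) := by
  intro Bb S hS
  haveI := hC.epi_g
  haveI := hC.mono_f
  obtain ⟨hF1, hF2⟩ := h₁ Bb S hS
  obtain ⟨hH1, hH2⟩ := h₃ Bb S hS
  constructor
  · intro g₂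
    obtain ⟨h, hh⟩ := hH1 (tmap Bb C.g S.X₃ g₂)
    obtain ⟨g, rfl⟩ := tmap_surj Bb C.g S.X₂ h
    have h1 : tmap Bb C.g S.X₃ (AdeqTF.tangentMap Bb C.X₂ S.g g - g₂) = 0 := by
      rw [map_sub, tmap_nat, hh, sub_self]
    obtain ⟨f₂, hf₂⟩ := tmap_exact Bb C hC S.X₃ _ h1
    obtain ⟨f, hf⟩ := hF1 f₂
    refine ⟨g - tmap Bb C.f S.X₂ f, ?_⟩
    rw [map_sub, ← tmap_nat Bb C.f S.g f, hf, hf₂]
    abel
  · apply le_antisymm
    · intro g hg
      rw [AddMonoidHom.mem_ker] at hg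
      have h1 : tmap Bb C.g S.X₂ g ∈ (AdeqTF.tangentMap Bb C.X₃ S.g).ker := by
        rw [AddMonoidHom.mem_ker, ← tmap_nat Bb C.g S.g g, hg, map_zero]
      rw [hH2] at h1
      obtain ⟨h₁', hh₁⟩ := h1
      obtain ⟨g₁, rfl⟩ := tmap_surj Bb C.g S.X₁ h₁'
      have h2 : tmap Bb C.g S.X₂ (g - AdeqTF.tangentMap Bb C.X₂ S.f g₁) = 0 := by
        rw [map_sub, tmap_nat, hh₁, sub_self]
      obtain ⟨f, hf⟩ := tmap_exact Bb C hC S.X₂ _ h2
      have h3 : tmap Bb C.f S.X₃ (AdeqTF.tangentMap Bb C.X₁ S.g f) = 0 := by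
        rw [tmap_nat, hf, map_sub, hg, tangentMap_comp_zero Bb C.X₂ S.f S.g S.zero, sub_zero]
      have h4 : AdeqTF.tangentMap Bb C.X₁ S.g f = 0 :=
        tmap_inj Bb C.f S.X₃ (by rw [h3, map_zero])
      have h5 : f ∈ (AdeqTF.tangentMap Bb C.X₁ S.g).ker := h4
      rw [hF2] at h5
      obtain ⟨f₁, hf₁⟩ := h5
      refine ⟨g₁ + tmap Bb C.f S.X₁ f₁, ?_⟩
      rw [map_add, ← tmap_nat Bb C.f S.f f₁, hf₁, hf]
      abel
    · rintro _ ⟨g₁, rfl⟩
      exact tangentMap_comp_zero Bb C.X₂ S.f S.g S.zero g₁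

end Groth.Agent.S8782
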