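import Groth.Statements.S8783


set_option autoImplicit false
universe u
open CategoryTheory Limits
open AdeqTF

namespace Groth.Agent.S8783

section Aux

variable {A : Type u} [CommRing A] (B : Adeq.Alg A)

theorem map_comp' {N N' N'' : ModuleCat.{u} B} (g : N ⟶ N') (h : N' ⟶ N'') :
    AdeqTF.map B g ≫ AdeqTF.map B h = AdeqTF.map B (g ≫ h) := by
  apply CommAlgCat.hom_ext
  refine AlgHom.ext fun x => ?_
  show TrivSqZeroExt.map h.hom (TrivSqZeroExt.map g.hom x) = TrivSqZeroExt.map (g ≫ h).hom x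
  apply TrivSqZeroExt.ext
  · rw [TrivSqZeroExt.fst_map, TrivSqZeroExt.fst_map, TrivSqZeroExt.fst_map]
  · rw [TrivSqZeroExt.snd_map, TrivSqZeroExt.snd_map, TrivSqZeroExt.snd_map]
    rfl

theorem map_id' (N : ModuleCat.{u} B) : AdeqTF.map B (𝟙 N) = 𝟙 _ := by
  apply CommAlgCat.hom_ext
  refine AlgHom.ext fun x => ?_
  show TrivSqZeroExt.map (𝟙 N : N ⟶ N).hom x = x
  apply TrivSqZeroExt.ext
  · rw [TrivSqZeroExt.fst_map]
  · rw [TrivSqZeroExt.snd_map]
    rfl

theorem map_zero' (N N' : ModuleCat.{u} B) :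
    AdeqTF.fst B N ≫ AdeqTF.inl B N' = AdeqTF.map B (0 : N ⟶ N') := by
  apply CommAlgCat.hom_ext
  refine AlgHom.ext fun x => ?_
  show (TrivSqZeroExt.inl (TrivSqZeroExt.fst x) : TrivSqZeroExt (B : Type u) N') =
    TrivSqZeroExt.map (0 : N ⟶ N').hom x
  apply TrivSqZeroExt.ext
  · rw [TrivSqZeroExt.fst_map, TrivSqZeroExt.fst_inl]
  · rw [TrivSqZeroExt.snd_map, TrivSqZeroExt.snd_inl]
    rfl

variable (F : Adeq.MVF A)

theorem tangentMap_coe {N N' : ModuleCat.{u} B} (g : N ⟶ N') (x : AdeqTF.tangent B N F) :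
    ((AdeqTF.tangentMap B F g x : AdeqTF.tangent B N' F) : F.obj (Adeq.pt (AdeqTF.ext B N'))) =
      F.map (Adeq.ptHom (AdeqTF.map B g)) x.1 := rfl

theorem tangentMap_comp {N N' N'' : ModuleCat.{u} B} (g : N ⟶ N') (h : N' ⟶ N'')
    (x : AdeqTF.tangent B N F) :
    AdeqTF.tangentMap B F h (AdeqTF.tangentMap B F g x) = AdeqTF.tangentMap B F (g ≫ h) x := by
  apply Subtype.ext
  rw [tangentMap_coe, tangentMap_coe, tangentMap_coe, ← F.map_comp_apply]
  exact F.congr_map_apply (congrArg Adeq.ptHom (map_comp' B g h)) _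

theorem tangentMap_id (N : ModuleCat.{u} B) (x : AdeqTF.tangent B N F) :
    AdeqTF.tangentMap B F (𝟙 N) x = x := by
  apply Subtype.ext
  rw [tangentMap_coe, F.congr_map_apply (congrArg Adeq.ptHom (map_id' B N))]
  change F.map (𝟙 _) x.1 = x.1
  rw [F.map_id]
  rfl

theorem tangentMap_zero (N N' : ModuleCat.{u} B) (x : AdeqTF.tangent B N F) :
    AdeqTF.tangentMap B F (0 : N ⟶ N') x = 0 := by
  apply Subtype.ext
  rw [tangentMap_coe, ← F.congr_map_apply (congrArg Adeq.ptHom (map_zero' B N N'))]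
  change F.map (Adeq.ptHom (AdeqTF.fst B N) ≫ Adeq.ptHom (AdeqTF.inl B N')) x.1 = 0
  rw [F.map_comp_apply]
  have hx : F.map (Adeq.ptHom (AdeqTF.fst B N)) x.1 = 0 := x.2
  rw [hx]
  exact (F.map (Adeq.ptHom (AdeqTF.inl B N'))).hom.map_zero

end Aux

/-- Let `F` be a module-valued functor on `A`-algebras with right exact tangent functors (for every
`A`-algebra `B` and short exact `0 → N₁ → N → N₂ → 0` of `B`-modules, `TF(B, N₁) → TF(B, N) → TF(B,
N₂) → 0` is exact). Then `TF(B, N₁ ⊕ N₂) = TF(B, N₁) ⊕ TF(B, N₂)`: the map from the product induced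
by the two inclusions is bijective. -/
theorem result (A : Type u) [CommRing A] (F : Adeq.MVF A)
    (hF : (∀ (B : Adeq.Alg A) (S : ShortComplex (ModuleCat.{u} B)), S.ShortExact →
        Function.Surjective (AdeqTF.tangentMap B F S.g) ∧
          (AdeqTF.tangentMap B F S.g).ker = (AdeqTF.tangentMap B F S.f).range))
    (B : Adeq.Alg A) (N₁ N₂ : ModuleCat.{u} B) :
    Function.Bijective ((AdeqTF.tangentMap B F (biprod.inl : N₁ ⟶ N₁ ⊞ N₂)).coprod
      (AdeqTF.tangentMap B F (biprod.inr : N₂ ⟶ N₁ ⊞ N₂))) := by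
  have hS : (ShortComplex.mk (biprod.inl : N₁ ⟶ N₁ ⊞ N₂) (biprod.snd : N₁ ⊞ N₂ ⟶ N₂)
      (by simp)).ShortExact := (ShortComplex.Splitting.ofHasBinaryBiproduct N₁ N₂).shortExact
  obtain ⟨-, hker⟩ := hF B _ hS
  constructor
  · rw [injective_iff_map_eq_zero]
    rintro ⟨x, y⟩ hxy
    rw [AddMonoidHom.coprod_apply] at hxy
    have h1 := congrArg (AdeqTF.tangentMap B F (biprod.fst : N₁ ⊞ N₂ ⟶ N₁)) hxy
    have h2 := congrArg (AdeqTF.tangentMap B F (biprod.snd : N₁ ⊞ N₂ ⟶ N₂)) hxy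
    simp only [map_add, map_zero, tangentMap_comp, biprod.inl_fst, biprod.inr_fst,
      biprod.inl_snd, biprod.inr_snd, tangentMap_id, tangentMap_zero, add_zero, zero_add] at h1 h2
    rw [h1, h2]
    rfl
  · intro z
    set y := AdeqTF.tangentMap B F (biprod.snd : N₁ ⊞ N₂ ⟶ N₂) z with hy
    have hz' : z - AdeqTF.tangentMap B F (biprod.inr : N₂ ⟶ N₁ ⊞ N₂) y ∈
        (AdeqTF.tangentMap B F (biprod.snd : N₁ ⊞ N₂ ⟶ N₂)).ker := by
      rw [AddMonoidHom.mem_ker, map_sub, tangentMap_comp, biprod.inr_snd, tangentMap_id, hy,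
        sub_self]
    rw [hker] at hz'
    obtain ⟨x, hx⟩ := hz'
    refine ⟨(x, y), ?_⟩
    rw [AddMonoidHom.coprod_apply]
    change AdeqTF.tangentMap B F (biprod.inl : N₁ ⟶ N₁ ⊞ N₂) x + _ = z
    rw [hx]
    abel

end Groth.Agent.S8783
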