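import Groth.Statements.S8806
import Groth.Agent.Lib.Helper19.JacNL

set_option autoImplicit false
universe u
open CategoryTheory
attribute [local instance] HasDerivedCategory.standard
open LCI

namespace Groth.Agent.S8806

/-- Let A be a ring, m ≤ n, f_1, …, f_m ∈ A[x_1, …, x_n], B = A[x_1, …, x_n]/(f_1, …, f_m), and g ∈ B
the image of the determinant of the m × m matrix of partial derivatives ∂f_j/∂x_i with i, j ≤ m (the
first m variables). Then: (1) for every B-module N, g annihilates Ext^1_B(NL_{B/A}, N), i.e. every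
morphism NL_{B/A} → N[1] in D(B) is killed by g; (2) if n = m then multiplication by g on NL_{B/A}
is the zero endomorphism in D(B). -/
theorem result (A : Type u) [CommRing A] (n m : ℕ) (hmn : m ≤ n) (f : Fin m → MvPolynomial (Fin n) A) : (∀ (N : Type u) [AddCommGroup N] [Module (MvPolynomial (Fin n) A ⧸ Ideal.span (Set.range f)) N] (φ : LCI.NL A (MvPolynomial (Fin n) A ⧸ Ideal.span (Set.range f)) ⟶ (Dual.inD (MvPolynomial (Fin n) A ⧸ Ideal.span (Set.range f)) N)⟦(1 : ℤ)⟧), (Ideal.Quotient.mk (Ideal.span (Set.range f)) (Matrix.det (Matrix.of (fun i j : Fin m => MvPolynomial.pderiv (Fin.castLE hmn i) (f j))))) • φ = 0) ∧ (n = m → (Ideal.Quotient.mk (Ideal.span (Set.range f)) (Matrix.det (Matrix.of (fun i j : Fin m => MvPolynomial.pderiv (Fin.castLE hmn i) (f j))))) • 𝟙 (LCI.NL A (MvPolynomial (Fin n) A ⧸ Ideal.span (Set.range f))) = 0) := by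
  classical
  obtain ⟨Pr, hPr⟩ : ∃ Pr : Algebra.Presentation A
      (MvPolynomial (Fin n) A ⧸ Ideal.span (Set.range f)) (Fin n) (Fin m),
      Pr = Algebra.Presentation.naive (v := f) := ⟨_, rfl⟩
  have hval : ∀ p : MvPolynomial (Fin n) A,
      MvPolynomial.aeval Pr.val p = Ideal.Quotient.mk (Ideal.span (Set.range f)) p := by
    intro p
    rw [← Pr.algebraMap_apply, hPr]
    rfl
  have hrel : ∀ j, Pr.relation j = f j := by
    intro j
    rw [hPr]
    rfl
  have hg : Ideal.Quotient.mk (Ideal.span (Set.range f)) (Matrix.det (Matrix.of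
      (fun i j : Fin m => MvPolynomial.pderiv (Fin.castLE hmn i) (f j)))) =
      (Groth.Agent.Lib.Helper19.JacNL.jac Pr (Fin.castLE hmn)).det := by
    rw [RingHom.map_det]
    congr 1
    ext i j
    simp only [RingHom.mapMatrix_apply, Matrix.map_apply, Matrix.of_apply,
      Groth.Agent.Lib.Helper19.JacNL.jac]
    rw [hval, hrel]
  rw [hg]
  obtain ⟨D, hD⟩ : ∃ D, D = (Groth.Agent.Lib.Helper19.JacNL.jac Pr (Fin.castLE hmn)).det :=
    ⟨_, rfl⟩
  rw [← hD]
  have e₀ : Groth.Agent.Lib.Helper19.JacNL.dE Pr.toExtension ≫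
      ModuleCat.ofHom (Groth.Agent.Lib.Helper19.JacNL.hmap Pr (Fin.castLE hmn)) =
      D • 𝟙 (ModuleCat.of _ Pr.toExtension.Cotangent) := by
    refine ModuleCat.hom_ext (LinearMap.ext fun x => ?_)
    rw [hD]
    exact Groth.Agent.Lib.Helper19.JacNL.hmap_cc Pr (Fin.castLE hmn) x
  let u₁ := (Pr.toGenerators.defaultHom (Algebra.Generators.self A
    (MvPolynomial (Fin n) A ⧸ Ideal.span (Set.range f)))).toExtensionHom
  let u₂ := ((Algebra.Generators.self A
    (MvPolynomial (Fin n) A ⧸ Ideal.span (Set.range f))).defaultHom Pr.toGenerators).toExtensionHom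
  let he := Groth.Agent.Lib.Helper19.NLHtpy.homotopyEquiv u₁ u₂
  haveI : QuasiIso he.hom := he.quasiIso_hom
  haveI : CategoryTheory.IsIso (DerivedCategory.Q.map he.hom) := inferInstance
  let i := CategoryTheory.asIso (DerivedCategory.Q.map he.hom)
  let i₀ : DerivedCategory.Q.obj (Groth.Agent.Lib.Helper19.JacNL.K Pr.toExtension) ≅
      LCI.NL A (MvPolynomial (Fin n) A ⧸ Ideal.span (Set.range f)) := i
  haveI : Module.Projective (MvPolynomial (Fin n) A ⧸ Ideal.span (Set.range f))
      Pr.toExtension.CotangentSpace := Module.Projective.of_free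
  refine ⟨?_, ?_⟩
  · intro N _ _ φ
    have h1 : D • φ = i₀.inv ≫ ((D • 𝟙 (DerivedCategory.Q.obj
        (Groth.Agent.Lib.Helper19.JacNL.K Pr.toExtension))) ≫ (i₀.hom ≫ φ)) := by
      rw [Linear.smul_comp, Category.id_comp, Linear.comp_smul, Iso.inv_hom_id_assoc]
    rw [h1, Groth.Agent.Lib.Helper19.JacNL.smul_id_comp_eq_zero Pr.toExtension D _ e₀
      (ModuleCat.of _ N) (i₀.hom ≫ φ), Limits.comp_zero]
  · intro hnm
    have hsurj : Function.Surjective (Fin.castLE hmn) := by
      intro i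
      exact ⟨⟨i.1, by omega⟩, Fin.ext rfl⟩
    have e₁ : ModuleCat.ofHom (Groth.Agent.Lib.Helper19.JacNL.hmap Pr (Fin.castLE hmn)) ≫
        Groth.Agent.Lib.Helper19.JacNL.dE Pr.toExtension =
        D • 𝟙 (ModuleCat.of _ Pr.toExtension.CotangentSpace) := by
      refine ModuleCat.hom_ext (LinearMap.ext fun x => ?_)
      rw [hD]
      exact Groth.Agent.Lib.Helper19.JacNL.cc_hmap Pr (Fin.castLE hmn) hsurj x
    have h2 := Groth.Agent.Lib.Helper19.JacNL.smul_id_eq_zero Pr.toExtension D _ e₀ e₁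
    have h3 : D • 𝟙 (LCI.NL A (MvPolynomial (Fin n) A ⧸ Ideal.span (Set.range f))) =
        i₀.inv ≫ (D • 𝟙 (DerivedCategory.Q.obj
          (Groth.Agent.Lib.Helper19.JacNL.K Pr.toExtension))) ≫ i₀.hom := by
      rw [Linear.smul_comp, Category.id_comp, Linear.comp_smul, Iso.inv_hom_id]
    rw [h3, h2, Limits.zero_comp, Limits.comp_zero]

end Groth.Agent.S8806
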