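import Groth.Statements.S8813
import Groth.Agent.Lib.Helper15.DSysMap

set_option autoImplicit false
universe u
open CategoryTheory AlgebraicGeometry
open Algz

namespace Groth.Agent.S8813

/-- Let Y be a Noetherian scheme, Z ⊆ Y a closed subset, y a point of Y and z a point of Z lying in the
closure of y. Then δ_Z(y) is at most the dimension of the local ring at z of the closure of y with
its reduced structure, that is, the Krull dimension of O_{Y,z}/𝔭 where 𝔭 is the prime ideal of the
local ring O_{Y,z} given by the point of Spec O_{Y,z} that maps to y. -/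
theorem result (Y : Scheme.{u}) [IsNoetherian Y] (Z : Set Y) (hZ : IsClosed Z) (y z : Y) (h : y ⤳ z) (hz : z ∈ Z) (P : PrimeSpectrum (Y.presheaf.stalk z)) (hP : (Y.fromSpecStalk z).base P = y) : ((Algz.deltaZ Z y : ℕ∞) : WithBot ℕ∞) ≤ ringKrullDim (↥(Y.presheaf.stalk z) ⧸ P.asIdeal) := by
  subst hP
  rw [← Groth.Agent.Lib.Helper15.DSysMap.coheight_eq_ringKrullDim_quot]
  refine WithBot.coe_le_coe.mpr ?_
  refine (Groth.Agent.Lib.Helper15.DSysMap.deltaZ_le_codimPt Z _ z h hz).trans ?_
  have hemb : Topology.IsEmbedding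
      (fun Q : PrimeSpectrum (Y.presheaf.stalk z) => (Y.fromSpecStalk z).base Q) :=
    (Y.fromSpecStalk z).isEmbedding
  have hcl : (Y.fromSpecStalk z).base (IsLocalRing.closedPoint (Y.presheaf.stalk z)) = z :=
    Scheme.fromSpecStalk_closedPoint
  have hr : Set.range
      (fun Q : PrimeSpectrum (Y.presheaf.stalk z) => (Y.fromSpecStalk z).base Q) =
      {y | y ⤳ z} := Scheme.range_fromSpecStalk
  have hgen : ∀ (y' : PrimeSpectrum (Y.presheaf.stalk z)) (x : Y),
      x ⤳ (Y.fromSpecStalk z).base y' → x ∈ Set.range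
        (fun Q : PrimeSpectrum (Y.presheaf.stalk z) => (Y.fromSpecStalk z).base Q) := by
    intro y' x hx
    rw [hr]
    have hy' : (Y.fromSpecStalk z).base y' ∈ {y | y ⤳ z} := by
      rw [← hr]; exact Set.mem_range_self y'
    exact hx.trans hy'
  have hPcl : P ⤳ IsLocalRing.closedPoint (Y.presheaf.stalk z) :=
    (PrimeSpectrum.le_iff_specializes _ _).mp (IsLocalRing.le_maximalIdeal P.isPrime.ne_top)
  have hh : (Y.fromSpecStalk z).base P ⤳
      (Y.fromSpecStalk z).base (IsLocalRing.closedPoint (Y.presheaf.stalk z)) := by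
    rw [hcl]; exact h
  have e1 := Groth.Agent.Lib.Helper15.DSysMap.codimPt_map _ hemb.isInducing hgen P
    (IsLocalRing.closedPoint _) hPcl hh
  have e2 := Groth.Agent.Lib.Helper15.DSys.codimPt_congr rfl hcl.symm h hh
  exact (le_of_eq (e2.trans e1)).trans
    (Groth.Agent.Lib.Helper15.DSysMap.codimPt_le_coheight P _ hPcl)

end Groth.Agent.S8813
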