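import Groth.Statements.S8814
import Groth.Agent.Lib.Helper15.DSysDim

set_option autoImplicit false
universe u
open CategoryTheory AlgebraicGeometry
open Algz

namespace Groth.Agent.S8814

/-- Let Y be a Noetherian scheme, Z ⊆ Y a closed subset and δ a dimension function on Y. If δ_Z(y) is a
natural number n, then δ(y) ≤ n + δ(z) for some z ∈ Z; in other words δ(y) ≤ δ_Z(y) + δ_max with
δ_max the maximum of δ on Z. -/
theorem result (Y : Scheme.{u}) [IsNoetherian Y] (Z : Set Y) (hZ : IsClosed Z) (δ : Y → ℤ) (hδ : Cyc.IsDimFun Y δ) (y : Y) (n : ℕ) (hn : Algz.deltaZ Z y = n) : ∃ z ∈ Z, δ y ≤ n + δ z := by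
  have hex : ∃ (k : ℕ) (S : Algz.DSystem Z y k), S.delta ≤ n := by
    by_contra H
    push_neg at H
    have h1 : ((n + 1 : ℕ) : ℕ∞) ≤ Algz.deltaZ Z y := by
      unfold Algz.deltaZ
      refine le_iInf₂ (fun k S => ?_)
      have h2 := Order.add_one_le_of_lt (H k S)
      exact_mod_cast h2
    rw [hn] at h1
    have h3 : n + 1 ≤ n := by exact_mod_cast h1
    omega
  obtain ⟨k, S, hS⟩ := hex
  exact ⟨S.v 0, S.start_mem, Groth.Agent.Lib.Helper15.DSysDim.delta_le δ hδ S n hS⟩

end Groth.Agent.S8814
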