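import Groth.Statements.S8819


set_option autoImplicit false
universe u
open scoped BigOperators
open LocCoh

namespace Groth.Agent.S8819

section Aux

variable {A : Type u} [CommRing A] {r : ℕ} (I : Ideal A) (c : ℕ) (φ : Fin r → (↥(I ^ c) →ₗ[A] A))

open Classical in
/-- `φ j` extended by zero. -/
noncomputable def ph (j : Fin r) (g : A) : A := if h : g ∈ I ^ c then φ j ⟨g, h⟩ else 0

theorem ph_of_mem (j : Fin r) {g : A} (h : g ∈ I ^ c) : ph I c φ j g = φ j ⟨g, h⟩ := dif_pos h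

theorem ph_add (j : Fin r) {g h : A} (hg : g ∈ I ^ c) (hh : h ∈ I ^ c) :
    ph I c φ j (g + h) = ph I c φ j g + ph I c φ j h := by
  rw [ph_of_mem I c φ j hg, ph_of_mem I c φ j hh, ph_of_mem I c φ j (Ideal.add_mem _ hg hh),
    ← map_add]
  rfl

theorem ph_mul (j : Fin r) (a : A) {g : A} (hg : g ∈ I ^ c) :
    ph I c φ j (a * g) = a * ph I c φ j g := by
  rw [ph_of_mem I c φ j hg, ph_of_mem I c φ j (Ideal.mul_mem_left _ a hg),
    ← smul_eq_mul a (φ j _), ← map_smul]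
  rfl

theorem ph_mem (j : Fin r) (n : ℕ) {g : A} (hg : g ∈ I ^ (n * c + c)) :
    g ∈ I ^ c ∧ ph I c φ j g ∈ I ^ (n * c) := by
  rw [pow_add] at hg
  refine Submodule.mul_induction_on hg ?_ ?_
  · intro a ha h hh
    refine ⟨Ideal.mul_mem_left _ a hh, ?_⟩
    rw [ph_mul I c φ j a hh]
    exact Ideal.mul_mem_right _ _ ha
  · intro x y hx hy
    refine ⟨Ideal.add_mem _ hx.1 hy.1, ?_⟩
    rw [ph_add I c φ j hx.1 hy.1]
    exact Ideal.add_mem _ hx.2 hy.2

/-- The graded map. -/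
noncomputable def Phi : ℕ → A → MvPolynomial (Fin r) A
  | 0, a => MvPolynomial.C a
  | (n + 1), g => ∑ j, MvPolynomial.X j * Phi n (ph I c φ j g)

theorem Phi_zero (a : A) : Phi I c φ 0 a = MvPolynomial.C a := rfl

theorem Phi_succ (n : ℕ) (g : A) :
    Phi I c φ (n + 1) g = ∑ j, MvPolynomial.X j * Phi I c φ n (ph I c φ j g) := rfl

theorem Phi_add : ∀ (n : ℕ) (g h : A), g ∈ I ^ (n * c) → h ∈ I ^ (n * c) →
    Phi I c φ n (g + h) = Phi I c φ n g + Phi I c φ n h := by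
  intro n
  induction n with
  | zero => intro g h _ _; simp only [Phi_zero, map_add]
  | succ n ih =>
    intro g h hg hh
    rw [Nat.succ_mul] at hg hh
    simp only [Phi_succ]
    rw [← Finset.sum_add_distrib]
    apply Finset.sum_congr rfl
    intro j _
    have h1 := ph_mem I c φ j n hg
    have h2 := ph_mem I c φ j n hh
    rw [ph_add I c φ j h1.1 h2.1, ih _ _ h1.2 h2.2, mul_add]

theorem Phi_smul : ∀ (n : ℕ) (a g : A), g ∈ I ^ (n * c) →
    Phi I c φ n (a * g) = a • Phi I c φ n g := by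
  intro n
  induction n with
  | zero =>
    intro a g _
    simp only [Phi_zero, map_mul, MvPolynomial.smul_eq_C_mul]
  | succ n ih =>
    intro a g hg
    rw [Nat.succ_mul] at hg
    simp only [Phi_succ]
    rw [Finset.smul_sum]
    apply Finset.sum_congr rfl
    intro j _
    have h1 := ph_mem I c φ j n hg
    rw [ph_mul I c φ j a h1.1, ih _ _ h1.2, mul_smul_comm]

theorem Phi_hom : ∀ (n : ℕ) (g : A), (Phi I c φ n g).IsHomogeneous n := by
  intro n
  induction n with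
  | zero => intro g; exact MvPolynomial.isHomogeneous_C _ _
  | succ n ih =>
    intro g
    rw [Phi_succ]
    apply MvPolynomial.IsHomogeneous.sum
    intro j _
    have := (MvPolynomial.isHomogeneous_X A j).mul (ih (ph I c φ j g))
    rwa [Nat.add_comm] at this

theorem Phi_mul : ∀ (n m : ℕ) (g h : A), g ∈ I ^ (n * c) → h ∈ I ^ (m * c) →
    Phi I c φ (n + m) (g * h) = Phi I c φ n g * Phi I c φ m h := by
  intro n
  induction n with
  | zero =>
    intro m g h _ hh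
    rw [Nat.zero_add, Phi_smul I c φ m g h hh, Phi_zero, MvPolynomial.smul_eq_C_mul]
  | succ n ih =>
    intro m g h hg hh
    rw [Nat.succ_mul] at hg
    rw [show n + 1 + m = n + m + 1 by omega, Phi_succ, Phi_succ, Finset.sum_mul]
    apply Finset.sum_congr rfl
    intro j _
    have h1 := ph_mem I c φ j n hg
    rw [mul_comm g h, ph_mul I c φ j h h1.1, mul_comm h, ih m _ h h1.2 hh, mul_assoc]

theorem Phi_one (g : A) (hg : g ∈ I ^ c) :
    Phi I c φ 1 g = ∑ j, MvPolynomial.C (φ j ⟨g, hg⟩) * MvPolynomial.X j := by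
  rw [Phi_succ]
  apply Finset.sum_congr rfl
  intro j _
  rw [Phi_zero, ph_of_mem I c φ j hg, mul_comm]

theorem Phi_aeval (f : Fin r → A) (hφ : ∀ x : ↥(I ^ c), (x : A) = ∑ j, f j * φ j x) :
    ∀ (n : ℕ) (g : A), g ∈ I ^ (n * c) → MvPolynomial.aeval f (Phi I c φ n g) = g := by
  intro n
  induction n with
  | zero =>
    intro g _
    rw [Phi_zero, MvPolynomial.aeval_C]
    rfl
  | succ n ih =>
    intro g hg
    rw [Nat.succ_mul] at hg
    rw [Phi_succ, map_sum]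
    have hgc : g ∈ I ^ c := Ideal.pow_le_pow_right (Nat.le_add_left c (n * c)) hg
    have := hφ ⟨g, hgc⟩
    change g = _ at this
    conv_rhs => rw [this]
    apply Finset.sum_congr rfl
    intro j _
    have h1 := ph_mem I c φ j n hg
    rw [map_mul, MvPolynomial.aeval_X, ih _ h1.2, ph_of_mem I c φ j hgc]

end Aux

/-- Let A be a Noetherian ring, f_1, …, f_r ∈ A and I = (f_1, …, f_r) with cd(A, I) = 1; let c ≥ 1 and
let φ_j : I^c → A be A-linear maps with x = Σ_j f_j φ_j(x) for all x ∈ I^c. Under these assumptions,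
exactly one homomorphism of graded A-algebras, from ⊕_{n ≥ 0} I^{nc} into the polynomial ring A[T_1,
…, T_r], exists that sends each g ∈ I^c to Σ_j φ_j(g) T_j; call it Φ. Here Φ is encoded by functions
Φ_n : A → A[T_1, …, T_r] whose values on I^{nc} are A-linear, homogeneous of degree n,
multiplicative (Φ_{n+m}(gh) = Φ_n(g)Φ_m(h)), with Φ_0 the structure map and Φ_1 as prescribed;
uniqueness is asserted for the values on the I^{nc}. Moreover substituting T_j ↦ f_j in Φ_n(g) gives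
back g for every g ∈ I^{nc}. -/
theorem result (A : Type u) [CommRing A] [IsNoetherianRing A] (r : ℕ) (f : Fin r → A) (I : Ideal A) (hI : I = Ideal.span (Set.range f)) (h1 : LocCoh.CdLE A I 1) (h0 : ¬ LocCoh.CdLE A I 0) (c : ℕ) (hc : 1 ≤ c) (φ : Fin r → (↥(I ^ c) →ₗ[A] A)) (hφ : ∀ x : ↥(I ^ c), (x : A) = ∑ j, f j * φ j x) : ∃ Φ : ℕ → A → MvPolynomial (Fin r) A, (((∀ n : ℕ, ∀ g ∈ I ^ (n * c), ∀ h ∈ I ^ (n * c), Φ n (g + h) = Φ n g + Φ n h) ∧ (∀ (n : ℕ) (a : A), ∀ g ∈ I ^ (n * c), Φ n (a * g) = a • Φ n g) ∧ (∀ n : ℕ, ∀ g ∈ I ^ (n * c), (Φ n g).IsHomogeneous n) ∧ (∀ n m : ℕ, ∀ g ∈ I ^ (n * c), ∀ h ∈ I ^ (m * c), Φ (n + m) (g * h) = Φ n g * Φ m h) ∧ (∀ a : A, Φ 0 a = MvPolynomial.C a) ∧ (∀ (g : A) (hg : g ∈ I ^ c), Φ 1 g = ∑ j, MvPolynomial.C (φ j ⟨g, hg⟩) * MvPolynomial.X j)) ∧ ∀ n : ℕ, ∀ g ∈ I ^ (n * c), MvPolynomial.aeval f (Φ n g) = g) ∧ ∀ Ψ : ℕ → A → MvPolynomial (Fin r) A, ((∀ n : ℕ, ∀ g ∈ I ^ (n * c), ∀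 h ∈ I ^ (n * c), Ψ n (g + h) = Ψ n g + Ψ n h) ∧ (∀ (n : ℕ) (a : A), ∀ g ∈ I ^ (n * c), Ψ n (a * g) = a • Ψ n g) ∧ (∀ n : ℕ, ∀ g ∈ I ^ (n * c), (Ψ n g).IsHomogeneous n) ∧ (∀ n m : ℕ, ∀ g ∈ I ^ (n * c), ∀ h ∈ I ^ (m * c), Ψ (n + m) (g * h) = Ψ n g * Ψ m h) ∧ (∀ a : A, Ψ 0 a = MvPolynomial.C a) ∧ (∀ (g : A) (hg : g ∈ I ^ c), Ψ 1 g = ∑ j, MvPolynomial.C (φ j ⟨g, hg⟩) * MvPolynomial.X j)) → ∀ n : ℕ, ∀ g ∈ I ^ (n * c), Ψ n g = Φ n g := by
  refine ⟨Phi I c φ, ⟨⟨?_, ?_, ?_, ?_, ?_, ?_⟩, ?_⟩, ?_⟩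
  · exact fun n g hg h hh => Phi_add I c φ n g h hg hh
  · exact fun n a g hg => Phi_smul I c φ n a g hg
  · exact fun n g _ => Phi_hom I c φ n g
  · exact fun n m g hg h hh => Phi_mul I c φ n m g h hg hh
  · exact fun a => Phi_zero I c φ a
  · exact fun g hg => Phi_one I c φ g hg
  · exact fun n g hg => Phi_aeval I c φ f hφ n g hg
  · rintro Ψ ⟨hΨ1, -, -, hΨ4, hΨ5, hΨ6⟩
    intro n
    induction n with
    | zero => intro g _; rw [hΨ5, Phi_zero]
    | succ n ih =>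
      intro g hg
      have hg' : g ∈ I ^ (n * c) * I ^ c := by
        rw [← pow_add, ← Nat.succ_mul]; exact hg
      have key : g ∈ I ^ ((n + 1) * c) ∧ Ψ (n + 1) g = Phi I c φ (n + 1) g := by
        refine Submodule.mul_induction_on hg' ?_ ?_
        · intro a ha h hh
          have hh1 : h ∈ I ^ (1 * c) := by rw [one_mul]; exact hh
          refine ⟨?_, ?_⟩
          · rw [Nat.succ_mul, pow_add]; exact Ideal.mul_mem_mul ha hh
          · rw [hΨ4 n 1 a ha h hh1, Phi_mul I c φ n 1 a h ha hh1, ih a ha, hΨ6 h hh,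
              Phi_one I c φ h hh]
        · intro x y hx hy
          refine ⟨Ideal.add_mem _ hx.1 hy.1, ?_⟩
          rw [hΨ1 (n + 1) x hx.1 y hy.1, Phi_add I c φ (n + 1) x y hx.1 hy.1, hx.2, hy.2]
      exact key.2

end Groth.Agent.S8819
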