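import Groth.Statements.S8834
import Mathlib

set_option autoImplicit false
universe u
open AdicRing

namespace Groth.Agent.S8834

/-- Successive approximation: if a subalgebra `C` surjects onto `B/R` and hits `R` modulo `R²`,
then it is dense for the `R`-adic topology. -/
theorem dense_of_approx {A B : Type*} [CommRing A] [CommRing B] [Algebra A B]
    (C : Subalgebra A B) (R : Ideal B)
    (h1 : ∀ y : B, ∃ q ∈ C, y - q ∈ R)
    (h2 : ∀ r ∈ R, ∃ q ∈ C, q ∈ R ∧ r - q ∈ R ^ 2) :
    ∀ (n : ℕ) (y : B), ∃ p ∈ C, y - p ∈ R ^ n := by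
  have hQ : ∀ (n : ℕ) (z : B), z ∈ R ^ n → ∃ q ∈ C, q ∈ R ^ n ∧ z - q ∈ R ^ (n + 1) := by
    intro n
    induction n with
    | zero =>
      intro z _
      obtain ⟨q, hq, hzq⟩ := h1 z
      exact ⟨q, hq, by simp, by simpa using hzq⟩
    | succ n ih =>
      intro z hz
      rw [pow_succ] at hz
      refine Submodule.mul_induction_on hz ?_ ?_
      · intro u hu r hr
        obtain ⟨q, hqC, hqR, huq⟩ := ih u hu
        obtain ⟨q', hq'C, hq'R, hrq'⟩ := h2 r hr
        refine ⟨q * q', C.mul_mem hqC hq'C, ?_, ?_⟩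
        · rw [pow_succ]; exact Ideal.mul_mem_mul hqR hq'R
        · have e : u * r - q * q' = q * (r - q') + (u - q) * r := by ring
          rw [e]
          apply Ideal.add_mem
          · have : q * (r - q') ∈ R ^ n * R ^ 2 := Ideal.mul_mem_mul hqR hrq'
            rwa [← pow_add] at this
          · have : (u - q) * r ∈ R ^ (n + 1) * R := Ideal.mul_mem_mul huq hr
            rwa [← pow_succ] at this
      · rintro a b ⟨qa, hqaC, hqaR, ha⟩ ⟨qb, hqbC, hqbR, hb⟩
        refine ⟨qa + qb, C.add_mem hqaC hqbC, Ideal.add_mem _ hqaR hqbR, ?_⟩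
        have e : a + b - (qa + qb) = (a - qa) + (b - qb) := by ring
        rw [e]
        exact Ideal.add_mem _ ha hb
  intro n
  induction n with
  | zero => intro y; exact ⟨0, C.zero_mem, by simp⟩
  | succ n ih =>
    intro y
    obtain ⟨p, hpC, hyp⟩ := ih y
    obtain ⟨q, hqC, -, hq⟩ := hQ n (y - p) hyp
    refine ⟨p + q, C.add_mem hpC hqC, ?_⟩
    have e : y - (p + q) = y - p - q := by ring
    rw [e]; exact hq

/-- Let A be a Noetherian ring complete for the adic topology of an ideal I and B a Noetherian ring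
complete for the adic topology of an ideal J, with an algebra map A → B sending I into the radical
of J (a continuous homomorphism of adic Noetherian topological rings; the radicals of I and J are
the ideals of topologically nilpotent elements). Assume B/√J is of finite type over A, equivalently
over A/√I. Then B is topologically of finite type over A: there are b_1, …, b_s ∈ B such that the
A-algebra map A[x_1, …, x_s] → B with x_i ↦ b_i has dense image for the J-adic topology, that is,
for every y ∈ B and every n there is a polynomial whose value at b differs from y by an element of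
J^n. -/
theorem result (A : Type u) [CommRing A] [IsNoetherianRing A] (I : Ideal A) [IsAdicComplete I A] (B : Type u) [CommRing B] [Algebra A B] [IsNoetherianRing B] (J : Ideal B) [IsAdicComplete J B] (hIJ : I.map (algebraMap A B) ≤ J.radical) (hft : Algebra.FiniteType A (B ⧸ J.radical)) : ∃ s : ℕ, ∃ b : Fin s → B, ∀ (y : B) (n : ℕ), ∃ p : MvPolynomial (Fin s) A, y - MvPolynomial.aeval b p ∈ J ^ n := by
  classical
  set R : Ideal B := J.radical with hR
  -- generators of `R`
  have hRfg : R.FG := IsNoetherian.noetherian R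
  obtain ⟨T, hT⟩ := hRfg
  -- `R ^ N ≤ J`
  obtain ⟨N, hN⟩ := Ideal.exists_radical_pow_le_of_fg J (IsNoetherian.noetherian J.radical)
  -- generators of `B ⧸ R`
  obtain ⟨T', hT'⟩ := hft.out
  have hsurj : Function.Surjective (Ideal.Quotient.mkₐ A R) := Ideal.Quotient.mkₐ_surjective A R
  -- lift `T'` to `B`
  choose! lift hlift using hsurj
  let G : Finset B := T'.image lift ∪ T
  let C : Subalgebra A B := Algebra.adjoin A (G : Set B)
  have hGC : ∀ g ∈ G, g ∈ C := fun g hg => Algebra.subset_adjoin hg
  have h1 : ∀ y : B, ∃ q ∈ C, y - q ∈ R := by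
    intro y
    have hy : Ideal.Quotient.mkₐ A R y ∈ Algebra.adjoin A (T' : Set (B ⧸ R)) := by
      rw [hT']; trivial
    have hle : Algebra.adjoin A (T' : Set (B ⧸ R)) ≤ C.map (Ideal.Quotient.mkₐ A R) := by
      apply Algebra.adjoin_le
      intro t ht
      refine ⟨lift t, hGC _ ?_, hlift t⟩
      exact Finset.mem_union_left _ (Finset.mem_image_of_mem _ ht)
    obtain ⟨q, hqC, hq⟩ := hle hy
    refine ⟨q, hqC, ?_⟩
    have : Ideal.Quotient.mk R (y - q) = 0 := by
      rw [map_sub]
      have hq' : Ideal.Quotient.mk R q = Ideal.Quotient.mk R y := hq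
      rw [hq', sub_self]
    exact Ideal.Quotient.eq_zero_iff_mem.mp this
  have h2 : ∀ r ∈ R, ∃ q ∈ C, q ∈ R ∧ r - q ∈ R ^ 2 := by
    intro r hr
    rw [← hT] at hr
    refine Submodule.span_induction ?_ ?_ ?_ ?_ hr
    · intro t ht
      refine ⟨t, hGC _ (Finset.mem_union_right _ ht), ?_, by simp⟩
      rw [← hT]; exact Ideal.subset_span ht
    · exact ⟨0, C.zero_mem, R.zero_mem, by simp⟩
    · rintro a b _ _ ⟨qa, hqaC, hqaR, ha⟩ ⟨qb, hqbC, hqbR, hb⟩
      refine ⟨qa + qb, C.add_mem hqaC hqbC, R.add_mem hqaR hqbR, ?_⟩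
      have e : a + b - (qa + qb) = (a - qa) + (b - qb) := by ring
      rw [e]; exact Ideal.add_mem _ ha hb
    · rintro β a _ ⟨qa, hqaC, hqaR, ha⟩
      obtain ⟨q0, hq0C, hq0⟩ := h1 β
      refine ⟨q0 * qa, C.mul_mem hq0C hqaC, R.mul_mem_left _ hqaR, ?_⟩
      have e : β • a - q0 * qa = β * (a - qa) + (β - q0) * qa := by
        rw [smul_eq_mul]; ring
      rw [e]
      apply Ideal.add_mem
      · exact Ideal.mul_mem_left _ _ ha
      · rw [pow_two]; exact Ideal.mul_mem_mul hq0 hqaR
  have hdense := dense_of_approx C R h1 h2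
  -- now enumerate `G`
  refine ⟨G.card, fun i => (G.equivFin.symm i : B), ?_⟩
  intro y n
  obtain ⟨p, hpC, hyp⟩ := hdense (N * n) y
  have hrange : Set.range (fun i => (G.equivFin.symm i : B)) = (G : Set B) := by
    ext g
    constructor
    · rintro ⟨i, rfl⟩; exact (G.equivFin.symm i).2
    · intro hg; exact ⟨G.equivFin ⟨g, hg⟩, by simp⟩
  have hpC' : p ∈ Algebra.adjoin A (Set.range (fun i => (G.equivFin.symm i : B))) := by
    rw [hrange]; exact hpC
  rw [Algebra.adjoin_range_eq_range_aeval] at hpC'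
  obtain ⟨P, rfl⟩ := hpC'
  refine ⟨P, ?_⟩
  have : R ^ (N * n) ≤ J ^ n := by
    rw [pow_mul]; exact Ideal.pow_right_mono hN n
  exact this hyp

end Groth.Agent.S8834
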