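import Groth.Statements.S8836
import Groth.Agent.S8804
import Groth.Agent.Lib.Helper15.ComplSemilocal

set_option autoImplicit false
universe u
open AdicRing

namespace Groth.Agent.S8836

/-- Let A be a Noetherian ring complete for the adic topology of an ideal I, and B a Noetherian
A-algebra complete for the IB-adic topology, flat over A, with B/IB of finite type over A (a flat
adic morphism, topologically of finite type, of adic Noetherian topological rings). Let p be a prime
of A which is rig-closed (I ⊄ p and p maximal among the primes not containing I). The following are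
equivalent: (1) the maximal ideal of the local ring A/p lies in the image of Spec(B/√(IB)) →
Spec(A/√I), stated as: some prime Q of B containing IB lies over a maximal ideal of A containing p;
(2) there is a rig-closed prime q of B (IB ⊄ q, q maximal among the primes not containing IB) whose
inverse image in A is p. (The published statement adds that, when these hold, A/p ⊆ B/q is a finite
extension of rings and the residue field of the local ring B/q is finite over A/√I; this is not
restated here.) -/
theorem result (A : Type u) [CommRing A] [IsNoetherianRing A] (I : Ideal A) [IsAdicComplete I A] (B : Type u) [CommRing B] [Algebra A B] [IsNoetherianRing B] [IsAdicComplete (I.map (algebraMap A B)) B] (hft : Algebra.FiniteType A (B ⧸ (I.map (algebraMap A B)))) [Module.Flat A B] (p : PrimeSpectrum A) (hp : (¬ I ≤ p.asIdeal ∧ ∀ y : PrimeSpectrum A, p ≤ y → ¬ I ≤ y.asIdeal → y = p)) : (∃ Q : PrimeSpectrum B, (I.map (algebraMap A B)) ≤ Q.asIdeal ∧ p.asIdeal ≤ (PrimeSpectrum.comap (algebraMap A B) Q).asIdeal ∧ (PrimeSpectrum.comap (algebraMap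 A B) Q).asIdeal.IsMaximal) ↔ (∃ q : PrimeSpectrum B, (¬ (I.map (algebraMap A B)) ≤ q.asIdeal ∧ ∀ y : PrimeSpectrum B, q ≤ y → ¬ (I.map (algebraMap A B)) ≤ y.asIdeal → y = q) ∧ PrimeSpectrum.comap (algebraMap A B) q = p) := by
  haveI := p.isPrime
  have hjacB : I.map (algebraMap A B) ≤ Ideal.jacobson ⊥ := IsAdicComplete.le_jacobson_bot _
  constructor
  · rintro ⟨Q, hIQ, hpQ, hQmax⟩
    haveI := Q.isPrime
    haveI : (Q.asIdeal.comap (algebraMap A B)).IsPrime := Ideal.comap_isPrime _ _
    haveI : Q.asIdeal.LiesOver (Q.asIdeal.comap (algebraMap A B)) := ⟨rfl⟩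
    obtain ⟨q', hq'Q, hq'prime, hq'over⟩ :=
      Ideal.exists_ideal_le_liesOver_of_le (p := p.asIdeal)
        (q := Q.asIdeal.comap (algebraMap A B)) Q.asIdeal hpQ
    haveI := hq'prime
    have hq'p : q'.comap (algebraMap A B) = p.asIdeal := hq'over.over.symm
    have hIq' : ¬ I.map (algebraMap A B) ≤ q' := fun h =>
      hp.1 (by rw [← hq'p]; exact Ideal.map_le_iff_le_comap.mp h)
    obtain ⟨q, ⟨hqprime, hq'q, hIq⟩, hqmax⟩ :=
      (set_has_maximal_iff_noetherian (R := B) (M := B)).mpr inferInstance
        {y : Ideal B | y.IsPrime ∧ q' ≤ y ∧ ¬ I.map (algebraMap A B) ≤ y}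
        ⟨q', hq'prime, le_rfl, hIq'⟩
    refine ⟨⟨q, hqprime⟩, ⟨hIq, fun y hqy hIy => ?_⟩, ?_⟩
    · have hqy' : q ≤ y.asIdeal := hqy
      have hnlt := hqmax y.asIdeal ⟨y.isPrime, hq'q.trans hqy', hIy⟩
      apply PrimeSpectrum.ext
      show y.asIdeal = q
      exact (eq_of_le_of_not_lt hqy' hnlt).symm
    · apply hp.2
      · show p.asIdeal ≤ Ideal.comap (algebraMap A B) q
        rw [← hq'p]
        exact Ideal.comap_mono hq'q
      · intro h
        exact hIq (Ideal.map_le_iff_le_comap.mpr h)
  · rintro ⟨q, hq, hqp⟩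
    subst hqp
    haveI := q.isPrime
    obtain ⟨m, hm, hqm⟩ := Ideal.exists_le_maximal q.asIdeal q.isPrime.ne_top
    haveI := hm
    have hIBm : I.map (algebraMap A B) ≤ m := hjacB.trans (sInf_le ⟨bot_le, hm⟩)
    have hIn : I ≤ m.comap (algebraMap A B) := Ideal.map_le_iff_le_comap.mp hIBm
    have hpn : q.asIdeal.comap (algebraMap A B) ≤ m.comap (algebraMap A B) :=
      Ideal.comap_mono hqm
    have hne : m.comap (algebraMap A B) ≠ q.asIdeal.comap (algebraMap A B) := fun h =>
      hp.1 (by
        show I ≤ q.asIdeal.comap (algebraMap A B)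
        rw [← h]
        exact hIn)
    have h21 := ((Groth.Agent.S8804.result A I (PrimeSpectrum.comap (algebraMap A B) q)).out 0 1).mp hp
    have hdim : ringKrullDim (A ⧸ q.asIdeal.comap (algebraMap A B)) = 1 := h21.1
    haveI : (q.asIdeal.comap (algebraMap A B)).IsPrime := inferInstance
    haveI : (m.comap (algebraMap A B)).IsPrime := inferInstance
    have hnmax : (m.comap (algebraMap A B)).IsMaximal :=
      Groth.Agent.Lib.Helper15.ComplSemilocal.isMaximal_of_ne_of_dim_one _ _ hdim hpn hne
    exact ⟨⟨m, hm.isPrime⟩, hIBm, hpn, hnmax⟩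

end Groth.Agent.S8836
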