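import Groth.Statements.S8838
import Groth.Agent.Lib.Helper27.RigEt
open Groth.Agent.Lib.Helper27

set_option autoImplicit false
universe u
open AdicRing

namespace Groth.Agent.S8838

/-- Suppose A is a Noetherian ring that is I-adically complete for an ideal I, and B is a Noetherian
A-algebra that is complete with respect to the IB-adic topology, with B/IB of finite type over A (so
A → B is an adic morphism of adic Noetherian topological rings that is topologically of finite
type). Assume further that A → B is flat and that the induced map A/I → B/IB is étale (with I as the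
chosen ideal of definition). Consider a prime q of B that is rig-closed (q does not contain IB, and
q is maximal among primes of B not containing IB), and suppose its preimage p in A is rig-closed as
well (p does not contain I, and p is maximal among primes of A not containing I). Then the extension
of p to the localization B_q equals its maximal ideal, that is, p B_q = q B_q. -/
theorem result (A : Type u) [CommRing A] [IsNoetherianRing A] (I : Ideal A) [IsAdicComplete I A] (B : Type u) [CommRing B] [Algebra A B] [IsNoetherianRing B] [IsAdicComplete (I.map (algebraMap A B)) B] (hft : Algebra.FiniteType A (B ⧸ (I.map (algebraMap A B)))) [Module.Flat A B] [Algebra.Etale (A ⧸ I) (B ⧸ (I.map (algebraMap A B)))] (q : PrimeSpectrum B) (hq : (¬ (I.map (algebraMap A B)) ≤ q.asIdeal ∧ ∀ y : PrimeSpectrum B, q ≤ y → ¬ (I.map (algebraMap A B)) ≤ y.asIdeal → y = q)) (hp : (¬ I ≤ (PrimeSpectrum.comap (algebraMap A B) q).asIdeal ∧ ∀ y : PrimeSpectrum A, (PrimeSpectrum.comap (algebraMap A B) q) ≤ y → ¬ I ≤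 y.asIdeal → y = (PrimeSpectrum.comap (algebraMap A B) q))) : ((PrimeSpectrum.comap (algebraMap A B) q).asIdeal.map (algebraMap A B)).map (algebraMap B (Localization.AtPrime q.asIdeal)) = IsLocalRing.maximalIdeal (Localization.AtPrime q.asIdeal) := by
  classical
  haveI := q.isPrime
  obtain ⟨p, hpdef⟩ : ∃ p : PrimeSpectrum A, p = PrimeSpectrum.comap (algebraMap A B) q := ⟨_, rfl⟩
  rw [← hpdef] at hp ⊢
  haveI := p.isPrime
  have hpq : p.asIdeal = q.asIdeal.comap (algebraMap A B) := by rw [hpdef]; rfl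
  have hpBq : p.asIdeal.map (algebraMap A B) ≤ q.asIdeal := by
    rw [Ideal.map_le_iff_le_comap, hpq]
  haveI hArt := RigEt.isArtinianRing_quot_sup I p hp
  have hIJ : I.map (algebraMap A B) ≤ (p.asIdeal ⊔ I).map (algebraMap A B) :=
    Ideal.map_mono le_sup_right
  haveI : Algebra.FormallyUnramified A (B ⧸ I.map (algebraMap A B)) :=
    Algebra.FormallyUnramified.comp A (A ⧸ I) _
  haveI hT0unr : Algebra.FormallyUnramified A (B ⧸ (p.asIdeal ⊔ I).map (algebraMap A B)) :=
    Algebra.FormallyUnramified.of_surjective (Ideal.Quotient.factorₐ A hIJ)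
      (Ideal.Quotient.factor_surjective hIJ)
  haveI := hft
  haveI hT0ft : Algebra.FiniteType A (B ⧸ (p.asIdeal ⊔ I).map (algebraMap A B)) :=
    Algebra.FiniteType.of_surjective (Ideal.Quotient.factorₐ A hIJ)
      (Ideal.Quotient.factor_surjective hIJ)
  haveI : Algebra.QuasiFinite A (B ⧸ (p.asIdeal ⊔ I).map (algebraMap A B)) := inferInstance
  haveI : Algebra.QuasiFinite (A ⧸ (p.asIdeal ⊔ I))
      (B ⧸ (p.asIdeal ⊔ I).map (algebraMap A B)) := Algebra.QuasiFinite.of_restrictScalars A _ _
  haveI : Module.Finite (A ⧸ (p.asIdeal ⊔ I)) (B ⧸ (p.asIdeal ⊔ I).map (algebraMap A B)) :=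
    Module.Finite.of_quasiFinite
  haveI hT0fin : Module.Finite A (B ⧸ (p.asIdeal ⊔ I).map (algebraMap A B)) :=
    Module.Finite.trans (A ⧸ (p.asIdeal ⊔ I)) _
  -- the ring `S = B / pB`
  have hAS : ∀ a : A, algebraMap A (B ⧸ p.asIdeal.map (algebraMap A B)) a =
      Ideal.Quotient.mk _ (algebraMap A B a) := fun a => rfl
  have hker0 : ∀ x ∈ (p.asIdeal ⊔ I).map (algebraMap A B),
      ((Ideal.Quotient.mkₐ A (I.map (algebraMap A (B ⧸ p.asIdeal.map (algebraMap A B))))).comp
        (Ideal.Quotient.mkₐ A (p.asIdeal.map (algebraMap A B)))) x = 0 := by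
    intro x hx
    have hle : (p.asIdeal ⊔ I).map (algebraMap A B) ≤ RingHom.ker
        (((Ideal.Quotient.mkₐ A (I.map (algebraMap A (B ⧸ p.asIdeal.map (algebraMap A B))))).comp
        (Ideal.Quotient.mkₐ A (p.asIdeal.map (algebraMap A B)))).toRingHom) := by
      rw [Ideal.map_le_iff_le_comap]
      intro a ha
      rw [Ideal.mem_comap, RingHom.mem_ker]
      obtain ⟨a₁, ha₁, a₂, ha₂, rfl⟩ := Submodule.mem_sup.mp ha
      rw [map_add, map_add]
      have e1 : (Ideal.Quotient.mkₐ A (p.asIdeal.map (algebraMap A B))) (algebraMap A B a₁) = 0 :=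
        Ideal.Quotient.eq_zero_iff_mem.mpr (Ideal.mem_map_of_mem _ ha₁)
      have e2 : ((Ideal.Quotient.mkₐ A
          (I.map (algebraMap A (B ⧸ p.asIdeal.map (algebraMap A B))))).comp
          (Ideal.Quotient.mkₐ A (p.asIdeal.map (algebraMap A B)))) (algebraMap A B a₂) = 0 := by
        show Ideal.Quotient.mk _ (Ideal.Quotient.mk _ (algebraMap A B a₂)) = 0
        rw [← hAS]
        exact Ideal.Quotient.eq_zero_iff_mem.mpr (Ideal.mem_map_of_mem _ ha₂)
      have e1' : ((Ideal.Quotient.mkₐ A
          (I.map (algebraMap A (B ⧸ p.asIdeal.map (algebraMap A B))))).comp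
          (Ideal.Quotient.mkₐ A (p.asIdeal.map (algebraMap A B)))) (algebraMap A B a₁) = 0 := by
        rw [AlgHom.comp_apply, e1, map_zero]
      show _ + _ = 0
      erw [e1', e2, add_zero]
    exact RingHom.mem_ker.mp (hle hx)
  let g : (B ⧸ (p.asIdeal ⊔ I).map (algebraMap A B)) →ₐ[A]
      ((B ⧸ p.asIdeal.map (algebraMap A B)) ⧸
        I.map (algebraMap A (B ⧸ p.asIdeal.map (algebraMap A B)))) :=
    Ideal.Quotient.liftₐ _ _ hker0
  have hg : Function.Surjective g := by
    intro z
    obtain ⟨y, rfl⟩ := Ideal.Quotient.mk_surjective z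
    obtain ⟨b, rfl⟩ := Ideal.Quotient.mk_surjective y
    exact ⟨Ideal.Quotient.mk _ b, rfl⟩
  haveI : Module.Finite A ((B ⧸ p.asIdeal.map (algebraMap A B)) ⧸
      I.map (algebraMap A (B ⧸ p.asIdeal.map (algebraMap A B)))) :=
    Module.Finite.of_surjective g.toLinearMap hg
  haveI : Algebra.FormallyUnramified A ((B ⧸ p.asIdeal.map (algebraMap A B)) ⧸
      I.map (algebraMap A (B ⧸ p.asIdeal.map (algebraMap A B)))) :=
    Algebra.FormallyUnramified.of_surjective g hg
  have hjacB : I.map (algebraMap A B) ≤ Ideal.jacobson ⊥ := IsAdicComplete.le_jacobson_bot _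
  have hjacS : I.map (algebraMap A (B ⧸ p.asIdeal.map (algebraMap A B))) ≤ Ideal.jacobson ⊥ := by
    rw [Ideal.map_le_iff_le_comap]
    intro a ha
    rw [Ideal.mem_comap, hAS, Ideal.jacobson, Ideal.mem_sInf]
    rintro M ⟨-, hM⟩
    haveI := hM
    have hcM : (M.comap (Ideal.Quotient.mk (p.asIdeal.map (algebraMap A B)))).IsMaximal :=
      Ideal.comap_isMaximal_of_surjective _ Ideal.Quotient.mk_surjective
    have : algebraMap A B a ∈ M.comap (Ideal.Quotient.mk (p.asIdeal.map (algebraMap A B))) :=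
      (hjacB.trans (sInf_le ⟨bot_le, hcM⟩)) (Ideal.mem_map_of_mem _ ha)
    exact this
  haveI : IsHausdorff (I.map (algebraMap A (B ⧸ p.asIdeal.map (algebraMap A B))))
      (B ⧸ p.asIdeal.map (algebraMap A B)) := IsHausdorff.of_le_jacobson _ _ hjacS
  haveI hSfin : Module.Finite A (B ⧸ p.asIdeal.map (algebraMap A B)) :=
    Groth.Agent.Lib.Helper15.ComplSemilocal.finite_of_quot_finite I _
  haveI hSunr : Algebra.FormallyUnramified A (B ⧸ p.asIdeal.map (algebraMap A B)) :=
    RigEt.formallyUnramified_of_quotient I hjacS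
  -- the prime `q̄`
  have hkerq : RingHom.ker (Ideal.Quotient.mk (p.asIdeal.map (algebraMap A B))) ≤ q.asIdeal := by
    rw [Ideal.mk_ker]; exact hpBq
  haveI hqbar : (q.asIdeal.map (Ideal.Quotient.mk (p.asIdeal.map (algebraMap A B)))).IsPrime :=
    Ideal.map_isPrime_of_surjective Ideal.Quotient.mk_surjective hkerq
  have hcomap : (q.asIdeal.map (Ideal.Quotient.mk (p.asIdeal.map (algebraMap A B)))).comap
      (Ideal.Quotient.mk (p.asIdeal.map (algebraMap A B))) = q.asIdeal := by
    rw [Ideal.comap_map_of_surjective _ Ideal.Quotient.mk_surjective, ← RingHom.ker_eq_comap_bot]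
    exact sup_eq_left.mpr hkerq
  haveI : (q.asIdeal.map (Ideal.Quotient.mk (p.asIdeal.map (algebraMap A B)))).LiesOver
      p.asIdeal := ⟨by
    apply Ideal.ext
    intro a
    rw [Ideal.under, Ideal.mem_comap, hAS,
      ← Ideal.mem_comap (f := Ideal.Quotient.mk (p.asIdeal.map (algebraMap A B))), hcomap, hpq,
      Ideal.mem_comap]⟩
  let _ := Localization.AtPrime.algebraOfLiesOver p.asIdeal
    (q.asIdeal.map (Ideal.Quotient.mk (p.asIdeal.map (algebraMap A B))))
  haveI hunr : Algebra.IsUnramifiedAt A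
      (q.asIdeal.map (Ideal.Quotient.mk (p.asIdeal.map (algebraMap A B)))) :=
    Algebra.FormallyUnramified.comp A (B ⧸ p.asIdeal.map (algebraMap A B)) _
  have h := ((Algebra.isUnramifiedAt_iff_map_eq A p.asIdeal
    (q.asIdeal.map (Ideal.Quotient.mk (p.asIdeal.map (algebraMap A B))))).mp hunr).2
  have hbot : IsLocalRing.maximalIdeal (Localization.AtPrime
      (q.asIdeal.map (Ideal.Quotient.mk (p.asIdeal.map (algebraMap A B))))) = ⊥ := by
    rw [← h, Ideal.map_eq_bot_iff_le_ker]
    intro a ha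
    rw [RingHom.mem_ker, IsScalarTower.algebraMap_apply A (B ⧸ p.asIdeal.map (algebraMap A B)), hAS,
      Ideal.Quotient.eq_zero_iff_mem.mpr (Ideal.mem_map_of_mem _ ha), map_zero]
  have key : ∀ x ∈ q.asIdeal, ∃ s ∉ q.asIdeal, s * x ∈ p.asIdeal.map (algebraMap A B) := by
    intro x hx
    have h1 : algebraMap (B ⧸ p.asIdeal.map (algebraMap A B)) (Localization.AtPrime
        (q.asIdeal.map (Ideal.Quotient.mk (p.asIdeal.map (algebraMap A B)))))
        (Ideal.Quotient.mk _ x) ∈ IsLocalRing.maximalIdeal _ :=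
      (IsLocalization.AtPrime.to_map_mem_maximal_iff _
        (q.asIdeal.map (Ideal.Quotient.mk (p.asIdeal.map (algebraMap A B)))) _).mpr
        (Ideal.mem_map_of_mem _ hx)
    rw [hbot, Ideal.mem_bot] at h1
    obtain ⟨⟨c, hc⟩, hcx⟩ := (IsLocalization.map_eq_zero_iff
      (q.asIdeal.map (Ideal.Quotient.mk (p.asIdeal.map (algebraMap A B)))).primeCompl _ _).mp h1
    obtain ⟨s, rfl⟩ := Ideal.Quotient.mk_surjective c
    refine ⟨s, fun hs => hc (Ideal.mem_map_of_mem _ hs), ?_⟩
    rw [← map_mul, Ideal.Quotient.eq_zero_iff_mem] at hcx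
    exact hcx
  rw [← Localization.AtPrime.map_eq_maximalIdeal]
  apply le_antisymm
  · exact Ideal.map_mono hpBq
  · rw [Ideal.map_le_iff_le_comap]
    intro x hx
    obtain ⟨s, hs, hsx⟩ := key x hx
    rw [Ideal.mem_comap]
    have hu : IsUnit (algebraMap B (Localization.AtPrime q.asIdeal) s) :=
      IsLocalization.map_units _ (⟨s, hs⟩ : q.asIdeal.primeCompl)
    have h2 : algebraMap B (Localization.AtPrime q.asIdeal) s *
        algebraMap B (Localization.AtPrime q.asIdeal) x ∈
        (p.asIdeal.map (algebraMap A B)).map (algebraMap B (Localization.AtPrime q.asIdeal)) := by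
      rw [← map_mul]
      exact Ideal.mem_map_of_mem _ hsx
    exact (Ideal.unit_mul_mem_iff_mem _ hu).mp h2

end Groth.Agent.S8838
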