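import Groth.Statements.S8841
import Groth.Agent.S8835
import Groth.Agent.S8837
import Groth.Agent.Lib.Helper27.RigFlatF
import Groth.Agent.Lib.Helper27.RigCL2
open Groth.Agent.Lib.Helper27

set_option autoImplicit false
universe u
open AdicRing

namespace Groth.Agent.S8841

/-- Let A be a Noetherian ring complete for the adic topology of an ideal I, and B a Noetherian
A-algebra complete for the IB-adic topology with B/IB of finite type over A (an adic morphism,
topologically of finite type, of adic Noetherian topological rings), and assume A/I is a Jacobson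
ring. Suppose A → B is naively rig-flat: whenever q is a rig-closed prime of B (IB ⊄ q and q maximal
among the primes not containing IB), the localization B_q is an A-flat ring. Then A → B is rig-flat:
for every f ∈ A, letting A_{f} and B_{f} be the completed principal localizations (the I-adic
completions of A_f and B_f) and ψ : A_{f} → B_{f} the canonical map, characterised here as any ring
map compatible with A_f → B_f (there is exactly one), the local ring (B_{f})_{q'} is flat over A_{f}
via ψ for every rig-closed prime q' of B_{f} (I B_{f} ⊄ q' and q' maximal among the primes not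
containing I B_{f}). (That A_{f} → B_{f} is again adic and topologically of finite type is not
restated.) -/
theorem result (A : Type u) [CommRing A] [IsNoetherianRing A] (I : Ideal A) [IsAdicComplete I A] (B : Type u) [CommRing B] [Algebra A B] [IsNoetherianRing B] [IsAdicComplete (I.map (algebraMap A B)) B] (hft : Algebra.FiniteType A (B ⧸ (I.map (algebraMap A B)))) (hJ : IsJacobsonRing (A ⧸ I)) (hnaive : ∀ q : PrimeSpectrum B, (¬ (I.map (algebraMap A B)) ≤ q.asIdeal ∧ ∀ y : PrimeSpectrum B, q ≤ y → ¬ (I.map (algebraMap A B)) ≤ y.asIdeal → y = q) → (algebraMap A (Localization.AtPrime q.asIdeal)).Flat) (f : A) (ψ : (AdicCompletion (I.map (algebraMap A (Localization.Away f))) (Localization.Away f)) →+* (AdicCompletion ((I.map (algebraMap A B)).map (algebraMap B (Localization.Away (algebraMap A B f)))) (Localization.Away (algebraMap A B f)))) (hψ : ψ.comp (algebraMap (Localization.Away f) (AdicCompletion (I.map (algebraMap A (Localization.Away f))) (Localization.Away f))) = (algebraMap (Localization.Away (algebraMap A B f)) (AdicCompletion ((I.map (algebraMap A B)).map (algebraMap B (Localization.Away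 (algebraMap A B f)))) (Localization.Away (algebraMap A B f)))).comp (Localization.awayMap (algebraMap A B) f)) (q' : PrimeSpectrum (AdicCompletion ((I.map (algebraMap A B)).map (algebraMap B (Localization.Away (algebraMap A B f)))) (Localization.Away (algebraMap A B f)))) (hq' : (¬ ((((I.map (algebraMap A B))).map (algebraMap B (Localization.Away (algebraMap A B f)))).map (algebraMap (Localization.Away (algebraMap A B f)) (AdicCompletion ((I.map (algebraMap A B)).map (algebraMap B (Localization.Away (algebraMap A B f)))) (Localization.Away (algebraMap A B f))))) ≤ q'.asIdeal ∧ ∀ y : PrimeSpectrum (AdicCompletion ((I.map (algebraMap A B)).map (algebraMap B (Localization.Away (algebraMap A B f)))) (Localization.Away (algebraMap A B f))), q' ≤ y → ¬ ((((I.map (algebraMap A B))).map (algebraMap B (Localization.Away (algebraMap A B f)))).map (algebraMap (Localization.Away (algebraMap A B f)) (AdicCompletion ((I.map (algebraMap A B)).map (algebraMap B (Localization.Away (algebraMap A B f)))) (Localization.Away (algebraMap A B f))))) ≤ y.asIdeal → y = q')) : ((algebraMap (AdicCompletion ((I.map (algebraMap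 A B)).map (algebraMap B (Localization.Away (algebraMap A B f)))) (Localization.Away (algebraMap A B f))) (Localization.AtPrime q'.asIdeal)).comp ψ).Flat := by
  classical
  haveI hNB := RigCL.isNoetherianRing_cLoc (I.map (algebraMap A B)) (algebraMap A B f)
  haveI hNA := RigCL.isNoetherianRing_cLoc I f
  have hJB : IsJacobsonRing (B ⧸ I.map (algebraMap A B)) :=
    RigCL2.isJacobsonRing_quot_map I hft hJ
  -- `q` rig-closed in `B`
  have hq := RigCL2.rigClosed_comap_cLoc (I.map (algebraMap A B)) hJB (algebraMap A B f) q' hq'
  have hp := Groth.Agent.S8835.result A I B hft _ hq hJ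
  have hflatq := hnaive _ hq
  -- names
  obtain ⟨q, hqdef⟩ : ∃ q : PrimeSpectrum B, q = PrimeSpectrum.comap (algebraMap B
      (CLoc (R := B) (I.map (algebraMap A B)) (algebraMap A B f))) q' := ⟨_, rfl⟩
  rw [← hqdef] at hq hp hflatq
  obtain ⟨p, hpdef⟩ : ∃ p : PrimeSpectrum A, p = PrimeSpectrum.comap (algebraMap A B) q := ⟨_, rfl⟩
  rw [← hpdef] at hp
  haveI := q.isPrime
  haveI := q'.isPrime
  haveI := p.isPrime
  -- compatibility of `ψ`
  have hcompat : ∀ a : A, ψ (algebraMap A (CLoc (R := A) I f) a) =
      algebraMap B (CLoc (R := B) (I.map (algebraMap A B)) (algebraMap A B f))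
        (algebraMap A B a) := by
    intro a
    have h1 := RingHom.congr_fun hψ (algebraMap A (Localization.Away f) a)
    rw [RingHom.comp_apply, RingHom.comp_apply] at h1
    have h2 : Localization.awayMap (algebraMap A B) f (algebraMap A (Localization.Away f) a) =
        algebraMap B (Localization.Away (algebraMap A B f)) (algebraMap A B a) :=
      IsLocalization.map_eq _ _
    rw [h2] at h1
    exact h1
  -- the two ring maps
  let α : A →+* CLoc (R := A) I f := algebraMap A _
  let β : CLoc (R := A) I f →+* Localization.AtPrime q'.asIdeal :=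
    (algebraMap (CLoc (R := B) (I.map (algebraMap A B)) (algebraMap A B f))
      (Localization.AtPrime q'.asIdeal)).comp ψ
  show β.Flat
  haveI : IsNoetherianRing (Localization.AtPrime q'.asIdeal) :=
    IsLocalization.isNoetherianRing q'.asIdeal.primeCompl _ inferInstance
  have hqq' : q.asIdeal = q'.asIdeal.comap (algebraMap B
      (CLoc (R := B) (I.map (algebraMap A B)) (algebraMap A B f))) := by rw [hqdef]; rfl
  have hpq : p.asIdeal = q.asIdeal.comap (algebraMap A B) := by rw [hpdef]; rfl
  -- `β ∘ α` is flat
  have hβα : β.comp α = (Localization.localRingHom q.asIdeal q'.asIdeal (algebraMap B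
      (CLoc (R := B) (I.map (algebraMap A B)) (algebraMap A B f))) hqq').comp
      (algebraMap A (Localization.AtPrime q.asIdeal)) := by
    ext a
    simp only [RingHom.comp_apply, α, β]
    rw [hcompat, IsScalarTower.algebraMap_apply A B (Localization.AtPrime q.asIdeal),
      Localization.localRingHom_to_map]
  have hflatBA : (β.comp α).Flat := by
    rw [hβα]
    refine RingHom.Flat.comp hflatq ?_
    refine RingHom.Flat.localRingHom ?_ _ _ hqq'
    rw [RingHom.flat_algebraMap_iff]
    exact RigCL.flat_cLoc _ _
  -- `f` is a unit modulo `p`
  have hfu : IsUnit (Ideal.Quotient.mk p.asIdeal f) := by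
    refine RigCL2.isUnit_mk_of_rigClosed I p hp
      ((algebraMap B (CLoc (R := B) (I.map (algebraMap A B)) (algebraMap A B f))).comp
        (algebraMap A B)) q'.asIdeal ?_ ?_ f ?_
    · rw [hpq, hqq', Ideal.comap_comap]
    · rw [← Ideal.map_map]
      exact RigCL.le_jacobson_cLoc (I.map (algebraMap A B)) (algebraMap A B f)
    · show IsUnit (algebraMap B (CLoc (R := B) (I.map (algebraMap A B)) (algebraMap A B f))
        (algebraMap A B f))
      exact RigCL.isUnit_algebraMap_cLoc (I.map (algebraMap A B)) (algebraMap A B f)
  obtain ⟨-, hbij⟩ := Groth.Agent.S8837.result A I p.asIdeal f hfu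
  -- approximation
  have happ : ∀ r' : CLoc (R := A) I f, ∃ r : A, r' - α r ∈ p.asIdeal.map α := by
    intro d
    obtain ⟨abar, ha⟩ := hbij.2 (Ideal.Quotient.mk _ d)
    obtain ⟨a, rfl⟩ := Ideal.Quotient.mk_surjective abar
    refine ⟨a, ?_⟩
    rw [Ideal.quotientMap_mk] at ha
    have := Ideal.Quotient.eq.mp ha.symm
    exact this
  -- radical condition
  have h1 : (p.asIdeal.map α).map β ≤ Ideal.jacobson ⊥ := by
    rw [IsLocalRing.jacobson_eq_maximalIdeal ⊥ bot_ne_top, Ideal.map_map α β,
      Ideal.map_le_iff_le_comap]
    intro a ha
    rw [Ideal.mem_comap]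
    have e : (β.comp α) a = algebraMap (CLoc (R := B) (I.map (algebraMap A B)) (algebraMap A B f))
        (Localization.AtPrime q'.asIdeal) (algebraMap B _ (algebraMap A B a)) := by
      simp only [RingHom.comp_apply, α, β]
      rw [hcompat]
    rw [e, IsLocalization.AtPrime.to_map_mem_maximal_iff _ q'.asIdeal]
    rw [hpq, hqq'] at ha
    exact ha
  exact RigFlatF.flat_of_comp_flat_of_approx α β p.asIdeal h1 happ hflatBA

end Groth.Agent.S8841
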