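import Groth.Statements.S8844
import Groth.Agent.Lib.Helper27.RigDesc
import Groth.Agent.Lib.Helper27.RigCL3
open Groth.Agent.Lib.Helper27

set_option autoImplicit false
universe u
open AdicRing

namespace Groth.Agent.S8844

/-- Consider a commutative square of adic Noetherian topological rings with all maps adic and
topologically of finite type: A a Noetherian ring complete for the adic topology of an ideal I; B,
A' and B' Noetherian algebras complete for the IB-, IA'- and IB'-adic topologies, B' an algebra over
B and over A' compatibly with A, with B/IB and A'/IA' of finite type over A and B'/IB' of finite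
type over B and over A'. Assume A → A' is flat and B → B' is faithfully flat. If A' → B' is rig-flat
— for every f' ∈ A', every ring map A'_{f'} → B'_{f'} of completed principal localizations
compatible with the map of ordinary localizations A'[1/f'] → B'[1/f'] (there is exactly one), and
every rig-closed prime q of B'_{f'} (I B'_{f'} ⊄ q and q maximal among the primes not containing I
B'_{f'}), the local ring (B'_{f'})_q is flat over A'_{f'} — then A → B is rig-flat in the same form:
for every f ∈ A, every ring map A_{f} → B_{f} of completed principal localizations compatible with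
the map of ordinary localizations A[1/f] → B[1/f], and every rig-closed prime q of B_{f}, the local
ring (B_{f})_q is flat over A_{f}. -/
theorem result (A : Type u) [CommRing A] [IsNoetherianRing A] (I : Ideal A) [IsAdicComplete I A] (B : Type u) [CommRing B] [Algebra A B] [IsNoetherianRing B] [IsAdicComplete (I.map (algebraMap A B)) B] (hftB : Algebra.FiniteType A (B ⧸ (I.map (algebraMap A B)))) (A' : Type u) [CommRing A'] [Algebra A A'] [IsNoetherianRing A'] [IsAdicComplete (I.map (algebraMap A A')) A'] (hftA' : Algebra.FiniteType A (A' ⧸ (I.map (algebraMap A A')))) (B' : Type u) [CommRing B'] [Algebra A B'] [Algebra B B'] [Algebra A' B'] [IsScalarTower A B B'] [IsScalarTower A A' B'] [IsNoetherianRing B'] [IsAdicComplete (I.map (algebraMap A B')) B'] (hftB'B : Algebra.FiniteType B (B' ⧸ (I.map (algebraMap A B')))) (hftB'A' : Algebra.FiniteType A' (B' ⧸ (I.map (algebraMap A B')))) [Module.Flat A A'] [Module.FaithfullyFlat B B'] (hA'B' : (∀ f' : A', ∀ ψf' : (AdicCompletion ((I.map (algebraMap A A')).map (algebraMap A' (Localization.Away f'))) (Localization.Away f')) →+* (AdicCompletion (((I.map (algebraMap A A')).map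 (algebraMap A' B')).map (algebraMap B' (Localization.Away (algebraMap A' B' f')))) (Localization.Away (algebraMap A' B' f'))), ψf'.comp (algebraMap (Localization.Away f') (AdicCompletion ((I.map (algebraMap A A')).map (algebraMap A' (Localization.Away f'))) (Localization.Away f'))) = (algebraMap (Localization.Away (algebraMap A' B' f')) (AdicCompletion (((I.map (algebraMap A A')).map (algebraMap A' B')).map (algebraMap B' (Localization.Away (algebraMap A' B' f')))) (Localization.Away (algebraMap A' B' f')))).comp (Localization.awayMap (algebraMap A' B') f') → ∀ qf' : PrimeSpectrum (AdicCompletion (((I.map (algebraMap A A')).map (algebraMap A' B')).map (algebraMap B' (Localization.Away (algebraMap A' B' f')))) (Localization.Away (algebraMap A' B' f'))), (¬ ((((I.map (algebraMap A A')).map (algebraMap A' B')).map (algebraMap B' (Localization.Away (algebraMap A' B' f')))).map (algebraMap (Localization.Away (algebraMap A' B' f')) (AdicCompletion (((I.map (algebraMap A A')).map (algebraMap A' B')).map (algebraMap B' (Localization.Away (algebraMap A' B' f')))) (Localization.Away (algebraMap A' B' f'))))) ≤ qf'.asIdeal ∧ ∀ y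 : PrimeSpectrum (AdicCompletion (((I.map (algebraMap A A')).map (algebraMap A' B')).map (algebraMap B' (Localization.Away (algebraMap A' B' f')))) (Localization.Away (algebraMap A' B' f'))), qf' ≤ y → ¬ ((((I.map (algebraMap A A')).map (algebraMap A' B')).map (algebraMap B' (Localization.Away (algebraMap A' B' f')))).map (algebraMap (Localization.Away (algebraMap A' B' f')) (AdicCompletion (((I.map (algebraMap A A')).map (algebraMap A' B')).map (algebraMap B' (Localization.Away (algebraMap A' B' f')))) (Localization.Away (algebraMap A' B' f'))))) ≤ y.asIdeal → y = qf') → ((algebraMap (AdicCompletion (((I.map (algebraMap A A')).map (algebraMap A' B')).map (algebraMap B' (Localization.Away (algebraMap A' B' f')))) (Localization.Away (algebraMap A' B' f'))) (Localization.AtPrime qf'.asIdeal)).comp ψf').Flat)) : (∀ f : A, ∀ ψf : (AdicCompletion (I.map (algebraMap A (Localization.Away f))) (Localization.Away f)) →+* (AdicCompletion ((I.map (algebraMap A B)).map (algebraMap B (Localization.Away (algebraMap A B f)))) (Localization.Away (algebraMap A B f))), ψf.comp (algebraMap (Localization.Away f) (AdicCompletion (I.map (algebraMap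 A (Localization.Away f))) (Localization.Away f))) = (algebraMap (Localization.Away (algebraMap A B f)) (AdicCompletion ((I.map (algebraMap A B)).map (algebraMap B (Localization.Away (algebraMap A B f)))) (Localization.Away (algebraMap A B f)))).comp (Localization.awayMap (algebraMap A B) f) → ∀ qf : PrimeSpectrum (AdicCompletion ((I.map (algebraMap A B)).map (algebraMap B (Localization.Away (algebraMap A B f)))) (Localization.Away (algebraMap A B f))), (¬ (((I.map (algebraMap A B)).map (algebraMap B (Localization.Away (algebraMap A B f)))).map (algebraMap (Localization.Away (algebraMap A B f)) (AdicCompletion ((I.map (algebraMap A B)).map (algebraMap B (Localization.Away (algebraMap A B f)))) (Localization.Away (algebraMap A B f))))) ≤ qf.asIdeal ∧ ∀ y : PrimeSpectrum (AdicCompletion ((I.map (algebraMap A B)).map (algebraMap B (Localization.Away (algebraMap A B f)))) (Localization.Away (algebraMap A B f))), qf ≤ y → ¬ (((I.map (algebraMap A B)).map (algebraMap B (Localization.Away (algebraMap A B f)))).map (algebraMap (Localization.Away (algebraMap A B f)) (AdicCompletion ((I.map (algebraMap A B)).map (algebraMap B (Localization.Away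 (algebraMap A B f)))) (Localization.Away (algebraMap A B f))))) ≤ y.asIdeal → y = qf) → ((algebraMap (AdicCompletion ((I.map (algebraMap A B)).map (algebraMap B (Localization.Away (algebraMap A B f)))) (Localization.Away (algebraMap A B f))) (Localization.AtPrime qf.asIdeal)).comp ψf).Flat) := by
  classical
  intro f ψf hψf qf hqf
  haveI hNA := RigCL.isNoetherianRing_cLoc I f
  haveI hNB := RigCL.isNoetherianRing_cLoc (I.map (algebraMap A B)) (algebraMap A B f)
  haveI hNA' := RigCL.isNoetherianRing_cLoc (I.map (algebraMap A A')) (algebraMap A A' f)
  haveI hNB' := RigCL.isNoetherianRing_cLoc ((I.map (algebraMap A A')).map (algebraMap A' B'))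
    (algebraMap A' B' (algebraMap A A' f))
  haveI hCA' := RigCL.isAdicComplete_cLoc' (I.map (algebraMap A A')) (algebraMap A A' f)
  haveI hCB' := RigCL.isAdicComplete_cLoc' ((I.map (algebraMap A A')).map (algebraMap A' B'))
    (algebraMap A' B' (algebraMap A A' f))
  have hKB' : (I.map (algebraMap A B)).map (algebraMap B B') =
      (I.map (algebraMap A A')).map (algebraMap A' B') := by
    rw [Ideal.map_map, Ideal.map_map, ← IsScalarTower.algebraMap_eq, ← IsScalarTower.algebraMap_eq]
  have hgg' : algebraMap B B' (algebraMap A B f) = algebraMap A' B' (algebraMap A A' f) := by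
    rw [← IsScalarTower.algebraMap_apply, ← IsScalarTower.algebraMap_apply]
  have hab : ∀ a : A, algebraMap A' B' (algebraMap A A' a) = algebraMap B B' (algebraMap A B a) := by
    intro a
    rw [← IsScalarTower.algebraMap_apply A A' B' a, ← IsScalarTower.algebraMap_apply A B B' a]
  -- the maps
  obtain ⟨χA, hχA⟩ := RigUP.exists_lift I f
    ((I.map (algebraMap A A')).map (algebraMap A' (CLoc (R := A') (I.map (algebraMap A A'))
      (algebraMap A A' f))))
    ((algebraMap A' (CLoc (R := A') (I.map (algebraMap A A')) (algebraMap A A' f))).comp
      (algebraMap A A')) (Ideal.map_map _ _).symm.le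
    (RigCL.isUnit_algebraMap_cLoc (I.map (algebraMap A A')) (algebraMap A A' f))
  obtain ⟨χB, hχB⟩ := RigUP.exists_lift (I.map (algebraMap A B)) (algebraMap A B f)
    (((I.map (algebraMap A A')).map (algebraMap A' B')).map (algebraMap B'
      (CLoc (R := B') ((I.map (algebraMap A A')).map (algebraMap A' B'))
        (algebraMap A' B' (algebraMap A A' f)))))
    ((algebraMap B' (CLoc (R := B') ((I.map (algebraMap A A')).map (algebraMap A' B'))
        (algebraMap A' B' (algebraMap A A' f)))).comp (algebraMap B B'))
    (by rw [← Ideal.map_map, hKB'])
    (by
      rw [RingHom.comp_apply, hgg']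
      exact RigCL.isUnit_algebraMap_cLoc ((I.map (algebraMap A A')).map (algebraMap A' B'))
        (algebraMap A' B' (algebraMap A A' f)))
  obtain ⟨ψ', hψ'⟩ := RigUP.exists_lift (I.map (algebraMap A A')) (algebraMap A A' f)
    (((I.map (algebraMap A A')).map (algebraMap A' B')).map (algebraMap B'
      (CLoc (R := B') ((I.map (algebraMap A A')).map (algebraMap A' B'))
        (algebraMap A' B' (algebraMap A A' f)))))
    ((algebraMap B' (CLoc (R := B') ((I.map (algebraMap A A')).map (algebraMap A' B'))
        (algebraMap A' B' (algebraMap A A' f)))).comp (algebraMap A' B'))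
    (Ideal.map_map _ _).symm.le
    (RigCL.isUnit_algebraMap_cLoc ((I.map (algebraMap A A')).map (algebraMap A' B'))
        (algebraMap A' B' (algebraMap A A' f)))
  have hψ'form := RigUP.comp_form (I.map (algebraMap A A')) (algebraMap A A' f)
    ((I.map (algebraMap A A')).map (algebraMap A' B')) ψ' hψ'
  have hcompat := RigCL3.compat_of_comp I f ψf hψf
  -- commutativity
  have hcomm : ψ'.comp χA = χB.comp ψf := by
    refine RigUP.lift_unique I f
      (((I.map (algebraMap A A')).map (algebraMap A' B')).map (algebraMap B'
      (CLoc (R := B') ((I.map (algebraMap A A')).map (algebraMap A' B'))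
        (algebraMap A' B' (algebraMap A A' f))))) _ _ ?_ ?_
    · intro a
      rw [RingHom.comp_apply, RingHom.comp_apply, hχA, hcompat, hχB]
      show ψ' (algebraMap A' _ (algebraMap A A' a)) = _
      rw [hψ']
      show algebraMap B' _ (algebraMap A' B' (algebraMap A A' a)) =
        algebraMap B' _ (algebraMap B B' (algebraMap A B a))
      exact congrArg _ (hab a)
    · have e : (ψ'.comp χA).comp (algebraMap A (CLoc (R := A) I f)) =
          ((algebraMap B' (CLoc (R := B') ((I.map (algebraMap A A')).map (algebraMap A' B'))
            (algebraMap A' B' (algebraMap A A' f)))).comp (algebraMap A' B')).comp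
            (algebraMap A A') := by
        apply RingHom.ext
        intro a
        rw [RingHom.comp_apply, RingHom.comp_apply, hχA]
        show ψ' (algebraMap A' _ (algebraMap A A' a)) = _
        rw [hψ']
        rfl
      rw [e, ← Ideal.map_map, ← Ideal.map_map]
  have hA : χA.Flat := RigDesc.flat_cmap I f (I.map (algebraMap A A')) (algebraMap A A' f) rfl χA hχA
  have hB : χB.FaithfullyFlat := RigDesc.faithfullyFlat_cmap (I.map (algebraMap A B))
    (algebraMap A B f) ((I.map (algebraMap A A')).map (algebraMap A' B'))
    (algebraMap A' B' (algebraMap A A' f)) hKB'.symm hgg'.symm χB hχB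
  have hJmap := RigDesc.map_map_cmap (I.map (algebraMap A B)) (algebraMap A B f)
    ((I.map (algebraMap A A')).map (algebraMap A' B'))
    (algebraMap A' B' (algebraMap A A' f)) hKB'.symm χB hχB
  rw [CLocBasic.map_map_cLoc] at hqf
  refine RigDesc.flat_descent_core ψf χA χB ψ' hcomm hA hB
    ((I.map (algebraMap A B)).map (algebraMap B (CLoc (R := B) (I.map (algebraMap A B))
      (algebraMap A B f)))) qf hqf ?_
  intro q' hq'
  refine hA'B' (algebraMap A A' f) ψ' hψ'form q' ?_
  rw [CLocBasic.map_map_cLoc, ← hJmap]
  exact hq'

end Groth.Agent.S8844
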