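import Groth.Statements.S8845
import Groth.Agent.Lib.Helper27.RigMain
open Groth.Agent.Lib.Helper27

set_option autoImplicit false
universe u
open AdicRing

namespace Groth.Agent.S8845

/-- Consider a commutative square of adic Noetherian topological rings with all maps adic and
topologically of finite type: A a Noetherian ring complete for the adic topology of an ideal I (the
ideal of definition used below); B, A' and B' Noetherian algebras complete for the IB-, IA'- and
IB'-adic topologies, B' an algebra over B and over A' compatibly with A, with B/IB and A'/IA' of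
finite type over A and B'/IB' of finite type over B and over A'. Assume A → A' and B → B' are flat
and A/I → A'/IA' is étale. If A → B is rig-flat — for every f ∈ A, every ring map ψ : A_{f} → B_{f}
of completed principal localizations compatible with the map of ordinary localizations A[1/f] →
B[1/f] (there is exactly one), and every rig-closed prime q of B_{f} (I B_{f} ⊄ q and q maximal
among the primes not containing I B_{f}), the local ring (B_{f})_q is flat over A_{f} via ψ — then
A' → B' is rig-flat in the same form: for every f' ∈ A', every ring map A'_{f'} → B'_{f'} of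
completed principal localizations compatible with the map of ordinary localizations A'[1/f'] →
B'[1/f'], and every rig-closed prime q' of B'_{f'}, the local ring (B'_{f'})_{q'} is flat over
A'_{f'}. -/
theorem result (A : Type u) [CommRing A] [IsNoetherianRing A] (I : Ideal A) [IsAdicComplete I A] (B : Type u) [CommRing B] [Algebra A B] [IsNoetherianRing B] [IsAdicComplete (I.map (algebraMap A B)) B] (hftB : Algebra.FiniteType A (B ⧸ (I.map (algebraMap A B)))) (A' : Type u) [CommRing A'] [Algebra A A'] [IsNoetherianRing A'] [IsAdicComplete (I.map (algebraMap A A')) A'] (hftA' : Algebra.FiniteType A (A' ⧸ (I.map (algebraMap A A')))) (B' : Type u) [CommRing B'] [Algebra A B'] [Algebra B B'] [Algebra A' B'] [IsScalarTower A B B'] [IsScalarTower A A' B'] [IsNoetherianRing B'] [IsAdicComplete (I.map (algebraMap A B')) B'] (hftB'B : Algebra.FiniteType B (B' ⧸ (I.map (algebraMap A B')))) (hftB'A' : Algebra.FiniteType A' (B' ⧸ (I.map (algebraMap A B')))) [Module.Flat A A'] [Module.Flat B B'] [Algebra.Etale (A ⧸ I) (A' ⧸ (I.map (algebraMap A A')))] (hAB : (∀ f : A, ∀ ψf : (AdicCompletion (I.map (algebraMap A (Localization.Away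 f))) (Localization.Away f)) →+* (AdicCompletion ((I.map (algebraMap A B)).map (algebraMap B (Localization.Away (algebraMap A B f)))) (Localization.Away (algebraMap A B f))), ψf.comp (algebraMap (Localization.Away f) (AdicCompletion (I.map (algebraMap A (Localization.Away f))) (Localization.Away f))) = (algebraMap (Localization.Away (algebraMap A B f)) (AdicCompletion ((I.map (algebraMap A B)).map (algebraMap B (Localization.Away (algebraMap A B f)))) (Localization.Away (algebraMap A B f)))).comp (Localization.awayMap (algebraMap A B) f) → ∀ qf : PrimeSpectrum (AdicCompletion ((I.map (algebraMap A B)).map (algebraMap B (Localization.Away (algebraMap A B f)))) (Localization.Away (algebraMap A B f))), (¬ (((I.map (algebraMap A B)).map (algebraMap B (Localization.Away (algebraMap A B f)))).map (algebraMap (Localization.Away (algebraMap A B f)) (AdicCompletion ((I.map (algebraMap A B)).map (algebraMap B (Localization.Away (algebraMap A B f)))) (Localization.Away (algebraMap A B f))))) ≤ qf.asIdeal ∧ ∀ y : PrimeSpectrum (AdicCompletion ((I.map (algebraMap A B)).map (algebraMap B (Localization.Away (algebraMap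 A B f)))) (Localization.Away (algebraMap A B f))), qf ≤ y → ¬ (((I.map (algebraMap A B)).map (algebraMap B (Localization.Away (algebraMap A B f)))).map (algebraMap (Localization.Away (algebraMap A B f)) (AdicCompletion ((I.map (algebraMap A B)).map (algebraMap B (Localization.Away (algebraMap A B f)))) (Localization.Away (algebraMap A B f))))) ≤ y.asIdeal → y = qf) → ((algebraMap (AdicCompletion ((I.map (algebraMap A B)).map (algebraMap B (Localization.Away (algebraMap A B f)))) (Localization.Away (algebraMap A B f))) (Localization.AtPrime qf.asIdeal)).comp ψf).Flat)) : (∀ f' : A', ∀ ψf' : (AdicCompletion ((I.map (algebraMap A A')).map (algebraMap A' (Localization.Away f'))) (Localization.Away f')) →+* (AdicCompletion (((I.map (algebraMap A A')).map (algebraMap A' B')).map (algebraMap B' (Localization.Away (algebraMap A' B' f')))) (Localization.Away (algebraMap A' B' f'))), ψf'.comp (algebraMap (Localization.Away f') (AdicCompletion ((I.map (algebraMap A A')).map (algebraMap A' (Localization.Away f'))) (Localization.Away f'))) = (algebraMap (Localization.Away (algebraMap A' B' f')) (AdicCompletion (((I.map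 (algebraMap A A')).map (algebraMap A' B')).map (algebraMap B' (Localization.Away (algebraMap A' B' f')))) (Localization.Away (algebraMap A' B' f')))).comp (Localization.awayMap (algebraMap A' B') f') → ∀ qf' : PrimeSpectrum (AdicCompletion (((I.map (algebraMap A A')).map (algebraMap A' B')).map (algebraMap B' (Localization.Away (algebraMap A' B' f')))) (Localization.Away (algebraMap A' B' f'))), (¬ ((((I.map (algebraMap A A')).map (algebraMap A' B')).map (algebraMap B' (Localization.Away (algebraMap A' B' f')))).map (algebraMap (Localization.Away (algebraMap A' B' f')) (AdicCompletion (((I.map (algebraMap A A')).map (algebraMap A' B')).map (algebraMap B' (Localization.Away (algebraMap A' B' f')))) (Localization.Away (algebraMap A' B' f'))))) ≤ qf'.asIdeal ∧ ∀ y : PrimeSpectrum (AdicCompletion (((I.map (algebraMap A A')).map (algebraMap A' B')).map (algebraMap B' (Localization.Away (algebraMap A' B' f')))) (Localization.Away (algebraMap A' B' f'))), qf' ≤ y → ¬ ((((I.map (algebraMap A A')).map (algebraMap A' B')).map (algebraMap B' (Localization.Away (algebraMap A' B' f')))).map (algebraMap (Localization.Away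 (algebraMap A' B' f')) (AdicCompletion (((I.map (algebraMap A A')).map (algebraMap A' B')).map (algebraMap B' (Localization.Away (algebraMap A' B' f')))) (Localization.Away (algebraMap A' B' f'))))) ≤ y.asIdeal → y = qf') → ((algebraMap (AdicCompletion (((I.map (algebraMap A A')).map (algebraMap A' B')).map (algebraMap B' (Localization.Away (algebraMap A' B' f')))) (Localization.Away (algebraMap A' B' f'))) (Localization.AtPrime qf'.asIdeal)).comp ψf').Flat) := by
  classical
  intro f' ψ₁ hψ₁ q₁ hq₁
  haveI hNA₁ := RigCL.isNoetherianRing_cLoc (I.map (algebraMap A A')) f'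
  haveI hNB₁ := RigCL.isNoetherianRing_cLoc ((I.map (algebraMap A A')).map (algebraMap A' B'))
    (algebraMap A' B' f')
  -- ideal identities
  have hIA₁ : (I.map (algebraMap A A')).map (algebraMap A'
      (CLoc (R := A') (I.map (algebraMap A A')) f')) =
      I.map (algebraMap A (CLoc (R := A') (I.map (algebraMap A A')) f')) :=
    Ideal.map_map _ _
  have hIB' : (I.map (algebraMap A A')).map (algebraMap A' B') = I.map (algebraMap A B') := by
    rw [Ideal.map_map, ← IsScalarTower.algebraMap_eq]
  have hIB₁' : (I.map (algebraMap A B')).map (algebraMap B'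
      (CLoc (R := B') ((I.map (algebraMap A A')).map (algebraMap A' B')) (algebraMap A' B' f'))) =
      I.map (algebraMap A
        (CLoc (R := B') ((I.map (algebraMap A A')).map (algebraMap A' B')) (algebraMap A' B' f'))) :=
    Ideal.map_map _ _
  have hIB₁ : ((I.map (algebraMap A A')).map (algebraMap A' B')).map (algebraMap B'
      (CLoc (R := B') ((I.map (algebraMap A A')).map (algebraMap A' B')) (algebraMap A' B' f'))) =
      I.map (algebraMap A
        (CLoc (R := B') ((I.map (algebraMap A A')).map (algebraMap A' B')) (algebraMap A' B' f'))) := by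
    rw [← hIB₁']
    exact congrArg (fun K => Ideal.map (algebraMap B'
      (CLoc (R := B') ((I.map (algebraMap A A')).map (algebraMap A' B')) (algebraMap A' B' f'))) K)
      hIB'
  haveI cA₁ : IsAdicComplete (I.map (algebraMap A (CLoc (R := A') (I.map (algebraMap A A')) f')))
      (CLoc (R := A') (I.map (algebraMap A A')) f') := by
    rw [← hIA₁]; exact RigCL.isAdicComplete_cLoc' _ _
  haveI cB₁ : IsAdicComplete (I.map (algebraMap A
        (CLoc (R := B') ((I.map (algebraMap A A')).map (algebraMap A' B')) (algebraMap A' B' f'))))
      (CLoc (R := B') ((I.map (algebraMap A A')).map (algebraMap A' B')) (algebraMap A' B' f')) := by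
    rw [← hIB₁]; exact RigCL.isAdicComplete_cLoc' _ _
  haveI towABB₁ : IsScalarTower A B
      (CLoc (R := B') ((I.map (algebraMap A A')).map (algebraMap A' B')) (algebraMap A' B' f')) :=
    inferInstance
  -- compatibility of `ψ₁` over `A`
  have hψ₁A' := RigCL3.compat_of_comp (I.map (algebraMap A A')) f' ψ₁ hψ₁
  have hψ₁A : ∀ a : A, ψ₁ (algebraMap A (CLoc (R := A') (I.map (algebraMap A A')) f') a) =
      algebraMap A
        (CLoc (R := B') ((I.map (algebraMap A A')).map (algebraMap A' B')) (algebraMap A' B' f'))
        a := by
    intro a
    show ψ₁ (algebraMap A' _ (algebraMap A A' a)) = algebraMap B' _ (algebraMap A B' a)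
    rw [hψ₁A', ← IsScalarTower.algebraMap_apply A A' B' a]
  -- finite type
  have hB'A : Algebra.FiniteType A (B' ⧸ I.map (algebraMap A B')) :=
    RigEtC.finiteType_trans_quot (A := A) (B := B) (C := B') (I.map (algebraMap A B))
      (I.map (algebraMap A B'))
      (by rw [Ideal.map_map, ← IsScalarTower.algebraMap_eq]) hftB hftB'B
  have hftB₁ : Algebra.FiniteType A
      (CLoc (R := B') ((I.map (algebraMap A A')).map (algebraMap A' B')) (algebraMap A' B' f') ⧸
        I.map (algebraMap A
        (CLoc (R := B') ((I.map (algebraMap A A')).map (algebraMap A' B')) (algebraMap A' B' f')))) := by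
    refine RigEtC.finiteType_trans_quot (A := A) (B := B')
      (C := CLoc (R := B') ((I.map (algebraMap A A')).map (algebraMap A' B')) (algebraMap A' B' f'))
      (I.map (algebraMap A B')) _ hIB₁'.le hB'A ?_
    rw [← hIB₁]
    exact RigCL.finiteType_quot _ _
  have hftA₁ : Algebra.FiniteType A
      (CLoc (R := A') (I.map (algebraMap A A')) f' ⧸
        I.map (algebraMap A (CLoc (R := A') (I.map (algebraMap A A')) f'))) := by
    refine RigEtC.finiteType_trans_quot (A := A) (B := A')
      (C := CLoc (R := A') (I.map (algebraMap A A')) f')
      (I.map (algebraMap A A')) _ hIA₁.le hftA' ?_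
    rw [← hIA₁]
    exact RigCL.finiteType_quot _ _
  -- flatness
  haveI : Module.Flat B'
      (CLoc (R := B') ((I.map (algebraMap A A')).map (algebraMap A' B')) (algebraMap A' B' f')) :=
    RigCL.flat_cLoc _ _
  haveI flatBB₁ : Module.Flat B
      (CLoc (R := B') ((I.map (algebraMap A A')).map (algebraMap A' B')) (algebraMap A' B' f')) :=
    Module.Flat.trans B B' _
  -- unramifiedness
  haveI : Algebra.FormallyUnramified A (A' ⧸ I.map (algebraMap A A')) :=
    Algebra.FormallyUnramified.comp A (A ⧸ I) _
  haveI unrA₁ : Algebra.FormallyUnramified A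
      (CLoc (R := A') (I.map (algebraMap A A')) f' ⧸
        I.map (algebraMap A (CLoc (R := A') (I.map (algebraMap A A')) f'))) := by
    refine RigEtC.formallyUnramified_of_dense (A := A) (A' := A') (I.map (algebraMap A A')) ?_ ?_
    · intro j hj
      show Ideal.Quotient.mk _ (algebraMap A' _ j) = 0
      rw [Ideal.Quotient.eq_zero_iff_mem, ← hIA₁]
      exact Ideal.mem_map_of_mem _ hj
    · intro x
      obtain ⟨a, u, hu, hux⟩ := RigEtC.dense_quot (I.map (algebraMap A A')) f'
        (I.map (algebraMap A (CLoc (R := A') (I.map (algebraMap A A')) f'))) hIA₁.le x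
      exact ⟨a, u, hu, hux⟩
  -- the hypothesis in clean form
  have hAB' : ∀ (f : A) (ψf : CLoc (R := A) I f →+*
        CLoc (R := B) (I.map (algebraMap A B)) (algebraMap A B f)),
      (∀ a, ψf (algebraMap A (CLoc (R := A) I f) a) =
        algebraMap B (CLoc (R := B) (I.map (algebraMap A B)) (algebraMap A B f))
          (algebraMap A B a)) →
      ∀ qf : PrimeSpectrum (CLoc (R := B) (I.map (algebraMap A B)) (algebraMap A B f)),
      RigDesc.RigClosed ((I.map (algebraMap A B)).map
        (algebraMap B (CLoc (R := B) (I.map (algebraMap A B)) (algebraMap A B f)))) qf →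
      ((algebraMap (CLoc (R := B) (I.map (algebraMap A B)) (algebraMap A B f))
        (Localization.AtPrime qf.asIdeal)).comp ψf).Flat := by
    intro f ψf hψf qf hqf
    refine hAB f ψf (RigUP.comp_form I f (I.map (algebraMap A B)) ψf hψf) qf ?_
    rw [CLocBasic.map_map_cLoc]
    exact hqf
  rw [CLocBasic.map_map_cLoc, hIB₁] at hq₁
  exact RigMain.naive_of_rigFlat A I B (CLoc (R := A') (I.map (algebraMap A A')) f')
    (CLoc (R := B') ((I.map (algebraMap A A')).map (algebraMap A' B')) (algebraMap A' B' f'))
    ψ₁ hψ₁A hftB₁ hftA₁ hAB' q₁ hq₁

end Groth.Agent.S8845
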