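import Groth.Statements.S8848
import Mathlib
import Groth.Agent.Lib.Helper14.LCF.SliceSch
import Groth.Agent.Lib.Helper17.FibreStalkMap
import Groth.Agent.Lib.Helper3.RelCartier
import Groth.Agent.Lib.Helper3.IdealComap

set_option autoImplicit false
set_option linter.style.haveILetI false
universe u
open CategoryTheory CategoryTheory.Limits AlgebraicGeometry TopologicalSpace
open SDiv

namespace Groth.Agent.S8848


section Aux

open TensorProduct
open Groth.Agent.Lib.Helper14.LCF Groth.Agent.Lib.Helper14.FlatOpen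
open Groth.Agent.Lib.Helper1.FlatAffine

/-- two generators of the same principal ideal: if one is a nonzerodivisor so is the other. -/
theorem nzd_of_span_eq {R : Type*} [CommRing R] {a b : R} (hb : b ∈ nonZeroDivisors R)
    (h : Ideal.span {a} = Ideal.span {b}) : a ∈ nonZeroDivisors R := by
  have ha : a ∈ Ideal.span {b} := h ▸ Ideal.mem_span_singleton_self a
  have hb' : b ∈ Ideal.span {a} := h.symm ▸ Ideal.mem_span_singleton_self b
  obtain ⟨u, hu⟩ := Ideal.mem_span_singleton'.mp ha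
  obtain ⟨v, hv⟩ := Ideal.mem_span_singleton'.mp hb'
  have huv : v * u = 1 := by
    have h1 : (v * u - 1) * b = 0 := by rw [sub_mul, one_mul, mul_assoc, hu, hv, sub_self]
    exact sub_eq_zero.mp ((mul_right_mem_nonZeroDivisors_eq_zero_iff hb).mp h1)
  rw [mem_nonZeroDivisors_iff_right]
  intro x hx
  have h1 : (x * u) * b = 0 := by rw [mul_assoc, hu]; exact hx
  have h2 : x * u = 0 := (mul_right_mem_nonZeroDivisors_eq_zero_iff hb).mp h1
  calc x = x * (v * u) := by rw [huv, mul_one]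
    _ = (x * u) * v := by ring
    _ = 0 := by rw [h2, zero_mul]

theorem principal_basicOpen' {X : Scheme.{u}} (𝓘 : X.IdealSheafData) (U : X.affineOpens)
    (a : Γ(X, U.1)) (hI : 𝓘.ideal U = Ideal.span {a}) (s : Γ(X, U.1)) :
    𝓘.ideal (X.affineBasicOpen s) =
      Ideal.span {algebraMap Γ(X, U.1) Γ(X, X.basicOpen s) a} := by
  rw [← 𝓘.map_ideal_basicOpen U s, hI, Ideal.map_span, Set.image_singleton]
  rfl

theorem chart_off_support {X : Scheme.{u}} (𝓘 : X.IdealSheafData) (x : X) (hx : x ∉ 𝓘.support) :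
    ∃ U : X.affineOpens, x ∈ U.1 ∧ ∃ f : Γ(X, U.1), f ∈ nonZeroDivisors Γ(X, U.1) ∧
      𝓘.ideal U = Ideal.span {f} := by
  obtain ⟨U₁, hU₁aff, hxU₁, -⟩ := (Opens.isBasis_iff_nbhd.mp X.isBasis_affineOpens)
    (show x ∈ (⊤ : X.Opens) from trivial)
  let U₁' : X.affineOpens := ⟨U₁, hU₁aff⟩
  have h1 : ¬ (x ∈ X.zeroLocus (U := U₁'.1) (𝓘.ideal U₁')) := by
    rw [← Scheme.IdealSheafData.mem_support_iff_of_mem (I := 𝓘) (U := U₁') hxU₁]
    exact hx
  rw [Scheme.mem_zeroLocus_iff] at h1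
  push_neg at h1
  obtain ⟨c, hc, hxc⟩ := h1
  haveI := U₁'.2.isLocalization_basicOpen c
  refine ⟨X.affineBasicOpen c, hxc, 1, one_mem _, ?_⟩
  rw [Ideal.span_singleton_one, ← 𝓘.map_ideal_basicOpen U₁' c]
  exact Ideal.eq_top_of_isUnit_mem _ (Ideal.mem_map_of_mem _ hc)
    (IsLocalization.Away.algebraMap_isUnit c)

/-- **slicing on a given chart** (adapted from helper14 `exists_slice`): ring-level output. -/
theorem slice_chart {X S : Scheme.{u}} (f : X ⟶ S) [LocallyOfFinitePresentation f] (x : X)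
    (hflat : (f.stalkMap x).hom.Flat) (T : S.Opens) (hT : IsAffineOpen T) (U₀ : X.Opens)
    (hU₀ : IsAffineOpen U₀) (hU₀T : U₀ ≤ f ⁻¹ᵁ T) (hxU₀ : x ∈ U₀) (h₀ : Γ(X, U₀))
    (hm : X.presheaf.germ U₀ x hxU₀ h₀ ∈ IsLocalRing.maximalIdeal (X.presheaf.stalk x))
    (hreg : ∀ w : X.presheaf.stalk x,
      X.presheaf.germ U₀ x hxU₀ h₀ * w ∈
        Ideal.map (f.stalkMap x).hom (IsLocalRing.maximalIdeal (S.presheaf.stalk (f x))) →
      w ∈ Ideal.map (f.stalkMap x).hom (IsLocalRing.maximalIdeal (S.presheaf.stalk (f x)))) :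
    ∃ c : Γ(X, U₀), x ∈ X.basicOpen c ∧
      algebraMap Γ(X, U₀) Γ(X, X.basicOpen c) h₀ ∈ nonZeroDivisors Γ(X, X.basicOpen c) ∧
      ((Ideal.Quotient.mk (Ideal.span {algebraMap Γ(X, U₀) Γ(X, X.basicOpen c) h₀})).comp
        (f.appLE T (X.basicOpen c) (le_trans (X.basicOpen_le c) hU₀T)).hom).Flat := by
  have hsT : f x ∈ T := hU₀T hxU₀
  letI aAC : Algebra Γ(S, T) Γ(X, U₀) := (f.appLE T U₀ hU₀T).hom.toAlgebra
  haveI fpAC : Algebra.FinitePresentation Γ(S, T) Γ(X, U₀) :=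
    f.finitePresentation_appLE hT hU₀ hU₀T
  set Q := (hU₀.primeIdealOf ⟨x, hxU₀⟩).asIdeal with hQ
  letI aCO : Algebra Γ(X, U₀) (X.presheaf.stalk x) :=
    TopCat.Presheaf.algebra_section_stalk X.presheaf (U := U₀) ⟨x, hxU₀⟩
  haveI locO : IsLocalization.AtPrime (X.presheaf.stalk x) Q :=
    hU₀.isLocalization_stalk ⟨x, hxU₀⟩
  letI aAO : Algebra Γ(S, T) (X.presheaf.stalk x) :=
    ((algebraMap Γ(X, U₀) (X.presheaf.stalk x)).comp (algebraMap Γ(S, T) Γ(X, U₀))).toAlgebra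
  haveI : IsScalarTower Γ(S, T) Γ(X, U₀) (X.presheaf.stalk x) :=
    IsScalarTower.of_algebraMap_eq fun _ => rfl
  letI aAOs : Algebra Γ(S, T) (S.presheaf.stalk (f x)) :=
    TopCat.Presheaf.algebra_section_stalk S.presheaf (U := T) ⟨f x, hsT⟩
  haveI locOs : IsLocalization.AtPrime (S.presheaf.stalk (f x))
      (hT.primeIdealOf ⟨f x, hsT⟩).asIdeal := hT.isLocalization_stalk ⟨f x, hsT⟩
  letI aOsO : Algebra (S.presheaf.stalk (f x)) (X.presheaf.stalk x) :=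
    (f.stalkMap x).hom.toAlgebra
  haveI : IsScalarTower Γ(S, T) (S.presheaf.stalk (f x)) (X.presheaf.stalk x) :=
    IsScalarTower.of_algebraMap_eq fun r => germ_appLE f hU₀T x hxU₀ r
  haveI : Module.Flat (S.presheaf.stalk (f x)) (X.presheaf.stalk x) := hflat
  haveI : Module.Flat Γ(S, T) (S.presheaf.stalk (f x)) :=
    IsLocalization.flat _ (hT.primeIdealOf ⟨f x, hsT⟩).asIdeal.primeCompl
  haveI flAO : Module.Flat Γ(S, T) (X.presheaf.stalk x) :=
    Module.Flat.trans Γ(S, T) (S.presheaf.stalk (f x)) (X.presheaf.stalk x)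
  have hg : h₀ ∈ Q := by
    rw [← IsLocalization.AtPrime.to_map_mem_maximal_iff (X.presheaf.stalk x) Q h₀]
    exact hm
  have hq : Q.comap (algebraMap Γ(S, T) Γ(X, U₀)) = (hT.primeIdealOf ⟨f x, hsT⟩).asIdeal :=
    congrArg PrimeSpectrum.asIdeal (IsAffineOpen.comap_primeIdealOf_appLE T hT U₀ hU₀ hU₀T hxU₀)
  have hmem : ∀ w : X.presheaf.stalk x,
      w ∈ (Q.comap (algebraMap Γ(S, T) Γ(X, U₀))) • (⊤ : Submodule Γ(S, T) (X.presheaf.stalk x)) ↔
      w ∈ Ideal.map (f.stalkMap x).hom (IsLocalRing.maximalIdeal (S.presheaf.stalk (f x))) := by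
    intro w
    rw [Ideal.smul_top_eq_map, Submodule.restrictScalars_mem, hq,
      IsScalarTower.algebraMap_eq Γ(S, T) (S.presheaf.stalk (f x)) (X.presheaf.stalk x),
      ← Ideal.map_map, IsLocalization.AtPrime.map_eq_maximalIdeal
        (hT.primeIdealOf ⟨f x, hsT⟩).asIdeal (S.presheaf.stalk (f x))]
    rfl
  have hregQ : ∀ w : X.presheaf.stalk x,
      h₀ • w ∈ (Q.comap (algebraMap Γ(S, T) Γ(X, U₀))) •
        (⊤ : Submodule Γ(S, T) (X.presheaf.stalk x)) →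
      w ∈ (Q.comap (algebraMap Γ(S, T) Γ(X, U₀))) •
        (⊤ : Submodule Γ(S, T) (X.presheaf.stalk x)) := by
    intro w hw
    rw [hmem] at hw ⊢
    refine hreg w ?_
    have e : h₀ • w = X.presheaf.germ U₀ x hxU₀ h₀ * w := by
      rw [Algebra.smul_def]
      rfl
    rwa [e] at hw
  obtain ⟨c, hc, H⟩ := exists_away_regular_flat (A := Γ(S, T)) (B := Γ(X, U₀))
    (N := Γ(X, U₀)) Q h₀ hg (Algebra.linearMap Γ(X, U₀) (X.presheaf.stalk x)) hregQ
  have hxU : x ∈ X.basicOpen c := by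
    rw [Scheme.mem_basicOpen X c x hxU₀]
    exact (IsLocalization.AtPrime.isUnit_to_map_iff (X.presheaf.stalk x) Q c).2 hc
  have hU : IsAffineOpen (X.basicOpen c) := hU₀.basicOpen c
  have hUT : X.basicOpen c ≤ f ⁻¹ᵁ T := le_trans (X.basicOpen_le c) hU₀T
  haveI locU : IsLocalization.Away c Γ(X, X.basicOpen c) := hU₀.isLocalization_basicOpen c
  letI aAU : Algebra Γ(S, T) Γ(X, X.basicOpen c) :=
    ((algebraMap Γ(X, U₀) Γ(X, X.basicOpen c)).comp (algebraMap Γ(S, T) Γ(X, U₀))).toAlgebra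
  haveI : IsScalarTower Γ(S, T) Γ(X, U₀) Γ(X, X.basicOpen c) :=
    IsScalarTower.of_algebraMap_eq fun _ => rfl
  obtain ⟨hregU, hflU⟩ := H Γ(X, X.basicOpen c)
    (Algebra.linearMap Γ(X, U₀) Γ(X, X.basicOpen c))
  have hflU' := flat_quot_span_of_flat_quot_smul (A := Γ(S, T)) h₀ hflU
  refine ⟨c, hxU, ?_, ?_⟩
  · rw [mem_nonZeroDivisors_iff_right]
    intro y hy
    apply hregU
    show h₀ • y = h₀ • 0
    rw [smul_zero, Algebra.smul_def, mul_comm]
    exact hy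
  · set h' := algebraMap Γ(X, U₀) Γ(X, X.basicOpen c) h₀ with hh'
    have h3 : (algebraMap Γ(S, T) (Γ(X, X.basicOpen c) ⧸ Ideal.span {h'})).Flat :=
      RingHom.flat_algebraMap_iff.2 hflU'
    have h4 : (Ideal.Quotient.mk (Ideal.span {h'})).comp (f.appLE T (X.basicOpen c) hUT).hom =
        algebraMap Γ(S, T) (Γ(X, X.basicOpen c) ⧸ Ideal.span {h'}) := by
      ext a
      change Ideal.Quotient.mk _ ((f.appLE T (X.basicOpen c) hUT).hom a) =
        Ideal.Quotient.mk _ (algebraMap Γ(X, U₀) Γ(X, X.basicOpen c)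
          (algebraMap Γ(S, T) Γ(X, U₀) a))
      congr 1
      exact congr($(Scheme.Hom.appLE_map f hU₀T (homOfLE (X.basicOpen_le c)).op).hom a).symm
    rw [h4]
    exact h3

/-- the chart at a point of the support, from the fibrewise hypothesis. -/
theorem chart_at {X S : Scheme.{u}} (φ : X ⟶ S) [Flat φ] [LocallyOfFinitePresentation φ]
    (𝓘 : X.IdealSheafData) (s : S) (hfib : BlowUp.IsEffCartierIdeal (𝓘.comap (φ.fiberι s)))
    (y : φ.fiber s) (x : X) (hyx : (φ.fiberι s) y = x) (hx : x ∈ 𝓘.support)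
    (U₁ : X.affineOpens) (hxU₁ : x ∈ U₁.1) (g₁ : Γ(X, U₁.1))
    (hI₁ : 𝓘.ideal U₁ = Ideal.span {g₁}) :
    ∃ (V : S.affineOpens) (U : X.affineOpens) (_ : x ∈ U.1) (e : U.1 ≤ φ ⁻¹ᵁ V.1)
      (a : Γ(X, U.1)), a ∈ nonZeroDivisors Γ(X, U.1) ∧ 𝓘.ideal U = Ideal.span {a} ∧
      ((Ideal.Quotient.mk (𝓘.ideal U)).comp (φ.appLE V.1 U.1 e).hom).Flat := by
  subst hyx
  set ι := φ.fiberι s with hι
  obtain ⟨V, hVaff, hxV, -⟩ := (Opens.isBasis_iff_nbhd.mp S.isBasis_affineOpens)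
    (show φ (ι y) ∈ (⊤ : S.Opens) from trivial)
  obtain ⟨c₀, hc₀V, hxc₀⟩ := U₁.2.exists_basicOpen_le (V := φ ⁻¹ᵁ V) ⟨ι y, hxV⟩ hxU₁
  let U₀ : X.affineOpens := X.affineBasicOpen c₀
  have hxU₀ : ι y ∈ U₀.1 := hxc₀
  have hU₀V : U₀.1 ≤ φ ⁻¹ᵁ V := hc₀V
  set g : Γ(X, U₀.1) := algebraMap Γ(X, U₁.1) Γ(X, X.basicOpen c₀) g₁ with hg
  have hI₀ : 𝓘.ideal U₀ = Ideal.span {g} := principal_basicOpen' 𝓘 U₁ g₁ hI₁ c₀
  -- `g` lies in the maximal ideal at the point
  have hsupp : ι y ∈ 𝓘.support := hx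
  rw [Scheme.IdealSheafData.mem_support_iff_of_mem (U := U₀) hxU₀,
    Scheme.mem_zeroLocus_iff] at hsupp
  have hm : X.presheaf.germ U₀.1 (ι y) hxU₀ g ∈
      IsLocalRing.maximalIdeal (X.presheaf.stalk (ι y)) := by
    rw [IsLocalRing.mem_maximalIdeal, mem_nonunits_iff, ← Scheme.mem_basicOpen X g (ι y) hxU₀]
    exact hsupp g (by rw [hI₀]; exact Ideal.mem_span_singleton_self g)
  -- the fibre chart
  have hy : y ∈ ι ⁻¹ᵁ U₀.1 := hxU₀
  obtain ⟨W, hyW, hWU, h, hh, hIW⟩ :=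
    Groth.Agent.Lib.Helper3.exists_affine_principal_le (𝓘.comap ι) hfib y (ι ⁻¹ᵁ U₀.1) hy
  have hcomap := Groth.Agent.Lib.Helper3.ideal_comap_of_le ι 𝓘 W U₀ hWU
  rw [hI₀, Ideal.map_span, Set.image_singleton] at hcomap
  have hgbar : (ι.appLE U₀.1 W.1 hWU).hom g ∈ nonZeroDivisors Γ(φ.fiber s, W.1) :=
    nzd_of_span_eq hh (hcomap.symm.trans hIW)
  have hgerm_nzd : (φ.fiber s).presheaf.germ W.1 y hyW ((ι.appLE U₀.1 W.1 hWU).hom g) ∈
      nonZeroDivisors ((φ.fiber s).presheaf.stalk y) := by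
    letI : Algebra Γ(φ.fiber s, W.1) ((φ.fiber s).presheaf.stalk y) :=
      TopCat.Presheaf.algebra_section_stalk (φ.fiber s).presheaf (U := W.1) ⟨y, hyW⟩
    haveI : IsLocalization.AtPrime ((φ.fiber s).presheaf.stalk y)
        (W.2.primeIdealOf ⟨y, hyW⟩).asIdeal := W.2.isLocalization_stalk ⟨y, hyW⟩
    exact IsLocalization.map_nonZeroDivisors_le (W.2.primeIdealOf ⟨y, hyW⟩).asIdeal.primeCompl _
      (Submonoid.mem_map_of_mem _ hgbar)
  obtain ⟨-, hker⟩ := Groth.Agent.Lib.Helper17.FibreStalkMap.stalkMap_fiberι φ s y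
  have hreg : ∀ w : X.presheaf.stalk (ι y),
      X.presheaf.germ U₀.1 (ι y) hxU₀ g * w ∈
        Ideal.map (φ.stalkMap (ι y)).hom
          (IsLocalRing.maximalIdeal (S.presheaf.stalk (φ (ι y)))) →
      w ∈ Ideal.map (φ.stalkMap (ι y)).hom
          (IsLocalRing.maximalIdeal (S.presheaf.stalk (φ (ι y)))) := by
    intro w hw
    have hw' : X.presheaf.germ U₀.1 (ι y) hxU₀ g * w ∈ RingHom.ker (ι.stalkMap y).hom := by
      rw [hker]
      exact hw
    rw [RingHom.mem_ker, map_mul] at hw'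
    have e1 : (ι.stalkMap y).hom (X.presheaf.germ U₀.1 (ι y) hxU₀ g) =
        (φ.fiber s).presheaf.germ W.1 y hyW ((ι.appLE U₀.1 W.1 hWU).hom g) :=
      (germ_appLE ι hWU y hyW g).symm
    rw [e1] at hw'
    have h0 : (ι.stalkMap y).hom w = 0 :=
      (mul_left_mem_nonZeroDivisors_eq_zero_iff hgerm_nzd).mp hw'
    have h1 : w ∈ RingHom.ker (ι.stalkMap y).hom := h0
    rw [hker] at h1
    exact h1
  obtain ⟨c, hxc, hnzd, hfl⟩ := slice_chart φ (ι y) (Flat.stalkMap φ (ι y)) V hVaff U₀.1 U₀.2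
    hU₀V hxU₀ g hm hreg
  have hIU : 𝓘.ideal (X.affineBasicOpen c) =
      Ideal.span {algebraMap Γ(X, U₀.1) Γ(X, X.basicOpen c) g} :=
    principal_basicOpen' 𝓘 U₀ g hI₀ c
  refine ⟨⟨V, hVaff⟩, X.affineBasicOpen c, hxc, le_trans (X.basicOpen_le c) hU₀V,
    algebraMap Γ(X, U₀.1) Γ(X, X.basicOpen c) g, hnzd, hIU, ?_⟩
  rw [hIU]
  exact hfl

end Aux



/-- Let φ : X ⟶ S be flat and locally of finite presentation and let 𝓘 be a quasi-coherent ideal sheaf
on X which is locally principal (generated by one section on some affine open neighbourhood of each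
point of its support). If for every point s of S the inverse image ideal of 𝓘 on the
scheme-theoretic fibre X_s is the ideal sheaf of an effective Cartier divisor of X_s, then 𝓘 is the
ideal sheaf of an effective Cartier divisor of X and its closed subscheme is flat over S (a relative
effective Cartier divisor). -/
theorem result {X S : Scheme.{u}} (φ : X ⟶ S) [Flat φ] [LocallyOfFinitePresentation φ]
    (𝓘 : X.IdealSheafData) (hZ : Curv2.IsLocPrincipal 𝓘)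
    (hfib : ∀ s : ↥S, BlowUp.IsEffCartierIdeal (𝓘.comap (φ.fiberι s))) :
    BlowUp.IsEffCartierIdeal 𝓘 ∧ Flat (𝓘.subschemeι ≫ φ) := by
  have key : ∀ x ∈ 𝓘.support, ∃ (V : S.affineOpens) (U : X.affineOpens) (_ : x ∈ U.1)
      (e : U.1 ≤ φ ⁻¹ᵁ V.1) (a : Γ(X, U.1)), a ∈ nonZeroDivisors Γ(X, U.1) ∧
      𝓘.ideal U = Ideal.span {a} ∧
      ((Ideal.Quotient.mk (𝓘.ideal U)).comp (φ.appLE V.1 U.1 e).hom).Flat := by
    intro x hx
    obtain ⟨U₁, hxU₁, g₁, hI₁⟩ := hZ x hx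
    exact chart_at φ 𝓘 (φ x) (hfib (φ x)) (φ.asFiber x) x (φ.fiberι_asFiber x) hx U₁ hxU₁ g₁ hI₁
  constructor
  · intro x
    by_cases hx : x ∈ 𝓘.support
    · obtain ⟨V, U, hxU, e, a, ha, hI, -⟩ := key x hx
      exact ⟨U, hxU, a, ha, hI⟩
    · exact chart_off_support 𝓘 x hx
  · apply Groth.Agent.Lib.Helper3.flat_subschemeι_comp_of_forall
    intro d
    have hd : 𝓘.subschemeι d ∈ (𝓘.support : Set X) := by
      rw [← 𝓘.range_subschemeι]
      exact ⟨d, rfl⟩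
    obtain ⟨V, U, hxU, e, a, ha, hI, hfl⟩ := key _ hd
    exact ⟨V, U, hxU, e, hfl⟩

end Groth.Agent.S8848
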