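import Groth.Statements.S8847
import Mathlib
import Groth.Agent.S8848

set_option autoImplicit false
set_option linter.style.haveILetI false
universe u
open CategoryTheory CategoryTheory.Limits AlgebraicGeometry TopologicalSpace
open SDiv

namespace Groth.Agent.S8847


section Aux

open TensorProduct
open Groth.Agent.Lib.Helper14.LCF Groth.Agent.Lib.Helper14.FlatOpen
open Groth.Agent.Lib.Helper1.FlatAffine

/-- **local principality from the fibre** (ring level).  `A → B`, `I` a finitely generated ideal of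
`B` with `B/I` flat over `A`, `Q` a prime of `B`, `L = B_Q`; `σ : L → L'` surjective with kernel
`p L` (`p = Q ∩ A`).  If `σ(I L)` is principal, then `I` is principal on a basic open neighbourhood
of `Q`. -/
theorem exists_principal_away {A B L L' : Type u} [CommRing A] [CommRing B] [CommRing L]
    [CommRing L'] [Nontrivial L'] [Algebra A B] [Algebra B L] [Algebra A L] [IsScalarTower A B L]
    (Q : Ideal B) [Q.IsPrime] [IsLocalization.AtPrime L Q]
    (I : Ideal B) (hIfg : I.FG) [Module.Flat A (B ⧸ I)]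
    (σ : L →+* L') (hσ : Function.Surjective σ)
    (hker : RingHom.ker σ = (Q.comap (algebraMap A B)).map (algebraMap A L))
    (hprin : ∃ a' ∈ I.map (algebraMap B L),
      (I.map (algebraMap B L)).map σ = Ideal.span {σ a'}) :
    ∃ g ∈ I, ∃ c : B, c ∉ Q ∧ ∀ a ∈ I, c * a ∈ Ideal.span {g} := by
  classical
  haveI : IsLocalRing L := IsLocalization.AtPrime.isLocalRing L Q
  obtain ⟨a', ha', hspan⟩ := hprin
  -- choose `g`
  obtain ⟨⟨a, t⟩, hat⟩ := (IsLocalization.mem_map_algebraMap_iff Q.primeCompl L).mp ha'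
  have hat' : a' * algebraMap B L (t : B) = algebraMap B L (a : B) := hat
  have hgI : (a : B) ∈ I := a.2
  have hgIL : algebraMap B L (a : B) ∈ I.map (algebraMap B L) := Ideal.mem_map_of_mem _ hgI
  have htunit : IsUnit (algebraMap B L (t : B)) := IsLocalization.map_units L t
  have hspan' : (I.map (algebraMap B L)).map σ = Ideal.span {σ (algebraMap B L (a : B))} := by
    rw [hspan, ← hat', map_mul, Ideal.span_singleton_mul_right_unit (htunit.map σ)]
  -- flatness of the localized quotient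
  let IL' : Submodule L L := I.localized' L Q.primeCompl (Algebra.linearMap B L)
  have hIL' : IL' = I.map (algebraMap B L) := Ideal.localized'_eq_map L Q.primeCompl I
  haveI hflatL : Module.Flat A (L ⧸ IL') :=
    flat_of_isLocalizedModule (A := A) (S := B) Q.primeCompl
      (I.toLocalizedQuotient' L Q.primeCompl (Algebra.linearMap B L)) inferInstance
  have hT : ∀ k : L, k ∈ I.map (algebraMap B L) →
      k ∈ (Q.comap (algebraMap A B)).map (algebraMap A L) →
      k ∈ ((Q.comap (algebraMap A B)).map (algebraMap A L)) • (I.map (algebraMap B L)) := by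
    intro k hk1 hk2
    have h1 : k ∈ LinearMap.ker IL'.mkQ := by
      rw [Submodule.ker_mkQ, hIL']
      exact hk1
    have h2 : k ∈ ((Q.comap (algebraMap A B)).map (algebraMap A L)) • (⊤ : Submodule L L) := by
      have h : k • (1 : L) ∈ ((Q.comap (algebraMap A B)).map (algebraMap A L)) •
          (⊤ : Submodule L L) :=
        Submodule.smul_mem_smul hk2 (Submodule.mem_top : (1 : L) ∈ (⊤ : Submodule L L))
      have e : k • (1 : L) = k := by rw [smul_eq_mul, mul_one]
      rw [e] at h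
      exact h
    have h3 := Groth.Agent.Lib.Helper14.FibreFree.mem_smul_ker_of_flat (A := A) (B := L) IL'.mkQ
      (Submodule.mkQ_surjective _) (Q.comap (algebraMap A B)) h1 h2
    rw [Submodule.ker_mkQ, hIL'] at h3
    exact h3
  -- Nakayama
  have hJ : (Q.comap (algebraMap A B)).map (algebraMap A L) ≤ Ideal.jacobson ⊥ := by
    rw [IsLocalRing.jacobson_eq_maximalIdeal ⊥ bot_ne_top, ← hker]
    exact IsLocalRing.le_maximalIdeal (RingHom.ker_ne_top σ)
  have hNN : I.map (algebraMap B L) ≤ Ideal.span {algebraMap B L (a : B)} ⊔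
      ((Q.comap (algebraMap A B)).map (algebraMap A L)) • (I.map (algebraMap B L)) := by
    intro b hb
    have hσb : σ b ∈ (I.map (algebraMap B L)).map σ := Ideal.mem_map_of_mem σ hb
    rw [hspan'] at hσb
    obtain ⟨r', hr'⟩ := Ideal.mem_span_singleton'.mp hσb
    obtain ⟨l, rfl⟩ := hσ r'
    have hk1 : b - l * algebraMap B L (a : B) ∈ I.map (algebraMap B L) :=
      (I.map (algebraMap B L)).sub_mem hb ((I.map (algebraMap B L)).mul_mem_left l hgIL)
    have hk2 : b - l * algebraMap B L (a : B) ∈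
        (Q.comap (algebraMap A B)).map (algebraMap A L) := by
      rw [← hker, RingHom.mem_ker, map_sub, map_mul, hr', sub_self]
    have hk3 := hT _ hk1 hk2
    have hb' : b = l * algebraMap B L (a : B) + (b - l * algebraMap B L (a : B)) := by ring
    rw [hb']
    exact Submodule.add_mem_sup (Ideal.mem_span_singleton'.mpr ⟨l, rfl⟩) hk3
  have hle : I.map (algebraMap B L) ≤ Ideal.span {algebraMap B L (a : B)} :=
    Submodule.le_of_le_smul_of_le_jacobson_bot (hIfg.map _) hJ hNN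
  -- spreading out, one element at a time
  have hpt : ∀ b ∈ I, ∃ c : B, c ∉ Q ∧ c * b ∈ Ideal.span {(a : B)} := by
    intro b hb
    have h1 : algebraMap B L b ∈ Ideal.span {algebraMap B L (a : B)} :=
      hle (Ideal.mem_map_of_mem _ hb)
    obtain ⟨l, hl⟩ := Ideal.mem_span_singleton'.mp h1
    obtain ⟨β, t', rfl⟩ := IsLocalization.exists_mk'_eq Q.primeCompl l
    have h2 : algebraMap B L (β * (a : B)) = algebraMap B L (b * (t' : B)) := by
      have e1 := IsLocalization.mk'_spec L β t'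
      rw [map_mul, map_mul, ← hl, ← e1]
      ring
    obtain ⟨u, hu⟩ := (IsLocalization.eq_iff_exists Q.primeCompl L).mp h2
    refine ⟨(u : B) * (t' : B), ?_, ?_⟩
    · intro hmem
      rcases Ideal.IsPrime.mem_or_mem ‹Q.IsPrime› hmem with h | h
      · exact u.2 h
      · exact t'.2 h
    · have h3 : (u : B) * (t' : B) * b = ((u : B) * β) * (a : B) := by
        calc (u : B) * (t' : B) * b = (u : B) * (b * (t' : B)) := by ring
          _ = (u : B) * (β * (a : B)) := hu.symm
          _ = ((u : B) * β) * (a : B) := by ring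
      rw [h3]
      exact Ideal.mem_span_singleton'.mpr ⟨_, rfl⟩
  have hfin : ∀ s' : Finset B, (∀ b ∈ s', b ∈ I) →
      ∃ c : B, c ∉ Q ∧ ∀ b ∈ s', c * b ∈ Ideal.span {(a : B)} := by
    intro s'
    induction s' using Finset.induction_on with
    | empty =>
      intro _
      exact ⟨1, (Ideal.ne_top_iff_one Q).mp (Ideal.IsPrime.ne_top ‹Q.IsPrime›),
        fun b hb => absurd hb (Finset.notMem_empty b)⟩
    | insert b₀ s' hb₀ ih =>
      intro hmem
      obtain ⟨c₁, hc₁, h₁⟩ := ih (fun b hb => hmem b (Finset.mem_insert_of_mem hb))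
      obtain ⟨c₂, hc₂, h₂⟩ := hpt b₀ (hmem b₀ (Finset.mem_insert_self _ _))
      refine ⟨c₁ * c₂, ?_, ?_⟩
      · intro h
        rcases Ideal.IsPrime.mem_or_mem ‹Q.IsPrime› h with h | h
        · exact hc₁ h
        · exact hc₂ h
      · intro b hb
        rcases Finset.mem_insert.mp hb with rfl | hb
        · rw [mul_assoc]
          exact Ideal.mul_mem_left _ _ h₂
        · rw [mul_comm c₁ c₂, mul_assoc]
          exact Ideal.mul_mem_left _ _ (h₁ b hb)
  obtain ⟨s, hs⟩ := hIfg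
  obtain ⟨c, hc, hcs⟩ := hfin s (fun b hb => by rw [← hs]; exact Ideal.subset_span hb)
  refine ⟨(a : B), hgI, c, hc, ?_⟩
  intro x hx
  rw [← hs] at hx
  refine Submodule.span_induction (p := fun x _ => c * x ∈ Ideal.span {(a : B)}) ?_ ?_ ?_ ?_ hx
  · intro b hb
    exact hcs b (Finset.mem_coe.mp hb)
  · rw [mul_zero]
    exact Ideal.zero_mem _
  · intro x y _ _ hx hy
    rw [mul_add]
    exact Ideal.add_mem _ hx hy
  · intro r x _ hx
    rw [smul_eq_mul, mul_left_comm]
    exact Ideal.mul_mem_left _ _ hx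

/-- local principality of `𝓘` at a point, from the fibrewise hypothesis. -/
theorem locPrincipal_at {X S : Scheme.{u}} (φ : X ⟶ S) [Flat φ] [LocallyOfFinitePresentation φ]
    (𝓘 : X.IdealSheafData) [Flat (𝓘.subschemeι ≫ φ)]
    [LocallyOfFinitePresentation (𝓘.subschemeι ≫ φ)]
    (s : S) (hfib : BlowUp.IsEffCartierIdeal (𝓘.comap (φ.fiberι s)))
    (y : φ.fiber s) (x : X) (hyx : (φ.fiberι s) y = x) :
    ∃ U : X.affineOpens, x ∈ (U : X.Opens) ∧ ∃ f : Γ(X, U), 𝓘.ideal U = Ideal.span {f} := by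
  subst hyx
  set ι := φ.fiberι s with hι
  obtain ⟨T, hT, hsT, -⟩ := (Opens.isBasis_iff_nbhd.mp S.isBasis_affineOpens)
    (show φ (ι y) ∈ (⊤ : S.Opens) from trivial)
  obtain ⟨U₀, hU₀, hxU₀, hU₀T'⟩ := (Opens.isBasis_iff_nbhd.mp X.isBasis_affineOpens)
    (show ι y ∈ φ ⁻¹ᵁ T from hsT)
  have hU₀T : U₀ ≤ φ ⁻¹ᵁ T := hU₀T'
  let U₀' : X.affineOpens := ⟨U₀, hU₀⟩
  letI aAC : Algebra Γ(S, T) Γ(X, U₀) := (φ.appLE T U₀ hU₀T).hom.toAlgebra
  haveI fpAC : Algebra.FinitePresentation Γ(S, T) Γ(X, U₀) :=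
    φ.finitePresentation_appLE hT hU₀ hU₀T
  set Q := (hU₀.primeIdealOf ⟨ι y, hxU₀⟩).asIdeal with hQ
  letI aCO : Algebra Γ(X, U₀) (X.presheaf.stalk (ι y)) :=
    TopCat.Presheaf.algebra_section_stalk X.presheaf (U := U₀) ⟨ι y, hxU₀⟩
  haveI locO : IsLocalization.AtPrime (X.presheaf.stalk (ι y)) Q :=
    hU₀.isLocalization_stalk ⟨ι y, hxU₀⟩
  letI aAO : Algebra Γ(S, T) (X.presheaf.stalk (ι y)) :=
    ((algebraMap Γ(X, U₀) (X.presheaf.stalk (ι y))).comp
      (algebraMap Γ(S, T) Γ(X, U₀))).toAlgebra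
  haveI : IsScalarTower Γ(S, T) Γ(X, U₀) (X.presheaf.stalk (ι y)) :=
    IsScalarTower.of_algebraMap_eq fun _ => rfl
  letI aAOs : Algebra Γ(S, T) (S.presheaf.stalk (φ (ι y))) :=
    TopCat.Presheaf.algebra_section_stalk S.presheaf (U := T) ⟨φ (ι y), hsT⟩
  haveI locOs : IsLocalization.AtPrime (S.presheaf.stalk (φ (ι y)))
      (hT.primeIdealOf ⟨φ (ι y), hsT⟩).asIdeal := hT.isLocalization_stalk ⟨φ (ι y), hsT⟩
  letI aOsO : Algebra (S.presheaf.stalk (φ (ι y))) (X.presheaf.stalk (ι y)) :=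
    (φ.stalkMap (ι y)).hom.toAlgebra
  haveI : IsScalarTower Γ(S, T) (S.presheaf.stalk (φ (ι y))) (X.presheaf.stalk (ι y)) :=
    IsScalarTower.of_algebraMap_eq fun r => germ_appLE φ hU₀T (ι y) hxU₀ r
  set I : Ideal Γ(X, U₀) := 𝓘.ideal U₀' with hI
  -- flatness and finite presentation of the quotient
  have hflat0 := Groth.Agent.Lib.Helper3.flat_quotient_appLE_of_flat_subschemeι_comp φ 𝓘
    ⟨T, hT⟩ U₀' hU₀T
  haveI hQflat : Module.Flat Γ(S, T) (Γ(X, U₀) ⧸ I) := by
    rw [← RingHom.flat_algebraMap_iff]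
    exact hflat0
  have hW : IsAffineOpen (𝓘.subschemeι ⁻¹ᵁ U₀) := hU₀.preimage 𝓘.subschemeι
  have e' := Groth.Agent.Lib.Helper3.preimage_le_comp φ 𝓘 T U₀ hU₀T
  have hfpZ : ((𝓘.subschemeι ≫ φ).appLE T (𝓘.subschemeι ⁻¹ᵁ U₀) e').hom.FinitePresentation :=
    (𝓘.subschemeι ≫ φ).finitePresentation_appLE hT hW e'
  rw [Groth.Agent.Lib.Helper3.subschemeι_comp_appLE φ 𝓘 T U₀' hU₀T e'] at hfpZ
  have hfpQ : ((Ideal.Quotient.mk I).comp (φ.appLE T U₀ hU₀T).hom).FinitePresentation := by
    have h := (RingHom.finitePresentation_respectsIso.cancel_right_isIso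
      (CommRingCat.ofHom ((Ideal.Quotient.mk I).comp (φ.appLE T U₀ hU₀T).hom))
      (𝓘.subschemeObjIso U₀').inv).mp (by exact hfpZ)
    rwa [CommRingCat.hom_ofHom] at h
  haveI : Algebra.FinitePresentation Γ(S, T) (Γ(X, U₀) ⧸ I) :=
    RingHom.finitePresentation_algebraMap.mp hfpQ
  have hIfg : I.FG := by
    have h := Algebra.FinitePresentation.ker_fG_of_surjective (Ideal.Quotient.mkₐ Γ(S, T) I)
      Ideal.Quotient.mk_surjective
    have e : RingHom.ker (Ideal.Quotient.mkₐ Γ(S, T) I).toRingHom = I := Ideal.mk_ker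
    rwa [e] at h
  -- the fibre chart
  have hy : y ∈ ι ⁻¹ᵁ U₀ := hxU₀
  obtain ⟨W, hyW, hWU, h, hh, hIW⟩ :=
    Groth.Agent.Lib.Helper3.exists_affine_principal_le (𝓘.comap ι) hfib y (ι ⁻¹ᵁ U₀) hy
  have hcomap := Groth.Agent.Lib.Helper3.ideal_comap_of_le ι 𝓘 W U₀' hWU
  obtain ⟨hσsurj, hker0⟩ := Groth.Agent.Lib.Helper17.FibreStalkMap.stalkMap_fiberι φ s y
  have hcomm : ((ι.stalkMap y).hom).comp (algebraMap Γ(X, U₀) (X.presheaf.stalk (ι y))) =
      (((φ.fiber s).presheaf.germ W.1 y hyW).hom).comp (ι.appLE U₀ W.1 hWU).hom := by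
    ext b
    exact (germ_appLE ι hWU y hyW b).symm
  have hILσ : ((I.map (algebraMap Γ(X, U₀) (X.presheaf.stalk (ι y)))).map (ι.stalkMap y).hom) =
      Ideal.span {((φ.fiber s).presheaf.germ W.1 y hyW).hom h} := by
    rw [Ideal.map_map, hcomm, ← Ideal.map_map, ← hcomap, hIW, Ideal.map_span,
      Set.image_singleton]
  have hγh : ((φ.fiber s).presheaf.germ W.1 y hyW).hom h ∈
      (I.map (algebraMap Γ(X, U₀) (X.presheaf.stalk (ι y)))).map (ι.stalkMap y).hom := by
    rw [hILσ]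
    exact Ideal.mem_span_singleton_self _
  obtain ⟨a', ha', ha'σ⟩ := (Ideal.mem_map_iff_of_surjective _ hσsurj).mp hγh
  have hprin : ∃ a' ∈ I.map (algebraMap Γ(X, U₀) (X.presheaf.stalk (ι y))),
      (I.map (algebraMap Γ(X, U₀) (X.presheaf.stalk (ι y)))).map (ι.stalkMap y).hom =
        Ideal.span {(ι.stalkMap y).hom a'} :=
    ⟨a', ha', by rw [ha'σ]; exact hILσ⟩
  have hq : Q.comap (algebraMap Γ(S, T) Γ(X, U₀)) = (hT.primeIdealOf ⟨φ (ι y), hsT⟩).asIdeal :=
    congrArg PrimeSpectrum.asIdeal (IsAffineOpen.comap_primeIdealOf_appLE T hT U₀ hU₀ hU₀T hxU₀)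
  have hker : RingHom.ker (ι.stalkMap y).hom =
      (Q.comap (algebraMap Γ(S, T) Γ(X, U₀))).map
        (algebraMap Γ(S, T) (X.presheaf.stalk (ι y))) := by
    rw [hq, IsScalarTower.algebraMap_eq Γ(S, T) (S.presheaf.stalk (φ (ι y)))
        (X.presheaf.stalk (ι y)),
      ← Ideal.map_map, IsLocalization.AtPrime.map_eq_maximalIdeal
        (hT.primeIdealOf ⟨φ (ι y), hsT⟩).asIdeal (S.presheaf.stalk (φ (ι y)))]
    exact hker0
  obtain ⟨g, hgI, c, hc, hcI⟩ := exists_principal_away (A := Γ(S, T)) (B := Γ(X, U₀))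
    (L := X.presheaf.stalk (ι y)) (L' := (φ.fiber s).presheaf.stalk y) Q I hIfg
    (ι.stalkMap y).hom hσsurj hker hprin
  have hxc : ι y ∈ X.basicOpen c := by
    rw [Scheme.mem_basicOpen X c (ι y) hxU₀]
    exact (IsLocalization.AtPrime.isUnit_to_map_iff (X.presheaf.stalk (ι y)) Q c).2 hc
  haveI locU : IsLocalization.Away c Γ(X, X.basicOpen c) := hU₀.isLocalization_basicOpen c
  have hmapaux : ∀ b ∈ I, algebraMap Γ(X, U₀) Γ(X, X.basicOpen c) b ∈
      Ideal.span {algebraMap Γ(X, U₀) Γ(X, X.basicOpen c) g} := by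
    intro b hb
    have h1 : algebraMap Γ(X, U₀) Γ(X, X.basicOpen c) (c * b) ∈
        Ideal.span {algebraMap Γ(X, U₀) Γ(X, X.basicOpen c) g} := by
      have h0 := Ideal.mem_map_of_mem (algebraMap Γ(X, U₀) Γ(X, X.basicOpen c)) (hcI b hb)
      rwa [Ideal.map_span, Set.image_singleton] at h0
    rw [map_mul] at h1
    exact (Ideal.unit_mul_mem_iff_mem _ (IsLocalization.Away.algebraMap_isUnit c)).mp h1
  have hmapeq : I.map (algebraMap Γ(X, U₀) Γ(X, X.basicOpen c)) =
      Ideal.span {algebraMap Γ(X, U₀) Γ(X, X.basicOpen c) g} := by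
    apply le_antisymm
    · rw [Ideal.map_le_iff_le_comap]
      intro b hb
      rw [Ideal.mem_comap]
      exact hmapaux b hb
    · rw [Ideal.span_le, Set.singleton_subset_iff]
      exact Ideal.mem_map_of_mem _ hgI
  refine ⟨X.affineBasicOpen (U := U₀') c, hxc,
    algebraMap Γ(X, U₀) Γ(X, X.basicOpen c) g, ?_⟩
  exact (𝓘.map_ideal_basicOpen U₀' c).symm.trans hmapeq

end Aux



/-- Let φ : X ⟶ S be flat and locally of finite presentation and let 𝓘 be a quasi-coherent ideal sheaf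
on X whose closed subscheme Z is flat and locally of finite presentation over S. If for every point
s of S the inverse image ideal of 𝓘 on the scheme-theoretic fibre X_s is the ideal sheaf of an
effective Cartier divisor of X_s, then 𝓘 is the ideal sheaf of an effective Cartier divisor of X;
together with the flatness of Z over S this says Z is a relative effective Cartier divisor. -/
theorem result {X S : Scheme.{u}} (φ : X ⟶ S) [Flat φ] [LocallyOfFinitePresentation φ]
    (𝓘 : X.IdealSheafData) [Flat (𝓘.subschemeι ≫ φ)] [LocallyOfFinitePresentation (𝓘.subschemeι ≫ φ)]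
    (hfib : ∀ s : ↥S, BlowUp.IsEffCartierIdeal (𝓘.comap (φ.fiberι s))) :
    BlowUp.IsEffCartierIdeal 𝓘 := by
  have hZ : Curv2.IsLocPrincipal 𝓘 := by
    intro x _
    exact locPrincipal_at φ 𝓘 (φ x) (hfib (φ x)) (φ.asFiber x) x (φ.fiberι_asFiber x)
  exact (Groth.Agent.S8848.result φ 𝓘 hZ hfib).1

end Groth.Agent.S8847
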