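import Groth.Statements.S8849
import Mathlib
import Groth.Agent.Lib.Helper3.RelCartier

set_option autoImplicit false
set_option linter.style.haveILetI false
universe u
open CategoryTheory CategoryTheory.Limits AlgebraicGeometry TopologicalSpace
open SDiv

namespace Groth.Agent.S8849


section Aux

open TensorProduct

theorem flat_of_nzd {C R L : Type u} [CommRing C] [CommRing R] [CommRing L] (φ : C →+* R) (t : R)
    (ht : t ∈ nonZeroDivisors R) [Algebra R L] [IsLocalization.Away t L]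
    (h1 : ((Ideal.Quotient.mk (Ideal.span {t})).comp φ).Flat)
    (h2 : ((algebraMap R L).comp φ).Flat) : φ.Flat := by
  letI : Algebra C R := φ.toAlgebra
  letI : Algebra C L := ((algebraMap R L).comp φ).toAlgebra
  haveI : IsScalarTower C R L := IsScalarTower.of_algebraMap_eq (fun _ => rfl)
  haveI hL : Module.Flat C L := h2
  haveI hQ : Module.Flat C (R ⧸ Ideal.span {t}) := by
    rw [← RingHom.flat_algebraMap_iff]
    exact h1
  show Module.Flat C R
  rw [Module.Flat.iff_lTensor_injective']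
  intro I
  rw [injective_iff_map_eq_zero]
  intro x hx
  let μ : R →ₗ[C] R := LinearMap.mulLeft C t
  have hμ : Function.Injective μ := by
    rw [injective_iff_map_eq_zero]
    intro r hr
    exact (mul_left_mem_nonZeroDivisors_eq_zero_iff ht).mp hr
  let q : R →ₗ[C] (R ⧸ Ideal.span {t}) := (Ideal.Quotient.mkₐ C (Ideal.span {t})).toLinearMap
  have hq : Function.Surjective q := Ideal.Quotient.mk_surjective
  have hex : Function.Exact μ q := by
    intro y
    constructor
    · intro hy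
      have hy' : y ∈ Ideal.span {t} := Ideal.Quotient.eq_zero_iff_mem.mp hy
      obtain ⟨a, ha⟩ := Ideal.mem_span_singleton'.mp hy'
      exact ⟨a, by rw [← ha]; exact mul_comm t a⟩
    · rintro ⟨a, rfl⟩
      exact Ideal.Quotient.eq_zero_iff_mem.mpr (Ideal.mem_span_singleton'.mpr ⟨a, mul_comm a t⟩)
  have hinjl : Function.Injective (μ.lTensor I) :=
    LinearMap.lTensor_injective_of_exact_of_flat q hq μ hμ hex I
  have hinjr : Function.Injective (μ.rTensor I) := (μ.lTensor_inj_iff_rTensor_inj I).mp hinjl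
  have hsm : ∀ y : R ⊗[C] I, (μ.rTensor I) y = t • y := by
    intro y
    induction y using TensorProduct.induction_on with
    | zero => simp
    | tmul r i => rw [LinearMap.rTensor_tmul, TensorProduct.smul_tmul']; rfl
    | add a b ha hb => rw [map_add, ha, hb, smul_add]
  have htinj : ∀ (n : ℕ) (y : R ⊗[C] I), t ^ n • y = 0 → y = 0 := by
    intro n
    induction n with
    | zero => intro y hy; simpa using hy
    | succ n ih =>
      intro y hy
      apply ih
      apply hinjr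
      rw [map_zero, hsm, ← mul_smul, ← pow_succ']
      exact hy
  let g : R →ₗ[R] L := Algebra.linearMap R L
  have hG0 : (AlgebraTensorModule.rTensor C I g) x = 0 := by
    have hinj : Function.Injective (I.subtype.lTensor L) :=
      Module.Flat.lTensor_preserves_injective_linearMap _ (Submodule.subtype_injective _)
    apply hinj
    rw [map_zero]
    have h5 : (I.subtype.lTensor L) ((AlgebraTensorModule.rTensor C I g) x) =
        ((g.restrictScalars C).rTensor C) ((I.subtype.lTensor R) x) := by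
      show (I.subtype.lTensor L) (((g.restrictScalars C).rTensor I) x) = _
      rw [← LinearMap.comp_apply, ← LinearMap.comp_apply, LinearMap.lTensor_comp_rTensor,
        LinearMap.rTensor_comp_lTensor]
    rw [h5, hx, map_zero]
  obtain ⟨s, hs⟩ := (IsLocalizedModule.eq_zero_iff (Submonoid.powers t)
    (AlgebraTensorModule.rTensor C I g)).mp hG0
  obtain ⟨n, hn⟩ := (Submonoid.mem_powers_iff _ _).mp s.2
  apply htinj n
  rw [hn]
  exact hs

theorem flat_stalkMap_ι_comp {X S : Scheme.{u}} (h : X ⟶ S) (U : X.Opens) (x : X) (hx : x ∈ U)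
    (hflat : (h.stalkMap x).hom.Flat) : ((U.ι ≫ h).stalkMap ⟨x, hx⟩).hom.Flat := by
  let x' : (U : Scheme) := ⟨x, hx⟩
  rw [Scheme.Hom.stalkMap_comp]
  exact (RingHom.Flat.respectsIso.cancel_right_isIso (h.stalkMap (U.ι x'))
    (U.ι.stalkMap x')).mpr hflat

theorem isIso_presheaf_map_of_le {X : Scheme.{u}} {A B : X.Opens} (h : A ≤ B) (h' : B ≤ A) :
    IsIso (X.presheaf.map (homOfLE h).op) := by
  have e1 : (homOfLE h).op ≫ (homOfLE h').op = 𝟙 (Opposite.op B) := by
    rw [← op_comp]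
    exact congrArg Quiver.Hom.op (Subsingleton.elim (homOfLE h' ≫ homOfLE h) (𝟙 B))
  have e2 : (homOfLE h').op ≫ (homOfLE h).op = 𝟙 (Opposite.op A) := by
    rw [← op_comp]
    exact congrArg Quiver.Hom.op (Subsingleton.elim (homOfLE h ≫ homOfLE h') (𝟙 A))
  exact ⟨⟨X.presheaf.map (homOfLE h').op, by rw [← Functor.map_comp, e1]; exact X.presheaf.map_id _,
    by rw [← Functor.map_comp, e2]; exact X.presheaf.map_id _⟩⟩

theorem flat_appLE_of_forall_stalk {X S : Scheme.{u}} (f : X ⟶ S) (V : S.affineOpens)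
    (W : X.affineOpens) (e : W.1 ≤ f ⁻¹ᵁ V.1) (h : ∀ x ∈ W.1, (f.stalkMap x).hom.Flat) :
    (f.appLE V.1 W.1 e).hom.Flat := by
  haveI : IsAffine W.1.toScheme := W.2
  haveI : Flat (W.1.ι ≫ f) :=
    Flat.of_stalkMap _ (fun w => flat_stalkMap_ι_comp f W.1 w.1 w.2 (h w.1 w.2))
  have e' : (⊤ : W.1.toScheme.Opens) ≤ (W.1.ι ≫ f) ⁻¹ᵁ V.1 := by
    intro w _
    exact e w.2
  have h1 : ((W.1.ι ≫ f).appLE V.1 ⊤ e').hom.Flat :=
    HasRingHomProperty.appLE (P := @Flat) _ inferInstance V ⟨⊤, isAffineOpen_top _⟩ e'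
  have e'' : (⊤ : W.1.toScheme.Opens) ≤ W.1.ι ⁻¹ᵁ W.1 := by
    rw [Scheme.Opens.ι_preimage_self]
  have hcomp : (W.1.ι ≫ f).appLE V.1 ⊤ e' = f.appLE V.1 W.1 e ≫ W.1.ι.appLE W.1 ⊤ e'' :=
    (Scheme.Hom.appLE_comp_appLE _ _ _ _ _ _ _).symm
  rw [hcomp, CommRingCat.hom_comp] at h1
  haveI : IsIso (W.1.ι.appLE W.1 ⊤ e'') := by
    rw [Scheme.Opens.ι_appLE]
    have hle : W.1 ≤ W.1.ι ''ᵁ ⊤ := by rw [Scheme.Opens.ι_image_top]
    exact isIso_presheaf_map_of_le _ hle
  exact (RingHom.Flat.comp_iff_of_bijective_left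
    (ConcreteCategory.bijective_of_isIso (W.1.ι.appLE W.1 ⊤ e''))).mp h1

end Aux



/-- Let f : X ⟶ S be a morphism of schemes and 𝓘 the ideal sheaf of an effective Cartier divisor D ⊆ X
with D flat over S (a relative effective Cartier divisor). If f is flat at every point of X not in
D, then f is flat. -/
theorem result {X S : Scheme.{u}} (f : X ⟶ S) (𝓘 : X.IdealSheafData)
    (hD : BlowUp.IsEffCartierIdeal 𝓘 ∧ Flat (𝓘.subschemeι ≫ f))
    (hflat : ∀ x : ↥X, x ∉ 𝓘.support → (f.stalkMap x).hom.Flat) : Flat f := by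
  obtain ⟨hC, hDflat⟩ := hD
  haveI := hDflat
  have hQ : RingHom.StableUnderCompositionWithLocalizationAwaySource RingHom.Flat :=
    fun R S T _ _ _ _ r _ g hg => (RingHom.Flat.holdsForLocalizationAway S r).comp hg
  rw [HasRingHomProperty.iff_exists_appLE (P := @Flat) hQ]
  intro x
  obtain ⟨V, hVaff, hxV, -⟩ := (Opens.isBasis_iff_nbhd.mp S.isBasis_affineOpens)
    (show f x ∈ (⊤ : S.Opens) from trivial)
  by_cases hx : x ∈ 𝓘.support
  · obtain ⟨U, hxU, hUV, t, ht, hI⟩ :=
      Groth.Agent.Lib.Helper3.exists_affine_principal_le 𝓘 hC x (f ⁻¹ᵁ V) hxV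
    refine ⟨⟨V, hVaff⟩, U, hxU, hUV, ?_⟩
    haveI : IsLocalization.Away t Γ(X, X.basicOpen t) := U.2.isLocalization_basicOpen t
    refine flat_of_nzd (L := Γ(X, X.basicOpen t)) (f.appLE V U.1 hUV).hom t ht ?_ ?_
    · have h3 := Groth.Agent.Lib.Helper3.flat_quotient_appLE_of_flat_subschemeι_comp f 𝓘
        ⟨V, hVaff⟩ U hUV
      rw [hI] at h3
      exact h3
    · have hW : IsAffineOpen (X.basicOpen t) := U.2.basicOpen t
      have eW : X.basicOpen t ≤ f ⁻¹ᵁ V := (X.basicOpen_le t).trans hUV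
      have h3 := flat_appLE_of_forall_stalk f ⟨V, hVaff⟩ ⟨_, hW⟩ eW (by
        intro x' hx'
        apply hflat
        intro hsupp
        have hx'U : x' ∈ U.1 := X.basicOpen_le t hx'
        rw [Scheme.IdealSheafData.mem_support_iff_of_mem hx'U, Scheme.mem_zeroLocus_iff] at hsupp
        exact hsupp t (by rw [hI]; exact Ideal.mem_span_singleton_self t) hx')
      have hmap : f.appLE V (X.basicOpen t) eW =
          f.appLE V U.1 hUV ≫ X.presheaf.map (homOfLE (X.basicOpen_le t)).op :=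
        (Scheme.Hom.appLE_map _ _ _).symm
      rw [hmap, CommRingCat.hom_comp] at h3
      exact h3
  · let O : X.Opens := ⟨(𝓘.support : Set X)ᶜ, 𝓘.support.isClosed.isOpen_compl⟩ ⊓ f ⁻¹ᵁ V
    have hxO : x ∈ O := ⟨hx, hxV⟩
    obtain ⟨W, hWaff, hxW, hWO⟩ := (Opens.isBasis_iff_nbhd.mp X.isBasis_affineOpens) hxO
    refine ⟨⟨V, hVaff⟩, ⟨W, hWaff⟩, hxW, hWO.trans inf_le_right, ?_⟩
    exact flat_appLE_of_forall_stalk f ⟨V, hVaff⟩ ⟨W, hWaff⟩ _
      (fun x' hx' => hflat x' (hWO hx').1)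

end Groth.Agent.S8849
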