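import Groth.Statements.S8851
import Mathlib
import Groth.Agent.Lib.Helper17.BlowUpUniv

set_option autoImplicit false
universe u
open CategoryTheory CategoryTheory.Limits AlgebraicGeometry TopologicalSpace
open SDiv

namespace Groth.Agent.S8851

/-- Let X be a reduced scheme, 𝓘 a quasi-coherent ideal sheaf on X and b : X' ⟶ X a blowing up of X in
𝓘. Then X' is reduced. -/
theorem result {X X' : Scheme.{u}} [IsReduced X] (𝓘 : X.IdealSheafData) (b : X' ⟶ X)
    (hb : BlowUp.IsBlowUp b 𝓘) : IsReduced X' := by
  exact Groth.Agent.Lib.Helper17.BlowUpUniv.isReduced_of_isBlowUp 𝓘 b hb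

end Groth.Agent.S8851
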