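import Groth.Statements.S8854


set_option autoImplicit false
universe u
open SDiv

namespace Groth.Agent.S8854

/-- Let R be a Noetherian unique factorisation domain and I ⊆ R an ideal such that every associated
prime of R/I is minimal over I (R/I has no embedded primes) and every prime minimal over I has
height 1. Then I is principal: it is generated by one element. -/
theorem result (R : Type u) [CommRing R] [IsDomain R] [IsNoetherianRing R]
    [UniqueFactorizationMonoid R] (I : Ideal R)
    (h1 : ∀ p : Ideal R, p ∈ associatedPrimes R (R ⧸ I) → p ∈ I.minimalPrimes)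
    (h2 : ∀ p : Ideal R, p ∈ I.minimalPrimes → p.height = 1) :
    ∃ f : R, I = Ideal.span {f} := by
  classical
  letI : GCDMonoid R := UniqueFactorizationMonoid.toGCDMonoid R
  -- gcd of a finset
  have hgcd : ∀ s : Finset R, ∃ d : R, (∀ a ∈ s, d ∣ a) ∧
      ∀ e : R, (∀ a ∈ s, e ∣ a) → e ∣ d := by
    intro s
    induction s using Finset.induction_on with
    | empty => exact ⟨0, by simp, fun e _ => dvd_zero e⟩
    | insert a s _ ih =>
      obtain ⟨d, hd1, hd2⟩ := ih
      refine ⟨GCDMonoid.gcd a d, ?_, ?_⟩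
      · intro b hb
        rw [Finset.mem_insert] at hb
        rcases hb with rfl | hb
        · exact GCDMonoid.gcd_dvd_left _ _
        · exact (GCDMonoid.gcd_dvd_right _ _).trans (hd1 b hb)
      · intro e he
        exact GCDMonoid.dvd_gcd (he a (Finset.mem_insert_self a s))
          (hd2 e fun b hb => he b (Finset.mem_insert_of_mem hb))
  obtain ⟨s, hs⟩ := (IsNoetherian.noetherian I : I.FG)
  obtain ⟨d, hd1, hd2⟩ := hgcd s
  have hId : I ≤ Ideal.span {d} := by
    rw [← hs, Ideal.span_le]
    intro a ha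
    exact Ideal.mem_span_singleton.mpr (hd1 a ha)
  refine ⟨d, le_antisymm hId ?_⟩
  rw [Ideal.span_singleton_le_iff_mem]
  by_cases hd0 : d = 0
  · rw [hd0]; exact I.zero_mem
  -- the ideal J = (I : d)
  let J : Ideal R := Submodule.comap (LinearMap.mulLeft R d) I
  have hJ : ∀ x, x ∈ J ↔ d * x ∈ I := fun x => Iff.rfl
  suffices hJtop : J = ⊤ by
    have h1J : (1 : R) ∈ J := by rw [hJtop]; trivial
    rw [hJ, mul_one] at h1J
    exact h1J
  by_contra hJtop
  haveI : Nontrivial (R ⧸ J) := Ideal.Quotient.nontrivial_iff.mpr hJtop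
  obtain ⟨P, hP⟩ := associatedPrimes.nonempty R (R ⧸ J)
  -- embed R/J into R/I
  let f : (R ⧸ J) →ₗ[R] (R ⧸ I) := Submodule.mapQ J I (LinearMap.mulLeft R d) (le_refl _)
  have hf : Function.Injective f := by
    rw [injective_iff_map_eq_zero]
    intro x hx
    obtain ⟨y, rfl⟩ := Submodule.mkQ_surjective J x
    have h0 : f (J.mkQ y) = I.mkQ (d * y) := rfl
    rw [h0, Submodule.mkQ_apply, Submodule.Quotient.mk_eq_zero] at hx
    rw [Submodule.mkQ_apply, Submodule.Quotient.mk_eq_zero]
    exact hx
  have hPI : P ∈ associatedPrimes R (R ⧸ I) := associatedPrimes.subset_of_injective (f := f) hf hP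
  have hPh : P.height = 1 := h2 P (h1 P hPI)
  haveI hPprime : P.IsPrime := hP.isPrime
  have hPbot : P ≠ ⊥ := Ideal.ne_bot_of_height_eq_one hPh
  obtain ⟨π, hπP, hπ⟩ := Ideal.IsPrime.exists_mem_prime_of_ne_bot hPprime hPbot
  haveI hπprime : (Ideal.span {π}).IsPrime := (Ideal.span_singleton_prime hπ.ne_zero).mpr hπ
  have hπle : Ideal.span {π} ≤ P := (Ideal.span_singleton_le_iff_mem _).mpr hπP
  have hPeq : P = Ideal.span {π} := by
    by_contra hne
    have hlt : Ideal.span {π} < P := lt_of_le_of_ne hπle (Ne.symm hne)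
    have h3 := Ideal.height_add_one_le_of_lt_of_isPrime hlt
    rw [hPh] at h3
    have h4 : (Ideal.span {π}).height = 0 := by
      by_contra hc
      have h6 : 1 ≤ (Ideal.span {π}).height := Order.one_le_iff_pos.mpr (pos_iff_ne_zero.mpr hc)
      have h7 : (1 : ℕ∞) + 1 ≤ 1 := (add_le_add_left h6 1).trans h3
      revert h7
      decide
    rw [Ideal.height_eq_zero_iff_eq_bot, Ideal.span_singleton_eq_bot] at h4
    exact hπ.ne_zero h4
  -- J ≤ P
  have hJP : J ≤ P := by
    have := hP.annihilator_le
    rwa [Submodule.annihilator_top, Ideal.annihilator_quotient] at this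
  -- d * π divides every generator
  have hdπ : ∀ a ∈ s, d * π ∣ a := by
    intro a ha
    obtain ⟨c, rfl⟩ := hd1 a ha
    have hc : c ∈ J := by
      rw [hJ, ← hs]
      exact Ideal.subset_span ha
    have hcP := hJP hc
    rw [hPeq, Ideal.mem_span_singleton] at hcP
    exact mul_dvd_mul_left d hcP
  obtain ⟨u, hu⟩ := hd2 _ hdπ
  have h1 : π * u = 1 := by
    have : d * (π * u) = d * 1 := by rw [mul_one, ← mul_assoc]; exact hu.symm
    exact mul_left_cancel₀ hd0 this
  exact hπ.not_unit (IsUnit.of_mul_eq_one _ h1)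


end Groth.Agent.S8854
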