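import Groth.Statements.S8861
import Mathlib
import Groth.Prelude.Def_StMod
import Groth.Agent.Lib.Helper3.WeakAss
import Groth.Agent.Lib.Helper3.IdealComap

set_option autoImplicit false
universe u
open CategoryTheory CategoryTheory.Limits AlgebraicGeometry TopologicalSpace
open SDiv

namespace Groth.Agent.S8861

/-- Let f : X ⟶ Y be a morphism of schemes and 𝓘 the ideal sheaf of an effective Cartier divisor D ⊆ Y.
If f x ∉ D for every weakly associated point x of X (weakly associated point of the structure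
sheaf), then the inverse image ideal sheaf of 𝓘 on X is the ideal of an effective Cartier divisor,
i.e. the pullback of D by f is defined. -/
theorem result {X Y : Scheme.{u}} (f : X ⟶ Y) (𝓘 : Y.IdealSheafData)
    (hD : BlowUp.IsEffCartierIdeal 𝓘)
    (h : ∀ x : ↥X, Curv2.IsWeakAssPoint (Coh.structureModule X) x → f x ∉ 𝓘.support) :
    BlowUp.IsEffCartierIdeal (𝓘.comap f) := by
  intro x
  haveI : (Coh.structureModule X).IsQuasicoherent := StMod.isQCoh_structureModule X
  obtain ⟨U, hfxU, g, hg, hIU⟩ := hD (f x)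
  obtain ⟨_, ⟨V, hV, rfl⟩, hxV, hVU⟩ := X.isBasis_affineOpens.exists_subset_of_mem_open
    (show x ∈ f ⁻¹ᵁ U.1 from hfxU) (f ⁻¹ᵁ U.1).isOpen
  have hVU' : V ≤ f ⁻¹ᵁ U.1 := hVU
  refine ⟨⟨V, hV⟩, hxV, f.appLE U.1 V hVU' g, ?_, ?_⟩
  · rw [mem_nonZeroDivisors_iff_right]
    intro b hb
    by_contra hb0
    set F := Coh.structureModule X with hF
    let t : Γ(F, V) := b
    have ht : t ≠ 0 := hb0
    obtain ⟨z, hzV, hzw, hzg⟩ :=
      Groth.Agent.Lib.Helper3.QS.exists_weakAssPoint_germ_ne_zero F hV t ht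
    have hfz : f z ∉ 𝓘.support := h z hzw
    have hfzU : f z ∈ U.1 := hVU' hzV
    rw [Groth.Agent.Lib.Helper3.mem_support_iff_le_primeIdealOf 𝓘 U (f z) hfzU, hIU,
      Ideal.span_singleton_le_iff_mem] at hfz
    have hfz' : f z ∈ Y.basicOpen g :=
      (Groth.Agent.Lib.Helper3.mem_basicOpen_iff_notMem_primeIdealOf U.2 (f z) hfzU g).mpr hfz
    have hz' : z ∈ X.basicOpen (f.appLE U.1 V hVU' g) := by
      rw [Scheme.basicOpen_appLE]
      exact ⟨hzV, hfz'⟩
    have hu : IsUnit (X.presheaf.germ V z hzV (f.appLE U.1 V hVU' g)) :=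
      (Scheme.mem_basicOpen X _ z hzV).mp hz'
    have hsm : (f.appLE U.1 V hVU' g) • t = 0 := by
      show (f.appLE U.1 V hVU' g) * b = 0
      rw [mul_comm]; exact hb
    have h1 := Groth.Agent.Lib.Helper3.QS.germ_smul F z hzV (f.appLE U.1 V hVU' g) t
    rw [hsm, map_zero] at h1
    apply hzg
    have := congrArg (fun w => (hu.unit⁻¹ : (X.presheaf.stalk z)ˣ).1 • w) h1
    simpa [smul_smul] using this.symm
  · rw [Groth.Agent.Lib.Helper3.ideal_comap_of_le f 𝓘 ⟨V, hV⟩ U hVU', hIU, Ideal.map_span,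
      Set.image_singleton]

end Groth.Agent.S8861
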