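import Groth.Statements.S8863
import Mathlib
import Groth.Agent.Lib.Helper3.AffinePoints

set_option autoImplicit false
universe u
open CategoryTheory CategoryTheory.Limits AlgebraicGeometry TopologicalSpace
open SDiv

namespace Groth.Agent.S8863

/-- In a f.g. ideal every element of which is killed by some element outside a prime, a single
element outside the prime kills the whole ideal. -/
theorem exists_kill_of_fg {A : Type*} [CommRing A] (p : Ideal A) [p.IsPrime] (K : Ideal A)
    (hK : K.FG) (h : ∀ k ∈ K, ∃ c : A, c ∉ p ∧ c * k = 0) :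
    ∃ c : A, c ∉ p ∧ ∀ k ∈ K, c * k = 0 := by
  classical
  obtain ⟨S, hS⟩ := hK
  have hS' : ∀ s ∈ S, s ∈ K := fun s hs => hS ▸ Ideal.subset_span hs
  choose! c hc using h
  refine ⟨∏ s ∈ S, c s, ?_, ?_⟩
  · intro hmem
    obtain ⟨s, hs, hcs⟩ := (Ideal.IsPrime.prod_mem_iff).mp hmem
    exact (hc s (hS' s hs)).1 hcs
  · intro k hk
    rw [← hS] at hk
    refine Submodule.span_induction ?_ ?_ ?_ ?_ hk
    · intro s hs
      rw [← Finset.mul_prod_erase S c hs, mul_comm (c s), mul_assoc, (hc s (hS' s hs)).2, mul_zero]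
    · exact mul_zero _
    · intro a b _ _ ha hb; rw [mul_add, ha, hb, add_zero]
    · intro r a _ ha; rw [smul_eq_mul, mul_left_comm, ha, mul_zero]

/-- Let X be a locally Noetherian scheme and x a point of X. Then the monoid S_x of germs at x of
regular sections of O_X (sections whose germ at every point of their open of definition is a
nonzerodivisor) is the whole monoid of nonzerodivisors of O_{X,x}; consequently K_{X,x} is the total
ring of fractions of O_{X,x}. -/
theorem result (X : Scheme.{u}) [IsLocallyNoetherian X] (x : ↥X) :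
    Mero.regStalk X x = nonZeroDivisors ↑(X.presheaf.stalk x) := by
  apply le_antisymm (Mero.regStalk_le_nonZeroDivisors x)
  intro g hg
  obtain ⟨V, hxV, a', rfl⟩ := TopCat.Presheaf.exists_germ_eq X.presheaf g
  obtain ⟨_, ⟨U, hU, rfl⟩, hxU, hUV⟩ :=
    X.isBasis_affineOpens.exists_subset_of_mem_open hxV V.isOpen
  have hUV' : U ≤ V := hUV
  set a : Γ(X, U) := X.presheaf.map (homOfLE hUV').op a' with ha
  have hga : X.presheaf.germ U x hxU a = X.presheaf.germ V x hxV a' := by
    rw [ha, TopCat.Presheaf.germ_res_apply]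
  rw [← hga] at hg ⊢
  haveI : IsNoetherianRing Γ(X, U) := IsLocallyNoetherian.component_noetherian ⟨U, hU⟩
  -- localization structure at points of U
  have key : ∀ (y : X) (hy : y ∈ U) (b : Γ(X, U)), X.presheaf.germ U y hy b = 0 →
      ∃ t : Γ(X, U), t ∉ (hU.primeIdealOf ⟨y, hy⟩).asIdeal ∧ t * b = 0 := by
    intro y hy b hb
    let _ : Algebra Γ(X, U) (X.presheaf.stalk y) :=
      TopCat.Presheaf.algebra_section_stalk X.presheaf (U := U) ⟨y, hy⟩
    have hloc : IsLocalization.AtPrime (X.presheaf.stalk y) (hU.primeIdealOf ⟨y, hy⟩).asIdeal :=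
      hU.isLocalization_stalk ⟨y, hy⟩
    have hb' : algebraMap Γ(X, U) (X.presheaf.stalk y) b = 0 := hb
    obtain ⟨t, ht⟩ := (IsLocalization.map_eq_zero_iff
      (hU.primeIdealOf ⟨y, hy⟩).asIdeal.primeCompl (X.presheaf.stalk y) b).mp hb'
    exact ⟨t.1, t.2, ht⟩
  have hunit : ∀ (y : X) (hy : y ∈ U) (c : Γ(X, U)), c ∉ (hU.primeIdealOf ⟨y, hy⟩).asIdeal →
      IsUnit (X.presheaf.germ U y hy c) := fun y hy c hc =>
    (Scheme.mem_basicOpen X c y hy).mp
      ((Groth.Agent.Lib.Helper3.mem_basicOpen_iff_notMem_primeIdealOf hU y hy c).mpr hc)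
  -- the annihilator of a
  let K : Ideal Γ(X, U) := LinearMap.ker (LinearMap.toSpanSingleton Γ(X, U) Γ(X, U) a)
  have hKmem : ∀ k : Γ(X, U), k ∈ K ↔ k * a = 0 := by
    intro k
    rw [LinearMap.mem_ker, LinearMap.toSpanSingleton_apply, smul_eq_mul]
  obtain ⟨c, hcp, hcK⟩ := exists_kill_of_fg (hU.primeIdealOf ⟨x, hxU⟩).asIdeal K
    (IsNoetherian.noetherian K) (by
      intro k hk
      have h0 : X.presheaf.germ U x hxU k = 0 := by
        apply (mem_nonZeroDivisors_iff_right.mp hg)
        rw [← map_mul, (hKmem k).mp hk, map_zero]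
      exact key x hxU k h0)
  have hxc : x ∈ X.basicOpen c :=
    (Groth.Agent.Lib.Helper3.mem_basicOpen_iff_notMem_primeIdealOf hU x hxU c).mpr hcp
  have hcU : X.basicOpen c ≤ U := X.basicOpen_le c
  refine ⟨X.basicOpen c, hxc, X.presheaf.map (homOfLE hcU).op a, ?_, ?_⟩
  · rintro ⟨y, hyc⟩
    have hyU : y ∈ U := hcU hyc
    change X.presheaf.germ (X.basicOpen c) y hyc (X.presheaf.map (homOfLE hcU).op a) ∈ _
    rw [TopCat.Presheaf.germ_res_apply]
    rw [mem_nonZeroDivisors_iff_right]
    intro z hz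
    let _ : Algebra Γ(X, U) (X.presheaf.stalk y) :=
      TopCat.Presheaf.algebra_section_stalk X.presheaf (U := U) ⟨y, hyU⟩
    have hloc : IsLocalization.AtPrime (X.presheaf.stalk y) (hU.primeIdealOf ⟨y, hyU⟩).asIdeal :=
      hU.isLocalization_stalk ⟨y, hyU⟩
    obtain ⟨⟨b, s⟩, hbs⟩ := IsLocalization.surj (hU.primeIdealOf ⟨y, hyU⟩).asIdeal.primeCompl z
    have hbs' : z * X.presheaf.germ U y hyU s.1 = X.presheaf.germ U y hyU b := hbs
    have h1 : X.presheaf.germ U y hyU (b * a) = 0 := by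
      rw [map_mul, ← hbs', mul_right_comm, hz, zero_mul]
    obtain ⟨t, htp, ht⟩ := key y hyU (b * a) h1
    have h2 : t * b ∈ K := by rw [hKmem, mul_assoc]; exact ht
    have h3 : c * (t * b) = 0 := hcK _ h2
    have h4 : X.presheaf.germ U y hyU c * (X.presheaf.germ U y hyU t * X.presheaf.germ U y hyU b)
        = 0 := by
      rw [← map_mul, ← map_mul, h3, map_zero]
    have hcu : IsUnit (X.presheaf.germ U y hyU c) := (Scheme.mem_basicOpen X c y hyU).mp hyc
    have h5 := (hunit y hyU t htp).mul_right_eq_zero.mp (hcu.mul_right_eq_zero.mp h4)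
    rw [h5] at hbs'
    exact (hunit y hyU s.1 s.2).mul_left_eq_zero.mp hbs'
  · rw [TopCat.Presheaf.germ_res_apply]

end Groth.Agent.S8863
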