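import Groth.Statements.S8865
import Mathlib

set_option autoImplicit false
universe u
open CategoryTheory CategoryTheory.Limits AlgebraicGeometry TopologicalSpace
open SDiv

namespace Groth.Agent.S8865

open Mero in
/-- Local form: near every point, some power of `h` kills `f`. -/
theorem local_kill (X : Scheme.{u}) (h : Γ(X, ⊤))
    (f : Γ(Mero.kmod X, ⊤))
    (hf : ∀ (y : X), y ∈ X.basicOpen h → f.1 ⟨y, trivial⟩ = 0) (x : X) :
    ∃ (V : X.Opens) (_ : x ∈ V) (n : ℕ), ∀ (y : X) (_ : y ∈ V) (m : ℕ), n ≤ m →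
      (Mero.toK X ⊤ h).1 ⟨y, trivial⟩ ^ m * f.1 ⟨y, trivial⟩ = 0 := by
  obtain ⟨V0, hxV0, i0, a0, b0, w0⟩ := f.2 ⟨x, trivial⟩
  obtain ⟨_, ⟨V, hV, rfl⟩, hxV, hVV0⟩ :=
    X.isBasis_affineOpens.exists_subset_of_mem_open hxV0 V0.isOpen
  have hVV0' : V ≤ V0 := hVV0
  -- restrict the data to `V`
  let a : Γ(X, V) := X.presheaf.map (homOfLE hVV0').op a0
  let b : Mero.regSub X V := ⟨X.presheaf.map (homOfLE hVV0').op b0.1,
    Mero.regSub_res (homOfLE hVV0') b0.2⟩
  have w : ∀ (y : X) (hy : y ∈ V), f.1 ⟨y, trivial⟩ =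
      LocalizedModule.mk (X.presheaf.germ V y hy a) (Mero.regGerm ⟨y, hy⟩ b) := by
    intro y hy
    have := w0 ⟨y, hVV0' hy⟩
    dsimp only at this
    refine this.trans (Mero.mk_congr ?_ ?_)
    · exact (TopCat.Presheaf.germ_res_apply X.presheaf (homOfLE hVV0') y hy a0).symm
    · exact (TopCat.Presheaf.germ_res_apply X.presheaf (homOfLE hVV0') y hy b0.1).symm
  -- restriction of `h` to `V`
  let hV' : Γ(X, V) := X.presheaf.map (homOfLE (le_top : V ≤ ⊤)).op h
  have hbo : X.basicOpen hV' = V ⊓ X.basicOpen h := Scheme.basicOpen_res X _ _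
  -- `a` vanishes on `D(h|V)`
  have ha0 : X.presheaf.map (homOfLE (X.basicOpen_le hV')).op a = 0 := by
    refine TopCat.Presheaf.section_ext X.sheaf _ _ _ fun y hy => ?_
    have hy' : y ∈ V ⊓ X.basicOpen h := hbo ▸ hy
    have hyV : y ∈ V := hy'.1
    change X.presheaf.germ (X.basicOpen hV') y hy
      (X.presheaf.map (homOfLE (X.basicOpen_le hV')).op a) =
      X.presheaf.germ (X.basicOpen hV') y hy 0
    rw [map_zero, TopCat.Presheaf.germ_res_apply]
    have h1 := hf y hy'.2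
    rw [w y hyV, ← LocalizedModule.zero_mk (Mero.regGerm ⟨y, hyV⟩ b), LocalizedModule.mk_eq] at h1
    obtain ⟨u, hu⟩ := h1
    rw [smul_zero, smul_zero, smul_smul] at hu
    have hnz : ((u * Mero.regGerm ⟨y, hyV⟩ b : Mero.regStalk X y) : X.presheaf.stalk y) ∈
        nonZeroDivisors (X.presheaf.stalk y) :=
      Mero.regStalk_le_nonZeroDivisors y (u * Mero.regGerm ⟨y, hyV⟩ b).2
    exact (mem_nonZeroDivisors_iff_left.mp hnz) _ hu
  obtain ⟨n, hn⟩ := exists_pow_mul_eq_zero_of_res_basicOpen_eq_zero_of_isAffineOpen X hV a hV' ha0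
  refine ⟨V, hxV, n, fun y hy m hm => ?_⟩
  rw [w y hy, Mero.toK_apply]
  have hpow : ∀ k : ℕ, (LocalizedModule.mk (X.presheaf.germ ⊤ y trivial h) 1 : Mero.KStalk X y) ^ k =
      LocalizedModule.mk ((X.presheaf.germ ⊤ y trivial h) ^ k) 1 := by
    intro k
    induction k with
    | zero =>
      rw [pow_zero, pow_zero]
      exact (Mero.mk_self_eq_one 1).symm
    | succ k ih =>
      rw [pow_succ, ih, pow_succ]
      exact LocalizedModule.mk_mul_mk.trans (Mero.mk_congr rfl (by rw [one_mul]))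
  rw [hpow]
  refine LocalizedModule.mk_mul_mk.trans ?_
  have hz : X.presheaf.germ ⊤ y trivial h ^ m * X.presheaf.germ V y hy a = 0 := by
    have e1 : X.presheaf.germ ⊤ y trivial h = X.presheaf.germ V y hy hV' :=
      (TopCat.Presheaf.germ_res_apply X.presheaf (homOfLE (le_top : V ≤ ⊤)) y hy h).symm
    have key : X.presheaf.germ V y hy hV' ^ n * X.presheaf.germ V y hy a = 0 := by
      rw [← map_pow, ← map_mul, hn, map_zero]
    rw [e1, ← Nat.sub_add_cancel hm, pow_add, mul_assoc, key, mul_zero]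
  rw [hz, LocalizedModule.zero_mk]

/-- Let X be a quasi-compact scheme, h a global section of O_X and f a global section of the sheaf of
meromorphic functions K_X whose restriction to the open X_h where h is invertible vanishes. Then h^n
f = 0 in K_X(X) for some natural number n. -/
theorem result (X : Scheme.{u}) [CompactSpace ↥X] (h : Γ(X, ⊤))
    (f : Γ(Mero.kmod X, ⊤)) (hf : (Mero.kmod X).presheaf.map (homOfLE (le_top : X.basicOpen h ≤ ⊤)).op f = 0) :
    ∃ n : ℕ, Mero.toK X ⊤ h ^ n * f = 0 := by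
  have hf' : ∀ (y : X), y ∈ X.basicOpen h → f.1 ⟨y, trivial⟩ = 0 := by
    intro y hy
    have := congrArg (fun g => g.1 ⟨y, hy⟩) hf
    exact this
  choose V hxV n hn using local_kill X h f hf'
  obtain ⟨t, ht⟩ := isCompact_univ.elim_nhds_subcover (fun x => (V x : Set X))
    (fun x _ => (V x).isOpen.mem_nhds (hxV x))
  refine ⟨t.sup n, ?_⟩
  apply Subtype.ext
  funext ⟨y, hy⟩
  have hyt : y ∈ ⋃ x ∈ t, (V x : Set X) := ht.2 (Set.mem_univ y)
  simp only [Set.mem_iUnion] at hyt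
  obtain ⟨x, hxt, hyx⟩ := hyt
  have := hn x y hyx (t.sup n) (Finset.le_sup hxt)
  change (Mero.evalK X ⊤ ⟨y, hy⟩) (Mero.toK X ⊤ h ^ t.sup n * f) = 0
  rw [map_mul, map_pow]
  exact this

end Groth.Agent.S8865
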