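import Groth.Statements.S8867
import Groth.Agent.Lib.Helper16.Mero.RegMero

set_option autoImplicit false
universe u
open CategoryTheory CategoryTheory.Limits AlgebraicGeometry TopologicalSpace
open SDiv

namespace Groth.Agent.S8867

/-- Let X be a locally Noetherian scheme with no embedded points, i.e. every associated point of O_X is
maximal among the associated points of O_X under specialization, and L an invertible O_X-module.
Then some meromorphic section of L is regular. -/
theorem result (X : Scheme.{u}) [IsLocallyNoetherian X]
    (hne : ∀ x : ↥X, Curv2.IsAssPoint (Coh.structureModule X) x →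
      ∀ y : ↥X, Curv2.IsAssPoint (Coh.structureModule X) y → y ⤳ x → y = x)
    (L : X.Modules) (hL : PicF.IsInvertible L) : Mero.HasRegularMero L := by
  refine H16Mero.hasRegularMero_of_star X ?_ ?_ L hL
  · intro x hx y hyx
    obtain ⟨z, hz, hzy⟩ := H16Mero.exists_isMax_specializes y
    have hzass : Curv2.IsAssPoint (Coh.structureModule X) z :=
      (Groth.Agent.Lib.Helper3.QS.isAssPoint_iff_isWeakAssPoint _ z).mpr
        (H16Mero.isWeakAssPoint_of_isMax hz)
    have hxass : Curv2.IsAssPoint (Coh.structureModule X) x :=
      (Groth.Agent.Lib.Helper3.QS.isAssPoint_iff_isWeakAssPoint _ x).mpr hx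
    have hzx : z = x := hne x hxass z hzass (hzy.trans hyx)
    rw [hzx] at hzy
    exact (hyx.antisymm hzy).eq
  · intro U hU
    haveI : CompactSpace ↥(U : Scheme.{u}) := isCompact_iff_compactSpace.mp hU
    haveI : IsNoetherian (U : Scheme.{u}) := {}
    exact TopologicalSpace.NoetherianSpace.finite_irreducibleComponents

end Groth.Agent.S8867
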