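import Groth.Statements.S8868
import Mathlib
import Groth.Agent.Lib.Helper3.WeakAss

set_option autoImplicit false
universe u
open CategoryTheory CategoryTheory.Limits AlgebraicGeometry TopologicalSpace
open SDiv

namespace Groth.Agent.S8868
open Groth.Agent.Lib.Helper3

/-- Let X be a scheme and F a quasi-coherent O_X-module. Then F is zero if and only if F has no weakly
associated point. -/
theorem result (X : Scheme.{u}) (F : X.Modules) (hF : Coh.IsQCoh F) :
    IsZero F ↔ ∀ x : ↥X, ¬ Curv2.IsWeakAssPoint F x := by
  have : F.IsQuasicoherent := hF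
  constructor
  · intro hz x ⟨m, hm⟩
    have hsub := QS.subsingleton_stalk_of_isZero F hz x
    have hm0 : m = 0 := Subsingleton.elim _ _
    have hker : LinearMap.ker (LinearMap.toSpanSingleton (X.presheaf.stalk x) (F.presheaf.stalk x) m) = ⊤ := by
      rw [eq_top_iff]
      intro a _
      rw [LinearMap.mem_ker, LinearMap.toSpanSingleton_apply, hm0, smul_zero]
    rw [hker, Ideal.radical_top] at hm
    exact (IsLocalRing.maximalIdeal.isMaximal (X.presheaf.stalk x)).ne_top hm.symm
  · intro h
    by_contra hnz
    have hex : ∃ x : X, ¬ Subsingleton (F.presheaf.stalk x) := by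
      by_contra hcon
      push_neg at hcon
      exact hnz (QS.isZero_of_subsingleton_stalk F hcon)
    obtain ⟨x, hx⟩ := hex
    rw [not_subsingleton_iff_nontrivial] at hx
    obtain ⟨y, hy⟩ := exists_ne (0 : F.presheaf.stalk x)
    obtain ⟨V, hxV, m, rfl⟩ := TopCat.Presheaf.exists_germ_eq F.presheaf y
    obtain ⟨_, ⟨U, hU, rfl⟩, hxU, hUV⟩ :=
      X.isBasis_affineOpens.exists_subset_of_mem_open hxV V.isOpen
    have hUV' : U ≤ V := hUV
    set t : Γ(F, U) := F.presheaf.map (homOfLE hUV').op m with ht
    have hgerm : F.presheaf.germ U x hxU t = F.presheaf.germ V x hxV m :=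
      TopCat.Presheaf.germ_res_apply F.presheaf (homOfLE hUV') x hxU m
    have htne : t ≠ 0 := by
      intro h0
      rw [h0, map_zero] at hgerm
      exact hy hgerm.symm
    obtain ⟨z, hzU, hz, -⟩ := QS.exists_weakAssPoint_germ_ne_zero F hU t htne
    exact h z hz

end Groth.Agent.S8868
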