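import Groth.Statements.S8870
import Mathlib
import Groth.Agent.Lib.Helper3.WeakAss
import Groth.Agent.Lib.Helper27.ModSections
import Groth.Prelude.Def_RefHull

set_option autoImplicit false
universe u
open CategoryTheory CategoryTheory.Limits AlgebraicGeometry TopologicalSpace
open SDiv

namespace Groth.Agent.S8870
open Groth.Agent.Lib.Helper3

section Aux

open Groth.Agent.Lib.Helper27.ModSections

variable {X : Scheme.{u}}

theorem stalk_injective (S : ShortComplex X.Modules) (hS : S.ShortExact) (x : X) :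
    Function.Injective (RefHull.stalkMapₗ S.f x) := by
  have h : ∀ U : X.Opens, Function.Injective (S.f.mapPresheaf.app (Opposite.op U)) :=
    fun U => (sections_left_exact S hS U).1
  exact TopCat.Presheaf.stalkFunctor_map_injective_of_app_injective h x

theorem app_res {M N : X.Modules} (φ : M ⟶ N) {U W : X.Opens} (i : W ⟶ U) (m : Γ(M, U)) :
    φ.app W (M.presheaf.map i.op m) = N.presheaf.map i.op (φ.app U m) :=
  ConcreteCategory.congr_hom (φ.mapPresheaf.naturality i.op) m

theorem stalk_exact (S : ShortComplex X.Modules) (hS : S.ShortExact) (x : X) :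
    Function.Exact (RefHull.stalkMapₗ S.f x) (RefHull.stalkMapₗ S.g x) := by
  intro z
  constructor
  · intro hz
    obtain ⟨U, hxU, m, rfl⟩ := TopCat.Presheaf.exists_germ_eq S.X₂.presheaf z
    rw [RefHull.stalkMapₗ_germ] at hz
    have hz' : S.X₃.presheaf.germ U x hxU (S.g.app U m) = S.X₃.presheaf.germ U x hxU 0 := by
      rw [hz, map_zero]
    obtain ⟨W, hxW, iU, iV, hW⟩ := TopCat.Presheaf.germ_eq S.X₃.presheaf x hxU hxU _ _ hz'
    rw [map_zero, ← app_res] at hW
    obtain ⟨n, hn⟩ := ((sections_left_exact S hS W).2 (S.X₂.presheaf.map iU.op m)).mp hW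
    refine ⟨S.X₁.presheaf.germ W x hxW n, ?_⟩
    rw [RefHull.stalkMapₗ_germ]
    have hn' : S.f.app W n = S.X₂.presheaf.map iU.op m := hn
    rw [hn']
    exact TopCat.Presheaf.germ_res_apply S.X₂.presheaf iU x hxW m
  · rintro ⟨y, rfl⟩
    obtain ⟨U, hxU, m, rfl⟩ := TopCat.Presheaf.exists_germ_eq S.X₁.presheaf y
    rw [RefHull.stalkMapₗ_germ, RefHull.stalkMapₗ_germ]
    have h0 : S.g.app U (S.f.app U m) = 0 := by
      have := ((sections_left_exact S hS U).2 (S.f.app U m)).mpr ⟨m, rfl⟩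
      exact this
    rw [h0, map_zero]

end Aux

/-- Let X be a scheme and 0 → F₁ → F₂ → F₃ → 0 a short exact sequence of quasi-coherent O_X-modules.
Then WeakAss(F₂) ⊆ WeakAss(F₁) ∪ WeakAss(F₃) and WeakAss(F₁) ⊆ WeakAss(F₂). -/
theorem result (X : Scheme.{u}) (S : ShortComplex X.Modules) (hS : S.ShortExact)
    (h₁ : Coh.IsQCoh S.X₁) (h₂ : Coh.IsQCoh S.X₂) (h₃ : Coh.IsQCoh S.X₃) :
    (∀ x : ↥X, Curv2.IsWeakAssPoint S.X₂ x → Curv2.IsWeakAssPoint S.X₁ x ∨ Curv2.IsWeakAssPoint S.X₃ x) ∧
      (∀ x : ↥X, Curv2.IsWeakAssPoint S.X₁ x → Curv2.IsWeakAssPoint S.X₂ x) := by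
  constructor
  · intro x hx
    rw [← QS.isAssPoint_iff_isWeakAssPoint] at hx
    rcases associatedPrimes.subset_union_of_exact (stalk_injective S hS x) (stalk_exact S hS x) hx
      with h | h
    · exact Or.inl ((QS.isAssPoint_iff_isWeakAssPoint _ _).mp h)
    · exact Or.inr ((QS.isAssPoint_iff_isWeakAssPoint _ _).mp h)
  · intro x hx
    rw [← QS.isAssPoint_iff_isWeakAssPoint] at hx ⊢
    exact associatedPrimes.subset_of_injective (stalk_injective S hS x) hx

end Groth.Agent.S8870
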