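import Groth.Statements.S8871
import Mathlib
import Groth.Agent.Lib.Helper17.AssPt
import Groth.Agent.Lib.Helper17.CohStalk
import Groth.Agent.Lib.Helper4.Depth

set_option autoImplicit false
universe u
open CategoryTheory CategoryTheory.Limits AlgebraicGeometry TopologicalSpace
open SDiv

namespace Groth.Agent.S8871

/-- Let X be a locally Noetherian scheme and F a coherent O_X-module. Then F has no embedded associated
points (every associated point of F is maximal among the associated points of F under
specialization) if and only if F has property (S_1): for every point x, depth F_x ≥ min(1, dim Supp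
F_x), where dim Supp F_x is the Krull dimension of the support of the O_{X,x}-module F_x (for F_x =
0 the depth is infinite and the support empty, so the condition holds). -/
theorem result (X : Scheme.{u}) [IsLocallyNoetherian X] (F : X.Modules) (hF : Coh.IsCoh F) :
    (∀ x : ↥X, Curv2.IsAssPoint F x → ∀ y : ↥X, Curv2.IsAssPoint F y → y ⤳ x → y = x) ↔
      ∀ x : ↥X, min (1 : WithBot ℕ∞) (Module.supportDim ↑(X.presheaf.stalk x) ↑(F.presheaf.stalk x)) ≤
        ((LocCoh.depth (X.presheaf.stalk x) (F.presheaf.stalk x) : ℕ∞) : WithBot ℕ∞) := by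
  obtain ⟨hqc, hft⟩ := hF
  haveI : F.IsQuasicoherent := hqc
  haveI : F.IsFiniteType := hft
  have hspec : ∀ (x : X) (q : PrimeSpectrum (X.presheaf.stalk x)),
      (X.fromSpecStalk x).base q ⤳ x := by
    intro x q
    have : (X.fromSpecStalk x).base q ∈ Set.range (X.fromSpecStalk x).base := ⟨q, rfl⟩
    rw [Scheme.range_fromSpecStalk] at this
    exact this
  have hdepth : ∀ x : X, LocCoh.depth (X.presheaf.stalk x) (F.presheaf.stalk x) = 0 ↔
      Curv2.IsAssPoint F x := by
    intro x
    haveI := Groth.Agent.Lib.Helper17.CohStalk.finite_stalk F x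
    exact Groth.Agent.Lib.Helper4.depth_eq_zero_iff_maximalIdeal_mem_associatedPrimes
  constructor
  · intro hne x
    by_cases hd : LocCoh.depth (X.presheaf.stalk x) (F.presheaf.stalk x) = 0
    · have hx : Curv2.IsAssPoint F x := (hdepth x).mp hd
      have hsub : Subsingleton (Module.support (X.presheaf.stalk x) (F.presheaf.stalk x)) := by
        refine ⟨fun a b => ?_⟩
        have hcl : ∀ q ∈ Module.support (X.presheaf.stalk x) (F.presheaf.stalk x),
            q = IsLocalRing.closedPoint (X.presheaf.stalk x) := by
          intro q hq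
          have hnt := Groth.Agent.Lib.Helper17.CohStalk.nontrivial_stalk_of_mem_support F x q hq
          obtain ⟨z, hz, hzy⟩ :=
            Groth.Agent.Lib.Helper17.AssPt.exists_assPoint_specializes_of_nontrivial F _ hnt
          have hzx : z = x := hne x hx z hz (hzy.trans (hspec x q))
          subst hzx
          have hyx : (X.fromSpecStalk z).base q = z := ((hspec z q).antisymm hzy).eq
          apply (X.fromSpecStalk z).isEmbedding.injective
          rw [hyx]
          exact (Scheme.fromSpecStalk_closedPoint (X := X) (x := z)).symm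
        apply Subtype.ext
        rw [hcl a.1 a.2, hcl b.1 b.2]
      have h0 : Module.supportDim (X.presheaf.stalk x) (F.presheaf.stalk x) ≤ 0 :=
        Order.krullDim_nonpos_of_subsingleton
      rw [hd]
      exact (min_le_right _ _).trans h0
    · have h1 : (1 : ℕ∞) ≤ LocCoh.depth (X.presheaf.stalk x) (F.presheaf.stalk x) :=
        Order.one_le_iff_ne_zero.mpr hd
      exact (min_le_left _ _).trans (by exact_mod_cast h1)
  · intro hS x hx y hy hyx
    by_contra hne
    have hd : LocCoh.depth (X.presheaf.stalk x) (F.presheaf.stalk x) = 0 := (hdepth x).mpr hx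
    have hmin := hS x
    rw [hd] at hmin
    have hy' : y ∈ Set.range (X.fromSpecStalk x).base := by
      rw [Scheme.range_fromSpecStalk]; exact hyx
    obtain ⟨(q : PrimeSpectrum (X.presheaf.stalk x)), rfl⟩ := hy'
    have hq : q ∈ Module.support (X.presheaf.stalk x) (F.presheaf.stalk x) :=
      Groth.Agent.Lib.Helper17.CohStalk.mem_support_of_nontrivial_stalk F x q
        (Groth.Agent.Lib.Helper17.AssPt.nontrivial_stalk_of_isAssPoint F _ hy)
    have hqle : q ≤ IsLocalRing.closedPoint (X.presheaf.stalk x) := by
      show q.asIdeal ≤ IsLocalRing.maximalIdeal (X.presheaf.stalk x)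
      exact IsLocalRing.le_maximalIdeal q.2.ne_top
    have hcl : IsLocalRing.closedPoint (X.presheaf.stalk x) ∈
        Module.support (X.presheaf.stalk x) (F.presheaf.stalk x) :=
      Module.mem_support_mono hqle hq
    have hqne : q ≠ IsLocalRing.closedPoint (X.presheaf.stalk x) := by
      intro h
      apply hne
      rw [h]
      exact Scheme.fromSpecStalk_closedPoint (X := X) (x := x)
    have hpos : 0 < Module.supportDim (X.presheaf.stalk x) (F.presheaf.stalk x) :=
      Order.krullDim_pos_iff.mpr ⟨⟨q, hq⟩, ⟨_, hcl⟩,
        Subtype.mk_lt_mk.mpr (lt_of_le_of_ne hqle hqne)⟩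
    rcases min_le_iff.mp hmin with h | h
    · have h' : ((1 : ℕ∞) : WithBot ℕ∞) ≤ ((0 : ℕ∞) : WithBot ℕ∞) := by exact_mod_cast h
      exact absurd (WithBot.coe_le_coe.mp h') (by simp)
    · have h' : Module.supportDim (X.presheaf.stalk x) (F.presheaf.stalk x) ≤ 0 := by
        simpa using h
      exact absurd hpos (not_lt.mpr h')

end Groth.Agent.S8871
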