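import Groth.Statements.S8872
import Mathlib
import Groth.Agent.Lib.Helper17.FittSheaf
import Groth.Agent.Lib.Helper3.IdealComap
import Groth.Agent.Lib.Helper17.PbFinite
import Groth.Agent.Lib.Helper17.PbStalk

set_option autoImplicit false
universe u
open CategoryTheory CategoryTheory.Limits AlgebraicGeometry TopologicalSpace
open SDiv

namespace Groth.Agent.S8872

/-- Let f : T ⟶ S be a morphism of schemes and F a quasi-coherent O_S-module of finite type. Then for
every i the inverse image ideal sheaf on T of the i-th Fitting ideal of F is the i-th Fitting ideal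
of f^*F. -/
theorem result {T S : Scheme.{u}} (f : T ⟶ S) (F : S.Modules) (hF : Coh.IsQCoh F) (hft : CohB1.IsFT F)
    (i : ℕ) : (Fitt.sheafIdeal F i).comap f = Fitt.sheafIdeal ((Scheme.Modules.pullback f).obj F) i := by
  haveI : F.IsQuasicoherent := hF
  haveI : F.IsFiniteType := hft
  haveI := Groth.Agent.Lib.Helper17.PbStalk.isQuasicoherent_pullback f F
  haveI : ((Scheme.Modules.pullback f).obj F).IsFiniteType :=
    Groth.Agent.Lib.Helper17.PbFinite.isFiniteType_pullback f F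
  apply Scheme.IdealSheafData.ext_of_iSup_eq_top
    (fun p : {p : T.affineOpens × S.affineOpens // p.1.1 ≤ f ⁻¹ᵁ p.2.1} => p.1.1)
  · rw [eq_top_iff]
    intro x _
    obtain ⟨U, hU, hxU⟩ := Groth.Agent.Lib.Helper3.QCProps.exists_affine_nbhd (f x)
    obtain ⟨V, hV, hxV, hVU⟩ := Opens.isBasis_iff_nbhd.mp T.isBasis_affineOpens
      (show x ∈ f ⁻¹ᵁ U from hxU)
    exact Opens.mem_iSup.mpr ⟨⟨(⟨V, hV⟩, ⟨U, hU⟩), hVU⟩, hxV⟩
  · rintro ⟨⟨V, U⟩, hle⟩
    rw [Groth.Agent.Lib.Helper3.ideal_comap_of_le f _ V U hle,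
      Groth.Agent.Lib.Helper17.FittSheaf.ideal_sheafIdeal,
      Groth.Agent.Lib.Helper17.FittSheaf.ideal_sheafIdeal]
    letI : Algebra Γ(S, U.1) Γ(T, V.1) := (f.appLE U.1 V.1 hle).hom.toAlgebra
    letI : Module Γ(S, U.1) Γ((Scheme.Modules.pullback f).obj F, V.1) :=
      Module.compHom _ (f.appLE U.1 V.1 hle).hom
    obtain ⟨hst, β, hβ⟩ :=
      Groth.Agent.Lib.Helper17.PbStalk.exists_isBaseChange_sections f F U.2 V.2 hle
    haveI := Groth.Agent.Lib.Helper3.QCProps.finite_sections F U.2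
    rw [← Groth.Agent.Lib.Helper18.FittLib.fitt_congr hβ.equiv i,
      Groth.Agent.Lib.Helper18.FittLib.fitt_baseChange Γ(T, V.1) i]
    rfl

end Groth.Agent.S8872
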