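import Groth.Statements.S8876
import Mathlib
import Groth.Agent.Lib.Helper17.FittSheaf
import Groth.Agent.S6891

set_option autoImplicit false
universe u
open CategoryTheory CategoryTheory.Limits AlgebraicGeometry TopologicalSpace
open SDiv

namespace Groth.Agent.S8876

/-- Let S be a scheme and F a quasi-coherent O_S-module of finite type. Then the closed subset of S cut
out by Fit_0(F) equals the support of F (the scheme-theoretic support and the Fit_0 subscheme have
the same underlying set). -/
theorem result (S : Scheme.{u}) (F : S.Modules) (hF : Coh.IsQCoh F) (hft : CohB1.IsFT F) :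
    ((Fitt.sheafIdeal F 0).support : Set ↥S) = CohB1.support F := by
  haveI : F.IsQuasicoherent := hF
  haveI : F.IsFiniteType := hft
  ext x
  obtain ⟨U, hU, hxU⟩ := Groth.Agent.Lib.Helper3.QCProps.exists_affine_nbhd x
  haveI := Groth.Agent.Lib.Helper3.QCProps.finite_sections F hU
  rw [SetLike.mem_coe, Groth.Agent.Lib.Helper17.FittSheaf.mem_support_iff F 0 hU x hxU]
  have h1 := (Groth.Agent.S6891.result (R := Γ(S, U)) Γ(F, U) ⊥).2.1
  have h2 : Fitt.ideal Γ(S, U) Γ(F, U) 0 ≤ (hU.primeIdealOf ⟨x, hxU⟩).asIdeal ↔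
      hU.primeIdealOf ⟨x, hxU⟩ ∈ Module.support Γ(S, U) Γ(F, U) := by
    rw [← h1, PrimeSpectrum.mem_zeroLocus, SetLike.coe_subset_coe]
  rw [h2]
  unfold CohB1.support
  rw [Set.mem_setOf_eq, Groth.Agent.Lib.Helper3.QS.subsingleton_stalk_iff hU F x hxU,
    ← Module.notMem_support_iff', not_not]

end Groth.Agent.S8876
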