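import Groth.Statements.S8886
import Mathlib

set_option autoImplicit false
universe u
open CategoryTheory CategoryTheory.Limits AlgebraicGeometry TopologicalSpace
open SDiv

namespace Groth.Agent.S8886

/-- Let f : X ⟶ Y be a flat morphism of schemes with Y integral. If the scheme-theoretic fibre of f over
the generic point of Y is integral, then X is integral. -/
theorem result {X Y : Scheme.{u}} (f : X ⟶ Y) [Flat f] [IsIntegral Y]
    (h : IsIntegral (f.fiber (genericPoint ↥Y))) : IsIntegral X := by
  haveI := h
  haveI : Finite ↥(Spec (Y.residueField (genericPoint ↥Y))) :=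
    inferInstanceAs (Finite (PrimeSpectrum (Y.residueField (genericPoint ↥Y))))
  haveI : QuasiCompact (Y.fromSpecResidueField (genericPoint ↥Y)) :=
    ⟨fun _ _ _ => (Set.toFinite _).isCompact⟩
  haveI : IsDominant (Y.fromSpecResidueField (genericPoint ↥Y)) := by
    rw [isDominant_iff, DenseRange, dense_iff_closure_eq, Scheme.range_fromSpecResidueField]
    exact (genericPoint_spec Y)
  haveI : IsSchemeTheoreticallyDominant (Y.fromSpecResidueField (genericPoint ↥Y)) :=
    .of_isDominant _
  haveI : IsSchemeTheoreticallyDominant
      (pullback.fst f (Y.fromSpecResidueField (genericPoint ↥Y))) := inferInstance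
  haveI : QuasiCompact (pullback.fst f (Y.fromSpecResidueField (genericPoint ↥Y))) :=
    inferInstance
  haveI : IsIntegral (pullback f (Y.fromSpecResidueField (genericPoint ↥Y))) := h
  haveI : IsReduced X :=
    IsSchemeTheoreticallyDominant.isReduced
      (pullback.fst f (Y.fromSpecResidueField (genericPoint ↥Y)))
  have hirr : IsIrreducible (Set.univ : Set X) := by
    have h1 : IsIrreducible
        (Set.range (pullback.fst f (Y.fromSpecResidueField (genericPoint ↥Y)))) := by
      rw [← Set.image_univ]
      exact (IrreducibleSpace.isIrreducible_univ _).image _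
        (pullback.fst f (Y.fromSpecResidueField (genericPoint ↥Y))).continuous.continuousOn
    have h2 := h1.closure
    rwa [(pullback.fst f (Y.fromSpecResidueField (genericPoint ↥Y))).denseRange.closure_range]
      at h2
  haveI : IrreducibleSpace X := (irreducibleSpace_def X).mpr hirr
  exact isIntegral_of_irreducibleSpace_of_isReduced X

end Groth.Agent.S8886
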