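import Groth.Statements.S8888
import Mathlib
import Groth.Agent.Lib.Helper17.PbStalk

set_option autoImplicit false
universe u
open CategoryTheory CategoryTheory.Limits AlgebraicGeometry TopologicalSpace
open SDiv

namespace Groth.Agent.S8888

theorem rank_aux {X Y : Scheme.{u}} (f : X ⟶ Y) (G : Y.Modules) [G.IsQuasicoherent] (x : X)
    (hX : IsField (X.presheaf.stalk x)) (hY : IsField (Y.presheaf.stalk (f x))) :
    Module.rank (X.presheaf.stalk x) (((Scheme.Modules.pullback f).obj G).presheaf.stalk x) =
      Module.rank (Y.presheaf.stalk (f x)) (G.presheaf.stalk (f x)) := by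
  letI := hX.toField
  letI := hY.toField
  letI := (f.stalkMap x).hom.toAlgebra
  letI : Module (Y.presheaf.stalk (f x))
      (((Scheme.Modules.pullback f).obj G).presheaf.stalk x) :=
    Module.compHom _ (f.stalkMap x).hom
  obtain ⟨hst, γ, hγ⟩ := Groth.Agent.Lib.Helper17.PbStalk.exists_isBaseChange_stalk f G x
  rw [← hγ.equiv.rank_eq, Module.rank_baseChange, Cardinal.lift_id]

theorem map_genericPoint {X Y : Scheme.{u}} [IsIntegral X] [IsIntegral Y] (f : X ⟶ Y)
    [IsDominant f] : f (genericPoint X) = genericPoint Y := by
  have h1 : IsGenericPoint (f (genericPoint X)) (closure (f '' Set.univ)) :=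
    (genericPoint_spec X).image f.continuous
  rw [Set.image_univ, f.denseRange.closure_range] at h1
  exact h1.eq (genericPoint_spec Y)

/-- Let f : X ⟶ Y be a dominant morphism of integral schemes and G a quasi-coherent O_Y-module. Then the
rank of f^*G on X, the dimension of its stalk at the generic point of X over the function field of
X, equals the rank of G on Y. -/
theorem result {X Y : Scheme.{u}} [IsIntegral X] [IsIntegral Y] (f : X ⟶ Y) [IsDominant f]
    (G : Y.Modules) (hG : Coh.IsQCoh G) :
    Module.rank ↑(X.presheaf.stalk (genericPoint ↥X)) ↑(((Scheme.Modules.pullback f).obj G).presheaf.stalk (genericPoint ↥X)) =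
      Module.rank ↑(Y.presheaf.stalk (genericPoint ↥Y)) ↑(G.presheaf.stalk (genericPoint ↥Y)) := by
  haveI : G.IsQuasicoherent := hG
  have hy := map_genericPoint f
  have hX : IsField (X.presheaf.stalk (genericPoint X)) :=
    Field.toIsField (X.presheaf.stalk (genericPoint X))
  have hY0 : IsField (Y.presheaf.stalk (genericPoint Y)) :=
    Field.toIsField (Y.presheaf.stalk (genericPoint Y))
  have hY : IsField (Y.presheaf.stalk (f (genericPoint X))) := by rw [hy]; exact hY0
  rw [rank_aux f G (genericPoint X) hX hY]
  have key : ∀ y : Y, y = genericPoint Y →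
      Module.rank (Y.presheaf.stalk y) (G.presheaf.stalk y) =
        Module.rank (Y.presheaf.stalk (genericPoint Y)) (G.presheaf.stalk (genericPoint Y)) := by
    rintro _ rfl
    rfl
  exact key _ hy

end Groth.Agent.S8888
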