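import Groth.Statements.S8889
import Groth.Agent.Lib.Helper3.StalkLin

set_option autoImplicit false
universe u
open CategoryTheory CategoryTheory.Limits AlgebraicGeometry TopologicalSpace
open SDiv

namespace Groth.Agent.S8889

open TopologicalSpace Opposite
open Groth.Agent.Lib.Helper3

/-- Let X be a scheme and φ : F ⟶ G a morphism of quasi-coherent O_X-modules. Assume that for every
point x of X either the stalk map F_x → G_x is injective or x is not a weakly associated point of F.
Then φ is injective. -/
theorem result (X : Scheme.{u}) {F G : X.Modules} (φ : F ⟶ G) (hF : Coh.IsQCoh F)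
    (hG : Coh.IsQCoh G)
    (h : ∀ x : ↥X, Function.Injective ((TopCat.Presheaf.stalkFunctor AddCommGrpCat.{u} x).map (Scheme.Modules.Hom.mapPresheaf φ)) ∨ ¬ Curv2.IsWeakAssPoint F x) :
    Mono φ := by
  haveI : F.IsQuasicoherent := hF
  haveI : G.IsQuasicoherent := hG
  haveI hK : (kernel φ : X.Modules).IsQuasicoherent := QCProps.isQuasicoherent_kernel φ
  apply Preadditive.mono_of_isZero_kernel
  apply QS.isZero_of_subsingleton_stalk
  intro x
  by_contra hne
  have hex : ∃ y : (kernel φ : X.Modules).presheaf.stalk x, y ≠ 0 := by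
    by_contra hall
    push Not at hall
    exact hne ⟨fun a b => by rw [hall a, hall b]⟩
  obtain ⟨y, hy⟩ := hex
  obtain ⟨U, hxU, t, rfl⟩ := TopCat.Presheaf.exists_germ_eq _ y
  obtain ⟨V, hV, hxV, hVU⟩ := Opens.isBasis_iff_nbhd.mp X.isBasis_affineOpens hxU
  have ht' : (kernel φ : X.Modules).presheaf.germ V x hxV
      ((kernel φ : X.Modules).presheaf.map (homOfLE hVU).op t) =
      (kernel φ : X.Modules).presheaf.germ U x hxU t :=
    TopCat.Presheaf.germ_res_apply _ (homOfLE hVU) x hxV t
  have ht'0 : (kernel φ : X.Modules).presheaf.map (homOfLE hVU).op t ≠ 0 := fun h0 =>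
    hy (by rw [← ht', h0, map_zero])
  obtain ⟨z, hzV, hzK, hz⟩ := QS.exists_weakAssPoint_germ_ne_zero (kernel φ) hV _ ht'0
  have hzF : Curv2.IsWeakAssPoint F z := QS.isWeakAssPoint_of_mono (kernel.ι φ) z hzK
  rcases h z with hinj | hnot
  · have e1 : QS.stalkMap φ z (QS.stalkMap (kernel.ι φ) z
        ((kernel φ : X.Modules).presheaf.germ V z hzV
          ((kernel φ : X.Modules).presheaf.map (homOfLE hVU).op t))) = 0 := by
      rw [← QS.stalkMap_comp_apply, kernel.condition, QS.stalkMap_zero_apply]
    have e2 : QS.stalkMap (kernel.ι φ) z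
        ((kernel φ : X.Modules).presheaf.germ V z hzV
          ((kernel φ : X.Modules).presheaf.map (homOfLE hVU).op t)) = 0 :=
      hinj (e1.trans (map_zero (QS.stalkMap φ z).hom).symm)
    exact hz (QS.stalkMap_injective_of_mono (kernel.ι φ) z (by rw [e2, map_zero]))
  · exact hnot hzF

end Groth.Agent.S8889
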