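import Groth.Statements.S8891
import Mathlib
import Groth.Agent.Lib.Helper17.DepthTwoIsoSch

set_option autoImplicit false
universe u
open CategoryTheory CategoryTheory.Limits AlgebraicGeometry TopologicalSpace
open SDiv

namespace Groth.Agent.S8891

open AlgebraicGeometry CategoryTheory TopologicalSpace Opposite in
theorem eq_genericPoint_of_maximalIdeal_eq_bot (X : Scheme.{u}) [IsIntegral X] (x : X)
    (hm : IsLocalRing.maximalIdeal (X.presheaf.stalk x) = ⊥) : x = genericPoint X := by
  obtain ⟨U, hU, hxU⟩ := Groth.Agent.Lib.Helper3.QCProps.exists_affine_nbhd x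
  haveI : Nonempty U := ⟨⟨x, hxU⟩⟩
  have hp : (hU.primeIdealOf ⟨x, hxU⟩).asIdeal = ⊥ := by
    rw [eq_bot_iff]
    intro a ha
    have hu : ¬ IsUnit (X.presheaf.germ U x hxU a) := by
      intro hunit
      have := (Groth.Agent.Lib.Helper3.mem_basicOpen_iff_notMem_primeIdealOf hU x hxU a).mp
        ((Scheme.mem_basicOpen X a x hxU).mpr hunit)
      exact this ha
    have h1 : X.presheaf.germ U x hxU a ∈ IsLocalRing.maximalIdeal (X.presheaf.stalk x) :=
      (IsLocalRing.mem_maximalIdeal _).mpr hu
    rw [hm, Ideal.mem_bot] at h1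
    exact germ_injective_of_isIntegral X x hxU (h1.trans (map_zero _).symm)
  have h2 : hU.primeIdealOf ⟨x, hxU⟩ = (⊥ : PrimeSpectrum Γ(X, U)) := PrimeSpectrum.ext hp
  have h3 := hU.primeIdealOf_genericPoint
  rw [genericPoint_eq_bot_of_affine, ← h2] at h3
  have h4 := congrArg hU.fromSpec h3
  rw [hU.fromSpec_primeIdealOf, hU.fromSpec_primeIdealOf] at h4
  exact h4.symm

/-- Let X be an integral locally Noetherian scheme and φ : F ⟶ G a morphism of quasi-coherent
O_X-modules with F coherent and G torsion free. Assume that for every point x either the stalk map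
F_x → G_x is an isomorphism, or depth(F_x) ≥ 2 and x is not the generic point of X. Then φ is an
isomorphism. (The published statement allows the second alternative at the generic point as well;
since the zero module has infinite depth, F = 0 and G = O_X then satisfy every hypothesis while 0 →
O_X is not an isomorphism. The general criterion this is a special case of requires x not to be
associated to G, which for torsion-free G ≠ 0 fails exactly at the generic point; so the generic
point is excluded from the second alternative here.) -/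
theorem result (X : Scheme.{u}) [IsIntegral X] [IsLocallyNoetherian X] {F G : X.Modules}
    (φ : F ⟶ G) (hF : Coh.IsCoh F) (hG : Coh.IsQCoh G)
    (htf : ∀ x : ↥X, NoZeroSMulDivisors ↑(X.presheaf.stalk x) ↑(G.presheaf.stalk x))
    (h : ∀ x : ↥X, Function.Bijective ((TopCat.Presheaf.stalkFunctor AddCommGrpCat.{u} x).map (Scheme.Modules.Hom.mapPresheaf φ)) ∨
      ((2 : ℕ∞) ≤ LocCoh.depth (X.presheaf.stalk x) (F.presheaf.stalk x) ∧ x ≠ genericPoint ↥X)) :
    IsIso φ := by
  haveI : F.IsQuasicoherent := hF.1
  haveI : F.IsFiniteType := hF.2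
  haveI : G.IsQuasicoherent := hG
  apply Groth.Agent.Lib.Helper17.DepthTwoIsoSch.isIso_of_depth_two φ
  intro x
  rcases h x with hb | ⟨hd, hne⟩
  · exact Or.inl hb
  · refine Or.inr ⟨hd, ?_⟩
    intro hass
    apply hne
    apply eq_genericPoint_of_maximalIdeal_eq_bot
    haveI := htf x
    obtain ⟨hprime, t, ht⟩ := isAssociatedPrime_iff.mp hass
    have ht0 : t ≠ 0 := by
      intro h0
      have h1 : (1 : X.presheaf.stalk x) ∈ IsLocalRing.maximalIdeal (X.presheaf.stalk x) := by
        rw [ht, Submodule.mem_colon_singleton, h0, smul_zero]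
        exact Submodule.zero_mem _
      exact hprime.ne_top ((Ideal.eq_top_iff_one _).mpr h1)
    rw [eq_bot_iff]
    intro c hc
    rw [ht, Submodule.mem_colon_singleton, Submodule.mem_bot] at hc
    rcases smul_eq_zero.mp hc with h1 | h1
    · exact (Ideal.mem_bot).mpr h1
    · exact absurd h1 ht0

end Groth.Agent.S8891
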