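import Groth.Statements.S8899
import Mathlib
import Groth.Agent.Lib.Helper17.PbStalk

set_option autoImplicit false
universe u
open CategoryTheory CategoryTheory.Limits AlgebraicGeometry TopologicalSpace
open SDiv

namespace Groth.Agent.S8899

/-- If `x` is generic in its fibre, the extension of the maximal ideal of the base point is primary
to the maximal ideal at `x`. -/
theorem radical_map_maximalIdeal {X S : Scheme.{u}} (f : X ⟶ S) (x : X)
    (hgen : ∀ y : X, f y = f x → y ⤳ x → y = x) :
    (Ideal.map (f.stalkMap x).hom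
      (IsLocalRing.maximalIdeal (S.presheaf.stalk (f x)))).radical =
      IsLocalRing.maximalIdeal (X.presheaf.stalk x) := by
  apply le_antisymm
  · rw [Ideal.IsPrime.radical_le_iff
      (IsLocalRing.maximalIdeal.isMaximal (X.presheaf.stalk x)).isPrime]
    exact ((IsLocalRing.local_hom_TFAE (f.stalkMap x).hom).out 0 2).mp
      (inferInstance : IsLocalHom (f.stalkMap x).hom)
  · rw [Ideal.radical_eq_sInf]
    apply le_sInf
    rintro q ⟨hq, hqp⟩
    let qs : PrimeSpectrum (X.presheaf.stalk x) := ⟨q, hqp⟩
    have hy : (X.fromSpecStalk x) qs ⤳ x := by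
      have : (X.fromSpecStalk x) qs ∈ Set.range (X.fromSpecStalk x) := ⟨qs, rfl⟩
      rwa [Scheme.range_fromSpecStalk] at this
    have hf : f ((X.fromSpecStalk x) qs) = f x := by
      have h1 : (Spec.map (f.stalkMap x) ≫ S.fromSpecStalk (f x)) qs =
          (X.fromSpecStalk x ≫ f) qs := by
        rw [Scheme.SpecMap_stalkMap_fromSpecStalk]
      have h2 : (Spec.map (f.stalkMap x)) qs =
          IsLocalRing.closedPoint (S.presheaf.stalk (f x)) := by
        apply PrimeSpectrum.ext
        change Ideal.comap (f.stalkMap x).hom q = IsLocalRing.maximalIdeal _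
        exact ((IsLocalRing.maximalIdeal.isMaximal (S.presheaf.stalk (f x))).eq_of_le
          (Ideal.IsPrime.ne_top (Ideal.comap_isPrime _ q))
          (Ideal.map_le_iff_le_comap.mp hq)).symm
      rw [Scheme.Hom.comp_apply, Scheme.Hom.comp_apply, h2,
        Scheme.fromSpecStalk_closedPoint] at h1
      exact h1.symm
    have hyx := hgen _ hf hy
    have hqs : qs = IsLocalRing.closedPoint (X.presheaf.stalk x) :=
      (X.fromSpecStalk x).isEmbedding.injective
        (by rw [hyx, Scheme.fromSpecStalk_closedPoint])
    exact (congrArg PrimeSpectrum.asIdeal hqs).ge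

/-- Let f : X ⟶ S be a morphism of schemes, G a quasi-coherent O_S-module and x a point of X over s = f
x such that f is flat at x, no point of f⁻¹(s) other than x specialises to x (x is the generic point
of some irreducible component of the fibre X_s), and s is weakly associated to G. Then x is weakly
associated to f^*G. -/
theorem result {X S : Scheme.{u}} (f : X ⟶ S) (G : S.Modules) (hG : Coh.IsQCoh G)
    (x : ↥X) (hfl : (f.stalkMap x).hom.Flat) (hgen : ∀ y : ↥X, f y = f x → y ⤳ x → y = x)
    (hs : Curv2.IsWeakAssPoint G (f x)) : Curv2.IsWeakAssPoint ((Scheme.Modules.pullback f).obj G) x := by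
  haveI : G.IsQuasicoherent := hG
  letI := (f.stalkMap x).hom.toAlgebra
  letI : Module (S.presheaf.stalk (f x))
      (((Scheme.Modules.pullback f).obj G).presheaf.stalk x) :=
    Module.compHom _ (f.stalkMap x).hom
  obtain ⟨hst, γ, hγ⟩ := Groth.Agent.Lib.Helper17.PbStalk.exists_isBaseChange_stalk f G x
  obtain ⟨m, hm⟩ := hs
  refine ⟨γ m, ?_⟩
  haveI : Module.Flat (S.presheaf.stalk (f x)) (X.presheaf.stalk x) := hfl
  haveI : IsLocalHom (algebraMap (S.presheaf.stalk (f x)) (X.presheaf.stalk x)) :=
    inferInstanceAs (IsLocalHom (f.stalkMap x).hom)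
  haveI : Module.FaithfullyFlat (S.presheaf.stalk (f x)) (X.presheaf.stalk x) :=
    Module.FaithfullyFlat.of_flat_of_isLocalHom
  have hIJ : Ideal.map (algebraMap (S.presheaf.stalk (f x)) (X.presheaf.stalk x))
      (LinearMap.ker (LinearMap.toSpanSingleton (S.presheaf.stalk (f x))
        (G.presheaf.stalk (f x)) m)) ≤
      LinearMap.ker (LinearMap.toSpanSingleton (X.presheaf.stalk x)
        (((Scheme.Modules.pullback f).obj G).presheaf.stalk x) (γ m)) := by
    rw [Ideal.map_le_iff_le_comap]
    intro a ha
    rw [LinearMap.mem_ker, LinearMap.toSpanSingleton_apply] at ha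
    rw [Ideal.mem_comap, LinearMap.mem_ker, LinearMap.toSpanSingleton_apply, algebraMap_smul,
      ← map_smul, ha, map_zero]
  have hne : γ m ≠ 0 := by
    intro h0
    have hm0 : m = 0 := by
      have h1 : hγ.equiv ((1 : X.presheaf.stalk x) ⊗ₜ[S.presheaf.stalk (f x)] m) = 0 := by
        rw [IsBaseChange.equiv_tmul, one_smul, h0]
      have h2 : (1 : X.presheaf.stalk x) ⊗ₜ[S.presheaf.stalk (f x)] m = 0 :=
        (LinearEquiv.map_eq_zero_iff _).mp h1
      apply Module.FaithfullyFlat.tensorProduct_mk_injective (A := S.presheaf.stalk (f x))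
        (B := X.presheaf.stalk x) (G.presheaf.stalk (f x))
      rw [TensorProduct.mk_apply, TensorProduct.mk_apply, h2, TensorProduct.tmul_zero]
    have htop : LinearMap.ker (LinearMap.toSpanSingleton (S.presheaf.stalk (f x))
        (G.presheaf.stalk (f x)) m) = ⊤ := by
      rw [eq_top_iff]
      intro a _
      rw [LinearMap.mem_ker, LinearMap.toSpanSingleton_apply, hm0, smul_zero]
    rw [htop, Ideal.radical_top] at hm
    exact (IsLocalRing.maximalIdeal.isMaximal (S.presheaf.stalk (f x))).ne_top hm.symm
  apply le_antisymm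
  · rw [Ideal.IsPrime.radical_le_iff
      (IsLocalRing.maximalIdeal.isMaximal (X.presheaf.stalk x)).isPrime]
    apply IsLocalRing.le_maximalIdeal
    intro htop
    have h1 : (1 : X.presheaf.stalk x) ∈ LinearMap.ker (LinearMap.toSpanSingleton
        (X.presheaf.stalk x) (((Scheme.Modules.pullback f).obj G).presheaf.stalk x) (γ m)) := by
      rw [htop]; trivial
    rw [LinearMap.mem_ker, LinearMap.toSpanSingleton_apply, one_smul] at h1
    exact hne h1
  · calc IsLocalRing.maximalIdeal (X.presheaf.stalk x)
        = (Ideal.map (f.stalkMap x).hom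
            (IsLocalRing.maximalIdeal (S.presheaf.stalk (f x)))).radical :=
          (radical_map_maximalIdeal f x hgen).symm
      _ ≤ _ := by
        rw [Ideal.radical_le_radical_iff, ← hm]
        exact (Ideal.map_radical_le _).trans (Ideal.radical_mono hIJ)

end Groth.Agent.S8899
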