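import Groth.Statements.S8901
import Groth.Agent.Lib.Helper3.WeakAssPush
import Groth.Agent.Lib.Helper3.WeakAssFinite
import Groth.Agent.Lib.Helper3.QCOpen

set_option autoImplicit false
universe u
open CategoryTheory CategoryTheory.Limits AlgebraicGeometry TopologicalSpace
open SDiv

namespace Groth.Agent.S8901

open Groth.Agent.Lib.Helper3

theorem rres_mul' {X : Scheme.{u}} {A B : X.Opens} (h : A ≤ B) (a b : Γ(X, B)) :
    QCSec.rres X h (a * b) = QCSec.rres X h a * QCSec.rres X h b := map_mul _ _ _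

theorem rres_zero' {X : Scheme.{u}} {A B : X.Opens} (h : A ≤ B) :
    QCSec.rres X h (0 : Γ(X, B)) = 0 := map_zero _

/-- Let f : X ⟶ Y be a morphism of schemes under which each weakly associated point of X (of O_X) goes
to a point of Y with no proper generization (the generic point of some irreducible component of Y).
Then pullbacks of meromorphic functions are defined for f: for every open U ⊆ Y and every regular
section s of O_Y over U, the pulled-back section of O_X over f⁻¹U is regular. -/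
theorem result {X Y : Scheme.{u}} (f : X ⟶ Y)
    (h : ∀ x : ↥X, Curv2.IsWeakAssPoint (Coh.structureModule X) x → ∀ y : ↥Y, y ⤳ f x → y = f x)
    (U : Y.Opens) (s : Γ(Y, U)) (hs : s ∈ Mero.regSub Y U) : f.app U s ∈ Mero.regSub X (f ⁻¹ᵁ U) := by
  rintro ⟨x, hxU⟩
  change X.presheaf.germ (f ⁻¹ᵁ U) x hxU (f.app U s) ∈ nonZeroDivisors (X.presheaf.stalk x)
  rw [mem_nonZeroDivisors_iff_right]
  intro b hb
  by_contra hb0
  -- a representative of `b`
  obtain ⟨V0, hxV0, b0, rfl⟩ := TopCat.Presheaf.exists_germ_eq X.presheaf b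
  -- the product vanishes on a neighbourhood
  have hprod : X.presheaf.germ (V0 ⊓ f ⁻¹ᵁ U) x ⟨hxV0, hxU⟩
      (X.presheaf.map (homOfLE inf_le_left).op b0 *
        X.presheaf.map (homOfLE inf_le_right).op (f.app U s)) =
      X.presheaf.germ (V0 ⊓ f ⁻¹ᵁ U) x ⟨hxV0, hxU⟩ 0 := by
    rw [map_mul, map_zero, TopCat.Presheaf.germ_res_apply, TopCat.Presheaf.germ_res_apply]
    exact hb
  obtain ⟨W0, hxW0, i1, i2, hW0⟩ := TopCat.Presheaf.germ_eq X.presheaf x _ _ _ _ hprod
  obtain ⟨W, hW, hxW, hWW0⟩ := Opens.isBasis_iff_nbhd.mp X.isBasis_affineOpens hxW0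
  have hWV0 : W ≤ V0 := hWW0.trans (i1.le.trans inf_le_left)
  have hWU : W ≤ f ⁻¹ᵁ U := hWW0.trans (i1.le.trans inf_le_right)
  set b' : Γ(X, W) := QCSec.rres X hWV0 b0 with hb'
  set s' : Γ(X, W) := QCSec.rres X hWU (f.app U s) with hs'
  have hbs : b' * s' = 0 := by
    have h1 := congrArg (QCSec.rres X hWW0) hW0
    have e1 : QCSec.rres X hWW0 (X.presheaf.map i2.op 0) = 0 := by rw [map_zero, rres_zero']
    rw [e1] at h1
    rw [← h1]
    change _ = QCSec.rres X hWW0 (QCSec.rres X i1.le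
      (QCSec.rres X inf_le_left b0 * QCSec.rres X inf_le_right (f.app U s)))
    rw [rres_mul', rres_mul', QCSec.rres_rres, QCSec.rres_rres, QCSec.rres_rres, QCSec.rres_rres]
  have hb'germ : X.presheaf.germ W x hxW b' = X.presheaf.germ V0 x hxV0 b0 :=
    TopCat.Presheaf.germ_res_apply X.presheaf (homOfLE hWV0) x hxW b0
  have hb'ne : b' ≠ 0 := by
    intro h0
    apply hb0
    rw [← hb'germ, h0, map_zero]
  -- the annihilator of `b'` as a section of the structure module
  let t' : Γ(Coh.structureModule X, W) := b'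
  set I : Ideal Γ(X, W) := LinearMap.ker
    (LinearMap.toSpanSingleton Γ(X, W) Γ(Coh.structureModule X, W) t') with hI
  have hImem : ∀ a : Γ(X, W), a ∈ I ↔ a * b' = 0 := fun a => by
    rw [hI, LinearMap.mem_ker, LinearMap.toSpanSingleton_apply]
    rfl
  have hIne : I ≠ ⊤ := by
    intro htop
    have h1 : (1 : Γ(X, W)) ∈ I := by rw [htop]; trivial
    rw [hImem, one_mul] at h1
    exact hb'ne h1
  obtain ⟨𝔪, h𝔪, hI𝔪⟩ := Ideal.exists_le_maximal I hIne
  have := h𝔪.isPrime
  obtain ⟨p, hp, -⟩ := Ideal.exists_minimalPrimes_le hI𝔪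
  have hpp : p.IsPrime := hp.1.1
  obtain ⟨z, hzW, hzp⟩ := QS.exists_point_of_prime hW p
  have hzass : Curv2.IsWeakAssPoint (Coh.structureModule X) z :=
    QS.isWeakAssPoint_of_mem_minimalPrimes (Coh.structureModule X) hW z hzW t'
      (by rw [hzp]; exact hp)
  have hs'p : s' ∈ (hW.primeIdealOf ⟨z, hzW⟩).asIdeal := by
    rw [hzp]
    apply hp.1.2
    rw [hImem, mul_comm]
    exact hbs
  have hzU : z ∈ f ⁻¹ᵁ U := hWU hzW
  have hz1 : z ∉ X.basicOpen s' := fun hz =>
    (mem_basicOpen_iff_notMem_primeIdealOf hW z hzW s').mp hz hs'p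
  have hz2 : f z ∉ Y.basicOpen s := by
    intro hfz
    apply hz1
    rw [hs']
    change z ∈ X.basicOpen (X.presheaf.map (homOfLE hWU).op (f.app U s))
    rw [Scheme.basicOpen_res]
    refine ⟨hzW, ?_⟩
    rw [← Scheme.preimage_basicOpen]
    exact hfz
  -- now work at `y = f z`
  have hyU : f z ∈ U := hzU
  obtain ⟨V', hV', hyV', hV'U⟩ := Opens.isBasis_iff_nbhd.mp Y.isBasis_affineOpens hyU
  set s'' : Γ(Y, V') := Y.presheaf.map (homOfLE hV'U).op s with hs''
  have hgerm'' : Y.presheaf.germ V' (f z) hyV' s'' = Y.presheaf.germ U (f z) hyU s :=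
    TopCat.Presheaf.germ_res_apply Y.presheaf (homOfLE hV'U) (f z) hyV' s
  have hs''p : s'' ∈ (hV'.primeIdealOf ⟨f z, hyV'⟩).asIdeal := by
    by_contra hnot
    apply hz2
    have h1 : f z ∈ Y.basicOpen s'' :=
      (mem_basicOpen_iff_notMem_primeIdealOf hV' (f z) hyV' s'').mpr hnot
    rw [hs'', Scheme.basicOpen_res] at h1
    exact h1.2
  have hmin : (hV'.primeIdealOf ⟨f z, hyV'⟩).asIdeal ∈ (⊥ : Ideal Γ(Y, V')).minimalPrimes := by
    refine ⟨⟨(hV'.primeIdealOf ⟨f z, hyV'⟩).isPrime, bot_le⟩, ?_⟩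
    rintro q ⟨hq, -⟩ hqp
    obtain ⟨y', hy'V', hy'q⟩ := QS.exists_point_of_prime hV' q
    have hspec : y' ⤳ f z := by
      rw [← primeIdealOf_le_iff_specializes hV' y' (f z) hy'V' hyV', hy'q]
      exact hqp
    have hy' : y' = f z := h z hzass y' hspec
    subst hy'
    rw [← hy'q]
  obtain ⟨c, hcp, n, hcn⟩ := WAF.exists_mul_pow_mem_of_mem_minimalPrimes hmin hs''p
  rw [Ideal.mem_bot] at hcn
  have hcu : IsUnit (Y.presheaf.germ V' (f z) hyV' c) :=
    (Scheme.mem_basicOpen Y c (f z) hyV').mp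
      ((mem_basicOpen_iff_notMem_primeIdealOf hV' (f z) hyV' c).mpr hcp)
  have hpow : (Y.presheaf.germ U (f z) hyU s) ^ n = 0 := by
    have h1 := congrArg (Y.presheaf.germ V' (f z) hyV') hcn
    rw [map_mul, map_pow, map_zero, hgerm''] at h1
    exact (hcu.mul_right_eq_zero).mp h1
  have hnzd : Y.presheaf.germ U (f z) hyU s ∈ nonZeroDivisors (Y.presheaf.stalk (f z)) :=
    hs ⟨f z, hyU⟩
  have hnzd' := pow_mem hnzd n
  rw [hpow] at hnzd'
  exact zero_notMem_nonZeroDivisors hnzd'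

end Groth.Agent.S8901
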