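import Groth.Statements.S8902
import Mathlib

set_option autoImplicit false
universe u
open CategoryTheory CategoryTheory.Limits AlgebraicGeometry TopologicalSpace
open SDiv

namespace Groth.Agent.S8902

open nonZeroDivisors

theorem map_nzd_of_flat {R S : Type u} [CommRing R] [CommRing S] (g : R →+* S) (hg : g.Flat)
    (r : R) (hr : r ∈ R⁰) : g r ∈ S⁰ := by
  letI := g.toAlgebra
  haveI : Module.Flat R S := hg
  have hreg : IsSMulRegular R r := by
    rw [isSMulRegular_iff_right_eq_zero_of_smul]
    intro m hm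
    rw [smul_eq_mul, mul_comm] at hm
    exact (mem_nonZeroDivisors_iff_right.mp hr) m hm
  have hreg' : IsSMulRegular S (algebraMap R S r) := IsSMulRegular.of_flat hreg
  rw [isSMulRegular_iff_right_eq_zero_of_smul] at hreg'
  rw [mem_nonZeroDivisors_iff_right]
  intro x hx
  apply hreg'
  rw [smul_eq_mul, mul_comm]
  exact hx

/-- Let f : X ⟶ Y be a flat morphism of schemes. Then pullbacks of meromorphic functions are defined for
f: for every open U ⊆ Y and every regular section s of O_Y over U, the pulled-back section of O_X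
over f⁻¹U is regular. -/
theorem result {X Y : Scheme.{u}} (f : X ⟶ Y) [Flat f] (U : Y.Opens) (s : Γ(Y, U))
    (hs : s ∈ Mero.regSub Y U) : f.app U s ∈ Mero.regSub X (f ⁻¹ᵁ U) := by
  intro x
  have hx : f x.1 ∈ U := x.2
  have h1 := hs ⟨f x.1, hx⟩
  have hflat : (f.stalkMap x.1).hom.Flat := Flat.stalkMap f x.1
  have e := Scheme.Hom.germ_stalkMap_apply f U x.1 hx s
  show X.presheaf.germ (f ⁻¹ᵁ U) x.1 x.2 (f.app U s) ∈ _
  rw [← e]
  exact map_nzd_of_flat _ hflat _ h1

end Groth.Agent.S8902
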