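-- Statement S8908.
import Groth.Statements.S8908
import Mathlib
import Groth.Agent.Lib.Helper1.NoEmb2

set_option autoImplicit false
universe u
open CategoryTheory CategoryTheory.Limits AlgebraicGeometry TopologicalSpace
open SDiv

namespace Groth.Agent.S8908

/-- Let X be a locally Noetherian scheme and F a coherent O_X-module. The coherent subsheaves K ⊆ F
whose support is nowhere dense in Supp(F) have a largest element K. Setting F' = F/K: (1) Supp(F') =
Supp(F); (2) F' has no embedded associated points; (3) there is a dense open U ⊆ X with U ∩ Supp(F)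
dense in Supp(F) over which the quotient map F → F' restricts to an isomorphism. -/
theorem result (X : Scheme.{u}) [IsLocallyNoetherian X] (F : X.Modules)
    (hF : Coh.IsCoh F) :
    ∃ K : Subobject F, Coh.IsCoh (K : X.Modules) ∧
      (∀ U : X.Opens, (U : Set ↥X) ∩ CohB1.support F ⊆ CohB1.support (K : X.Modules) → (U : Set ↥X) ∩ CohB1.support F = ∅) ∧
      (∀ K' : Subobject F, Coh.IsCoh (K' : X.Modules) →
        (∀ U : X.Opens, (U : Set ↥X) ∩ CohB1.support F ⊆ CohB1.support (K' : X.Modules) → (U : Set ↥X) ∩ CohB1.support F = ∅) →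
        K' ≤ K) ∧
      CohB1.support (cokernel K.arrow) = CohB1.support F ∧
      (∀ x : ↥X, Curv2.IsAssPoint (cokernel K.arrow) x → ∀ y : ↥X, Curv2.IsAssPoint (cokernel K.arrow) y → y ⤳ x → y = x) ∧
      ∃ U : X.Opens, Dense (U : Set ↥X) ∧ CohB1.support F ⊆ closure ((U : Set ↥X) ∩ CohB1.support F) ∧
        IsIso ((Scheme.Modules.restrictFunctor U.ι).map (cokernel.π K.arrow)) := by
  classical
  haveI := hF.1
  haveI := hF.2
  obtain ⟨W, hW⟩ : ∃ W : X.Opens, W = Groth.Agent.Lib.Helper1.NoEmb.V F hF := ⟨_, rfl⟩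
  let u := Groth.Agent.Lib.Helper17.DevTF.un W F
  let e : ((kernelSubobject u : Subobject F) : X.Modules) ≅ kernel u := kernelSubobjectIso u
  have he : e.hom ≫ kernel.ι u = (kernelSubobject u).arrow := kernelSubobject_arrow u
  have hcomm : (kernelSubobject u).arrow ≫ (Iso.refl F).hom = e.hom ≫ kernel.ι u := by
    rw [he]; simp
  let c : cokernel (kernelSubobject u).arrow ≅ cokernel (kernel.ι u) :=
    cokernel.mapIso _ _ e (Iso.refl F) hcomm
  have hπ : cokernel.π (kernelSubobject u).arrow = cokernel.π (kernel.ι u) ≫ c.inv := by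
    rw [Iso.eq_comp_inv]
    simp [c]
  have hsuppK : CohB1.support ((kernelSubobject u : Subobject F) : X.Modules) ⊆
      Groth.Agent.Lib.Helper1.NoEmb.T F := by
    rw [Groth.Agent.Lib.Helper17.DevBasic.support_eq_of_iso e]
    subst hW
    exact Groth.Agent.Lib.Helper1.NoEmb.support_tors_subset F hF
  refine ⟨kernelSubobject u, ?_, ?_, ?_, ?_, ?_, W, ?_, ?_, ?_⟩
  · subst hW
    exact Groth.Agent.Lib.Helper17.DevBasic.isCoh_of_iso e.symm
      (Groth.Agent.Lib.Helper1.AssPrim.isCoh_tors' _ F hF)
  · intro U hU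
    exact Groth.Agent.Lib.Helper1.NoEmb.nowhereDense F hF U (hU.trans hsuppK)
  · intro K' hK' hnd
    apply le_kernelSubobject
    have h1 := Groth.Agent.Lib.Helper1.NoEmb.support_subset_T_of_nowhereDense F hF
      (K' : X.Modules) hK' K'.arrow hnd
    subst hW
    exact Groth.Agent.Lib.Helper1.NoEmb.comp_un_eq_zero F _ _ K'.arrow
      (fun x hx hxV => hxV (h1 hx))
  · rw [Groth.Agent.Lib.Helper17.DevBasic.support_eq_of_iso c]
    subst hW
    exact Groth.Agent.Lib.Helper1.NoEmb.support_tf_eq F hF
  · intro x hx y hy hyx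
    have hx' : Curv2.IsAssPoint (cokernel (kernel.ι u)) x := by
      have := Groth.Agent.Lib.Helper1.AssFilt.ass_eq_of_iso c
      exact (Set.ext_iff.mp this x).mp hx
    have hy' : Curv2.IsAssPoint (cokernel (kernel.ι u)) y := by
      have := Groth.Agent.Lib.Helper1.AssFilt.ass_eq_of_iso c
      exact (Set.ext_iff.mp this y).mp hy
    subst hW
    have hgx := Groth.Agent.Lib.Helper1.NoEmb.ass_tf_mem_gen F hF x hx'
    have hgy := Groth.Agent.Lib.Helper1.NoEmb.ass_tf_mem_gen F hF y hy'
    exact hgx.2 y hgy.1 hyx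
  · subst hW
    exact Groth.Agent.Lib.Helper1.NoEmb.dense_V F hF
  · subst hW
    exact Groth.Agent.Lib.Helper1.NoEmb.support_subset_closure F hF
  · rw [hπ, Functor.map_comp]
    haveI : IsIso ((Scheme.Modules.restrictFunctor W.ι).map (cokernel.π (kernel.ι u))) := by
      subst hW
      exact Groth.Agent.Lib.Helper1.NoEmb.isIso_restrict_π F hF
    infer_instance

end Groth.Agent.S8908
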