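import Groth.Statements.S8910
import Groth.Agent.Lib.Helper3.ReesBlow
import Groth.Agent.Lib.Helper3.RelProjExist

set_option autoImplicit false
universe u
open CategoryTheory CategoryTheory.Limits AlgebraicGeometry TopologicalSpace
open SDiv

namespace Groth.Agent.S8910

/-- Let X be a scheme, 𝓘 a quasi-coherent ideal sheaf of finite type on X and b : X' ⟶ X a blowing up of
X in 𝓘. Then b is projective: X' is isomorphic over X to the relative Proj of a quasi-coherent
graded O_X-algebra generated by its degree-one part, which is of finite type. This row does not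
assert that O_{X'}(1) is relatively ample over X. -/
theorem result {X X' : Scheme.{u}} (𝓘 : X.IdealSheafData) (h𝓘 : BlowUp.IsFiniteTypeIdeal 𝓘)
    (b : X' ⟶ X) (hb : BlowUp.IsBlowUp b 𝓘) : RelProj.IsProjective b := by
  obtain ⟨P, p, chart, hP⟩ :=
    Groth.Agent.Lib.Helper3.RelProjExist.exists_isRelProj
      (Groth.Agent.Lib.Helper3.ReesSheaf.reesQC 𝓘)
  have hp : BlowUp.IsBlowUp p 𝓘 :=
    Groth.Agent.Lib.Helper3.ReesBlow.isBlowUp_relProj 𝓘 p chart hP
  obtain ⟨e, he⟩ := Groth.Agent.Lib.Helper3.ReesBlow.exists_iso_of_isBlowUp 𝓘 b p hb hp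
  exact ⟨Groth.Agent.Lib.Helper3.ReesSheaf.reesQC 𝓘, P, p, chart, e,
    Groth.Agent.Lib.Helper3.ReesSheaf.isGenDegOne 𝓘,
    Groth.Agent.Lib.Helper3.ReesSheaf.isFTDeg 𝓘 h𝓘, hP, he⟩

end Groth.Agent.S8910
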