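import Groth.Statements.S8911
import Mathlib
import Groth.Agent.Lib.Helper17.FittStrict
import Groth.Agent.S8872
import Groth.Agent.Lib.Helper17.PbFinite
import Groth.Agent.Lib.Helper17.PbStalk

set_option autoImplicit false
universe u
open CategoryTheory CategoryTheory.Limits AlgebraicGeometry TopologicalSpace
open SDiv

namespace Groth.Agent.S8911

/-- Let S be a scheme, F a quasi-coherent O_S-module of finite type, k ≥ 0, b : S' ⟶ S a blowing up of S
in the closed subscheme Z_k cut out by Fit_k(F), and π : b^*F ⟶ G the strict transform of F along b.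
Then G can locally be generated by at most k sections. -/
theorem result (S : Scheme.{u}) (F : S.Modules) (hF : Coh.IsQCoh F) (hft : CohB1.IsFT F)
    (k : ℕ) {S' : Scheme.{u}} (b : S' ⟶ S) (hb : BlowUp.IsBlowUp b (Fitt.sheafIdeal F k)) (G : S'.Modules)
    (π : (Scheme.Modules.pullback b).obj F ⟶ G) (hG : BlowUp.IsStrictTransform b (Fitt.sheafIdeal F k) F G π) (s' : ↥S') :
    ∃ U : S'.Opens, s' ∈ U ∧ ∃ q : FlatMod.freeMod (↑U) k ⟶ G.restrict U.ι, Epi q := by
  haveI : F.IsQuasicoherent := hF
  haveI : F.IsFiniteType := hft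
  haveI := Groth.Agent.Lib.Helper17.PbStalk.isQuasicoherent_pullback b F
  haveI : ((Scheme.Modules.pullback b).obj F).IsFiniteType :=
    Groth.Agent.Lib.Helper17.PbFinite.isFiniteType_pullback b F
  have hcomap : (Fitt.sheafIdeal F k).comap b =
      Fitt.sheafIdeal ((Scheme.Modules.pullback b).obj F) k := Groth.Agent.S8872.result b F hF hft k
  have hE : BlowUp.IsEffCartierIdeal (Fitt.sheafIdeal ((Scheme.Modules.pullback b).obj F) k) :=
    hcomap ▸ hb.1
  haveI : Epi π := hG.1
  have hker : ∀ (V : S'.affineOpens) (m : Γ((Scheme.Modules.pullback b).obj F, V.1)),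
      BlowUp.KilledByPowerNear (Fitt.sheafIdeal ((Scheme.Modules.pullback b).obj F) k)
        ((Scheme.Modules.pullback b).obj F) V m → π.app V.1 m = 0 := by
    intro V m hm
    rw [← hcomap] at hm
    exact (hG.2 V m).mpr hm
  obtain ⟨U, hU, hxU, -, y, hspan⟩ :=
    Groth.Agent.Lib.Helper17.FittStrict.exists_span_of_fitting_effCartier
      ((Scheme.Modules.pullback b).obj F) k hE π hker s' ⊤ trivial
  exact ⟨U, hxU, _, Groth.Agent.Lib.Helper17.FittStrict.epi_homOfSecs_of_span π hU _ hspan⟩

end Groth.Agent.S8911
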