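import Groth.Statements.S8912
import Mathlib
import Groth.Agent.Lib.Helper17.FittStrictFree
import Groth.Agent.S8872
import Groth.Agent.Lib.Helper17.PbFinite
import Groth.Agent.Lib.Helper17.PbStalk
import Groth.Agent.Lib.Helper17.PullBasis
import Groth.Agent.Lib.Helper3.LocFreeCrit

set_option autoImplicit false
universe u
open CategoryTheory CategoryTheory.Limits AlgebraicGeometry TopologicalSpace
open SDiv

namespace Groth.Agent.S8912

/-- Let S be a scheme, F a quasi-coherent O_S-module of finite type and k ≥ 0 such that F is locally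
free of rank k on the complement of the closed subscheme Z_k cut out by Fit_k(F). Let b : S' ⟶ S be
a blowing up of S in Z_k and π : b^*F ⟶ G the strict transform of F. Then G is finite locally free
of rank k. -/
theorem result (S : Scheme.{u}) (F : S.Modules) (hF : Coh.IsQCoh F) (hft : CohB1.IsFT F)
    (k : ℕ) (hfree : FlatMod.IsFinLocFreeOfRank k (F.restrict (Scheme.Opens.ι (Fitt.sheafIdeal F k).support.compl)))
    {S' : Scheme.{u}} (b : S' ⟶ S) (hb : BlowUp.IsBlowUp b (Fitt.sheafIdeal F k)) (G : S'.Modules)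
    (π : (Scheme.Modules.pullback b).obj F ⟶ G) (hG : BlowUp.IsStrictTransform b (Fitt.sheafIdeal F k) F G π) :
    FlatMod.IsFinLocFreeOfRank k G := by
  haveI : F.IsQuasicoherent := hF
  haveI : F.IsFiniteType := hft
  haveI := Groth.Agent.Lib.Helper17.PbStalk.isQuasicoherent_pullback b F
  haveI : ((Scheme.Modules.pullback b).obj F).IsFiniteType :=
    Groth.Agent.Lib.Helper17.PbFinite.isFiniteType_pullback b F
  have hcomap : (Fitt.sheafIdeal F k).comap b =
      Fitt.sheafIdeal ((Scheme.Modules.pullback b).obj F) k := Groth.Agent.S8872.result b F hF hft k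
  have hE : BlowUp.IsEffCartierIdeal (Fitt.sheafIdeal ((Scheme.Modules.pullback b).obj F) k) :=
    hcomap ▸ hb.1
  haveI : Epi π := hG.1
  have hker : ∀ (V : S'.affineOpens) (m : Γ((Scheme.Modules.pullback b).obj F, V.1)),
      π.app V.1 m = 0 ↔
      BlowUp.KilledByPowerNear (Fitt.sheafIdeal ((Scheme.Modules.pullback b).obj F) k)
        ((Scheme.Modules.pullback b).obj F) V m := by
    intro V m
    rw [← hcomap]
    exact hG.2 V m
  -- local bases on the base
  have hS : ∀ s : S, s ∉ (Fitt.sheafIdeal F k).support →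
      ∃ (P : S.Opens) (e : Fin k → Γ(F, P)), s ∈ P ∧
        Groth.Agent.Lib.Helper3.FreeBasis.IsBasis F P e := by
    intro s hs
    set C : S.Opens := (Fitt.sheafIdeal F k).support.compl with hC
    have hsC : s ∈ C := hs
    obtain ⟨U', e, hxU', he⟩ :=
      (Groth.Agent.Lib.Helper3.FreeBasis.isFinLocFreeOfRank_iff.mp hfree) ⟨s, hsC⟩
    exact ⟨C.ι ''ᵁ U', _, ⟨⟨s, hsC⟩, hxU', rfl⟩,
      Groth.Agent.Lib.Helper3.LocFreeCrit.isBasis_of_isBasis_restrict F C he⟩
  have hfree' : ∀ p : S', p ∉ (Fitt.sheafIdeal ((Scheme.Modules.pullback b).obj F) k).support →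
      ∃ (P : S'.Opens) (e : Fin k → Γ((Scheme.Modules.pullback b).obj F, P)), p ∈ P ∧
        Groth.Agent.Lib.Helper3.FreeBasis.IsBasis ((Scheme.Modules.pullback b).obj F) P e := by
    intro p hp
    rw [← hcomap, Scheme.IdealSheafData.support_comap] at hp
    obtain ⟨P₀, e, hpP₀, he⟩ := hS (b p) hp
    exact ⟨b ⁻¹ᵁ P₀, _, hpP₀, Groth.Agent.Lib.Helper17.PullBasis.isBasis_pull b F he⟩
  exact Groth.Agent.Lib.Helper17.FittStrict.isFinLocFreeOfRank_of_fitting_effCartier
    ((Scheme.Modules.pullback b).obj F) k hE π hker hfree'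

end Groth.Agent.S8912
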