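import Groth.Statements.S8913
import Mathlib
import Groth.Agent.Lib.Helper17.FittStrictAdm
import Groth.Agent.S8872
import Groth.Agent.S8873
import Groth.Agent.Lib.Helper17.PbFinite
import Groth.Agent.Lib.Helper17.PbStalk
import Groth.Agent.Lib.Helper17.PullBasis
import Groth.Agent.Lib.Helper17.LocFreeRank
import Groth.Agent.Lib.Helper3.LocFreeCrit

set_option autoImplicit false
universe u
open CategoryTheory CategoryTheory.Limits AlgebraicGeometry TopologicalSpace
open SDiv

namespace Groth.Agent.S8913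

open Groth.Agent.Lib.Helper3 Groth.Agent.Lib.Helper3.FreeBasis Groth.Agent.Lib.Helper17 Groth.Agent.Lib.Helper17.FittStrict

/-- Let X be a scheme, F a finitely presented O_X-module and U ⊆ X an open subscheme which is
scheme-theoretically dense and over which F is locally free of constant finite rank r. Then: (1)
Fit_r(F) is of finite type with support disjoint from U, so a blowing up b : X' ⟶ X of X in Fit_r(F)
is U-admissible; (2) the strict transform G of F along such b is locally free of rank r; (3) the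
kernel of the surjection b^*F ⟶ G is finitely presented and restricts to zero over b⁻¹U. This row
does not assert that b^*F and the kernel are perfect of tor dimension at most one. -/
theorem result (X : Scheme.{u}) (F : X.Modules) (hF : CohB1.IsFP F)
    (U : X.Opens) (hU : CInt.IsSchematicallyDense U) (r : ℕ) (hfree : FlatMod.IsFinLocFreeOfRank r (F.restrict U.ι)) :
    BlowUp.IsAdmissibleFor U (Fitt.sheafIdeal F r) ∧
      ∀ (X' : Scheme.{u}) (b : X' ⟶ X), BlowUp.IsBlowUp b (Fitt.sheafIdeal F r) →
        ∀ (G : X'.Modules) (π : (Scheme.Modules.pullback b).obj F ⟶ G), BlowUp.IsStrictTransform b (Fitt.sheafIdeal F r) F G π →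
          FlatMod.IsFinLocFreeOfRank r G ∧ CohB1.IsFP (kernel π) ∧ IsZero ((kernel π).restrict (b ⁻¹ᵁ U).ι) := by
  haveI : SheafOfModules.IsFinitePresentation (R := X.ringCatSheaf) F := hF
  haveI : F.IsQuasicoherent := inferInstance
  haveI : F.IsFiniteType := inferInstance
  have hqc : Coh.IsQCoh F := inferInstance
  have hft : CohB1.IsFT F := inferInstance
  -- local bases on `U`
  have hfreeU : ∀ x ∈ U, ∃ (P : X.Opens) (e : Fin r → Γ(F, P)), x ∈ P ∧ IsBasis F P e := by
    intro x hx
    obtain ⟨U', e, hxU', he⟩ := (FreeBasis.isFinLocFreeOfRank_iff.mp hfree) ⟨x, hx⟩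
    exact ⟨U.ι ''ᵁ U', _, ⟨⟨x, hx⟩, hxU', rfl⟩, LocFreeCrit.isBasis_of_isBasis_restrict F U he⟩
  have hbot : ∀ k, k < r → ∀ {W : X.Opens}, IsAffineOpen W →
      Fitt.ideal Γ(X, W) Γ(F, W) k = ⊥ :=
    fun k hk W hW => fitt_eq_bot_of_schematicallyDense F U hU r hfreeU k hk hW
  have hS := exists_isBasis_of_fitt F r hbot
  -- a module with a basis of size `r` has unit `r`-th Fitting ideal
  have htop : ∀ {Y : Scheme.{u}} (M : Y.Modules) {P W : Y.Opens} (e : Fin r → Γ(M, P))
      (_ : IsBasis M P e) (hWP : W ≤ P), Fitt.ideal Γ(Y, W) Γ(M, W) r = ⊤ := by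
    intro Y M P W e he hWP
    rw [Groth.Agent.Lib.Helper18.FittLib.fitt_of_basis
      (NormAlg.basisOfBijective _ (he.mono hWP).self) r, if_pos le_rfl]
  refine ⟨⟨Groth.Agent.S8873.result X F hF r, ?_⟩, ?_⟩
  · rw [Set.disjoint_left]
    intro x hxs hxU
    obtain ⟨P, e, hxP, he⟩ := hfreeU x hxU
    obtain ⟨W, hW, hxW, hWP⟩ := exists_isAffineOpen_mem_and_subset (x := x) (U := P) hxP
    rw [SetLike.mem_coe, FittSheaf.mem_support_iff F r hW x hxW, htop F e he hWP] at hxs
    exact (hW.primeIdealOf ⟨x, hxW⟩).isPrime.ne_top (top_le_iff.mp hxs)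
  · intro X' b hb G π hG
    haveI := Groth.Agent.Lib.Helper17.PbStalk.isQuasicoherent_pullback b F
    haveI : ((Scheme.Modules.pullback b).obj F).IsFiniteType :=
      Groth.Agent.Lib.Helper17.PbFinite.isFiniteType_pullback b F
    haveI : SheafOfModules.IsFinitePresentation (R := X'.ringCatSheaf)
        ((Scheme.Modules.pullback b).obj F) :=
      Groth.Agent.Lib.Helper17.PbFinite.isFinitePresentation_pullback b F
    have hcomap : (Fitt.sheafIdeal F r).comap b =
        Fitt.sheafIdeal ((Scheme.Modules.pullback b).obj F) r :=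
      Groth.Agent.S8872.result b F hqc hft r
    have hE : BlowUp.IsEffCartierIdeal (Fitt.sheafIdeal ((Scheme.Modules.pullback b).obj F) r) :=
      hcomap ▸ hb.1
    haveI : Epi π := hG.1
    have hker : ∀ (V : X'.affineOpens) (m : Γ((Scheme.Modules.pullback b).obj F, V.1)),
        π.app V.1 m = 0 ↔
        BlowUp.KilledByPowerNear (Fitt.sheafIdeal ((Scheme.Modules.pullback b).obj F) r)
          ((Scheme.Modules.pullback b).obj F) V m := by
      intro V m
      rw [← hcomap]
      exact hG.2 V m
    have hfree' : ∀ p : X', p ∉ (Fitt.sheafIdeal ((Scheme.Modules.pullback b).obj F) r).support →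
        ∃ (P : X'.Opens) (e : Fin r → Γ((Scheme.Modules.pullback b).obj F, P)), p ∈ P ∧
          IsBasis ((Scheme.Modules.pullback b).obj F) P e := by
      intro p hp
      rw [← hcomap, Scheme.IdealSheafData.support_comap] at hp
      obtain ⟨P₀, e, hpP₀, he⟩ := hS (b p) hp
      exact ⟨b ⁻¹ᵁ P₀, _, hpP₀, Groth.Agent.Lib.Helper17.PullBasis.isBasis_pull b F he⟩
    have hGfree : FlatMod.IsFinLocFreeOfRank r G :=
      isFinLocFreeOfRank_of_fitting_effCartier ((Scheme.Modules.pullback b).obj F) r hE π hker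
        hfree'
    refine ⟨hGfree, ?_, ?_⟩
    · exact isFinitePresentation_kernel_of_isFinLocFree
        (Groth.Agent.Lib.Helper17.LocFreeRank.isFinLocFree_of_rank hGfree) π
    · apply isZero_kernel_restrict π (b ⁻¹ᵁ U)
      intro V hV hVU m hm
      refine ModBasis.eq_zero_of_locally_zero _ V m ?_
      intro p hpV
      obtain ⟨P₀, e, hpP₀, he⟩ := hfreeU (b p) (hVU hpV)
      have he' := Groth.Agent.Lib.Helper17.PullBasis.isBasis_pull b F he
      obtain ⟨W', hW', hpW', hW'le⟩ := exists_isAffineOpen_mem_and_subset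
        (x := p) (U := V ⊓ b ⁻¹ᵁ P₀) ⟨hpV, hpP₀⟩
      have hW'V : W' ≤ V := hW'le.trans inf_le_left
      refine ⟨W', hW'V, hpW', ?_⟩
      have h1 : π.app W' (QCSec.res ((Scheme.Modules.pullback b).obj F) hW'V m) = 0 := by
        rw [QCExact.app_res', hm, QCSec.res_zero]
      obtain ⟨n, hn⟩ := (hker ⟨W', hW'⟩ _).mp h1
      have h2 : (1 : Γ(X', W')) ∈
          ((Fitt.sheafIdeal ((Scheme.Modules.pullback b).obj F) r) ^ n).ideal ⟨W', hW'⟩ := by
        rw [Scheme.IdealSheafData.ideal_pow]
        show (1 : Γ(X', W')) ∈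
          ((Fitt.sheafIdeal ((Scheme.Modules.pullback b).obj F) r).ideal ⟨W', hW'⟩) ^ n
        rw [FittSheaf.ideal_sheafIdeal, htop _ _ he' (hW'le.trans inf_le_right), Ideal.top_pow]
        trivial
      have h3 := hn 1 h2
      rwa [one_smul] at h3

end Groth.Agent.S8913
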