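-- Statement S8915.
import Groth.Statements.S8915
import Mathlib
import Groth.Agent.S5005
import Groth.Agent.Lib.Helper1.DerFin
import Groth.Agent.Lib.Helper1.DerSmooth
import Groth.Agent.Lib.Helper1.DerUnram
import Groth.Agent.Lib.Helper1.DerRes
import Groth.Agent.Lib.Helper17.FittSheaf
import Groth.Agent.Lib.Helper18.FittLib4
import Groth.Agent.Lib.Helper3.QCSec
set_option linter.style.haveILetI false

set_option autoImplicit false
universe u
open CategoryTheory CategoryTheory.Limits AlgebraicGeometry TopologicalSpace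
open SDiv

namespace Groth.Agent.S8915

open Opposite
open Groth.Agent.Lib.Helper1 Groth.Agent.Lib.Helper3 Groth.Agent.Lib.Helper3.QCSec

/-- relative version of `DerUnram.subsingleton_of_forall_exists` -/
theorem subsingleton_of_forall_exists_le {X : Scheme.{u}} (M : X.Modules) (U : X.Opens)
    (h : ∀ (x : X) (W : X.Opens), W ≤ U → x ∈ W →
      ∃ U' : X.Opens, x ∈ U' ∧ U' ≤ W ∧ Subsingleton Γ(M, U'))
    (W : X.Opens) (hW : W ≤ U) : Subsingleton Γ(M, W) := by
  refine ⟨fun a b => ?_⟩
  let Ms : TopCat.Sheaf Ab X := ⟨M.presheaf, M.isSheaf⟩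
  refine Ms.eq_of_locally_eq' (fun i : {U' : X.Opens // U' ≤ W ∧ Subsingleton Γ(M, U')} => i.1) W
    (fun i => homOfLE i.2.1) ?_ a b (fun i => i.2.2.elim _ _)
  intro x hx
  obtain ⟨U', hxU', hU'W, hU'⟩ := h x W hW hx
  exact Opens.mem_iSup.mpr ⟨⟨U', hU'W, hU'⟩, hxU'⟩

/-- a quasi-coherent module killed by `s` on an affine open vanishes on `D(s)` -/
theorem subsingleton_of_smul_eq_zero {X : Scheme.{u}} (M : X.Modules) [M.IsQuasicoherent]
    {U₀ : X.Opens} (hU₀ : IsAffineOpen U₀) (s : Γ(X, U₀)) (hs : ∀ y : Γ(M, U₀), s • y = 0)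
    (W : X.Opens) (hW : W ≤ X.basicOpen s) : Subsingleton Γ(M, W) := by
  apply subsingleton_of_forall_exists_le M (X.basicOpen s) ?_ W hW
  intro y W' hW' hy
  have hyU₀ : y ∈ U₀ := X.basicOpen_le s (hW' hy)
  obtain ⟨g, hgW', hyg⟩ := hU₀.exists_basicOpen_le (V := W') ⟨y, hy⟩ hyU₀
  refine ⟨X.basicOpen g, hyg, hgW', ?_⟩
  have hDU : X.basicOpen g ≤ U₀ := X.basicOpen_le g
  have hDs : X.basicOpen g ≤ X.basicOpen s := hgW'.trans hW'
  have hM := isLocSec_of_isQuasicoherent M hU₀ g (X.basicOpen g) rfl hDU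
  have hug : IsUnit (rres X hDU g) := RingedSpace.isUnit_res_basicOpen _ g
  have hus : IsUnit (rres X hDU s) := by
    have h1 : IsUnit (rres X (X.basicOpen_le s) s) := RingedSpace.isUnit_res_basicOpen _ s
    have h2 : rres X hDU s = rres X hDs (rres X (X.basicOpen_le s) s) := (rres_rres _ _ s).symm
    rw [h2]
    exact h1.map _
  have h0 : ∀ t : Γ(M, X.basicOpen g), t = 0 := by
    intro t
    obtain ⟨n, m, hm⟩ := hM.surj t
    have h3 : rres X hDU s • res M hDU m = 0 := by
      rw [← res_smul, hs]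
      exact map_zero (M.presheaf.map (homOfLE hDU).op).hom
    have h4 : res M hDU m = 0 := hus.smul_eq_zero.mp h3
    rw [h4] at hm
    exact (hug.pow n).smul_eq_zero.mp hm.symm
  exact ⟨fun a b => (h0 a).trans (h0 b).symm⟩

/-- formal unramifiedness on an open in terms of the sections of the differentials -/
theorem formallyUnramified_iff {X S : Scheme.{u}} (f : X ⟶ S) {Ω' : X.Modules} (d : OmegaSh.Der f Ω')
    (hd : OmegaSh.IsUniversal d) (U : X.Opens) :
    FormallyUnramified (U.ι ≫ f) ↔ ∀ W : X.Opens, W ≤ U → Subsingleton Γ(Ω', W) := by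
  rw [DerUnram.formallyUnramified_iff_isZero (U.ι ≫ f) (Ω'.restrict U.ι) (DerRes.restrictDer U.ι f d)
    (DerRes.isUniversal_restrictDer U.ι f d hd), DerUnram.isZero_iff_forall_subsingleton]
  constructor
  · intro h W hW
    have h1 : Subsingleton Γ(Ω', U.ι ''ᵁ (U.ι ⁻¹ᵁ W)) := h (U.ι ⁻¹ᵁ W)
    have h2 : U.ι ''ᵁ (U.ι ⁻¹ᵁ W) = W := by
      rw [Scheme.Hom.image_preimage_eq_opensRange_inf, Scheme.Opens.opensRange_ι]
      exact inf_eq_right.mpr hW
    rw [h2] at h1
    exact h1
  · intro h W'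
    have hle : U.ι ''ᵁ W' ≤ U := by
      have := Scheme.Hom.image_le_opensRange U.ι W'
      rwa [Scheme.Opens.opensRange_ι] at this
    exact h (U.ι ''ᵁ W') hle

/-- Let f : X ⟶ S be locally of finite type and quasi-separated. Then the closed subset of X defined by
the Fitting ideal Fit_0(Ω_{X/S}) is exactly the set of points at which f is not unramified, i.e.
which have no open neighbourhood on which f is formally unramified. The published statement does not
assume f quasi-separated; this row does, because the module Ω_{X/S} used here is defined for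
quasi-separated f. -/
theorem result {X S : Scheme.{u}} (f : X ⟶ S) [LocallyOfFiniteType f] [QuasiSeparated f]
    (x : ↥X) :
    x ∈ (Fitt.sheafIdeal (Omega.sheaf f) 0).support ↔ ¬ ∃ U : X.Opens, x ∈ U ∧ FormallyUnramified (U.ι ≫ f) := by
  have hd := Groth.Agent.S5005.result f
  haveI : (Omega.sheaf f).IsQuasicoherent := DerSmooth.isQuasicoherent f _ hd
  haveI : (Omega.sheaf f).IsFiniteType := DerFin.isFT f _ hd
  obtain ⟨_, ⟨U₀ : X.Opens, hU₀' , rfl⟩, hxU₀', -⟩ := X.isBasis_affineOpens.exists_subset_of_mem_open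
    (Set.mem_univ x) isOpen_univ
  have hU₀ : IsAffineOpen U₀ := hU₀'
  have hxU₀ : x ∈ U₀ := hxU₀'
  haveI := QCProps.finite_sections (Omega.sheaf f) hU₀
  rw [Groth.Agent.Lib.Helper17.FittSheaf.mem_support_iff (Omega.sheaf f) 0 hU₀ x hxU₀]
  rw [iff_not_comm, Groth.Agent.Lib.Helper18.FittLib.not_fitt_le_prime_iff]
  constructor
  · rintro ⟨U, hxU, hunr⟩
    have hsub := (formallyUnramified_iff f _ hd U).mp hunr
    -- shrink to an affine inside `U ⊓ U₀`
    obtain ⟨g, hgU, hxg⟩ := hU₀.exists_basicOpen_le (V := U ⊓ U₀) ⟨x, ⟨hxU, hxU₀⟩⟩ hxU₀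
    have hDU : X.basicOpen g ≤ U₀ := X.basicOpen_le g
    have hM := isLocSec_of_isQuasicoherent (Omega.sheaf f) hU₀ g (X.basicOpen g) rfl hDU
    have hsub' : Subsingleton Γ(Omega.sheaf f, X.basicOpen g) := hsub _ (hgU.trans inf_le_left)
    -- a power of `g` kills every element; use finite generation
    have hfin : Module.Finite Γ(X, U₀) Γ(Omega.sheaf f, U₀) := inferInstance
    obtain ⟨T, hT⟩ := hfin.fg_top
    have hkill : ∀ y : Γ(Omega.sheaf f, U₀), ∃ n : ℕ, g ^ n • y = 0 :=
      fun y => hM.inj y (Subsingleton.elim _ _)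
    choose N hN using hkill
    let n₀ := T.sup N
    have hall : ∀ y : Γ(Omega.sheaf f, U₀), g ^ n₀ • y = 0 := by
      intro y
      have hy : y ∈ Submodule.span Γ(X, U₀) (T : Set Γ(Omega.sheaf f, U₀)) := by rw [hT]; trivial
      induction hy using Submodule.span_induction with
      | mem z hz =>
        have hle : N z ≤ n₀ := Finset.le_sup hz
        obtain ⟨k, hk⟩ := Nat.exists_eq_add_of_le hle
        rw [hk, pow_add, mul_comm, mul_smul, hN z, smul_zero]
      | zero => exact smul_zero _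
      | add a b _ _ ha hb => rw [smul_add, ha, hb, add_zero]
      | smul c a _ ha => rw [smul_comm, ha, smul_zero]
    refine ⟨g ^ n₀, ?_, Fin.elim0, fun y => ?_⟩
    · have hg : g ∉ (hU₀.primeIdealOf ⟨x, hxU₀⟩).asIdeal :=
        (mem_basicOpen_iff_notMem_primeIdealOf hU₀ x hxU₀ g).mp hxg
      exact fun h => hg ((hU₀.primeIdealOf ⟨x, hxU₀⟩).2.mem_of_pow_mem _ h)
    · rw [hall y]
      exact zero_mem _
  · rintro ⟨s, hs, m, hm⟩
    have hkill : ∀ y : Γ(Omega.sheaf f, U₀), s • y = 0 := by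
      intro y
      have := hm y
      have he : Set.range m = ∅ := Set.range_eq_empty m
      rw [he, Submodule.span_empty] at this
      exact this
    refine ⟨X.basicOpen s, (mem_basicOpen_iff_notMem_primeIdealOf hU₀ x hxU₀ s).mpr hs, ?_⟩
    rw [formallyUnramified_iff f _ hd]
    exact subsingleton_of_smul_eq_zero (Omega.sheaf f) hU₀ s hkill

end Groth.Agent.S8915
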