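-- Statement S8917.
import Groth.Statements.S8917
import Mathlib
import Groth.Agent.S8872
import Groth.Agent.S5005
import Groth.Agent.S9386
import Groth.Agent.Lib.Helper1.DerCompat
import Groth.Agent.Lib.Helper1.DerFin
import Groth.Agent.Lib.Helper18.FittLib2
set_option linter.style.haveILetI false

set_option autoImplicit false
universe u
open CategoryTheory CategoryTheory.Limits AlgebraicGeometry TopologicalSpace
open SDiv

namespace Groth.Agent.S8917

open Groth.Agent.Lib.Helper1

/-- sections of isomorphic modules are linearly equivalent -/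
noncomputable def sectEquivOfIso {X : Scheme.{u}} {F G : X.Modules} (α : F ≅ G) (U : X.Opens) :
    Γ(F, U) ≃ₗ[Γ(X, U)] Γ(G, U) where
  toFun := α.hom.app U
  invFun := α.inv.app U
  map_add' := map_add _
  map_smul' := fun r x => Scheme.Modules.Hom.app_smul α.hom r x
  left_inv := fun x => by
    have : (α.hom ≫ α.inv).app U x = x := by rw [α.hom_inv_id]; rfl
    exact this
  right_inv := fun x => by
    have : (α.inv ≫ α.hom).app U x = x := by rw [α.inv_hom_id]; rfl
    exact this

theorem sheafIdeal_congr {X : Scheme.{u}} {F G : X.Modules} (α : F ≅ G) (i : ℕ) :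
    Fitt.sheafIdeal F i = Fitt.sheafIdeal G i := by
  unfold Fitt.sheafIdeal
  congr 1
  funext U
  exact Groth.Agent.Lib.Helper18.FittLib.fitt_congr (sectEquivOfIso α U.1) i

/-- Let f : X ⟶ S be locally of finite type and quasi-separated and let g : S' ⟶ S be a morphism, X' = X
×_S S' with projections g' : X' ⟶ X and f' : X' ⟶ S'. Then for every i the inverse image ideal sheaf
under g' of the i-th Fitting ideal of Ω_{X/S} is the i-th Fitting ideal of Ω_{X'/S'}: the Fitting
subschemes of Ω are compatible with base change. The published statement does not assume f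
quasi-separated; this row does, because the module Ω_{X/S} used here is defined for quasi-separated
f. -/
theorem result {X S S' : Scheme.{u}} (f : X ⟶ S) [LocallyOfFiniteType f] [QuasiSeparated f] (g : S' ⟶ S)
    (i : ℕ) :
    (Fitt.sheafIdeal (Omega.sheaf f) i).comap (pullback.fst f g) = Fitt.sheafIdeal (Omega.sheaf (pullback.snd f g)) i := by
  have hd := Groth.Agent.S5005.result f
  have hd' := Groth.Agent.S5005.result (pullback.snd f g)
  haveI : (Omega.sheaf f).IsQuasicoherent := DerSmooth.isQuasicoherent f _ hd
  have hft : CohB1.IsFT (Omega.sheaf f) := DerFin.isFT f _ hd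
  obtain ⟨c, hc, -⟩ := DerCompat.existsUnique_isDiffCompat f (pullback.snd f g) (pullback.fst f g) g
    pullback.condition.symm (OmegaSh.dOmega f) (OmegaSh.dOmega (pullback.snd f g)) hd
  haveI : IsIso c := OmBCApp.isIso_of_isPullback f g (pullback.fst f g) (pullback.snd f g)
    (IsPullback.of_hasPullback f g) _ _ hd _ _ hd' c hc
  rw [Groth.Agent.S8872.result (pullback.fst f g) (Omega.sheaf f) inferInstance hft i]
  exact sheafIdeal_congr (asIso c) i

end Groth.Agent.S8917
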