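-- Statement S8919.
import Groth.Statements.S8919
import Mathlib
import Groth.Agent.Lib.Helper1.ConormReg
import Groth.Agent.S5974

set_option autoImplicit false
universe u
open CategoryTheory CategoryTheory.Limits AlgebraicGeometry TopologicalSpace
open SDiv

namespace Groth.Agent.S8919

/-- Let i : Z ⟶ Y and j : Y ⟶ X be quasi-compact immersions of schemes with i an H_1-regular immersion,
and let a : i^*C_{Y/X} ⟶ C_{Z/X} and b : C_{Z/X} ⟶ C_{Z/Y} be the canonical maps of conormal
sheaves. Then the canonical sequence 0 → i^*C_{Y/X} → C_{Z/X} → C_{Z/Y} → 0 is exact and locally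
split; here local splitting is recorded through C_{Z/Y} being finite locally free. The published
statement allows arbitrary immersions; this row takes both immersions quasi-compact, the case in
which the conormal sheaves used here are those of the immersions. -/
theorem result {Z Y X : Scheme.{u}} (i : Z ⟶ Y) (j : Y ⟶ X) [IsImmersion i] [IsImmersion j]
    [QuasiCompact i] [QuasiCompact j]
    (a : (Scheme.Modules.pullback i).obj (Omega.conormal j) ⟶ Omega.conormal (i ≫ j))
    (ha : OmegaSh.IsConormalMap (i ≫ j) j (𝟙 X) i a)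
    (b : (Scheme.Modules.pullback (𝟙 Z)).obj (Omega.conormal (i ≫ j)) ⟶ Omega.conormal i)
    (hb : OmegaSh.IsConormalMap i (i ≫ j) j (𝟙 Z) b)
    (hi : RegImm.IsRegularImmersion RegImm.Kind.h1 i) :
    a ≫ ((Scheme.Modules.pullbackId Z).inv.app (Omega.conormal (i ≫ j)) ≫ b) = 0 ∧
      (∀ w : a ≫ ((Scheme.Modules.pullbackId Z).inv.app (Omega.conormal (i ≫ j)) ≫ b) = 0, (ShortComplex.mk a ((Scheme.Modules.pullbackId Z).inv.app (Omega.conormal (i ≫ j)) ≫ b) w).ShortExact) ∧
      FlatMod.IsFinLocFree (Omega.conormal i) := by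
  haveI : QuasiCompact (i ≫ j) := inferInstance
  have w := Groth.Agent.Lib.Helper1.ConormTriple.comp_eq_zero j i a ha b hb
  obtain ⟨hepi, him⟩ := Groth.Agent.S5974.result j i a ha b hb
  haveI : Mono a := Groth.Agent.Lib.Helper1.ConormReg.mono_of_h1 j i a ha hi.2
  haveI : Epi ((Scheme.Modules.pullbackId Z).inv.app (Omega.conormal (i ≫ j)) ≫ b) := by
    haveI := hepi
    infer_instance
  refine ⟨w, fun w' => ?_, Groth.Agent.Lib.Helper1.ConormReg.isFinLocFree_conormal_of_h1 i hi.2⟩
  have hex : (ShortComplex.mk a _ w').Exact :=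
    (ShortComplex.exact_iff_image_eq_kernel _).mpr him
  exact { exact := hex }

end Groth.Agent.S8919
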