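-- Statement S8923.
import Groth.Statements.S8923
import Mathlib
import Groth.Agent.Lib.Helper1.LocFinCodim1
import Groth.Agent.Lib.Lead.C1Cap

set_option autoImplicit false
universe u
open CategoryTheory CategoryTheory.Limits AlgebraicGeometry TopologicalSpace
open SDiv

namespace Groth.Agent.S8923

/-- Let X be an integral scheme that is locally Noetherian, L an invertible O_X-module and s a nonzero
rational (regular meromorphic) section of L, viewed as a nonzero element of the stalk of L at the
generic point. Then the collection of prime divisors Z ⊆ X with ord_{Z,L}(s) ≠ 0, i.e. the closures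
of the codimension-1 points x (dim O_{X,x} = 1) along which s has nonzero order, is locally finite
in X. -/
theorem result (X : Scheme.{u}) [IsIntegral X] [IsLocallyNoetherian X] (L : X.Modules)
    (hL : PicF.IsInvertible L) (s : Cyc.secFibre L (genericPoint ↥X)) (hs : s ≠ 0) :
    LocallyFinite (fun x : {x : ↥X // ringKrullDim ↑(X.presheaf.stalk x) = 1 ∧
        Cyc.secOrdAt L (genericPoint ↥X) x ((genericPoint_spec ↥X).specializes (Set.mem_univ x)) s ≠ 0} => closure ({x.1} : Set ↥X)) := by
  intro p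
  obtain ⟨U, e, hpU, hg⟩ := Groth.Agent.Lib.Helper3.InvGen.exists_isGen hL p
  have hηU : genericPoint X ∈ U := (genericPoint_specializes p).mem_open U.2 hpU
  obtain ⟨ψ, hψ, hsψ⟩ := Groth.Agent.Lib.Lead.C1Cap.exists_coord_unit hg (genericPoint X) hηU s hs
  have hψ0 : (ψ : X.functionField) ≠ 0 := hψ.ne_zero
  obtain ⟨U₀, hU₀, f', hne, hf', hunit⟩ := exists_isUnit_germ_eq X (ψ : X.functionField) hψ0
  have hgen : genericPoint X ∈ U₀ := by
    have := (genericPoint_spec X).mem_open_set_iff U₀.2
    obtain ⟨⟨u, hu⟩⟩ := hne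
    exact this.mpr ⟨u, trivial, hu⟩
  have hf'' : X.presheaf.germ U₀ (genericPoint X) hgen f' = ψ := hf'
  -- vanishing of the order on `U ∩ U₀`
  have hzero : ∀ x : X, x ∈ U → x ∈ U₀ →
      Cyc.secOrdAt L (genericPoint X) x
        ((genericPoint_spec X).specializes (Set.mem_univ x)) s = 0 := by
    intro x hxU hxU₀
    have h : genericPoint X ⤳ x := (genericPoint_spec X).specializes (Set.mem_univ x)
    have h1 : Cyc.secOrdAt L (genericPoint X) x h s =
        Cyc.ordAt x (genericPoint X) h (X.residue (genericPoint X) ψ) := by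
      rw [hsψ]
      exact Groth.Agent.Lib.Lead.C1Cap.secOrdAt_eq hg h hxU ψ hψ
    have h2 : ψ = X.presheaf.stalkSpecializes h (X.presheaf.germ U₀ x hxU₀ f') := by
      rw [Groth.Agent.Lib.Lead.C1Cap.spec_germ_ring h U₀ hxU₀ f']
      exact hf''.symm
    rw [h1, h2]
    exact Groth.Agent.Lib.Lead.C1Cap.ordAt_spec_unit x (genericPoint X) h _
      (hunit.map (X.presheaf.germ U₀ x hxU₀).hom)
  -- the subfamily of points in `U`
  let ι := {x : ↥X // ringKrullDim ↑(X.presheaf.stalk x) = 1 ∧
        Cyc.secOrdAt L (genericPoint ↥X) x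
          ((genericPoint_spec ↥X).specializes (Set.mem_univ x)) s ≠ 0}
  have hfam : LocallyFinite (fun i : {i : ι // i.1 ∈ U} => closure ({i.1.1} : Set X)) := by
    refine Groth.Agent.Lib.Helper1.LocFinCodim1.locallyFinite_closure X U₀ hgen
      (fun i : {i : ι // i.1 ∈ U} => i.1.1) ?_ ?_ ?_
    · intro i i' h
      exact Subtype.ext (Subtype.ext h)
    · intro i
      have h1 := i.1.2.1
      rw [ringKrullDim_stalk_eq_coheight] at h1
      exact_mod_cast h1
    · intro i hi
      exact i.1.2.2 (hzero i.1.1 i.2 hi)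
  obtain ⟨t, ht, hfin⟩ := hfam p
  refine ⟨t ∩ U, Filter.inter_mem ht (U.2.mem_nhds hpU), ?_⟩
  refine (hfin.image (fun i : {i : ι // i.1 ∈ U} => i.1)).subset ?_
  rintro i ⟨z, hz, hzt, hzU⟩
  have hiz : i.1 ⤳ z := specializes_iff_mem_closure.mpr hz
  have hiU : i.1 ∈ U := hiz.mem_open U.2 hzU
  exact ⟨⟨i, hiU⟩, ⟨z, hz, hzt⟩, rfl⟩

end Groth.Agent.S8923
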