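import Groth.Statements.S8927
import Mathlib

set_option autoImplicit false
universe u
open Disc

namespace Groth.Agent.S8927

open nonZeroDivisors

/-- For a map A → B of Noetherian rings such that the localization B_q is flat over A for every
associated prime q of B, every nonzerodivisor of A maps to a nonzerodivisor of B. -/
theorem result (A B : Type u) [CommRing A] [CommRing B] [IsNoetherianRing A] [IsNoetherianRing B] [Algebra A B] (h3 : ∀ (q : Ideal B) [q.IsPrime], IsAssociatedPrime q B → Module.Flat A (Localization.AtPrime q)) : nonZeroDivisors A ≤ (nonZeroDivisors B).comap (algebraMap A B) := by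
  intro a ha
  rw [Submonoid.mem_comap, mem_nonZeroDivisors_iff_right]
  intro b hb
  by_contra hb0
  obtain ⟨P, hP, hle⟩ := exists_le_isAssociatedPrime_of_isNoetherianRing B b hb0
  have hP' := hP
  rw [isAssociatedPrime_iff] at hP'
  obtain ⟨hPprime, y, hy⟩ := hP'
  haveI := hPprime
  haveI := h3 P hP
  have haP : algebraMap A B a ∈ P := by
    apply hle
    rw [Submodule.mem_colon_singleton, Submodule.mem_bot, smul_eq_mul, mul_comm]
    exact hb
  have hay : algebraMap A B a * y = 0 := by
    rw [hy, Submodule.mem_colon_singleton, Submodule.mem_bot, smul_eq_mul] at haP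
    exact haP
  have hreg : IsSMulRegular A a := by
    rw [isSMulRegular_iff_right_eq_zero_of_smul]
    intro m hm
    rw [smul_eq_mul, mul_comm] at hm
    exact (mem_nonZeroDivisors_iff_right.mp ha) m hm
  have hreg' : IsSMulRegular (Localization.AtPrime P) (algebraMap A (Localization.AtPrime P) a) :=
    IsSMulRegular.of_flat hreg
  rw [isSMulRegular_iff_right_eq_zero_of_smul] at hreg'
  have h0 : algebraMap B (Localization.AtPrime P) y = 0 := by
    apply hreg'
    rw [smul_eq_mul, IsScalarTower.algebraMap_apply A B (Localization.AtPrime P), ← map_mul, hay,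
      map_zero]
  rw [IsLocalization.map_eq_zero_iff P.primeCompl] at h0
  obtain ⟨m, hm⟩ := h0
  have hmem : ∀ z : B, z * y = 0 → z ∈ P := by
    intro z hz
    rw [hy, Submodule.mem_colon_singleton, Submodule.mem_bot, smul_eq_mul]
    exact hz
  have : (m : B) ∈ P := hmem _ hm
  exact m.2 this

end Groth.Agent.S8927
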