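import Groth.Statements.S8928
import Mathlib

set_option autoImplicit false
universe u
open scoped TensorProduct
open Disc

namespace Groth.Agent.S8928

open TensorProduct nonZeroDivisors

attribute [local instance] Algebra.TensorProduct.rightAlgebra in
theorem flat_of_disjoint (A B : Type u) [CommRing A] [CommRing B] [Algebra A B]
    (h2 : Module.Flat (FractionRing A) (FractionRing A ⊗[A] B))
    (q : Ideal B) [q.IsPrime] (hdisj : ∀ a ∈ A⁰, algebraMap A B a ∉ q) :
    Module.Flat A (Localization.AtPrime q) := by
  haveI loc : IsLocalization (Algebra.algebraMapSubmonoid B A⁰) (FractionRing A ⊗[A] B) :=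
    IsLocalization.tensorRight _ _
  have hle : Algebra.algebraMapSubmonoid B A⁰ ≤ q.primeCompl := by
    rintro _ ⟨a, ha, rfl⟩
    exact hdisj a ha
  have hunit : ∀ y : Algebra.algebraMapSubmonoid B A⁰,
      IsUnit (algebraMap B (Localization.AtPrime q) (y : B)) := fun y =>
    IsLocalization.map_units (Localization.AtPrime q) (⟨y.1, hle y.2⟩ : q.primeCompl)
  letI algB' : Algebra (FractionRing A ⊗[A] B) (Localization.AtPrime q) :=
    (IsLocalization.lift (M := Algebra.algebraMapSubmonoid B A⁰) hunit).toAlgebra
  have halg : ∀ b : B, algebraMap (FractionRing A ⊗[A] B) (Localization.AtPrime q)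
      (algebraMap B (FractionRing A ⊗[A] B) b) = algebraMap B (Localization.AtPrime q) b :=
    fun b => IsLocalization.lift_eq hunit b
  haveI tower1 : IsScalarTower B (FractionRing A ⊗[A] B) (Localization.AtPrime q) :=
    IsScalarTower.of_algebraMap_eq (fun b => (halg b).symm)
  haveI loc2 := IsLocalization.isLocalization_of_submonoid_le (FractionRing A ⊗[A] B)
    (Localization.AtPrime q) (Algebra.algebraMapSubmonoid B A⁰) q.primeCompl hle
  haveI flat1 : Module.Flat (FractionRing A ⊗[A] B) (Localization.AtPrime q) :=
    IsLocalization.flat _ (Submonoid.map (algebraMap B (FractionRing A ⊗[A] B)) q.primeCompl)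
  haveI flat2 : Module.Flat A (FractionRing A) := IsLocalization.flat _ A⁰
  haveI flat3 : Module.Flat A (FractionRing A ⊗[A] B) :=
    Module.Flat.trans A (FractionRing A) (FractionRing A ⊗[A] B)
  haveI tower2 : IsScalarTower A (FractionRing A ⊗[A] B) (Localization.AtPrime q) := by
    refine IsScalarTower.of_algebraMap_eq (R := A) (S := FractionRing A ⊗[A] B)
      (A := Localization.AtPrime q) (fun a => ?_)
    rw [IsScalarTower.algebraMap_apply A B (Localization.AtPrime q), ← halg]
    congr 1
    symm
    show algebraMap A (FractionRing A ⊗[A] B) a = (1 : FractionRing A) ⊗ₜ[A] (algebraMap A B a)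
    rw [Algebra.TensorProduct.algebraMap_apply, Algebra.algebraMap_eq_smul_one (A := FractionRing A),
      smul_tmul, ← Algebra.algebraMap_eq_smul_one]
  exact Module.Flat.trans A (FractionRing A ⊗[A] B) (Localization.AtPrime q)

/-- Let A → B be a map of Noetherian rings such that nonzerodivisors of A map to nonzerodivisors of B
and Q(A) ⊗_A B is flat over the total ring of fractions Q(A). Then B_q is flat over A for every
associated prime q of B and for every prime q of B lying over an associated prime of A. -/
theorem result (A B : Type u) [CommRing A] [CommRing B] [IsNoetherianRing A] [IsNoetherianRing B] [Algebra A B] (h1 : nonZeroDivisors A ≤ (nonZeroDivisors B).comap (algebraMap A B)) (h2 : Module.Flat (FractionRing A) (FractionRing A ⊗[A] B)) : (∀ (q : Ideal B) [q.IsPrime], IsAssociatedPrime q B → Module.Flat A (Localization.AtPrime q)) ∧ (∀ (q : Ideal B) [q.IsPrime], IsAssociatedPrime (q.comap (algebraMap A B)) A → Module.Flat A (Localization.AtPrime q)) := by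
  refine ⟨fun q _ hq => flat_of_disjoint A B h2 q ?_, fun q _ hq => flat_of_disjoint A B h2 q ?_⟩
  · intro a ha haq
    rw [isAssociatedPrime_iff] at hq
    obtain ⟨hqp, y, hy⟩ := hq
    have hy0 : y ≠ 0 := by
      rintro rfl
      apply hqp.ne_top
      rw [hy]
      ext z
      simp [Submodule.mem_colon_singleton]
    have h0 : algebraMap A B a * y = 0 := by
      have := haq
      rw [hy, Submodule.mem_colon_singleton, Submodule.mem_bot, smul_eq_mul] at this
      exact this
    have hnzd := h1 ha
    rw [Submonoid.mem_comap, mem_nonZeroDivisors_iff_right] at hnzd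
    exact hy0 (hnzd y (by rw [mul_comm]; exact h0))
  · intro a ha haq
    rw [isAssociatedPrime_iff] at hq
    obtain ⟨hqp, x, hx⟩ := hq
    have hx0 : x ≠ 0 := by
      rintro rfl
      apply hqp.ne_top
      rw [hx]
      ext z
      simp [Submodule.mem_colon_singleton]
    have hap : a ∈ Ideal.comap (algebraMap A B) q := haq
    have h0 : a * x = 0 := by
      rw [hx, Submodule.mem_colon_singleton, Submodule.mem_bot, smul_eq_mul] at hap
      exact hap
    exact hx0 ((mem_nonZeroDivisors_iff_right.mp ha) x (by rw [mul_comm]; exact h0))

end Groth.Agent.S8928
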