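import Groth.Statements.S8929
import Mathlib

set_option autoImplicit false
universe u
open scoped TensorProduct
open Disc

namespace Groth.Agent.S8929

lemma flat_atPrime_of_disjoint (A B : Type u) [CommRing A] [CommRing B] [IsNoetherianRing A]
    [Algebra A B] [Algebra.HasGoingUp A B]
    (h4 : ∀ (q : Ideal B) [q.IsPrime], IsAssociatedPrime (q.comap (algebraMap A B)) A →
      Module.Flat A (Localization.AtPrime q))
    (q : Ideal B) [q.IsPrime]
    (hq : Disjoint ((q.comap (algebraMap A B) : Ideal A) : Set A) (nonZeroDivisors A : Set A)) :
    Module.Flat A (Localization.AtPrime q) := by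
  obtain ⟨P, hP, hle⟩ : ∃ P ∈ associatedPrimes A A, q.comap (algebraMap A B) ≤ P :=
    ((q.comap (algebraMap A B)).subset_union_prime_finite (associatedPrimes.finite ..)
      (f := id) 0 0 fun _ h _ _ ↦ h.isPrime).1 <|
    biUnion_associatedPrimes_eq_compl_nonZeroDivisors A ▸ hq.subset_compl_right
  have hP' : IsAssociatedPrime P A := hP
  haveI : P.IsPrime := hP'.isPrime
  rcases eq_or_lt_of_le hle with heq | hlt
  · exact h4 q (heq ▸ hP')
  · obtain ⟨Q, hqQ, hQprime, hQover⟩ :=
      Algebra.HasGoingUp.exists_ideal_ge_liesOver_of_lt (q := P) q hlt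
    haveI := hQprime
    have hQflat : Module.Flat A (Localization.AtPrime Q) :=
      h4 Q (by rw [← Ideal.under_def, ← hQover.over]; exact hP')
    have hMN : Q.primeCompl ≤ q.primeCompl := fun x hx hxq => hx (hqQ hxq)
    letI := IsLocalization.localizationAlgebraOfSubmonoidLe (Localization.AtPrime Q)
      (Localization.AtPrime q) Q.primeCompl q.primeCompl hMN
    haveI : IsScalarTower B (Localization.AtPrime Q) (Localization.AtPrime q) :=
      IsLocalization.localization_isScalarTower_of_submonoid_le _ _ _ _ hMN
    haveI : IsLocalization (q.primeCompl.map (algebraMap B (Localization.AtPrime Q)))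
        (Localization.AtPrime q) :=
      IsLocalization.isLocalization_of_submonoid_le _ _ Q.primeCompl q.primeCompl hMN
    haveI : Module.Flat (Localization.AtPrime Q) (Localization.AtPrime q) :=
      IsLocalization.flat _ (q.primeCompl.map (algebraMap B (Localization.AtPrime Q)))
    haveI : IsScalarTower A (Localization.AtPrime Q) (Localization.AtPrime q) :=
      ⟨fun a x y => by rw [← algebraMap_smul B a x, smul_assoc, algebraMap_smul]⟩
    exact Module.Flat.trans A (Localization.AtPrime Q) (Localization.AtPrime q)

lemma flat_of_isLocalization_of_forall_prime (A B T : Type u) [CommRing A] [CommRing B]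
    [CommRing T] [Algebra A B] [Algebra A T] [Algebra B T] [IsScalarTower A B T]
    (M : Submonoid B) [IsLocalization M T]
    (H : ∀ (q : Ideal B) [q.IsPrime], Disjoint (q : Set B) (M : Set B) →
      Module.Flat A (Localization.AtPrime q)) :
    Module.Flat A T := by
  apply Module.flat_of_isLocalized_maximal T T (fun P => Localization.AtPrime P)
    (fun P => Algebra.linearMap T _)
  intro P hPmax
  haveI : P.IsPrime := hPmax.isPrime
  haveI : (P.comap (algebraMap B T)).IsPrime := Ideal.comap_isPrime _ _
  haveI hloc : IsLocalization.AtPrime (Localization.AtPrime P) (P.comap (algebraMap B T)) :=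
    IsLocalization.isLocalization_isLocalization_atPrime_isLocalization M
      (Localization.AtPrime P) P
  have hqdisj : Disjoint ((P.comap (algebraMap B T) : Ideal B) : Set B) (M : Set B) := by
    rw [Set.disjoint_left]
    intro b hb hbM
    have hunit : IsUnit (algebraMap B T b) := IsLocalization.map_units T ⟨b, hbM⟩
    exact hPmax.ne_top (Ideal.eq_top_of_isUnit_mem _ hb hunit)
  haveI hflat : Module.Flat A (Localization.AtPrime (P.comap (algebraMap B T))) :=
    H _ hqdisj
  let e : Localization.AtPrime (P.comap (algebraMap B T)) ≃ₐ[B] Localization.AtPrime P :=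
    IsLocalization.algEquiv (P.comap (algebraMap B T)).primeCompl _ _
  exact Module.Flat.of_linearEquiv (e.toLinearEquiv.restrictScalars A).symm

attribute [local instance] Algebra.TensorProduct.rightAlgebra in
lemma aux (A B : Type u) [CommRing A] [CommRing B] [IsNoetherianRing A]
    [Algebra A B] [Algebra.HasGoingUp A B]
    (h4 : ∀ (q : Ideal B) [q.IsPrime], IsAssociatedPrime (q.comap (algebraMap A B)) A →
      Module.Flat A (Localization.AtPrime q)) :
    Module.Flat (FractionRing A) (FractionRing A ⊗[A] B) := by
  rw [Module.flat_iff_of_isLocalization (R := A) (FractionRing A) (nonZeroDivisors A)]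
  haveI : IsLocalization (Algebra.algebraMapSubmonoid B (nonZeroDivisors A))
      (FractionRing A ⊗[A] B) := IsLocalization.tensorRight _ _
  apply flat_of_isLocalization_of_forall_prime A B (FractionRing A ⊗[A] B)
    (Algebra.algebraMapSubmonoid B (nonZeroDivisors A))
  intro q _ hq
  apply flat_atPrime_of_disjoint A B h4 q
  rw [Set.disjoint_left] at hq ⊢
  intro a ha hnz
  exact hq ha ⟨a, hnz, rfl⟩

/-- Let A → B be a map of Noetherian rings with the going-up property. If B_q is flat over A for every
associated prime q of B and for every prime q of B lying over an associated prime of A, then Q(A)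
⊗_A B is flat over the total ring of fractions Q(A). -/
theorem result (A B : Type u) [CommRing A] [CommRing B] [IsNoetherianRing A] [IsNoetherianRing B] [Algebra A B] [Algebra.HasGoingUp A B] (h3 : ∀ (q : Ideal B) [q.IsPrime], IsAssociatedPrime q B → Module.Flat A (Localization.AtPrime q)) (h4 : ∀ (q : Ideal B) [q.IsPrime], IsAssociatedPrime (q.comap (algebraMap A B)) A → Module.Flat A (Localization.AtPrime q)) : Module.Flat (FractionRing A) (FractionRing A ⊗[A] B) := by
  exact aux A B h4

end Groth.Agent.S8929
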