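import Groth.Statements.S8931
import Mathlib
import Groth.Agent.Lib.Helper18.FittLib6

set_option autoImplicit false
universe u
open Disc

namespace Groth.Agent.S8931

open Groth.Agent.Lib.Helper18 TensorProduct KaehlerDifferential

/-- For a ring A, n ≥ 1 and f_1, …, f_n in A[x_1, …, x_n], with B = A[x_1, …, x_n]/(f_1, …, f_n), the
zeroth Fitting ideal of Ω_{B/A} (the Kähler different of B over A) is generated by the image in B of
the Jacobian determinant det(∂f_i/∂x_j). -/
theorem result (A : Type u) [CommRing A] (n : ℕ) (hn : 1 ≤ n) (f : Fin n → MvPolynomial (Fin n) A) : Fitt.ideal (MvPolynomial (Fin n) A ⧸ Ideal.span (Set.range f)) (KaehlerDifferential A (MvPolynomial (Fin n) A ⧸ Ideal.span (Set.range f))) 0 = Ideal.span {Ideal.Quotient.mk (Ideal.span (Set.range f)) (Matrix.det (Matrix.of fun i j : Fin n => MvPolynomial.pderiv j (f i)))} := by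
  classical
  set I : Ideal (MvPolynomial (Fin n) A) := Ideal.span (Set.range f) with hI
  have hsurj : Function.Surjective (algebraMap (MvPolynomial (Fin n) A) (MvPolynomial (Fin n) A ⧸ I)) :=
    Ideal.Quotient.mk_surjective
  let β : Module.Basis (Fin n) (MvPolynomial (Fin n) A ⧸ I)
      ((MvPolynomial (Fin n) A ⧸ I) ⊗[MvPolynomial (Fin n) A] Ω[MvPolynomial (Fin n) A⁄A]) :=
    (KaehlerDifferential.mvPolynomialBasis A (Fin n)).baseChange (MvPolynomial (Fin n) A ⧸ I)
  let mbc := KaehlerDifferential.mapBaseChange A (MvPolynomial (Fin n) A) (MvPolynomial (Fin n) A ⧸ I)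
  let y : Fin n → Ω[(MvPolynomial (Fin n) A ⧸ I)⁄A] := fun i =>
    KaehlerDifferential.D A (MvPolynomial (Fin n) A ⧸ I) (Ideal.Quotient.mk I (MvPolynomial.X i))
  have hmbcβ : ∀ i, mbc (β i) = y i := by
    intro i
    simp only [β, mbc, Module.Basis.baseChange_apply, KaehlerDifferential.mvPolynomialBasis_apply,
      KaehlerDifferential.mapBaseChange_tmul, KaehlerDifferential.map_D]
    show (1 : MvPolynomial (Fin n) A ⧸ I) • y i = y i
    exact one_smul (MvPolynomial (Fin n) A ⧸ I) (y i)
  have hlc : ∀ z : Fin n → MvPolynomial (Fin n) A ⧸ I,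
      Fintype.linearCombination (MvPolynomial (Fin n) A ⧸ I) y z = mbc (β.equivFun.symm z) := by
    intro z
    rw [Fintype.linearCombination_apply, Module.Basis.equivFun_symm_apply, map_sum]
    simp only [map_smul, hmbcβ]
  have hx : Submodule.span (MvPolynomial (Fin n) A ⧸ I) (Set.range y) = ⊤ := by
    rw [← Fintype.range_linearCombination, LinearMap.range_eq_top]
    intro ω
    obtain ⟨t, rfl⟩ := KaehlerDifferential.mapBaseChange_surjective A (MvPolynomial (Fin n) A)
      (MvPolynomial (Fin n) A ⧸ I) hsurj ω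
    exact ⟨β.equivFun t, by rw [hlc, LinearEquiv.symm_apply_apply]⟩
  set J : Matrix (Fin n) (Fin n) (MvPolynomial (Fin n) A ⧸ I) :=
    Matrix.of fun j i => Ideal.Quotient.mk I (MvPolynomial.pderiv i (f j)) with hJ
  have hcoord : ∀ g : MvPolynomial (Fin n) A,
      β.equivFun ((1 : MvPolynomial (Fin n) A ⧸ I) ⊗ₜ[MvPolynomial (Fin n) A]
        KaehlerDifferential.D A (MvPolynomial (Fin n) A) g)
        = fun i => Ideal.Quotient.mk I (MvPolynomial.pderiv i g) := by
    intro g
    funext i
    rw [Module.Basis.equivFun_apply]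
    simp only [β, Module.Basis.baseChange_repr_tmul,
      KaehlerDifferential.mvPolynomialBasis_repr_apply]
    rw [Algebra.smul_def, mul_one]; rfl
  have hmk0 : ∀ g ∈ I, Ideal.Quotient.mk I g = 0 :=
    fun g hg => Ideal.Quotient.eq_zero_iff_mem.2 hg
  have key : ∀ g ∈ I, (fun i => Ideal.Quotient.mk I (MvPolynomial.pderiv i g)) ∈
      Submodule.span (MvPolynomial (Fin n) A ⧸ I) (Set.range fun j => J j) := by
    intro g hg
    induction hg using Submodule.span_induction with
    | mem g hg => obtain ⟨j, rfl⟩ := hg; exact Submodule.subset_span ⟨j, rfl⟩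
    | zero =>
      have : (fun i => Ideal.Quotient.mk I (MvPolynomial.pderiv i (0 : MvPolynomial (Fin n) A)))
          = 0 := by funext i; simp
      rw [this]; exact zero_mem _
    | add a b _ _ ha hb =>
      have : (fun i => Ideal.Quotient.mk I (MvPolynomial.pderiv i (a + b)))
          = (fun i => Ideal.Quotient.mk I (MvPolynomial.pderiv i a))
            + (fun i => Ideal.Quotient.mk I (MvPolynomial.pderiv i b)) := by
        funext i; simp
      rw [this]; exact add_mem ha hb
    | smul p g hg ih =>
      have : (fun i => Ideal.Quotient.mk I (MvPolynomial.pderiv i (p • g)))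
          = Ideal.Quotient.mk I p • (fun i => Ideal.Quotient.mk I (MvPolynomial.pderiv i g)) := by
        funext i
        rw [smul_eq_mul, Derivation.leibniz, map_add, Pi.smul_apply]
        simp only [smul_eq_mul, map_mul]
        rw [hmk0 g hg, zero_mul, add_zero]
      rw [this]; exact Submodule.smul_mem _ _ ih
  have hA : Submodule.span (MvPolynomial (Fin n) A ⧸ I) (Set.range fun j => J j)
      = LinearMap.ker (Fintype.linearCombination (MvPolynomial (Fin n) A ⧸ I) y) := by
    apply le_antisymm
    · refine Submodule.span_le.2 ?_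
      rintro _ ⟨j, rfl⟩
      show J j ∈ LinearMap.ker _
      rw [LinearMap.mem_ker, hlc]
      have h1 : J j = β.equivFun ((1 : MvPolynomial (Fin n) A ⧸ I) ⊗ₜ[MvPolynomial (Fin n) A]
          KaehlerDifferential.D A (MvPolynomial (Fin n) A) (f j)) := by
        rw [hcoord]; rfl
      rw [h1, LinearEquiv.symm_apply_apply]
      simp only [mbc, KaehlerDifferential.mapBaseChange_tmul, one_smul,
        KaehlerDifferential.map_D]
      have h2 : algebraMap (MvPolynomial (Fin n) A) (MvPolynomial (Fin n) A ⧸ I) (f j) = 0 :=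
        hmk0 _ (Ideal.subset_span ⟨j, rfl⟩)
      rw [h2, map_zero]
      exact smul_zero _
    · intro z hz
      rw [LinearMap.mem_ker, hlc] at hz
      have hex := KaehlerDifferential.exact_kerCotangentToTensor_mapBaseChange A
        (MvPolynomial (Fin n) A) (MvPolynomial (Fin n) A ⧸ I) hsurj
      obtain ⟨c, hc⟩ := (hex (β.equivFun.symm z)).1 hz
      obtain ⟨g, rfl⟩ := Ideal.toCotangent_surjective _ c
      rw [KaehlerDifferential.kerCotangentToTensor_toCotangent] at hc
      have hz2 : z = fun i => Ideal.Quotient.mk I (MvPolynomial.pderiv i (g : MvPolynomial (Fin n) A)) := by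
        rw [← hcoord, hc, LinearEquiv.apply_symm_apply]
      have hgI : (g : MvPolynomial (Fin n) A) ∈ I := by
        have := g.2
        exact Ideal.Quotient.eq_zero_iff_mem.1 (RingHom.mem_ker.1 this)
      rw [hz2]
      exact key _ hgI
  rw [FittLib.fitt_eq_matMinorIdeal y hx J hA 0, Nat.sub_zero, FittLib.matMinorIdeal_square]
  congr 2
  rw [RingHom.map_det]
  rfl

end Groth.Agent.S8931
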