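import Groth.Statements.S8932
import Mathlib
import Groth.Agent.Lib.Helper18.FlatGorG

set_option autoImplicit false
universe u
open CategoryTheory
open scoped TensorProduct
attribute [local instance] HasDerivedCategory.standard
open Dual

namespace Groth.Agent.S8932

/-- For a field extension K/k, a finite type k-algebra A and a dualizing complex ω for A, the derived
base change of ω along A → K ⊗_k A is a dualizing complex for K ⊗_k A (the derived base change
functor being assumed to exist). -/
theorem result (k K : Type u) [Field k] [Field K] [Algebra k K] (A : Type u) [CommRing A] [Algebra k A] [Algebra.FiniteType k A] [DRing.HasLBaseChange (Algebra.TensorProduct.includeRight : A →ₐ[k] K ⊗[k] A).toRingHom] (ω : Dual.D A) (hω : Dual.IsDualizing A ω) : Dual.IsDualizing (K ⊗[k] A) ((DRing.LBaseChange (Algebra.TensorProduct.includeRight : A →ₐ[k] K ⊗[k] A).toRingHom).obj ω) := by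
  haveI := hω.isNoetherianRing
  letI : Algebra A (TensorProduct k K A) := Groth.Agent.Lib.Helper18.DR.FlatGor.algR k K A
  haveI : Module.Flat A (TensorProduct k K A) := Groth.Agent.Lib.Helper18.DR.FlatGor.flat_algR k K A
  haveI : DRing.HasLBaseChange (algebraMap A (TensorProduct k K A)) :=
    inferInstanceAs (DRing.HasLBaseChange
      (Algebra.TensorProduct.includeRight : A →ₐ[k] TensorProduct k K A).toRingHom)
  obtain ⟨e⟩ := Groth.Agent.Lib.Helper18.DR.HomBC.nonempty_LBaseChange_iso_extD (A := A)
    (B := TensorProduct k K A) ω
  exact Groth.Agent.Lib.Helper18.DR.HomBC.isDualizing_of_iso e.symm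
    (Groth.Agent.Lib.Helper18.DR.FlatGor.isDualizing_extD_field_extension k K A ω hω)

end Groth.Agent.S8932
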