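import Groth.Statements.S8933
import Mathlib
import Groth.Agent.Lib.Helper21.RGa
import Groth.Agent.Lib.Helper18.DRQis

set_option autoImplicit false
universe u
open CategoryTheory CategoryTheory.Limits
attribute [local instance] HasDerivedCategory.standard
open LocCoh

namespace Groth.Agent.S8933

/-- For a ring A, a finitely generated ideal I and a complex K of A-modules such that multiplication by
some f ∈ I is bijective on every term of K, the object RΓ_I(K) of D(A) is zero; here RΓ_I is the
right derived functor of the I-power torsion functor, assumed to exist. -/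
theorem result (A : Type u) [CommRing A] (I : Ideal A) (hI : I.FG) [DRing.HasRgammaI I] (K : CochainComplex (ModuleCat.{u} A) ℤ) (f : A) (hf : f ∈ I) (hK : ∀ n : ℤ, Function.Bijective (fun x : K.X n => f • x)) : IsZero ((DRing.RgammaI I).obj (DerivedCategory.Q.obj K)) := by
  obtain ⟨E, j, hE, hj, -⟩ := Groth.Agent.Lib.Helper21.RGa.hasKInjInj A K
  haveI := hj
  haveI : IsIso (DerivedCategory.Q.map j) := inferInstance
  haveI := Groth.Agent.Lib.Helper21.RGa.isIso_uu I E hE
  suffices h : IsZero (DerivedCategory.Q.obj (Groth.Agent.Lib.Helper21.RGa.gI I E)) by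
    exact IsZero.of_iso h ((DRing.RgammaI I).mapIso (asIso (DerivedCategory.Q.map j)) ≪≫
      (asIso (Groth.Agent.Lib.Helper21.RGa.uu I E)).symm)
  apply Groth.Agent.Lib.Helper21.RGa.isZero_Q_obj_of_acyclic
  let φK : K ⟶ K := f • 𝟙 K
  let φE : E ⟶ E := f • 𝟙 E
  have hcomm : j ≫ φE = φK ≫ j := by simp [φK, φE]
  haveI : IsIso φK := by
    haveI : ∀ n, IsIso (φK.f n) := fun n =>
      (ConcreteCategory.isIso_iff_bijective _).2 (hK n)
    exact HomologicalComplex.Hom.isIso_of_components _
  haveI : IsIso (DerivedCategory.Q.map φE) := by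
    have h1 : DerivedCategory.Q.map φE =
        inv (DerivedCategory.Q.map j) ≫ DerivedCategory.Q.map φK ≫ DerivedCategory.Q.map j := by
      rw [IsIso.eq_inv_comp, ← Functor.map_comp, ← Functor.map_comp, hcomm]
    rw [h1]
    infer_instance
  let ψ := ((DRing.gammaI I).mapHomologicalComplex (ComplexShape.up ℤ)).map φE
  haveI : IsIso (DerivedCategory.Q.map ψ) := by
    have h2 := Groth.Agent.Lib.Helper21.RGa.uu_naturality I φE
    have h3 : DerivedCategory.Q.map ψ = Groth.Agent.Lib.Helper21.RGa.uu I E ≫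
        (DRing.RgammaI I).map (DerivedCategory.Q.map φE) ≫
          inv (Groth.Agent.Lib.Helper21.RGa.uu I E) := by
      rw [← Category.assoc, ← h2, Category.assoc, IsIso.hom_inv_id, Category.comp_id]
    rw [h3]
    infer_instance
  have hψ : QuasiIso ψ := (DerivedCategory.isIso_Q_map_iff_quasiIso _ ψ).1 inferInstance
  intro n
  rw [HomologicalComplex.exactAt_iff, ShortComplex.moduleCat_exact_iff]
  have hq := (quasiIsoAt_iff ψ n).1 (hψ.quasiIsoAt n)
  obtain ⟨hinj, -⟩ := Groth.Agent.Lib.Helper18.DR.shortComplex_elementwise_of_quasiIso _ hq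
  have hτ : ∀ x : ((Groth.Agent.Lib.Helper21.RGa.gI I E).sc n).X₂,
      ((HomologicalComplex.shortComplexFunctor _ _ n).map ψ).τ₂ x = f • x := by
    intro x
    rfl
  have key : ∀ (k : ℕ) (z : ((Groth.Agent.Lib.Helper21.RGa.gI I E).sc n).X₂),
      ((Groth.Agent.Lib.Helper21.RGa.gI I E).sc n).g z = 0 →
      (∃ w, ((Groth.Agent.Lib.Helper21.RGa.gI I E).sc n).f w = f ^ k • z) →
      ∃ w, ((Groth.Agent.Lib.Helper21.RGa.gI I E).sc n).f w = z := by
    intro k
    induction k with
    | zero =>
      rintro z - ⟨w, hw⟩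
      exact ⟨w, by rw [hw, pow_zero, one_smul]⟩
    | succ k ih =>
      rintro z hz ⟨w, hw⟩
      apply ih z hz
      apply hinj (f ^ k • z) (by rw [map_smul, hz, smul_zero])
      refine ⟨w, ?_⟩
      rw [hw, hτ, pow_succ', mul_smul]
  intro z hz
  obtain ⟨k, hk⟩ := (show ↥(DRing.torsionSub I (E.X n)) from z).2
  apply key k z hz
  refine ⟨0, ?_⟩
  rw [map_zero]
  symm
  exact Subtype.ext (hk (f ^ k) (Ideal.pow_mem_pow hf k))

end Groth.Agent.S8933
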