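import Groth.Statements.S8935
import Mathlib
import Groth.Agent.Lib.Helper4.CIZero
import Groth.Agent.Lib.Helper12.DimFT

set_option autoImplicit false
universe u
open Disc

namespace Groth.Agent.S8935

/-- Let k be a field and B = k[x_1, …, x_n]/(f_1, …, f_n), a global complete intersection with as many
equations as variables, of Krull dimension 0. Then ω_{B/k} = Hom_k(B, k), with B acting through the
argument, is an invertible B-module; since B is Artinian this means it is free of rank one, which is
the form stated. -/
theorem result (k : Type u) [Field k] (n : ℕ) (f : Fin n → MvPolynomial (Fin n) k) (h0 : ringKrullDim (MvPolynomial (Fin n) k ⧸ Ideal.span (Set.range f)) = 0) : Nonempty (Disc.Omega k (MvPolynomial (Fin n) k ⧸ Ideal.span (Set.range f)) ≃ₗ[MvPolynomial (Fin n) k ⧸ Ideal.span (Set.range f)] (MvPolynomial (Fin n) k ⧸ Ideal.span (Set.range f))) := by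
  classical
  haveI hnt : Nontrivial (MvPolynomial (Fin n) k ⧸ Ideal.span (Set.range f)) := by
    by_contra hcon
    rw [not_nontrivial_iff_subsingleton] at hcon
    rw [ringKrullDim_eq_bot_of_subsingleton] at h0
    exact absurd h0 (by simp)
  haveI hK : Ring.KrullDimLE 0 (MvPolynomial (Fin n) k ⧸ Ideal.span (Set.range f)) :=
    ringKrullDimZero_iff_ringKrullDim_eq_zero.mpr h0
  haveI : Module.Finite k (MvPolynomial (Fin n) k ⧸ Ideal.span (Set.range f)) :=
    (Module.finite_iff_krullDimLE_zero k _).mpr hK
  have hht : (n : ℕ∞) ≤ (Ideal.span (Set.range f)).height := by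
    rw [Ideal.height_eq_inf_minimalPrimes]
    refine le_iInf₂ fun J hJ => ?_
    haveI hJp : J.IsPrime := hJ.1.1
    have hIJ : Ideal.span (Set.range f) ≤ J := hJ.1.2
    haveI hJm : J.IsMaximal := by
      haveI h1 : (J.map (Ideal.Quotient.mk (Ideal.span (Set.range f)))).IsPrime :=
        Ideal.map_isPrime_of_surjective Ideal.Quotient.mk_surjective
          (by rw [Ideal.mk_ker]; exact hIJ)
      have h2 : (J.map (Ideal.Quotient.mk (Ideal.span (Set.range f)))).IsMaximal :=
        Ideal.isMaximal_of_isPrime _
      have h3 : J = (J.map (Ideal.Quotient.mk (Ideal.span (Set.range f)))).comap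
          (Ideal.Quotient.mk (Ideal.span (Set.range f))) := by
        rw [Ideal.comap_map_of_surjective _ Ideal.Quotient.mk_surjective,
          ← RingHom.ker_eq_comap_bot, Ideal.mk_ker, sup_eq_left.mpr hIJ]
      rw [h3]
      exact Ideal.comap_isMaximal_of_surjective _ Ideal.Quotient.mk_surjective
    have hd : ringKrullDim (MvPolynomial (Fin n) k) = n := by
      rw [MvPolynomial.ringKrullDim_of_isNoetherianRing, ringKrullDim_eq_zero_of_field, zero_add]
      simp
    exact (Groth.Agent.Lib.Helper12.DimFT.height_eq_of_isMaximal k _ n hd J).ge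
  have hG := Groth.Agent.Lib.Helper4.CIZero.gorRing_quotient_of_height
    (MvPolynomial (Fin n) k) n f hht
  obtain ⟨e, he⟩ := Groth.Agent.Lib.Helper4.Frob.exists_nondeg k _ hG
  obtain ⟨ε⟩ := Groth.Agent.Lib.Helper4.Frob.equiv_of_nondeg k _ e he
  exact ⟨ε.symm⟩

end Groth.Agent.S8935
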