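import Groth.Statements.S8936
import Mathlib

set_option autoImplicit false
universe u v
open InjHull

namespace Groth.Agent.S8936

/-- For a directed system (E_i) of R-modules over a nonempty directed preorder and a compatible family
of essential injections M → E_i, the induced map from M to the direct limit of the E_i is an
essential injection. -/
theorem result (R : Type u) [CommRing R] (ι : Type v) [Preorder ι] [IsDirectedOrder ι] [DecidableEq ι] (i₀ : ι) (E : ι → Type v) [∀ i, AddCommGroup (E i)] [∀ i, Module R (E i)] (f : ∀ i j, i ≤ j → E i →ₗ[R] E j) [DirectedSystem E fun i j h => f i j h] (M : Type v) [AddCommGroup M] [Module R M] (g : ∀ i, M →ₗ[R] E i) (hg : ∀ i j (h : i ≤ j), f i j h ∘ₗ g i = g j) (he : ∀ i, InjHull.IsEssentialInj (g i)) : InjHull.IsEssentialInj (Module.DirectLimit.of R ι E f i₀ ∘ₗ g i₀) := by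
  classical
  haveI : Nonempty ι := ⟨i₀⟩
  have hgm : ∀ i j (h : i ≤ j) (m : M), f i j h (g i m) = g j m := fun i j h m => by
    rw [← hg i j h]; rfl
  have hof : ∀ i (m : M), Module.DirectLimit.of R ι E f i (g i m)
      = Module.DirectLimit.of R ι E f i₀ (g i₀ m) := by
    intro i m
    obtain ⟨k, hik, h0k⟩ := exists_ge_ge i i₀
    rw [← Module.DirectLimit.of_f (hij := hik), ← Module.DirectLimit.of_f (hij := h0k) (i := i₀),
      hgm, hgm]
  have hinj : Function.Injective (Module.DirectLimit.of R ι E f i₀ ∘ₗ g i₀) := by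
    rw [← LinearMap.ker_eq_bot, LinearMap.ker_eq_bot']
    intro m hm
    obtain ⟨j, hij, hj⟩ := Module.DirectLimit.of.zero_exact (show
      Module.DirectLimit.of R ι E f i₀ (g i₀ m) = 0 from hm)
    rw [hgm] at hj
    exact (he j).injective (hj.trans (map_zero _).symm)
  refine ⟨hinj, ?_⟩
  intro N hN
  obtain ⟨x, hxN, hx0⟩ := Submodule.exists_mem_ne_zero_of_ne_bot hN
  obtain ⟨i, y, rfl⟩ := Module.DirectLimit.exists_of x
  have hN' : N.comap (Module.DirectLimit.of R ι E f i) ≠ ⊥ := by
    intro hbot
    have : y ∈ N.comap (Module.DirectLimit.of R ι E f i) := hxN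
    rw [hbot, Submodule.mem_bot] at this
    exact hx0 (by rw [this, map_zero])
  obtain ⟨z, hz, hz0⟩ := Submodule.exists_mem_ne_zero_of_ne_bot ((he i).essential _ hN')
  obtain ⟨hzN, m, rfl⟩ := hz
  have hm0 : m ≠ 0 := by
    rintro rfl
    exact hz0 (map_zero _)
  intro hbot
  have hmem : Module.DirectLimit.of R ι E f i₀ (g i₀ m) ∈
      N ⊓ LinearMap.range (Module.DirectLimit.of R ι E f i₀ ∘ₗ g i₀) := by
    refine ⟨?_, m, rfl⟩
    rw [← hof i m]
    exact hzN
  rw [hbot, Submodule.mem_bot] at hmem
  exact hm0 (hinj (hmem.trans (map_zero _).symm))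

end Groth.Agent.S8936
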