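import Groth.Statements.S8939
import Mathlib
import Groth.Agent.S11623
import Groth.Agent.Lib.Helper20.CechMap
import Groth.Agent.Lib.Helper4.LCBridge

set_option autoImplicit false
universe u
open LocCoh

namespace Groth.Agent.S8939


namespace H8939

open CategoryTheory CochainComplex HomologicalComplex HomComplex
open Groth.Agent.Lib.Helper4.LCBridge Groth.Agent.Lib.Helper20.CechMap

variable {A : Type u} [CommRing A] (θ : Derivation ℤ A A)

/-- a "connection along θ" on a module -/
structure MConn (X : Type u) [AddCommGroup X] [Module A X] where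
  nab : X →+ X
  leib : ∀ (a : A) (x : X), nab (a • x) = θ a • x + a • nab x

noncomputable def selfConn : MConn θ A where
  nab := AddMonoidHom.mk' (fun x => θ x) (fun x y => map_add θ x y)
  leib a x := by
    show θ (a • x) = θ a • x + a • θ x
    rw [smul_eq_mul, Derivation.leibniz, smul_eq_mul, smul_eq_mul, smul_eq_mul]
    ring

noncomputable def MConn.transport {X Y : Type u} [AddCommGroup X] [Module A X] [AddCommGroup Y]
    [Module A Y] (c : MConn θ X) (e : X ≃ₗ[A] Y) : MConn θ Y where
  nab := (e.toLinearMap.toAddMonoidHom.comp c.nab).comp e.symm.toLinearMap.toAddMonoidHom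
  leib a y := by
    show e (c.nab (e.symm (a • y))) = θ a • y + a • e (c.nab (e.symm y))
    rw [map_smul, c.leib, map_add, map_smul, map_smul, e.apply_symm_apply]

noncomputable def MConn.ofSubsingleton (X : Type u) [AddCommGroup X] [Module A X] [Subsingleton X] :
    MConn θ X where
  nab := 0
  leib _ _ := Subsingleton.elim _ _

/-- the twisted square-zero extension module -/
def Tw (_θ : Derivation ℤ A A) (X : Type u) : Type u := X × X

namespace Tw

variable {θ} {X : Type u} [AddCommGroup X] [Module A X]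

instance : AddCommGroup (Tw θ X) := inferInstanceAs (AddCommGroup (X × X))

def fst (p : Tw θ X) : X := Prod.fst (α := X) (β := X) p
def snd (p : Tw θ X) : X := Prod.snd (α := X) (β := X) p
def mk (x y : X) : Tw θ X := ((x, y) : X × X)

@[simp] lemma fst_mk (x y : X) : (mk x y : Tw θ X).fst = x := rfl
@[simp] lemma snd_mk (x y : X) : (mk x y : Tw θ X).snd = y := rfl
lemma ext {p q : Tw θ X} (h1 : p.fst = q.fst) (h2 : p.snd = q.snd) : p = q := Prod.ext h1 h2
@[simp] lemma fst_add (p q : Tw θ X) : (p + q).fst = p.fst + q.fst := rfl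
@[simp] lemma snd_add (p q : Tw θ X) : (p + q).snd = p.snd + q.snd := rfl
@[simp] lemma fst_zero : (0 : Tw θ X).fst = 0 := rfl
@[simp] lemma snd_zero : (0 : Tw θ X).snd = 0 := rfl

instance : SMul A (Tw θ X) := ⟨fun a p => mk (a • p.fst) (a • p.snd + θ a • p.fst)⟩

@[simp] lemma fst_smul (a : A) (p : Tw θ X) : (a • p).fst = a • p.fst := rfl
@[simp] lemma snd_smul (a : A) (p : Tw θ X) : (a • p).snd = a • p.snd + θ a • p.fst := rfl

instance : Module A (Tw θ X) where
  one_smul p := by
    refine Tw.ext ?_ ?_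
    · simp only [fst_smul, one_smul]
    · simp only [snd_smul, one_smul, Derivation.map_one_eq_zero, zero_smul, add_zero]
  mul_smul a b p := by
    refine Tw.ext ?_ ?_
    · simp only [fst_smul, mul_smul]
    · simp only [snd_smul, fst_smul, Derivation.leibniz, smul_eq_mul]
      module
  smul_zero a := by
    refine Tw.ext ?_ ?_
    · simp only [fst_smul, fst_zero, smul_zero]
    · simp only [snd_smul, fst_zero, snd_zero, smul_zero, add_zero]
  smul_add a p q := by
    refine Tw.ext ?_ ?_
    · simp only [fst_smul, fst_add, smul_add]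
    · simp only [snd_smul, fst_add, snd_add]
      module
  add_smul a b p := by
    refine Tw.ext ?_ ?_
    · simp only [fst_smul, fst_add, add_smul]
    · simp only [snd_smul, snd_add, map_add]
      module
  zero_smul p := by
    refine Tw.ext ?_ ?_
    · simp only [fst_smul, fst_zero, zero_smul]
    · simp only [snd_smul, snd_zero, map_zero, zero_smul, add_zero]

def fstL : Tw θ X →ₗ[A] X where
  toFun := fst
  map_add' _ _ := rfl
  map_smul' _ _ := rfl

@[simp] lemma fstL_apply (p : Tw θ X) : fstL p = p.fst := rfl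

def sndA : Tw θ X →+ X := AddMonoidHom.mk' snd (fun _ _ => rfl)

@[simp] lemma sndA_apply (p : Tw θ X) : sndA p = p.snd := rfl

def mapL {Y : Type u} [AddCommGroup Y] [Module A Y] (g : X →ₗ[A] Y) : Tw θ X →ₗ[A] Tw θ Y where
  toFun p := mk (g p.fst) (g p.snd)
  map_add' p q := by
    refine Tw.ext ?_ ?_
    · simp only [fst_mk, fst_add, map_add]
    · simp only [snd_mk, snd_add, map_add]
  map_smul' a p := by
    refine Tw.ext ?_ ?_
    · simp only [fst_mk, fst_smul, map_smul, RingHom.id_apply]
    · simp only [snd_mk, fst_mk, snd_smul, fst_smul, map_smul, map_add, RingHom.id_apply]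

@[simp] lemma mapL_fst {Y : Type u} [AddCommGroup Y] [Module A Y] (g : X →ₗ[A] Y) (p : Tw θ X) :
    (mapL g p).fst = g p.fst := rfl
@[simp] lemma mapL_snd {Y : Type u} [AddCommGroup Y] [Module A Y] (g : X →ₗ[A] Y) (p : Tw θ X) :
    (mapL g p).snd = g p.snd := rfl

lemma bij_smul (s : A) (hs : Function.Bijective (fun y : X => s • y)) :
    Function.Bijective (fun p : Tw θ X => s • p) := by
  constructor
  · intro p q h
    have h1 : s • p.fst = s • q.fst := congrArg fst h
    have h2 : s • p.snd + θ s • p.fst = s • q.snd + θ s • q.fst := congrArg snd h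
    have e1 : p.fst = q.fst := hs.1 h1
    rw [e1] at h2
    have e2 : p.snd = q.snd := hs.1 (add_right_cancel h2)
    exact Tw.ext e1 e2
  · intro p
    obtain ⟨x, hx⟩ := hs.2 p.fst
    obtain ⟨y, hy⟩ := hs.2 (p.snd - θ s • x)
    have hx' : s • x = p.fst := hx
    have hy' : s • y = p.snd - θ s • x := hy
    refine ⟨mk x y, Tw.ext hx' ?_⟩
    show s • y + θ s • x = p.snd
    rw [hy']; abel

end Tw

lemma bij_of_isUnit {Y : Type u} [AddCommGroup Y] [Module A Y] (s : A)
    (h : IsUnit (algebraMap A (Module.End A Y) s)) : Function.Bijective (fun y : Y => s • y) := by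
  have hb := (Module.End.isUnit_iff _).1 h
  have e : (fun y : Y => s • y) = ⇑(algebraMap A (Module.End A Y) s) := by
    funext y; rfl
  rw [e]; exact hb

lemma isUnit_of_bij {Y : Type u} [AddCommGroup Y] [Module A Y] (s : A)
    (h : Function.Bijective (fun y : Y => s • y)) : IsUnit (algebraMap A (Module.End A Y) s) := by
  rw [Module.End.isUnit_iff]
  have e : ⇑(algebraMap A (Module.End A Y) s) = (fun y : Y => s • y) := by
    funext y; rfl
  rw [e]; exact h

section loc

variable (S : Submonoid A) {X : Type u} [AddCommGroup X] [Module A X] (c : MConn θ X)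

noncomputable def locLam : X →ₗ[A] Tw θ (LocalizedModule S X) where
  toFun x := Tw.mk (LocalizedModule.mkLinearMap S X x) (LocalizedModule.mkLinearMap S X (c.nab x))
  map_add' x y := by
    refine Tw.ext ?_ ?_
    · simp only [Tw.fst_mk, Tw.fst_add, map_add]
    · simp only [Tw.snd_mk, Tw.snd_add, map_add]
  map_smul' a x := by
    refine Tw.ext ?_ ?_
    · simp only [Tw.fst_mk, Tw.fst_smul, map_smul, RingHom.id_apply]
    · simp only [Tw.snd_mk, Tw.snd_smul, Tw.fst_mk, RingHom.id_apply, c.leib, map_add, map_smul]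
      exact add_comm _ _

lemma tw_isUnit (s : S) :
    IsUnit (algebraMap A (Module.End A (Tw θ (LocalizedModule S X))) s) :=
  isUnit_of_bij _ (Tw.bij_smul (s : A)
    (bij_of_isUnit _ (IsLocalizedModule.map_units (LocalizedModule.mkLinearMap S X) s)))

noncomputable def Lam : LocalizedModule S X →ₗ[A] Tw θ (LocalizedModule S X) :=
  IsLocalizedModule.lift S (LocalizedModule.mkLinearMap S X) (locLam θ S c) (tw_isUnit θ S)

lemma Lam_mk (x : X) :
    Lam θ S c (LocalizedModule.mkLinearMap S X x) = locLam θ S c x :=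
  IsLocalizedModule.lift_apply S _ _ _ x

lemma fst_Lam (z : LocalizedModule S X) : (Lam θ S c z).fst = z := by
  have h : (Tw.fstL.comp (Lam θ S c)) = LinearMap.id := by
    apply IsLocalizedModule.ext S (LocalizedModule.mkLinearMap S X)
      (IsLocalizedModule.map_units (LocalizedModule.mkLinearMap S X))
    refine LinearMap.ext fun x => ?_
    simp only [LinearMap.comp_apply, Tw.fstL_apply, LinearMap.id_apply]
    rw [Lam_mk]
    rfl
  exact LinearMap.congr_fun h z

noncomputable def locMConn : MConn θ (LocalizedModule S X) where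
  nab := Tw.sndA.comp (Lam θ S c).toAddMonoidHom
  leib a z := by
    show (Lam θ S c (a • z)).snd = θ a • z + a • (Lam θ S c z).snd
    rw [map_smul, Tw.snd_smul, fst_Lam, add_comm]

lemma locMConn_mk (x : X) :
    (locMConn θ S c).nab (LocalizedModule.mkLinearMap S X x) =
      LocalizedModule.mkLinearMap S X (c.nab x) := by
  show (Lam θ S c (LocalizedModule.mkLinearMap S X x)).snd = _
  rw [Lam_mk]; rfl

lemma locMConn_map {Y : Type u} [AddCommGroup Y] [Module A Y] (c' : MConn θ Y) (g : X →ₗ[A] Y)
    (hg : ∀ x, c'.nab (g x) = g (c.nab x)) (z : LocalizedModule S X) :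
    (locMConn θ S c').nab (IsLocalizedModule.map S (LocalizedModule.mkLinearMap S X)
        (LocalizedModule.mkLinearMap S Y) g z) =
      IsLocalizedModule.map S (LocalizedModule.mkLinearMap S X)
        (LocalizedModule.mkLinearMap S Y) g ((locMConn θ S c).nab z) := by
  have h : (Lam θ S c').comp (IsLocalizedModule.map S (LocalizedModule.mkLinearMap S X)
        (LocalizedModule.mkLinearMap S Y) g) =
      (Tw.mapL (IsLocalizedModule.map S (LocalizedModule.mkLinearMap S X)
        (LocalizedModule.mkLinearMap S Y) g)).comp (Lam θ S c) := by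
    apply IsLocalizedModule.ext S (LocalizedModule.mkLinearMap S X) (tw_isUnit θ S (X := Y))
    refine LinearMap.ext fun x => ?_
    simp only [LinearMap.comp_apply]
    rw [IsLocalizedModule.map_apply, Lam_mk, Lam_mk]
    refine Tw.ext ?_ ?_
    · show LocalizedModule.mkLinearMap S Y (g x) = IsLocalizedModule.map S
        (LocalizedModule.mkLinearMap S X) (LocalizedModule.mkLinearMap S Y) g
        (LocalizedModule.mkLinearMap S X x)
      rw [IsLocalizedModule.map_apply]
    · show LocalizedModule.mkLinearMap S Y (c'.nab (g x)) = IsLocalizedModule.map S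
        (LocalizedModule.mkLinearMap S X) (LocalizedModule.mkLinearMap S Y) g
        (LocalizedModule.mkLinearMap S X (c.nab x))
      rw [IsLocalizedModule.map_apply, hg]
  exact congrArg (fun F => (F z).snd) h

end loc

/-- a connection on a complex -/
structure CConn (K : CochainComplex (ModuleCat.{u} A) ℤ) where
  c : ∀ i, MConn θ (K.X i)
  comm : ∀ i j (x : K.X i), (c j).nab ((K.d i j).hom x) = (K.d i j).hom ((c i).nab x)

lemma nonempty_single : Nonempty (CConn θ
    ((HomologicalComplex.single (ModuleCat.{u} A) (ComplexShape.up ℤ) 0).obj (ModuleCat.of A A))) := by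
  classical
  refine ⟨⟨fun i => ?_, ?_⟩⟩
  · by_cases hi : i = 0
    · subst hi
      exact (selfConn θ).transport θ (HomologicalComplex.singleObjXSelf (ComplexShape.up ℤ) 0
        (ModuleCat.of A A)).symm.toLinearEquiv
    · haveI : Subsingleton (((HomologicalComplex.single (ModuleCat.{u} A) (ComplexShape.up ℤ) 0).obj
          (ModuleCat.of A A)).X i) :=
        ModuleCat.subsingleton_of_isZero (HomologicalComplex.isZero_single_obj_X _ _ _ _ hi)
      exact MConn.ofSubsingleton θ _
  · intro i j x
    have h0 : ((HomologicalComplex.single (ModuleCat.{u} A) (ComplexShape.up ℤ) 0).obj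
        (ModuleCat.of A A)).d i j = 0 := HomologicalComplex.single_obj_d _ _ _ _ _
    rw [h0]
    simp

noncomputable def locCConn (S : Submonoid A) (K : CochainComplex (ModuleCat.{u} A) ℤ)
    (cK : CConn θ K) : CConn θ ((DerCA.locCx S).obj K) where
  c i := locMConn θ S (cK.c i)
  comm i j z := locMConn_map θ S (cK.c i) (cK.c j) (K.d i j).hom (cK.comm i j) z

lemma locCConn_unit (S : Submonoid A) (K : CochainComplex (ModuleCat.{u} A) ℤ)
    (cK : CConn θ K) (i : ℤ) (x : K.X i) :
    ((locCConn θ S K cK).c i).nab (((DerCA.locCxUnit S K).f i).hom x) =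
      ((DerCA.locCxUnit S K).f i).hom ((cK.c i).nab x) :=
  locMConn_mk θ S (cK.c i) x

section cone

variable {K L : CochainComplex (ModuleCat.{u} A) ℤ} (φ : K ⟶ L)

noncomputable def cFst (p : ℤ) : (mappingCocone φ).X p →ₗ[A] K.X p :=
  ((mappingCocone.fst φ).f p).hom
noncomputable def cSnd (p q : ℤ) (hpq : p + -1 = q) : (mappingCocone φ).X p →ₗ[A] L.X q :=
  ((mappingCocone.snd φ).v p q hpq).hom
noncomputable def cInl (p : ℤ) : K.X p →ₗ[A] (mappingCocone φ).X p :=
  ((mappingCocone.inl φ).v p p (add_zero p)).hom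
noncomputable def cInr (q p : ℤ) (hqp : q + 1 = p) : L.X q →ₗ[A] (mappingCocone φ).X p :=
  ((mappingCocone.inr φ).1.v q p hqp).hom

lemma c_ext (p q : ℤ) (hpq : p + -1 = q) (z w : (mappingCocone φ).X p)
    (h1 : cFst φ p z = cFst φ p w) (h2 : cSnd φ p q hpq z = cSnd φ p q hpq w) : z = w :=
  cocone_ext φ p q hpq z w h1 h2

lemma cFst_cInl (p : ℤ) (x : K.X p) : cFst φ p (cInl φ p x) = x := fst_inl φ p x
lemma cSnd_cInl (p q : ℤ) (hpq : p + -1 = q) (x : K.X p) : cSnd φ p q hpq (cInl φ p x) = 0 :=
  snd_inl φ p q hpq x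
lemma cFst_cInr (q p : ℤ) (hqp : q + 1 = p) (y : L.X q) : cFst φ p (cInr φ q p hqp y) = 0 :=
  fst_inr φ q p hqp y
lemma cSnd_cInr (q p : ℤ) (hqp : q + 1 = p) (hpq : p + -1 = q) (y : L.X q) :
    cSnd φ p q hpq (cInr φ q p hqp y) = y :=
  snd_inr φ q p hqp y

lemma cFst_d (p p' : ℤ) (z : (mappingCocone φ).X p) :
    cFst φ p' (((mappingCocone φ).d p p').hom z) = (K.d p p').hom (cFst φ p z) := by
  have h := congrArg (fun g => g.hom z) ((mappingCocone.fst φ).comm p p')
  exact h.symm

lemma cSnd_d (p : ℤ) (z : (mappingCocone φ).X p) :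
    cSnd φ (p + 1) p (by omega) (((mappingCocone φ).d p (p + 1)).hom z) =
      -((φ.f p).hom (cFst φ p z)) - (L.d (p - 1) p).hom (cSnd φ p (p - 1) (by omega) z) := by
  have h := congrArg (fun c => c.v p p (add_zero p)) (δ_snd_cocone φ)
  beta_reduce at h
  rw [δ_v (-1) 0 (by norm_num) _ p p (add_zero p) (p - 1) (p + 1) rfl rfl] at h
  rw [Int.negOnePow_zero, one_smul, Cochain.neg_v, Cochain.ofHom_v, HomologicalComplex.comp_f] at h
  have h2 := congrArg (fun g => g.hom z) h
  simp only [ModuleCat.hom_add, ModuleCat.hom_comp, ModuleCat.hom_neg, LinearMap.add_apply,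
    LinearMap.comp_apply, LinearMap.neg_apply] at h2
  exact eq_sub_of_add_eq ((add_comm _ _).trans h2)

variable (cK : CConn θ K) (cL : CConn θ L)

noncomputable def coneNab (p : ℤ) : (mappingCocone φ).X p →+ (mappingCocone φ).X p :=
  ((cInl φ p).toAddMonoidHom.comp ((cK.c p).nab.comp (cFst φ p).toAddMonoidHom)) +
  ((cInr φ (p - 1) p (by omega)).toAddMonoidHom.comp
    ((cL.c (p - 1)).nab.comp (cSnd φ p (p - 1) (by omega)).toAddMonoidHom))

lemma coneNab_apply (p : ℤ) (z : (mappingCocone φ).X p) :
    coneNab θ φ cK cL p z = cInl φ p ((cK.c p).nab (cFst φ p z)) +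
      cInr φ (p - 1) p (by omega) ((cL.c (p - 1)).nab (cSnd φ p (p - 1) (by omega) z)) := rfl

lemma cFst_coneNab (p : ℤ) (z : (mappingCocone φ).X p) :
    cFst φ p (coneNab θ φ cK cL p z) = (cK.c p).nab (cFst φ p z) := by
  rw [coneNab_apply, map_add, cFst_cInl, cFst_cInr, add_zero]

lemma cSnd_coneNab (p q : ℤ) (hpq : p + -1 = q) (z : (mappingCocone φ).X p) :
    cSnd φ p q hpq (coneNab θ φ cK cL p z) = (cL.c q).nab (cSnd φ p q hpq z) := by
  obtain rfl : q = p - 1 := by omega
  rw [coneNab_apply, map_add, cSnd_cInl, cSnd_cInr, zero_add]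

noncomputable def coneMConn (p : ℤ) : MConn θ ((mappingCocone φ).X p) where
  nab := coneNab θ φ cK cL p
  leib a z := by
    refine c_ext φ p (p - 1) (by omega) _ _ ?_ ?_
    · rw [cFst_coneNab, map_smul, (cK.c p).leib, map_add, map_smul, map_smul, cFst_coneNab]
    · rw [cSnd_coneNab, map_smul, (cL.c (p - 1)).leib, map_add, map_smul, map_smul, cSnd_coneNab]

variable (hφ : ∀ i (x : K.X i), (cL.c i).nab ((φ.f i).hom x) = (φ.f i).hom ((cK.c i).nab x))

include hφ in
lemma cone_comm (i j : ℤ) (z : (mappingCocone φ).X i) :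
    coneNab θ φ cK cL j (((mappingCocone φ).d i j).hom z) =
      ((mappingCocone φ).d i j).hom (coneNab θ φ cK cL i z) := by
  by_cases hij : i + 1 = j
  · subst hij
    refine c_ext φ (i + 1) i (by omega) _ _ ?_ ?_
    · rw [cFst_coneNab, cFst_d, cFst_d, cFst_coneNab, cK.comm]
    · rw [cSnd_coneNab, cSnd_d, cSnd_d, cFst_coneNab, cSnd_coneNab, map_sub, map_neg, hφ, cL.comm]
  · have h0 : (mappingCocone φ).d i j = 0 := HomologicalComplex.shape _ _ _ hij
    rw [h0]
    simp

noncomputable def coneCConn : CConn θ (mappingCocone φ) where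
  c p := coneMConn θ φ cK cL p
  comm i j z := cone_comm θ φ cK cL hφ i j z

end cone

lemma nonempty_cech (fs : List A) :
    Nonempty (CConn θ (DerCA.extCech (ModuleCat.of A A) fs)) := by
  induction fs with
  | nil => exact nonempty_single θ
  | cons f fs ih =>
    obtain ⟨cK⟩ := ih
    exact ⟨coneCConn θ (DerCA.locCxUnit (Submonoid.powers f) (DerCA.extCech (ModuleCat.of A A) fs))
      cK (locCConn θ _ _ cK) (fun i x => locCConn_unit θ _ _ cK i x)⟩

lemma exists_D (K : CochainComplex (ModuleCat.{u} A) ℤ) (cK : CConn θ K) (n : ℤ) :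
    ∃ D : K.homology n →+ K.homology n,
      ∀ (a : A) (ξ : K.homology n), D (a • ξ) = θ a • ξ + a • D ξ := by
  have hZ : ∀ z : ModCx.Z K n, (cK.c n).nab z.1 ∈ ModCx.Z K n := by
    intro z
    rw [ModCx.mem_Z_iff K n (n + 1) (CochainComplex.next ℤ n), ← cK.comm,
      (ModCx.mem_Z_iff K n (n + 1) (CochainComplex.next ℤ n) z.1).1 z.2, map_zero]
  let nabZ : ModCx.Z K n →+ ModCx.Z K n :=
    AddMonoidHom.mk' (fun z => ⟨(cK.c n).nab z.1, hZ z⟩)
      (fun z w => Subtype.ext (map_add (cK.c n).nab z.1 w.1))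
  have hker : ∀ z : ModCx.Z K n, ModCx.cls K n z = 0 → ModCx.cls K n (nabZ z) = 0 := by
    intro z hz
    rw [ModCx.cls_eq_zero_iff' K n (n - 1) (CochainComplex.prev ℤ n)] at hz
    obtain ⟨y, hy⟩ := hz
    rw [ModCx.cls_eq_zero_iff' K n (n - 1) (CochainComplex.prev ℤ n)]
    refine ⟨(cK.c (n - 1)).nab y, ?_⟩
    rw [← cK.comm, hy]
    rfl
  let g : ModCx.Z K n →+ K.homology n := (ModCx.cls K n).toAddMonoidHom.comp nabZ
  have hsurj : Function.Surjective (ModCx.cls K n).toAddMonoidHom := ModCx.cls_surjective K n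
  let gg : { g' : ModCx.Z K n →+ K.homology n //
      (ModCx.cls K n).toAddMonoidHom.ker ≤ g'.ker } :=
    ⟨g, fun z hz => (AddMonoidHom.mem_ker).2 (hker z ((AddMonoidHom.mem_ker).1 hz))⟩
  let D : K.homology n →+ K.homology n :=
    (ModCx.cls K n).toAddMonoidHom.liftOfSurjective hsurj gg
  have hD : ∀ z, D (ModCx.cls K n z) = ModCx.cls K n (nabZ z) := fun z =>
    AddMonoidHom.liftOfRightInverse_comp_apply _ _ _ gg z
  refine ⟨D, fun a ξ => ?_⟩
  obtain ⟨z, rfl⟩ := ModCx.cls_surjective K n ξ
  rw [← map_smul, hD, hD]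
  have e : nabZ (a • z) = θ a • z + a • nabZ z := Subtype.ext ((cK.c n).leib a z.1)
  rw [e, map_add, map_smul, map_smul]

theorem main (A : Type u) [CommRing A] [IsNoetherianRing A] (I : Ideal A) (θ : Derivation ℤ A A)
    (i : ℕ) : ∃ D : LocCoh.H I i A →+ LocCoh.H I i A,
      ∀ (a : A) (ξ : LocCoh.H I i A), D (a • ξ) = θ a • ξ + a • D ξ := by
  classical
  obtain ⟨s, hs⟩ := (IsNoetherian.noetherian I : I.FG)
  have hspan : Ideal.span {x | x ∈ (0 :: s.toList)} = I := by
    rw [← hs]
    apply le_antisymm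
    · rw [Ideal.span_le]
      intro x hx
      simp only [List.mem_cons, Finset.mem_toList, Set.mem_ofPred_eq] at hx
      rcases hx with rfl | hx
      · exact zero_mem _
      · exact Submodule.subset_span hx
    · refine Submodule.span_le.2 (fun x hx => Ideal.subset_span ?_)
      simp only [List.mem_cons, Finset.mem_toList, Set.mem_ofPred_eq]
      exact Or.inr hx
  have hfs : (0 :: s.toList) ≠ [] := List.cons_ne_nil _ _
  obtain ⟨e⟩ := Groth.Agent.S11623.result A (0 :: s.toList) hfs A i
  obtain ⟨cK⟩ := nonempty_cech θ (0 :: s.toList)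
  obtain ⟨D, hD⟩ := exists_D θ _ cK (i : ℤ)
  subst hspan
  let el := e.toLinearEquiv
  refine ⟨(el.toLinearMap.toAddMonoidHom.comp D).comp el.symm.toLinearMap.toAddMonoidHom,
    fun a ξ => ?_⟩
  show el (D (el.symm (a • ξ))) = θ a • ξ + a • el (D (el.symm ξ))
  rw [map_smul, hD, map_add, map_smul, map_smul, el.apply_symm_apply]

end H8939

/-- Given a derivation θ of a Noetherian ring A and an ideal I, each local cohomology module H^i_I(A)
carries an additive operator D with D(a • ξ) = θ(a) • ξ + a • D(ξ) (existence only; the published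
statement is for any ring and a finitely generated ideal with the local cohomology of the extended
alternating Čech complex, which for Noetherian A is the local cohomology used here). -/
theorem result (A : Type u) [CommRing A] [IsNoetherianRing A] (I : Ideal A) (θ : Derivation ℤ A A) (i : ℕ) : ∃ D : LocCoh.H I i A →+ LocCoh.H I i A, ∀ (a : A) (ξ : LocCoh.H I i A), D (a • ξ) = θ a • ξ + a • D ξ := by
  exact H8939.main A I θ i

end Groth.Agent.S8939
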