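import Mathlib
import Groth.Agent.Lib.Helper20.FaltInj
import Groth.Statements.S8946
-- import your own Groth.Agent.* helpers here

set_option autoImplicit false
universe u
open CategoryTheory
open LocCoh

namespace Groth.Agent.S8946

/-- Let A be a Noetherian ring of finite dimension, T ⊆ Spec A a specialization-stable subset, (M_n) an
inverse system of A-modules and i ≥ 0. Suppose m′(m) ≥ m is such that for every p ∈ T: the maps
H^{i-1}_{pA_p}(M_{k,p}) → H^{i-1}_{pA_p}(M_{m,p}) vanish for k ≥ m′(m) (no condition when i = 0),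
and the maps H^i_{pA_p}(M_{k,p}) → H^i_{pA_p}(M_{m,p}) have the same image for all k ≥ m′(m), this
image mapping injectively into H^i_{pA_p}(M_{0,p}). Then there is m₀ such that for every m ≥ m₀
there is m″ ≥ m such that for k ≥ m″ the image of H^i_T(M_k) → H^i_T(M_m) maps injectively into
H^i_T(M_{m₀}). -/
theorem result (A : Type u) [CommRing A] [IsNoetherianRing A] (hA : ringKrullDim A < ⊤) (T : Set (PrimeSpectrum A)) (hT : StableUnderSpecialization T) (M : ℕ → Type u) [∀ n, AddCommGroup (M n)] [∀ n, Module A (M n)] (φ : ∀ k m : ℕ, m ≤ k → (M k →ₗ[A] M m)) (hφ : ∀ (k l m : ℕ) (h₁ : m ≤ l) (h₂ : l ≤ k), φ k m (h₁.trans h₂) = φ l m h₁ ∘ₗ φ k l h₂) (i : ℕ) (m' : ℕ → ℕ) (hm' : ∀ m, m ≤ m' m) (h1 : 0 < i → ∀ (p : PrimeSpectrum A), p ∈ T → ∀ (m k : ℕ) (h : m ≤ k), m' m ≤ k → (localCohomology (IsLocalRing.maximalIdeal (Localization.AtPrime p.asIdeal)) (i - 1)).map (ModuleCat.ofHom (LocalizedModule.map p.asIdeal.primeCompl (φ k m h))) = 0) (h2 : ∀ (p : PrimeSpectrum A), p ∈ T → ∀ (m k : ℕ) (h : m ≤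 k), m' m ≤ k → LinearMap.range ((localCohomology (IsLocalRing.maximalIdeal (Localization.AtPrime p.asIdeal)) i).map (ModuleCat.ofHom (LocalizedModule.map p.asIdeal.primeCompl (φ k m h)))).hom = LinearMap.range ((localCohomology (IsLocalRing.maximalIdeal (Localization.AtPrime p.asIdeal)) i).map (ModuleCat.ofHom (LocalizedModule.map p.asIdeal.primeCompl (φ (m' m) m (hm' m))))).hom) (h3 : ∀ (p : PrimeSpectrum A), p ∈ T → ∀ (m : ℕ) (x : ↑((localCohomology (IsLocalRing.maximalIdeal (Localization.AtPrime p.asIdeal)) i).obj (ModuleCat.of (Localization.AtPrime p.asIdeal) (LocalizedModule p.asIdeal.primeCompl (M m))))), x ∈ LinearMap.range ((localCohomology (IsLocalRing.maximalIdeal (Localization.AtPrime p.asIdeal)) i).map (ModuleCat.ofHom (LocalizedModule.map p.asIdeal.primeCompl (φ (m' m) m (hm' m))))).hom → ((localCohomology (IsLocalRing.maximalIdeal (Localization.AtPrime p.asIdeal)) i).map (ModuleCat.ofHom (LocalizedModule.map p.asIdeal.primeCompl (φ m 0 (Nat.zero_le m))))).hom x = 0 → x = 0) : ∃ m₀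 : ℕ, ∀ m : ℕ, ∀ (hm : m₀ ≤ m), ∃ m'' : ℕ, m ≤ m'' ∧ ∀ (k : ℕ) (h : m ≤ k), m'' ≤ k → ∀ x : ↑((localCohomology.ofDiagram (Dual2.idealsInDiagram T) i).obj (ModuleCat.of A (M m))), x ∈ LinearMap.range ((localCohomology.ofDiagram (Dual2.idealsInDiagram T) i).map (ModuleCat.ofHom (φ k m h))).hom → ((localCohomology.ofDiagram (Dual2.idealsInDiagram T) i).map (ModuleCat.ofHom (φ m m₀ hm))).hom x = 0 → x = 0 := by
  obtain ⟨n, hn⟩ := Groth.Agent.Lib.Helper20.Falt.exists_nat_krullDim_lt T hA
  have hkey := Groth.Agent.Lib.Helper20.Falt.inj_of_pointwise (R := A) M φ hφ m' hm' n i T hT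
    (fun j hj p hp m k h hmk z => by
      subst hj
      have h0 : (localCohomology (IsLocalRing.maximalIdeal (Localization.AtPrime p.asIdeal)) j).map
          (ModuleCat.ofHom (LocalizedModule.map p.asIdeal.primeCompl (φ k m h))) = 0 :=
        h1 (Nat.succ_pos j) p hp m k h hmk
      have h1' := Groth.Agent.Lib.Helper4.LC.lcEquiv_map
        (IsLocalRing.maximalIdeal (Localization.AtPrime p.asIdeal))
        (ModuleCat.ofHom (LocalizedModule.map p.asIdeal.primeCompl (φ k m h))) j
        ((Groth.Agent.Lib.Helper4.LC.lcEquiv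
          (IsLocalRing.maximalIdeal (Localization.AtPrime p.asIdeal)) _ j).symm z)
      rw [LinearEquiv.apply_symm_apply] at h1'
      rw [← h1', h0]
      exact map_zero _)
    (fun p hp m k h hmk z₁ => by
      have hr := h2 p hp m k h hmk
      have hmem : ((localCohomology (IsLocalRing.maximalIdeal (Localization.AtPrime p.asIdeal)) i).map
          (ModuleCat.ofHom (LocalizedModule.map p.asIdeal.primeCompl (φ k m h)))).hom
          ((Groth.Agent.Lib.Helper4.LC.lcEquiv
            (IsLocalRing.maximalIdeal (Localization.AtPrime p.asIdeal)) _ i).symm z₁) ∈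
          LinearMap.range ((localCohomology
            (IsLocalRing.maximalIdeal (Localization.AtPrime p.asIdeal)) i).map
            (ModuleCat.ofHom (LocalizedModule.map p.asIdeal.primeCompl
              (φ (m' m) m (hm' m))))).hom := by
        rw [← hr]
        exact ⟨_, rfl⟩
      obtain ⟨w₂, hw₂⟩ := hmem
      refine ⟨Groth.Agent.Lib.Helper4.LC.lcEquiv
        (IsLocalRing.maximalIdeal (Localization.AtPrime p.asIdeal)) _ i w₂, ?_⟩
      have e1 := Groth.Agent.Lib.Helper4.LC.lcEquiv_map
        (IsLocalRing.maximalIdeal (Localization.AtPrime p.asIdeal))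
        (ModuleCat.ofHom (LocalizedModule.map p.asIdeal.primeCompl (φ (m' m) m (hm' m)))) i w₂
      have e2 := Groth.Agent.Lib.Helper4.LC.lcEquiv_map
        (IsLocalRing.maximalIdeal (Localization.AtPrime p.asIdeal))
        (ModuleCat.ofHom (LocalizedModule.map p.asIdeal.primeCompl (φ k m h))) i
        ((Groth.Agent.Lib.Helper4.LC.lcEquiv
          (IsLocalRing.maximalIdeal (Localization.AtPrime p.asIdeal)) _ i).symm z₁)
      rw [LinearEquiv.apply_symm_apply] at e2
      exact e1.symm.trans ((congrArg _ hw₂).trans e2))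
    (fun p hp m z₁ hz => by
      have e1 := Groth.Agent.Lib.Helper4.LC.lcEquiv_map
        (IsLocalRing.maximalIdeal (Localization.AtPrime p.asIdeal))
        (ModuleCat.ofHom (LocalizedModule.map p.asIdeal.primeCompl (φ (m' m) m (hm' m)))) i
        ((Groth.Agent.Lib.Helper4.LC.lcEquiv
          (IsLocalRing.maximalIdeal (Localization.AtPrime p.asIdeal)) _ i).symm z₁)
      rw [LinearEquiv.apply_symm_apply] at e1
      have e0 := Groth.Agent.Lib.Helper4.LC.lcEquiv_map
        (IsLocalRing.maximalIdeal (Localization.AtPrime p.asIdeal))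
        (ModuleCat.ofHom (LocalizedModule.map p.asIdeal.primeCompl (φ m 0 (Nat.zero_le m)))) i
        (((localCohomology (IsLocalRing.maximalIdeal (Localization.AtPrime p.asIdeal)) i).map
          (ModuleCat.ofHom (LocalizedModule.map p.asIdeal.primeCompl
            (φ (m' m) m (hm' m))))).hom
          ((Groth.Agent.Lib.Helper4.LC.lcEquiv
            (IsLocalRing.maximalIdeal (Localization.AtPrime p.asIdeal)) _ i).symm z₁))
      have hres := h3 p hp m
        (((localCohomology (IsLocalRing.maximalIdeal (Localization.AtPrime p.asIdeal)) i).map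
          (ModuleCat.ofHom (LocalizedModule.map p.asIdeal.primeCompl
            (φ (m' m) m (hm' m))))).hom
          ((Groth.Agent.Lib.Helper4.LC.lcEquiv
            (IsLocalRing.maximalIdeal (Localization.AtPrime p.asIdeal)) _ i).symm z₁))
        ⟨_, rfl⟩
        (by
          apply (Groth.Agent.Lib.Helper4.LC.lcEquiv
            (IsLocalRing.maximalIdeal (Localization.AtPrime p.asIdeal)) _ i).injective
          rw [map_zero]
          exact e0.trans ((congrArg _ e1).trans hz))
      have hfin := congrArg (Groth.Agent.Lib.Helper4.LC.lcEquiv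
        (IsLocalRing.maximalIdeal (Localization.AtPrime p.asIdeal)) _ i) hres
      rw [map_zero] at hfin
      exact e1.symm.trans hfin)
    hn
  obtain ⟨m₀, hm₀⟩ := hkey
  refine ⟨m₀, fun m hm => ?_⟩
  obtain ⟨m'', hmm'', hk⟩ := hm₀ m hm
  refine ⟨m'', hmm'', fun k h hkm x hxr hx0 => ?_⟩
  obtain ⟨w, rfl⟩ := hxr
  apply (Groth.Agent.Lib.Helper20.HTModel.htEquiv T (ModuleCat.of A (M m)) i).injective
  rw [map_zero, Groth.Agent.Lib.Helper20.HTModel.htEquiv_map]
  apply hk k h hkm
  rw [← Groth.Agent.Lib.Helper20.HTModel.htEquiv_map, ← Groth.Agent.Lib.Helper20.HTModel.htEquiv_map,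
    hx0, map_zero]

end Groth.Agent.S8946
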