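import Groth.Statements.S8949
import Groth.Agent.Lib.Helper4.GorFibre

set_option autoImplicit false
universe u
open scoped TensorProduct
open Goren

namespace Groth.Agent.S8949

/-- Gorenstein fibres are preserved by composing with a regular map. For flat maps A → B → C of
Noetherian rings, if the fibres of A → B are Gorenstein rings and B → C is regular, then the fibres
of A → C are Gorenstein rings. -/
theorem result (A B C : Type u) [CommRing A] [CommRing B] [CommRing C] [IsNoetherianRing A] [IsNoetherianRing B] [IsNoetherianRing C] [Algebra A B] [Algebra B C] [Algebra A C] [IsScalarTower A B C] [Module.Flat A B] [Module.Flat B C] (hAB : ∀ (q : Ideal A) [q.IsPrime], LocCoh.IsGorensteinRing (q.Fiber B)) (hBC : CAlg.IsRegularHom B C) : ∀ (q : Ideal A) [q.IsPrime], LocCoh.IsGorensteinRing (q.Fiber C) := by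
  intro q _
  rw [Groth.Agent.Lib.Helper4.GorFibre.isGorensteinRing_fiber_iff A C q]
  intro s _ hs
  rw [Groth.Agent.Lib.Helper4.GorFibre.gor_fibLocRing_trans A B C s]
  constructor
  · refine (Groth.Agent.Lib.Helper4.GorFibre.isGorensteinRing_fiber_iff A B q).mp (hAB q)
      (s.comap (algebraMap B C)) ?_
    rw [Ideal.comap_comap, ← IsScalarTower.algebraMap_eq]
    exact hs
  · obtain ⟨_, hfib⟩ := hBC
    obtain ⟨hN, hgr⟩ := hfib (s.comap (algebraMap B C))
    have hreg : IsRegularRing ((s.comap (algebraMap B C)).Fiber C) := by
      haveI h1 : IsRegularRing (TensorProduct (s.comap (algebraMap B C)).ResidueField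
          (s.comap (algebraMap B C)).ResidueField ((s.comap (algebraMap B C)).Fiber C)) :=
        hgr (s.comap (algebraMap B C)).ResidueField (Module.Finite.self _)
      have e : (TensorProduct (s.comap (algebraMap B C)).ResidueField
          (s.comap (algebraMap B C)).ResidueField ((s.comap (algebraMap B C)).Fiber C)) ≃+*
          ((s.comap (algebraMap B C)).Fiber C) :=
        (Algebra.TensorProduct.lid (s.comap (algebraMap B C)).ResidueField
          ((s.comap (algebraMap B C)).Fiber C)).toRingEquiv
      exact IsRegularRing.of_ringEquiv (R := TensorProduct (s.comap (algebraMap B C)).ResidueField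
          (s.comap (algebraMap B C)).ResidueField ((s.comap (algebraMap B C)).Fiber C)) e
    exact Groth.Agent.Lib.Helper4.GorFibre.gor_fibLocRing_of_isRegularRing B C
      (s.comap (algebraMap B C)) hreg s rfl

end Groth.Agent.S8949
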