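import Groth.Statements.S8972
import Mathlib

set_option autoImplicit false
open Synt

namespace Groth.Agent.S8972

open MvPolynomial

theorem sum_split {M : Type*} [AddCommMonoid M] {ι : Type*} [Fintype ι] [DecidableEq ι] (a : ι)
    (F : ι → M) : ∑ x, F x = F a + ∑ x : {x // x ≠ a}, F x.1 := by
  rw [← Finset.add_sum_erase _ _ (Finset.mem_univ a)]
  congr 1
  exact Finset.sum_subtype _ (fun x => by simp) F

section
variable (n d : ℕ)

/-- the index of the constant term -/
def E0 : UnivIdx n d :=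
  (⟨fun _ => 0, by simp⟩ : {E : Fin n → Fin (d + 1) // ∑ i, (E i : ℕ) ≤ d})

theorem E0_exponent : (E0 n d).exponent = 0 := by
  ext i
  simp [UnivIdx.exponent, E0]

abbrev Idx' := {p : Fin n × UnivIdx n d // p.2 ≠ E0 n d}
abbrev A' := MvPolynomial (Idx' n d) ℤ
abbrev P := MvPolynomial (Fin n) (A' n d)
abbrev Q := MvPolynomial (Fin n) (UnivBase n d) ⧸ univIdeal n d

noncomputable def gi (i : Fin n) : P n d :=
  -∑ E : {E : UnivIdx n d // E ≠ E0 n d},
    monomial E.1.exponent (X (⟨(i, E.1), E.2⟩ : Idx' n d) : A' n d)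

noncomputable def f0 : Fin n × UnivIdx n d → P n d :=
  fun p => if h : p.2 = E0 n d then gi n d p.1 else C (X (⟨p, h⟩ : Idx' n d))

noncomputable def φ₀ : UnivBase n d →+* P n d := eval₂Hom (Int.castRingHom (P n d)) (f0 n d)

noncomputable def Φ : MvPolynomial (Fin n) (UnivBase n d) →+* P n d :=
  eval₂Hom (φ₀ n d) (fun j => X j)

noncomputable def ψ₀ : A' n d →+* Q n d :=
  eval₂Hom (Int.castRingHom (Q n d))
    (fun p => Ideal.Quotient.mk (univIdeal n d) (C (X p.1)))

noncomputable def Ψ : P n d →+* Q n d :=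
  eval₂Hom (ψ₀ n d) (fun j => Ideal.Quotient.mk (univIdeal n d) (X j))

theorem φ₀_X (p : Fin n × UnivIdx n d) : φ₀ n d (X p) = f0 n d p := by
  unfold φ₀; rw [eval₂Hom_X']

theorem Φ_C (a : UnivBase n d) : Φ n d (C a) = φ₀ n d a := by
  unfold Φ; rw [eval₂Hom_C]

theorem Φ_X (j : Fin n) : Φ n d (X j) = X j := by
  unfold Φ; rw [eval₂Hom_X']

theorem ψ₀_X (p : Idx' n d) :
    ψ₀ n d (X p) = Ideal.Quotient.mk (univIdeal n d) (C (X p.1)) := by
  unfold ψ₀; rw [eval₂Hom_X']

theorem Ψ_C (a : A' n d) : Ψ n d (C a) = ψ₀ n d a := by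
  unfold Ψ; rw [eval₂Hom_C]

theorem Ψ_X (j : Fin n) : Ψ n d (X j) = Ideal.Quotient.mk (univIdeal n d) (X j) := by
  unfold Ψ; rw [eval₂Hom_X']

theorem Φ_monomial (s : Fin n →₀ ℕ) (a : UnivBase n d) :
    Φ n d (monomial s a) = φ₀ n d a * monomial s 1 := by
  unfold Φ
  rw [eval₂Hom_monomial, monomial_eq (a := (1 : A' n d)), C_1, one_mul]

theorem Ψ_monomial (s : Fin n →₀ ℕ) (a : A' n d) :
    Ψ n d (monomial s a) =
      ψ₀ n d a * Ideal.Quotient.mk (univIdeal n d) (monomial s 1) := by
  unfold Ψ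
  rw [eval₂Hom_monomial, monomial_eq (a := (1 : UnivBase n d)), C_1, one_mul, map_finsuppProd]
  simp only [map_pow]

theorem Φ_univPoly (i : Fin n) : Φ n d (univPoly n d i) = 0 := by
  unfold univPoly
  rw [sum_split (E0 n d), map_add, map_sum, Φ_monomial, E0_exponent]
  have h0 : φ₀ n d (X (i, E0 n d)) = gi n d i := by
    rw [φ₀_X, f0, dif_pos rfl]
  have h1 : ∀ E : {E : UnivIdx n d // E ≠ E0 n d},
      Φ n d (monomial E.1.exponent (X (i, E.1))) =
        monomial E.1.exponent (X (⟨(i, E.1), E.2⟩ : Idx' n d)) := by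
    intro E
    rw [Φ_monomial, φ₀_X, f0, dif_neg (show ¬ (i, E.1).2 = E0 n d from E.2), C_mul_monomial,
      mul_one]
  simp only [h1]
  rw [h0, monomial_zero', C_1, mul_one, gi, neg_add_cancel]

theorem Φ_ker : ∀ a ∈ univIdeal n d, Φ n d a = 0 := by
  intro a ha
  have hle : univIdeal n d ≤ RingHom.ker (Φ n d) := by
    refine Ideal.span_le.2 ?_
    rintro _ ⟨i, rfl⟩
    exact (RingHom.mem_ker).2 (Φ_univPoly n d i)
  exact (RingHom.mem_ker).1 (hle ha)

/-- the inverse map -/
noncomputable def Φbar : Q n d →+* P n d :=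
  Ideal.Quotient.lift (univIdeal n d) (Φ n d) (Φ_ker n d)

theorem Φbar_mk (a : MvPolynomial (Fin n) (UnivBase n d)) :
    Φbar n d (Ideal.Quotient.mk (univIdeal n d) a) = Φ n d a := by
  unfold Φbar; rw [Ideal.Quotient.lift_mk]

theorem mk_univPoly (i : Fin n) : Ideal.Quotient.mk (univIdeal n d) (univPoly n d i) = 0 :=
  Ideal.Quotient.eq_zero_iff_mem.2 (Ideal.subset_span ⟨i, rfl⟩)

theorem Ψ_gi (i : Fin n) :
    Ψ n d (gi n d i) = Ideal.Quotient.mk (univIdeal n d) (C (X (i, E0 n d))) := by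
  have h1 : ∀ E : {E : UnivIdx n d // E ≠ E0 n d},
      Ψ n d (monomial E.1.exponent (X (⟨(i, E.1), E.2⟩ : Idx' n d))) =
        Ideal.Quotient.mk (univIdeal n d) (monomial E.1.exponent (X (i, E.1))) := by
    intro E
    rw [Ψ_monomial, ψ₀_X, ← map_mul, C_mul_monomial, mul_one]
  have h2 := mk_univPoly n d i
  unfold univPoly at h2
  rw [sum_split (E0 n d), map_add, map_sum, E0_exponent, monomial_zero'] at h2
  unfold gi
  rw [map_neg, map_sum]
  simp only [h1]
  rw [neg_eq_iff_add_eq_zero, add_comm]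
  exact h2

theorem ΨΦ : (Ψ n d).comp (Φ n d) = Ideal.Quotient.mk (univIdeal n d) := by
  apply MvPolynomial.ringHom_ext
  · intro a
    have h : ((Ψ n d).comp (Φ n d)).comp C = (Ideal.Quotient.mk (univIdeal n d)).comp C := by
      apply MvPolynomial.ringHom_ext
      · intro z
        exact DFunLike.congr_fun (RingHom.ext_int
          ((((Ψ n d).comp (Φ n d)).comp C).comp C)
          (((Ideal.Quotient.mk (univIdeal n d)).comp C).comp C)) z
      · intro p
        show Ψ n d (Φ n d (C (X p))) = Ideal.Quotient.mk (univIdeal n d) (C (X p))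
        rw [Φ_C, φ₀_X, f0]
        by_cases hp : p.2 = E0 n d
        · rw [dif_pos hp, Ψ_gi]
          have : p = (p.1, E0 n d) := Prod.ext rfl hp
          rw [← this]
        · rw [dif_neg hp, Ψ_C, ψ₀_X]
    exact DFunLike.congr_fun h a
  · intro j
    show Ψ n d (Φ n d (X j)) = Ideal.Quotient.mk (univIdeal n d) (X j)
    rw [Φ_X, Ψ_X]

theorem ΨΦbar : (Ψ n d).comp (Φbar n d) = RingHom.id (Q n d) := by
  refine Ideal.Quotient.ringHom_ext (RingHom.ext fun a => ?_)
  show Ψ n d (Φbar n d (Ideal.Quotient.mk (univIdeal n d) a)) =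
    Ideal.Quotient.mk (univIdeal n d) a
  rw [Φbar_mk]
  exact DFunLike.congr_fun (ΨΦ n d) a

theorem ΦbarΨ : (Φbar n d).comp (Ψ n d) = RingHom.id (P n d) := by
  apply MvPolynomial.ringHom_ext
  · intro a
    have h : ((Φbar n d).comp (Ψ n d)).comp C = (RingHom.id (P n d)).comp C := by
      apply MvPolynomial.ringHom_ext
      · intro z
        exact DFunLike.congr_fun (RingHom.ext_int
          ((((Φbar n d).comp (Ψ n d)).comp C).comp C)
          (((RingHom.id (P n d)).comp C).comp C)) z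
      · intro p
        show Φbar n d (Ψ n d (C (X p))) = C (X p)
        rw [Ψ_C, ψ₀_X, Φbar_mk, Φ_C, φ₀_X, f0, dif_neg p.2]
    exact DFunLike.congr_fun h a
  · intro j
    show Φbar n d (Ψ n d (X j)) = X j
    rw [Ψ_X, Φbar_mk, Φ_X]

theorem main : IsDomain (UnivAlg n d) ∧ ∀ q : PrimeSpectrum (UnivAlg n d),
    IsRegularLocalRing (Localization.AtPrime q.asIdeal) := by
  let Ψ' : P n d →+* UnivAlg n d := Ψ n d
  let Φ' : UnivAlg n d →+* P n d := Φbar n d
  have h1 : Ψ'.comp Φ' = RingHom.id (UnivAlg n d) := ΨΦbar n d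
  have h2 : Φ'.comp Ψ' = RingHom.id (P n d) := ΦbarΨ n d
  let e : P n d ≃+* UnivAlg n d := RingEquiv.ofRingHom Ψ' Φ' h1 h2
  haveI : IsRegularRing (P n d) := inferInstance
  haveI : IsRegularRing (UnivAlg n d) := IsRegularRing.of_ringEquiv e
  refine ⟨Function.Injective.isDomain (e.symm : UnivAlg n d →+* P n d) e.symm.injective,
    fun q => ?_⟩
  exact IsRegularRing.isRegularLocalRing_localization q.asIdeal

end


/-- Let n, d ≥ 1 and let B = A[x_1, …, x_n]/(f_1, …, f_n) be the universal algebra over A = ℤ[a_{i,E}],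
f_i = Σ_E a_{i,E} x^E summed over exponent vectors E with |E| ≤ d. Then B is an integral domain and
every localization of B at a prime ideal is a regular local ring. (The published statement says that
X_{n,d} = Spec A and the quasi-finite locus Y_{n,d} ⊆ Spec B are regular and irreducible; for A, a
polynomial ring over ℤ, this is standard, and for the open Y_{n,d} it follows from the assertion
about all of Spec B made here, which is what the printed argument shows. The published statement
also asserts that Y_{n,d} → X_{n,d} is locally quasi-finite and syntomic, an instance of the general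
characterisation of quasi-finite syntomic maps; that clause is not part of this row.) -/
theorem result (n d : ℕ) (hn : 1 ≤ n) (hd : 1 ≤ d) : IsDomain (Synt.UnivAlg n d) ∧ ∀ q : PrimeSpectrum (Synt.UnivAlg n d), IsRegularLocalRing (Localization.AtPrime q.asIdeal) := by
  exact main n d

end Groth.Agent.S8972
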