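import Groth.Statements.S8974
import Mathlib

set_option autoImplicit false
universe u
open Synt

namespace Groth.Agent.S8974

/-- Let R be a ring, n, d ≥ 1 and g_1, …, g_n ∈ R[y_1, …, y_n] of total degree at most d. Then there is
a ring map φ : A = ℤ[a_{i,E}] → R (E running over exponent vectors with |E| ≤ d) such that applying
φ to the coefficients of the universal polynomial f_i = Σ_E a_{i,E} x^E gives g_i for each i. (The
published statement is for a locally quasi-finite syntomic morphism of schemes and asserts, locally,
a cartesian square with the universal family; this row is its affine core: the coefficient map.) -/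
theorem result (R : Type u) [CommRing R] (n d : ℕ) (hn : 1 ≤ n) (hd : 1 ≤ d) (g : Fin n → MvPolynomial (Fin n) R) (hg : ∀ i, (g i).totalDegree ≤ d) : ∃ φ : Synt.UnivBase n d →+* R, ∀ i, MvPolynomial.map φ (Synt.univPoly n d i) = g i := by
  classical
  refine ⟨MvPolynomial.eval₂Hom (Int.castRingHom R) (fun p => (g p.1).coeff p.2.exponent), fun i => ?_⟩
  have hinj : Function.Injective (fun E : Synt.UnivIdx n d => E.exponent) := by
    intro E E' h
    apply Subtype.ext
    funext j
    apply Fin.ext
    have := DFunLike.congr_fun h j
    simpa [Synt.UnivIdx.exponent] using this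
  unfold Synt.univPoly
  rw [map_sum]
  simp only [MvPolynomial.map_monomial, MvPolynomial.coe_eval₂Hom, MvPolynomial.eval₂_X]
  ext m
  rw [MvPolynomial.coeff_sum]
  simp only [MvPolynomial.coeff_monomial]
  by_cases hm : ∃ E : Synt.UnivIdx n d, E.exponent = m
  · obtain ⟨E, rfl⟩ := hm
    rw [Finset.sum_eq_single E]
    · simp
    · intro E' _ hne
      rw [if_neg]
      intro h; exact hne (hinj h)
    · intro h; exact absurd (Finset.mem_univ _) h
  · rw [Finset.sum_eq_zero]
    · symm
      by_contra hne
      apply hm
      have hmem : m ∈ (g i).support := MvPolynomial.mem_support_iff.mpr hne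
      have hdeg : (m.sum fun _ e => e) ≤ d := le_trans (MvPolynomial.le_totalDegree hmem) (hg i)
      have hsum : ∑ j, m j ≤ d := by
        rwa [Finsupp.sum_fintype] at hdeg
        intro; rfl
      have hj : ∀ j, m j < d + 1 := fun j => Nat.lt_succ_of_le (le_trans (Finset.single_le_sum (f := fun j => m j) (fun _ _ => Nat.zero_le _) (Finset.mem_univ j)) hsum)
      refine ⟨⟨fun j => ⟨m j, hj j⟩, hsum⟩, ?_⟩
      ext j
      simp [Synt.UnivIdx.exponent]
    · intro E _
      rw [if_neg]
      intro h; exact hm ⟨E, h⟩

end Groth.Agent.S8974
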