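import Groth.Statements.S8975
import Mathlib
import Groth.Agent.Lib.Helper6.OmegaProd

set_option autoImplicit false
universe u
open TensorProduct
open QFDual

namespace Groth.Agent.S8975

/-- The relative dualizing module of a product. Suppose A, B, C are Noetherian rings and the ring maps A
→ B, A → C are quasi-finite, presented by factorizations A → B' → B and A → C' → C with A → B', A →
C' finite and Spec B → Spec B', Spec C → Spec C' open immersions, and let B × C carry the product
algebra structure over B' × C' (so that A → B' × C' → B × C is a factorization of the same kind).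
Then ω_{(B × C)/A} = (B × C) ⊗_{B' × C'} Hom_A(B' × C', A) is identified with ω_{B/A} × ω_{C/A}:
there is an A-linear isomorphism sending (b, c) ⊗ φ to (b ⊗ φ∘ι_{B'}, c ⊗ φ∘ι_{C'}), where ι_{B'},
ι_{C'} are the inclusions of the factors; this formula determines the isomorphism and makes it (B ×
C)-linear. -/
theorem result (A B' B C' C : Type u) [CommRing A] [CommRing B'] [CommRing B] [CommRing C'] [CommRing C] [IsNoetherianRing A] [IsNoetherianRing B] [IsNoetherianRing C] [Algebra A B'] [Algebra B' B] [Algebra A B] [IsScalarTower A B' B] [Algebra A C'] [Algebra C' C] [Algebra A C] [IsScalarTower A C' C] (hB : QFDual.IsQFFactor A B' B) (hC : QFDual.IsQFFactor A C' C) [Algebra (B' × C') (B × C)] [IsScalarTower A (B' × C') (B × C)] (halg : algebraMap (B' × C') (B × C) = (algebraMap B' B).prodMap (algebraMap C' C)) : ∃ e : QFDual.omega A (B' × C') (B × C) ≃ₗ[A] QFDual.omega A B' B × QFDual.omega A C' C, ∀ (b : B) (c : C) (φ : Disc.Omega A (B' × C')), e ((b, c) ⊗ₜ[B' × C'] φ) = (b ⊗ₜ[B'] Disc.Omega.mk (φ.toLinearMap ∘ₗ LinearMap.inl A B' C'), c ⊗ₜ[C'] Disc.Omega.mk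 (φ.toLinearMap ∘ₗ LinearMap.inr A B' C')) := by
  classical
  refine ⟨{ toFun := Groth.Agent.Lib.Helper6.OmegaProd.fwd (A := A) halg
            invFun := fun y => Groth.Agent.Lib.Helper6.OmegaProd.bwdL halg y.1 +
              Groth.Agent.Lib.Helper6.OmegaProd.bwdR halg y.2
            map_add' := map_add (Groth.Agent.Lib.Helper6.OmegaProd.fwd (A := A) halg)
            map_smul' := ?_
            left_inv := Groth.Agent.Lib.Helper6.OmegaProd.bwd_fwd halg
            right_inv := Groth.Agent.Lib.Helper6.OmegaProd.fwd_bwd halg }, ?_⟩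
  · intro a x
    show Groth.Agent.Lib.Helper6.OmegaProd.fwd (A := A) halg (a • x) =
      a • Groth.Agent.Lib.Helper6.OmegaProd.fwd (A := A) halg x
    induction x using TensorProduct.induction_on with
    | zero => simp
    | tmul s φ =>
      rw [TensorProduct.smul_tmul', Groth.Agent.Lib.Helper6.OmegaProd.fwd_tmul,
        Groth.Agent.Lib.Helper6.OmegaProd.fwd_tmul, Prod.smul_fst, Prod.smul_snd,
        ← TensorProduct.smul_tmul', ← TensorProduct.smul_tmul', ← Prod.smul_mk]
    | add x y hx hy => rw [smul_add, map_add, hx, hy, map_add, smul_add]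
  · intro b c φ
    rfl

end Groth.Agent.S8975
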