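import Groth.Statements.S8979
import Mathlib
import Groth.Agent.Lib.Helper6.HTopBasic

set_option autoImplicit false
universe u
open HTop

namespace Groth.Agent.S8979

open CategoryTheory CategoryTheory.Limits AlgebraicGeometry in
/-- A surjective proper morphism of finite presentation, as a one-member family, is an h covering of its
target. -/
theorem result {X Y : Scheme.{u}} (f : Y ⟶ X) [IsProper f] [Surjective f] [LocallyOfFinitePresentation f] : HTop.IsHCover (PreZeroHypercover.singleton.{0} f) := by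
  refine ⟨fun i => inferInstanceAs (LocallyOfFinitePresentation f), ?_⟩
  intro U
  have hcomp : IsCompact ((f ⁻¹ᵁ U.1 : Y.Opens) : Set Y) := f.isCompact_preimage U.2.isCompact
  obtain ⟨s, hs, e⟩ := isCompact_iff_finite_and_eq_biUnion_affineOpens.mp hcomp
  haveI : Finite ↥s := hs.to_subtype
  obtain ⟨n, ⟨e'⟩⟩ := Finite.exists_equiv_fin ↥s
  let w : Fin n → Y.affineOpens := fun j => (e'.symm j).1
  have hw : ∀ j, (w j : Y.Opens) ≤ f ⁻¹ᵁ U.1 := by
    intro j
    rw [e]
    exact le_iSup₂ (f := fun (i : Y.affineOpens) (_ : i ∈ s) => (i : Y.Opens))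
      (e'.symm j).1 (e'.symm j).2
  have hrange : ∀ j, Set.range ((w j).1.ι ≫ f) ⊆ Set.range U.1.ι := by
    intro j
    rw [Scheme.Opens.range_ι]
    rintro _ ⟨x, rfl⟩
    rw [Scheme.Hom.comp_apply]
    exact hw j x.2
  refine ⟨⟨Fin n, fun j => ((w j : Y.Opens) : Scheme.{u}),
    fun j => IsOpenImmersion.lift U.1.ι ((w j).1.ι ≫ f) (hrange j)⟩,
    ⟨U.2, inferInstance, fun j => (w j).2, ?_⟩, ?_⟩
  · intro V _ _ g
    obtain ⟨W, hWd, hWv, φ, hφ, l, hl⟩ :=
      Groth.Agent.Lib.Helper6.HTopBasic.exists_valLift f V (g ≫ U.1.ι)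
    refine ⟨W, hWd, hWv, φ, hφ, ?_⟩
    haveI : IsLocalRing W := inferInstance
    have hc : l (IsLocalRing.closedPoint W) ∈ f ⁻¹ᵁ U.1 := by
      show f (l (IsLocalRing.closedPoint W)) ∈ U.1
      rw [← Scheme.Hom.comp_apply, hl, Scheme.Hom.comp_apply, Scheme.Hom.comp_apply]
      exact (g (Spec.map φ (IsLocalRing.closedPoint W))).2
    rw [e] at hc
    obtain ⟨i, hi, hci⟩ : ∃ i ∈ s, l (IsLocalRing.closedPoint W) ∈ (i : Y.Opens) := by
      simpa [TopologicalSpace.Opens.mem_iSup] using hc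
    have hwi : w (e' ⟨i, hi⟩) = i := by simp [w]
    obtain ⟨l', hl'⟩ := Groth.Agent.Lib.Helper6.HTopBasic.exists_lift_of_closedPoint_mem l
      (w (e' ⟨i, hi⟩) : Y.Opens) (by rw [hwi]; exact hci)
    refine ⟨e' ⟨i, hi⟩, l', ?_⟩
    rw [← cancel_mono U.1.ι, Category.assoc, IsOpenImmersion.lift_fac, ← Category.assoc, hl', hl,
      Category.assoc]
  · intro j
    exact ⟨PUnit.unit, (w j).1.ι, (IsOpenImmersion.lift_fac _ _ _).symm⟩

end Groth.Agent.S8979
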