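import Groth.Statements.S8980
import Mathlib
import Groth.Agent.Lib.Helper6.HTopBasic

set_option autoImplicit false
universe u
open HTop

namespace Groth.Agent.S8980

open CategoryTheory CategoryTheory.Limits AlgebraicGeometry in
/-- A family of morphisms T_i → T, indexed by a type in the universe of T and all locally of finite
presentation, is an h covering if and only if the one-member family given by the induced morphism
from the coproduct of the T_i to T is an h covering. (The published statement also lists, as a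
further equivalent condition, that some h covering refines the family; that equivalence is immediate
from the definitions and is not restated here.) -/
theorem result {T : Scheme.{u}} (E : PreZeroHypercover.{u} T) (hE : ∀ i, LocallyOfFinitePresentation (E.f i)) : HTop.IsHCover E ↔ HTop.IsHCover (PreZeroHypercover.singleton.{0} (Sigma.desc E.f)) := by
  classical
  constructor
  · rintro ⟨_, hV⟩
    refine ⟨fun _ => IsZariskiLocalAtSource.sigmaDesc (P := @LocallyOfFinitePresentation) hE, ?_⟩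
    intro U
    obtain ⟨F, hF, href⟩ := hV U
    refine ⟨F, hF, fun j => ?_⟩
    obtain ⟨i, h, hh⟩ := href j
    refine ⟨PUnit.unit, h ≫ Sigma.ι E.X i, ?_⟩
    show (h ≫ Sigma.ι E.X i) ≫ Sigma.desc E.f = F.f j ≫ U.1.ι
    rw [Category.assoc, Sigma.ι_desc]
    exact hh
  · rintro ⟨_, hV⟩
    refine ⟨hE, ?_⟩
    intro U
    obtain ⟨F, hF, href⟩ := hV U
    have hh' : ∀ j, ∃ h : F.X j ⟶ ∐ E.X, h ≫ Sigma.desc E.f = F.f j ≫ U.1.ι := fun j => by
      obtain ⟨i, h, hh⟩ := href j
      exact ⟨h, hh⟩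
    choose h hh using hh'
    haveI := hF.finite_index
    haveI : ∀ j, IsAffine (F.X j) := hF.isAffine_obj
    have hpt : ∀ (j : F.I₀) (x : F.X j), ∃ (i : E.I₀) (W : (F.X j).Opens), IsAffineOpen W ∧
        x ∈ W ∧ W ≤ (h j) ⁻¹ᵁ (Sigma.ι E.X i).opensRange := by
      intro j x
      obtain ⟨⟨i, y⟩, hy⟩ := (sigmaMk E.X).surjective (h j x)
      rw [sigmaMk_mk] at hy
      have hx : x ∈ (h j) ⁻¹ᵁ (Sigma.ι E.X i).opensRange := by
        show h j x ∈ Set.range (Sigma.ι E.X i)
        exact ⟨y, hy⟩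
      obtain ⟨W, hW, hxW, hWle⟩ :=
        TopologicalSpace.Opens.isBasis_iff_nbhd.mp ((F.X j).isBasis_affineOpens) hx
      exact ⟨i, W, hW, hxW, hWle⟩
    choose iOf W hWaff hxW hWle using hpt
    have hfin : ∀ j, ∃ t : Finset (F.X j),
        (Set.univ : Set (F.X j)) ⊆ ⋃ x ∈ t, (W j x : Set (F.X j)) := fun j =>
      isCompact_univ.elim_finite_subcover (fun x => (W j x : Set (F.X j)))
        (fun x => (W j x).isOpen) (fun x _ => Set.mem_iUnion.mpr ⟨x, hxW j x⟩)
    choose t ht using hfin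
    obtain ⟨n, ⟨e'⟩⟩ := Finite.exists_equiv_fin (Σ j : F.I₀, ↥(t j))
    let Xσ : (Σ j : F.I₀, ↥(t j)) → Scheme.{u} :=
      fun σ => ((W σ.1 σ.2.1 : (F.X σ.1).Opens) : Scheme.{u})
    let fσ : ∀ σ : (Σ j : F.I₀, ↥(t j)), Xσ σ ⟶ ((U : T.Opens) : Scheme.{u}) :=
      fun σ => (W σ.1 σ.2.1).ι ≫ F.f σ.1
    refine ⟨⟨Fin n, fun k => Xσ (e'.symm k), fun k => fσ (e'.symm k)⟩,
      ⟨hF.isAffine, inferInstance, fun k => hWaff _ _, ?_⟩, ?_⟩
    · intro V _ _ g
      obtain ⟨W', hWd, hWv, φ, hφ, j, g', hg'⟩ := hF.lift V g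
      refine ⟨W', hWd, hWv, φ, hφ, ?_⟩
      haveI : IsLocalRing W' := inferInstance
      have hmem := ht j (Set.mem_univ (g' (IsLocalRing.closedPoint W')))
      simp only [Set.mem_iUnion] at hmem
      obtain ⟨x, hx, hxm⟩ := hmem
      obtain ⟨g'', hg''⟩ :=
        Groth.Agent.Lib.Helper6.HTopBasic.exists_lift_of_closedPoint_mem g' (W j x) hxm
      have key : ∀ σ : (Σ j : F.I₀, ↥(t j)),
          (∃ g₀ : Spec W' ⟶ Xσ σ, g₀ ≫ fσ σ = Spec.map φ ≫ g) →
          ∃ (k : Fin n) (g₀ : Spec W' ⟶ Xσ (e'.symm k)),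
            g₀ ≫ fσ (e'.symm k) = Spec.map φ ≫ g := by
        intro σ hσ
        refine ⟨e' σ, ?_⟩
        rw [e'.symm_apply_apply]
        exact hσ
      exact key ⟨j, ⟨x, hx⟩⟩ ⟨g'', by
        show g'' ≫ (W j x).ι ≫ F.f j = _
        rw [← Category.assoc, hg'', hg']⟩
    · intro k
      refine ⟨iOf (e'.symm k).1 (e'.symm k).2.1,
        IsOpenImmersion.lift (Sigma.ι E.X _)
          ((W (e'.symm k).1 (e'.symm k).2.1).ι ≫ h (e'.symm k).1) ?_, ?_⟩
      · rintro _ ⟨y, rfl⟩
        rw [Scheme.Hom.comp_apply]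
        exact hWle _ _ y.2
      · rw [← Sigma.ι_desc E.f (iOf (e'.symm k).1 (e'.symm k).2.1), ← Category.assoc,
          IsOpenImmersion.lift_fac, Category.assoc, hh]
        exact (Category.assoc _ _ _).symm

end Groth.Agent.S8980
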