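import Groth.Statements.S8987
import Mathlib
import Groth.Agent.Lib.Helper17.HSquare
import Groth.Agent.Lib.Helper17.AlmostIso

set_option autoImplicit false
universe u
open HTop

namespace Groth.Agent.S8987

open CategoryTheory CategoryTheory.Limits AlgebraicGeometry Opposite in
/-- An h sheaf on schemes over S turns every almost blow up square of S-schemes into a cartesian square
of sets of sections. -/
theorem result (S : Scheme.{u}) (F : HTop.ShH S) {E Z X' X : Over S} (e : E ⟶ X') (π : E ⟶ Z) (b : X' ⟶ X) (i : Z ⟶ X) (h : HTop.IsAlmostBlowUpSquare e.left π.left b.left i.left) (t : F.obj.obj (op Z)) (s' : F.obj.obj (op X')) (hts : F.obj.map π.op t = F.obj.map e.op s') : ∃! s : F.obj.obj (op X), F.obj.map i.op s = t ∧ F.obj.map b.op s = s' := by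
  have hF : Presieve.IsSheaf (HTop.Jh S) F.obj := (isSheaf_iff_isSheaf_of_type _ _).mp F.property
  haveI := h.isClosedImmersion
  haveI := h.finitePresentation_base
  haveI := h.isProper
  haveI := h.finitePresentation
  haveI := Groth.Agent.Lib.Helper17.AlmostIso.isIso_restrict_of_isAlmostBlowUpSquare h
  obtain ⟨h1, h2⟩ := Groth.Agent.Lib.Helper17.HSquare.covers b.left i.left
    i.left.ker.support.compl (Groth.Agent.Lib.Helper17.AlmostIso.coe_support_ker_compl i.left)
  haveI : Mono i.left := inferInstance
  exact Groth.Agent.Lib.Helper17.SheafSquare.existsUnique_section_over HTop.hTopology S F.obj hF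
    e π b i h.isPullback h1 (pullback.fst b.left b.left ≫ b.left) rfl pullback.condition.symm h2
    t s' hts

end Groth.Agent.S8987
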