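import Groth.Statements.S8990
import Mathlib
import Groth.Agent.Lib.Helper17.PhSquare
import Groth.Agent.Lib.Helper17.AlmostIso
import Groth.Agent.Lib.Helper17.BlowUpProper
import Groth.Agent.Lib.Helper3.BlowUpBasic

set_option autoImplicit false
set_option linter.style.haveILetI false
universe u
open HTop

namespace Groth.Agent.S8990

open CategoryTheory CategoryTheory.Limits AlgebraicGeometry Opposite in
/-- A ph sheaf on schemes over S turns every blow up square (centre a closed subscheme of finite
presentation, X' → X the blowing up, E the inverse image of the centre) into a cartesian square of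
sets of sections. -/
theorem result (S : Scheme.{u}) (F : HTop.ShPh S) {E Z X' X : Over S} (e : E ⟶ X') (π : E ⟶ Z) (b : X' ⟶ X) (i : Z ⟶ X) [IsClosedImmersion i.left] [LocallyOfFinitePresentation i.left] (hb : BlowUp.IsBlowUp b.left i.left.ker) (hE : IsPullback e.left π.left b.left i.left) (t : F.obj.obj (op Z)) (s' : F.obj.obj (op X')) (hts : F.obj.map π.op t = F.obj.map e.op s') : ∃! s : F.obj.obj (op X), F.obj.map i.op s = t ∧ F.obj.map b.op s = s' := by
  have hF : Presieve.IsSheaf (HTop.Jph S) F.obj := (isSheaf_iff_isSheaf_of_type _ _).mp F.property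
  haveI : IsProper b.left :=
    Groth.Agent.Lib.Helper17.BlowUpProper.isProper_of_isBlowUp i.left.ker
      (Groth.Agent.Lib.Helper17.PhSquare.isFiniteTypeIdeal_ker i.left) b.left hb
  haveI : IsIso (b.left ∣_ i.left.ker.support.compl) :=
    Groth.Agent.Lib.Helper3.isIso_morphismRestrict_of_isBlowUp i.left.ker b.left hb
  obtain ⟨h1, h2⟩ := Groth.Agent.Lib.Helper17.PhSquare.covers b.left i.left
    i.left.ker.support.compl (Groth.Agent.Lib.Helper17.AlmostIso.coe_support_ker_compl i.left)
  haveI : Mono i.left := inferInstance
  exact Groth.Agent.Lib.Helper17.SheafSquare.existsUnique_section_over HTop.phTopology S F.obj hF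
    e π b i hE h1 (pullback.fst b.left b.left ≫ b.left) rfl pullback.condition.symm h2
    t s' hts

end Groth.Agent.S8990
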