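import Groth.Statements.S8992
-- import your own Groth.Agent.* helpers here

set_option autoImplicit false
universe u
open HTop

namespace Groth.Agent.S8992

theorem exists_two_three (p : ℕ) (hp : 2 ≤ p) : ∃ i j : ℕ, 2 * i + 3 * j = p := by
  rcases Nat.even_or_odd' p with ⟨k, hk | hk⟩
  · exact ⟨k, 0, by omega⟩
  · exact ⟨k - 1, 1, by omega⟩

/-- An algebra over the prime field with p elements is absolutely weakly normal if and only if its p-th
power map is bijective (the algebra is perfect). -/
theorem result (p : ℕ) [Fact p.Prime] (A : Type u) [CommRing A] [Algebra (ZMod p) A] : HTop.IsAWNRing A ↔ PerfectRing A p := by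
  have hpp : p.Prime := Fact.out
  have hp0 : p ≠ 0 := hpp.ne_zero
  have hp : (p : A) = 0 := by
    have h1 : (p : ZMod p) = 0 := ZMod.natCast_self p
    have h2 : algebraMap (ZMod p) A (p : ZMod p) = algebraMap (ZMod p) A 0 := by rw [h1]
    rwa [map_natCast, map_zero] at h2
  constructor
  · rintro ⟨-, h⟩
    refine ⟨⟨?_, ?_⟩⟩
    · intro a b hab
      simp only at hab
      obtain ⟨c, -, hc⟩ := h p hpp (a ^ p) 0 (by simp [hp, hp0])
      have ha := hc a ⟨rfl, by simp [hp]⟩
      have hb := hc b ⟨hab, by simp [hp]⟩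
      rw [ha, hb]
    · intro x
      obtain ⟨c, ⟨hc, -⟩, -⟩ := h p hpp x 0 (by simp [hp, hp0])
      exact ⟨c, hc.symm⟩
  · rintro ⟨hinj, hsurj⟩
    have hinj' : ∀ a b : A, a ^ p = b ^ p → a = b := fun a b h => hinj h
    have hzero : ∀ a : A, a ^ p = 0 → a = 0 := fun a h => hinj' a 0 (by simpa [hp0] using h)
    have hred : ∀ a : A, a ^ 3 = 0 → a = 0 := by
      intro a ha
      apply hzero
      apply hzero
      rw [← pow_mul]
      have h4 : 3 ≤ p * p := by
        have := hpp.two_le
        nlinarith
      obtain ⟨k, hk⟩ := Nat.exists_eq_add_of_le h4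
      rw [hk, pow_add, ha, zero_mul]
    refine ⟨?_, ?_⟩
    · intro x y hxy
      obtain ⟨i, j, hij⟩ := exists_two_three p hpp.two_le
      obtain ⟨a, ha⟩ := hsurj (x ^ i * y ^ j)
      simp only at ha
      have h2 : a ^ 2 = x := by
        apply hinj'
        rw [← pow_mul, mul_comm, pow_mul, ha, mul_pow, ← pow_mul, ← pow_mul, mul_comm j 2, pow_mul y,
          ← hxy, ← pow_mul, ← pow_add, ← hij]
        ring_nf
      have h3 : a ^ 3 = y := by
        apply hinj'
        rw [← pow_mul, mul_comm, pow_mul, ha, mul_pow, ← pow_mul, ← pow_mul, mul_comm i 3, pow_mul x,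
          hxy, ← pow_mul, ← pow_add, ← hij]
        ring_nf
      refine ⟨a, ⟨h2.symm, h3.symm⟩, ?_⟩
      rintro b ⟨hb2, hb3⟩
      have : (b - a) ^ 3 = 0 := by
        rw [← h2] at hb2
        rw [← h3] at hb3
        linear_combination (-4 : A) * hb3 + (3 * a + 3 * b) * hb2
      have := hred _ this
      exact sub_eq_zero.mp this
    · intro q hq x y hxy
      by_cases hqp : q = p
      · subst hqp
        have hy : y = 0 := by
          apply hzero
          rw [← hxy, hp]
          simp [hp0]
        obtain ⟨a, ha⟩ := hsurj x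
        simp only at ha
        refine ⟨a, ⟨ha.symm, by simp [hp, hy]⟩, ?_⟩
        rintro b ⟨hb, -⟩
        apply hinj'
        rw [ha, ← hb]
      · have hcop : Nat.Coprime q p := (Nat.coprime_primes hq hpp).mpr hqp
        have hu : IsUnit ((q : ZMod p)) := (ZMod.isUnit_iff_coprime q p).mpr hcop
        have hu' : IsUnit ((q : A)) := by
          have := hu.map (algebraMap (ZMod p) A)
          simpa using this
        obtain ⟨u, hu⟩ := hu'.exists_left_inv
        refine ⟨u * y, ⟨?_, ?_⟩, ?_⟩
        · rw [mul_pow, ← hxy, ← mul_assoc, ← mul_pow, hu, one_pow, one_mul]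
        · rw [← mul_assoc, mul_comm _ u, hu, one_mul]
        · rintro b ⟨-, hb⟩
          rw [hb, ← mul_assoc, hu, one_mul]

end Groth.Agent.S8992
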