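import Groth.Statements.S8993
import Groth.Agent.Lib.Helper11.AWNRing2
import Groth.Agent.Lib.Helper11.UHPow
import Groth.Agent.S8992

set_option autoImplicit false
universe u
open HTop

namespace Groth.Agent.S8993

open Groth.Agent.Lib.Helper11.UHRing

/-- For a ring A of prime characteristic p, the map from A to the direct limit of A along Frobenius (the
perfect closure) is an absolute weak normalization of A. (The published statement also identifies,
over a base of characteristic p, the h sheafification of the structure sheaf on quasi-compact
quasi-separated objects with this colimit; that part is not stated here.) -/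
theorem result (p : ℕ) [Fact p.Prime] (A : Type u) [CommRing A] [CharP A p] : HTop.IsRingAWN (PerfectClosure.of A p) := by
  have hp : p.Prime := Fact.out
  have hpB : (p : PerfectClosure A p) = 0 := CharP.cast_eq_zero _ p
  have hUH : UH (PerfectClosure.of A p) := by
    refine UH_of_pow_mem _ p hp ?_ ?_
    · intro a ha
      have h0 : PerfectClosure.mk A p (0, a) = PerfectClosure.mk A p (0, 0) := by
        rw [← PerfectClosure.of_apply, ← PerfectClosure.of_apply, map_zero]
        exact ha
      rw [PerfectClosure.mk_eq_iff] at h0
      obtain ⟨z, hz⟩ := h0
      simp only [zero_add, iterate_frobenius, map_zero] at hz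
      have hz' : a ^ p ^ z = 0 := by
        rw [hz]
        exact zero_pow (pow_ne_zero z hp.ne_zero)
      exact ⟨p ^ z, hz'⟩
    · intro b
      induction b using PerfectClosure.induction_on with
      | _ x =>
        obtain ⟨n, a⟩ := x
        refine ⟨n + 1, ⟨0, ?_⟩, ⟨a ^ p, ?_⟩⟩
        · rw [map_zero, pow_succ, hpB, mul_zero, zero_mul]
        · have h1 : (frobenius (PerfectClosure A p) p)^[n] (PerfectClosure.mk A p (n, a)) =
              PerfectClosure.of A p a := PerfectClosure.iterate_frobenius_mk A p n a
          rw [iterate_frobenius] at h1
          rw [pow_succ, pow_mul, h1, map_pow]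
  letI := ZMod.algebra (PerfectClosure A p) p
  have hAWN : HTop.IsAWNRing (PerfectClosure A p) :=
    (Groth.Agent.S8992.result p (PerfectClosure A p)).mpr inferInstance
  exact isRingAWN_of_UH_of_isAWNRing hUH hAWN

end Groth.Agent.S8993
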