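import Groth.Statements.S8999
import Groth.Agent.Lib.Helper14.Impurity.ClosedImm

set_option autoImplicit false
universe u
open FlatMor

namespace Groth.Agent.S8999

/-- For affine finite type schemes over Spec A: purity and universal purity along a fibre of a finite
module are unchanged when the module is pushed forward along a closed immersion Spec C → Spec B (a
surjective algebra map B → C). -/
theorem result {A B C : Type u} [CommRing A] [CommRing B] [CommRing C] [Algebra A B] [Algebra B C] [Algebra A C] [IsScalarTower A B C] [Algebra.FiniteType A B] (hBC : Function.Surjective (algebraMap B C)) (N : Type u) [AddCommGroup N] [Module C N] [Module B N] [IsScalarTower B C N] [Module.Finite C N] (p : Ideal A) [p.IsPrime] : (FlatCA.IsPureAlong A C N p ↔ FlatCA.IsPureAlong A B N p) ∧ (FlatCA.IsUnivPureAlong A C N p ↔ FlatCA.IsUnivPureAlong A B N p) := by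
  refine ⟨⟨fun hC => ?_, fun hB => ?_⟩, ⟨fun hC => ?_, fun hB => ?_⟩⟩
  · intro A' B' N' _ _ _ _ _ _ _ _ _ _ _ _ _ _ f t' t _ _ P _ het
    exact Groth.Agent.Lib.Helper14.Impurity.not_isImpurity_of_forall_not_isImpurity_quotient hBC N p
      A' t' t (fun C' N'' _ _ _ _ _ _ _ _ _ _ _ _ g PC _ => hC A' C' N'' g t' t PC het) B' N' f P
  · intro A' C' N'' _ _ _ _ _ _ _ _ _ _ _ _ _ _ g t' t _ _ PC _ het
    exact Groth.Agent.Lib.Helper14.Impurity.not_isImpurity_quotient_of_forall_not_isImpurity hBC N p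
      A' t' t (fun B' N' _ _ _ _ _ _ _ _ _ _ _ _ f P _ => hB A' B' N' f t' t P het) C' N'' g PC
  · intro A' B' N' _ _ _ _ _ _ _ _ _ _ _ _ _ _ f t' t _ _ P _
    exact Groth.Agent.Lib.Helper14.Impurity.not_isImpurity_of_forall_not_isImpurity_quotient hBC N p
      A' t' t (fun C' N'' _ _ _ _ _ _ _ _ _ _ _ _ g PC _ => hC A' C' N'' g t' t PC) B' N' f P
  · intro A' C' N'' _ _ _ _ _ _ _ _ _ _ _ _ _ _ g t' t _ _ PC _
    exact Groth.Agent.Lib.Helper14.Impurity.not_isImpurity_quotient_of_forall_not_isImpurity hBC N p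
      A' t' t (fun B' N' _ _ _ _ _ _ _ _ _ _ _ _ f P _ => hB A' B' N' f t' t P) C' N'' g PC

end Groth.Agent.S8999
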