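import Groth.Statements.S9007
-- import your own Groth.Agent.* helpers here

set_option autoImplicit false
universe u
open FlatMor

namespace Groth.Agent.S9007

open CategoryTheory CategoryTheory.Limits AlgebraicGeometry in
/-- For a morphism f of compactifications of X over a quasi-compact quasi-separated S whose source
contains X as a dense open, the preimage under f of the image of X in the target is the image of X
in the source. -/
theorem result {X S : Scheme.{u}} [CompactSpace S] [QuasiSeparatedSpace S] (p : X ⟶ S) [IsSeparated p] [QuasiCompact p] [LocallyOfFiniteType p] {Y Y' : Scheme.{u}} (j : X ⟶ Y) (q : Y ⟶ S) [IsOpenImmersion j] [IsProper q] (h : j ≫ q = p) (j' : X ⟶ Y') (q' : Y' ⟶ S) [IsOpenImmersion j'] [IsProper q'] (h' : j' ≫ q' = p) (f : Y' ⟶ Y) (hf : f ≫ q = q') (hfj : j' ≫ f = j) (hd : Dense (Set.range j'.base)) : f ⁻¹ᵁ j.opensRange = j'.opensRange := by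
  have hfsep : IsSeparated f := by
    have : IsSeparated (f ≫ q) := by rw [hf]; infer_instance
    exact IsSeparated.of_comp f q
  have hle : j'.opensRange ≤ f ⁻¹ᵁ j.opensRange := by
    rintro _ ⟨x, rfl⟩
    show f.base (j'.base x) ∈ j.opensRange
    rw [← Scheme.Hom.comp_apply, hfj]
    exact ⟨x, rfl⟩
  refine le_antisymm ?_ hle
  let k : X ⟶ (f ⁻¹ᵁ j.opensRange : Y'.Opens) :=
    IsOpenImmersion.lift (f ⁻¹ᵁ j.opensRange).ι j' (by
      rw [Scheme.Opens.range_ι]
      exact hle)
  have hk : k ≫ (f ⁻¹ᵁ j.opensRange).ι = j' := IsOpenImmersion.lift_fac _ _ _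
  let r : ((f ⁻¹ᵁ j.opensRange : Y'.Opens) : Scheme) ⟶ X := (f ∣_ j.opensRange) ≫ j.isoOpensRange.inv
  have hkr : k ≫ r = 𝟙 X := by
    rw [← cancel_mono j]
    simp only [r, Category.assoc, Scheme.Hom.isoOpensRange_inv_comp, morphismRestrict_ι, Category.id_comp]
    rw [reassoc_of% hk, hfj]
  have hcl : IsClosedImmersion k := by
    have : IsClosedImmersion (k ≫ r) := by rw [hkr]; infer_instance
    exact IsClosedImmersion.of_comp k r
  have hclosed : IsClosed (Set.range k.base) := k.isClosedEmbedding.isClosed_range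
  have hdense : Dense (Set.range k.base) := by
    have h1 : Dense ((f ⁻¹ᵁ j.opensRange).ι.base ⁻¹' (Set.range j'.base)) :=
      hd.preimage (f ⁻¹ᵁ j.opensRange).ι.isOpenEmbedding.isOpenMap
    refine h1.mono ?_
    rintro u ⟨x, hx⟩
    refine ⟨x, ?_⟩
    apply (f ⁻¹ᵁ j.opensRange).ι.isOpenEmbedding.injective
    rw [← hx, ← Scheme.Hom.comp_apply, hk]
  have huniv : Set.range k.base = Set.univ := by
    rw [← hclosed.closure_eq, hdense.closure_eq]
  intro y hy
  obtain ⟨x, hx⟩ := huniv.ge (Set.mem_univ ⟨y, hy⟩)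
  refine ⟨x, ?_⟩
  rw [← hk, Scheme.Hom.comp_apply, hx]
  rfl

end Groth.Agent.S9007
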