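import Groth.Statements.S9011
import Mathlib
import Groth.Agent.Lib.Helper9.FiberAss
import Groth.Agent.Lib.Helper4.UnivInjProj

set_option autoImplicit false
universe u
open FlatMor

namespace Groth.Agent.S9011

section helpers

open TensorProduct IsLocalRing Groth.Agent.Lib.Helper9.FiberAss

attribute [local instance] Algebra.TensorProduct.rightAlgebra

variable {R : Type u} [CommRing R] [IsLocalRing R] (S : Type u) [CommRing S] [Algebra R S]
  (N : Type u) [AddCommGroup N] [Module S N] [Module R N] [IsScalarTower R S N]

/-- `κ ⊗_R N → (κ ⊗_R S) ⊗_S N`, `k ⊗ n ↦ (k ⊗ 1) ⊗ n`. -/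
noncomputable def phi :
    (maximalIdeal R).ResidueField ⊗[R] N →+ ((maximalIdeal R).Fiber S) ⊗[S] N :=
  TensorProduct.liftAddHom
    (AddMonoidHom.mk' (fun k => (TensorProduct.mk S ((maximalIdeal R).Fiber S) N
        (k ⊗ₜ[R] (1 : S))).toAddMonoidHom)
      (fun k k' => by
        ext n
        simp [TensorProduct.add_tmul]))
    (by
      intro r k n
      have h1 : ((r • k) ⊗ₜ[R] (1 : S) : (maximalIdeal R).Fiber S) =
          (algebraMap R S r) • (k ⊗ₜ[R] (1 : S) : (maximalIdeal R).Fiber S) := by
        rw [Algebra.smul_def (algebraMap R S r)]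
        show _ = ((1 : (maximalIdeal R).ResidueField) ⊗ₜ[R] (algebraMap R S r)) *
          (k ⊗ₜ[R] (1 : S))
        rw [Algebra.TensorProduct.tmul_mul_tmul, one_mul, mul_one, TensorProduct.smul_tmul,
          Algebra.algebraMap_eq_smul_one]
      show ((r • k) ⊗ₜ[R] (1 : S) : (maximalIdeal R).Fiber S) ⊗ₜ[S] n =
        (k ⊗ₜ[R] (1 : S) : (maximalIdeal R).Fiber S) ⊗ₜ[S] (r • n)
      rw [h1, TensorProduct.smul_tmul, algebraMap_smul])

lemma phi_tmul (k : (maximalIdeal R).ResidueField) (n : N) :
    phi S N (k ⊗ₜ[R] n) = (k ⊗ₜ[R] (1 : S) : (maximalIdeal R).Fiber S) ⊗ₜ[S] n := rfl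

lemma psi_phi (z : (maximalIdeal R).ResidueField ⊗[R] N) :
    psi (maximalIdeal R) S N (phi S N z) = z := by
  induction z using TensorProduct.induction_on with
  | zero => rw [map_zero, map_zero]
  | tmul k n =>
    rw [phi_tmul]
    show psiBil (maximalIdeal R) S N (k ⊗ₜ[R] (1 : S)) n = _
    rw [psiBil_tmul, one_smul]
  | add a b ha hb => rw [map_add, map_add, ha, hb]

lemma phi_lsmul (s : S) (z : (maximalIdeal R).ResidueField ⊗[R] N) :
    phi S N ((((LinearMap.lsmul S N s).restrictScalars R).lTensor _) z) = s • phi S N z := by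
  induction z using TensorProduct.induction_on with
  | zero => rw [map_zero, map_zero, smul_zero]
  | tmul k n =>
    rw [LinearMap.lTensor_tmul, phi_tmul, phi_tmul]
    show _ ⊗ₜ[S] (s • n) = _
    rw [TensorProduct.tmul_smul]
  | add a b ha hb => rw [map_add, map_add, ha, hb, map_add, smul_add]

omit [Module S N] [IsScalarTower R S N] in
lemma injective_lTensor_residueField_of (u : N →ₗ[R] N)
    (h : Function.Injective (u.lTensor (maximalIdeal R).ResidueField)) :
    Function.Injective (u.lTensor (IsLocalRing.ResidueField R)) := by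
  obtain ⟨e, -⟩ : ∃ e : IsLocalRing.ResidueField R ≃ₗ[R] (maximalIdeal R).ResidueField, True :=
    ⟨LinearEquiv.ofBijective
      ((IsScalarTower.toAlgHom R (R ⧸ maximalIdeal R)
        (maximalIdeal R).ResidueField).toLinearMap)
      (Ideal.bijective_algebraMap_quotient_residueField (maximalIdeal R)), trivial⟩
  have hc : ∀ z, (e.toLinearMap.rTensor N) ((u.lTensor _) z) =
      (u.lTensor _) ((e.toLinearMap.rTensor N) z) := fun z => by
    rw [← LinearMap.comp_apply, ← LinearMap.comp_apply, LinearMap.rTensor_comp_lTensor,
      LinearMap.lTensor_comp_rTensor]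
  have hinj : Function.Injective (e.toLinearMap.rTensor N) := (LinearEquiv.rTensor N e).injective
  rw [injective_iff_map_eq_zero]
  intro z hz
  apply hinj
  rw [map_zero]
  apply h
  rw [map_zero, ← hc, hz, map_zero]

end helpers


open IsLocalRing in
/-- For a local ring R with maximal ideal m, an R-algebra S with S/mS Noetherian and an S-module N with
N/mN finite over S/mS which is projective as an R-module, every element of S that is a
nonzerodivisor on N/mN acts R-universally injectively on N, and the map from N to its localization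
at all such elements is R-universally injective. -/
theorem result {R S : Type u} [CommRing R] [IsLocalRing R] [CommRing S] [Algebra R S] (N : Type u) [AddCommGroup N] [Module S N] [Module R N] [IsScalarTower R S N] [IsNoetherianRing ((maximalIdeal R).Fiber S)] [Module.Finite ((maximalIdeal R).Fiber S) (FlatCA.fiberMod (maximalIdeal R) S N)] [Module.Projective R N] : (∀ s ∈ FlatCA.nzdFiber R S N, FlatCA.UnivInj R ((LinearMap.lsmul S N s).restrictScalars R)) ∧ FlatCA.UnivInj R ((LocalizedModule.mkLinearMap (FlatCA.nzdFiber R S N) N).restrictScalars R) := by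
  classical
  have part1 : ∀ s ∈ FlatCA.nzdFiber R S N,
      FlatCA.UnivInj R ((LinearMap.lsmul S N s).restrictScalars R) := by
    intro s hs Q _ _
    apply Groth.Agent.Lib.Helper4.UnivInjProj.injective_lTensor_of_projective
    apply injective_lTensor_residueField_of
    rw [injective_iff_map_eq_zero]
    intro z hz
    have h1 : s • phi S N z = 0 := by rw [← phi_lsmul, hz, map_zero]
    have h2 : phi S N z = 0 := (mem_nonZeroSMulDivisors_iff.mp hs) _ h1
    rw [← psi_phi S N z, h2, map_zero]
  refine ⟨part1, ?_⟩
  intro Q _ _
  rw [injective_iff_map_eq_zero]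
  intro z hz
  have hloc : IsLocalizedModule (FlatCA.nzdFiber R S N)
      (TensorProduct.AlgebraTensorModule.rTensor R Q
        (LocalizedModule.mkLinearMap (FlatCA.nzdFiber R S N) N)) := inferInstance
  have hcomm : ∀ y : TensorProduct R Q N,
      (TensorProduct.AlgebraTensorModule.rTensor R Q
        (LocalizedModule.mkLinearMap (FlatCA.nzdFiber R S N) N))
        (TensorProduct.comm R Q N y) =
      TensorProduct.comm R Q _ ((((LocalizedModule.mkLinearMap
        (FlatCA.nzdFiber R S N) N).restrictScalars R).lTensor Q) y) := by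
    intro y
    induction y using TensorProduct.induction_on with
    | zero => simp only [map_zero]
    | tmul q n => rfl
    | add a b ha hb => simp only [map_add, ha, hb]
  have hw : (TensorProduct.AlgebraTensorModule.rTensor R Q
      (LocalizedModule.mkLinearMap (FlatCA.nzdFiber R S N) N))
      (TensorProduct.comm R Q N z) = 0 := by
    rw [hcomm, hz, map_zero]
  obtain ⟨⟨t, ht⟩, htw⟩ := (IsLocalizedModule.eq_zero_iff (FlatCA.nzdFiber R S N) _).mp hw
  have hsm : ∀ y : TensorProduct R Q N,
      TensorProduct.comm R Q N ((((LinearMap.lsmul S N t).restrictScalars R).lTensor Q) y) =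
        t • (TensorProduct.comm R Q N y) := by
    intro y
    induction y using TensorProduct.induction_on with
    | zero => simp only [map_zero, smul_zero]
    | tmul q n =>
      show TensorProduct.tmul R (t • n) q = t • (TensorProduct.tmul R n q)
      rw [TensorProduct.smul_tmul']
    | add a b ha hb => simp only [map_add, ha, hb, smul_add]
  have h0 : (((LinearMap.lsmul S N t).restrictScalars R).lTensor Q) z = 0 := by
    apply (TensorProduct.comm R Q N).injective
    rw [hsm, map_zero]
    exact htw
  exact (injective_iff_map_eq_zero _).mp (part1 t ht Q) z h0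

end Groth.Agent.S9011
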