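import Groth.Statements.S9012
import Mathlib
import Groth.Agent.Lib.Helper17.PbFlatOver
import Groth.Agent.Lib.Helper17.GenPSpSheaf

set_option autoImplicit false
universe u
open FlatMor

namespace Groth.Agent.S9012

open CategoryTheory CategoryTheory.Limits AlgebraicGeometry Opposite in
/-- For f : X → S and a quasi-coherent O_X-module F, the functor F_flat on schemes over S (one point on
T when the base change F_T on X_T = X ×_S T is flat over T, empty otherwise; written as the
subfunctor of the final functor generated by that condition, which agrees with it because flatness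
is preserved by base change) satisfies the sheaf condition for the fpqc topology. -/
theorem result {X S : Scheme.{u}} (f : X ⟶ S) (F : X.Modules) [Coh.IsQCoh F] :
    Presheaf.IsSheaf (QuotSh.J Scheme.fpqcPrecoverage S)
      (FlatFun.genPSp S (fun T => FlatMod.IsFlatOver (PicF.XTproj f T) (FGA.ET f F T))) := by
  apply Groth.Agent.Lib.Helper17.GenPSpSheaf.isSheaf_genPSp_fpqc
  · intro T T₀ k h0
    exact Groth.Agent.Lib.Helper17.PbFlatOver.isFlatOver_of_hom f F k h0
  · intro T ι Ti g hsurj hflat hP
    haveI := hflat
    exact Groth.Agent.Lib.Helper17.PbFlatOver.isFlatOver_of_family f F Ti g hsurj hP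

end Groth.Agent.S9012
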