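import Groth.Statements.S9018
import Mathlib
import Groth.Agent.Lib.Helper17.XTLimit
import Groth.Agent.Lib.Helper17.PbEpi
import Groth.Agent.S0020

set_option autoImplicit false
universe u
open FlatMor

namespace Groth.Agent.S9018

open CategoryTheory CategoryTheory.Limits AlgebraicGeometry Opposite in
/-- For f : X → S quasi-compact and a homomorphism u : F → G of quasi-coherent O_X-modules with G of
finite type, the functor F_surj (one point on T when the base change u_T on X ×_S T is an
epimorphism of O-modules, empty otherwise; the subfunctor of the final functor generated by that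
condition) is limit preserving. -/
theorem result {X S : Scheme.{u}} (f : X ⟶ S) [QuasiCompact f] {F G : X.Modules} [Coh.IsQCoh F] [Coh.IsQCoh G]
    (hG : CohB1.IsFT G) (u : F ⟶ G) :
    AlgSp.IsLimitPreserving (FlatFun.genPSp S (fun T => Epi ((Scheme.Modules.pullback (pullback.fst f T.hom)).map u))) := by
  haveI : G.IsFiniteType := hG
  haveI : (cokernel u : X.Modules).IsFiniteType :=
    Groth.Agent.Lib.Helper3.QCProps.isFiniteType_of_epi (cokernel.π u)
  have hZ : IsClosed (CohB1.support (cokernel u : X.Modules)) :=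
    Groth.Agent.S0020.result X _ inferInstance
  apply Groth.Agent.Lib.Helper17.XTLimit.isLimitPreserving_genPSp
  · intro T T₀ k h0
    rw [Groth.Agent.Lib.Helper17.PbCover.epi_pullback_comp_iff
      (Groth.Agent.Lib.Helper17.PbCover.bcMap f k) (pullback.fst f T₀.hom) (pullback.fst f T.hom)
      (Groth.Agent.Lib.Helper17.PbCover.bcMap_fst f k) u]
    have := h0
    infer_instance
  · intro I _ _ D c hc hD hT hP
    rw [Groth.Agent.Lib.Helper17.PbEpi.epi_pullback_map_iff] at hP
    let D' : I ⥤ Scheme.{u} := D ⋙ Groth.Agent.Lib.Helper17.XTLimit.XTfun f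
    let c' : Cone D' := (Groth.Agent.Lib.Helper17.XTLimit.XTfun f).mapCone c
    have hc' : IsLimit c' := Groth.Agent.Lib.Helper17.XTLimit.isLimitXT f D c hc
    haveI : ∀ {i j : I} (g : i ⟶ j), IsAffineHom (D'.map g) := fun {i j} g => by
      haveI := hD i
      haveI := hD j
      haveI : IsAffineHom (D.map g).left := inferInstance
      exact Groth.Agent.Lib.Helper17.XTLimit.isAffineHom_bcMap f (D.map g)
    haveI : ∀ i, CompactSpace (D'.obj i) := fun i => by
      haveI := hD i
      exact Groth.Agent.Lib.Helper17.XTLimit.compactSpace_XT f (D.obj i)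
    let i₀ : I := (IsCofiltered.nonempty (C := I)).some
    let Uc : X.Opens := ⟨(CohB1.support (cokernel u : X.Modules))ᶜ, hZ.isOpen_compl⟩
    let U : (D'.obj i₀).Opens := (pullback.fst f (D.obj i₀).hom) ⁻¹ᵁ Uc
    have hU : c'.π.app i₀ ⁻¹ᵁ U = ⊤ := by
      ext y
      simp only [TopologicalSpace.Opens.coe_top, Set.mem_univ, iff_true]
      change (pullback.fst f (D.obj i₀).hom)
        ((Groth.Agent.Lib.Helper17.PbCover.bcMap f (c.π.app i₀)) y) ∈ Uc
      rw [← Scheme.Hom.comp_apply, Groth.Agent.Lib.Helper17.PbCover.bcMap_fst]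
      change ¬ ¬ Subsingleton _
      rw [not_not]
      exact hP y
    obtain ⟨j, fji, hj⟩ := exists_map_eq_top D' c' hc' U hU
    refine ⟨j, ?_⟩
    rw [Groth.Agent.Lib.Helper17.PbEpi.epi_pullback_map_iff]
    intro y
    have hy : (show ↥(D'.obj j) from y) ∈ (D'.map fji ⁻¹ᵁ U : (D'.obj j).Opens) := by
      rw [hj]; trivial
    have hy2 : (pullback.fst f (D.obj i₀).hom)
        ((Groth.Agent.Lib.Helper17.PbCover.bcMap f (D.map fji)) y) ∈ Uc := hy
    rw [← Scheme.Hom.comp_apply, Groth.Agent.Lib.Helper17.PbCover.bcMap_fst] at hy2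
    have hy3 : ¬ ¬ Subsingleton ((cokernel u : X.Modules).presheaf.stalk
      ((pullback.fst f (D.obj j).hom) y)) := hy2
    exact not_not.mp hy3

end Groth.Agent.S9018
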