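import Groth.Statements.S9019
import Mathlib
import Groth.Agent.Lib.Helper17.PbLimit

set_option autoImplicit false
universe u
open FlatMor

namespace Groth.Agent.S9019

open CategoryTheory CategoryTheory.Limits AlgebraicGeometry Opposite in
/-- For f : X → S quasi-compact and a homomorphism u : F → G of quasi-coherent O_X-modules with F of
finite type, the functor F_zero (one point on T when the base change u_T on X ×_S T is zero, empty
otherwise; the subfunctor of the final functor generated by that condition) is limit preserving. -/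
theorem result {X S : Scheme.{u}} (f : X ⟶ S) [QuasiCompact f] {F G : X.Modules} [Coh.IsQCoh F] [Coh.IsQCoh G]
    (hF : CohB1.IsFT F) (u : F ⟶ G) :
    AlgSp.IsLimitPreserving (FlatFun.genPSp S (fun T => ((Scheme.Modules.pullback (pullback.fst f T.hom)).map u) = 0)) := by
  haveI : F.IsFiniteType := hF
  apply Groth.Agent.Lib.Helper17.XTLimit.isLimitPreserving_genPSp
  · intro T T₀ k h0
    rw [Groth.Agent.Lib.Helper17.PbZero.zero_pullback_comp_iff
      (Groth.Agent.Lib.Helper17.PbCover.bcMap f k) (pullback.fst f T₀.hom) (pullback.fst f T.hom)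
      (Groth.Agent.Lib.Helper17.PbCover.bcMap_fst f k) u, h0]
    exact Functor.map_zero _ _ _
  · intro I _ _ D c hc hD hT hP
    let D' : I ⥤ Scheme.{u} := D ⋙ Groth.Agent.Lib.Helper17.XTLimit.XTfun f
    let c' : Cone D' := (Groth.Agent.Lib.Helper17.XTLimit.XTfun f).mapCone c
    have hc' : IsLimit c' := Groth.Agent.Lib.Helper17.XTLimit.isLimitXT f D c hc
    haveI : ∀ {i j : I} (g : i ⟶ j), IsAffineHom (D'.map g) := fun {i j} g => by
      haveI := hD i
      haveI := hD j
      haveI : IsAffineHom (D.map g).left := inferInstance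
      exact Groth.Agent.Lib.Helper17.XTLimit.isAffineHom_bcMap f (D.map g)
    haveI : ∀ i, CompactSpace (D'.obj i) := fun i => by
      haveI := hD i
      exact Groth.Agent.Lib.Helper17.XTLimit.compactSpace_XT f (D.obj i)
    exact Groth.Agent.Lib.Helper17.PbLimit.exists_map_eq_zero D' c' hc'
      (fun i => pullback.fst f (D.obj i).hom)
      (fun g => Groth.Agent.Lib.Helper17.PbCover.bcMap_fst f (D.map g)) u
      (pullback.fst f c.pt.hom)
      (fun i => Groth.Agent.Lib.Helper17.PbCover.bcMap_fst f (c.π.app i)) hP

end Groth.Agent.S9019
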