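import Groth.Statements.S9020
import Mathlib
import Groth.Agent.Lib.Helper17.PbLimit

set_option autoImplicit false
universe u
open FlatMor

namespace Groth.Agent.S9020

open CategoryTheory CategoryTheory.Limits AlgebraicGeometry Opposite in
/-- For f : X → S quasi-compact and a homomorphism u : F → G of quasi-coherent O_X-modules with F of
finite type and G of finite presentation, the functor F_iso (one point on T when the base change u_T
on X ×_S T is an isomorphism, empty otherwise; the subfunctor of the final functor generated by that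
condition) is limit preserving. -/
theorem result {X S : Scheme.{u}} (f : X ⟶ S) [QuasiCompact f] {F G : X.Modules} [Coh.IsQCoh F] [Coh.IsQCoh G]
    (hF : CohB1.IsFT F) (hG : CohB1.IsFP G) (u : F ⟶ G) :
    AlgSp.IsLimitPreserving (FlatFun.genPSp S (fun T => IsIso ((Scheme.Modules.pullback (pullback.fst f T.hom)).map u))) := by
  haveI : F.IsFiniteType := hF
  haveI hGfp : SheafOfModules.IsFinitePresentation (R := X.ringCatSheaf) G := hG
  apply Groth.Agent.Lib.Helper17.XTLimit.isLimitPreserving_genPSp
  · intro T T₀ k h0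
    rw [Groth.Agent.Lib.Helper17.PbCover.isIso_pullback_comp_iff
      (Groth.Agent.Lib.Helper17.PbCover.bcMap f k) (pullback.fst f T₀.hom) (pullback.fst f T.hom)
      (Groth.Agent.Lib.Helper17.PbCover.bcMap_fst f k) u]
    have := h0
    infer_instance
  · intro I _ _ D c hc hD hT hP
    let D' : I ⥤ Scheme.{u} := D ⋙ Groth.Agent.Lib.Helper17.XTLimit.XTfun f
    let c' : Cone D' := (Groth.Agent.Lib.Helper17.XTLimit.XTfun f).mapCone c
    have hc' : IsLimit c' := Groth.Agent.Lib.Helper17.XTLimit.isLimitXT f D c hc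
    haveI hAff : ∀ {i j : I} (g : i ⟶ j), IsAffineHom (D'.map g) := fun {i j} g => by
      haveI := hD i
      haveI := hD j
      haveI : IsAffineHom (D.map g).left := inferInstance
      exact Groth.Agent.Lib.Helper17.XTLimit.isAffineHom_bcMap f (D.map g)
    haveI hCpt : ∀ i, CompactSpace (D'.obj i) := fun i => by
      haveI := hD i
      exact Groth.Agent.Lib.Helper17.XTLimit.compactSpace_XT f (D.obj i)
    let pr : ∀ i, D'.obj i ⟶ X := fun i => pullback.fst f (D.obj i).hom
    have hpr : ∀ {i j : I} (g : i ⟶ j), D'.map g ≫ pr j = pr i :=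
      fun g => Groth.Agent.Lib.Helper17.PbCover.bcMap_fst f (D.map g)
    let prT : c'.pt ⟶ X := pullback.fst f c.pt.hom
    have hprT : ∀ i, c'.π.app i ≫ pr i = prT :=
      fun i => Groth.Agent.Lib.Helper17.PbCover.bcMap_fst f (c.π.app i)
    -- epimorphy at a finite stage
    haveI hP' : IsIso ((Scheme.Modules.pullback prT).map u) := hP
    obtain ⟨i₁, hepi⟩ := Groth.Agent.Lib.Helper17.PbLimit.exists_epi D' c' hc' pr hpr u prT hprT
      inferInstance
    -- the kernel at stage `i₁`
    let F₁ := (Scheme.Modules.pullback (pr i₁)).obj F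
    let G₁ := (Scheme.Modules.pullback (pr i₁)).obj G
    let u₁ : F₁ ⟶ G₁ := (Scheme.Modules.pullback (pr i₁)).map u
    haveI : Epi u₁ := hepi
    haveI : F₁.IsQuasicoherent := Groth.Agent.Lib.Helper17.PbStalk.isQuasicoherent_pullback _ F
    haveI : G₁.IsQuasicoherent := Groth.Agent.Lib.Helper17.PbStalk.isQuasicoherent_pullback _ G
    haveI : F₁.IsFiniteType := Groth.Agent.Lib.Helper17.PbFinite.isFiniteType_pullback _ F
    haveI : SheafOfModules.IsFinitePresentation (R := (D'.obj i₁).ringCatSheaf) G₁ :=
      Groth.Agent.Lib.Helper17.PbFinite.isFinitePresentation_pullback _ G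
    haveI : (kernel u₁ : (D'.obj i₁).Modules).IsQuasicoherent :=
      Groth.Agent.Lib.Helper3.QCProps.isQuasicoherent_kernel u₁
    haveI : (kernel u₁ : (D'.obj i₁).Modules).IsFiniteType :=
      Groth.Agent.Lib.Helper17.PbFinite.isFiniteType_kernel_of_epi u₁
    -- the system over `i₁`
    let D'' : Over i₁ ⥤ Scheme.{u} := Over.forget i₁ ⋙ D'
    let c'' : Cone D'' := c'.whisker (Over.forget i₁)
    have hc'' : IsLimit c'' := (Functor.Initial.isLimitWhiskerEquiv (Over.forget i₁) c').symm hc'
    haveI : ∀ {j k : Over i₁} (g : j ⟶ k), IsAffineHom (D''.map g) := fun g => hAff g.left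
    haveI : ∀ j, CompactSpace (D''.obj j) := fun j => hCpt j.left
    have hiso : IsIso ((Scheme.Modules.pullback (c'.π.app i₁)).map u₁) :=
      (Groth.Agent.Lib.Helper17.PbCover.isIso_pullback_comp_iff (c'.π.app i₁) (pr i₁) prT
        (hprT i₁) u).1 hP'
    have hP'' : (Scheme.Modules.pullback (c'.π.app i₁)).map (kernel.ι u₁) = 0 := by
      haveI := hiso
      rw [← cancel_mono ((Scheme.Modules.pullback (c'.π.app i₁)).map u₁), ← Functor.map_comp,
        kernel.condition, zero_comp]
      exact Functor.map_zero _ _ _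
    obtain ⟨j, hj⟩ := Groth.Agent.Lib.Helper17.PbLimit.exists_map_eq_zero D'' c'' hc''
      (fun j => D'.map j.hom) (fun {j k} g => by
        change D'.map g.left ≫ D'.map k.hom = D'.map j.hom
        rw [← D'.map_comp, Over.w g]) (kernel.ι u₁) (c'.π.app i₁)
      (fun j => c'.w j.hom) hP''
    refine ⟨j.left, ?_⟩
    refine (Groth.Agent.Lib.Helper17.PbCover.isIso_pullback_comp_iff (D'.map j.hom) (pr i₁)
      (pr j.left) (hpr j.hom) u).2 ?_
    exact Groth.Agent.Lib.Helper17.PbLimit.isIso_map_of_map_kernel_ι_eq_zero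
      (Scheme.Modules.pullback (D'.map j.hom)) u₁ hj

end Groth.Agent.S9020
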