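import Groth.Statements.S9048
import Groth.Agent.Lib.Helper2.ExtUnitH
import Groth.Agent.Lib.Helper5.ExtAdjAcyclic

set_option autoImplicit false
universe u
open CategoryTheory CategoryTheory.Limits Opposite
open ModSite

namespace Groth.Agent.S9048

/-- On a ringed site (C, O), for a sheaf of sets K and an O-module F with underlying abelian sheaf F_ab,
the cohomology groups H^p(K, F) computed on Mod(O) — the derived functors of F ↦ Mor(K, F), i.e. the
Ext groups out of the free O-module O[K] on K — agree with H^p(K, F_ab) computed on abelian sheaves.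
Stated as the existence of a group isomorphism; the Ext groups of Mod(O) are an instance hypothesis. -/
theorem result
    {C : Type u} [SmallCategory C] {J : GrothendieckTopology C} (O : Sheaf J CommRingCat.{u})
    [HasExt.{u} (ModSite.Mod O)] (K : Sheaf J (Type u)) (F : ModSite.Mod O) (p : ℕ) :
    Nonempty (Abelian.Ext ((ModSite.sheafify O).obj ((PresheafOfModules.free (ModSite.ringSh O).obj).obj K.obj)) F p ≃+
      CohCx.HK K (ModSite.toAb F) p) := by
  open Groth.Agent.Lib.Helper2.ModHomAcyclic Groth.Agent.Lib.Helper5 in
  classical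
  haveI : EnoughInjectives (ModSite.Mod O) :=
    Groth.Agent.Lib.Helper13.ModGrothendieck.enoughInjectives (ModSite.ringSh O)
  have hR : ∀ I : ModSite.Mod O, Injective I → ∀ (n : ℕ)
      (x : Abelian.Ext ((CechFlasque.Φ J).obj K) ((toAbF O).obj I) (n + 1)), x = 0 := by
    intro I hI n x
    have := Groth.Agent.Lib.Helper2.ExtUnitH.isTotallyAcyclic_of_injective O I K n
    exact this.elim x 0
  let e1 := ExtAdjAcyclic.extAdjEquivAcyclic (adjLO O) ((CechFlasque.Φ J).obj K) hR F p
  let e2 := Groth.Agent.Lib.Helper13.ExtAdj.extIsoLeft ((freeLOIso O).app K) F p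
  exact ⟨e2.trans e1⟩

end Groth.Agent.S9048
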