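import Groth.Statements.S9052
import Mathlib
import Groth.Agent.Lib.Helper21.CyclesMono
import Groth.Agent.Lib.Helper2.Tot.ModSiteSymm
import Groth.Agent.Lib.Helper2.LDer.Single

set_option autoImplicit false
universe u
open CategoryTheory CategoryTheory.Limits Opposite
open ModSite

namespace Groth.Agent.S9052

/-- On a ringed site (C, O), let K be a K-flat, acyclic complex of O-modules whose terms are flat. Then
for every n the kernel of K^n → K^{n+1} (the module of n-cycles) is a flat O-module. Here a complex
K of O-modules is called K-flat when for every acyclic complex L of O-modules the total complex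
Tot(L ⊗_O K) is acyclic; this property enters only as a hypothesis. The instance binders saying that
the tensor bifunctor preserves zero morphisms always hold and are needed only to form total
complexes. -/
theorem result
    {C : Type u} [SmallCategory C] {J : GrothendieckTopology C} (O : Sheaf J CommRingCat.{u})
    [(ModSite.tensorBi O).PreservesZeroMorphisms] [∀ X : ModSite.Mod O, ((ModSite.tensorBi O).obj X).PreservesZeroMorphisms]
    (K : CochainComplex (ModSite.Mod O) ℤ)
    (hK : ∀ L : CochainComplex (ModSite.Mod O) ℤ, L.Acyclic →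
      (HomologicalComplex.mapBifunctor L K (ModSite.tensorBi O) (ComplexShape.up ℤ)).Acyclic)
    (hac : K.Acyclic) (hfl : ∀ i : ℤ, ModSite.IsFlat (K.X i)) (n : ℤ) :
    ModSite.IsFlat (K.cycles n) := by
  classical
  have hK' : Groth.Agent.Lib.Helper2.Tot.KFlat (ModSite.tensorBi O) K := fun L hL => hK L hL
  have hA : ∀ G : ModSite.Mod O,
      ((((ModSite.tensorBi O).obj G).mapHomologicalComplex (ComplexShape.up ℤ)).obj K).Acyclic := by
    intro G
    obtain ⟨P, q, hP, hPflip, _, hq, _⟩ :=
      Groth.Agent.Lib.Helper2.Tot.MS.exists_resolution (O := O) (Groth.Agent.Lib.Helper2.LDer.sgl G)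
    have h1 : (HomologicalComplex.mapBifunctor P K (ModSite.tensorBi O) (ComplexShape.up ℤ)).Acyclic :=
      (Groth.Agent.Lib.Helper2.Tot.kflat_flip_iff P).1 hPflip K hac
    haveI := hq
    haveI h2 : QuasiIso (HomologicalComplex.mapBifunctorMap q (𝟙 K) (ModSite.tensorBi O)
        (ComplexShape.up ℤ)) :=
      Groth.Agent.Lib.Helper2.Tot.quasiIso_map₁_of_kflat hK' q
    have h3 : (HomologicalComplex.mapBifunctor (Groth.Agent.Lib.Helper2.LDer.sgl G) K
        (ModSite.tensorBi O) (ComplexShape.up ℤ)).Acyclic :=
      Groth.Agent.Lib.Helper2.Tot.acyclic_of_quasiIso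
        (HomologicalComplex.mapBifunctorMap q (𝟙 K) (ModSite.tensorBi O) (ComplexShape.up ℤ)) h1
    have e1 := Groth.Agent.Lib.Helper2.LDer.singleIso (ModSite.tensorBi O).flip K G
    have e2 := HomologicalComplex.mapBifunctorFlipIso (Groth.Agent.Lib.Helper2.LDer.sgl G) K
      (ModSite.tensorBi O) (ComplexShape.up ℤ)
    exact Groth.Agent.Lib.Helper2.Tot.acyclic_of_iso (e1 ≪≫ e2).symm h3
  apply Groth.Agent.Lib.Helper13.ModSiteFlatSES.isFlat_of_mono
  intro G' G a ha
  have hnat := ((ModSite.tensorBi O).map a).naturality (K.iCycles n)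
  have m1 : Mono (((ModSite.tensorBi O).obj G').map (K.iCycles n)) :=
    Groth.Agent.Lib.Helper21.CyclesMono.mono_map_iCycles ((ModSite.tensorBi O).obj G') K hac (hA G') n
  have m2 : Mono (((ModSite.tensorBi O).map a).app (K.X n)) :=
    Groth.Agent.Lib.Helper13.ModSiteFlatSES.mono_map_app_of_isFlat (hfl n) a
  have m3 : Mono (((ModSite.tensorBi O).map a).app (K.cycles n) ≫
      ((ModSite.tensorBi O).obj G).map (K.iCycles n)) := by
    rw [← hnat]
    exact mono_comp _ _
  exact mono_of_mono _ (((ModSite.tensorBi O).obj G).map (K.iCycles n))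

end Groth.Agent.S9052
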