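import Groth.Statements.S9070
import Groth.Agent.S9064
import Groth.Agent.Lib.Helper5.EquivUnbdd
import Groth.Agent.Lib.Helper5.ModGen
import Groth.Agent.Lib.Helper2.KInj.DProd
import Groth.Agent.Lib.Helper13.ModGrothendieck

set_option autoImplicit false
universe u
open CategoryTheory CategoryTheory.Limits Opposite
attribute [local instance] HasDerivedCategory.standard
open SiteCmp

namespace Groth.Agent.S9070

/-- Let f be a flat morphism from the ringed site (C, O_C) to the ringed site (D, O_D) and A ⊂ Mod(O_C),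
A' ⊂ Mod(O_D) weak Serre subcategories such that (2) f^* restricts to an equivalence from A' onto A,
(3) the unit F' → Rf_*f^*F' is invertible for each F' ∈ A', and (4), (5) each of C, O_C, A and D,
O_D, A' admits a set of objects covering everything, every member V having an integer d_V and a
cofinal system of coverings {V_i → V} with H^p(V_i, F) = 0 for F in the subcategory and p > d_V.
Then f^* : D_{A'}(O_D) → D_A(O_C) is an equivalence with quasi-inverse Rf_*: on objects with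
cohomology sheaves in A' (resp. A) the functor f^* (resp. Rf_*) lands in objects with cohomology
sheaves in A (resp. A') and the unit (resp. counit) is an isomorphism there. The adjunction f^* ⊣
Rf_* on unbounded derived categories is a hypothesis; f^* is exact, so it is its own derived
functor. Stated for ringed sites; the published statement is for ringed topoi. -/
theorem result
    {C : Type u} [SmallCategory C] {J : GrothendieckTopology C} {O_C : Sheaf J CommRingCat.{u}}
    {D : Type u} [SmallCategory D] {K : GrothendieckTopology D} {O_D : Sheaf K CommRingCat.{u}}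
    (f : ModSite.RMor O_C O_D) [PreservesFiniteLimits f.pull] [SiteCmp.HasRpushD f]
    (adj : SiteCmp.pullD f ⊣ SiteCmp.RpushD f)
    (A : ObjectProperty (ModSite.Mod O_C)) [WSerre.IsWeakSerre A]
    (A' : ObjectProperty (ModSite.Mod O_D)) [WSerre.IsWeakSerre A']
    (h2a : ∀ F' : ModSite.Mod O_D, A' F' → A (f.pull.obj F'))
    (h2b : ∀ F' G' : ModSite.Mod O_D, A' F' → A' G' →
      Function.Bijective (fun φ : F' ⟶ G' => f.pull.map φ))
    (h2c : ∀ F : ModSite.Mod O_C, A F → ∃ F' : ModSite.Mod O_D, A' F' ∧ Nonempty (f.pull.obj F' ≅ F))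
    (h3 : ∀ F' : ModSite.Mod O_D, A' F' → IsIso (adj.unit.app (SiteCmp.inD O_D F')))
    (B : Set C) (B' : Set D)
    (hB : ∀ U : C, ∃ (ι : Type u) (Y : ι → C) (g : ∀ i, Y i ⟶ U), Sieve.ofArrows Y g ∈ J U ∧ ∀ i, Y i ∈ B)
    (hA : ∀ V ∈ B, ∃ d : ℕ, ∀ T ∈ J V, ∃ (ι : Type u) (Y : ι → C) (g : ∀ i, Y i ⟶ V),
      (∀ i, T.arrows (g i)) ∧ Sieve.ofArrows Y g ∈ J V ∧
      ∀ (i : ι) (F : ModSite.Mod O_C), A F → ∀ k : ℕ, d < k → Subsingleton (ModSite.HU O_C F k (Y i)))
    (hB' : ∀ U : D, ∃ (ι : Type u) (Y : ι → D) (g : ∀ i, Y i ⟶ U), Sieve.ofArrows Y g ∈ K U ∧ ∀ i, Y i ∈ B')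
    (hA' : ∀ V ∈ B', ∃ d : ℕ, ∀ T ∈ K V, ∃ (ι : Type u) (Y : ι → D) (g : ∀ i, Y i ⟶ V),
      (∀ i, T.arrows (g i)) ∧ Sieve.ofArrows Y g ∈ K V ∧
      ∀ (i : ι) (F : ModSite.Mod O_D), A' F → ∀ k : ℕ, d < k → Subsingleton (ModSite.HU O_D F k (Y i))) :
    (∀ Y : DerivedCategory (ModSite.Mod O_D), WSerre.cohIn A' Y →
      WSerre.cohIn A ((SiteCmp.pullD f).obj Y) ∧ IsIso (adj.unit.app Y)) ∧
    (∀ X : DerivedCategory (ModSite.Mod O_C), WSerre.cohIn A X →
      WSerre.cohIn A' ((SiteCmp.RpushD f).obj X) ∧ IsIso (adj.counit.app X)) := by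
  open Groth.Agent.Lib.Helper5 Groth.Agent.Lib.Helper2.ModHomAcyclic in
  haveI : IsGrothendieckAbelian.{u} (ModSite.Mod O_C) :=
    Groth.Agent.Lib.Helper13.ModGrothendieck.isGrothendieckAbelian (ModSite.ringSh O_C)
  haveI : IsGrothendieckAbelian.{u} (ModSite.Mod O_D) :=
    Groth.Agent.Lib.Helper13.ModGrothendieck.isGrothendieckAbelian (ModSite.ringSh O_D)
  haveI hpC : HasProducts.{u} (DerivedCategory (ModSite.Mod O_C)) :=
    Groth.Agent.Lib.Helper2.KInj.DProd.hasProducts
  haveI hpD : HasProducts.{u} (DerivedCategory (ModSite.Mod O_D)) :=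
    Groth.Agent.Lib.Helper2.KInj.DProd.hasProducts
  haveI : HasLimitsOfShape (Discrete ℕ) (DerivedCategory (ModSite.Mod O_C)) :=
    hasLimitsOfShape_of_equivalence (Discrete.equivalence (Equiv.ulift.{u, 0} (α := ℕ)))
  haveI : HasLimitsOfShape (Discrete ℕ) (DerivedCategory (ModSite.Mod O_D)) :=
    hasLimitsOfShape_of_equivalence (Discrete.equivalence (Equiv.ulift.{u, 0} (α := ℕ)))
  haveI hprodA : ∀ K : ℕ → DerivedCategory (ModSite.Mod O_C), HasProduct K := fun K => inferInstance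
  haveI hprodB : ∀ K : ℕ → DerivedCategory (ModSite.Mod O_D), HasProduct K := fun K => inferInstance
  have hrefl : ∀ M : ModSite.Mod O_D, A' M → IsZero (f.pull.obj M) → IsZero M := by
    intro M hM hz
    rw [IsZero.iff_id_eq_zero]
    apply (h2b M M hM hM).1
    exact hz.eq_of_src _ _
  have hRlim : ∀ X : DerivedCategory (ModSite.Mod O_C), WSerre.cohIn A X →
      CohCx.IsRlimVia (CohCx.truncTower X) (CohCx.truncTowerMap X) X (CohCx.toTruncTower X) := by
    intro X hX
    apply GenSite.isRlimVia_trunc X (ModGen.gen O_C) B hB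
    intro V hV m
    obtain ⟨d, hd⟩ := hA V hV
    refine ⟨((d : ℤ) - m).toNat + (-m).toNat, fun T hT => ?_⟩
    obtain ⟨ι, Y, g, hTg, hcov, hvan⟩ := hd T hT
    refine ⟨ι, Y, g, hTg, hcov, fun i n hn => ?_⟩
    apply GenSite.goodAt_truncTower X _ m n (m + n + 1) rfl
    intro z'
    haveI := hvan i _ (hX (-((n : ℤ) + 1))) (m + n + 1).toNat (by omega)
    exact ModGen.extVanish O_C _ (Y i) (m + n + 1).toNat (m + n + 1) (by omega) z'
  have hlim : ∀ (K' : ℕ → DerivedCategory (ModSite.Mod O_D)) (t : ∀ n, K' (n + 1) ⟶ K' n),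
      (∀ n, WSerre.cohInPlus A' (K' n)) →
      (∀ j : ℤ, ∃ n₀ : ℕ, ∀ n, n₀ ≤ n →
        IsIso ((DerivedCategory.homologyFunctor (ModSite.Mod O_D) j).map (t n))) →
      ∀ (L : DerivedCategory (ModSite.Mod O_D)) (a : ∀ n, L ⟶ K' n), CohCx.IsRlimVia K' t L a →
      ∀ j : ℤ, ∃ n₀ : ℕ, ∀ n, n₀ ≤ n →
        IsIso ((DerivedCategory.homologyFunctor (ModSite.Mod O_D) j).map (a n)) :=
    fun K' t hK' hconst L a hL j =>
      Groth.Agent.S9064.result O_D A' B' hB' hA' K' t hK' hconst L a hL j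
  exact ⟨fun Y hY => EquivUnbdd.unit_unbdd (Φ := f.pull) adj A A' hrefl h2a h2c h3 hRlim hlim Y hY,
    fun X hX => EquivUnbdd.counit_unbdd (Φ := f.pull) adj A A' hrefl h2c h3 hRlim hlim X hX⟩

end Groth.Agent.S9070
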