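import Groth.Statements.S9090
-- import your own Groth.Agent.* helpers here

set_option autoImplicit false
universe u
open CategoryTheory Opposite
open ModSite

namespace Groth.Agent.S9090

/-- Part (1): ⇒ (2), for a ringed site (C, O) with C small and O a sheaf of commutative rings: if for
every object U and every section f of O over U there is a covering sieve on U on each of whose
arrows either f or 1 - f restricts to a unit, then at every point p of the site the stalk O_p is the
zero ring or is local. -/
theorem result {C : Type u} [SmallCategory C] {J : GrothendieckTopology C}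
    (O : Sheaf J CommRingCat.{u})
    (h : ∀ (U : C) (f : O.obj.obj (op U)), ∃ S ∈ J U, ∀ ⦃V : C⦄ (g : V ⟶ U), S g →
        IsUnit ((O.obj.map g.op).hom f) ∨ IsUnit ((O.obj.map g.op).hom (1 - f)))
    (p : GrothendieckTopology.Point.{u} J) :
    Subsingleton (ModSite.stalkRing p O) ∨ IsLocalRing (ModSite.stalkRing p O) := by
  by_cases hsub : Subsingleton (ModSite.stalkRing p O)
  · exact Or.inl hsub
  · right
    have hnt : Nontrivial (ModSite.stalkRing p O) := not_subsingleton_iff_nontrivial.mp hsub
    apply IsLocalRing.of_isUnit_or_isUnit_one_sub_self
    intro a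
    obtain ⟨X, x, r, rfl⟩ := p.toPresheafFiber_jointly_surjective (P := O.obj) a
    obtain ⟨S, hS, hSp⟩ := h X r
    obtain ⟨Y, g, hg, y, hy⟩ := p.jointly_surjective S hS x
    let φ : O.obj.obj (op Y) →+* ModSite.stalkRing p O := (p.toPresheafFiber Y y O.obj).hom
    have hw : (p.toPresheafFiber X x O.obj).hom r = φ ((O.obj.map g.op).hom r) := by
      have := p.toPresheafFiber_w_apply g y O.obj r
      rw [hy] at this
      exact this.symm
    rcases hSp g hg with hu | hu
    · left
      rw [hw]
      exact hu.map φ
    · right
      rw [hw]
      have : (1 : ModSite.stalkRing p O) - φ ((O.obj.map g.op).hom r) =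
          φ ((O.obj.map g.op).hom (1 - r)) := by
        rw [map_sub, map_sub, map_one, map_one]
      rw [this]
      exact hu.map φ

end Groth.Agent.S9090
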