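import Groth.Statements.S9091
import Groth.Agent.Lib.Helper14.StalkUnit

set_option autoImplicit false
universe u
open CategoryTheory Opposite
open ModSite

namespace Groth.Agent.S9091

/-- Part (2): ⇒ (1) when the site has enough points, for a ringed site (C, O) with C small and O a sheaf
of commutative rings: if at every point p of the site the stalk O_p is the zero ring or is local,
then for every object U and every section f of O over U there is a covering sieve on U on each of
whose arrows either f or 1 - f restricts to a unit. -/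
theorem result {C : Type u} [SmallCategory C] {J : GrothendieckTopology C}
    (O : Sheaf J CommRingCat.{u}) [GrothendieckTopology.HasEnoughPoints.{u} J]
    (h : ∀ p : GrothendieckTopology.Point.{u} J, Subsingleton (ModSite.stalkRing p O) ∨ IsLocalRing (ModSite.stalkRing p O))
    (U : C) (f : O.obj.obj (op U)) :
    ∃ S ∈ J U, ∀ ⦃V : C⦄ (g : V ⟶ U), S g →
        IsUnit ((O.obj.map g.op).hom f) ∨ IsUnit ((O.obj.map g.op).hom (1 - f)) := by
  obtain ⟨P, hPsmall, hP⟩ := GrothendieckTopology.HasEnoughPoints.exists_objectProperty.{u} J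
  let ι := {i : Σ V : C, (V ⟶ U) // IsUnit ((O.obj.map i.2.op).hom f) ∨
    IsUnit ((O.obj.map i.2.op).hom (1 - f))}
  refine ⟨Sieve.ofArrows (fun i : ι => i.1.1) (fun i => i.1.2), ?_, ?_⟩
  · rw [hP.jointly_reflect_ofArrows_mem_of_small]
    intro Φ x
    let φ : O.obj.obj (op U) →+* ModSite.stalkRing Φ.obj O := (Φ.obj.toPresheafFiber U x O.obj).hom
    have hor : IsUnit (φ f) ∨ IsUnit (φ (1 - f)) := by
      rcases h Φ.obj with hsub | hloc
      · left; exact isUnit_of_subsingleton _
      · have := IsLocalRing.isUnit_or_isUnit_one_sub_self (φ f)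
        rw [map_sub, map_one]
        exact this
    rcases hor with hu | hu
    · obtain ⟨Y, g, y, hy, hg⟩ :=
        Groth.Agent.Lib.Helper14.exists_isUnit_of_isUnit_germ O Φ.obj U x f hu
      exact ⟨⟨⟨Y, g⟩, Or.inl hg⟩, y, hy⟩
    · obtain ⟨Y, g, y, hy, hg⟩ :=
        Groth.Agent.Lib.Helper14.exists_isUnit_of_isUnit_germ O Φ.obj U x (1 - f) hu
      exact ⟨⟨⟨Y, g⟩, Or.inr hg⟩, y, hy⟩
  · rintro V g ⟨W, k, _, ⟨i⟩, rfl⟩
    have hcomp : ∀ z : O.obj.obj (op U), (O.obj.map (k ≫ i.1.2).op).hom z =
        (O.obj.map k.op).hom ((O.obj.map i.1.2.op).hom z) := by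
      intro z
      rw [op_comp, Functor.map_comp, CommRingCat.hom_comp, RingHom.comp_apply]
    rcases i.2 with hu | hu
    · left
      rw [hcomp]
      exact hu.map _
    · right
      rw [hcomp]
      exact hu.map _

end Groth.Agent.S9091
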