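import Groth.Statements.S9097
import Mathlib
import Groth.Agent.Lib.Helper21.ConstSheafSplit

set_option autoImplicit false
universe u
open CategoryTheory Opposite
open CohSite

namespace Groth.Agent.S9097

/-- If 0 → A → B → C → 0 is short exact in the category of abelian groups then, for every object U, the
sequence 0 → A̲(U) → B̲(U) → C̲(U) → 0 of sections of the constant abelian sheaves is short exact;
in other words the sequence of constant sheaves is exact even as a sequence of abelian presheaves.
The instance binder on the sections-of-constant-sheaf functor (it preserves zero morphisms) always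
holds and is only needed to form the complex. -/
theorem result {C : Type u} [SmallCategory C] (J : GrothendieckTopology C)
    (S : ShortComplex AddCommGrpCat.{u}) (hS : S.ShortExact) (U : C)
    [(constantSheaf J AddCommGrpCat.{u} ⋙ (sheafSections J AddCommGrpCat.{u}).obj (op U)).PreservesZeroMorphisms] :
    (S.map (constantSheaf J AddCommGrpCat.{u} ⋙ (sheafSections J AddCommGrpCat.{u}).obj (op U))).ShortExact := by
  haveI h1 : Limits.PreservesFiniteLimits (constantSheaf J AddCommGrpCat.{u}) := by
    unfold constantSheaf
    infer_instance
  haveI h3 : Limits.PreservesFiniteLimits ((sheafSections J AddCommGrpCat.{u}).obj (op U)) :=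
    Limits.preservesFiniteLimits_of_natIso
      (sheafSectionsNatIsoEvaluation (J := J) (A := AddCommGrpCat.{u}) (X := U)).symm
  haveI h2 : Limits.PreservesFiniteLimits (constantSheaf J AddCommGrpCat.{u} ⋙
      (sheafSections J AddCommGrpCat.{u}).obj (op U)) := inferInstance
  haveI : (constantSheaf J AddCommGrpCat.{u} ⋙
      (sheafSections J AddCommGrpCat.{u}).obj (op U)).Additive :=
    Functor.additive_of_preserves_binary_products _
  have key := ((Functor.preservesFiniteLimits_tfae (constantSheaf J AddCommGrpCat.{u} ⋙
      (sheafSections J AddCommGrpCat.{u}).obj (op U))).out 3 0).1 h2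
  have key' : (S.map (constantSheaf J AddCommGrpCat.{u} ⋙
      (sheafSections J AddCommGrpCat.{u}).obj (op U))).Exact ∧
      Mono ((constantSheaf J AddCommGrpCat.{u} ⋙
        (sheafSections J AddCommGrpCat.{u}).obj (op U)).map S.f) := key S hS
  have hsurj : Function.Surjective S.g.hom := by
    have := hS.epi_g
    exact (AddCommGrpCat.epi_iff_surjective _).1 this
  exact
    { exact := key'.1
      mono_f := key'.2
      epi_g := (AddCommGrpCat.epi_iff_surjective _).2
        (Groth.Agent.Lib.Helper21.ConstSheafSplit.surjective_app J S.g hsurj U) }

end Groth.Agent.S9097
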