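import Groth.Statements.S9109
import Mathlib

set_option autoImplicit false
universe u
open CategoryTheory CategoryTheory.Limits
open CohSite

namespace Groth.Agent.S9109

open CategoryTheory CategoryTheory.Limits

theorem epi_pi_map {T : Type u} {M N : AddCommGrpCat.{u}} (g : M ⟶ N) [Epi g] :
    Epi (Limits.Pi.map (fun _ : T => g)) := by
  let α : Discrete.functor (fun _ : T => M) ⟶ Discrete.functor (fun _ : T => N) :=
    Discrete.natTrans (fun _ => g)
  haveI : ∀ c, Epi (α.app c) := fun c => by
    dsimp [α]
    infer_instance
  haveI : Epi α := NatTrans.epi_of_epi_app α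
  have : Epi (lim.map α) := inferInstance
  exact this


/-- Part (1): on a small site (C, J) with a point p: the skyscraper functor p_* from abelian groups to
abelian sheaves on C (right adjoint to the stalk functor at p; its value on A is the sheaf U ↦ ∏_{x
∈ p⁻¹U} A) is exact. As a right adjoint it preserves limits; the statement here is that it also
preserves finite colimits. -/
theorem result {C : Type u} [SmallCategory C] {J : GrothendieckTopology C}
    (p : GrothendieckTopology.Point.{u} J) :
    PreservesFiniteColimits (p.skyscraperSheafFunctor (A := AddCommGrpCat.{u})) := by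
  haveI : (p.skyscraperSheafFunctor (A := AddCommGrpCat.{u})).Additive :=
    Functor.additive_of_preserves_binary_products _
  rw [Functor.preservesFiniteColimits_iff_forall_exact_map_and_epi]
  intro S hS
  constructor
  · exact ((Functor.preservesFiniteLimits_iff_forall_exact_map_and_mono
      (p.skyscraperSheafFunctor (A := AddCommGrpCat.{u}))).1 inferInstance S hS).1
  · haveI := hS.epi_g
    apply (sheafToPresheaf J AddCommGrpCat.{u}).epi_of_epi_map
    show Epi (p.skyscraperPresheafFunctor.map S.g)
    haveI : ∀ X, Epi ((p.skyscraperPresheafFunctor.map S.g).app X) := fun X => by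
      show Epi (Limits.Pi.map (fun _ : p.fiber.obj X.unop => S.g))
      exact epi_pi_map S.g
    exact NatTrans.epi_of_epi_app _

end Groth.Agent.S9109
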