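import Groth.Statements.S9110
import Mathlib.RingTheory.Flat.CategoryTheory

set_option autoImplicit false
universe u
open CategoryTheory CategoryTheory.Limits
open ModSite

namespace Groth.Agent.S9110

open MonoidalCategory in
noncomputable def evalTensorIso {C : Type u} [SmallCategory C] (O : Cᵒᵖ ⥤ CommRingCat.{u})
    (F : PresheafOfModules.{u} (O ⋙ forget₂ CommRingCat.{u} RingCat.{u})) (X : Cᵒᵖ) :
    tensorRight F ⋙ PresheafOfModules.evaluation (O ⋙ forget₂ CommRingCat.{u} RingCat.{u}) X ≅
      PresheafOfModules.evaluation (O ⋙ forget₂ CommRingCat.{u} RingCat.{u}) X ⋙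
        tensorRight (C := ModuleCat.{u} (O.obj X)) (F.obj X) :=
  NatIso.ofComponents (fun _ => Iso.refl _) (by
    intro M N f
    simp
    rfl)

theorem pshMod_preservesFiniteLimits_of_eval {C : Type u} [SmallCategory C] (O : Cᵒᵖ ⥤ CommRingCat.{u})
    {D : Type*} [Category D]
    (G : D ⥤ PresheafOfModules.{u} (O ⋙ forget₂ CommRingCat.{u} RingCat.{u}))
    (h : ∀ X, PreservesFiniteLimits (G ⋙ PresheafOfModules.evaluation _ X)) :
    PreservesFiniteLimits G := by
  constructor
  intro J _ _
  constructor
  intro K
  constructor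
  intro c hc
  refine ⟨PresheafOfModules.evaluationJointlyReflectsLimits _ _ (fun X => ?_)⟩
  exact isLimitOfPreserves (G ⋙ PresheafOfModules.evaluation _ X) hc

theorem pshMod_preservesFiniteColimits_of_eval {C : Type u} [SmallCategory C] (O : Cᵒᵖ ⥤ CommRingCat.{u})
    {D : Type*} [Category D]
    (G : D ⥤ PresheafOfModules.{u} (O ⋙ forget₂ CommRingCat.{u} RingCat.{u}))
    (h : ∀ X, PreservesFiniteColimits (G ⋙ PresheafOfModules.evaluation _ X)) :
    PreservesFiniteColimits G := by
  constructor
  intro J _ _
  constructor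
  intro K
  constructor
  intro c hc
  refine ⟨PresheafOfModules.evaluationJointlyReflectsColimits _ _ (fun X => ?_)⟩
  exact isColimitOfPreserves (G ⋙ PresheafOfModules.evaluation _ X) hc

open MonoidalCategory in
theorem aux_lim {C : Type u} [SmallCategory C] (O : Cᵒᵖ ⥤ CommRingCat.{u})
    (F : PresheafOfModules.{u} (O ⋙ forget₂ CommRingCat.{u} RingCat.{u})) (X : Cᵒᵖ)
    (hF : Module.Flat (O.obj X) (F.obj X)) :
    PreservesFiniteLimits (tensorRight F ⋙
      PresheafOfModules.evaluation (O ⋙ forget₂ CommRingCat.{u} RingCat.{u}) X) := by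
  have : PreservesFiniteLimits (tensorRight (C := ModuleCat.{u} (O.obj X)) (F.obj X)) :=
    (Module.Flat.iff_preservesFiniteLimits_tensorRight (R := O.obj X) (F.obj X)).mp hF
  exact preservesFiniteLimits_of_natIso (evalTensorIso O F X).symm

open MonoidalCategory in
theorem aux_colim {C : Type u} [SmallCategory C] (O : Cᵒᵖ ⥤ CommRingCat.{u})
    (F : PresheafOfModules.{u} (O ⋙ forget₂ CommRingCat.{u} RingCat.{u})) (X : Cᵒᵖ) :
    PreservesFiniteColimits (tensorRight F ⋙
      PresheafOfModules.evaluation (O ⋙ forget₂ CommRingCat.{u} RingCat.{u}) X) := by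
  have : PreservesFiniteColimits (tensorLeft (C := ModuleCat.{u} (O.obj X)) (F.obj X)) := inferInstance
  have : PreservesFiniteColimits (tensorRight (C := ModuleCat.{u} (O.obj X)) (F.obj X)) :=
    preservesFiniteColimits_of_natIso
      (BraidedCategory.tensorLeftIsoTensorRight (C := ModuleCat.{u} (O.obj X)) (F.obj X))
  exact preservesFiniteColimits_of_natIso (evalTensorIso O F X).symm

/-- Let C be a small category, O a presheaf of commutative rings on C and F a presheaf of O-modules such
that each F(U) is a flat O(U)-module. Then F is flat as a presheaf of modules, i.e. the functor G ↦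
G ⊗_{p,O} F given by the sectionwise tensor product of presheaves of modules is exact (preserves
finite limits and finite colimits). -/
theorem result {C : Type u} [SmallCategory C] (O : Cᵒᵖ ⥤ CommRingCat.{u})
    (F : PresheafOfModules.{u} (O ⋙ forget₂ CommRingCat.{u} RingCat.{u}))
    (hF : ∀ X : Cᵒᵖ, Module.Flat (O.obj X) (F.obj X)) :
    PreservesFiniteLimits (MonoidalCategory.tensorRight F) ∧ PreservesFiniteColimits (MonoidalCategory.tensorRight F) := by
  constructor
  · apply pshMod_preservesFiniteLimits_of_eval
    intro X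
    exact aux_lim O F X (hF X)
  · apply pshMod_preservesFiniteColimits_of_eval
    intro X
    exact aux_colim O F X

end Groth.Agent.S9110
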