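import Groth.Statements.S9113
import Groth.Agent.Lib.Helper15.StalkShriek

set_option autoImplicit false
universe u
open CategoryTheory
open ModSite

namespace Groth.Agent.S9113

open CategoryTheory.Limits in
/-- On a small ringed site (C, O) with O commutative: let U be an object, G an O_U-module on the
localised site C/U and p a point of the site. The points of C/U lying over p correspond to the
elements x of the fibre of p at U, and the stalk of the extension by zero j_{U!}G at p is isomorphic
to the direct sum over these points of the stalks of G. Stated for the underlying abelian groups,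
existence of an isomorphism only. -/
theorem result {C : Type u} [SmallCategory C] {J : GrothendieckTopology C}
    (O : Sheaf J CommRingCat.{u}) (U : C) (G : ModSite.Mod (O.over U))
    (p : GrothendieckTopology.Point.{u} J) :
    Nonempty (ModSite.stalkAb p ((ModSite.extZero O U).obj G) ≅ ∐ fun x : p.fiber.obj U => ModSite.stalkAb (p.over x) G) := by
  classical
  open Groth.Agent.Lib.Helper13 Groth.Agent.Lib.Helper13.ModSiteTensor
    Groth.Agent.Lib.Helper13.ModSiteExtZero Groth.Agent.Lib.Helper13.ModSiteProj
    Groth.Agent.Lib.Helper15.StalkShriek in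
  let P : PresheafOfModules.{u} (OverShriek.SR U (ModSite.ringSh O).obj) := (fgtU O U).obj G
  let Q : PMod O := OverShriek.shriek P
  have eA : (ModSite.extZero O U).obj G ≅ (shf O).obj Q := (shriekLIso O U).symm.app G
  have e1 : ModSite.stalkAb p ((ModSite.extZero O U).obj G) ≅ ModSite.stalkAb p ((shf O).obj Q) :=
    (p.sheafFiber (A := AddCommGrpCat.{u})).mapIso
      ((SheafOfModules.toSheaf (ModSite.ringSh O)).mapIso eA)
  have e2 : ModSite.stalkAb p ((shf O).obj Q) ≅
      (p.presheafFiber (A := AddCommGrpCat.{u})).obj Q.presheaf :=
    (p.presheafToSheafCompSheafFiberIso AddCommGrpCat.{u}).app Q.presheaf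
  have e3 : (p.presheafFiber (A := AddCommGrpCat.{u})).obj Q.presheaf ≅ tgt P p :=
    stalkShriekIso P p
  exact ⟨e1 ≪≫ e2 ≪≫ e3⟩

end Groth.Agent.S9113
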