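import Groth.Statements.S9114
import Groth.Agent.Lib.Helper5.TypeAColim

set_option autoImplicit false
universe u
open CategoryTheory CategoryTheory.Limits Opposite
open ModSite

namespace Groth.Agent.S9114

/-- Let (C, O) be a small ringed site with O commutative and B a set of objects of C such that every
object has a covering family by members of B and each member U of B is quasi-compact (the sheaf of
sets h_U^# is a quasi-compact object of the topos). Then every O-module F is a filtered colimit of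
modules of the form Coker(⊕_{j≤m} j_{V_j!}O_{V_j} → ⊕_{i≤n} j_{U_i!}O_{U_i}) with finitely many Uᵢ,
Vⱼ in B: there are a small filtered category Λ, a diagram D of such modules and a natural map from D
to the constant diagram on F exhibiting F as the colimit. -/
theorem result {C : Type u} [SmallCategory C] {J : GrothendieckTopology C}
    (O : Sheaf J CommRingCat.{u}) (B : Set C)
    (hB₁ : ∀ X : C, ∃ (κ : Type u) (Y : κ → C) (g : ∀ k, Y k ⟶ X), Sieve.ofArrows Y g ∈ J X ∧ ∀ k, Y k ∈ B)
    (hB₂ : ∀ U ∈ B, CohCx.IsQcObject ((presheafToSheaf J (Type u)).obj (yoneda.obj U))) (F : ModSite.Mod O) :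
    ∃ (Λ : Type u) (_ : SmallCategory Λ) (_ : IsFiltered Λ) (D : Λ ⥤ ModSite.Mod O)
      (ι : D ⟶ (Functor.const Λ).obj F),
      (∀ l, (∃ (m' n' : ℕ) (V' : Fin m' → C) (U' : Fin n' → C)
        (ψ : (∐ fun j => ModSite.freeOn O (V' j)) ⟶ ∐ fun i => ModSite.freeOn O (U' i)),
        (∀ j, V' j ∈ B) ∧ (∀ i, U' i ∈ B) ∧ Nonempty (D.obj l ≅ cokernel ψ))) ∧
      Nonempty (IsColimit (Cocone.mk F ι)) := by
  have hB₂' : ∀ U ∈ B, Groth.Agent.Lib.Helper21.CoprodSec.FinCov J U :=
    fun U hU => Groth.Agent.Lib.Helper21.CoprodSec.finCov_of_isQcObject U (hB₂ U hU)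
  refine ⟨Groth.Agent.Lib.Helper5.TypeA.Idx B F, inferInstance,
    Groth.Agent.Lib.Helper5.TypeA.Idx.isFiltered hB₁ hB₂',
    Groth.Agent.Lib.Helper5.TypeA.Idx.diag B F, Groth.Agent.Lib.Helper5.TypeA.Idx.ι B F,
    fun l => ?_, Groth.Agent.Lib.Helper5.TypeA.Idx.nonempty_isColimit hB₁ hB₂'⟩
  exact ⟨l.m, l.n, l.V, l.U, l.ψ, l.hV, l.hU, ⟨Iso.refl _⟩⟩

end Groth.Agent.S9114
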