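import Groth.Statements.S9129
import Groth.Agent.Lib.Helper4.FlatRing

set_option autoImplicit false
universe u
open CAlg

namespace Groth.Agent.S9129

/-- Suppose R → S is a flat local homomorphism between Noetherian local rings, with R Cohen–Macaulay.
Assume either that S is finite over R or that the Krull dimension of S is at most that of R. Then
the two rings have equal dimension and S is itself Cohen–Macaulay. -/
theorem result (R S : Type u) [CommRing R] [CommRing S]
    [LocCoh.IsCohenMacaulayLocalRing R] [IsNoetherianRing S] [IsLocalRing S] [Algebra R S]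
    [IsLocalHom (algebraMap R S)] [Module.Flat R S]
    (h : Module.Finite R S ∨ ringKrullDim S ≤ ringKrullDim R) :
    LocCoh.IsCohenMacaulayLocalRing S ∧ ringKrullDim R = ringKrullDim S := by
  have hne : (IsLocalRing.maximalIdeal R).map (algebraMap R S) ≠ ⊤ :=
    ne_top_of_le_ne_top (IsLocalRing.maximalIdeal.isMaximal S).ne_top
      (IsLocalRing.map_maximalIdeal_le (algebraMap R S))
  haveI : Nontrivial (S ⧸ (IsLocalRing.maximalIdeal R).map (algebraMap R S)) :=
    Ideal.Quotient.nontrivial_iff.mpr hne
  haveI : IsLocalRing (S ⧸ (IsLocalRing.maximalIdeal R).map (algebraMap R S)) :=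
    IsLocalRing.of_surjective' (Ideal.Quotient.mk _) Ideal.Quotient.mk_surjective
  have hdep := Groth.Agent.Lib.Helper4.FlatRing.depth_eq_add_fibRing R S
  have hht := Groth.Agent.Lib.Helper4.FlatRing.height_eq_add_fibRing R S
  have hCM : ((IsLocalRing.maximalIdeal R).height : WithBot ℕ∞) =
      ((LocCoh.depth R R : ℕ∞) : WithBot ℕ∞) := by
    have := LocCoh.IsCohenMacaulayLocalRing.supportDim_eq_depth (R := R)
    rwa [Module.supportDim_self_eq_ringKrullDim,
      ← IsLocalRing.maximalIdeal_height_eq_ringKrullDim] at this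
  have hCM' : (IsLocalRing.maximalIdeal R).height = LocCoh.depth R R := by exact_mod_cast hCM
  have hF0 : (IsLocalRing.maximalIdeal
      (S ⧸ (IsLocalRing.maximalIdeal R).map (algebraMap R S))).height = 0 := by
    rcases h with hfin | hdim
    · haveI := hfin
      haveI : Algebra.IsIntegral R S := Algebra.IsIntegral.of_finite R S
      have hmin : IsLocalRing.maximalIdeal S ∈
          ((IsLocalRing.maximalIdeal R).map (algebraMap R S)).minimalPrimes := by
        refine ⟨⟨inferInstance, IsLocalRing.map_maximalIdeal_le (algebraMap R S)⟩, ?_⟩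
        rintro Q ⟨hQp, hQle⟩ -
        haveI := hQp
        have h1 : IsLocalRing.maximalIdeal R ≤ Q.comap (algebraMap R S) :=
          Ideal.map_le_iff_le_comap.mp hQle
        have h2 : IsLocalRing.maximalIdeal R = Q.comap (algebraMap R S) :=
          (IsLocalRing.maximalIdeal.isMaximal R).eq_of_le (Ideal.IsPrime.comap _).ne_top h1
        have h3 : Q.IsMaximal := Ideal.isMaximal_of_isIntegral_of_isMaximal_comap Q
          (h2 ▸ IsLocalRing.maximalIdeal.isMaximal R)
        exact (IsLocalRing.eq_maximalIdeal h3).ge
      have h4 := Groth.Agent.Lib.Helper4.FlatRing.map_mk_mem_minimalPrimes hmin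
      rw [IsLocalRing.map_maximalIdeal_of_surjective _ Ideal.Quotient.mk_surjective] at h4
      exact Ideal.height_eq_zero_iff.mpr h4
    · rw [← IsLocalRing.maximalIdeal_height_eq_ringKrullDim,
        ← IsLocalRing.maximalIdeal_height_eq_ringKrullDim (R := R), hht] at hdim
      have hdim' : (IsLocalRing.maximalIdeal R).height + (IsLocalRing.maximalIdeal
          (S ⧸ (IsLocalRing.maximalIdeal R).map (algebraMap R S))).height ≤
          (IsLocalRing.maximalIdeal R).height + 0 := by
        rw [add_zero]; exact_mod_cast hdim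
      have hfinR : (IsLocalRing.maximalIdeal R).height ≠ ⊤ := Ideal.height_ne_top_of_isPrime
      exact nonpos_iff_eq_zero.mp ((ENat.add_le_add_iff_left hfinR).mp hdim')
  have hdepF : LocCoh.depth (S ⧸ (IsLocalRing.maximalIdeal R).map (algebraMap R S))
      (S ⧸ (IsLocalRing.maximalIdeal R).map (algebraMap R S)) = 0 := by
    have h5 := Groth.Agent.Lib.Helper4.FlatRing.depth_self_le_height
      (B := S ⧸ (IsLocalRing.maximalIdeal R).map (algebraMap R S))
    rw [hF0] at h5
    exact nonpos_iff_eq_zero.mp h5
  rw [hF0, add_zero] at hht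
  rw [hdepF, add_zero] at hdep
  refine ⟨{ supportDim_eq_depth := ?_ }, ?_⟩
  · rw [Module.supportDim_self_eq_ringKrullDim, ← IsLocalRing.maximalIdeal_height_eq_ringKrullDim,
      hht, hdep, hCM']
  · rw [← IsLocalRing.maximalIdeal_height_eq_ringKrullDim,
      ← IsLocalRing.maximalIdeal_height_eq_ringKrullDim (R := S), hht]

end Groth.Agent.S9129
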