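import Groth.Statements.S9130
import Groth.Agent.S0554

set_option autoImplicit false
universe u
open CAlg TensorProduct

namespace Groth.Agent.S9130

/-- Let A ⊆ B be domains with B of finite type over A and A Noetherian, and assume every element of B is
algebraic over A. For a height-one prime p of A, only finitely many primes of B lie over p and each
of them has height one. (The published statement assumes that Frac(B) is finite over Frac(A); this
row assumes B algebraic over A, which is equivalent for a finite type extension of domains.) -/
theorem result (A B : Type u) [CommRing A] [IsDomain A]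
    [IsNoetherianRing A] [CommRing B] [IsDomain B] [Algebra A B] [FaithfulSMul A B]
    [Algebra.FiniteType A B] [Algebra.IsAlgebraic A B] (p : Ideal A) [p.IsPrime]
    (hp : p.height = 1) :
    (p.primesOver B).Finite ∧ ∀ q ∈ p.primesOver B, q.height = 1 := by
  classical
  haveI : IsNoetherianRing B := Algebra.FiniteType.isNoetherianRing A B
  have hinj : Function.Injective (algebraMap A B) := FaithfulSMul.algebraMap_injective A B
  -- every prime over p has height one
  have hht : ∀ q ∈ p.primesOver B, q.height = 1 := by
    rintro q ⟨hq, hqp⟩
    haveI := hq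
    haveI := hqp
    have h1 := Groth.Agent.S0554.result A B p q
    rw [(trdeg_eq_zero : Algebra.trdeg A B = 0), add_zero, hp] at h1
    have h2 : (q.height : Cardinal.{u}) ≤ ((1 : ℕ∞) : Cardinal.{u}) := le_trans le_self_add h1
    have h3 : q.height ≤ 1 := Cardinal.ofENat_le_ofENat.mp h2
    have hne : q ≠ ⊥ := by
      intro hq0
      have : p = ⊥ := by
        rw [hqp.over, hq0]
        exact (RingHom.injective_iff_ker_eq_bot _).mp hinj
      rw [this, Ideal.height_bot] at hp
      exact zero_ne_one hp
    have h4 : (⊥ : Ideal B).height < q.height :=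
      Ideal.height_strict_mono_of_isPrime (bot_lt_iff_ne_bot.mpr hne)
    rw [Ideal.height_bot] at h4
    exact le_antisymm h3 (Order.one_le_iff_pos.mpr h4)
  refine ⟨?_, hht⟩
  -- finiteness
  let e := PrimeSpectrum.primesOverOrderIsoFiber A B p
  haveI : Algebra.FiniteType p.ResidueField (p.Fiber B) :=
    inferInstanceAs (Algebra.FiniteType p.ResidueField (p.ResidueField ⊗[A] B))
  haveI : IsNoetherianRing (p.Fiber B) := Algebra.FiniteType.isNoetherianRing p.ResidueField _
  have hmin : ∀ x : PrimeSpectrum (p.Fiber B), x.asIdeal ∈ minimalPrimes (p.Fiber B) := by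
    intro x
    obtain ⟨y0, hy0, hle⟩ := Ideal.exists_minimalPrimes_le (I := ⊥) (J := x.asIdeal) bot_le
    haveI : y0.IsPrime := hy0.1.1
    let y : PrimeSpectrum (p.Fiber B) := ⟨y0, inferInstance⟩
    have hyx : y ≤ x := hle
    have h1 : e.symm y ≤ e.symm x := e.symm.monotone hyx
    have h2 : (e.symm y : Ideal B) = (e.symm x : Ideal B) := by
      by_contra hne
      have hlt : (e.symm y : Ideal B) < (e.symm x : Ideal B) := lt_of_le_of_ne h1 hne
      haveI : (e.symm y : Ideal B).IsPrime := (e.symm y).2.1
      haveI : (e.symm x : Ideal B).IsPrime := (e.symm x).2.1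
      have := Ideal.height_strict_mono_of_isPrime hlt
      rw [hht _ (e.symm y).2, hht _ (e.symm x).2] at this
      exact lt_irrefl _ this
    have h3 : y = x := e.symm.injective (Subtype.ext h2)
    rw [← h3]
    exact hy0
  haveI : Finite (PrimeSpectrum (p.Fiber B)) := by
    haveI : Finite (minimalPrimes (p.Fiber B)) := (minimalPrimes.finite_of_isNoetherianRing (R := p.Fiber B)).to_subtype
    exact Finite.of_injective (fun x : PrimeSpectrum (p.Fiber B) => (⟨x.asIdeal, hmin x⟩ : minimalPrimes (p.Fiber B)))
      (fun x y hxy => PrimeSpectrum.ext (congrArg Subtype.val hxy))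
  haveI : Finite (p.primesOver B) := Finite.of_equiv _ e.symm.toEquiv
  exact Set.toFinite _

end Groth.Agent.S9130
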