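import Groth.Statements.S9132
import Mathlib


set_option autoImplicit false
universe u
open CAlg

namespace Groth.Agent.S9132

open IsLocalRing

theorem exists_chart_q (R : Type u) [CommRing R] [IsDomain R] [IsNoetherianRing R] [IsLocalRing R]
    (K : Type u) [Field K] [Algebra R K] [IsFractionRing R K] (hR : ¬ IsField R) :
    ∃ (S : Subalgebra R K) (x₀ : R), Algebra.FiniteType R S ∧ x₀ ≠ 0 ∧
      (∀ a ∈ maximalIdeal R, algebraMap R S a ∈ Ideal.span {algebraMap R S x₀}) ∧
      Ideal.span {algebraMap R S x₀} ≠ ⊤ := by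
  classical
  obtain ⟨A, hA, hloc⟩ := IsLocalRing.exists_factor_valuationRing (algebraMap R K)
  have hinj : Function.Injective (algebraMap R K) := IsFractionRing.injective R K
  have hm : maximalIdeal R ≠ ⊥ := fun h => hR (IsLocalRing.isField_iff_maximalIdeal_eq.2 h)
  obtain ⟨s, hs⟩ := (IsNoetherian.noetherian (maximalIdeal R))
  have hsne : s.Nonempty := by
    rw [Finset.nonempty_iff_ne_empty]
    rintro rfl
    apply hm
    rw [← hs]; simp
  obtain ⟨x₀, hx₀s, hmax⟩ := Finset.exists_max_image s
    (fun x => A.valuation (algebraMap R K x)) hsne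
  have hx₀m : x₀ ∈ maximalIdeal R := by rw [← hs]; exact Submodule.subset_span hx₀s
  have hx₀ : x₀ ≠ 0 := by
    rintro rfl
    apply hm
    rw [← hs, Submodule.span_eq_bot]
    intro y hy
    have h1 := hmax y hy
    simp only [map_zero] at h1
    have h2 : A.valuation (algebraMap R K y) = 0 := le_antisymm h1 zero_le'
    exact hinj (((Valuation.zero_iff _).1 h2).trans (map_zero _).symm)
  have hfx₀ : algebraMap R K x₀ ≠ 0 := fun h => hx₀ (hinj (h.trans (map_zero _).symm))
  have hv0 : A.valuation (algebraMap R K x₀) ≠ 0 := (Valuation.ne_zero_iff _).2 hfx₀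
  obtain ⟨T, hT⟩ : ∃ T : Set K,
      T = (fun y => algebraMap R K y / algebraMap R K x₀) '' (s : Set R) := ⟨_, rfl⟩
  have hTfin : T.Finite := by rw [hT]; exact (Finset.finite_toSet s).image _
  have hTA : ∀ t ∈ T, t ∈ A := by
    rw [hT]
    rintro _ ⟨y, hy, rfl⟩
    rw [← A.valuation_le_one_iff, map_div₀]
    exact (div_le_one₀ (zero_lt_iff.2 hv0)).2 (hmax y (Finset.mem_coe.1 hy))
  refine ⟨Algebra.adjoin R T, x₀, Algebra.FiniteType.adjoin_of_finite hTfin, hx₀, ?_, ?_⟩
  · intro a ha
    have hle : maximalIdeal R ≤ Ideal.comap (algebraMap R (Algebra.adjoin R T))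
        (Ideal.span {algebraMap R (Algebra.adjoin R T) x₀}) := by
      rw [← hs]
      refine Submodule.span_le.2 ?_
      intro y hy
      rw [SetLike.mem_coe, Ideal.mem_comap, Ideal.mem_span_singleton']
      refine ⟨⟨algebraMap R K y / algebraMap R K x₀, Algebra.subset_adjoin ?_⟩, Subtype.ext ?_⟩
      · rw [hT]; exact ⟨y, hy, rfl⟩
      · show algebraMap R K y / algebraMap R K x₀ * algebraMap R K x₀ = algebraMap R K y
        exact div_mul_cancel₀ _ hfx₀
    exact hle ha
  · intro htop
    have hu : IsUnit (algebraMap R (Algebra.adjoin R T) x₀) := Ideal.span_singleton_eq_top.1 htop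
    obtain ⟨b, hb⟩ := isUnit_iff_exists_inv.1 hu
    have hbA : (b : K) ∈ A := by
      have hle : Algebra.adjoin R T ≤
          ({ A.toSubring.toSubsemiring with algebraMap_mem' := fun r => hA r } : Subalgebra R K) :=
        Algebra.adjoin_le (fun t ht => hTA t ht)
      exact hle b.2
    have hu2 : IsUnit ((algebraMap R K).codRestrict A.toSubring hA x₀) := by
      rw [isUnit_iff_exists_inv]
      refine ⟨⟨b, hbA⟩, Subtype.ext ?_⟩
      have h3 := congrArg Subtype.val hb
      exact h3
    have hu3 : IsUnit x₀ := hloc.map_nonunit x₀ hu2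
    exact (IsLocalRing.notMem_maximalIdeal.2 hu3) hx₀m

theorem of_chart_q (R : Type u) [CommRing R] [IsDomain R] [IsNoetherianRing R] [IsLocalRing R]
    (K : Type u) [Field K] [Algebra R K] (S : Subalgebra R K) (x₀ : R)
    [hft : Algebra.FiniteType R S] (hx₀ : algebraMap R K x₀ ≠ 0)
    (h1 : ∀ a ∈ maximalIdeal R, algebraMap R S a ∈ Ideal.span {algebraMap R S x₀})
    (h2 : Ideal.span {algebraMap R S x₀} ≠ ⊤) :
    ∃ R' : Subalgebra R K, ∃ _ : IsLocalRing R',
      IsNoetherianRing R' ∧ ringKrullDim R' = 1 ∧ IsLocalHom (algebraMap R R') ∧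
        Algebra.EssFiniteType R R' := by
  haveI : IsNoetherianRing S := Algebra.FiniteType.isNoetherianRing R S
  obtain ⟨⟨p, hp⟩⟩ := Ideal.nonempty_minimalPrimes h2
  haveI hpp : p.IsPrime := hp.1.1
  have hple : Ideal.span {algebraMap R S x₀} ≤ p := hp.1.2
  have hht : p.height = 1 := by
    apply le_antisymm
    · exact Ideal.height_le_one_of_isPrincipal_of_mem_minimalPrimes _ p hp
    · rw [ENat.one_le_iff_ne_zero, Ne, Ideal.height_eq_zero_iff,
        IsDomain.minimalPrimes_eq_singleton_bot, Set.mem_singleton_iff]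
      intro hbot
      have h3 : algebraMap R S x₀ ∈ p := hple (Ideal.subset_span rfl)
      rw [hbot, Ideal.mem_bot] at h3
      exact hx₀ (congrArg Subtype.val h3)
  have hunit : ∀ y : p.primeCompl, IsUnit (S.val (y : S)) := by
    intro y
    rw [isUnit_iff_ne_zero]
    intro h0
    have h3 : (y : S) = 0 := Subtype.ext h0
    exact (Ideal.mem_primeCompl_iff.1 y.2) (by rw [h3]; exact p.zero_mem)
  obtain ⟨φ, hφ⟩ : ∃ φ : Localization.AtPrime p →ₐ[R] K,
      ∀ x : S, φ (algebraMap S (Localization.AtPrime p) x) = (x : K) :=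
    ⟨IsLocalization.liftAlgHom (M := p.primeCompl) (f := S.val) hunit,
      fun x => IsLocalization.lift_eq (g := (S.val : S →+* K)) hunit x⟩
  have hφinj : Function.Injective φ := by
    rw [injective_iff_map_eq_zero]
    intro z hz
    obtain ⟨a, t, rfl⟩ := IsLocalization.exists_mk'_eq p.primeCompl z
    have h3 : φ (algebraMap S (Localization.AtPrime p) a) = 0 := by
      rw [← IsLocalization.mk'_spec (Localization.AtPrime p) a t, map_mul, hz, zero_mul]
    rw [hφ] at h3
    have h4 : a = 0 := Subtype.ext h3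
    rw [h4, IsLocalization.mk'_zero]
  obtain ⟨e⟩ : Nonempty (Localization.AtPrime p ≃ₐ[R] φ.range) :=
    ⟨AlgEquiv.ofInjective φ hφinj⟩
  haveI : IsLocalRing φ.range := e.toRingEquiv.isLocalRing
  refine ⟨φ.range, inferInstance, isNoetherianRing_of_ringEquiv _ e.toRingEquiv, ?_, ?_, ?_⟩
  · rw [← ringKrullDim_eq_of_ringEquiv e.toRingEquiv,
      IsLocalization.AtPrime.ringKrullDim_eq_height p, hht]
    rfl
  · refine ⟨fun a ha => ?_⟩
    by_contra hnu
    have ham : a ∈ maximalIdeal R := (IsLocalRing.mem_maximalIdeal a).2 hnu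
    have h5 : IsUnit (e.symm (algebraMap R φ.range a)) := ha.map e.symm
    rw [AlgEquiv.commutes, IsScalarTower.algebraMap_apply R S (Localization.AtPrime p),
      IsLocalization.AtPrime.isUnit_to_map_iff (Localization.AtPrime p) p] at h5
    exact (Ideal.mem_primeCompl_iff.1 h5) (hple (h1 a ham))
  · haveI : Algebra.EssFiniteType R (Localization.AtPrime p) := Algebra.EssFiniteType.comp R S _
    exact (Algebra.EssFiniteType.iff_of_algEquiv e).1 inferInstance

/-- A Noetherian local domain R that is not a field is dominated by a Noetherian local ring R' of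
dimension one lying between R and its fraction field, with R' essentially of finite type over R. -/
theorem result (R : Type u) [CommRing R] [IsDomain R]
    [IsNoetherianRing R] [IsLocalRing R] (hR : ¬ IsField R) :
    ∃ R' : Subalgebra R (FractionRing R), ∃ _ : IsLocalRing R',
      IsNoetherianRing R' ∧ ringKrullDim R' = 1 ∧ IsLocalHom (algebraMap R R') ∧
        Algebra.EssFiniteType R R' := by
  obtain ⟨S, x₀, hft, hx₀, h1, h2⟩ := exists_chart_q R (FractionRing R) hR
  haveI := hft
  exact of_chart_q R (FractionRing R) S x₀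
    (fun h => hx₀ (IsFractionRing.injective R _ (h.trans (map_zero _).symm))) h1 h2

end Groth.Agent.S9132
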