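import Groth.Statements.S9133
import Groth.Agent.Lib.Helper12.KAFin

set_option autoImplicit false
universe u
open CAlg

namespace Groth.Agent.S9133

open Groth.Agent.Lib.Helper12

/-- Let R → S be a homomorphism of domains compatible with field maps K → L of their fraction fields (so
R → S is injective), where R is Noetherian local of dimension one and L is finite over K. Then each
prime n of S whose contraction to R is the maximal ideal of R is a maximal ideal of S, only finitely
many such n exist, and each quotient S/n is a finite R-module (its residue field is a finite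
extension of that of R). -/
theorem result (R S K L : Type u)
    [CommRing R] [IsDomain R] [IsNoetherianRing R] [IsLocalRing R] (hdim : ringKrullDim R = 1)
    [CommRing S] [IsDomain S] [Algebra R S] [Field K] [Field L] [Algebra R K] [IsFractionRing R K]
    [Algebra S L] [IsFractionRing S L] [Algebra K L] [Algebra R L] [IsScalarTower R K L]
    [IsScalarTower R S L] [FiniteDimensional K L] :
    (∀ n ∈ (IsLocalRing.maximalIdeal R).primesOver S, n.IsMaximal) ∧
      ((IsLocalRing.maximalIdeal R).primesOver S).Finite ∧
      ∀ n ∈ (IsLocalRing.maximalIdeal R).primesOver S, Module.Finite R (S ⧸ n) := by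
  haveI : Ring.KrullDimLE 1 R := Ring.krullDimLE_iff.2 (by rw [hdim]; rfl)
  have hinj := KAFin.algebraMap_injective (R := R) (S := S) K L
  have hm : IsLocalRing.maximalIdeal R ≠ ⊥ := by
    intro h
    have hR : IsField R := IsLocalRing.isField_iff_maximalIdeal_eq.2 h
    rw [ringKrullDim_eq_zero_of_isField hR] at hdim
    exact zero_ne_one hdim
  have hne : ∀ n ∈ (IsLocalRing.maximalIdeal R).primesOver S, n ≠ ⊥ := by
    rintro n ⟨-, hn⟩ rfl
    apply hm
    rw [hn.over, Ideal.under, ← RingHom.ker_eq_comap_bot,
      (RingHom.injective_iff_ker_eq_bot _).mp hinj]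
  refine ⟨?_, ?_, ?_⟩
  · intro n hn
    haveI := hn.1
    exact KAFin.isMaximal_of_isPrime (R := R) K L n (hne n hn)
  · have hfin := KAFin.finite_fibre (R := R) (S := S) K L
      ⟨IsLocalRing.maximalIdeal R, inferInstance⟩
    refine (hfin.image PrimeSpectrum.asIdeal).subset ?_
    intro n hn
    refine ⟨⟨n, hn.1⟩, ?_, rfl⟩
    show PrimeSpectrum.comap (algebraMap R S) ⟨n, hn.1⟩ = _
    exact PrimeSpectrum.ext hn.2.over.symm
  · intro n hn
    exact KAFin.quotient_finite K L n (hne n hn)

end Groth.Agent.S9133
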