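import Groth.Statements.S9134
import Mathlib

set_option autoImplicit false
universe u
open CAlg

namespace Groth.Agent.S9134


namespace H9134
open Pointwise

universe v

section basic
variable {R : Type*} [CommRing R] (x : R)

/-- the submodule `xM`. -/
def xS (M : Type*) [AddCommGroup M] [Module R M] : Submodule R M :=
  Ideal.span ({x} : Set R) • (⊤ : Submodule R M)

lemma mem_xS {M : Type*} [AddCommGroup M] [Module R M] (m : M) :
    m ∈ xS x M ↔ ∃ m', x • m' = m := by
  unfold xS
  rw [Submodule.ideal_span_singleton_smul, Submodule.mem_smul_pointwise_iff_exists]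
  simp

lemma xS_le_comap {M N : Type*} [AddCommGroup M] [Module R M] [AddCommGroup N] [Module R N]
    (f : M →ₗ[R] N) : xS x M ≤ (xS x N).comap f := by
  intro m hm
  obtain ⟨m', rfl⟩ := (mem_xS x m).1 hm
  rw [Submodule.mem_comap, map_smul]
  exact (mem_xS x _).2 ⟨f m', rfl⟩

def Qmap {M N : Type*} [AddCommGroup M] [Module R M] [AddCommGroup N] [Module R N]
    (f : M →ₗ[R] N) : (M ⧸ xS x M) →ₗ[R] (N ⧸ xS x N) :=
  Submodule.mapQ (xS x M) (xS x N) f (xS_le_comap x f)

lemma Qmap_mk {M N : Type*} [AddCommGroup M] [Module R M] [AddCommGroup N] [Module R N]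
    (f : M →ₗ[R] N) (m : M) :
    Qmap x f (Submodule.Quotient.mk m) = Submodule.Quotient.mk (f m) := rfl

lemma length_le_add_of_exact' {A B C : Type*} [AddCommGroup A] [Module R A] [AddCommGroup B]
    [Module R B] [AddCommGroup C] [Module R C]
    (f : A →ₗ[R] B) (g : B →ₗ[R] C) (hg : Function.Surjective g)
    (H : LinearMap.ker g ≤ LinearMap.range f) :
    Module.length R B ≤ Module.length R A + Module.length R C := by
  rw [Module.length_eq_add_of_exact (LinearMap.ker g).subtype g (Submodule.subtype_injective _) hg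
    (LinearMap.exact_subtype_ker_map g)]
  refine add_le_add ?_ le_rfl
  calc Module.length R (LinearMap.ker g) ≤ Module.length R (LinearMap.range f) :=
        Module.length_le_of_injective (Submodule.inclusion H) (Submodule.inclusion_injective H)
    _ ≤ Module.length R A :=
        Module.length_le_of_surjective f.rangeRestrict f.surjective_rangeRestrict

lemma lengthQ_le_add {M' M M'' : Type*} [AddCommGroup M'] [Module R M'] [AddCommGroup M]
    [Module R M] [AddCommGroup M''] [Module R M'']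
    (f : M' →ₗ[R] M) (g : M →ₗ[R] M'') (hg : Function.Surjective g)
    (H : LinearMap.ker g ≤ LinearMap.range f) :
    Module.length R (M ⧸ xS x M) ≤
      Module.length R (M' ⧸ xS x M') + Module.length R (M'' ⧸ xS x M'') := by
  apply length_le_add_of_exact' (Qmap x f) (Qmap x g)
  · intro c
    obtain ⟨c, rfl⟩ := Submodule.Quotient.mk_surjective _ c
    obtain ⟨b, rfl⟩ := hg c
    exact ⟨Submodule.Quotient.mk b, Qmap_mk x g b⟩
  · intro q hq
    obtain ⟨b, rfl⟩ := Submodule.Quotient.mk_surjective _ q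
    rw [LinearMap.mem_ker, Qmap_mk, Submodule.Quotient.mk_eq_zero] at hq
    obtain ⟨c, hc⟩ := (mem_xS x _).1 hq
    obtain ⟨b1, rfl⟩ := hg c
    have h2 : b - x • b1 ∈ LinearMap.ker g := by
      rw [LinearMap.mem_ker, map_sub, map_smul, hc, sub_self]
    obtain ⟨a, ha⟩ := H h2
    refine ⟨Submodule.Quotient.mk a, ?_⟩
    rw [Qmap_mk, ha, Submodule.Quotient.eq]
    have h3 : b - x • b1 - b = x • (-b1) := by rw [smul_neg]; abel
    rw [h3]
    exact (mem_xS x _).2 ⟨-b1, rfl⟩

lemma lengthQ_le_of_injective_of_coker {M N : Type*} [AddCommGroup M] [Module R M]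
    [AddCommGroup N] [Module R N]
    (φ : M →ₗ[R] N) (hφ : Function.Injective φ)
    (hC : Module.length R (N ⧸ LinearMap.range φ) ≠ ⊤) :
    Module.length R (M ⧸ xS x M) ≤ Module.length R (N ⧸ xS x N) := by
  obtain ⟨W, hW⟩ : ∃ W : Submodule R N, W = x • LinearMap.range φ := ⟨_, rfl⟩
  have memW : ∀ n, n ∈ W ↔ ∃ m, x • φ m = n := by
    intro n
    rw [hW, Submodule.mem_smul_pointwise_iff_exists]
    constructor
    · rintro ⟨s, ⟨m, rfl⟩, rfl⟩; exact ⟨m, rfl⟩
    · rintro ⟨m, rfl⟩; exact ⟨φ m, ⟨m, rfl⟩, rfl⟩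
  have h1 : xS x M ≤ W.comap φ := by
    intro m hm
    obtain ⟨m', rfl⟩ := (mem_xS x m).1 hm
    rw [Submodule.mem_comap, map_smul]
    exact (memW _).2 ⟨m', rfl⟩
  have h2 : W ≤ (LinearMap.range φ).comap LinearMap.id := by
    intro n hn
    obtain ⟨m, rfl⟩ := (memW n).1 hn
    exact ⟨x • m, by simp⟩
  have h3 : LinearMap.range φ ≤ W.comap (LinearMap.lsmul R N x) := by
    rintro _ ⟨m, rfl⟩
    rw [Submodule.mem_comap]
    exact (memW _).2 ⟨m, rfl⟩
  have h4 : W ≤ (xS x N).comap LinearMap.id := by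
    intro n hn
    obtain ⟨m, rfl⟩ := (memW n).1 hn
    exact (mem_xS x _).2 ⟨φ m, rfl⟩
  obtain ⟨f1, hf1⟩ : ∃ f1 : (M ⧸ xS x M) →ₗ[R] (N ⧸ W),
      ∀ m, f1 (Submodule.Quotient.mk m) = Submodule.Quotient.mk (φ m) :=
    ⟨Submodule.mapQ _ _ φ h1, fun m => rfl⟩
  obtain ⟨g1, hg1⟩ : ∃ g1 : (N ⧸ W) →ₗ[R] (N ⧸ LinearMap.range φ),
      ∀ n, g1 (Submodule.Quotient.mk n) = Submodule.Quotient.mk n :=
    ⟨Submodule.mapQ _ _ LinearMap.id h2, fun m => rfl⟩
  obtain ⟨f2, hf2⟩ : ∃ f2 : (N ⧸ LinearMap.range φ) →ₗ[R] (N ⧸ W),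
      ∀ n, f2 (Submodule.Quotient.mk n) = Submodule.Quotient.mk (x • n) :=
    ⟨Submodule.mapQ _ _ (LinearMap.lsmul R N x) h3, fun m => rfl⟩
  obtain ⟨g2, hg2⟩ : ∃ g2 : (N ⧸ W) →ₗ[R] (N ⧸ xS x N),
      ∀ n, g2 (Submodule.Quotient.mk n) = Submodule.Quotient.mk n :=
    ⟨Submodule.mapQ _ _ LinearMap.id h4, fun m => rfl⟩
  have hf1inj : Function.Injective f1 := by
    rw [injective_iff_map_eq_zero]
    intro q hq
    obtain ⟨m, rfl⟩ := Submodule.Quotient.mk_surjective _ q
    rw [hf1, Submodule.Quotient.mk_eq_zero] at hq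
    obtain ⟨m', hm'⟩ := (memW _).1 hq
    have h5 : x • m' = m := hφ (by rw [map_smul, hm'])
    rw [Submodule.Quotient.mk_eq_zero]
    exact (mem_xS x m).2 ⟨m', h5⟩
  have hg1surj : Function.Surjective g1 := by
    intro c
    obtain ⟨n, rfl⟩ := Submodule.Quotient.mk_surjective _ c
    exact ⟨Submodule.Quotient.mk n, hg1 n⟩
  have hex1 : Function.Exact f1 g1 := by
    intro p
    obtain ⟨n, rfl⟩ := Submodule.Quotient.mk_surjective _ p
    rw [hg1, Submodule.Quotient.mk_eq_zero]
    constructor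
    · rintro ⟨m, rfl⟩; exact ⟨Submodule.Quotient.mk m, hf1 m⟩
    · rintro ⟨q, hq⟩
      obtain ⟨m, rfl⟩ := Submodule.Quotient.mk_surjective _ q
      rw [hf1, Submodule.Quotient.eq] at hq
      obtain ⟨m', hm'⟩ := (memW _).1 hq
      refine ⟨m - x • m', ?_⟩
      rw [map_sub, map_smul, hm']; abel
  have e1 := Module.length_eq_add_of_exact f1 g1 hf1inj hg1surj hex1
  have hg2surj : Function.Surjective g2 := by
    intro c
    obtain ⟨n, rfl⟩ := Submodule.Quotient.mk_surjective _ c
    exact ⟨Submodule.Quotient.mk n, hg2 n⟩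
  have hker2 : LinearMap.ker g2 ≤ LinearMap.range f2 := by
    intro p hp
    obtain ⟨n, rfl⟩ := Submodule.Quotient.mk_surjective _ p
    rw [LinearMap.mem_ker, hg2, Submodule.Quotient.mk_eq_zero] at hp
    obtain ⟨n', rfl⟩ := (mem_xS x n).1 hp
    exact ⟨Submodule.Quotient.mk n', hf2 n'⟩
  have e2 := length_le_add_of_exact' f2 g2 hg2surj hker2
  rw [e1, add_comm (Module.length R (N ⧸ LinearMap.range φ))] at e2
  exact (ENat.add_le_add_iff_right hC).1 e2

lemma exists_fg_le_length {P : Type*} [AddCommGroup P] [Module R P] :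
    ∀ k : ℕ, (k : ℕ∞) ≤ Module.length R P →
      ∃ N : Submodule R P, N.FG ∧ (k : ℕ∞) ≤ Module.length R N := by
  intro k
  induction k with
  | zero => intro _; exact ⟨⊥, Submodule.fg_bot, by simp⟩
  | succ k ih =>
    intro hk
    obtain ⟨N, hN, hkN⟩ := ih (le_trans (by exact_mod_cast Nat.le_succ k) hk)
    by_cases hNtop : N = ⊤
    · subst hNtop
      refine ⟨⊤, hN, ?_⟩
      rw [Module.length_top]; exact hk
    · obtain ⟨y, hy⟩ : ∃ y, y ∉ N := by
        by_contra hcon
        push Not at hcon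
        exact hNtop (eq_top_iff.2 fun y _ => hcon y)
      refine ⟨N ⊔ Submodule.span R {y}, hN.sup (Submodule.fg_span_singleton y), ?_⟩
      have hle : N ≤ N ⊔ Submodule.span R {y} := le_sup_left
      have hex := Module.length_eq_add_of_exact (Submodule.inclusion hle)
        (Submodule.mkQ (LinearMap.range (Submodule.inclusion hle)))
        (Submodule.inclusion_injective hle) (Submodule.mkQ_surjective _)
        (LinearMap.exact_map_mkQ_range _)
      rw [hex]
      have hnt : Nontrivial (↥(N ⊔ Submodule.span R {y}) ⧸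
          LinearMap.range (Submodule.inclusion hle)) := by
        rw [Submodule.Quotient.nontrivial_iff]
        intro htop
        have h1 : (⟨y, Submodule.mem_sup_right (Submodule.mem_span_singleton_self y)⟩ :
            ↥(N ⊔ Submodule.span R {y})) ∈ LinearMap.range (Submodule.inclusion hle) :=
          htop ▸ Submodule.mem_top
        obtain ⟨⟨z, hz⟩, hzy⟩ := h1
        apply hy
        have h2 : z = y := congrArg Subtype.val hzy
        exact h2 ▸ hz
      have h1 : (1 : ℕ∞) ≤ Module.length R (↥(N ⊔ Submodule.span R {y}) ⧸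
          LinearMap.range (Submodule.inclusion hle)) :=
        Order.one_le_iff_pos.2 Module.length_pos
      push_cast
      exact add_le_add hkN h1

lemma length_le_of_fg_le {P : Type*} [AddCommGroup P] [Module R P] (B : ℕ)
    (h : ∀ N : Submodule R P, N.FG → Module.length R N ≤ B) : Module.length R P ≤ B := by
  by_contra hcon
  push Not at hcon
  have h1 : ((B + 1 : ℕ) : ℕ∞) ≤ Module.length R P := by
    push_cast; exact Order.add_one_le_of_lt hcon
  obtain ⟨N, hN, hBN⟩ := exists_fg_le_length (B + 1) h1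
  have h2 := hBN.trans (h N hN)
  have h3 : B + 1 ≤ B := by exact_mod_cast h2
  omega

lemma exists_fg_map_ge {M P : Type*} [AddCommGroup M] [Module R M] [AddCommGroup P] [Module R P]
    (π : M →ₗ[R] P) (hπ : Function.Surjective π) (N : Submodule R P) (hN : N.FG) :
    ∃ M₁ : Submodule R M, M₁.FG ∧ N ≤ M₁.map π := by
  obtain ⟨n, s, hs⟩ := Submodule.fg_iff_exists_fin_generating_family.1 hN
  choose y hy using fun i => hπ (s i)
  refine ⟨Submodule.span R (Set.range y), Submodule.fg_span (Set.finite_range y), ?_⟩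
  rw [← hs, Submodule.span_le]
  rintro _ ⟨i, rfl⟩
  exact Submodule.mem_map.2 ⟨y i, Submodule.subset_span ⟨i, rfl⟩, hy i⟩

end basic

lemma withBot_le_zero {D : WithBot ℕ∞} (h : D + 1 ≤ 1) : D ≤ 0 := by
  induction D using WithBot.recBotCoe with
  | bot => exact bot_le
  | coe e =>
    have h' : e + 1 ≤ (1 : ℕ∞) := by exact_mod_cast h
    induction e using ENat.recTopCoe with
    | top => simp at h'
    | coe n =>
      have h2 : n + 1 ≤ 1 := by exact_mod_cast h'
      have h3 : n = 0 := by omega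
      subst h3
      simp

section dimone
variable {R : Type*} [CommRing R] [IsDomain R] [IsNoetherianRing R]

lemma length_quot_ne_top (hdim : ringKrullDim R = 1) (I : Ideal R) (hI : I ≠ ⊥) :
    Module.length R (R ⧸ I) ≠ ⊤ := by
  obtain ⟨a, haI, ha0⟩ := Submodule.exists_mem_ne_zero_of_ne_bot hI
  have hd1 := ringKrullDim_quotient_succ_le_of_nonZeroDivisor
    (mem_nonZeroDivisors_of_ne_zero ha0)
  have hd2 : ringKrullDim (R ⧸ I) ≤ ringKrullDim (R ⧸ Ideal.span {a}) :=
    ringKrullDim_le_of_surjective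
      (Ideal.Quotient.factor ((Ideal.span_singleton_le_iff_mem I).mpr haI))
      (Ideal.Quotient.factor_surjective _)
  rw [hdim] at hd1
  have hd3 : ringKrullDim (R ⧸ I) ≤ 0 := hd2.trans (withBot_le_zero hd1)
  haveI : Ring.KrullDimLE 0 (R ⧸ I) := Ring.krullDimLE_iff.2 (by exact_mod_cast hd3)
  haveI : IsArtinianRing (R ⧸ I) := isArtinianRing_iff_krullDimLE_zero.2 inferInstance
  have h1 : Module.length R (R ⧸ I) = Module.length (R ⧸ I) (R ⧸ I) :=
    Module.length_eq_of_surjective Ideal.Quotient.mk_surjective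
  have h2 : Module.length (R ⧸ I) (R ⧸ I) ≠ ⊤ :=
    Module.length_ne_top_iff.2 ((isArtinianRing_iff_isFiniteLength _).1 inferInstance)
  rw [h1]; exact h2

lemma lengthQ_self_ne_top (hdim : ringKrullDim R = 1) (x : R) (hx : x ≠ 0) :
    Module.length R (R ⧸ xS x R) ≠ ⊤ := by
  apply length_quot_ne_top hdim (xS x R)
  intro hbot
  have h1 : x ∈ xS x R := (mem_xS x x).2 ⟨1, by simp⟩
  rw [hbot, Submodule.mem_bot] at h1
  exact hx h1

variable (K : Type*) [Field K] [Algebra R K] [IsFractionRing R K]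

lemma lengthQ_le_fg (hdim : ringKrullDim R = 1) (x : R)
    (M : Type*) [AddCommGroup M] [Module R M] [Module.Finite R M]
    (ι : M →ₗ[R] K) (hι : Function.Injective ι) :
    Module.length R (M ⧸ xS x M) ≤ Module.length R (R ⧸ xS x R) := by
  classical
  by_cases hM : Subsingleton M
  · have h0 : Module.length R M = 0 := Module.length_eq_zero
    have h1 := Module.length_le_of_surjective (xS x M).mkQ (Submodule.mkQ_surjective _)
    rw [h0] at h1
    exact h1.trans zero_le
  rw [not_subsingleton_iff_nontrivial] at hM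
  obtain ⟨s, hs⟩ := (Module.Finite.fg_top : (⊤ : Submodule R M).FG)
  obtain ⟨b, hb⟩ :=
    IsLocalization.exist_integer_multiples_of_finset (nonZeroDivisors R) (s.image ι)
  have hb0 : (b : R) ≠ 0 := nonZeroDivisors.coe_ne_zero b
  obtain ⟨ψ, hψ⟩ : ∃ ψ : M →ₗ[R] K, ∀ m, ψ m = (b : R) • ι m := ⟨(b : R) • ι, fun m => rfl⟩
  obtain ⟨L, hL⟩ : ∃ L : Submodule R K, L = LinearMap.range (Algebra.linearMap R K) :=
    ⟨_, rfl⟩
  have hψL : ∀ m, ψ m ∈ L := by
    have h1 : (⊤ : Submodule R M) ≤ L.comap ψ := by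
      rw [← hs, Submodule.span_le]
      intro m hm
      rw [SetLike.mem_coe, Submodule.mem_comap, hψ, hL]
      obtain ⟨c, hc⟩ := hb (ι m) (Finset.mem_image_of_mem ι hm)
      exact ⟨c, hc⟩
    intro m; exact h1 Submodule.mem_top
  have hinjK : Function.Injective (Algebra.linearMap R K) := IsFractionRing.injective R K
  obtain ⟨e, he⟩ : ∃ e : R ≃ₗ[R] L, ∀ c, ((e c : L) : K) = algebraMap R K c := by
    subst hL
    exact ⟨LinearEquiv.ofInjective (Algebra.linearMap R K) hinjK, fun c => rfl⟩
  obtain ⟨φ, hφ⟩ : ∃ φ : M →ₗ[R] R, ∀ m, algebraMap R K (φ m) = (b : R) • ι m := by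
    refine ⟨e.symm.toLinearMap ∘ₗ ψ.codRestrict L hψL, fun m => ?_⟩
    rw [← he, ← hψ]
    simp
  have hφinj : Function.Injective φ := by
    rw [injective_iff_map_eq_zero]
    intro m hm
    have h1 := hφ m
    rw [hm, map_zero, Algebra.smul_def] at h1
    have h2 : algebraMap R K (b : R) ≠ 0 :=
      (map_ne_zero_iff _ (IsFractionRing.injective R K)).2 hb0
    have h3 : ι m = 0 := by
      rcases mul_eq_zero.1 h1.symm with h | h
      · exact absurd h h2
      · exact h
    exact hι (by rw [h3, map_zero])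
  have hrange : LinearMap.range φ ≠ ⊥ := by
    obtain ⟨m, hm⟩ := exists_ne (0 : M)
    intro hbot
    have h1 : φ m ∈ LinearMap.range φ := ⟨m, rfl⟩
    rw [hbot, Submodule.mem_bot] at h1
    exact hm (hφinj (by rw [h1, map_zero]))
  have hC : Module.length R (R ⧸ LinearMap.range φ) ≠ ⊤ :=
    length_quot_ne_top hdim (LinearMap.range φ) hrange
  exact lengthQ_le_of_injective_of_coker x φ hφinj hC

lemma lengthQ_le_rank_one (hdim : ringKrullDim R = 1) (x : R) (hx : x ≠ 0)
    (M : Type*) [AddCommGroup M] [Module R M]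
    (ι : M →ₗ[R] K) (hι : Function.Injective ι) :
    Module.length R (M ⧸ xS x M) ≤ Module.length R (R ⧸ xS x R) := by
  have hfin := lengthQ_self_ne_top hdim x hx
  obtain ⟨B, hB⟩ := ENat.ne_top_iff_exists.1 hfin
  rw [← hB]
  apply length_le_of_fg_le
  intro N hN
  obtain ⟨M₁, hM₁, hNle⟩ := exists_fg_map_ge (xS x M).mkQ (Submodule.mkQ_surjective _) N hN
  haveI : Module.Finite R M₁ := Module.Finite.iff_fg.2 hM₁
  have h1 := lengthQ_le_fg K hdim x M₁ (ι ∘ₗ M₁.subtype)
    (hι.comp M₁.injective_subtype)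
  have h2 : M₁.map (xS x M).mkQ ≤ LinearMap.range (Qmap x M₁.subtype) := by
    rintro _ ⟨m, hm, rfl⟩
    exact ⟨Submodule.Quotient.mk ⟨m, hm⟩, rfl⟩
  calc Module.length R N ≤ Module.length R (LinearMap.range (Qmap x M₁.subtype)) :=
        Module.length_le_of_injective (Submodule.inclusion (hNle.trans h2))
          (Submodule.inclusion_injective _)
    _ ≤ Module.length R (M₁ ⧸ xS x M₁) :=
        Module.length_le_of_surjective (LinearMap.rangeRestrict _)
          (LinearMap.surjective_rangeRestrict _)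
    _ ≤ Module.length R (R ⧸ xS x R) := h1
    _ = B := hB.symm

theorem lengthQ_ne_top (hdim : ringKrullDim R = 1) (x : R) (hx : x ≠ 0) :
    ∀ (r : ℕ) (M : Type v) [AddCommGroup M] [Module R M]
    (ι : M →ₗ[R] (Fin r → K)), Function.Injective ι →
      Module.length R (M ⧸ xS x M) ≠ ⊤ := by
  intro r
  induction r with
  | zero =>
    intro M _ _ ι hι
    haveI : Subsingleton M := hι.subsingleton
    have h0 : Module.length R M = 0 := Module.length_eq_zero
    have h1 := Module.length_le_of_surjective (xS x M).mkQ (Submodule.mkQ_surjective _)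
    rw [h0] at h1
    exact ne_top_of_le_ne_top (by simp) h1
  | succ r ih =>
    intro M _ _ ι hι
    obtain ⟨g, hg⟩ : ∃ g : M →ₗ[R] K, ∀ m, g m = ι m 0 :=
      ⟨(LinearMap.proj 0 : (Fin (r + 1) → K) →ₗ[R] K) ∘ₗ ι, fun m => rfl⟩
    obtain ⟨ι', hι'⟩ : ∃ ι' : LinearMap.ker g →ₗ[R] (Fin r → K),
        ∀ m i, ι' m i = ι m i.succ :=
      ⟨(LinearMap.funLeft R K Fin.succ) ∘ₗ ι ∘ₗ (LinearMap.ker g).subtype, fun m i => rfl⟩
    have hι'inj : Function.Injective ι' := by
      rw [injective_iff_map_eq_zero]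
      intro m hm
      have h1 : ι (m : M) = 0 := by
        funext i
        induction i using Fin.cases with
        | zero => rw [← hg]; exact LinearMap.mem_ker.1 m.2
        | succ j => rw [← hι', hm]; rfl
      have h2 : (m : M) = 0 := hι (by rw [h1, map_zero])
      exact Subtype.ext h2
    have hA := ih (LinearMap.ker g) ι' hι'inj
    have hB : Module.length R (LinearMap.range g ⧸ xS x (LinearMap.range g)) ≤
        Module.length R (R ⧸ xS x R) :=
      lengthQ_le_rank_one K hdim x hx _ (LinearMap.range g).subtype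
        (Submodule.injective_subtype _)
    have hle := lengthQ_le_add x (LinearMap.ker g).subtype g.rangeRestrict
      g.surjective_rangeRestrict (by
        rw [LinearMap.ker_rangeRestrict, Submodule.range_subtype])
    exact ne_top_of_le_ne_top (WithTop.add_ne_top.2
      ⟨hA, ne_top_of_le_ne_top (lengthQ_self_ne_top hdim x hx) hB⟩) hle

end dimone

theorem main (R : Type u) [CommRing R] [IsDomain R]
    [IsNoetherianRing R] (hdim : ringKrullDim R = 1) (K : Type u) [Field K] [Algebra R K]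
    [IsFractionRing R K] (r : ℕ) (M : Submodule R (Fin r → K)) (x : R) (hx : x ≠ 0) :
    Module.length R (M ⧸ (Ideal.span ({x} : Set R) • (⊤ : Submodule R M))) ≠ ⊤ :=
  lengthQ_ne_top K hdim x hx r M M.subtype M.injective_subtype

end H9134

/-- Let R be a Noetherian domain of dimension one with fraction field K, M an R-submodule of K^r, and x
a nonzero element of R. Then M/xM has finite length over R. -/
theorem result (R : Type u) [CommRing R] [IsDomain R]
    [IsNoetherianRing R] (hdim : ringKrullDim R = 1) (K : Type u) [Field K] [Algebra R K]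
    [IsFractionRing R K] (r : ℕ) (M : Submodule R (Fin r → K)) (x : R) (hx : x ≠ 0) :
    Module.length R (M ⧸ (Ideal.span ({x} : Set R) • (⊤ : Submodule R M))) ≠ ⊤ := by
  exact H9134.main R hdim K r M x hx

end Groth.Agent.S9134
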