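import Groth.Statements.S9135
import Mathlib

set_option autoImplicit false
universe u
open CAlg

namespace Groth.Agent.S9135

section helpers
open Polynomial TensorProduct

lemma exists_mul_pow_eq_zero {R S : Type*} [CommRing R] [CommRing S] [Algebra R S]
    (p : Ideal R) (hp : p ∈ minimalPrimes R) (t : S)
    (ht : ∀ Q : Ideal S, Q.IsPrime → Q.LiesOver p → t ∈ Q) :
    ∃ c : R, c ∉ p ∧ ∃ N : ℕ, algebraMap R S c * t ^ N = 0 := by
  haveI : p.IsPrime := Ideal.minimalPrimes_isPrime hp
  by_contra hcon
  push Not at hcon
  let T : Submonoid S := Algebra.algebraMapSubmonoid S p.primeCompl ⊔ Submonoid.powers t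
  have hdisj : Disjoint ((⊥ : Ideal S) : Set S) (T : Set S) := by
    rw [Set.disjoint_left]
    intro x hx hxT
    have hx0 : x = 0 := hx
    obtain ⟨y, hy, z, hz, hyz⟩ := Submonoid.mem_sup.mp hxT
    obtain ⟨c, hc, rfl⟩ := Submonoid.mem_map.mp hy
    obtain ⟨N, rfl⟩ := hz
    exact hcon c hc N (by rw [← hx0]; exact hyz)
  obtain ⟨Q, hQ, -, hQT⟩ := Ideal.exists_le_prime_disjoint ⊥ T hdisj
  have hle : Q.comap (algebraMap R S) ≤ p := by
    intro r hr
    by_contra hrp
    exact Set.disjoint_left.mp hQT hr
      (Submonoid.mem_sup_left (Algebra.mem_algebraMapSubmonoid_of_mem ⟨r, hrp⟩))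
  have heq : p = Q.comap (algebraMap R S) :=
    le_antisymm (hp.2 ⟨inferInstance, bot_le⟩ hle) hle
  have htQ : t ∈ Q := ht Q hQ ⟨heq⟩
  exact Set.disjoint_left.mp hQT htQ (Submonoid.mem_sup_right (Submonoid.mem_powers t))

end helpers


/-- Let R → S be of finite type and p a minimal prime of R over which only finitely many primes of S
lie. Then for some g ∈ R outside p the localized map R_g → S_g is finite. -/
theorem result (R S : Type u) [CommRing R] [CommRing S]
    [Algebra R S] [Algebra.FiniteType R S] (p : Ideal R) (hp : p ∈ minimalPrimes R)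
    (hfin : (p.primesOver S).Finite) :
    ∃ g : R, g ∉ p ∧ (Localization.awayMap (algebraMap R S) g).Finite := by
  classical
  haveI hpp : p.IsPrime := Ideal.minimalPrimes_isPrime hp
  -- Step 1: the fibre is finite over the residue field
  have hfib : Module.Finite p.ResidueField (p.Fiber S) := by
    rw [Module.finite_iff_isArtinianRing, isArtinianRing_iff_isNoetherianRing_krullDimLE_zero]
    have : IsJacobsonRing (p.Fiber S) := isJacobsonRing_of_finiteType (A := p.ResidueField)
    have : Finite (PrimeSpectrum (p.Fiber S)) :=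
      (PrimeSpectrum.primesOverOrderIsoFiber R S p).toEquiv.finite_iff.mp hfin.to_subtype
    exact ⟨Algebra.FiniteType.isNoetherianRing p.ResidueField _,
      (PrimeSpectrum.discreteTopology_iff_finite_and_krullDimLE_zero.mp inferInstance).right⟩
  -- Step 2: each element is integral up to localisation
  have key : ∀ s : S, ∃ b : R, b ∉ p ∧ ∃ c : R, c ∉ p ∧ ∃ G : Polynomial R, G.Monic ∧ ∃ N : ℕ,
      algebraMap R S c * (Polynomial.aeval (b • s) G) ^ N = 0 := by
    intro s
    have hint : IsIntegral p.ResidueField
        (TensorProduct.tmul R (1 : p.ResidueField) s : p.Fiber S) :=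
      Algebra.IsIntegral.isIntegral _
    obtain ⟨m, hm⟩ := IsIntegral.exists_multiple_integral_of_isLocalization
      (nonZeroDivisors (R ⧸ p)) _ hint
    obtain ⟨b, hb⟩ := Ideal.Quotient.mk_surjective (m : R ⧸ p)
    have hbp : b ∉ p := by
      intro hbp
      have : (m : R ⧸ p) = 0 := by rw [← hb]; exact Ideal.Quotient.eq_zero_iff_mem.mpr hbp
      exact nonZeroDivisors.coe_ne_zero m this
    have hmx : m • (TensorProduct.tmul R (1 : p.ResidueField) s : p.Fiber S) =
        TensorProduct.tmul R (1 : p.ResidueField) (b • s) := by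
      rw [Submonoid.smul_def, ← hb, TensorProduct.tmul_smul]
      exact algebraMap_smul (R ⧸ p) b _
    rw [hmx] at hm
    have hm' : IsIntegral R (TensorProduct.tmul R (1 : p.ResidueField) (b • s) : p.Fiber S) :=
      isIntegral_trans (A := R ⧸ p) _ hm
    obtain ⟨G, hG, hG0⟩ := hm'
    let ι : S →ₐ[R] p.Fiber S := Algebra.TensorProduct.includeRight
    have hι : ι (Polynomial.aeval (b • s) G) = 0 := by
      rw [← Polynomial.aeval_algHom_apply, Polynomial.aeval_def]
      exact hG0
    have hQt : ∀ Q : Ideal S, Q.IsPrime → Q.LiesOver p → Polynomial.aeval (b • s) G ∈ Q := by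
      intro Q hQ hQp
      let e := PrimeSpectrum.primesOverOrderIsoFiber R S p
      let x : p.primesOver S := ⟨Q, hQ, hQp⟩
      have h1 : (e.symm (e x)).1 = Q := congrArg Subtype.val (e.symm_apply_apply x)
      have h2 : Polynomial.aeval (b • s) G ∈ (e.symm (e x)).1 := by
        show Polynomial.aeval (b • s) G ∈ Ideal.comap ι.toRingHom (e x).asIdeal
        rw [Ideal.mem_comap]
        have : ι.toRingHom (Polynomial.aeval (b • s) G) = 0 := hι
        rw [this]; exact Ideal.zero_mem _
      rw [h1] at h2; exact h2
    obtain ⟨c, hc, N, hN⟩ := exists_mul_pow_eq_zero p hp _ hQt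
    exact ⟨b, hbp, c, hc, G, hG, N, hN⟩
  -- Step 3: spread out
  obtain ⟨σ, hσ⟩ := (Algebra.FiniteType.out : (⊤ : Subalgebra R S).FG)
  choose b hb c hc G hG N hN using key
  let g : R := ∏ s ∈ σ, (b s * c s)
  have hg : g ∉ p := by
    intro h
    obtain ⟨s, -, hs⟩ := Ideal.IsPrime.prod_mem_iff.mp h
    rcases hpp.mem_or_mem hs with h | h
    exacts [hb s h, hc s h]
  refine ⟨g, hg, RingHom.finite_iff_isIntegral_and_finiteType.mpr ⟨?_, ?_⟩⟩
  swap
  · exact RingHom.localization_away_map_finiteType R S _ _ (algebraMap R S) g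
      (RingHom.finiteType_algebraMap.mpr inferInstance)
  · let A := Localization.Away g
    let B := Localization.Away (algebraMap R S g)
    let φ : A →+* B := Localization.awayMap (algebraMap R S) g
    letI : Algebra A B := φ.toAlgebra
    haveI : IsScalarTower R A B := IsScalarTower.of_algebraMap_eq' (by
      rw [IsScalarTower.algebraMap_eq R S B, RingHom.algebraMap_toAlgebra]
      exact (IsLocalization.map_comp _).symm)
    let ψ : S →ₐ[R] B := IsScalarTower.toAlgHom R S B
    let C : Subalgebra A B := integralClosure A B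
    have hunitA : IsUnit (algebraMap R A g) := IsLocalization.Away.algebraMap_isUnit g
    have hgen : ∀ s ∈ σ, ψ s ∈ C := by
      intro s hs
      have hdvd : b s * c s ∣ g := Finset.dvd_prod_of_mem _ hs
      have hbA : IsUnit (algebraMap R A (b s)) :=
        isUnit_of_dvd_unit (map_dvd (algebraMap R A) ((dvd_mul_right _ _).trans hdvd)) hunitA
      have hcA : IsUnit (algebraMap R A (c s)) :=
        isUnit_of_dvd_unit (map_dvd (algebraMap R A) ((dvd_mul_left _ _).trans hdvd)) hunitA
      have hcB : IsUnit (algebraMap R B (c s)) := by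
        rw [IsScalarTower.algebraMap_apply R A B]; exact hcA.map _
      have h1 : algebraMap R B (c s) * (Polynomial.aeval (ψ (b s • s)) (G s)) ^ N s = 0 := by
        have := congrArg ψ (hN s)
        rw [map_mul, map_pow, map_zero, AlgHom.commutes, ← Polynomial.aeval_algHom_apply] at this
        exact this
      have h2 : (Polynomial.aeval (ψ (b s • s)) (G s)) ^ N s = 0 :=
        (hcB.mul_right_eq_zero).mp h1
      have h3 : IsIntegral R (ψ (b s • s)) :=
        ⟨(G s) ^ N s, (hG s).pow _, by rw [← Polynomial.aeval_def, map_pow, h2]⟩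
      have h4 : IsIntegral A (ψ (b s • s)) := h3.tower_top
      obtain ⟨β, hβ⟩ := hbA.exists_left_inv
      have h5 : ψ s = algebraMap A B β * ψ (b s • s) := by
        rw [map_smul, Algebra.smul_def, IsScalarTower.algebraMap_apply R A B, ← mul_assoc,
          ← map_mul, hβ, map_one, one_mul]
      show IsIntegral A (ψ s)
      rw [h5]
      exact isIntegral_algebraMap.mul h4
    have himg : ∀ x : S, ψ x ∈ C := by
      intro x
      have hx : x ∈ Algebra.adjoin R (σ : Set S) := by rw [hσ]; trivial
      induction hx using Algebra.adjoin_induction with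
      | mem x hx => exact hgen x hx
      | algebraMap r =>
        rw [AlgHom.commutes, IsScalarTower.algebraMap_apply R A B]
        exact Subalgebra.algebraMap_mem C _
      | add x y _ _ hx hy => rw [map_add]; exact C.add_mem hx hy
      | mul x y _ _ hx hy => rw [map_mul]; exact C.mul_mem hx hy
    have hall : ∀ y : B, y ∈ C := by
      intro y
      obtain ⟨x, ⟨_, n, rfl⟩, rfl⟩ :=
        IsLocalization.exists_mk'_eq (Submonoid.powers (algebraMap R S g)) y
      obtain ⟨γ, hγ⟩ := hunitA.exists_left_inv
      have hy : IsLocalization.mk' B x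
          (⟨(algebraMap R S g) ^ n, n, rfl⟩ : Submonoid.powers (algebraMap R S g)) =
          ψ x * algebraMap A B (γ ^ n) := by
        rw [IsLocalization.mk'_eq_iff_eq_mul]
        have h : algebraMap A B (γ ^ n) * algebraMap S B ((algebraMap R S g) ^ n) = 1 := by
          rw [← map_pow (algebraMap R S), ← IsScalarTower.algebraMap_apply R S B,
            IsScalarTower.algebraMap_apply R A B, ← map_mul, map_pow (algebraMap R A), ← mul_pow,
            hγ, one_pow, map_one]
        rw [mul_assoc, h, mul_one]; rfl
      rw [hy]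
      exact C.mul_mem (himg x) (Subalgebra.algebraMap_mem C _)
    intro y
    exact hall y

end Groth.Agent.S9135
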