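import Groth.Statements.S9143
import Mathlib
import Groth.Agent.Lib.Helper25.CIOver
set_option linter.style.haveILetI false

set_option autoImplicit false
universe u
open Synt

namespace Groth.Agent.S9143

/-- For a local k-algebra S which is essentially of finite type over a field k, being a complete
intersection over k is equivalent to each of: (2) whenever a regular local ring R, essentially of
finite type over k, maps onto S by a surjective k-algebra map, the kernel is generated by a regular
sequence; (3) some regular local ring R, essentially of finite type over k, maps onto S by a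
surjective k-algebra map whose kernel is generated by a list of dim R − dim S elements (stated as
dim R = dim S + the length of the list); (4) S is isomorphic over k to a localization at a prime of
a global complete intersection over k; (5) the same with a local complete intersection over k. -/
theorem result (k S : Type u) [Field k] [CommRing S]
    [IsLocalRing S] [Algebra k S] [Algebra.EssFiniteType k S] :
    (Synt.IsCIOver k S ↔
        ∀ (R : Type u) [CommRing R] [IsRegularLocalRing R] [Algebra k R], Algebra.EssFiniteType k R →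
          ∀ π : R →ₐ[k] S, Function.Surjective π →
            ∃ rs : List R, RingTheory.Sequence.IsRegular R rs ∧ RingHom.ker π.toRingHom = Ideal.ofList rs) ∧
      (Synt.IsCIOver k S ↔
        ∃ (R : Type u) (_ : CommRing R) (_ : IsRegularLocalRing R) (_ : Algebra k R),
          Algebra.EssFiniteType k R ∧ ∃ π : R →ₐ[k] S, Function.Surjective π ∧
            ∃ rs : List R, RingHom.ker π.toRingHom = Ideal.ofList rs ∧
              ringKrullDim R = ringKrullDim S + (rs.length : WithBot ℕ∞)) ∧
      (Synt.IsCIOver k S ↔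
        ∃ (A : Type u) (_ : CommRing A) (_ : Algebra k A) (a : Ideal A) (_ : a.IsPrime),
          Algebra.FiniteType k A ∧ Synt.IsGlobalCI k A ∧ Nonempty (S ≃ₐ[k] Localization.AtPrime a)) ∧
      (Synt.IsCIOver k S ↔
        ∃ (A : Type u) (_ : CommRing A) (_ : Algebra k A) (a : Ideal A) (_ : a.IsPrime),
          Synt.IsLCIOver k A ∧ Nonempty (S ≃ₐ[k] Localization.AtPrime a)) := by
  have hmodel := Groth.Agent.Lib.Helper25.CIOver.exists_literal_model k S
  have hfwd3 : Synt.IsCIOver k S →
      ∃ (A : Type u) (_ : CommRing A) (_ : Algebra k A) (a : Ideal A) (_ : a.IsPrime),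
        Algebra.FiniteType k A ∧ Synt.IsGlobalCI k A ∧
          Nonempty (S ≃ₐ[k] Localization.AtPrime a) := by
    intro h
    obtain ⟨A, i1, i2, hft, a, ha, ⟨ε⟩⟩ := Groth.Agent.Lib.Helper25.CIOver.exists_atPrime_model k S
    haveI := ha
    haveI := hft
    have hT : Synt.IsCIOver k (Localization.AtPrime a) :=
      Groth.Agent.Lib.Helper25.CIOver.isCIOver_of_algEquiv ε h
    obtain ⟨g, hg, hci⟩ := (Groth.Agent.Lib.Helper25.CIOver.isCIOver_atPrime_iff k A a).mp hT
    obtain ⟨a', ha', ⟨ε'⟩⟩ :=
      Groth.Agent.Lib.Helper25.CIOver.exists_atPrime_away_equiv k A a g hg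
    exact ⟨Localization.Away g, inferInstance, inferInstance, a', ha',
      Groth.Agent.Lib.Helper25.CIOver.finiteType_away k A g, hci, ⟨ε.trans ε'.symm⟩⟩
  refine ⟨⟨?_, ?_⟩, ⟨?_, ?_⟩, ⟨hfwd3, ?_⟩, ⟨?_, ?_⟩⟩
  · -- (1) ⇒
    intro h R _ _ _ _ π hπ
    exact Groth.Agent.Lib.Helper25.CIOver.exists_regular_ker h π.toRingHom hπ
  · -- (1) ⇐
    intro H
    obtain ⟨n, I, q, hq, ⟨ε⟩⟩ := hmodel
    haveI := hq
    have hess := Groth.Agent.Lib.Helper25.CIOver.essFiniteType_atPrime k n
      (q.comap (Ideal.Quotient.mk I))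
    let π : Localization.AtPrime (q.comap (Ideal.Quotient.mk I)) →ₐ[k] S :=
      (ε.symm : Localization.AtPrime q →ₐ[k] S).comp
        (Groth.Agent.Lib.Helper25.CIOver.locMap k n I q)
    have hπ : Function.Surjective π :=
      ε.symm.surjective.comp (Groth.Agent.Lib.Helper25.CIOver.locMap_surjective k n I q)
    obtain ⟨rs, hreg, hker⟩ := H _ hess π hπ
    exact Groth.Agent.Lib.Helper25.CIOver.isCIOver_of_ker hess π hπ rs hreg hker
  · -- (2) ⇒
    intro h
    obtain ⟨R, i1, i2, i3, hR, rs, hmem, hreg, ⟨e⟩⟩ := h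
    let π : R →ₐ[k] S :=
      (e.symm : (R ⧸ Ideal.ofList rs) →ₐ[k] S).comp (Ideal.Quotient.mkₐ k (Ideal.ofList rs))
    have hπ : Function.Surjective π :=
      e.symm.surjective.comp (Ideal.Quotient.mkₐ_surjective k (Ideal.ofList rs))
    have hker : RingHom.ker π.toRingHom = Ideal.ofList rs := by
      ext x
      rw [RingHom.mem_ker]
      show e.symm (Ideal.Quotient.mk (Ideal.ofList rs) x) = 0 ↔ _
      rw [EmbeddingLike.map_eq_zero_iff, Ideal.Quotient.eq_zero_iff_mem]
    have h1 := ringKrullDim_add_length_eq_ringKrullDim_of_isRegular rs hreg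
    have h2 : ringKrullDim S = ringKrullDim (R ⧸ Ideal.ofList rs) :=
      ringKrullDim_eq_of_ringEquiv e.toRingEquiv
    exact ⟨R, i1, i2, i3, hR, π, hπ, rs, hker, by rw [← h1, h2]⟩
  · -- (2) ⇐
    rintro ⟨R, i1, i2, i3, hR, π, hπ, rs, hker, hdim⟩
    have hJ : RingHom.ker π.toRingHom ≠ ⊤ := RingHom.ker_ne_top _
    have hJm : RingHom.ker π.toRingHom ≤ IsLocalRing.maximalIdeal R :=
      IsLocalRing.le_maximalIdeal hJ
    haveI : Nontrivial (R ⧸ RingHom.ker π.toRingHom) := Ideal.Quotient.nontrivial_iff.mpr hJ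
    haveI : IsLocalRing (R ⧸ RingHom.ker π.toRingHom) :=
      IsLocalRing.of_surjective' (Ideal.Quotient.mk _) Ideal.Quotient.mk_surjective
    have hdimS : ringKrullDim (R ⧸ RingHom.ker π.toRingHom) = ringKrullDim S :=
      ringKrullDim_eq_of_ringEquiv
        (RingHom.quotientKerEquivOfSurjective (f := π.toRingHom) hπ)
    have h2 : (RingHom.ker π.toRingHom).spanFinrank ≤ rs.length := by
      rw [hker]; exact Groth.Agent.Lib.Helper27.KosH1.spanFinrank_ofList_le rs
    have h3 : ringKrullDim R ≤ ringKrullDim (R ⧸ RingHom.ker π.toRingHom) +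
        (RingHom.ker π.toRingHom).spanFinrank :=
      ringKrullDim_le_ringKrullDim_quotient_add_spanFinrank _ (by
        rw [IsLocalRing.ringJacobson_eq_maximalIdeal]; exact hJm)
    have h4 : ringKrullDim (R ⧸ RingHom.ker π.toRingHom) +
        ((RingHom.ker π.toRingHom).spanFinrank : WithBot ℕ∞) = ringKrullDim R := by
      apply le_antisymm _ h3
      rw [hdim, hdimS]
      gcongr
    have hci := (Groth.Agent.Lib.Helper27.CILocus.ci_iff_dim R _ hJ).2 h4
    obtain ⟨rs', hof, hreg⟩ := (Groth.Agent.S2166.result _ hJ).1 hci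
    exact Groth.Agent.Lib.Helper25.CIOver.isCIOver_of_ker hR π hπ rs' hreg hof.symm
  · -- (3) ⇐
    rintro ⟨A, i1, i2, a, ha, hft, hci, ⟨ε⟩⟩
    haveI := ha
    haveI := hft
    exact Groth.Agent.Lib.Helper25.CIOver.isCIOver_of_algEquiv ε.symm
      ((Groth.Agent.Lib.Helper25.CIOver.isCIOver_atPrime_iff k A a).mpr
        ⟨1, fun h1 => ha.ne_top ((Ideal.eq_top_iff_one _).mpr h1),
          Groth.Agent.Lib.Helper24.LocCI.isGlobalCI_away k A 1 hci⟩)
  · -- (4) ⇒
    intro h
    obtain ⟨A, i1, i2, a, ha, hft, hci, hε⟩ := hfwd3 h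
    haveI := hft
    exact ⟨A, i1, i2, a, ha, Groth.Agent.Lib.Helper25.CIOver.isLCIOver_of_isGlobalCI k A hci, hε⟩
  · -- (4) ⇐
    rintro ⟨A, i1, i2, a, ha, hL, ⟨ε⟩⟩
    haveI := ha
    haveI := hL.1
    exact Groth.Agent.Lib.Helper25.CIOver.isCIOver_of_algEquiv ε.symm
      ((Groth.Agent.Lib.Helper25.CIOver.isCIOver_atPrime_iff k A a).mpr (hL.2 ⟨a, ha⟩))

end Groth.Agent.S9143
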