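import Groth.Statements.S9152
import Groth.Agent.Lib.Helper4.CMOpen

set_option autoImplicit false
universe u
open CAlg

namespace Groth.Agent.S9152

/-- The Cohen–Macaulay locus of a finite type algebra over a field is open. -/
theorem result (k S : Type u) [Field k] [CommRing S] [Algebra k S]
    [Algebra.FiniteType k S] :
    IsOpen {q : PrimeSpectrum S | LocCoh.IsCohenMacaulayLocalRing (Localization.AtPrime q.asIdeal)} := by
  obtain ⟨m, f, hf⟩ := Algebra.FiniteType.iff_quotient_mvPolynomial''.mp
    (inferInstance : Algebra.FiniteType k S)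
  letI : Algebra (MvPolynomial (Fin m) k) S := f.toRingHom.toAlgebra
  have hsurj : Function.Surjective (algebraMap (MvPolynomial (Fin m) k) S) := hf
  have hdim : ringKrullDim (MvPolynomial (Fin m) k) ≤ (m : WithBot ℕ∞) := by
    rw [MvPolynomial.ringKrullDim_of_isNoetherianRing, ringKrullDim_eq_zero_of_field]
    simp
  exact Groth.Agent.Lib.Helper4.CMOpen.isOpen_cmLocus (MvPolynomial (Fin m) k) m S hdim hsurj

end Groth.Agent.S9152
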