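import Groth.Statements.S9153
import Groth.Agent.Lib.Helper14.CMUnivCat

set_option autoImplicit false
universe u
open CAlg

namespace Groth.Agent.S9153

/-- In a polynomial ring in finitely many variables over a field, every saturated chain of primes
between two primes p ⊆ q has length equal to the difference of their heights (stated additively:
length + height p = height q). -/
theorem result (k : Type u) [Field k] (n : ℕ)
    (s : LTSeries (PrimeSpectrum (MvPolynomial (Fin n) k)))
    (hsat : ∀ i : Fin s.length, s (Fin.castSucc i) ⋖ s (Fin.succ i)) :
    (s.length : ℕ∞) + s.head.asIdeal.height = s.last.asIdeal.height := by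
  haveI : LocCoh.IsCohenMacaulayRing (MvPolynomial (Fin n) k) :=
    Groth.Agent.Lib.Helper14.CMFlat.cm_of_isRegularRing _
  have key : ∀ i : ℕ, (hi : i ≤ s.length) →
      (i : ℕ∞) + s.head.asIdeal.height = (s ⟨i, by omega⟩).asIdeal.height := by
    intro i
    induction i with
    | zero => intro _; simp [RelSeries.head]
    | succ i ih =>
      intro hi
      have h1 := ih (by omega)
      have h2 := Groth.Agent.Lib.Helper14.CMUnivCat.height_eq_add_one_of_covBy _
        (hsat ⟨i, by omega⟩)
      simp only [Fin.castSucc_mk, Fin.succ_mk] at h2
      rw [h2, ← h1]
      push_cast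
      ring
  exact key s.length le_rfl

end Groth.Agent.S9153
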