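-- Statement S9155.
import Groth.Statements.S9155
import Mathlib
import Groth.Agent.S9465
set_option linter.style.haveILetI false

set_option autoImplicit false
universe u
open Diff16

namespace Groth.Agent.S9155

open TensorProduct

section Conj

variable {A B : Type u} [CommRing A] [CommRing B] [Algebra A B]
  {M₁ N₁ M₂ N₂ : Type u}
  [AddCommGroup M₁] [Module A M₁] [Module B M₁] [IsScalarTower A B M₁]
  [AddCommGroup N₁] [Module A N₁] [Module B N₁] [IsScalarTower A B N₁]
  [AddCommGroup M₂] [Module A M₂] [Module B M₂] [IsScalarTower A B M₂]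
  [AddCommGroup N₂] [Module A N₂] [Module B N₂] [IsScalarTower A B N₂]

/-- conjugate an `A`-linear map by `B`-linear equivalences. -/
def conj (eM : M₁ ≃ₗ[B] M₂) (eN : N₁ ≃ₗ[B] N₂) (D : M₁ →ₗ[A] N₁) : M₂ →ₗ[A] N₂ where
  toFun m := eN (D (eM.symm m))
  map_add' x y := by rw [map_add, map_add, map_add]
  map_smul' a x := by
    have h1 : eM.symm (a • x) = a • eM.symm x :=
      LinearMap.map_smul_of_tower eM.symm.toLinearMap a x
    have h2 : ∀ y, eN (a • y) = a • eN y := fun y =>
      LinearMap.map_smul_of_tower eN.toLinearMap a y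
    rw [RingHom.id_apply, h1, D.map_smul, h2]

theorem conj_apply (eM : M₁ ≃ₗ[B] M₂) (eN : N₁ ≃ₗ[B] N₂) (D : M₁ →ₗ[A] N₁) (m : M₂) :
    conj eM eN D m = eN (D (eM.symm m)) := rfl

theorem isDiffOpLE_conj (eM : M₁ ≃ₗ[B] M₂) (eN : N₁ ≃ₗ[B] N₂) (k : ℕ) :
    ∀ (D : M₁ →ₗ[A] N₁), Diff16.IsDiffOpLE A B M₁ N₁ k D →
      Diff16.IsDiffOpLE A B M₂ N₂ k (conj eM eN D) := by
  induction k with
  | zero =>
    intro D hD b m
    rw [conj_apply, conj_apply, eM.symm.map_smul, hD, eN.map_smul]
  | succ k ih =>
    intro D hD b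
    have h1 : Diff16.commutator A B M₂ N₂ (conj eM eN D) b =
        conj eM eN (Diff16.commutator A B M₁ N₁ D b) := by
      ext m
      change conj eM eN D (b • m) - b • conj eM eN D m =
        eN (D (b • eM.symm m) - b • D (eM.symm m))
      rw [conj_apply, conj_apply, eM.symm.map_smul, map_sub, eN.map_smul]
    rw [h1]
    exact ih _ (hD b)

end Conj

/-- A differential operator of order at most k between modules over B (relative to A → B) has exactly
one extension to the localized modules over S⁻¹B that is again a differential operator of order at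
most k (relative to A → S⁻¹B), compatible with the localization maps. -/
theorem result (A B : Type u) [CommRing A] [CommRing B] [Algebra A B]
    (S : Submonoid B) (M N : Type u) [AddCommGroup M] [Module B M] [Module A M] [IsScalarTower A B M]
    [AddCommGroup N] [Module B N] [Module A N] [IsScalarTower A B N] (k : ℕ) (D : M →ₗ[A] N)
    (hD : Diff16.IsDiffOpLE A B M N k D) :
    ∃! E : LocalizedModule S M →ₗ[A] LocalizedModule S N,
      Diff16.IsDiffOpLE A (Localization S) (LocalizedModule S M) (LocalizedModule S N) k E ∧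
        E ∘ₗ (LocalizedModule.mkLinearMap S M).restrictScalars A =
          (LocalizedModule.mkLinearMap S N).restrictScalars A ∘ₗ D := by
  let B' := Localization S
  have hbcM := IsLocalizedModule.isBaseChange S B' (LocalizedModule.mkLinearMap S M)
  have hbcN := IsLocalizedModule.isBaseChange S B' (LocalizedModule.mkLinearMap S N)
  let eM : B' ⊗[B] M ≃ₗ[B'] LocalizedModule S M := hbcM.equiv
  let eN : B' ⊗[B] N ≃ₗ[B'] LocalizedModule S N := hbcN.equiv
  have heM : ∀ m, eM ((1 : B') ⊗ₜ[B] m) = LocalizedModule.mkLinearMap S M m := fun m => by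
    rw [IsBaseChange.equiv_tmul, one_smul]
  have heN : ∀ n, eN ((1 : B') ⊗ₜ[B] n) = LocalizedModule.mkLinearMap S N n := fun n => by
    rw [IsBaseChange.equiv_tmul, one_smul]
  obtain ⟨D', ⟨hD'1, hD'2⟩, hD'u⟩ := Groth.Agent.S9465.result A B B' M N k D hD
  have hD'2' : ∀ m, D' ((1 : B') ⊗ₜ[B] m) = (1 : B') ⊗ₜ[B] D m := fun m => congr($hD'2 m)
  refine ⟨conj eM eN D', ⟨isDiffOpLE_conj eM eN k D' hD'1, ?_⟩, ?_⟩
  · ext m
    change conj eM eN D' (LocalizedModule.mkLinearMap S M m) = LocalizedModule.mkLinearMap S N (D m)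
    rw [conj_apply, ← heM, LinearEquiv.symm_apply_apply, hD'2', heN]
  · rintro E ⟨hE1, hE2⟩
    have hE2' : ∀ m, E (LocalizedModule.mkLinearMap S M m) = LocalizedModule.mkLinearMap S N (D m) :=
      fun m => congr($hE2 m)
    have h1 : conj eM.symm eN.symm E = D' := by
      apply hD'u
      refine ⟨isDiffOpLE_conj eM.symm eN.symm k E hE1, ?_⟩
      ext m
      change conj eM.symm eN.symm E ((1 : B') ⊗ₜ[B] m) = (1 : B') ⊗ₜ[B] D m
      rw [conj_apply, LinearEquiv.symm_symm, heM, hE2', ← heN, LinearEquiv.symm_apply_apply]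
    rw [← h1]
    ext x
    rw [conj_apply, conj_apply, LinearEquiv.symm_symm, LinearEquiv.apply_symm_apply,
      LinearEquiv.apply_symm_apply]

end Groth.Agent.S9155
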