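import Groth.Statements.S9157
import Groth.Agent.Lib.Helper14.LocFP

set_option autoImplicit false
universe u
open CAlg

namespace Groth.Agent.S9157

/-- If the localization S⁻¹M of an R-module M is finitely presented over S⁻¹R, then some finitely
presented R-module M' maps to M inducing an isomorphism S⁻¹M' → S⁻¹M. -/
theorem result (R : Type u) [CommRing R] (S : Submonoid R)
    (M : Type u) [AddCommGroup M] [Module R M]
    [Module.FinitePresentation (Localization S) (LocalizedModule S M)] :
    ∃ (M' : Type u) (_ : AddCommGroup M') (_ : Module R M') (φ : M' →ₗ[R] M),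
      Module.FinitePresentation R M' ∧ Function.Bijective (LocalizedModule.map S φ) := by
  obtain ⟨n, K', φ, -, h1, h2⟩ :=
    Groth.Agent.Lib.Helper14.exists_finitePresentation_map_localizedModule_bijective S M
  exact ⟨(Fin n → R) ⧸ K', inferInstance, inferInstance, φ, h1, h2⟩

end Groth.Agent.S9157
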