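import Groth.Statements.S9159
-- import your own Groth.Agent.* helpers here
import Mathlib
import Groth.Agent.Lib.Helper22.QFFlat

set_option autoImplicit false
universe u
open CAlg

namespace Groth.Agent.S9159

/-- Fix a field k, a k-algebra S of finite type, and a quasi-finite map of k-algebras k[y_1, …, y_d] →
S. A prime q of S has S_q flat over k[y_1, …, y_d] exactly when S_q is Cohen–Macaulay and Spec S has
local dimension d at q. -/
theorem result (k S : Type u) [Field k] [CommRing S]
    [Algebra k S] [Algebra.FiniteType k S] (d : ℕ) [Algebra (MvPolynomial (Fin d) k) S]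
    [IsScalarTower k (MvPolynomial (Fin d) k) S] [Algebra.QuasiFinite (MvPolynomial (Fin d) k) S]
    (q : Ideal S) [q.IsPrime] :
    Module.Flat (MvPolynomial (Fin d) k) (Localization.AtPrime q) ↔
      (LocCoh.IsCohenMacaulayLocalRing (Localization.AtPrime q) ∧
        FlatMor.localDim (PrimeSpectrum S) ⟨q, inferInstance⟩ = (d : WithBot ℕ∞)) := by
  haveI : IsNoetherianRing S := Algebra.FiniteType.isNoetherianRing k S
  set p : Ideal (MvPolynomial (Fin d) k) := q.under (MvPolynomial (Fin d) k) with hp
  letI := Localization.AtPrime.algebraOfLiesOver p q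
  haveI : IsLocalHom (algebraMap (Localization.AtPrime p) (Localization.AtPrime q)) :=
    Localization.isLocalHom_localRingHom _ _ _ _
  haveI : IsRegularLocalRing (Localization.AtPrime p) :=
    Groth.Agent.Lib.Helper22.EtaleDim.isRegularLocalRing_localization k d (MvPolynomial (Fin d) k) p
  haveI : Algebra.QuasiFinite (MvPolynomial (Fin d) k) (Localization.AtPrime q) := inferInstance
  haveI : Algebra.QuasiFinite (Localization.AtPrime p) (Localization.AtPrime q) :=
    Algebra.QuasiFinite.of_restrictScalars (MvPolynomial (Fin d) k) _ _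
  have hflat : Module.Flat (MvPolynomial (Fin d) k) (Localization.AtPrime q) ↔
      Module.Flat (Localization.AtPrime p) (Localization.AtPrime q) :=
    (Module.flat_iff_of_isLocalization (Localization.AtPrime p) p.primeCompl
      (Localization.AtPrime q)).symm
  set qq : PrimeSpectrum S := ⟨q, inferInstance⟩ with hqq
  set pp : PrimeSpectrum (MvPolynomial (Fin d) k) :=
    PrimeSpectrum.comap (algebraMap (MvPolynomial (Fin d) k) S) qq with hpp
  have hdimB : ringKrullDim (Localization.AtPrime q) = ((Order.height qq : ℕ∞) : WithBot ℕ∞) := by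
    rw [IsLocalization.AtPrime.ringKrullDim_eq_height q (Localization.AtPrime q),
      ← PrimeSpectrum.height_eq_orderHeight qq]
  have hdimA : ringKrullDim (Localization.AtPrime p) = ((Order.height pp : ℕ∞) : WithBot ℕ∞) := by
    rw [IsLocalization.AtPrime.ringKrullDim_eq_height p (Localization.AtPrime p),
      ← PrimeSpectrum.height_eq_orderHeight pp]
    rfl
  have hloc := Groth.Agent.Lib.Helper12.DimFT2.localDim_primeSpectrum k S qq
  have hco : Order.coheight pp = Order.coheight qq :=
    Groth.Agent.Lib.Helper22.QFFlat.coheight_comap_eq k (MvPolynomial (Fin d) k) S qq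
  have hdP := Groth.Agent.Lib.Helper22.SmoothDim.ringKrullDim_mvPolynomial_field k d
  have hP : (Order.height pp : ℕ∞) + Order.coheight pp = d := by
    have h1 : ((Order.height pp : ℕ∞) : WithBot ℕ∞) ≤ d := by
      rw [← hdP]; exact Order.height_le_krullDim pp
    have h2 : Order.height pp ≠ ⊤ := by
      intro h
      rw [h] at h1
      have h3 : (⊤ : ℕ∞) ≤ (d : ℕ∞) := by exact_mod_cast h1
      exact absurd (top_le_iff.mp h3) (ENat.coe_ne_top d)
    exact Groth.Agent.Lib.Helper12.DimFT.height_add_coheight k (MvPolynomial (Fin d) k) d hdP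
      (Order.height pp).toNat pp (ENat.coe_toNat h2).symm
  have hcofin : Order.coheight pp ≠ ⊤ := by
    intro h
    rw [h, add_top] at hP
    exact ENat.top_ne_coe d hP
  rw [hloc, hflat]
  constructor
  · intro hf
    haveI := hf
    refine ⟨Groth.Agent.Lib.Helper22.QFFlat.isCohenMacaulayLocalRing_of_flat
      (Localization.AtPrime p) (Localization.AtPrime q), ?_⟩
    have h1 := Groth.Agent.Lib.Helper22.QFFlat.ringKrullDim_eq_of_flat
      (Localization.AtPrime p) (Localization.AtPrime q)
    rw [hdimA, hdimB] at h1
    have h2 : Order.height qq = Order.height pp := by exact_mod_cast h1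
    rw [h2, ← hco, hP]
    rfl
  · rintro ⟨hCM, hld⟩
    haveI := hCM
    have h1 : (Order.height qq : ℕ∞) + Order.coheight qq = d := by exact_mod_cast hld
    rw [← hco, ← hP] at h1
    have h2 : Order.height qq = Order.height pp :=
      ENat.add_left_injective_of_ne_top hcofin h1
    refine Groth.Agent.Lib.Helper22.QFFlat.flat_of_isCohenMacaulayLocalRing
      (Localization.AtPrime p) (Localization.AtPrime q) ?_
    rw [hdimA, hdimB, h2]

end Groth.Agent.S9159
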