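import Groth.Statements.S9161
import Mathlib

set_option autoImplicit false
universe u
open CAlg

namespace Groth.Agent.S9161

/-- If two two-term complexes of R-modules A₁ → A₀ and B₁ → B₀ are homotopy equivalent (maps of
complexes both ways whose composites are homotopic to the identity maps), then A₁ ⊕ B₀ and B₁ ⊕ A₀
are isomorphic R-modules. -/
theorem result (R : Type u) [CommRing R]
    (A₁ A₀ B₁ B₀ : Type u) [AddCommGroup A₁] [Module R A₁] [AddCommGroup A₀] [Module R A₀]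
    [AddCommGroup B₁] [Module R B₁] [AddCommGroup B₀] [Module R B₀]
    (dA : A₁ →ₗ[R] A₀) (dB : B₁ →ₗ[R] B₀) (φ₁ : A₁ →ₗ[R] B₁) (φ₀ : A₀ →ₗ[R] B₀)
    (ψ₁ : B₁ →ₗ[R] A₁) (ψ₀ : B₀ →ₗ[R] A₀) (hφ : dB ∘ₗ φ₁ = φ₀ ∘ₗ dA) (hψ : dA ∘ₗ ψ₁ = ψ₀ ∘ₗ dB)
    (h : A₀ →ₗ[R] A₁) (hh₁ : LinearMap.id - ψ₁ ∘ₗ φ₁ = h ∘ₗ dA) (hh₀ : LinearMap.id - ψ₀ ∘ₗ φ₀ = dA ∘ₗ h)
    (h' : B₀ →ₗ[R] B₁) (hh'₁ : LinearMap.id - φ₁ ∘ₗ ψ₁ = h' ∘ₗ dB)
    (hh'₀ : LinearMap.id - φ₀ ∘ₗ ψ₀ = dB ∘ₗ h') :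
    Nonempty ((A₁ × B₀) ≃ₗ[R] (B₁ × A₀)) := by
  have eφ : ∀ a, dB (φ₁ a) = φ₀ (dA a) := fun a => LinearMap.congr_fun hφ a
  have eψ : ∀ b, dA (ψ₁ b) = ψ₀ (dB b) := fun b => LinearMap.congr_fun hψ b
  have e₁ : ∀ a, a - ψ₁ (φ₁ a) = h (dA a) := fun a => LinearMap.congr_fun hh₁ a
  have e₀ : ∀ a, a - ψ₀ (φ₀ a) = dA (h a) := fun a => LinearMap.congr_fun hh₀ a
  have e'₁ : ∀ b, b - φ₁ (ψ₁ b) = h' (dB b) := fun b => LinearMap.congr_fun hh'₁ b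
  have e'₀ : ∀ b, b - φ₀ (ψ₀ b) = dB (h' b) := fun b => LinearMap.congr_fun hh'₀ b
  -- the correction term `e : A₀ → B₁`
  let e : A₀ →ₗ[R] B₁ := h' ∘ₗ φ₀ - φ₁ ∘ₗ h
  have he : ∀ a, e a = h' (φ₀ a) - φ₁ (h a) := fun a => rfl
  have he1 : ∀ a, dB (e a) = 0 := by
    intro a
    rw [he, map_sub, ← e'₀, eφ, ← e₀, map_sub]
    abel
  have he2 : ∀ a, e (dA a) = 0 := by
    intro a
    rw [he, ← eφ, ← e'₁, ← e₁, map_sub]
    abel
  -- the maps of the (contractible) mapping cone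
  let i : A₁ →ₗ[R] B₁ × A₀ := φ₁.prod (-dA)
  let p : B₁ × A₀ →ₗ[R] B₀ := dB.coprod φ₀
  let r : B₁ × A₀ →ₗ[R] A₁ := (ψ₁).coprod (-h - ψ₁ ∘ₗ e)
  let s : B₀ →ₗ[R] B₁ × A₀ := h'.prod ψ₀
  have hi : ∀ a, i a = (φ₁ a, -dA a) := fun a => rfl
  have hp : ∀ x, p x = dB x.1 + φ₀ x.2 := fun x => rfl
  have hr : ∀ x, r x = ψ₁ x.1 + (-h x.2 - ψ₁ (e x.2)) := fun x => rfl
  have hs : ∀ b, s b = (h' b, ψ₀ b) := fun b => rfl
  have hri : ∀ a, r (i a) = a := by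
    intro a
    rw [hi, hr]
    simp only [map_neg, he2, neg_zero, sub_zero, neg_neg, map_zero]
    rw [← e₁]
    abel
  have hps : ∀ b, p (s b) = b := by
    intro b
    rw [hs, hp]
    simp only
    rw [← e'₀]
    abel
  have hpi : ∀ a, p (i a) = 0 := by
    intro a
    rw [hi, hp]
    simp only [map_neg]
    rw [eφ]
    abel
  have hex : ∀ x, p x = 0 → i (r x) = x := by
    rintro ⟨b, a⟩ hx
    rw [hp] at hx
    simp only at hx
    have hx' : φ₀ a = -dB b := by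
      rw [eq_neg_iff_add_eq_zero, add_comm]; exact hx
    rw [hi, hr]
    simp only
    refine Prod.ext ?_ ?_
    · simp only [map_add, map_sub, map_neg]
      have h1 := e'₁ b
      have h2 := e'₁ (e a)
      rw [he1, map_zero] at h2
      have h3 : φ₁ (h a) = h' (φ₀ a) - e a := by rw [he]; abel
      rw [h3, hx', map_neg, ← h1]
      rw [sub_eq_zero] at h2
      rw [← h2]
      abel
    · simp only [map_add, map_sub, map_neg, eψ, he1, map_zero]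
      rw [← e₀]
      have : ψ₀ (dB b) = - ψ₀ (φ₀ a) := by rw [hx', map_neg, neg_neg]
      rw [this]
      abel
  refine ⟨(LinearEquiv.ofBijective (r.prod p) ⟨?_, ?_⟩).symm⟩
  · rw [injective_iff_map_eq_zero]
    intro x hx
    have h1 : r x = 0 := congrArg Prod.fst hx
    have h2 : p x = 0 := congrArg Prod.snd hx
    rw [← hex x h2, h1, map_zero]
  · rintro ⟨a, b⟩
    refine ⟨i a + s b - i (r (s b)), ?_⟩
    refine Prod.ext ?_ ?_
    · change r (i a + s b - i (r (s b))) = a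
      rw [map_sub, map_add, hri, hri]
      abel
    · change p (i a + s b - i (r (s b))) = b
      rw [map_sub, map_add, hpi, hpi, hps]
      abel

end Groth.Agent.S9161
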