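import Groth.Statements.S9164
import Mathlib
import Groth.Agent.S9134

set_option autoImplicit false
universe u
open CAlg

namespace Groth.Agent.S9164


namespace H9164
open Groth.Agent.S9134

section
variable {R : Type*} [CommRing R] [IsDomain R] [IsNoetherianRing R]
  (hdim : ringKrullDim R = 1) (K : Type*) [Field K] [Algebra R K] [IsFractionRing R K]

lemma length_ne_top_of_fg_torsion' {R : Type*} [CommRing R] [IsDomain R] [IsNoetherianRing R]
    (hdim : ringKrullDim R = 1) (K : Type*) [Field K] [Algebra R K] [IsFractionRing R K]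
    (N : Type*) [AddCommGroup N] [Module R N] [Module.Finite R N]
    (htors : ∀ n : N, ∃ r : R, r ≠ 0 ∧ r • n = 0) : Module.length R N ≠ ⊤ := by
  classical
  obtain ⟨s, π, hπ⟩ := Module.Finite.exists_fin' R N
  choose rr hrr0 hrr using fun i : Fin s => htors (π (Pi.single i 1))
  obtain ⟨t, ht⟩ : ∃ t : R, t = ∏ i, rr i := ⟨_, rfl⟩
  have ht0 : t ≠ 0 := by rw [ht]; exact Finset.prod_ne_zero_iff.2 fun i _ => hrr0 i
  have hkill : ∀ x : Fin s → R, t • π x = 0 := by
    intro x
    rw [LinearMap.pi_apply_eq_sum_univ π x, Finset.smul_sum]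
    apply Finset.sum_eq_zero
    intro i _
    have h1 : t = (∏ j ∈ Finset.univ.erase i, rr j) * rr i := by
      rw [ht, Finset.prod_erase_mul _ _ (Finset.mem_univ i)]
    have h2 : (fun j => if i = j then (1 : R) else 0) = Pi.single i 1 := by
      ext j; simp [Pi.single_apply, eq_comm]
    rw [h2, smul_comm, h1, mul_smul, hrr i, smul_zero, smul_zero]
  have hle : H9134.xS t (Fin s → R) ≤ LinearMap.ker π := by
    intro m hm
    obtain ⟨m', rfl⟩ := (H9134.mem_xS t m).1 hm
    rw [LinearMap.mem_ker, map_smul]; exact hkill m'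
  have hsurj : Function.Surjective ((H9134.xS t (Fin s → R)).liftQ π hle) := by
    intro n; obtain ⟨x, rfl⟩ := hπ n; exact ⟨Submodule.Quotient.mk x, rfl⟩
  have h1 := Module.length_le_of_surjective _ hsurj
  have h2 := H9134.lengthQ_ne_top K hdim t ht0 s (Fin s → R)
    ((Algebra.linearMap R K).compLeft (Fin s)) (by
      intro x y hxy; funext i; exact IsFractionRing.injective R K (congrFun hxy i))
  exact ne_top_of_le_ne_top h2 h1

variable {V : Type*} [AddCommGroup V] [Module K V] [Module R V] [IsScalarTower R K V]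

lemma exists_smul_mem_of_span_eq_top (M : Submodule R V)
    (hM : Submodule.span K (M : Set V) = ⊤) (v : V) : ∃ r : R, r ≠ 0 ∧ r • v ∈ M := by
  have hv : v ∈ Submodule.span K (M : Set V) := hM ▸ Submodule.mem_top
  refine Submodule.span_induction (p := fun v _ => ∃ r : R, r ≠ 0 ∧ r • v ∈ M) ?_ ?_ ?_ ?_ hv
  · intro x hx; exact ⟨1, one_ne_zero, by rwa [one_smul]⟩
  · exact ⟨1, one_ne_zero, by rw [smul_zero]; exact M.zero_mem⟩
  · rintro x y _ _ ⟨r, hr, hrx⟩ ⟨r', hr', hry⟩
    refine ⟨r * r', mul_ne_zero hr hr', ?_⟩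
    have h1 : (r * r') • (x + y) = r' • (r • x) + r • (r' • y) := by
      rw [smul_add, mul_smul r r' y, mul_comm, mul_smul r' r x]
    rw [h1]
    exact add_mem (M.smul_mem r' hrx) (M.smul_mem r hry)
  · rintro c x _ ⟨r, hr, hrx⟩
    obtain ⟨a, b, hb, rfl⟩ := IsFractionRing.div_surjective (A := R) c
    refine ⟨b * r, mul_ne_zero (nonZeroDivisors.ne_zero hb) hr, ?_⟩
    have hb0 : algebraMap R K b ≠ 0 :=
      (map_ne_zero_iff _ (IsFractionRing.injective R K)).2 (nonZeroDivisors.ne_zero hb)
    have h1 : (b * r) • ((algebraMap R K a / algebraMap R K b) • x) = a • (r • x) := by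
      rw [← algebraMap_smul K (b * r), smul_smul, ← algebraMap_smul K a, ← algebraMap_smul K r,
        smul_smul]
      congr 1
      rw [map_mul]; field_simp
    rw [h1]; exact M.smul_mem a hrx

lemma span_eq_top_of_forall_exists_smul_mem (N : Submodule R V)
    (h : ∀ v : V, ∃ r : R, r ≠ 0 ∧ r • v ∈ N) : Submodule.span K (N : Set V) = ⊤ := by
  rw [eq_top_iff]
  intro v _
  obtain ⟨r, hr, hrv⟩ := h v
  have hr' : algebraMap R K r ≠ 0 := (map_ne_zero_iff _ (IsFractionRing.injective R K)).2 hr
  have h1 : v = (algebraMap R K r)⁻¹ • (r • v) := by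
    rw [← algebraMap_smul K r v, smul_smul, inv_mul_cancel₀ hr', one_smul]
  rw [h1]
  exact Submodule.smul_mem _ _ (Submodule.subset_span hrv)

include hdim in
lemma length_quot_ne_top_of_le (M M' : Submodule R V)
    (hM : Submodule.span K (M : Set V) = ⊤) (hfg : M'.FG) :
    Module.length R (M' ⧸ Submodule.comap M'.subtype M) ≠ ⊤ := by
  haveI : Module.Finite R M' := Module.Finite.iff_fg.2 hfg
  apply length_ne_top_of_fg_torsion' hdim K
  intro n
  obtain ⟨v, rfl⟩ := Submodule.Quotient.mk_surjective _ n
  obtain ⟨r, hr, hrv⟩ := exists_smul_mem_of_span_eq_top K M hM (v : V)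
  refine ⟨r, hr, ?_⟩
  rw [← Submodule.Quotient.mk_smul, Submodule.Quotient.mk_eq_zero]
  exact hrv

lemma fg_of_length_quot_ne_top (M M' : Submodule R V) (hMfg : M.FG) (hle : M ≤ M')
    (h : Module.length R (M' ⧸ Submodule.comap M'.subtype M) ≠ ⊤) : M'.FG := by
  haveI : Module.Finite R M := Module.Finite.iff_fg.2 hMfg
  haveI : Module.Finite R (Submodule.comap M'.subtype M) :=
    Module.Finite.equiv (Submodule.comapSubtypeEquivOfLe hle).symm
  have hfl := Module.length_ne_top_iff.1 h
  haveI : IsNoetherian R (M' ⧸ Submodule.comap M'.subtype M) :=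
    (isFiniteLength_iff_isNoetherian_isArtinian.1 hfl).1
  haveI : Module.Finite R M' :=
    Module.Finite.of_submodule_quotient (Submodule.comap M'.subtype M)
  exact Module.Finite.iff_fg.1 inferInstance

include hdim in
lemma exists_smul_mem_of_length_quot_ne_top (M M' : Submodule R V)
    (h : Module.length R (M ⧸ Submodule.comap M.subtype M') ≠ ⊤) (v : V) (hv : v ∈ M) :
    ∃ r : R, r ≠ 0 ∧ r • v ∈ M' := by
  by_contra hcon
  push Not at hcon
  have hinj : Function.Injective (LinearMap.toSpanSingleton R
      (M ⧸ Submodule.comap M.subtype M') (Submodule.Quotient.mk ⟨v, hv⟩)) := by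
    rw [injective_iff_map_eq_zero]
    intro r hr
    by_contra hr0
    apply hcon r hr0
    rw [LinearMap.toSpanSingleton_apply, ← Submodule.Quotient.mk_smul,
      Submodule.Quotient.mk_eq_zero] at hr
    exact hr
  have h1 := Module.length_le_of_injective _ hinj
  have h2 : Module.length R R ≠ ⊤ := ne_top_of_le_ne_top h h1
  have h3 : IsArtinianRing R :=
    (isArtinianRing_iff_isFiniteLength R).2 (Module.length_ne_top_iff.1 h2)
  have h4 : Ring.KrullDimLE 0 R := (isArtinianRing_iff_isNoetherianRing_krullDimLE_zero.1 h3).2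
  have h5 := Ring.krullDimLE_iff.1 h4
  rw [hdim] at h5
  exact absurd h5 (by norm_num)

end

theorem main (R K V : Type u) [CommRing R] [IsDomain R]
    [IsNoetherianRing R] [IsLocalRing R] (hdim : ringKrullDim R = 1) [Field K] [Algebra R K]
    [IsFractionRing R K] [AddCommGroup V] [Module K V] [Module R V] [IsScalarTower R K V]
    [FiniteDimensional K V] (M : Submodule R V) [Submodule.IsLattice K M] :
    (∀ M' : Submodule R V, M ≤ M' →
        (Submodule.IsLattice K M' ↔ Module.length R (M' ⧸ Submodule.comap M'.subtype M) ≠ ⊤) ∧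
          (Submodule.IsLattice K M' ↔ M'.FG)) ∧
      (∀ M' : Submodule R V, M' ≤ M →
        (Submodule.IsLattice K M' ↔ Module.length R (M ⧸ Submodule.comap M.subtype M') ≠ ⊤)) ∧
      ∀ M' : Submodule R V, Submodule.IsLattice K M' → Submodule.IsLattice K (M ⊓ M') := by
  have hMfg : M.FG := Submodule.IsLattice.fg
  have hMspan : Submodule.span K (M : Set V) = ⊤ := Submodule.IsLattice.span_eq_top
  haveI : Module.Finite R M := Module.Finite.iff_fg.2 hMfg
  have hsubfg : ∀ N : Submodule R V, N ≤ M → N.FG := by
    intro N hN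
    have h1 : (Submodule.comap M.subtype N).FG := IsNoetherian.noetherian _
    have h2 := h1.map M.subtype
    rwa [Submodule.map_comap_subtype, inf_eq_right.2 hN] at h2
  refine ⟨fun M' hle => ?_, fun M' hle => ?_, fun M' hM' => ?_⟩
  · have hfgiff : Submodule.IsLattice K M' ↔ M'.FG :=
      ⟨fun h => h.fg, fun h => Submodule.IsLattice.of_le_of_isLattice_of_fg K hle h⟩
    refine ⟨?_, hfgiff⟩
    rw [hfgiff]
    exact ⟨fun h => H9164.length_quot_ne_top_of_le hdim K M M' hMspan h,
      fun h => H9164.fg_of_length_quot_ne_top M M' hMfg hle h⟩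
  · constructor
    · intro h
      exact H9164.length_quot_ne_top_of_le hdim K M' M h.span_eq_top hMfg
    · intro h
      refine ⟨hsubfg M' hle, ?_⟩
      apply H9164.span_eq_top_of_forall_exists_smul_mem K
      intro v
      obtain ⟨r1, hr1, h1⟩ := H9164.exists_smul_mem_of_span_eq_top K M hMspan v
      obtain ⟨r2, hr2, h2⟩ :=
        H9164.exists_smul_mem_of_length_quot_ne_top hdim M M' h (r1 • v) h1
      exact ⟨r2 * r1, mul_ne_zero hr2 hr1, by rw [mul_smul]; exact h2⟩
  · refine ⟨hsubfg _ inf_le_left, ?_⟩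
    apply H9164.span_eq_top_of_forall_exists_smul_mem K
    intro v
    obtain ⟨r1, hr1, h1⟩ := H9164.exists_smul_mem_of_span_eq_top K M hMspan v
    obtain ⟨r2, hr2, h2⟩ := H9164.exists_smul_mem_of_span_eq_top K M' hM'.span_eq_top v
    refine ⟨r1 * r2, mul_ne_zero hr1 hr2, ⟨?_, ?_⟩⟩
    · rw [mul_comm, mul_smul]; exact M.smul_mem r2 h1
    · rw [mul_smul]; exact M'.smul_mem r1 h2

end H9164

/-- Let R be a one-dimensional Noetherian local domain with fraction field K and V a finite-dimensional
K-vector space; a lattice is a finitely generated R-submodule of V spanning V over K. (1) For a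
lattice M and an R-submodule M' ⊇ M: M' is a lattice iff M'/M has finite length over R iff M' is
finitely generated. (2) For a lattice M and M' ⊆ M: M' is a lattice iff M/M' has finite length. (3)
The intersection of two lattices is a lattice. (The published statement also asserts that the sum M
+ M' of two lattices is a lattice and two identities between lengths of quotients of nested
lattices; this row states (1), (2) and the intersection half of (3).) -/
theorem result (R K V : Type u) [CommRing R] [IsDomain R]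
    [IsNoetherianRing R] [IsLocalRing R] (hdim : ringKrullDim R = 1) [Field K] [Algebra R K]
    [IsFractionRing R K] [AddCommGroup V] [Module K V] [Module R V] [IsScalarTower R K V]
    [FiniteDimensional K V] (M : Submodule R V) [Submodule.IsLattice K M] :
    (∀ M' : Submodule R V, M ≤ M' →
        (Submodule.IsLattice K M' ↔ Module.length R (M' ⧸ Submodule.comap M'.subtype M) ≠ ⊤) ∧
          (Submodule.IsLattice K M' ↔ M'.FG)) ∧
      (∀ M' : Submodule R V, M' ≤ M →
        (Submodule.IsLattice K M' ↔ Module.length R (M ⧸ Submodule.comap M.subtype M') ≠ ⊤)) ∧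
      ∀ M' : Submodule R V, Submodule.IsLattice K M' → Submodule.IsLattice K (M ⊓ M') := by
  exact H9164.main R K V hdim M

end Groth.Agent.S9164
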