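import Groth.Statements.S9167
import Groth.Agent.Lib.Helper14.LocFP

set_option autoImplicit false
universe u
open CAlg

namespace Groth.Agent.S9167

/-- With R' = S⁻¹(R/I), every finitely presented R'-module is of the form S⁻¹(M/IM) for some finitely
presented R-module M. -/
theorem result (R : Type u) [CommRing R] (I : Ideal R)
    (S : Submonoid R) (M' : Type u) [AddCommGroup M']
    [Module (Localization (S.map (Ideal.Quotient.mk I))) M']
    [Module.FinitePresentation (Localization (S.map (Ideal.Quotient.mk I))) M'] :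
    ∃ (M : Type u) (_ : AddCommGroup M) (_ : Module R M), Module.FinitePresentation R M ∧
      Nonempty (LocalizedModule (S.map (Ideal.Quotient.mk I)) (M ⧸ (I • ⊤ : Submodule R M))
        ≃ₗ[Localization (S.map (Ideal.Quotient.mk I))] M') := by
  classical
  letI : Module (R ⧸ I) M' :=
    Module.compHom M' (algebraMap (R ⧸ I) (Localization (S.map (Ideal.Quotient.mk I))))
  haveI : IsScalarTower (R ⧸ I) (Localization (S.map (Ideal.Quotient.mk I))) M' :=
    IsScalarTower.of_algebraMap_smul fun _ _ => rfl
  haveI : IsLocalizedModule (S.map (Ideal.Quotient.mk I)) (LinearMap.id : M' →ₗ[R ⧸ I] M') :=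
    isLocalizedModule_id (S.map (Ideal.Quotient.mk I)) M'
      (Localization (S.map (Ideal.Quotient.mk I)))
  let e3 : LocalizedModule (S.map (Ideal.Quotient.mk I)) M' ≃ₗ[Localization
      (S.map (Ideal.Quotient.mk I))] M' :=
    (IsLocalizedModule.iso (S.map (Ideal.Quotient.mk I))
      (LinearMap.id : M' →ₗ[R ⧸ I] M')).extendScalarsOfIsLocalization
      (S.map (Ideal.Quotient.mk I)) (Localization (S.map (Ideal.Quotient.mk I)))
  haveI : Module.FinitePresentation (Localization (S.map (Ideal.Quotient.mk I)))
      (LocalizedModule (S.map (Ideal.Quotient.mk I)) M') :=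
    Module.FinitePresentation.of_equiv e3.symm
  obtain ⟨n, Kbar, φ, hKfg, -, hbij⟩ :=
    Groth.Agent.Lib.Helper14.exists_finitePresentation_map_localizedModule_bijective
      (S.map (Ideal.Quotient.mk I)) M'
  obtain ⟨K, hK, ⟨c⟩⟩ :=
    Groth.Agent.Lib.Helper14.exists_fg_quotient_smul_top_linearEquiv I n Kbar hKfg
  refine ⟨(Fin n → R) ⧸ K, inferInstance, inferInstance, ?_, ⟨?_⟩⟩
  · exact Module.finitePresentation_of_free_of_surjective K.mkQ (Submodule.mkQ_surjective K)
      (by rw [Submodule.ker_mkQ]; exact hK)
  · exact (IsLocalizedModule.mapEquiv (S.map (Ideal.Quotient.mk I))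
      (LocalizedModule.mkLinearMap _ _) (LocalizedModule.mkLinearMap _ _)
      (Localization (S.map (Ideal.Quotient.mk I))) c).trans
      ((LinearEquiv.ofBijective _ hbij).trans e3)

end Groth.Agent.S9167
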