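import Groth.Statements.S9168
import Mathlib

set_option autoImplicit false
universe u
open CAlg

namespace Groth.Agent.S9168

section aux
variable {T : Type*} [CommRing T]

/-- the elements `a / b` of `T` with `a, b` in the subring and `b` a unit of `T` -/
def loc (T₁ : Subring T) : Subring T where
  carrier := {x | ∃ a ∈ T₁, ∃ b ∈ T₁, IsUnit b ∧ x * b = a}
  mul_mem' := by
    rintro x y ⟨a, ha, b, hb, ub, hab⟩ ⟨a', ha', b', hb', ub', hab'⟩
    exact ⟨a * a', mul_mem ha ha', b * b', mul_mem hb hb', ub.mul ub',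
      by rw [← hab, ← hab']; ring⟩
  one_mem' := ⟨1, one_mem _, 1, one_mem _, isUnit_one, by ring⟩
  add_mem' := by
    rintro x y ⟨a, ha, b, hb, ub, hab⟩ ⟨a', ha', b', hb', ub', hab'⟩
    exact ⟨a * b' + a' * b, add_mem (mul_mem ha hb') (mul_mem ha' hb), b * b', mul_mem hb hb',
      ub.mul ub', by rw [← hab, ← hab']; ring⟩
  zero_mem' := ⟨0, zero_mem _, 1, one_mem _, isUnit_one, by ring⟩
  neg_mem' := by
    rintro x ⟨a, ha, b, hb, ub, hab⟩
    exact ⟨-a, neg_mem ha, b, hb, ub, by rw [← hab]; ring⟩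

theorem le_loc (T₁ : Subring T) : T₁ ≤ loc T₁ :=
  fun x hx => ⟨x, hx, 1, one_mem _, isUnit_one, mul_one x⟩

theorem isUnit_loc {T₁ : Subring T} (y : loc T₁) (hy : IsUnit (y : T)) : IsUnit y := by
  obtain ⟨a, ha, b, hb, ub, hab⟩ := y.2
  have hinv : ((hy.unit⁻¹ : Tˣ) : T) ∈ loc T₁ := by
    refine ⟨b, hb, a, ha, ?_, ?_⟩
    · rw [← hab]; exact hy.mul ub
    · rw [← hab, ← mul_assoc, hy.val_inv_mul, one_mul]
  refine isUnit_iff_exists_inv.2 ⟨⟨_, hinv⟩, Subtype.ext ?_⟩
  show (y : T) * ((hy.unit⁻¹ : Tˣ) : T) = 1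
  exact hy.mul_val_inv

theorem isLocalHom_loc (T₁ : Subring T) : IsLocalHom (loc T₁).subtype :=
  ⟨fun y hy => isUnit_loc y hy⟩

theorem isLocalRing_loc [IsLocalRing T] (T₁ : Subring T) : IsLocalRing (loc T₁) := by
  haveI : Nontrivial (loc T₁) :=
    ⟨⟨0, 1, fun h => zero_ne_one (α := T) (congrArg Subtype.val h)⟩⟩
  apply IsLocalRing.of_isUnit_or_isUnit_one_sub_self
  intro y
  rcases IsLocalRing.isUnit_or_isUnit_one_sub_self (y : T) with h | h
  · exact Or.inl (isUnit_loc y h)
  · exact Or.inr (isUnit_loc (1 - y) h)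

theorem essFin {A : Type*} [CommRing A] (φ : A →+* T) (G : Finset T)
    (B : Subring T) (hB : B = loc (Subring.closure (Set.range φ ∪ ↑G)))
    (φ' : A →+* B) (hφ' : ∀ a, (φ' a : T) = φ a) : φ'.EssFiniteType := by
  subst hB
  letI : Algebra A (loc (Subring.closure (Set.range φ ∪ ↑G))) := φ'.toAlgebra
  show Algebra.EssFiniteType A (loc (Subring.closure (Set.range φ ∪ ↑G)))
  rw [Algebra.essFiniteType_iff]
  have hfin : {x : loc (Subring.closure (Set.range φ ∪ ↑G)) | (x : T) ∈ G}.Finite :=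
    Set.Finite.preimage (Subtype.val_injective.injOn) G.finite_toSet
  refine ⟨hfin.toFinset, ?_⟩
  have hle := le_loc (Subring.closure (Set.range φ ∪ ↑G))
  have key : ∀ y (hy : y ∈ Subring.closure (Set.range φ ∪ ↑G)),
      (⟨y, hle hy⟩ : loc (Subring.closure (Set.range φ ∪ ↑G))) ∈
        Algebra.adjoin A (↑hfin.toFinset : Set (loc (Subring.closure (Set.range φ ∪ ↑G)))) := by
    intro y hy
    induction hy using Subring.closure_induction with
    | mem x hx =>
      rcases hx with ⟨a, rfl⟩ | hx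
      · have h1 : (⟨φ a, hle (Subring.subset_closure (Or.inl ⟨a, rfl⟩))⟩ :
            loc (Subring.closure (Set.range φ ∪ ↑G))) =
            algebraMap A (loc (Subring.closure (Set.range φ ∪ ↑G))) a :=
          Subtype.ext (hφ' a).symm
        rw [h1]; exact Subalgebra.algebraMap_mem _ a
      · apply Algebra.subset_adjoin
        rw [Set.Finite.coe_toFinset]; exact hx
    | zero => exact Subalgebra.zero_mem _
    | one => exact Subalgebra.one_mem _
    | add x y hx hy ihx ihy => exact Subalgebra.add_mem _ ihx ihy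
    | neg x hx ihx => exact Subalgebra.neg_mem _ ihx
    | mul x y hx hy ihx ihy => exact Subalgebra.mul_mem _ ihx ihy
  intro s
  obtain ⟨a, ha, b, hb, ub, hab⟩ := s.2
  refine ⟨⟨b, hle hb⟩, key b hb, isUnit_loc _ ub, ?_⟩
  have h2 : s * ⟨b, hle hb⟩ = (⟨a, hle ha⟩ : loc (Subring.closure (Set.range φ ∪ ↑G))) :=
    Subtype.ext hab
  rw [h2]; exact key a ha

/-- the local subring of `R` -/
def R0 {R : Type*} [CommRing R] (E : Finset R) : Subring R :=
  loc (Subring.closure (Set.range (Int.castRingHom R) ∪ ↑E))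

/-- the local subring of `S` -/
def S0 {R S : Type*} [CommRing R] [CommRing S] [Algebra R S] (R₀ : Subring R) (F : Finset S) :
    Subring S :=
  loc (Subring.closure (Set.range ((algebraMap R S).comp R₀.subtype) ∪ ↑F))

end aux

/-- For a local homomorphism of local rings R → S and finite subsets E ⊆ R, F ⊆ S there are local
subrings R₀ ⊆ R and S₀ ⊆ S containing E and F, with R → S mapping R₀ into S₀, such that the
inclusions and the induced map R₀ → S₀ are local homomorphisms, R₀ is essentially of finite type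
over ℤ and S₀ is essentially of finite type over R₀. (So R → S is the directed colimit of such R₀ →
S₀.) -/
theorem result (R S : Type u) [CommRing R] [CommRing S] [IsLocalRing R]
    [IsLocalRing S] [Algebra R S] [IsLocalHom (algebraMap R S)] (E : Finset R) (F : Finset S) :
    ∃ (R₀ : Subring R) (S₀ : Subring S) (h : ∀ x ∈ R₀, algebraMap R S x ∈ S₀),
      (E : Set R) ⊆ R₀ ∧ (F : Set S) ⊆ S₀ ∧ ∃ (_ : IsLocalRing R₀) (_ : IsLocalRing S₀),
        IsLocalHom R₀.subtype ∧ IsLocalHom S₀.subtype ∧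
          IsLocalHom ((algebraMap R S).restrict R₀ S₀ h) ∧
          (algebraMap ℤ R₀).EssFiniteType ∧ ((algebraMap R S).restrict R₀ S₀ h).EssFiniteType := by
  have h : ∀ x ∈ R0 E, algebraMap R S x ∈ S0 (R0 E) F := fun x hx =>
    le_loc _ (Subring.subset_closure (Or.inl ⟨⟨x, hx⟩, rfl⟩))
  refine ⟨R0 E, S0 (R0 E) F, h, ?_, ?_, isLocalRing_loc _, isLocalRing_loc _, isLocalHom_loc _,
    isLocalHom_loc _, ?_, ?_, ?_⟩
  · exact fun x hx => le_loc _ (Subring.subset_closure (Or.inr hx))
  · exact fun x hx => le_loc _ (Subring.subset_closure (Or.inr hx))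
  · refine ⟨fun x hx => ?_⟩
    have h1 : IsUnit ((S0 (R0 E) F).subtype ((algebraMap R S).restrict _ _ h x)) := hx.map _
    have h2 : IsUnit (algebraMap R S (x : R)) := h1
    have h3 : IsUnit (x : R) := isUnit_of_map_unit (algebraMap R S) _ h2
    exact isUnit_loc x h3
  · exact essFin (Int.castRingHom R) E (R0 E) rfl _ (fun a => by simp)
  · exact essFin ((algebraMap R S).comp (R0 E).subtype) F (S0 (R0 E) F) rfl _ (fun a => rfl)

end Groth.Agent.S9168
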