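import Groth.Statements.S9170
-- import your own Groth.Agent.* helpers here
import Mathlib
import Groth.Agent.Lib.Helper22.RelGCIReg

set_option autoImplicit false
universe u
open Synt

namespace Groth.Agent.S9170

/-- For a relative global complete intersection S = R[x_1, …, x_n]/(f_1, …, f_c) over a ring R and a
prime q' of the polynomial ring containing the ideal (f_1, …, f_c): (1) f_1, …, f_c is a regular
sequence in the localization R[x]_{q'} (a local ring); (2) every quotient R[x]_{q'}/(f_1, …, f_i) is
flat over R; (3) the conormal module (f)/(f)² is free over S with basis the classes of the f_i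
(stated as: these classes are linearly independent over S and span). -/
theorem result (R : Type u) [CommRing R] (n c : ℕ)
    (F : Fin c → MvPolynomial (Fin n) R) (h : Synt.IsRelGCI R n c F)
    (q' : Ideal (MvPolynomial (Fin n) R)) [q'.IsPrime] (hq' : Ideal.span (Set.range F) ≤ q') :
    RingTheory.Sequence.IsRegular (Localization.AtPrime q')
        ((List.ofFn F).map (algebraMap (MvPolynomial (Fin n) R) (Localization.AtPrime q'))) ∧
      (∀ i ≤ c, Module.Flat R (Localization.AtPrime q' ⧸ Ideal.ofList
        (((List.ofFn F).take i).map (algebraMap (MvPolynomial (Fin n) R) (Localization.AtPrime q'))))) ∧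
      LinearIndependent (Synt.RelGCIRing R n c F)
        (fun i : Fin c => (Ideal.span (Set.range F)).toCotangent ⟨F i, Ideal.subset_span (Set.mem_range_self i)⟩) ∧
      Submodule.span (Synt.RelGCIRing R n c F) (Set.range
        (fun i : Fin c => (Ideal.span (Set.range F)).toCotangent ⟨F i, Ideal.subset_span (Set.mem_range_self i)⟩)) = ⊤ := by
  have hFq : ∀ i, F i ∈ q' := fun i => hq' (Ideal.subset_span ⟨i, rfl⟩)
  have hreg := Groth.Agent.Lib.Helper22.RelGCIReg.fibre_hreg R n c F h q' hq'
  refine ⟨?_, ?_, ?_⟩
  · obtain ⟨hW, -⟩ := Groth.Agent.Lib.Helper22.RelGCIReg.local_regular_flat F q' hFq hreg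
    rw [List.map_ofFn]
    refine ⟨hW, ?_⟩
    rw [smul_eq_mul, Ideal.mul_top]
    intro htop
    have hle : Ideal.ofList (List.ofFn
        (⇑(algebraMap (MvPolynomial (Fin n) R) (Localization.AtPrime q')) ∘ F)) ≤
        IsLocalRing.maximalIdeal (Localization.AtPrime q') := by
      rw [Ideal.ofList, Ideal.span_le]
      intro x hx
      obtain ⟨i, rfl⟩ := List.mem_ofFn.1 hx
      exact (IsLocalization.AtPrime.to_map_mem_maximal_iff (Localization.AtPrime q') q'
        (F i)).mpr (hFq i)
    rw [← htop] at hle
    exact (IsLocalRing.maximalIdeal.isMaximal _).ne_top (top_le_iff.mp hle)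
  · intro i hi
    obtain ⟨-, hfl⟩ := Groth.Agent.Lib.Helper22.RelGCIReg.local_regular_flat
      (fun j : Fin i => F (Fin.castLE hi j)) q' (fun j => hFq _)
      (Groth.Agent.Lib.Helper22.RelGCIReg.hreg_castLE hi F q' hreg)
    refine Groth.Agent.Lib.Helper22.NilFlat.flat_quot_congr ?_ hfl
    have htake : (List.ofFn F).take i = List.ofFn (fun j : Fin i => F (Fin.castLE hi j)) := by
      apply List.ext_getElem
      · simp [hi]
      · intro k h1 h2
        simp
    rw [htake, List.map_ofFn, Groth.Agent.Lib.Helper14.LCF.ofList_ofFn]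
    rfl
  · exact Groth.Agent.Lib.Helper6.QuasiRegBasis.basis_of_quasiRegular (Ideal.span (Set.range F))
      (fun i => ⟨F i, Ideal.subset_span (Set.mem_range_self i)⟩)
      (Groth.Agent.Lib.Helper22.RelGCIReg.isQuasiRegular R n c F h) rfl

end Groth.Agent.S9170
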