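import Groth.Statements.S9177
import Mathlib

set_option autoImplicit false
universe u
open CAlg

namespace Groth.Agent.S9177

open TensorProduct in
theorem comm_sq {A X Y B C : Type*} [CommRing A] [CommRing X] [CommRing Y] [CommRing B]
    [CommRing C] [Algebra A X] [Algebra A Y] [Algebra A B] [Algebra A C] (g : X →ₗ[A] Y)
    (u : B →ₐ[A] C) (w : X ⊗[A] B) :
    g.rTensor C (Algebra.TensorProduct.map (AlgHom.id A X) u w) =
      Algebra.TensorProduct.map (AlgHom.id A Y) u (g.rTensor B w) := by
  induction w using TensorProduct.induction_on with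
  | zero => simp only [map_zero]
  | tmul x b =>
    simp only [Algebra.TensorProduct.map_tmul, LinearMap.rTensor_tmul, AlgHom.coe_id, id_eq]
  | add w₁ w₂ h₁ h₂ => simp only [map_add, h₁, h₂]

open TensorProduct in
theorem main {ι : Type u} [Preorder ι] [Nonempty ι] [IsDirectedOrder ι] (G : ι → Type u)
    [∀ i, CommRing (G i)]
    (f : ∀ i j, i ≤ j → G i →+* G j) [DirectedSystem G (fun i j h => f i j h)]
    (A : Type u) [CommRing A] [∀ i, Algebra A (G i)]
    (hf : ∀ i j (h : i ≤ j), (f i j h).comp (algebraMap A (G i)) = algebraMap A (G j))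
    [Algebra A (Ring.DirectLimit G (fun i j h => f i j h))]
    (halg : ∀ i, algebraMap A (Ring.DirectLimit G (fun i j h => f i j h)) = (Ring.DirectLimit.of G (fun i j h => f i j h) i).comp (algebraMap A (G i)))
    (B C : Type u) [CommRing B] [CommRing C] [Algebra A B] [Algebra A C] :
    (Algebra.FiniteType A B → ∀ u u' : B →ₐ[A] C,
        Algebra.TensorProduct.map (AlgHom.id A (Ring.DirectLimit G (fun i j h => f i j h))) u =
            Algebra.TensorProduct.map (AlgHom.id A (Ring.DirectLimit G (fun i j h => f i j h))) u' →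
          ∃ i : ι, Algebra.TensorProduct.map (AlgHom.id A (G i)) u =
            Algebra.TensorProduct.map (AlgHom.id A (G i)) u') ∧
      (Algebra.FiniteType A C → ∀ u : B →ₐ[A] C,
        Function.Surjective
            (Algebra.TensorProduct.map (AlgHom.id A (Ring.DirectLimit G (fun i j h => f i j h))) u) →
          ∃ i : ι, Function.Surjective (Algebra.TensorProduct.map (AlgHom.id A (G i)) u)) := by
  classical
  let fA : ∀ i j, i ≤ j → G i →ₗ[A] G j := fun i j h =>
    { toFun := f i j h
      map_add' := map_add _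
      map_smul' := fun a x => by
        show f i j h (a • x) = a • f i j h x
        rw [Algebra.smul_def, Algebra.smul_def, map_mul]
        congr 1
        exact RingHom.congr_fun (hf i j h) a }
  let ofA : ∀ i, G i →ₗ[A] (Ring.DirectLimit G (fun i j h => f i j h)) := fun i =>
    { toFun := Ring.DirectLimit.of G (fun i j h => f i j h) i
      map_add' := map_add _
      map_smul' := fun a x => by
        show Ring.DirectLimit.of G (fun i j h => f i j h) i (a • x) = a • Ring.DirectLimit.of G (fun i j h => f i j h) i x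
        rw [Algebra.smul_def, Algebra.smul_def, map_mul]
        congr 1
        exact (RingHom.congr_fun (halg i) a).symm }
  have h1f : ∀ i j (h : i ≤ j), fA i j h 1 = 1 := fun i j h => map_one (f i j h)
  have h1o : ∀ i, ofA i 1 = 1 := fun i => map_one (Ring.DirectLimit.of G (fun i j h => f i j h) i)
  haveI : DirectedSystem G (fun i j h => fA i j h) :=
    ⟨by intro i x; exact DirectedSystem.map_self' f x,
     by intro k j i hij hjk x; exact DirectedSystem.map_map' f hij hjk x⟩
  have hof : ∀ i k (h : i ≤ k), (ofA k) ∘ₗ (fA i k h) = ofA i := fun i k h =>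
    LinearMap.ext fun x => Ring.DirectLimit.of_f h x
  have hstageB : ∀ i k (h : i ≤ k) (w : G i ⊗[A] B),
      (ofA k).rTensor B ((fA i k h).rTensor B w) = (ofA i).rTensor B w := fun i k h w => by
    rw [← hof i k h, LinearMap.rTensor_comp, LinearMap.comp_apply]
  obtain ⟨Φ, hΦ⟩ : ∃ Φ : Module.DirectLimit G fA →ₗ[A] (Ring.DirectLimit G (fun i j h => f i j h)),
      ∀ i x, Φ (Module.DirectLimit.of A ι G fA i x) = ofA i x :=
    ⟨Module.DirectLimit.lift A ι G fA ofA (fun i j hij x => Ring.DirectLimit.of_f hij x),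
      fun i x => Module.DirectLimit.lift_of _ _ x⟩
  have hΦinj : Function.Injective Φ := by
    rw [injective_iff_map_eq_zero]
    intro z hz
    obtain ⟨i, x, rfl⟩ := Module.DirectLimit.exists_of z
    rw [hΦ] at hz
    have hz' : Ring.DirectLimit.of G (fun i j h => f i j h) i x = 0 := hz
    obtain ⟨j, hij, hx⟩ := Ring.DirectLimit.of.zero_exact (f' := f) hz'
    have e1 : Module.DirectLimit.of A ι G fA i x =
        Module.DirectLimit.of A ι G fA j (fA i j hij x) :=
      (Module.DirectLimit.of_f (R := A) (G := G) (f := fA) (hij := hij) (x := x)).symm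
    have e2 : fA i j hij x = 0 := hx
    rw [e1, e2, map_zero]
  have hΦsurj : Function.Surjective Φ := by
    intro r
    obtain ⟨i, x, rfl⟩ := Ring.DirectLimit.exists_of r
    exact ⟨Module.DirectLimit.of A ι G fA i x, hΦ i x⟩
  let e : Module.DirectLimit G fA ≃ₗ[A] (Ring.DirectLimit G (fun i j h => f i j h)) := LinearEquiv.ofBijective Φ ⟨hΦinj, hΦsurj⟩
  have he : ∀ i, ofA i = e.toLinearMap ∘ₗ (Module.DirectLimit.of A ι G fA i) := fun i =>
    LinearMap.ext fun x => (hΦ i x).symm
  have V : ∀ (i : ι) (z : G i ⊗[A] C), (ofA i).rTensor C z = 0 →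
      ∃ j, ∃ hij : i ≤ j, (fA i j hij).rTensor C z = 0 := by
    intro i z hz
    rw [he i, LinearMap.rTensor_comp, LinearMap.comp_apply] at hz
    have h2 : (Module.DirectLimit.of A ι G fA i).rTensor C z = 0 := by
      have h3 := congrArg (e.symm.toLinearMap.rTensor C) hz
      rw [map_zero, ← LinearMap.comp_apply, ← LinearMap.rTensor_comp] at h3
      have h4 : e.symm.toLinearMap ∘ₗ e.toLinearMap = LinearMap.id :=
        LinearMap.ext fun x => e.symm_apply_apply x
      rw [h4, LinearMap.rTensor_id, LinearMap.id_apply] at h3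
      exact h3
    have h5 := TensorProduct.directLimitLeft_rTensor_of fA C z
    rw [h2, map_zero] at h5
    exact Module.DirectLimit.of.zero_exact h5.symm
  have L : ∀ w : (Ring.DirectLimit G (fun i j h => f i j h)) ⊗[A] B, ∃ i, ∃ w' : G i ⊗[A] B, (ofA i).rTensor B w' = w := by
    intro w
    induction w using TensorProduct.induction_on with
    | zero => exact ⟨Classical.arbitrary ι, 0, map_zero _⟩
    | tmul r b =>
      obtain ⟨i, x, rfl⟩ := Ring.DirectLimit.exists_of r
      exact ⟨i, x ⊗ₜ[A] b, rfl⟩
    | add w₁ w₂ h₁ h₂ =>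
      obtain ⟨i₁, w₁', rfl⟩ := h₁
      obtain ⟨i₂, w₂', rfl⟩ := h₂
      obtain ⟨k, hk1, hk2⟩ := exists_ge_ge i₁ i₂
      refine ⟨k, (fA i₁ k hk1).rTensor B w₁' + (fA i₂ k hk2).rTensor B w₂', ?_⟩
      rw [map_add, hstageB, hstageB]
  refine ⟨?_, ?_⟩
  · intro hB u u' huu
    obtain ⟨s, hs⟩ := hB.out
    have key : ∀ b : B, ∃ j : ι, (1 : G j) ⊗ₜ[A] u b = (1 : G j) ⊗ₜ[A] u' b := by
      intro b
      obtain ⟨l⟩ := ‹Nonempty ι›
      have hz : (ofA l).rTensor C ((1 : G l) ⊗ₜ[A] u b - (1 : G l) ⊗ₜ[A] u' b) = 0 := by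
        rw [map_sub, LinearMap.rTensor_tmul, LinearMap.rTensor_tmul, h1o l, sub_eq_zero]
        have h := AlgHom.congr_fun huu ((1 : (Ring.DirectLimit G (fun i j h => f i j h))) ⊗ₜ[A] b)
        rw [Algebra.TensorProduct.map_tmul, Algebra.TensorProduct.map_tmul, AlgHom.coe_id,
          id_eq] at h
        exact h
      obtain ⟨j, hlj, hj⟩ := V l _ hz
      refine ⟨j, ?_⟩
      rw [map_sub, LinearMap.rTensor_tmul, LinearMap.rTensor_tmul, sub_eq_zero, h1f] at hj
      exact hj
    choose jb hjb using key
    obtain ⟨i, hi⟩ := Finset.exists_le (s.image jb)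
    refine ⟨i, ?_⟩
    have hb : ∀ b ∈ s, (1 : G i) ⊗ₜ[A] u b = (1 : G i) ⊗ₜ[A] u' b := by
      intro b hb
      have hle : jb b ≤ i := hi _ (Finset.mem_image_of_mem jb hb)
      have h := congrArg ((fA (jb b) i hle).rTensor C) (hjb b)
      rw [LinearMap.rTensor_tmul, LinearMap.rTensor_tmul, h1f] at h
      exact h
    have hall : ((Algebra.TensorProduct.includeRight : C →ₐ[A] G i ⊗[A] C).comp u) =
        (Algebra.TensorProduct.includeRight : C →ₐ[A] G i ⊗[A] C).comp u' := by
      apply AlgHom.ext_of_adjoin_eq_top hs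
      intro b hb'
      exact hb b (Finset.mem_coe.1 hb')
    apply AlgHom.ext
    intro w
    induction w using TensorProduct.induction_on with
    | zero => simp only [map_zero]
    | tmul x b =>
      have h2 := AlgHom.congr_fun hall b
      have h3 : (1 : G i) ⊗ₜ[A] u b = (1 : G i) ⊗ₜ[A] u' b := h2
      have e1 : ∀ c : C, x ⊗ₜ[A] c = (x ⊗ₜ[A] (1 : C)) * ((1 : G i) ⊗ₜ[A] c) := by
        intro c; rw [Algebra.TensorProduct.tmul_mul_tmul, mul_one, one_mul]
      rw [Algebra.TensorProduct.map_tmul, Algebra.TensorProduct.map_tmul, AlgHom.coe_id, id_eq,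
        e1 (u b), e1 (u' b), h3]
    | add w₁ w₂ h₁ h₂ => rw [map_add, map_add, h₁, h₂]
  · intro hC u hsurj
    obtain ⟨s, hs⟩ := hC.out
    have key : ∀ c : C, ∃ j : ι, ∃ w : G j ⊗[A] B,
        Algebra.TensorProduct.map (AlgHom.id A (G j)) u w = (1 : G j) ⊗ₜ[A] c := by
      intro c
      obtain ⟨w, hw⟩ := hsurj ((1 : (Ring.DirectLimit G (fun i j h => f i j h))) ⊗ₜ[A] c)
      obtain ⟨i, w', rfl⟩ := L w
      have hz : (ofA i).rTensor C
          (Algebra.TensorProduct.map (AlgHom.id A (G i)) u w' - (1 : G i) ⊗ₜ[A] c) = 0 := by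
        rw [map_sub, comm_sq, hw, LinearMap.rTensor_tmul, h1o i, sub_self]
      obtain ⟨j, hij, hj⟩ := V i _ hz
      refine ⟨j, (fA i j hij).rTensor B w', ?_⟩
      rw [map_sub, comm_sq, LinearMap.rTensor_tmul, sub_eq_zero, h1f] at hj
      exact hj
    choose jc wc hwc using key
    obtain ⟨i, hi⟩ := Finset.exists_le (s.image jc)
    refine ⟨i, ?_⟩
    have hcs : ∀ c ∈ s, (1 : G i) ⊗ₜ[A] c ∈
        (Algebra.TensorProduct.map (AlgHom.id A (G i)) u).range := by
      intro c hc
      have hle : jc c ≤ i := hi _ (Finset.mem_image_of_mem jc hc)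
      refine (AlgHom.mem_range _).2 ⟨(fA (jc c) i hle).rTensor B (wc c), ?_⟩
      rw [← comm_sq, hwc c, LinearMap.rTensor_tmul, h1f]
    have hall : ∀ c : C, (1 : G i) ⊗ₜ[A] c ∈
        (Algebra.TensorProduct.map (AlgHom.id A (G i)) u).range := by
      intro c
      have hc' : c ∈ Algebra.adjoin A (↑s : Set C) := by rw [hs]; exact Algebra.mem_top
      have hle : Algebra.adjoin A (↑s : Set C) ≤
          ((Algebra.TensorProduct.map (AlgHom.id A (G i)) u).range).comap
            (Algebra.TensorProduct.includeRight : C →ₐ[A] G i ⊗[A] C) := by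
        apply Algebra.adjoin_le
        intro c' hc''
        exact hcs c' (Finset.mem_coe.1 hc'')
      exact hle hc'
    intro z
    induction z using TensorProduct.induction_on with
    | zero => exact ⟨0, map_zero _⟩
    | tmul x c =>
      obtain ⟨w, hw⟩ := (AlgHom.mem_range _).1 (hall c)
      refine ⟨(x ⊗ₜ[A] (1 : B)) * w, ?_⟩
      rw [map_mul, hw, Algebra.TensorProduct.map_tmul, map_one, AlgHom.coe_id, id_eq,
        Algebra.TensorProduct.tmul_mul_tmul, mul_one, one_mul]
    | add z₁ z₂ h₁ h₂ =>
      obtain ⟨w₁, rfl⟩ := h₁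
      obtain ⟨w₂, rfl⟩ := h₂
      exact ⟨w₁ + w₂, map_add _ _ _⟩


open TensorProduct in
/-- Let R = colim R_i be a directed colimit of A-algebras (compatible transition maps), B and C
A-algebras. (1) If B is of finite type over A, two A-algebra maps B → C whose base changes to R
coincide already have equal base changes to some R_i. (2) If C is of finite type over A and u : B →
C has surjective base change to R, then its base change to some R_i is surjective. (The A-algebra
structure on R is through any stage R_l; it does not depend on l.) -/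
theorem result {ι : Type u} [Preorder ι]
    [Nonempty ι] [IsDirectedOrder ι] (G : ι → Type u) [∀ i, CommRing (G i)]
    (f : ∀ i j, i ≤ j → G i →+* G j) [DirectedSystem G (fun i j h => f i j h)]
    (A : Type u) [CommRing A] [∀ i, Algebra A (G i)]
    (hf : ∀ i j (h : i ≤ j), (f i j h).comp (algebraMap A (G i)) = algebraMap A (G j)) (l : ι)
    (B C : Type u) [CommRing B] [CommRing C] [Algebra A B] [Algebra A C] :
    letI : Algebra A (Ring.DirectLimit G (fun i j h => f i j h)) :=
      ((Ring.DirectLimit.of G (fun i j h => f i j h) l).comp (algebraMap A (G l))).toAlgebra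
    (Algebra.FiniteType A B → ∀ u u' : B →ₐ[A] C,
        Algebra.TensorProduct.map (AlgHom.id A (Ring.DirectLimit G (fun i j h => f i j h))) u =
            Algebra.TensorProduct.map (AlgHom.id A (Ring.DirectLimit G (fun i j h => f i j h))) u' →
          ∃ i : ι, Algebra.TensorProduct.map (AlgHom.id A (G i)) u =
            Algebra.TensorProduct.map (AlgHom.id A (G i)) u') ∧
      (Algebra.FiniteType A C → ∀ u : B →ₐ[A] C,
        Function.Surjective
            (Algebra.TensorProduct.map (AlgHom.id A (Ring.DirectLimit G (fun i j h => f i j h))) u) →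
          ∃ i : ι, Function.Surjective (Algebra.TensorProduct.map (AlgHom.id A (G i)) u)) := by
  letI : Algebra A (Ring.DirectLimit G (fun i j h => f i j h)) :=
    ((Ring.DirectLimit.of G (fun i j h => f i j h) l).comp (algebraMap A (G l))).toAlgebra
  have halg : ∀ i, algebraMap A (Ring.DirectLimit G (fun i j h => f i j h)) = (Ring.DirectLimit.of G (fun i j h => f i j h) i).comp (algebraMap A (G i)) := by
    intro i
    obtain ⟨k, hik, hlk⟩ := exists_ge_ge i l
    ext a
    show Ring.DirectLimit.of G (fun i j h => f i j h) l (algebraMap A (G l) a) = Ring.DirectLimit.of G (fun i j h => f i j h) i (algebraMap A (G i) a)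
    have e1 : f l k hlk (algebraMap A (G l) a) = algebraMap A (G k) a :=
      RingHom.congr_fun (hf l k hlk) a
    have e2 : f i k hik (algebraMap A (G i) a) = algebraMap A (G k) a :=
      RingHom.congr_fun (hf i k hik) a
    have e3 : Ring.DirectLimit.of G (fun i j h => f i j h) l (algebraMap A (G l) a) = Ring.DirectLimit.of G (fun i j h => f i j h) k (f l k hlk (algebraMap A (G l) a)) :=
      (Ring.DirectLimit.of_f (f := fun i j h => f i j h) hlk _).symm
    have e4 : Ring.DirectLimit.of G (fun i j h => f i j h) i (algebraMap A (G i) a) = Ring.DirectLimit.of G (fun i j h => f i j h) k (f i k hik (algebraMap A (G i) a)) :=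
      (Ring.DirectLimit.of_f (f := fun i j h => f i j h) hik _).symm
    rw [e3, e4, e1, e2]
  exact main G f A hf halg B C

end Groth.Agent.S9177
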