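import Groth.Statements.S9179
import Groth.Agent.Lib.Helper11.FGColim

set_option autoImplicit false
universe u
open CategoryTheory CategoryTheory.Limits
open CAlg

namespace Groth.Agent.S9179

open Groth.Agent.Lib.Helper11

/-- An R-algebra of finite type is the colimit of a filtered system of finitely presented R-algebras
whose transition maps are all surjective. -/
theorem result (R A : Type u) [CommRing R] [CommRing A]
    [Algebra R A] [Algebra.FiniteType R A] :
    ∃ (I : Type u) (_ : SmallCategory I) (_ : IsFiltered I) (D : I ⥤ Under (CommRingCat.of R))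
      (c : Cocone D) (_ : IsColimit c),
      (∀ i, (D.obj i).hom.hom.FinitePresentation) ∧
      (∀ (i j : I) (φ : i ⟶ j), Function.Surjective (D.map φ).right.hom) ∧
      Nonempty (c.pt ≅ Under.mk (CommRingCat.ofHom (algebraMap R A))) := by
  obtain ⟨n, π, hπ⟩ := Algebra.FiniteType.iff_quotient_mvPolynomial''.mp
    (inferInstance : Algebra.FiniteType R A)
  obtain ⟨hc⟩ := FGColim.isColimit π hπ
  refine ⟨FGColim.Idx π, inferInstance, inferInstance, FGColim.F π, FGColim.cocone π, hc,
    fun j => ?_, fun i j φ => FGColim.F_map_surjective π φ, ⟨Iso.refl _⟩⟩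
  show (algebraMap R (MvPolynomial (Fin n) R ⧸ j.1)).FinitePresentation
  rw [RingHom.finitePresentation_algebraMap]
  exact Algebra.FinitePresentation.quotient j.2.1

end Groth.Agent.S9179
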