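import Groth.Statements.S9180
-- import your own Groth.Agent.* helpers here
import Mathlib
import Groth.Agent.Lib.Helper12.DimFT2

set_option autoImplicit false
universe u
open CAlg

namespace Groth.Agent.S9180

open TensorProduct in
/-- Let S be of finite type over a field k, K an extension field of k, S_K = S ⊗_k K, q a prime of S
whose residue field has transcendence degree r over k, and q_K a prime of S_K lying over q whose
residue field has transcendence degree r_K over K. Then the local ring at q_K of the fibre of S →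
S_K over q has dimension dim (S_K)_{q_K} − dim S_q = r − r_K (stated additively), and there is a
prime of S_K over q for which this dimension is zero. -/
theorem result (k S K : Type u) [Field k] [CommRing S] [Algebra k S]
    [Algebra.FiniteType k S] [Field K] [Algebra k K] (q : Ideal S) [q.IsPrime] (r : ℕ)
    (hr : Algebra.trdeg k q.ResidueField = r) (qK : Ideal (S ⊗[k] K)) [qK.IsPrime] [qK.LiesOver q]
    (rK : ℕ)
    (hrK : letI : Algebra K (S ⊗[k] K) := Algebra.TensorProduct.rightAlgebra
      Algebra.trdeg K qK.ResidueField = rK) :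
    ringKrullDim (EGA4.FibLocRing S (S ⊗[k] K) qK) + ringKrullDim (Localization.AtPrime q) =
        ringKrullDim (Localization.AtPrime qK) ∧
      ringKrullDim (EGA4.FibLocRing S (S ⊗[k] K) qK) + (rK : WithBot ℕ∞) = (r : WithBot ℕ∞) ∧
      ∃ (q' : Ideal (S ⊗[k] K)) (_ : q'.IsPrime), q'.LiesOver q ∧
        ringKrullDim (EGA4.FibLocRing S (S ⊗[k] K) q') = 0 := by
  letI : Algebra K (S ⊗[k] K) := Algebra.TensorProduct.rightAlgebra
  have hq : qK.comap (algebraMap S (S ⊗[k] K)) = q := (qK.over_def q).symm
  have hfib := Groth.Agent.Lib.Helper12.DimFT2.ringKrullDim_fibLocRing (A := S) qK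
  conv_rhs at hfib => rw [hq]
  have hJ := Groth.Agent.Lib.Helper12.DimFT2.height_eq_height_add_fibre k S K q qK
  have hI := Groth.Agent.Lib.Helper12.DimFT2.height_fibre_add_coheight k S K q qK
  obtain ⟨n, hn1, -, hn3⟩ := Groth.Agent.Lib.Helper12.DimFT2.exists_trdeg_residueField k S q
  have hnr : n = r := by
    have : (n : Cardinal.{u}) = (r : Cardinal.{u}) := hn1.symm.trans hr
    exact_mod_cast this
  subst hnr
  obtain ⟨m, hm1, -, hm3⟩ :=
    Groth.Agent.Lib.Helper12.DimFT2.exists_trdeg_residueField K (S ⊗[k] K) qK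
  have hmr : m = rK := by
    have : (m : Cardinal.{u}) = (rK : Cardinal.{u}) := hm1.symm.trans hrK
    exact_mod_cast this
  subst hmr
  rw [hn3, hm3] at hI
  refine ⟨?_, ?_, ?_⟩
  · change ringKrullDim (Localization.AtPrime qK ⧸ _) + _ = _
    rw [hfib, IsLocalization.AtPrime.ringKrullDim_eq_height q (Localization.AtPrime q),
      IsLocalization.AtPrime.ringKrullDim_eq_height qK (Localization.AtPrime qK), hJ]
    push_cast
    rw [add_comm]
  · change ringKrullDim (Localization.AtPrime qK ⧸ _) + _ = _
    rw [hfib]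
    exact_mod_cast congrArg (fun x : ℕ∞ => (x : WithBot ℕ∞)) hI
  · obtain ⟨Q, hQp, hQo, hQ0⟩ :=
      Groth.Agent.Lib.Helper12.DimFT2.exists_liesOver_fibre_height_zero k S K q
    refine ⟨Q, hQp, hQo, ?_⟩
    have hq' : Q.comap (algebraMap S (S ⊗[k] K)) = q := (Q.over_def q).symm
    have hfib' := Groth.Agent.Lib.Helper12.DimFT2.ringKrullDim_fibLocRing (A := S) Q
    conv_rhs at hfib' => rw [hq']
    change ringKrullDim (Localization.AtPrime Q ⧸ _) = 0
    rw [hfib', hQ0]
    rfl

end Groth.Agent.S9180
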