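import Groth.Statements.S9181
-- import your own Groth.Agent.* helpers here
import Mathlib
import Groth.Agent.Lib.Helper12.QFPresc3

set_option autoImplicit false
universe u
open CAlg

namespace Groth.Agent.S9181
open Groth.Agent.Lib.Helper12.QFPresc in
/-- Transport of the preimage ideal along `MvPolynomial.mapAlgEquiv` for `R_1 ≃ R`. -/
theorem comap_mapAlgEquiv_J {R A : Type u} [CommRing R] [CommRing A] [Algebra R A] (e : A ≃ₐ[R] R)
    (p : Ideal R) (r m : ℕ) :
    (J p r m).comap (MvPolynomial.mapAlgEquiv (Fin (r + m)) e : MvPolynomial (Fin (r + m)) A →ₐ[R]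
      MvPolynomial (Fin (r + m)) R) =
      p.map (algebraMap R (MvPolynomial (Fin (r + m)) A)) ⊔
        Ideal.span (Set.range fun i : {i : Fin (r + m) // r ≤ (i : ℕ)} =>
          (MvPolynomial.X (i : Fin (r + m)) : MvPolynomial (Fin (r + m)) A)) := by
  have h0 : (J p r m).comap (MvPolynomial.mapAlgEquiv (Fin (r + m)) e : MvPolynomial (Fin (r + m)) A →ₐ[R]
      MvPolynomial (Fin (r + m)) R) =
      (J p r m).map ((MvPolynomial.mapAlgEquiv (Fin (r + m)) e).toRingEquiv.symm.toRingHom) := by
    have := Ideal.map_symm (I := J p r m)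
      (MvPolynomial.mapAlgEquiv (Fin (r + m)) e).toRingEquiv
    exact this.symm
  rw [h0]
  unfold J
  rw [Ideal.map_sup, Ideal.map_map, Ideal.map_span]
  congr 1
  · congr 1
    refine RingHom.ext fun a => ?_
    simp only [RingHom.comp_apply, RingEquiv.toRingHom_eq_coe, RingHom.coe_coe]
    rw [← MvPolynomial.algebraMap_eq]
    exact (MvPolynomial.mapAlgEquiv (Fin (r + m)) e).symm.commutes a
  · congr 1
    ext x
    simp only [Set.mem_image, Set.mem_range]
    constructor
    · rintro ⟨_, ⟨j, rfl⟩, rfl⟩
      refine ⟨⟨Fin.natAdd r j, by simp⟩, ?_⟩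
      simp [MvPolynomial.mapAlgEquiv_symm]
    · rintro ⟨⟨i, hi⟩, rfl⟩
      refine ⟨_, ⟨⟨i.1 - r, by omega⟩, rfl⟩, ?_⟩
      have : Fin.natAdd r (⟨i.1 - r, by omega⟩ : Fin m) = i := Fin.ext (by simp; omega)
      simp [MvPolynomial.mapAlgEquiv_symm, this]

/-- Let R → S be of finite type, q a prime of S over p, Q the prime of κ(p) ⊗ S over q, with the fibre
of local dimension n at Q and κ(q) of transcendence degree r over κ(p). Then for some f ∉ p and g ∉
q there is an R-algebra map φ : R_f[x_1, …, x_n] → S_g, of finite type and quasi-finite, such that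
the inverse image of q S_g under φ is the ideal generated by p and the variables x_{r+1}, …, x_n. -/
theorem result (R S : Type u) [CommRing R] [CommRing S]
    [Algebra R S] [Algebra.FiniteType R S] (p : Ideal R) [p.IsPrime] (q : Ideal S) [q.IsPrime] [q.LiesOver p]
    [Algebra (Localization.AtPrime p) (Localization.AtPrime q)]
    [Localization.AtPrime.IsLiesOverAlgebra p q] (Q : PrimeSpectrum (p.Fiber S))
    (hQ : Q.asIdeal.comap (Algebra.TensorProduct.includeRight.toRingHom) = q) (n r : ℕ)
    (hdim : FlatMor.localDim (PrimeSpectrum (p.Fiber S)) Q = (n : WithBot ℕ∞))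
    (hr : Algebra.trdeg p.ResidueField q.ResidueField = r) :
    ∃ (f : R) (g : S), f ∉ p ∧ g ∉ q ∧
      ∃ φ : MvPolynomial (Fin n) (Localization.Away f) →ₐ[R] Localization.Away g,
        φ.toRingHom.FiniteType ∧ φ.toRingHom.QuasiFinite ∧
        (q.map (algebraMap S (Localization.Away g))).comap φ =
          p.map (algebraMap R (MvPolynomial (Fin n) (Localization.Away f))) ⊔
            Ideal.span (Set.range fun i : {i : Fin n // r ≤ (i : ℕ)} =>
              (MvPolynomial.X (i : Fin n) : MvPolynomial (Fin n) (Localization.Away f))) := by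
  classical
  have hr' : Algebra.trdeg (R ⧸ p) (S ⧸ q) = r := by
    rw [Groth.Agent.Lib.Helper12.QFPresc.trdeg_residueField_eq p q, hr]
  obtain ⟨t, ht⟩ := Groth.Agent.Lib.Helper12.QFPresc.exists_algebraicIndependent p q r hr'
  obtain ⟨m, u, hnm, huq, hmin⟩ :=
    Groth.Agent.Lib.Helper12.QFPresc.exists_parameters p q Q hQ n r hdim hr'
  subst hnm
  obtain ⟨g, hgq, hqf⟩ :=
    Groth.Agent.Lib.Helper12.QFPresc.exists_quasiFinite_away p t u q huq ht hr' hmin
  refine ⟨1, g, fun h => (Ideal.IsPrime.ne_top inferInstance) (p.eq_top_of_isUnit_mem h isUnit_one),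
    hgq, ?_⟩
  let e : Localization.Away (1 : R) ≃ₐ[R] R :=
    (IsLocalization.atOne R (Localization.Away (1 : R))).symm
  let ψ : MvPolynomial (Fin (r + m)) (Localization.Away (1 : R)) ≃ₐ[R] MvPolynomial (Fin (r + m)) R :=
    MvPolynomial.mapAlgEquiv (Fin (r + m)) e
  let φ₀ : MvPolynomial (Fin (r + m)) R →ₐ[R] Localization.Away g :=
    (IsScalarTower.toAlgHom R S (Localization.Away g)).comp
      (Groth.Agent.Lib.Helper12.QFPresc.phi R t u)
  have hφ₀ : φ₀.toRingHom = (algebraMap S (Localization.Away g)).comp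
      (Groth.Agent.Lib.Helper12.QFPresc.phi R t u).toRingHom := rfl
  refine ⟨φ₀.comp ψ.toAlgHom, ?_, ?_, ?_⟩
  · have h1 : φ₀.toRingHom.FiniteType := by
      refine RingHom.FiniteType.of_comp_finiteType (f := (MvPolynomial.C :
        R →+* MvPolynomial (Fin (r + m)) R)) ?_
      have : φ₀.toRingHom.comp MvPolynomial.C = algebraMap R (Localization.Away g) := by
        ext c
        simp [φ₀, Groth.Agent.Lib.Helper12.QFPresc.phi, ← IsScalarTower.algebraMap_apply]
      rw [this, RingHom.finiteType_algebraMap]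
      haveI : Algebra.FiniteType S (Localization.Away g) :=
        IsLocalization.finiteType_of_monoid_fg (Submonoid.powers g) _
      exact Algebra.FiniteType.trans (S := S) inferInstance inferInstance
    have h2 : (ψ.toAlgHom.toRingHom).FiniteType :=
      RingHom.FiniteType.of_surjective _ ψ.surjective
    exact RingHom.FiniteType.comp h1 h2
  · have h2 : (ψ.toAlgHom.toRingHom).QuasiFinite :=
      RingHom.QuasiFinite.of_finite (RingHom.Finite.of_surjective _ ψ.surjective)
    rw [← hφ₀] at hqf
    exact RingHom.QuasiFinite.comp hqf h2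
  · have hdisj : Disjoint (Submonoid.powers g : Set S) (q : Set S) := by
      rw [Set.disjoint_left]
      rintro _ ⟨k, rfl⟩ hk
      exact hgq (Ideal.IsPrime.mem_of_pow_mem inferInstance k hk)
    have h1 : (q.map (algebraMap S (Localization.Away g))).comap (algebraMap S (Localization.Away g)) = q :=
      IsLocalization.comap_map_of_isPrime_disjoint (Submonoid.powers g) _ inferInstance hdisj
    have h2 : (q.map (algebraMap S (Localization.Away g))).comap (φ₀.comp ψ.toAlgHom) =
        ((q.comap (Groth.Agent.Lib.Helper12.QFPresc.phi R t u).toRingHom).comap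
          (ψ : MvPolynomial (Fin (r + m)) (Localization.Away (1 : R)) →ₐ[R]
            MvPolynomial (Fin (r + m)) R)) := by
      conv_rhs => rw [← h1]
      rfl
    rw [h2, Groth.Agent.Lib.Helper12.QFPresc.comap_phi p t u q huq ht]
    exact comap_mapAlgEquiv_J e p r m

end Groth.Agent.S9181
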