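import Groth.Statements.S9182
import Groth.Agent.Lib.Lead.SchanuelSmooth
-- import your own Groth.Agent.* helpers here

set_option autoImplicit false
set_option linter.style.haveILetI false
universe u
open CAlg

namespace Groth.Agent.S9182

open Groth.Agent.Lib.Lead.SchanuelSmooth Groth.Agent.Lib.Helper14 in
/-- For presentations α : R[x_1, …, x_n] → S and β : R[y_1, …, y_m] → S_g (g ∈ S) with kernels I and J,
the S_g-modules (I/I²)_g ⊕ S_g^m and J/J² ⊕ S_g^n are isomorphic. -/
theorem result (R S : Type u) [CommRing R] [CommRing S] [Algebra R S]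
    (g : S) (n m : ℕ) (α : MvPolynomial (Fin n) R →ₐ[R] S) (hα : Function.Surjective α)
    (β : MvPolynomial (Fin m) R →ₐ[R] Localization.Away g) (hβ : Function.Surjective β) :
    Nonempty ((LocalizedModule (Submonoid.powers g) (Algebra.Extension.ofSurjective α hα).Cotangent ×
        (Fin m → Localization.Away g)) ≃ₗ[Localization.Away g]
      ((Algebra.Extension.ofSurjective β hβ).Cotangent × (Fin n → Localization.Away g))) := by
  set P := Algebra.Extension.ofSurjective α hα with hP
  set Pβ := Algebra.Extension.ofSurjective β hβ with hPβ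
  haveI : Algebra.FormallySmooth R P.Ring :=
    inferInstanceAs (Algebra.FormallySmooth R (MvPolynomial (Fin n) R))
  haveI : Algebra.FormallySmooth R Pβ.Ring :=
    inferInstanceAs (Algebra.FormallySmooth R (MvPolynomial (Fin m) R))
  obtain ⟨Q, hQ, ⟨e₁⟩, ⟨e₂⟩⟩ := exists_locExt (Localization.Away g) (Submonoid.powers g) P
  obtain ⟨e⟩ := nonempty_cotangent_prod_cotangentSpace_linearEquiv_of_formallySmooth Q Pβ
  obtain ⟨sβ⟩ := nonempty_cotangentSpace_ofSurjective_linearEquiv β hβ
  obtain ⟨sα⟩ := nonempty_cotangentSpace_ofSurjective_linearEquiv α hα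
  -- `(I/I²)_g ≃ T ⊗ I/I² ≃ J_Q/J_Q²`
  let a₁ : LocalizedModule (Submonoid.powers g) P.Cotangent ≃ₗ[Localization.Away g] Q.Cotangent :=
    (LocalizedModule.equivTensorProduct (Submonoid.powers g) P.Cotangent).trans e₁
  -- `T ⊗ Ω_Q ≃ T ⊗ (S ⊗ Ω_P) ≃ T ⊗ S^n ≃ T^n`
  let a₂ : Q.CotangentSpace ≃ₗ[Localization.Away g] (Fin n → Localization.Away g) :=
    e₂.symm.trans ((TensorProduct.AlgebraTensorModule.congr
      (LinearEquiv.refl (Localization.Away g) (Localization.Away g)) sα).trans
      (TensorProduct.piScalarRight S (Localization.Away g) (Localization.Away g) (Fin n)))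
  exact ⟨(a₁.prodCongr sβ.symm).trans (e.trans ((LinearEquiv.refl _ _).prodCongr a₂))⟩

end Groth.Agent.S9182
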