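import Groth.Statements.S9194
-- import your own Groth.Agent.* helpers here
import Mathlib
import Groth.Agent.Lib.Helper12.LimAffChart
import Groth.Agent.Lib.Helper12.FibQF2

set_option autoImplicit false
universe u
open CategoryTheory AlgebraicGeometry
open Lim

namespace Groth.Agent.S9194
open Groth.Agent.Lib.Helper12 Groth.Agent.Lib.Helper12.PbDiag CategoryTheory.Limits
open Groth.Agent.Lib.Helper12.FibQF

/-- Let S = lim S_i be a cofiltered limit of schemes with affine transition morphisms, S_{i₀} a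
quasi-compact quasi-separated stage, f₀ : X₀ → Y₀ a morphism of quasi-compact quasi-separated
schemes over S_{i₀}, and f : X → Y its base change along S → S_{i₀} (base changes expressed by
pullback squares). If f₀ is locally of finite type and f is quasi-finite (f is locally of finite
type and quasi-compact, being a base change of f₀; the hypothesis is that its fibres are discrete),
then for some index i over i₀ the base change f_i : X_i → Y_i of f₀ along S_i → S_{i₀} is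
quasi-finite: locally quasi-finite, and it is locally of finite type and quasi-compact as a base
change of f₀. -/
theorem result {I : Type u} [SmallCategory I] [IsCofiltered I]
    (D : I ⥤ Scheme.{u}) (c : Limits.Cone D) (hc : Limits.IsLimit c)
    [∀ (i j : I) (f : i ⟶ j), IsAffineHom (D.map f)] (i₀ : I) [CompactSpace (D.obj i₀)]
    [QuasiSeparatedSpace (D.obj i₀)] {X₀ Y₀ : Scheme.{u}} (f₀ : X₀ ⟶ Y₀) (g₀ : Y₀ ⟶ D.obj i₀)
    [CompactSpace X₀] [QuasiSeparatedSpace X₀] [CompactSpace Y₀] [QuasiSeparatedSpace Y₀]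
    [LocallyOfFiniteType f₀]
    {X Y : Scheme.{u}} (f : X ⟶ Y) (g : Y ⟶ c.pt) (qY : Y ⟶ Y₀) (qX : X ⟶ X₀)
    (hY : IsPullback qY g g₀ (c.π.app i₀)) (hX : IsPullback qX f f₀ qY) [LocallyQuasiFinite f] :
    ∃ (i : I) (φ : i ⟶ i₀) (Xi Yi : Scheme.{u}) (fi : Xi ⟶ Yi) (gi : Yi ⟶ D.obj i) (pY : Yi ⟶ Y₀)
      (pX : Xi ⟶ X₀), IsPullback pY gi g₀ (D.map φ) ∧ IsPullback pX fi f₀ pY ∧ LocallyQuasiFinite fi := by
  haveI hD : ∀ {i j : I} (f : i ⟶ j), IsAffineHom (D.map f) := fun f => inferInstance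
  refine LimData.exists_stage D i₀ f₀ g₀ @LocallyQuasiFinite ?_
  haveI hft : ∀ j : Over i₀, LocallyOfFiniteType ((pbMap D i₀ g₀ f₀).app j) := fun j =>
    MorphismProperty.of_isPullback (P := @LocallyOfFiniteType)
      (isPullback_pbMap_app D i₀ g₀ f₀ j) inferInstance
  haveI : ∀ j : Over i₀, CompactSpace ((pbDiagram D i₀ (f₀ ≫ g₀)).obj j) := fun j =>
    compactSpace_pbDiagram_obj' D i₀ (f₀ ≫ g₀) j
  have hlim := isLimitPbCone c hc qX (f ≫ g) (hX.paste_vert hY)
  have htop : ((pbCone c qX (f ≫ g) (hX.paste_vert hY)).π.app (Over.mk (𝟙 i₀))) ⁻¹ᵁ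
      ((pbMap D i₀ g₀ f₀).app (Over.mk (𝟙 i₀))).quasiFiniteLocus = ⊤ := by
    refine top_le_iff.mp fun x _ => ?_
    show ((pbMap D i₀ g₀ f₀).app (Over.mk (𝟙 i₀))).QuasiFiniteAt _
    rw [← quasiFiniteAt_iff_of_isPullback _ _ _ _
      (LimData.isPullback_pbCone_π_pbMap D c i₀ f₀ g₀ f g qY qX hY hX (Over.mk (𝟙 i₀))) x]
    exact f.quasiFiniteAt x
  obtain ⟨k, a, hk⟩ := exists_map_eq_top (pbDiagram D i₀ (f₀ ≫ g₀))
    (pbCone c qX (f ≫ g) (hX.paste_vert hY)) hlim _ htop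
  refine ⟨k, ?_⟩
  rw [← Scheme.Hom.quasiFiniteLocus_eq_top_iff]
  refine top_le_iff.mp fun x _ => ?_
  show ((pbMap D i₀ g₀ f₀).app k).QuasiFiniteAt x
  rw [quasiFiniteAt_iff_of_isPullback _ _ _ _ (isPullback_pbMap_map D i₀ g₀ f₀ a) x]
  have : x ∈ ((pbDiagram D i₀ (f₀ ≫ g₀)).map a) ⁻¹ᵁ
      ((pbMap D i₀ g₀ f₀).app (Over.mk (𝟙 i₀))).quasiFiniteLocus := by rw [hk]; trivial
  exact this

end Groth.Agent.S9194
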