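import Groth.Statements.S9197
-- import your own Groth.Agent.* helpers here
import Mathlib
import Groth.Agent.Lib.Helper12.LimPb2
import Groth.Agent.Lib.Helper12.LimPb
import Groth.Agent.S9187
import Groth.Agent.S2075

set_option autoImplicit false
universe u
open CategoryTheory AlgebraicGeometry
open Lim

namespace Groth.Agent.S9197
open Limits Opposite Groth.Agent.Lib.Helper12 Groth.Agent.Lib.Helper12.PbDiag
set_option backward.isDefEq.respectTransparency false
set_option linter.style.haveILetI false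

/-- A stage tuple gives the property on the canonical stage. -/
lemma pbMap_of_tuple {I : Type u} [SmallCategory I] (D : I ⥤ Scheme.{u}) (i₀ : I)
    {X₀ Y₀ : Scheme.{u}} (f₀ : X₀ ⟶ Y₀) (g₀ : Y₀ ⟶ D.obj i₀)
    (P : MorphismProperty Scheme.{u}) [P.IsStableUnderBaseChange]
    (h : ∃ (i : I) (φ : i ⟶ i₀) (Xi Yi : Scheme.{u}) (fi : Xi ⟶ Yi) (gi : Yi ⟶ D.obj i)
      (pY : Yi ⟶ Y₀) (pX : Xi ⟶ X₀), IsPullback pY gi g₀ (D.map φ) ∧ IsPullback pX fi f₀ pY ∧
        P fi) : ∃ j : Over i₀, P ((pbMap D i₀ g₀ f₀).app j) := by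
  obtain ⟨i, φ, Xi, Yi, fi, gi, pY, pX, hpY, hpX, hP⟩ := h
  refine ⟨Over.mk φ, ?_⟩
  have sq := isPullback_pbMap_app D i₀ g₀ f₀ (Over.mk φ)
  have e1 : hpY.isoPullback.inv ≫ pY = pullback.fst g₀ (D.map φ) :=
    IsPullback.isoPullback_inv_fst hpY
  have hw : pullback.fst (f₀ ≫ g₀) (D.map φ) ≫ f₀ =
      ((pbMap D i₀ g₀ f₀).app (Over.mk φ) ≫ hpY.isoPullback.inv) ≫ pY := by
    rw [Category.assoc, e1]
    exact sq.w
  have sq' : IsPullback (hpX.lift _ _ hw) ((pbMap D i₀ g₀ f₀).app (Over.mk φ)) fi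
      hpY.isoPullback.inv := by
    refine IsPullback.of_right ?_ (hpX.lift_snd _ _ _) hpX
    rw [hpX.lift_fst, e1]
    exact sq
  exact MorphismProperty.of_isPullback (P := P) sq' hP

/-- Let S = lim S_i be a cofiltered limit of schemes with affine transition morphisms, S_{i₀} a
quasi-compact quasi-separated stage, f₀ : X₀ → Y₀ a morphism of quasi-compact quasi-separated
schemes over S_{i₀}, and f : X → Y its base change along S → S_{i₀} (base changes expressed by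
pullback squares). Let d be a natural number. If f₀ is locally of finite presentation and f is
finite locally free of degree d (finite, flat, locally of finite presentation, with rank function
constant equal to d), then for some index i over i₀ the base change f_i : X_i → Y_i of f₀ along S_i
→ S_{i₀} is finite locally free of degree d. -/
theorem result {I : Type u} [SmallCategory I] [IsCofiltered I]
    (D : I ⥤ Scheme.{u}) (c : Limits.Cone D) (hc : Limits.IsLimit c)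
    [∀ (i j : I) (f : i ⟶ j), IsAffineHom (D.map f)] (i₀ : I) [CompactSpace (D.obj i₀)]
    [QuasiSeparatedSpace (D.obj i₀)] {X₀ Y₀ : Scheme.{u}} (f₀ : X₀ ⟶ Y₀) (g₀ : Y₀ ⟶ D.obj i₀)
    [CompactSpace X₀] [QuasiSeparatedSpace X₀] [CompactSpace Y₀] [QuasiSeparatedSpace Y₀]
    [LocallyOfFinitePresentation f₀] (d : ℕ)
    {X Y : Scheme.{u}} (f : X ⟶ Y) (g : Y ⟶ c.pt) (qY : Y ⟶ Y₀) (qX : X ⟶ X₀)
    (hY : IsPullback qY g g₀ (c.π.app i₀)) (hX : IsPullback qX f f₀ qY) (hf : Mor2.IsFinLocFreeOfDeg d f) :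
    ∃ (i : I) (φ : i ⟶ i₀) (Xi Yi : Scheme.{u}) (fi : Xi ⟶ Yi) (gi : Yi ⟶ D.obj i) (pY : Yi ⟶ Y₀)
      (pX : Xi ⟶ X₀), IsPullback pY gi g₀ (D.map φ) ∧ IsPullback pX fi f₀ pY ∧ Mor2.IsFinLocFreeOfDeg d fi := by
  classical
  haveI hD : ∀ {i j : I} (f : i ⟶ j), IsAffineHom (D.map f) := fun f => inferInstance
  obtain ⟨⟨hfin, hflat, hlfp⟩, hrank⟩ := hf
  haveI := hfin
  haveI := hflat
  obtain ⟨j1, hj1⟩ := pbMap_of_tuple D i₀ f₀ g₀ @IsFinite
    (Groth.Agent.S9187.result D c hc i₀ f₀ g₀ f g qY qX hY hX)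
  obtain ⟨j2, hj2⟩ := pbMap_of_tuple D i₀ f₀ g₀ @Flat
    (Groth.Agent.S2075.result D c hc i₀ f₀ g₀ f g qY qX hY hX)
  let A := LimData.ofPb' D c hc i₀ f₀ g₀ f g qY qX hY hX
  have hF : ∀ j, A.F.app j = (pbMap D i₀ g₀ f₀).app j := fun j => rfl
  obtain ⟨j, a1, a2, -⟩ := IsCofilteredOrEmpty.cone_objs j1 j2
  have hfinj : ∀ (k : Over i₀) (_ : k ⟶ j), IsFinite (A.F.app k) := fun k a =>
    MorphismProperty.of_isPullback (P := @IsFinite) (A.hF (a ≫ a1)) hj1
  have hflatj : ∀ (k : Over i₀) (_ : k ⟶ j), Flat (A.F.app k) := fun k a =>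
    MorphismProperty.of_isPullback (P := @Flat) (A.hF (a ≫ a2)) hj2
  have hlfpj : ∀ k : Over i₀, LocallyOfFinitePresentation (A.F.app k) := fun k =>
    MorphismProperty.of_isPullback (P := @LocallyOfFinitePresentation)
      (isPullback_pbMap_app D i₀ g₀ f₀ k) inferInstance
  haveI := hfinj j (𝟙 j)
  haveI := hflatj j (𝟙 j)
  haveI := hlfpj j
  -- the locus of rank `d`
  have hlc := Scheme.Hom.isLocallyConstant_finrank (A.F.app j)
  let U : (A.DY.obj j).Opens := ⟨(A.F.app j).finrank ⁻¹' {d}, hlc.isOpen_fiber d⟩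
  -- the square over the limit
  have sqlim : ∀ k, IsPullback (A.cX.π.app k) f (A.F.app k) (A.cY.π.app k) := by
    intro k
    refine IsPullback.of_right ?_ (A.hf k) (isPullback_pbMap_app D i₀ g₀ f₀ k)
    have h1 : A.cX.π.app k ≫ pullback.fst (f₀ ≫ g₀) (D.map k.hom) = qX :=
      pbCone_π_fst c qX (f ≫ g) (hX.paste_vert hY) k
    have h2 : A.cY.π.app k ≫ pullback.fst g₀ (D.map k.hom) = qY := pbCone_π_fst c qY g hY k
    rw [h1, h2]
    exact hX
  have hU : A.cY.π.app j ⁻¹ᵁ U = ⊤ := by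
    rw [eq_top_iff]
    intro y _
    show (A.F.app j).finrank (A.cY.π.app j y) = d
    have := Scheme.Hom.finrank_of_isPullback _ _ _ _ (sqlim j) y
    exact this.symm.trans (hrank y)
  obtain ⟨k, a, hk⟩ := exists_map_eq_top A.DY A.cY A.hcY U hU
  refine LimData.exists_stage D i₀ f₀ g₀ (fun _ _ f => Mor2.IsFinLocFreeOfDeg d f) ⟨k, ?_⟩
  rw [← hF]
  haveI := hfinj k a
  haveI := hflatj k a
  refine ⟨⟨hfinj k a, hflatj k a, hlfpj k⟩, fun y => ?_⟩
  rw [Scheme.Hom.finrank_of_isPullback _ _ _ _ (A.hF a)]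
  have : y ∈ A.DY.map a ⁻¹ᵁ U := by rw [hk]; trivial
  exact this

end Groth.Agent.S9197
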