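import Groth.Statements.S9198
import Mathlib
import Groth.Agent.Lib.Helper12.LimAffChart
import Groth.Agent.Lib.Helper22.SyntBC
import Groth.Agent.Lib.Helper24.SyntLocalSch
import Groth.Agent.Lib.Helper24.SyntDescend

set_option autoImplicit false
universe u
open CategoryTheory AlgebraicGeometry
open Lim

namespace Groth.Agent.S9198

/-- Let S = lim S_i be a cofiltered limit of schemes with affine transition morphisms, S_{i₀} a
quasi-compact quasi-separated stage, f₀ : X₀ → Y₀ a morphism of quasi-compact quasi-separated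
schemes over S_{i₀}, and f : X → Y its base change along S → S_{i₀} (base changes expressed by
pullback squares). If f₀ is locally of finite presentation and f is syntomic (flat, locally of
finite presentation, with local complete intersection fibres, tested on affine opens around each
point), then for some index i over i₀ the base change f_i : X_i → Y_i of f₀ along S_i → S_{i₀} is
syntomic. -/
theorem result {I : Type u} [SmallCategory I] [IsCofiltered I]
    (D : I ⥤ Scheme.{u}) (c : Limits.Cone D) (hc : Limits.IsLimit c)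
    [∀ (i j : I) (f : i ⟶ j), IsAffineHom (D.map f)] (i₀ : I) [CompactSpace (D.obj i₀)]
    [QuasiSeparatedSpace (D.obj i₀)] {X₀ Y₀ : Scheme.{u}} (f₀ : X₀ ⟶ Y₀) (g₀ : Y₀ ⟶ D.obj i₀)
    [CompactSpace X₀] [QuasiSeparatedSpace X₀] [CompactSpace Y₀] [QuasiSeparatedSpace Y₀]
    [LocallyOfFinitePresentation f₀]
    {X Y : Scheme.{u}} (f : X ⟶ Y) (g : Y ⟶ c.pt) (qY : Y ⟶ Y₀) (qX : X ⟶ X₀)
    (hY : IsPullback qY g g₀ (c.π.app i₀)) (hX : IsPullback qX f f₀ qY) (hf : Synt.IsSyntomicMor f) :
    ∃ (i : I) (φ : i ⟶ i₀) (Xi Yi : Scheme.{u}) (fi : Xi ⟶ Yi) (gi : Yi ⟶ D.obj i) (pY : Yi ⟶ Y₀)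
      (pX : Xi ⟶ X₀), IsPullback pY gi g₀ (D.map φ) ∧ IsPullback pX fi f₀ pY ∧ Synt.IsSyntomicMor fi := by
  open Groth.Agent.Lib.Helper12 Groth.Agent.Lib.Helper12.PbDiag CategoryTheory.Limits
    Groth.Agent.Lib.Helper24 Groth.Agent.Lib.Helper22 in
  haveI hD : ∀ {i j : I} (f : i ⟶ j), IsAffineHom (D.map f) := fun f => inferInstance
  open Groth.Agent.Lib.Helper12 Groth.Agent.Lib.Helper12.PbDiag CategoryTheory.Limits
    Groth.Agent.Lib.Helper24 Groth.Agent.Lib.Helper22 in
  haveI : SyntLocalSch.P.IsStableUnderBaseChange :=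
    HasRingHomProperty.isStableUnderBaseChange SyntBC.Q_isStableUnderBaseChange
  open Groth.Agent.Lib.Helper12 Groth.Agent.Lib.Helper12.PbDiag CategoryTheory.Limits
    Groth.Agent.Lib.Helper24 Groth.Agent.Lib.Helper22 in
  haveI : SyntLocalSch.P.Respects @IsOpenImmersion :=
    HasRingHomProperty.respects_isOpenImmersion (P := SyntLocalSch.P) SyntLocal.Q_stableSource
  open Groth.Agent.Lib.Helper12 Groth.Agent.Lib.Helper12.PbDiag CategoryTheory.Limits
    Groth.Agent.Lib.Helper24 Groth.Agent.Lib.Helper22 in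
  have hfP : SyntLocalSch.P f := (SyntLocalSch.P_iff_isSyntomicMor f).mpr hf
  open Groth.Agent.Lib.Helper12 Groth.Agent.Lib.Helper12.PbDiag CategoryTheory.Limits
    Groth.Agent.Lib.Helper24 Groth.Agent.Lib.Helper22 in
  obtain ⟨i, φ, Xi, Yi, fi, gi, pY, pX, h1, h2, h3⟩ :=
    LimData.exists_stage D i₀ f₀ g₀ SyntLocalSch.P
      (LimData.exists_stage_of_hasRingHomProperty D c hc i₀ f₀ g₀ f g qY qX hY hX SyntLocalSch.P
        @SyntLocal.Q SyntDescend.descendsWeakColim_syntomic hfP)
  open Groth.Agent.Lib.Helper24 in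
  exact ⟨i, φ, Xi, Yi, fi, gi, pY, pX, h1, h2, (SyntLocalSch.P_iff_isSyntomicMor fi).mp h3⟩

end Groth.Agent.S9198
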