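import Groth.Statements.S9202
-- import your own Groth.Agent.* helpers here
import Mathlib
import Groth.Agent.Lib.Helper12.FpLimit
import Groth.Agent.Lib.Helper12.LimCIStage
import Groth.Agent.Lib.Helper12.ConsPairProper
import Groth.Agent.S7409

set_option autoImplicit false
universe u
open CategoryTheory AlgebraicGeometry
open Lim

namespace Groth.Agent.S9202
open Limits TopologicalSpace Opposite Groth.Agent.Lib.Helper12.FpLimit
  Groth.Agent.Lib.Helper12.LimCIStage Groth.Agent.Lib.Helper12.ConsPairGen

set_option backward.isDefEq.respectTransparency false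
set_option linter.style.haveILetI false

/-- Let S be a scheme and X = lim X_i a cofiltered limit of S-schemes X_i (a diagram with a compatible
family of structure maps to S) with affine transition morphisms, every X_i quasi-compact and
quasi-separated; the structure map X → S is the composite X → X_{i₀} → S for any index i₀. Let h : Y
→ X be a proper morphism such that the composite Y → X → S is locally of finite type. Then Y → X_i
is proper for all i beyond some index i₁. -/
theorem result {I : Type u} [SmallCategory I] [IsCofiltered I] (S : Scheme.{u})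
    (D : I ⥤ Scheme.{u}) (t : D ⟶ (Functor.const I).obj S) (c : Limits.Cone D) (hc : Limits.IsLimit c)
    [∀ (i j : I) (a : i ⟶ j), IsAffineHom (D.map a)]
    [∀ i, CompactSpace (D.obj i)] [∀ i, QuasiSeparatedSpace (D.obj i)] (i₀ : I)
    {Y : Scheme.{u}} (h : Y ⟶ c.pt) [IsProper h] [LocallyOfFiniteType (h ≫ c.π.app i₀ ≫ t.app i₀)] :
    ∃ i₁ : I, ∀ (i : I) (_ : i ⟶ i₁), IsProper (h ≫ c.π.app i) := by
  classical
  haveI hDaff : ∀ {i j : I} (a : i ⟶ j), IsAffineHom (D.map a) := fun a => inferInstance
  haveI hπaff : ∀ i, IsAffineHom (c.π.app i) := fun i => isAffineHom_π_app D c hc i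
  haveI : CompactSpace c.pt := Scheme.compactSpace_of_isLimit D c hc
  haveI : QuasiSeparatedSpace c.pt := quasiSeparatedSpace_of_quasiSeparated (c.π.app i₀)
  haveI : CompactSpace Y := QuasiCompact.compactSpace_of_compactSpace h
  haveI : QuasiSeparatedSpace Y := quasiSeparatedSpace_of_quasiSeparated h
  -- the structure maps are compatible
  have htw : ∀ {i : I} (a : i ⟶ i₀), c.π.app i ≫ t.app i = c.π.app i₀ ≫ t.app i₀ := by
    intro i a
    have := t.naturality a
    simp only [Functor.const_obj_obj, Functor.const_obj_map, Category.comp_id] at this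
    rw [← this, c.w_assoc]
  have hlft : ∀ {i : I} (a : i ⟶ i₀), LocallyOfFiniteType (h ≫ c.π.app i) := by
    intro i a
    haveI : LocallyOfFiniteType ((h ≫ c.π.app i) ≫ t.app i) := by
      rw [Category.assoc, htw a]; infer_instance
    exact locallyOfFiniteType_of_comp (h ≫ c.π.app i) (t.app i)
  -- the base
  let B := D.obj i₀
  let σ : c.pt ⟶ B := c.π.app i₀
  let h₀ : Y ⟶ B := h ≫ σ
  haveI : LocallyOfFiniteType h₀ := hlft (𝟙 i₀)
  haveI : IsSeparated h₀ := inferInstance
  haveI : QuasiCompact h₀ := inferInstance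
  obtain ⟨n, W, π, imm, himm, hcomp, hπ, hsurj⟩ := Groth.Agent.S7409.result h₀
  -- the system over `Over i₀`
  let 𝔇 : Over i₀ ⥤ Scheme.{u} := Over.forget i₀ ⋙ D
  let τ : 𝔇 ⟶ (Functor.const (Over i₀)).obj B :=
    { app := fun j => D.map j.hom
      naturality := fun j k a => by
        show D.map a.left ≫ D.map k.hom = D.map j.hom ≫ 𝟙 B
        rw [← D.map_comp, Over.w, Category.comp_id] }
  let c' : Cone 𝔇 := c.whisker (Over.forget i₀)
  have hc' : IsLimit c' := (Functor.Initial.isLimitWhiskerEquiv (Over.forget i₀) c).symm hc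
  have hσ : ∀ j, c'.π.app j ≫ τ.app j = σ := fun j => c.w j.hom
  haveI : ∀ {j k : Over i₀} (a : j ⟶ k), IsAffineHom (𝔇.map a) := fun a =>
    inferInstanceAs (IsAffineHom (D.map a.left))
  haveI : ∀ j, CompactSpace (𝔇.obj j) := fun j => inferInstanceAs (CompactSpace (D.obj j.left))
  let f : CohB1.ProjSpaceOver n B ⟶ B := CohB1.ProjSpaceOver.toBase n B
  haveI : IsProper f := inferInstance
  have hlimfb : IsLimit (fbCone f c' σ hσ) := isLimitFbCone f c' hc' σ hσ
  -- the map into the limit
  have hkw : imm ≫ f = (π ≫ h) ≫ σ := by rw [Category.assoc]; exact hcomp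
  let k : W ⟶ pullback f σ := pullback.lift imm (π ≫ h) hkw
  have hk1 : k ≫ pullback.fst f σ = imm := pullback.lift_fst _ _ _
  have hk2 : k ≫ pullback.snd f σ = π ≫ h := pullback.lift_snd _ _ _
  haveI : IsImmersion (k ≫ pullback.fst f σ) := by rw [hk1]; exact himm
  haveI : IsImmersion k := IsImmersion.of_comp k (pullback.fst f σ)
  haveI : IsProper (k ≫ pullback.snd f σ) := by rw [hk2]; infer_instance
  haveI : IsProper k := IsProper.of_comp k (pullback.snd f σ)
  haveI : IsClosedImmersion k :=
    IsClosedImmersion.of_isPreimmersion _ (Scheme.Hom.isClosedMap _).isClosed_range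
  -- closed immersion into a stage
  let j₀ : Over i₀ := Over.mk (𝟙 i₀)
  haveI : ∀ j, CompactSpace ((fbDiagram 𝔇 τ f).obj j) := fun j =>
    compactSpace_fbDiagram_obj 𝔇 τ f j
  haveI : LocallyOfFiniteType (k ≫ (fbCone f c' σ hσ).π.app j₀ ≫
      (fun j => pullback.fst f (τ.app j) ≫ f) j₀) := by
    show LocallyOfFiniteType (k ≫ (fbCone f c' σ hσ).π.app j₀ ≫ pullback.fst f (τ.app j₀) ≫ f)
    rw [fbCone_π_fst_assoc, reassoc_of% hk1, hcomp]
    infer_instance
  obtain ⟨j, hj⟩ := exists_isClosedImmersion_stage (fbDiagram 𝔇 τ f) (fbCone f c' σ hσ) hlimfb B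
    (fun j => pullback.fst f (τ.app j) ≫ f) (fun a => by simp) k j₀
  -- properness at the stage `j`
  have key : IsProper (h ≫ c.π.app j.left) := by
    haveI := hlft j.hom
    have e : π ≫ h ≫ c.π.app j.left =
        (k ≫ (fbCone f c' σ hσ).π.app j) ≫ pullback.snd f (τ.app j) := by
      rw [Category.assoc, fbCone_π_snd, reassoc_of% hk2]
      rfl
    haveI : IsProper (π ≫ h ≫ c.π.app j.left) := by
      rw [e]; infer_instance
    haveI : UniversallyClosed (h ≫ c.π.app j.left) :=
      UniversallyClosed.of_comp_surjective π (h ≫ c.π.app j.left)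
    exact ⟨⟩
  refine ⟨j.left, fun i a => ?_⟩
  haveI : IsProper ((h ≫ c.π.app i) ≫ D.map a) := by
    rw [Category.assoc, c.w]; exact key
  exact IsProper.of_comp (h ≫ c.π.app i) (D.map a)

end Groth.Agent.S9202
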