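import Groth.Statements.S9203
import Groth.Agent.Lib.Helper28.Pinch.AffinePushout
import Groth.Agent.Lib.Helper28.Thick.Affine

set_option autoImplicit false
universe u v
open CategoryTheory AlgebraicGeometry
open Lim

namespace Groth.Agent.S9203

/-- Suppose a scheme X is covered, as a topological space, by finitely many closed subschemes each of
which is affine: there are closed immersions Z_k → X, indexed by a finite type, with each Z_k affine
and whose images cover X. Then X is affine. -/
theorem result (X : Scheme.{u}) {κ : Type v} [Finite κ]
    (Z : κ → Scheme.{u}) (ι : ∀ k, Z k ⟶ X) [∀ k, IsClosedImmersion (ι k)] [∀ k, IsAffine (Z k)]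
    (hcov : ∀ x : X, ∃ k, x ∈ Set.range (ι k).base) : IsAffine X := by
  classical
  haveI : Fintype κ := Fintype.ofFinite κ
  let I : κ → X.IdealSheafData := fun k => (ι k).ker
  have hI : ∀ k, IsAffine (I k).subscheme := fun k =>
    .of_isIso (inv (ι k).toImage)
  have key : ∀ s : Finset κ, IsAffine (s.inf I).subscheme := by
    intro s
    induction s using Finset.induction_on with
    | empty =>
      rw [Finset.inf_empty]
      exact isAffine_of_isEmpty
    | insert k s _ ih =>
      rw [Finset.inf_insert]
      haveI := hI k
      haveI := ih
      exact Groth.Agent.Lib.Helper28.Pinch.isAffine_inf (I k) (s.inf I)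
  haveI := key Finset.univ
  refine Groth.Agent.Lib.Helper28.Thick.isAffine_of_thickening
    (Finset.univ.inf I).subschemeι ?_
  intro x
  obtain ⟨k, hk⟩ := hcov x
  have h1 : x ∈ (I k).support := (ι k).range_subset_ker_support hk
  have h2 : (I k).support ≤ (Finset.univ.inf I).support :=
    Scheme.IdealSheafData.support_antitone (Finset.inf_le (Finset.mem_univ k))
  have h3 : x ∈ Set.range (Finset.univ.inf I).subschemeι := by
    rw [Scheme.IdealSheafData.range_subschemeι]
    exact h2 h1
  exact h3

end Groth.Agent.S9203
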