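import Groth.Statements.S9209
import Mathlib
import Groth.Agent.Lib.Helper17.ValDense
import Groth.Agent.Lib.Helper17.DvrCrit2

set_option autoImplicit false
universe u
open CategoryTheory CategoryTheory.Limits AlgebraicGeometry
open Lim

namespace Groth.Agent.S9209

/-- Let S be a locally Noetherian scheme, f : X → S a separated morphism of finite type and h : U → X a
morphism of finite type whose image is dense in X. Suppose that for every discrete valuation ring A
with fraction field K and every commutative square formed by a morphism Spec K → U → X and a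
morphism Spec A → S, there is a morphism Spec A → X making the resulting diagram commute. Then f is
proper. -/
theorem result {X S U : Scheme.{u}} [IsLocallyNoetherian S] (f : X ⟶ S)
    [IsSeparated f] [LocallyOfFiniteType f] [QuasiCompact f] (h : U ⟶ X) [LocallyOfFiniteType h] [QuasiCompact h]
    (hd : DenseRange h.base)
    (H : ∀ (A : Type u) [CommRing A] [IsDomain A] [IsDiscreteValuationRing A]
      (u : Spec (CommRingCat.of (FractionRing A)) ⟶ U) (y : Spec (CommRingCat.of A) ⟶ S),
      u ≫ h ≫ f = Spec.map (CommRingCat.ofHom (algebraMap A (FractionRing A))) ≫ y →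
        ∃ l : Spec (CommRingCat.of A) ⟶ X, l ≫ f = y ∧ Spec.map (CommRingCat.ofHom (algebraMap A (FractionRing A))) ≫ l = u ≫ h) :
    IsProper f := by
  have hE : ValuativeCriterion.Existence f := by
    apply Groth.Agent.Lib.Helper17.ValDense.existence_of_points
    intro x₀
    obtain ⟨u, hu⟩ := Groth.Agent.Lib.Helper16.exists_specializes_of_mem_closure_range h x₀
      (by rw [hd.closure_range]; trivial)
    obtain ⟨p, hp⟩ : ∃ p : Spec (.of (U.residueField u)) ⟶ X, p = U.fromSpecResidueField u ≫ h :=
      ⟨_, rfl⟩
    refine ⟨U.residueField u, inferInstance, p, ?_, ?_, ?_⟩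
    · have : p (IsLocalRing.closedPoint (U.residueField u)) = h u := by
        obtain ⟨z, hz⟩ : ∃ z : Spec (U.residueField u),
          z = IsLocalRing.closedPoint (U.residueField u) := ⟨_, rfl⟩
        rw [← hz, hp, Scheme.Hom.comp_apply, Scheme.fromSpecResidueField_apply]
      rw [this]
      exact hu
    · intro W y hy
      refine Groth.Agent.Lib.Helper17.DvrCrit.exists_lift_of_dvr f p ?_ ?_ W y hy
      · intro W' hW' θ hθ
        exact Groth.Agent.Lib.Helper17.DvrCrit.essFiniteType_of_fromSpecResidueField (h ≫ f) u hW' θ
          (by rw [hθ, hp, Category.assoc])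
      · intro A hA y' hy'
        haveI := hA
        have := Groth.Agent.Lib.Helper17.DvrCrit.lift_valuationSubring_of_fractionRing f h H A
          (U.fromSpecResidueField u) y' (by rw [← hy', hp, Category.assoc])
        rw [hp]
        exact this
    · intro W l₁ l₂ h12 h1 h2
      have hU := IsSeparated.valuativeCriterion f
      let Sq : ValuativeCommSq f :=
        { R := W, K := U.residueField u, i₁ := p, i₂ := l₁ ≫ f
          commSq := ⟨by rw [← h1, Category.assoc]; rfl⟩ }
      have hS : Subsingleton Sq.commSq.LiftStruct := hU Sq
      let m₁ : Sq.commSq.LiftStruct := ⟨l₁, h1, rfl⟩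
      let m₂ : Sq.commSq.LiftStruct := ⟨l₂, h2, h12.symm⟩
      exact congrArg CommSq.LiftStruct.l (Subsingleton.elim m₁ m₂)
  have : UniversallyClosed f := UniversallyClosed.of_valuativeCriterion f hE
  exact {}

end Groth.Agent.S9209
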