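import Groth.Statements.S9210
import Mathlib
import Groth.Agent.S4450
import Groth.Agent.Lib.Helper16.SchemeTop

set_option autoImplicit false
universe u
open CategoryTheory CategoryTheory.Limits AlgebraicGeometry
open Lim

namespace Groth.Agent.S9210

/-- Let S be a locally Noetherian scheme, f : X → S a morphism locally of finite type and h : U → X a
morphism of finite type whose image is dense in X. Suppose that for every discrete valuation ring A
with fraction field K and every commutative square formed by a morphism Spec K → U → X and a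
morphism Spec A → S, there is at most one morphism Spec A → X making the resulting diagram commute.
Then f is separated. -/
theorem result {X S U : Scheme.{u}} [IsLocallyNoetherian S] (f : X ⟶ S)
    [LocallyOfFiniteType f] (h : U ⟶ X) [LocallyOfFiniteType h] [QuasiCompact h] (hd : DenseRange h.base)
    (H : ∀ (A : Type u) [CommRing A] [IsDomain A] [IsDiscreteValuationRing A]
      (u : Spec (CommRingCat.of (FractionRing A)) ⟶ U) (y : Spec (CommRingCat.of A) ⟶ S),
      u ≫ h ≫ f = Spec.map (CommRingCat.ofHom (algebraMap A (FractionRing A))) ≫ y →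
        ∀ l₁ l₂ : Spec (CommRingCat.of A) ⟶ X, l₁ ≫ f = y → Spec.map (CommRingCat.ofHom (algebraMap A (FractionRing A))) ≫ l₁ = u ≫ h →
          l₂ ≫ f = y → Spec.map (CommRingCat.ofHom (algebraMap A (FractionRing A))) ≫ l₂ = u ≫ h → l₁ = l₂) :
    IsSeparated f := by
  have : IsLocallyNoetherian X := LocallyOfFiniteType.isLocallyNoetherian f
  have : IsLocallyNoetherian (pullback f f) :=
    LocallyOfFiniteType.isLocallyNoetherian (pullback.fst f f)
  have : QuasiSeparated f := inferInstance
  have hspec : SpecializingMap (pullback.diagonal f) := by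
    intro x z' hz
    -- a point `u₀` of `U` whose image specializes to `x`
    obtain ⟨u₀, hu₀⟩ := Groth.Agent.Lib.Helper16.exists_specializes_of_mem_closure_range h x
      (by rw [hd.closure_range]; trivial)
    have hz' : (h ≫ pullback.diagonal f) u₀ ⤳ z' := by
      rw [Scheme.Hom.comp_apply]
      exact (hu₀.map (pullback.diagonal f).continuous).trans hz
    have hemb : Topology.IsInducing (pullback.diagonal f) :=
      (pullback.diagonal f).isEmbedding.isInducing
    -- it suffices to show `z'` is in the range of the diagonal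
    suffices hr : ∃ x', (pullback.diagonal f) x' = z' by
      obtain ⟨x', hx'⟩ := hr
      refine ⟨x', ?_, hx'⟩
      change x ⤳ x'
      rw [← hemb.specializes_iff, hx']
      exact hz
    by_cases hne : z' = (h ≫ pullback.diagonal f) u₀
    · exact ⟨h u₀, by rw [hne, Scheme.Hom.comp_apply]⟩
    · obtain ⟨A, hh, hA, hcl, hcomm⟩ :=
        Groth.Agent.S4450.result (h ≫ pullback.diagonal f) u₀ z' hz' hne
      let ι := Spec.map (CommRingCat.ofHom (algebraMap A (FractionRing A)))
      obtain ⟨g₁, hg₁⟩ : ∃ g : Spec (CommRingCat.of A) ⟶ X, g = hh ≫ pullback.fst f f := ⟨_, rfl⟩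
      obtain ⟨g₂, hg₂⟩ : ∃ g : Spec (CommRingCat.of A) ⟶ X, g = hh ≫ pullback.snd f f := ⟨_, rfl⟩
      have e1 : g₂ ≫ f = g₁ ≫ f := by
        simp only [hg₁, hg₂, Category.assoc, pullback.condition]
      have hl₁ : Spec.map (CommRingCat.ofHom A.subtype) ≫ g₁ = U.fromSpecResidueField u₀ ≫ h := by
        rw [hg₁, ← Category.assoc, hcomm, Category.assoc, Category.assoc, pullback.diagonal_fst,
          Category.comp_id]
      have hl₂ : Spec.map (CommRingCat.ofHom A.subtype) ≫ g₂ = U.fromSpecResidueField u₀ ≫ h := by
        rw [hg₂, ← Category.assoc, hcomm, Category.assoc, Category.assoc, pullback.diagonal_snd,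
          Category.comp_id]
      let e : FractionRing A ≃ₐ[A] U.residueField u₀ := FractionRing.algEquiv A (U.residueField u₀)
      let eI : CommRingCat.of (FractionRing A) ≅ CommRingCat.of (U.residueField u₀) :=
        e.toRingEquiv.toCommRingCatIso
      have hfac : CommRingCat.ofHom A.subtype =
          CommRingCat.ofHom (algebraMap A (FractionRing A)) ≫ eI.hom := by
        ext a
        simp [eI, e]
      have hSpec : Spec.map (CommRingCat.ofHom A.subtype) = Spec.map eI.hom ≫ ι := by
        rw [hfac, Spec.map_comp]
      have hinv : Spec.map eI.inv ≫ Spec.map eI.hom = 𝟙 _ := by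
        rw [← Spec.map_comp, eI.hom_inv_id, Spec.map_id]
      obtain ⟨u, hu⟩ : ∃ u : Spec (CommRingCat.of (FractionRing A)) ⟶ U,
        u = Spec.map eI.inv ≫ U.fromSpecResidueField u₀ := ⟨_, rfl⟩
      have hu₁ : ι ≫ g₁ = u ≫ h := by
        rw [hu, Category.assoc, ← hl₁, hSpec, Category.assoc, ← Category.assoc (Spec.map eI.inv),
          hinv, Category.id_comp]
      have hu₂ : ι ≫ g₂ = u ≫ h := by
        rw [hu, Category.assoc, ← hl₂, hSpec, Category.assoc, ← Category.assoc (Spec.map eI.inv),
          hinv, Category.id_comp]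
      have hg : g₁ = g₂ := H A u (g₁ ≫ f)
        (by rw [← Category.assoc, ← hu₁, Category.assoc]) g₁ g₂ rfl hu₁ e1 hu₂
      have hhh : hh = g₁ ≫ pullback.diagonal f := by
        apply pullback.hom_ext
        · simp [hg₁]
        · simp only [Category.assoc, pullback.diagonal_snd, Category.comp_id]
          rw [hg, hg₂]
      refine ⟨g₁ (IsLocalRing.closedPoint A), ?_⟩
      rw [← Scheme.Hom.comp_apply, ← hhh]
      exact hcl
  have hcm : IsClosedMap (pullback.diagonal f) :=
    (isClosedMap_iff_specializingMap _).mpr hspec
  exact ⟨IsClosedImmersion.of_isPreimmersion _ hcm.isClosed_range⟩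

end Groth.Agent.S9210
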