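import Groth.Statements.S9211
import Mathlib
import Groth.Agent.S4450

set_option autoImplicit false
universe u
open CategoryTheory CategoryTheory.Limits AlgebraicGeometry
open Lim

namespace Groth.Agent.S9211

/-- Let S be a locally Noetherian scheme and f : X → S a morphism locally of finite type. Then f is
separated if and only if the following uniqueness holds: for every generic point η of an irreducible
component of X, every discrete valuation ring A contained in the residue field κ(η) with fraction
field κ(η) (a valuation subring of κ(η) which is a discrete valuation ring), and every pair of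
morphisms Spec A → X with the same composite to S and both restricting on Spec κ(η) to the canonical
morphism Spec κ(η) → X, the two morphisms coincide. -/
theorem result {X S : Scheme.{u}} [IsLocallyNoetherian S] (f : X ⟶ S)
    [LocallyOfFiniteType f] :
    IsSeparated f ↔ ∀ (η : X), closure {η} ∈ irreducibleComponents (X : Type u) →
      ∀ (A : ValuationSubring (X.residueField η)), IsDiscreteValuationRing A →
        ∀ l₁ l₂ : Spec (CommRingCat.of A) ⟶ X, l₁ ≫ f = l₂ ≫ f →
          Spec.map (CommRingCat.ofHom A.subtype) ≫ l₁ = X.fromSpecResidueField η →
          Spec.map (CommRingCat.ofHom A.subtype) ≫ l₂ = X.fromSpecResidueField η → l₁ = l₂ := by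
  constructor
  · intro hsep η _ A _ l₁ l₂ h1 h2 h3
    have hU := IsSeparated.valuativeCriterion f
    let Sq : ValuativeCommSq f :=
      { R := A, K := X.residueField η
        i₁ := X.fromSpecResidueField η
        i₂ := l₁ ≫ f
        commSq := ⟨by
          have : algebraMap A (X.residueField η) = A.subtype := rfl
          rw [this, ← h2, Category.assoc]⟩ }
    have hS : Subsingleton Sq.commSq.LiftStruct := hU Sq
    let m₁ : Sq.commSq.LiftStruct := ⟨l₁, h2, rfl⟩
    let m₂ : Sq.commSq.LiftStruct := ⟨l₂, h3, h1.symm⟩
    exact congrArg CommSq.LiftStruct.l (Subsingleton.elim m₁ m₂)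
  · intro H
    have : IsLocallyNoetherian X := LocallyOfFiniteType.isLocallyNoetherian f
    have : IsLocallyNoetherian (pullback f f) :=
      LocallyOfFiniteType.isLocallyNoetherian (pullback.fst f f)
    have : QuasiSeparated f := inferInstance
    have hspec : SpecializingMap (pullback.diagonal f) := by
      intro x z' hz
      -- a generic point `η` of an irreducible component through `x`
      obtain ⟨η, hη⟩ := QuasiSober.sober (isIrreducible_irreducibleComponent (x := x))
        isClosed_irreducibleComponent
      have hηcl : closure {η} = irreducibleComponent x := hη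
      have hηx : η ⤳ x := by
        rw [specializes_iff_mem_closure, hηcl]
        exact mem_irreducibleComponent
      have hηc : closure {η} ∈ irreducibleComponents (X : Type u) := by
        rw [hηcl]
        exact irreducibleComponent_mem_irreducibleComponents x
      have hz' : (pullback.diagonal f) η ⤳ z' :=
        (hηx.map (pullback.diagonal f).continuous).trans hz
      have hemb : Topology.IsInducing (pullback.diagonal f) :=
        (pullback.diagonal f).isEmbedding.isInducing
      -- it suffices to show `z'` is in the range of the diagonal
      suffices hr : ∃ x', (pullback.diagonal f) x' = z' by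
        obtain ⟨x', hx'⟩ := hr
        refine ⟨x', ?_, hx'⟩
        change x ⤳ x'
        rw [← hemb.specializes_iff, hx']
        exact hz
      by_cases hne : z' = (pullback.diagonal f) η
      · exact ⟨η, hne.symm⟩
      · obtain ⟨A, h, hA, hcl, hcomm⟩ :=
          Groth.Agent.S4450.result (pullback.diagonal f) η z' hz' hne
        obtain ⟨g₁, hg₁⟩ : ∃ g : Spec (CommRingCat.of A) ⟶ X, g = h ≫ pullback.fst f f := ⟨_, rfl⟩
        obtain ⟨g₂, hg₂⟩ : ∃ g : Spec (CommRingCat.of A) ⟶ X, g = h ≫ pullback.snd f f := ⟨_, rfl⟩
        have e1 : g₁ ≫ f = g₂ ≫ f := by
          simp only [hg₁, hg₂, Category.assoc, pullback.condition]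
        have hl₁ : Spec.map (CommRingCat.ofHom A.subtype) ≫ g₁ = X.fromSpecResidueField η := by
          rw [hg₁, ← Category.assoc, hcomm, Category.assoc, pullback.diagonal_fst, Category.comp_id]
        have hl₂ : Spec.map (CommRingCat.ofHom A.subtype) ≫ g₂ = X.fromSpecResidueField η := by
          rw [hg₂, ← Category.assoc, hcomm, Category.assoc, pullback.diagonal_snd, Category.comp_id]
        have hg : g₁ = g₂ := H η hηc A hA g₁ g₂ e1 hl₁ hl₂
        have hh : h = g₁ ≫ pullback.diagonal f := by
          apply pullback.hom_ext
          · simp [hg₁]
          · simp only [Category.assoc, pullback.diagonal_snd, Category.comp_id]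
            rw [hg, hg₂]
        refine ⟨g₁ (IsLocalRing.closedPoint A), ?_⟩
        rw [← Scheme.Hom.comp_apply, ← hh]
        exact hcl
    have hcm : IsClosedMap (pullback.diagonal f) :=
      (isClosedMap_iff_specializingMap _).mpr hspec
    exact ⟨IsClosedImmersion.of_isPreimmersion _ hcm.isClosed_range⟩

end Groth.Agent.S9211
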