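import Groth.Statements.S9212
import Mathlib
import Groth.Agent.Lib.Helper17.ValDense
import Groth.Agent.Lib.Helper17.DvrCrit2
import Groth.Agent.S9211

set_option autoImplicit false
universe u
open CategoryTheory CategoryTheory.Limits AlgebraicGeometry
open Lim

namespace Groth.Agent.S9212

/-- Let S be a locally Noetherian scheme and f : X → S a morphism of finite type. Then f is proper if
and only if: for every generic point η of an irreducible component of X, every discrete valuation
ring A contained in the residue field κ(η) with fraction field κ(η) (a valuation subring of κ(η)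
which is a discrete valuation ring), and every morphism Spec A → S whose restriction to Spec κ(η) is
the canonical morphism Spec κ(η) → X followed by f, there is exactly one morphism Spec A → X over S
restricting to the canonical morphism on Spec κ(η). -/
theorem result {X S : Scheme.{u}} [IsLocallyNoetherian S] (f : X ⟶ S)
    [LocallyOfFiniteType f] [QuasiCompact f] :
    IsProper f ↔ ∀ (η : X), closure {η} ∈ irreducibleComponents (X : Type u) →
      ∀ (A : ValuationSubring (X.residueField η)), IsDiscreteValuationRing A →
        ∀ y : Spec (CommRingCat.of A) ⟶ S,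
          Spec.map (CommRingCat.ofHom A.subtype) ≫ y = X.fromSpecResidueField η ≫ f →
          ∃! l : Spec (CommRingCat.of A) ⟶ X,
            l ≫ f = y ∧ Spec.map (CommRingCat.ofHom A.subtype) ≫ l = X.fromSpecResidueField η := by
  constructor
  · intro hprop η _ A _ y hy
    have hE : ValuativeCriterion.Existence f := by
      have h1 : UniversallyClosed f := inferInstance
      rw [UniversallyClosed.eq_valuativeCriterion] at h1
      exact h1.1
    have hU := IsSeparated.valuativeCriterion f
    let Sq : ValuativeCommSq f :=
      { R := A, K := X.residueField η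
        i₁ := X.fromSpecResidueField η
        i₂ := y
        commSq := ⟨hy.symm⟩ }
    obtain ⟨⟨l, h1, h2⟩⟩ := hE Sq
    refine ⟨l, ⟨h2, h1⟩, ?_⟩
    rintro l' ⟨h2', h1'⟩
    have hS : Subsingleton Sq.commSq.LiftStruct := hU Sq
    let m₁ : Sq.commSq.LiftStruct := ⟨l', h1', h2'⟩
    let m₂ : Sq.commSq.LiftStruct := ⟨l, h1, h2⟩
    exact congrArg CommSq.LiftStruct.l (Subsingleton.elim m₁ m₂)
  · intro H
    have hsep : IsSeparated f := by
      rw [Groth.Agent.S9211.result f]
      intro η hη A hA l₁ l₂ h12 h1 h2
      obtain ⟨l, -, hl⟩ := H η hη A hA (l₁ ≫ f) (by rw [← Category.assoc, h1])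
      exact (hl l₁ ⟨rfl, h1⟩).trans (hl l₂ ⟨h12.symm, h2⟩).symm
    have hE : ValuativeCriterion.Existence f := by
      apply Groth.Agent.Lib.Helper17.ValDense.existence_of_points
      intro x₀
      obtain ⟨η, hη⟩ := QuasiSober.sober (isIrreducible_irreducibleComponent (x := x₀))
        isClosed_irreducibleComponent
      have hηcl : closure {η} = irreducibleComponent x₀ := hη
      have hηx : η ⤳ x₀ := by
        rw [specializes_iff_mem_closure, hηcl]
        exact mem_irreducibleComponent
      have hηc : closure {η} ∈ irreducibleComponents (X : Type u) := by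
        rw [hηcl]
        exact irreducibleComponent_mem_irreducibleComponents x₀
      obtain ⟨p, hp⟩ : ∃ p : Spec (.of (X.residueField η)) ⟶ X, p = X.fromSpecResidueField η :=
        ⟨_, rfl⟩
      refine ⟨X.residueField η, inferInstance, p, ?_, ?_, ?_⟩
      · have : p (IsLocalRing.closedPoint (X.residueField η)) = η := by
          obtain ⟨z, hz⟩ : ∃ z : Spec (X.residueField η),
            z = IsLocalRing.closedPoint (X.residueField η) := ⟨_, rfl⟩
          rw [← hz, hp, Scheme.fromSpecResidueField_apply]
        rw [this]
        exact hηx
      · intro W y hy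
        refine Groth.Agent.Lib.Helper17.DvrCrit.exists_lift_of_dvr f p ?_ ?_ W y hy
        · intro W' hW' θ hθ
          exact Groth.Agent.Lib.Helper17.DvrCrit.essFiniteType_of_fromSpecResidueField f η hW' θ
            (by rw [hθ, hp])
        · intro A hA y' hy'
          obtain ⟨l, ⟨hl1, hl2⟩, -⟩ := H η hηc A hA y' (by rw [← hy', hp])
          exact ⟨l, hl1, by rw [hp]; exact hl2⟩
      · intro W l₁ l₂ h12 h1 h2
        have hU := IsSeparated.valuativeCriterion f
        let Sq : ValuativeCommSq f :=
          { R := W, K := X.residueField η, i₁ := p, i₂ := l₁ ≫ f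
            commSq := ⟨by rw [← h1, Category.assoc]; rfl⟩ }
        have hS : Subsingleton Sq.commSq.LiftStruct := hU Sq
        let m₁ : Sq.commSq.LiftStruct := ⟨l₁, h1, rfl⟩
        let m₂ : Sq.commSq.LiftStruct := ⟨l₂, h2, h12.symm⟩
        exact congrArg CommSq.LiftStruct.l (Subsingleton.elim m₁ m₂)
    have : UniversallyClosed f := UniversallyClosed.of_valuativeCriterion f hE
    exact {}

end Groth.Agent.S9212
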