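import Groth.Statements.S9213
import Mathlib
import Groth.Agent.Lib.Helper17.DvrCrit

set_option autoImplicit false
universe u
open CategoryTheory CategoryTheory.Limits AlgebraicGeometry
open Lim

namespace Groth.Agent.S9213

/-- Let S be a locally Noetherian scheme and f : X → S a morphism of finite type. Then f is universally
closed if and only if for every discrete valuation ring A with fraction field K and every
commutative square formed by morphisms Spec K → X and Spec A → S there is some morphism Spec A → X
making the diagram commute (the existence part of the valuative criterion, tested on discrete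
valuation rings only). -/
theorem result {X S : Scheme.{u}} [IsLocallyNoetherian S] (f : X ⟶ S)
    [LocallyOfFiniteType f] [QuasiCompact f] :
    UniversallyClosed f ↔ ∀ (A : Type u) [CommRing A] [IsDomain A] [IsDiscreteValuationRing A]
      (x : Spec (CommRingCat.of (FractionRing A)) ⟶ X) (y : Spec (CommRingCat.of A) ⟶ S),
      x ≫ f = Spec.map (CommRingCat.ofHom (algebraMap A (FractionRing A))) ≫ y → ∃ l : Spec (CommRingCat.of A) ⟶ X, l ≫ f = y ∧ Spec.map (CommRingCat.ofHom (algebraMap A (FractionRing A))) ≫ l = x := by
  constructor
  · intro hf A _ _ _ x y hxy
    have hex : ValuativeCriterion.Existence f := by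
      have := UniversallyClosed.eq_valuativeCriterion
      have h2 : (ValuativeCriterion.Existence ⊓ @QuasiCompact) f := by rw [← this]; exact hf
      exact h2.1
    let S : ValuativeCommSq f :=
      { R := A
        K := FractionRing A
        i₁ := x
        i₂ := y
        commSq := ⟨hxy⟩ }
    obtain ⟨⟨l⟩⟩ := hex S
    exact ⟨l.l, l.fac_right, l.fac_left⟩
  · intro H
    exact UniversallyClosed.of_valuativeCriterion f
      (Groth.Agent.Lib.Helper17.DvrCrit.existence_of_dvrExistence f H)

end Groth.Agent.S9213
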