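import Groth.Statements.S9217
-- import your own Groth.Agent.* helpers here
import Mathlib
import Groth.Agent.Lib.Helper12.StalkLim

set_option autoImplicit false
universe u
open CategoryTheory AlgebraicGeometry
open Lim

namespace Groth.Agent.S9217
open Groth.Agent.Lib.Helper12.StalkLim
set_option backward.isDefEq.respectTransparency false

/-- Let S be a scheme, X and Y schemes over S with Y locally of finite presentation over S, and x a
closed point of X such that the inclusion of U = X - {x} in X is quasi-compact; let V be the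
complement of the closed point in Spec O_{X,x}, i.e. the preimage of U under the canonical morphism
Spec O_{X,x} → X. Then restriction is a bijection from the S-morphisms X → Y to the pairs (a, b) of
S-morphisms a : U → Y, b : Spec O_{X,x} → Y which agree on V: two morphisms X → Y with the same
restrictions to U and to Spec O_{X,x} are equal, and every such compatible pair of S-morphisms is
the pair of restrictions of an S-morphism X → Y. -/
theorem result {X Y S : Scheme.{u}} (p : X ⟶ S) (q : Y ⟶ S) [LocallyOfFinitePresentation q]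
    (x : X) (U : X.Opens) (hU : (U : Set X) = {x}ᶜ) [QuasiCompact U.ι] :
    (∀ g₁ g₂ : X ⟶ Y, U.ι ≫ g₁ = U.ι ≫ g₂ → X.fromSpecStalk x ≫ g₁ = X.fromSpecStalk x ≫ g₂ → g₁ = g₂) ∧
    (∀ (a : (U : Scheme.{u}) ⟶ Y) (b : Spec (X.presheaf.stalk x) ⟶ Y), a ≫ q = U.ι ≫ p →
      b ≫ q = X.fromSpecStalk x ≫ p → ((X.fromSpecStalk x) ⁻¹ᵁ U).ι ≫ b = ((X.fromSpecStalk x) ∣_ U) ≫ a →
        ∃ g : X ⟶ Y, g ≫ q = p ∧ U.ι ≫ g = a ∧ X.fromSpecStalk x ≫ g = b) := by
  have hmem : ∀ z : X, z ≠ x → z ∈ U := by
    intro z hz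
    have : z ∈ (U : Set X) := by rw [hU]; exact hz
    exact this
  refine ⟨fun g₁ g₂ h1 h2 => ?_, fun a b ha hb hab => ?_⟩
  · refine hom_ext_of_fromSpecStalk g₁ g₂ fun z => ?_
    by_cases hz : z = x
    · subst hz; exact h2
    · rw [← U.fromSpecStalkOfMem_ι z (hmem z hz), Category.assoc, Category.assoc, h1]
  · obtain ⟨W, g, hg1, hg2⟩ := exists_spread p q x b hb
    obtain ⟨W', hW', H⟩ := exists_eq_on_nhd p q x U W a g ha hg2 (by rw [hg1]; exact hab)
    obtain ⟨f, hf1, hf2⟩ := exists_glue_two U W'.U
      (fun z => by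
        by_cases hz : z = x
        · subst hz; exact Or.inr W'.mem
        · exact Or.inl (hmem z hz))
      a (X.homOfLE hW' ≫ g) (fun T r₁ r₂ hr => (H T r₂ r₁ hr.symm).symm)
    refine ⟨f, ?_, hf1, ?_⟩
    · refine hom_ext_of_fromSpecStalk _ _ fun z => ?_
      by_cases hz : z = x
      · subst hz
        rw [← W'.U.fromSpecStalkOfMem_ι z W'.mem, Category.assoc, Category.assoc,
          reassoc_of% hf2, hg2, Scheme.homOfLE_ι_assoc]
      · rw [← U.fromSpecStalkOfMem_ι z (hmem z hz), Category.assoc, Category.assoc,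
          reassoc_of% hf1, ha]
    · rw [← W'.U.fromSpecStalkOfMem_ι x W'.mem, Category.assoc, hf2, ← hg1]
      rw [← Category.assoc]
      congr 1
      rw [← cancel_mono W.U.ι, Category.assoc, Scheme.homOfLE_ι,
        Scheme.Opens.fromSpecStalkOfMem_ι, Scheme.Opens.fromSpecStalkOfMem_ι]

end Groth.Agent.S9217
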