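import Groth.Statements.S9220
-- import your own Groth.Agent.* helpers here
import Mathlib
import Groth.Agent.Lib.Helper12.IdealFG
import Groth.Agent.Lib.Helper12.FpDesc
import Groth.Agent.S9189

set_option autoImplicit false
universe u
open CategoryTheory AlgebraicGeometry
open Lim

namespace Groth.Agent.S9220
open Limits Opposite Groth.Agent.Lib.Helper12 Scheme IdealSheafData
set_option backward.isDefEq.respectTransparency false
set_option linter.style.haveILetI false

/-- Let S = lim S_i be a cofiltered limit of quasi-compact quasi-separated schemes with affine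
transition morphisms, and let I be a quasi-coherent sheaf of ideals of finite type on S (its ideal
of sections on every affine open is finitely generated). Then for some index i there is a
quasi-coherent sheaf of ideals of finite type I_i on S_i such that I = I_i · O_S, the pullback ideal
sheaf along S → S_i. -/
theorem result {I : Type u} [SmallCategory I] [IsCofiltered I]
    (D : I ⥤ Scheme.{u}) (c : Limits.Cone D) (hc : Limits.IsLimit c)
    [∀ (i j : I) (f : i ⟶ j), IsAffineHom (D.map f)] [∀ i, CompactSpace (D.obj i)]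
    [∀ i, QuasiSeparatedSpace (D.obj i)] (J : c.pt.IdealSheafData)
    (hJ : ∀ U : c.pt.affineOpens, (J.ideal U).FG) :
    ∃ (i : I) (Ji : (D.obj i).IdealSheafData), (∀ U : (D.obj i).affineOpens, (Ji.ideal U).FG) ∧
      Ji.comap (c.π.app i) = J := by
  classical
  haveI : ∀ {i j : I} (f : i ⟶ j), IsAffineHom (D.map f) := fun {i j} f => inferInstance
  haveI hfp : LocallyOfFinitePresentation J.subschemeι :=
    IdealFG.locallyOfFinitePresentation_subschemeι J hJ
  obtain ⟨i, Zi, hi, g, hi1, hi2, hi3, hpb⟩ := FpDesc.descends_of_fp hc J.subschemeι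
  haveI : CompactSpace Zi := QuasiCompact.compactSpace_of_compactSpace hi
  haveI : QuasiSeparatedSpace Zi := quasiSeparatedSpace_of_quasiSeparated hi
  have hY : IsPullback (c.π.app i) (𝟙 c.pt) (𝟙 (D.obj i)) (c.π.app i) := IsPullback.id_vert _
  obtain ⟨i', φ, Xi, Yi, fi, gi, pY, pX, hpY, hpX, hfi⟩ :=
    Groth.Agent.S9189.result D c hc i hi (𝟙 _) J.subschemeι (𝟙 _) (c.π.app i) g hY hpb
  haveI : IsIso gi := hpY.isIso_snd_of_isIso
  have sq3 : IsPullback pX (fi ≫ gi) hi (D.map φ) := by
    have := hpX.paste_vert hpY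
    rwa [Category.comp_id] at this
  obtain ⟨k, hk⟩ : ∃ k : Xi ⟶ D.obj i', k = fi ≫ gi := ⟨_, rfl⟩
  rw [← hk] at sq3
  haveI : IsClosedImmersion k := by rw [hk]; infer_instance
  haveI : LocallyOfFinitePresentation k :=
    MorphismProperty.of_isPullback (P := @LocallyOfFinitePresentation) sq3 hi1
  have hw : g ≫ hi = (J.subschemeι ≫ c.π.app i') ≫ D.map φ := by
    rw [Category.assoc, c.w, hpb.w]
  have sq4 : IsPullback (sq3.lift g (J.subschemeι ≫ c.π.app i') hw) J.subschemeι k
      (c.π.app i') := by
    refine IsPullback.of_right ?_ (sq3.lift_snd _ _ _) sq3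
    rw [sq3.lift_fst, c.w]
    exact hpb
  refine ⟨i', k.ker, fun U => IdealFG.fg_ker_ideal k U, ?_⟩
  rw [← ker_fst_of_isClosedImmersion]
  have e : pullback.fst (c.π.app i') k = sq4.flip.isoPullback.inv ≫ J.subschemeι := by
    rw [IsPullback.isoPullback_inv_fst]
  rw [e, Hom.ker_comp_of_isIso, ker_subschemeι]

end Groth.Agent.S9220
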