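import Groth.Statements.S9221
import Groth.Agent.Lib.Helper17.SuppTensor
import Groth.Agent.Lib.Helper1.MaxAnnInt
import Groth.Agent.Lib.Helper2.ProperOver
import Groth.Agent.S2074


set_option autoImplicit false
universe u
open CategoryTheory AlgebraicGeometry
open Lim

namespace Groth.Agent.S9221

/-- Let S = lim S_i be a cofiltered limit of schemes with affine transition morphisms, S_{i₀} a
quasi-compact quasi-separated stage, f₀ : X₀ → Y₀ a morphism of quasi-compact quasi-separated
schemes over S_{i₀}, and f : X → Y its base change along S → S_{i₀} (base changes expressed by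
pullback squares). Let F₀ be a quasi-coherent O_{X₀}-module of finite type, with pullbacks F to X
and F_i to X_i, and assume f₀ is locally of finite type. If the support of F (a closed subset of X,
taken with its reduced structure; equivalently the scheme-theoretic support of F) is proper over Y,
then for some index i over i₀, with f_i : X_i → Y_i the base change of f₀ along S_i → S_{i₀}, the
support of F_i is proper over Y_i. -/
theorem result {I : Type u} [SmallCategory I] [IsCofiltered I]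
    (D : I ⥤ Scheme.{u}) (c : Limits.Cone D) (hc : Limits.IsLimit c)
    [∀ (i j : I) (f : i ⟶ j), IsAffineHom (D.map f)] (i₀ : I) [CompactSpace (D.obj i₀)]
    [QuasiSeparatedSpace (D.obj i₀)] {X₀ Y₀ : Scheme.{u}} (f₀ : X₀ ⟶ Y₀) (g₀ : Y₀ ⟶ D.obj i₀)
    [CompactSpace X₀] [QuasiSeparatedSpace X₀] [CompactSpace Y₀] [QuasiSeparatedSpace Y₀]
    [LocallyOfFiniteType f₀] (F₀ : X₀.Modules) [Coh.IsQCoh F₀] (hF₀ : CohB1.IsFT F₀)
    {X Y : Scheme.{u}} (f : X ⟶ Y) (g : Y ⟶ c.pt) (qY : Y ⟶ Y₀) (qX : X ⟶ X₀)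
    (hY : IsPullback qY g g₀ (c.π.app i₀)) (hX : IsPullback qX f f₀ qY) (hF : ClSub.IsProperOver f (CohB1.support ((Scheme.Modules.pullback qX).obj F₀))) :
    ∃ (i : I) (φ : i ⟶ i₀) (Xi Yi : Scheme.{u}) (fi : Xi ⟶ Yi) (gi : Yi ⟶ D.obj i) (pY : Yi ⟶ Y₀)
      (pX : Xi ⟶ X₀), IsPullback pY gi g₀ (D.map φ) ∧ IsPullback pX fi f₀ pY ∧ ClSub.IsProperOver fi (CohB1.support ((Scheme.Modules.pullback pX).obj F₀)) := by
  haveI : F₀.IsQuasicoherent := ‹Coh.IsQCoh F₀›
  haveI : F₀.IsFiniteType := hF₀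
  have hcl₀ : IsClosed (CohB1.support F₀) := Groth.Agent.Lib.Helper1.MaxAnnInt.isClosed_support F₀
  set J₀ := Scheme.IdealSheafData.vanishingIdeal
    (⟨CohB1.support F₀, hcl₀⟩ : TopologicalSpace.Closeds X₀) with hJ₀
  have hι₀ : Set.range J₀.subschemeι = CohB1.support F₀ :=
    Groth.Agent.Lib.Helper2.range_vanishingIdeal_subschemeι ⟨CohB1.support F₀, hcl₀⟩
  haveI : CompactSpace J₀.subscheme := QuasiCompact.compactSpace_of_compactSpace J₀.subschemeι
  haveI : QuasiSeparatedSpace J₀.subscheme := quasiSeparatedSpace_of_quasiSeparated J₀.subschemeι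
  have hZsq : IsPullback (Limits.pullback.fst J₀.subschemeι qX) (Limits.pullback.snd J₀.subschemeι qX)
      J₀.subschemeι qX := IsPullback.of_hasPullback _ _
  have hrange : Set.range (Limits.pullback.snd J₀.subschemeι qX) =
      CohB1.support ((Scheme.Modules.pullback qX).obj F₀) := by
    rw [Groth.Agent.Lib.Helper17.SuppTensor.support_pullback qX F₀, Scheme.Pullback.range_snd, hι₀]
  haveI : LocallyOfFiniteType f := MorphismProperty.of_isPullback hX ‹LocallyOfFiniteType f₀›
  haveI : IsProper (Limits.pullback.snd J₀.subschemeι qX ≫ f) :=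
    Groth.Agent.Lib.Helper2.isProper_comp_of_isProperOver f _ _ hrange hF
  have hpaste : IsPullback (Limits.pullback.fst J₀.subschemeι qX) (Limits.pullback.snd J₀.subschemeι qX ≫ f)
      (J₀.subschemeι ≫ f₀) qY := hZsq.paste_vert hX
  obtain ⟨i, φ, Zi, Yi, f'i, gi, pY, pZ, hYi, hZi, hprop⟩ :=
    Groth.Agent.S2074.result D c hc i₀ (J₀.subschemeι ≫ f₀) g₀ (Limits.pullback.snd J₀.subschemeι qX ≫ f)
      g qY (Limits.pullback.fst J₀.subschemeι qX) hY hpaste
  have hXi : IsPullback (Limits.pullback.fst f₀ pY) (Limits.pullback.snd f₀ pY) f₀ pY :=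
    IsPullback.of_hasPullback _ _
  let ji : Zi ⟶ Limits.pullback f₀ pY := Limits.pullback.lift (pZ ≫ J₀.subschemeι) f'i
    (by rw [Category.assoc, hZi.w])
  have hji1 : ji ≫ Limits.pullback.fst f₀ pY = pZ ≫ J₀.subschemeι := Limits.pullback.lift_fst _ _ _
  have hji2 : ji ≫ Limits.pullback.snd f₀ pY = f'i := Limits.pullback.lift_snd _ _ _
  have hsq : IsPullback pZ ji J₀.subschemeι (Limits.pullback.fst f₀ pY) :=
    IsPullback.of_bot (by rw [hji2]; exact hZi) hji1.symm hXi
  haveI : IsClosedImmersion ji :=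
    MorphismProperty.of_isPullback hsq (inferInstance : IsClosedImmersion J₀.subschemeι)
  have hrange' : Set.range ji =
      CohB1.support ((Scheme.Modules.pullback (Limits.pullback.fst f₀ pY)).obj F₀) := by
    rw [Groth.Agent.Lib.Helper17.SuppTensor.support_pullback (Limits.pullback.fst f₀ pY) F₀, ← hι₀,
      ← Scheme.Pullback.range_snd, ← hsq.isoPullback_hom_snd]
    have hsurj : Function.Surjective hsq.isoPullback.hom :=
      (Scheme.homeoOfIso hsq.isoPullback).surjective
    ext x
    constructor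
    · rintro ⟨z, rfl⟩
      exact ⟨hsq.isoPullback.hom z, (Scheme.Hom.comp_apply _ _ z).symm⟩
    · rintro ⟨w, rfl⟩
      obtain ⟨z, rfl⟩ := hsurj w
      exact ⟨z, Scheme.Hom.comp_apply _ _ z⟩
  haveI : IsProper (ji ≫ Limits.pullback.snd f₀ pY) := by rw [hji2]; exact hprop
  haveI : LocallyOfFiniteType (Limits.pullback.snd f₀ pY) :=
    MorphismProperty.of_isPullback hXi ‹LocallyOfFiniteType f₀›
  exact ⟨i, φ, Limits.pullback f₀ pY, Yi, Limits.pullback.snd f₀ pY, gi, pY, Limits.pullback.fst f₀ pY, hYi, hXi,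
    Groth.Agent.Lib.Helper2.isProperOver_of_universallyClosed (Limits.pullback.snd f₀ pY) ji _ hrange'⟩

end Groth.Agent.S9221
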