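import Groth.Statements.S9224
-- import your own Groth.Agent.* helpers here
import Mathlib
import Groth.Agent.Lib.Helper12.FpLimit
import Groth.Agent.Lib.Helper12.ProConsBasic
import Groth.Agent.S4787

set_option autoImplicit false
universe u
open CategoryTheory CategoryTheory.Limits AlgebraicGeometry
open Lim

namespace Groth.Agent.S9224
open Groth.Agent.Lib.Helper12.FpLimit Groth.Agent.Lib.Helper12.ProConsBasic
open Groth.Agent.Lib.Helper12 Limits
set_option backward.isDefEq.respectTransparency false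

/-- Let f : X → S be a quasi-compact morphism, g : T → S a morphism, t a point of T and Z a closed
subset of X_T = X ×_S T which does not meet the fibre of X_T → T over t. Then there exist an affine
open neighbourhood V of t in T, an affine scheme T' with a morphism b : T' → S locally of finite
presentation, a morphism a : V → T' whose composite with b is the restriction of g, and a closed
subset Z' of X_{T'} = X ×_S T' which does not meet the fibre over t' = a(t), such that the induced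
morphism X_V → X_{T'} maps every point of X_V lying over Z (under X_V → X_T) into Z'. The morphisms
X_V → X_T and X_V → X_{T'} are the canonical ones, characterised by their projections. -/
theorem result {X S T : Scheme.{u}} (f : X ⟶ S) [QuasiCompact f] (g : T ⟶ S) (t : T)
    (Z : Set ↥(pullback f g)) (hZ : IsClosed Z) (hZt : ∀ z ∈ Z, (pullback.snd f g).base z ≠ t) :
    ∃ (V : T.Opens) (ht : t ∈ V) (T' : Scheme.{u}) (b : T' ⟶ S) (a : (V : Scheme.{u}) ⟶ T')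
      (n : pullback f (V.ι ≫ g) ⟶ pullback f g) (m : pullback f (V.ι ≫ g) ⟶ pullback f b)
      (Z' : Set ↥(pullback f b)),
      IsAffineOpen V ∧ IsAffine T' ∧ LocallyOfFinitePresentation b ∧ a ≫ b = V.ι ≫ g ∧
      n ≫ pullback.fst f g = pullback.fst f (V.ι ≫ g) ∧ n ≫ pullback.snd f g = pullback.snd f (V.ι ≫ g) ≫ V.ι ∧
      m ≫ pullback.fst f b = pullback.fst f (V.ι ≫ g) ∧ m ≫ pullback.snd f b = pullback.snd f (V.ι ≫ g) ≫ a ∧
      IsClosed Z' ∧ (∀ z' ∈ Z', (pullback.snd f b).base z' ≠ a.base ⟨t, ht⟩) ∧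
      ∀ z : ↥(pullback f (V.ι ≫ g)), n.base z ∈ Z → m.base z ∈ Z' := by
  classical
  obtain ⟨S₁, hS₁, hgS₁⟩ : ∃ S₁ : S.Opens, IsAffineOpen S₁ ∧ g t ∈ S₁ := by
    obtain ⟨_, ⟨S₁, hS₁, rfl⟩, hgS₁, -⟩ :=
      S.isBasis_affineOpens.exists_subset_of_mem_open (Set.mem_univ (g t)) isOpen_univ
    exact ⟨S₁, hS₁, hgS₁⟩
  obtain ⟨V, hV, htV, hVS₁⟩ : ∃ V : T.Opens, IsAffineOpen V ∧ t ∈ V ∧ V ≤ g ⁻¹ᵁ S₁ := by
    obtain ⟨_, ⟨V, hV, rfl⟩, htV, hVS₁⟩ :=
      T.isBasis_affineOpens.exists_subset_of_mem_open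
        (show t ∈ ((g ⁻¹ᵁ S₁ : T.Opens) : Set T) from hgS₁) (g ⁻¹ᵁ S₁).2
    exact ⟨V, hV, htV, hVS₁⟩
  obtain ⟨J, _, _, 𝔇, τ, π, hπ, hAff, hLfp, hπτ⟩ :=
    exists_limit_of_affineOpen g S₁ hS₁ V hV hVS₁
  let c : Cone 𝔇 := Cone.mk _ π
  have hc : IsLimit c := hπ
  haveI : ∀ {i j : J} (a : i ⟶ j), IsAffineHom (𝔇.map a) := fun {i j} a => by
    haveI := hAff i; haveI := hAff j; infer_instance
  haveI : ∀ (i j : J) (a : i ⟶ j), IsAffineHom (𝔇.map a) := fun i j a => inferInstance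
  let DX := fbDiagram 𝔇 τ f
  let cX : Cone DX := fbCone f c (V.ι ≫ g) hπτ
  have hcX : IsLimit cX := isLimitFbCone f c hc _ hπτ
  haveI : ∀ (i j : J) (a : i ⟶ j), IsAffineHom (DX.map a) := fun i j a =>
    isAffineHom_fbDiagram_map 𝔇 τ f a
  haveI : ∀ j, CompactSpace (DX.obj j) := fun j => by
    haveI := hAff j; exact compactSpace_fbDiagram_obj 𝔇 τ f j
  let n : pullback f (V.ι ≫ g) ⟶ pullback f g :=
    pullback.map f (V.ι ≫ g) f g (𝟙 X) V.ι (𝟙 S) (by simp) (by simp)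
  let tV : V := ⟨t, htV⟩
  let pV : cX.pt ⟶ V := pullback.snd f (V.ι ≫ g)
  let ZV : Set cX.pt := n ⁻¹' Z
  have hZV : IsClosed ZV := hZ.preimage n.continuous
  have hn2 : n ≫ pullback.snd f g = pV ≫ V.ι := by simp [n, pV]
  have hdisj : ∀ z : cX.pt, pV z = tV → z ∉ ZV := by
    intro z hz hzZ
    apply hZt (n z) hzZ
    have := congr($hn2 z)
    rw [Scheme.Hom.comp_apply, Scheme.Hom.comp_apply] at this
    rw [this, hz]
    rfl
  let E : ∀ i : J, Set (DX.obj i) := fun i => (pullback.snd f (τ.app i)) ⁻¹' {π.app i tV}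
  let F : ∀ i : J, Set (DX.obj i) := fun i =>
    {y | ∃ O : Set (DX.obj i), IsOpen O ∧ y ∈ O ∧ ⇑(cX.π.app i) ⁻¹' O ⊆ ZVᶜ}
  have hFopen : ∀ i, IsOpen (F i) := by
    intro i
    rw [isOpen_iff_forall_mem_open]
    rintro y ⟨O, hO, hyO, hOZ⟩
    exact ⟨O, fun y' hy' => ⟨O, hO, hy', hOZ⟩, hO, hyO⟩
  have hFpre : ∀ i, ⇑(cX.π.app i) ⁻¹' (F i) ⊆ ZVᶜ := by
    rintro i z ⟨O, hO, hzO, hOZ⟩
    exact hOZ hzO
  have hE : ∀ i, ProCons.IsProConstructible (E i) := fun i =>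
    isProConstructible_preimage_singleton _ _
  have hF : ∀ i, ProCons.IsIndConstructible (F i) := fun i =>
    isIndConstructible_of_isOpen (hFopen i)
  have hEm : ∀ (i j : J) (φ : i ⟶ j), E i ⊆ ⇑(DX.map φ) ⁻¹' E j := by
    intro i j φ y hy
    have hy' : (pullback.snd f (τ.app i)) y = π.app i tV := hy
    show (pullback.snd f (τ.app j)) (DX.map φ y) = π.app j tV
    have e := congr($(fbDiagram_map_snd 𝔇 τ f φ) y)
    rw [Scheme.Hom.comp_apply, Scheme.Hom.comp_apply] at e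
    refine e.trans ?_
    rw [hy']
    exact LimTop.map_π_apply 𝔇 c φ tV
  have hFm : ∀ (i j : J) (φ : i ⟶ j), ⇑(DX.map φ) ⁻¹' F j ⊆ F i := by
    rintro i j φ y ⟨O, hO, hyO, hOZ⟩
    refine ⟨⇑(DX.map φ) ⁻¹' O, hO.preimage (DX.map φ).continuous, hyO, ?_⟩
    intro z hz
    apply hOZ
    show cX.π.app j z ∈ O
    rw [← LimTop.map_π_apply DX cX φ z]
    exact hz
  obtain ⟨i₀⟩ : Nonempty J := IsCofiltered.nonempty
  have hmain : (⋂ i, ⇑(cX.π.app i) ⁻¹' E i : Set cX.pt) ⊆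
      (⋃ i, ⇑(cX.π.app i) ⁻¹' F i : Set cX.pt) := by
    intro z hz
    rw [Set.mem_iInter] at hz
    have hzt : pV z = tV := by
      refine LimTop.eq_of_forall_π_eq 𝔇 c hc fun i => ?_
      have h1 : (pullback.snd f (τ.app i)) (cX.π.app i z) = π.app i tV := hz i
      have e := congr($(fbCone_π_snd f c (V.ι ≫ g) hπτ i) z)
      rw [Scheme.Hom.comp_apply, Scheme.Hom.comp_apply] at e
      rw [← h1]
      exact e.symm
    obtain ⟨i, O, hzO, hOZ⟩ := LimTop.exists_preimage_subset_of_isOpen DX cX hcX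
      hZV.isOpen_compl (hdisj z hzt)
    rw [Set.mem_iUnion]
    exact ⟨i, O, O.2, hzO, hOZ⟩
  obtain ⟨i, -, hi⟩ := (Groth.Agent.S4787.result DX cX hcX i₀ E F hE hF hEm hFm).mp hmain
  have hEF : E i ⊆ F i := hi i (𝟙 i)
  refine ⟨V, htV, 𝔇.obj i, τ.app i, π.app i, n, cX.π.app i, (F i)ᶜ, hV, hAff i, hLfp i, hπτ i,
    by simp [n], hn2, fbCone_π_fst f c (V.ι ≫ g) hπτ i, fbCone_π_snd f c (V.ι ≫ g) hπτ i,
    (hFopen i).isClosed_compl, ?_, ?_⟩
  · intro z' hz' hz'E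
    exact hz' (hEF hz'E)
  · intro z hz hzF
    exact hFpre i hzF hz

end Groth.Agent.S9224
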