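import Groth.Statements.S9229
import Groth.Agent.Lib.Helper27.NagAU10
import Groth.Agent.S2657
import Groth.Agent.S2632
import Groth.Agent.S2636
open Groth.Agent.Lib.Helper27 TensorProduct

set_option autoImplicit false
universe u
open EGA4

namespace Groth.Agent.S9229

open IsLocalRing
set_option linter.style.haveILetI false
set_option linter.unusedSectionVars false

section
variable (A : Type u) [CommRing A] [IsNoetherianRing A] [IsLocalRing A]

theorem finite_normRed (hA : EGA4.HasGeomNormalFormalFibres A) [IsDomain (CAlg2.red A)] :
    Module.Finite A (CAlg2.normRed A) := by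
  have hred : EGA4.HasGeomReducedFormalFibres A := by
    intro p _
    apply Groth.Agent.Lib.Helper14.GeomReducedFin.isGeometricallyReduced_of_forall_finite
    intro k' _ _ hfin
    exact Groth.Agent.Lib.Helper14.GeomReducedFin.isReduced_of_forall_isDomain _
      (fun q _ => (hA p k' hfin q).1)
  obtain ⟨_, hN⟩ := Groth.Agent.S2657.result A hred
  haveI : (nilradical A).IsPrime :=
    (Ideal.Quotient.isDomain_iff_prime _).mp ‹IsDomain (CAlg2.red A)›
  have h2 := hN (nilradical A) (FractionRing (A ⧸ nilradical A)) inferInstance
  haveI : Module.Finite (CAlg2.red A) (CAlg2.normRed A) := h2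
  exact Module.Finite.trans (CAlg2.red A) (CAlg2.normRed A)

/-- For a unibranch local ring with geometrically normal formal fibres, the extension of the
nilradical to the completion is a prime ideal. -/
theorem isPrime_map_nilradical (hA : EGA4.HasGeomNormalFormalFibres A)
    (hu : CAlg2.IsUnibranch A) :
    ((nilradical A).map (algebraMap A (AdicCompletion (maximalIdeal A) A))).IsPrime := by
  obtain ⟨hdom, hloc⟩ := hu
  haveI := hdom
  haveI := hloc
  haveI : Module.Finite A (CAlg2.normRed A) := finite_normRed A hA
  haveI : IsIntegrallyClosed (CAlg2.normRed A) :=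
    integralClosure.isIntegrallyClosedOfFiniteExtension (FractionRing (CAlg2.red A))
  set Ahat := AdicCompletion (maximalIdeal A) A with hAhat
  set N := CAlg2.normRed A with hN
  haveI : IsDomain (Ahat ⊗[A] N) := NagAU.isDomain_tensor_of_hasGeomNormalFormalFibres A N hA
  let fA : (A ⧸ nilradical A) →ₐ[A] N := IsScalarTower.toAlgHom A (CAlg2.red A) N
  have hfA : Function.Injective fA := by
    intro x y hxy
    have h1 : algebraMap (CAlg2.red A) (FractionRing (CAlg2.red A)) x =
        algebraMap (CAlg2.red A) (FractionRing (CAlg2.red A)) y := by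
      have := congrArg (algebraMap N (FractionRing (CAlg2.red A))) hxy
      exact this
    exact IsFractionRing.injective (CAlg2.red A) (FractionRing (CAlg2.red A)) h1
  have h1 : Function.Injective (LinearMap.lTensor Ahat fA.toLinearMap) :=
    Module.Flat.lTensor_preserves_injective_linearMap (M := Ahat) fA.toLinearMap hfA
  let e := Algebra.TensorProduct.quotIdealMapEquivTensorQuot Ahat (nilradical A)
  let Ψ : (Ahat ⧸ (nilradical A).map (algebraMap A Ahat)) →+* Ahat ⊗[A] N :=
    (Algebra.TensorProduct.map (AlgHom.id A Ahat) fA).toRingHom.comp e.toRingEquiv.toRingHom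
  have hΨ : Function.Injective Ψ := by
    intro x y hxy
    apply e.injective
    apply h1
    exact hxy
  haveI : IsDomain (Ahat ⧸ (nilradical A).map (algebraMap A Ahat)) := hΨ.isDomain Ψ
  exact (Ideal.Quotient.isDomain_iff_prime _).mp inferInstance

theorem ringKrullDim_quotient_of_le_nilradical (R : Type u) [CommRing R] (I : Ideal R)
    (hI : I ≤ nilradical R) : ringKrullDim (R ⧸ I) = ringKrullDim R := by
  rw [ringKrullDim_quotient]
  have h1 : PrimeSpectrum.zeroLocus (I : Set R) = Set.univ :=
    (PrimeSpectrum.zeroLocus_eq_univ_iff _).mpr hI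
  rw [h1]
  exact Order.krullDim_eq_of_orderIso OrderIso.Set.univ

theorem isFormallyEquidim_of_isUnibranch (hA : EGA4.HasGeomNormalFormalFibres A)
    (hu : CAlg2.IsUnibranch A) : EGA4.IsFormallyEquidim A := by
  set Ahat := AdicCompletion (maximalIdeal A) A with hAhat
  have hP := isPrime_map_nilradical A hA hu
  set P := (nilradical A).map (algebraMap A Ahat) with hPdef
  have hnil : P ≤ nilradical Ahat := by
    rw [hPdef, Ideal.map_le_iff_le_comap]
    intro a ha
    rw [Ideal.mem_comap]
    exact (mem_nilradical.mp ha).map _
  intro p hp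
  have hpP : p = P := by
    haveI := hp.1.1
    have h1 : P ≤ p := hnil.trans (nilradical_le_prime p)
    exact le_antisymm (hp.2 ⟨hP, bot_le⟩ h1) h1
  rw [hpP]
  exact ringKrullDim_quotient_of_le_nilradical _ _ hnil


end

/-- A Noetherian local ring A whose formal fibres are geometrically normal and which is unibranch (a
normal local ring, say) is universally catenary. -/
theorem result (A : Type u) [CommRing A]
    [IsLocalRing A] [IsNoetherianRing A] (hA : EGA4.HasGeomNormalFormalFibres A)
    (hu : CAlg2.IsUnibranch A) : CAlg.IsUniversallyCatenary A := by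
  have hFE := isFormallyEquidim_of_isUnibranch A hA hu
  obtain ⟨-, hq⟩ := Groth.Agent.S2632.result A hFE
  apply Groth.Agent.S2636.result A
  intro p hp
  haveI : Nontrivial (A ⧸ p) := Ideal.Quotient.nontrivial_iff.mpr hp.ne_top
  refine (hq p).mp ?_
  intro q hq'
  rw [IsDomain.minimalPrimes_eq_singleton_bot, Set.mem_singleton_iff] at hq'
  rw [hq']
  exact ringKrullDim_quotient_of_le_nilradical _ _ bot_le

end Groth.Agent.S9229
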