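import Groth.Statements.S9230
import Groth.Agent.Lib.Helper27.HensNormal
import Groth.Agent.Lib.Helper14.FEChain7
import Groth.Agent.S2811
import Groth.Agent.S9229
import Groth.Agent.S4754
import Groth.Agent.S0505
import Groth.Agent.S2636
open Groth.Agent.Lib.Helper27 TensorProduct

set_option autoImplicit false
universe u
open EGA4

namespace Groth.Agent.S9230

/-- For a Noetherian local ring A whose formal fibres are geometrically normal, every henselization S of
A is universally catenary. -/
theorem result (A S : Type u) [CommRing A]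
    [IsLocalRing A] [IsNoetherianRing A] [CommRing S] [IsLocalRing S] [Algebra A S]
    [IsLocalHom (algebraMap A S)] [Hensel.IsHenselization A S]
    (hA : EGA4.HasGeomNormalFormalFibres A) : CAlg.IsUniversallyCatenary S := by
  classical
  haveI : IsNoetherianRing S := (Groth.Agent.S0511.result A S).mp inferInstance
  haveI : Module.FaithfullyFlat A S := Groth.Agent.S0509.result _ _
  have hind := Groth.Agent.Lib.Helper8.Hzl.henselization_indEtaleLike A S
  have hbij : Function.Bijective (Groth.Agent.Lib.Helper14.ComplFlat.cplMap A S) := by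
    constructor
    · letI := (Groth.Agent.Lib.Helper14.ComplFlat.cplMap A S).toAlgebra
      haveI := Groth.Agent.Lib.Helper14.ComplFlat.cplMap_faithfullyFlat A S
      exact FaithfulSMul.algebraMap_injective (EGA4.Cpl A) (EGA4.Cpl S)
    · exact Groth.Agent.Lib.Helper14.FEChain7.cplMap_surjective' A S (Groth.Agent.S0507.result _ _)
        (Groth.Agent.S0508.result _ _).2
  let f : AdicCompletion (IsLocalRing.maximalIdeal A) A →ₐ[A]
      AdicCompletion (IsLocalRing.maximalIdeal S) S :=
    { Groth.Agent.Lib.Helper14.ComplFlat.cplMap A S with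
      commutes' := fun r => by
        have := congrArg (fun g => g r) (Groth.Agent.Lib.Helper14.ComplFlat.cplMap_comp A S)
        simp only [RingHom.comp_apply] at this
        rw [IsScalarTower.algebraMap_apply A S (AdicCompletion (IsLocalRing.maximalIdeal S) S)]
        exact this }
  let e : AdicCompletion (IsLocalRing.maximalIdeal A) A ≃ₐ[A]
      AdicCompletion (IsLocalRing.maximalIdeal S) S := AlgEquiv.ofBijective f hbij
  haveI : IsNoetherianRing (AdicCompletion (IsLocalRing.maximalIdeal S) S) :=
    Groth.Agent.Lib.Helper14.ComplEtale.isNoetherianRing_completion S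
  have hNH : EGA4.IsNormalHom A (AdicCompletion (IsLocalRing.maximalIdeal A) A) :=
    ⟨inferInstance, fun p _ => hA p⟩
  have h2 : EGA4.IsNormalHom A (AdicCompletion (IsLocalRing.maximalIdeal S) S) :=
    HensNormal.isNormalHom_of_algEquiv e hNH
  have h3 : EGA4.IsNormalHom S (AdicCompletion (IsLocalRing.maximalIdeal S) S) :=
    HensNormal.IndEtaleLike.isNormalHom_of_comp hind h2
  have hS : EGA4.HasGeomNormalFormalFibres S := fun q _ => h3.2 q
  haveI hhens : HenselianLocalRing S := Hensel.IsHenselization.henselian (R := A)
  apply Groth.Agent.S2636.result S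
  intro q hq
  haveI : Nontrivial (S ⧸ q) := Ideal.Quotient.nontrivial_iff.mpr hq.ne_top
  haveI : HenselianLocalRing (S ⧸ q) := Groth.Agent.S0505.result S (S ⧸ q)
  have hq' := Groth.Agent.S4754.result S hS q
  haveI : IsDomain (EGA4.Cpl (S ⧸ q)) := Groth.Agent.S2811.result (S ⧸ q) hq'
  intro P hP
  rw [IsDomain.minimalPrimes_eq_singleton_bot, Set.mem_singleton_iff] at hP
  rw [hP]
  exact Groth.Agent.S9229.ringKrullDim_quotient_of_le_nilradical _ _ bot_le

end Groth.Agent.S9230
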