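import Groth.Statements.S9231
import Groth.Agent.Lib.Helper7.ComplFlat
import Groth.Agent.S0543

set_option autoImplicit false
universe u
open CAlg

namespace Groth.Agent.S9231

/-- For a local ring map A → B between Noetherian local rings, let ψ be the induced map from the
completion of A at its maximal ideal to that of B (here: a ring map of the completions whose
composite with A → A^ is the composite A → B → B^; since A is Noetherian such a map is unique, hence
is the canonical one). Then ψ is flat exactly when A → B is flat. -/
theorem result (A B : Type u) [CommRing A] [CommRing B] [IsLocalRing A]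
    [IsLocalRing B] [IsNoetherianRing A] [IsNoetherianRing B] [Algebra A B]
    [IsLocalHom (algebraMap A B)]
    (ψ : AdicCompletion (IsLocalRing.maximalIdeal A) A →+* AdicCompletion (IsLocalRing.maximalIdeal B) B)
    (hψ : ψ.comp (algebraMap A (AdicCompletion (IsLocalRing.maximalIdeal A) A)) =
      (algebraMap B (AdicCompletion (IsLocalRing.maximalIdeal B) B)).comp (algebraMap A B)) :
    ψ.Flat ↔ (algebraMap A B).Flat := by
  have hNA : IsNoetherianRing (AdicCompletion (IsLocalRing.maximalIdeal A) A) :=
    Groth.Agent.S0543.result A _
  have hNB : IsNoetherianRing (AdicCompletion (IsLocalRing.maximalIdeal B) B) :=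
    Groth.Agent.S0543.result B _
  letI algψ : Algebra (AdicCompletion (IsLocalRing.maximalIdeal A) A)
      (AdicCompletion (IsLocalRing.maximalIdeal B) B) := ψ.toAlgebra
  have hψ' : ∀ a : A, ψ (algebraMap A (AdicCompletion (IsLocalRing.maximalIdeal A) A) a) =
      algebraMap B (AdicCompletion (IsLocalRing.maximalIdeal B) B) (algebraMap A B a) :=
    fun a => congrArg (fun f => f a) hψ
  haveI tower : IsScalarTower A (AdicCompletion (IsLocalRing.maximalIdeal A) A)
      (AdicCompletion (IsLocalRing.maximalIdeal B) B) :=
    IsScalarTower.of_algebraMap_eq (fun a => by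
      rw [RingHom.algebraMap_toAlgebra, hψ' a]
      exact IsScalarTower.algebraMap_apply A B _ a)
  rw [RingHom.flat_algebraMap_iff]
  constructor
  · intro hfl
    have h1 : Module.Flat (AdicCompletion (IsLocalRing.maximalIdeal A) A)
        (AdicCompletion (IsLocalRing.maximalIdeal B) B) := hfl
    have h3 : Module.Flat A (AdicCompletion (IsLocalRing.maximalIdeal B) B) :=
      Module.Flat.trans A (AdicCompletion (IsLocalRing.maximalIdeal A) A) _
    haveI : Module.FaithfullyFlat B (AdicCompletion (IsLocalRing.maximalIdeal B) B) :=
      Module.FaithfullyFlat.of_flat_of_isLocalHom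
    exact Lib.Helper7.flat_of_faithfullyFlat_of_flat A B
      (AdicCompletion (IsLocalRing.maximalIdeal B) B)
  · intro hfl
    have h3 : Module.Flat A (AdicCompletion (IsLocalRing.maximalIdeal B) B) :=
      Module.Flat.trans A B _
    show Module.Flat (AdicCompletion (IsLocalRing.maximalIdeal A) A)
        (AdicCompletion (IsLocalRing.maximalIdeal B) B)
    have key : IsLocalRing.maximalIdeal (AdicCompletion (IsLocalRing.maximalIdeal A) A) =
        (IsLocalRing.maximalIdeal A).map
          (algebraMap A (AdicCompletion (IsLocalRing.maximalIdeal A) A)) :=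
      AdicCompletion.maximalIdeal_eq_map
    haveI hmax : ((IsLocalRing.maximalIdeal A).map
        (algebraMap A (AdicCompletion (IsLocalRing.maximalIdeal A) A))).IsMaximal :=
      key ▸ IsLocalRing.maximalIdeal.isMaximal _
    have hI : (((IsLocalRing.maximalIdeal A).map
        (algebraMap A (AdicCompletion (IsLocalRing.maximalIdeal A) A))).map
        (algebraMap (AdicCompletion (IsLocalRing.maximalIdeal A) A)
          (AdicCompletion (IsLocalRing.maximalIdeal B) B))) ≤ Ideal.jacobson ⊥ := by
      rw [IsLocalRing.jacobson_eq_maximalIdeal ⊥ bot_ne_top, Ideal.map_map,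
        Ideal.map_le_iff_le_comap]
      intro a ha
      rw [Ideal.mem_comap, RingHom.comp_apply, RingHom.algebraMap_toAlgebra, hψ' a,
        IsLocalRing.mem_maximalIdeal, mem_nonunits_iff]
      intro hu
      have hu1 : IsUnit (algebraMap A B a) := isUnit_of_map_unit _ _ hu
      have hu2 : IsUnit a := isUnit_of_map_unit _ _ hu1
      exact (IsLocalRing.mem_maximalIdeal a).mp ha hu2
    refine Lib.Helper8.flat_of_local_criterion_of_finite _ hI
      (AdicCompletion (IsLocalRing.maximalIdeal B) B) ?_ ?_
    · letI : Field ((AdicCompletion (IsLocalRing.maximalIdeal A) A) ⧸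
          ((IsLocalRing.maximalIdeal A).map
            (algebraMap A (AdicCompletion (IsLocalRing.maximalIdeal A) A)))) :=
        Ideal.Quotient.field _
      infer_instance
    · exact Lib.Helper7.rTensor_map_subtype_injective _ _

end Groth.Agent.S9231
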