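import Groth.Statements.S9232
import Mathlib

set_option autoImplicit false
universe u
open CAlg

namespace Groth.Agent.S9232

theorem key {A B : Type u} [CommRing A] [CommRing B] [Algebra A B] (I : Ideal A) (J : Ideal B)
    (hI : I.FG)
    (hmap : ∀ (k : ℕ) (a : A), a ∈ I ^ k → algebraMap A B a ∈ J ^ k)
    (F1 : ∀ (k : ℕ) (b : B), ∃ a : A, b - algebraMap A B a ∈ J ^ k)
    (F2 : ∀ (k : ℕ) (a : A), algebraMap A B a ∈ J ^ k → a ∈ I ^ k)
    (ψ : AdicCompletion I A →+* AdicCompletion J B)
    (hψ : ψ.comp (algebraMap A (AdicCompletion I A)) =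
      (algebraMap B (AdicCompletion J B)).comp (algebraMap A B)) :
    Function.Bijective ψ := by
  classical
  have htopA : ∀ k : ℕ, (I ^ k • ⊤ : Submodule A A) = I ^ k := fun k => by
    rw [Ideal.smul_eq_mul, Ideal.mul_top]
  have htopB : ∀ k : ℕ, (J ^ k • ⊤ : Submodule B B) = J ^ k := fun k => by
    rw [Ideal.smul_eq_mul, Ideal.mul_top]
  have hψ' : ∀ a : A, ψ (AdicCompletion.of I A a) = AdicCompletion.of J B (algebraMap A B a) := by
    intro a
    have h := RingHom.congr_fun hψ a
    exact h
  have F3 : ∀ (k : ℕ) (x : AdicCompletion I A) (a : A),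
      AdicCompletion.eval I A k x = Submodule.mkQ _ a →
      AdicCompletion.eval J B k (ψ x) = Submodule.mkQ _ (algebraMap A B a) := by
    intro k x a hxa
    have h1 : x - AdicCompletion.of I A a ∈ (I ^ k • ⊤ : Submodule A (AdicCompletion I A)) := by
      rw [AdicCompletion.pow_smul_top_eq_ker_eval hI, LinearMap.mem_ker, map_sub,
        AdicCompletion.eval_of, hxa, sub_self]
    have h2 : ∀ z ∈ (I ^ k • ⊤ : Submodule A (AdicCompletion I A)),
        AdicCompletion.eval J B k (ψ z) = 0 := by
      intro z hz
      refine Submodule.smul_induction_on hz (fun r hr y _ => ?_) (fun y₁ y₂ h₁ h₂ => ?_)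
      · have h3 : r • y = AdicCompletion.of I A r * y := Algebra.smul_def r y
        rw [h3, map_mul, hψ' r]
        have h4 : AdicCompletion.of J B (algebraMap A B r) * ψ y = (algebraMap A B r) • ψ y :=
          (Algebra.smul_def (algebraMap A B r) (ψ y)).symm
        rw [h4, map_smul]
        obtain ⟨w, hw⟩ := Submodule.mkQ_surjective _ (AdicCompletion.eval J B k (ψ y))
        rw [← hw]
        have h6 : (algebraMap A B r) • (Submodule.mkQ (J ^ k • ⊤ : Submodule B B)) w =
            (Submodule.mkQ (J ^ k • ⊤ : Submodule B B)) ((algebraMap A B r) • w) :=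
          (map_smul _ _ _).symm
        rw [h6, Submodule.mkQ_apply, Submodule.Quotient.mk_eq_zero]
        exact Submodule.smul_mem_smul (hmap k r hr) Submodule.mem_top
      · rw [map_add, map_add, h₁, h₂, add_zero]
    have h5 := h2 _ h1
    rw [map_sub, map_sub, hψ', AdicCompletion.eval_of, sub_eq_zero] at h5
    exact h5
  refine ⟨?_, ?_⟩
  · rw [injective_iff_map_eq_zero]
    intro x hx
    apply AdicCompletion.ext
    intro k
    obtain ⟨a, ha⟩ := Submodule.mkQ_surjective _ (AdicCompletion.eval I A k x)
    have h1 := F3 k x a ha.symm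
    rw [hx, map_zero] at h1
    have h2 : algebraMap A B a ∈ (J ^ k • ⊤ : Submodule B B) := by
      rw [← Submodule.Quotient.mk_eq_zero]; exact h1.symm
    rw [htopB k] at h2
    have h3 := F2 k a h2
    show AdicCompletion.eval I A k x = 0
    rw [← ha, Submodule.mkQ_apply, Submodule.Quotient.mk_eq_zero, htopA k]
    exact h3
  · intro y
    choose b hb using fun k => Submodule.mkQ_surjective _ (AdicCompletion.eval J B k y)
    choose a ha using fun k => F1 k (b k)
    have hcau : ∀ k, a k ≡ a (k + 1) [SMOD (I ^ k • ⊤ : Submodule A A)] := by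
      intro k
      rw [SModEq.sub_mem, htopA k]
      apply F2 k
      rw [map_sub]
      have e1 : b (k + 1) - b k ∈ J ^ k := by
        have h1 := AdicCompletion.transitionMap_comp_eval_apply (I := J) (M := B) (m := k)
          (n := k + 1) (Nat.le_succ k) y
        have h2 : y.val (k + 1) = Submodule.Quotient.mk (b (k + 1)) := (hb (k + 1)).symm
        have h3 : y.val k = Submodule.Quotient.mk (b k) := (hb k).symm
        rw [h2, h3] at h1
        have h4 : (Submodule.Quotient.mk (b (k + 1)) : B ⧸ (J ^ k • ⊤ : Submodule B B)) =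
            Submodule.Quotient.mk (b k) := h1
        rw [Submodule.Quotient.eq, htopB k] at h4
        exact h4
      have e2 : b (k + 1) - algebraMap A B (a (k + 1)) ∈ J ^ k :=
        Ideal.pow_le_pow_right (Nat.le_succ k) (ha (k + 1))
      have e3 := ha k
      have e4 : algebraMap A B (a k) - algebraMap A B (a (k + 1)) =
          (b (k + 1) - algebraMap A B (a (k + 1))) - (b (k + 1) - b k) -
            (b k - algebraMap A B (a k)) := by ring
      rw [e4]
      exact Ideal.sub_mem _ (Ideal.sub_mem _ e2 e1) e3
    let xs : AdicCompletion.AdicCauchySequence I A :=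
      AdicCompletion.AdicCauchySequence.mk I A a hcau
    refine ⟨AdicCompletion.mk I A xs, ?_⟩
    apply AdicCompletion.ext
    intro k
    have h1 : AdicCompletion.eval I A k (AdicCompletion.mk I A xs) = Submodule.mkQ _ (a k) := rfl
    have h2 := F3 k _ (a k) h1
    show AdicCompletion.eval J B k (ψ (AdicCompletion.mk I A xs)) = AdicCompletion.eval J B k y
    rw [h2, ← hb k, Submodule.mkQ_apply, Submodule.mkQ_apply, eq_comm, Submodule.Quotient.eq,
      htopB k]
    exact ha k


/-- Suppose A → B is a flat local ring map between Noetherian local rings, the maximal ideal of A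
generates that of B, and the residue field map is bijective. Then the induced map between the
completions of A and B (a ring map of the completions compatible with A → B; it is unique since A is
Noetherian) is an isomorphism. -/
theorem result (A B : Type u) [CommRing A]
    [CommRing B] [IsLocalRing A] [IsLocalRing B] [IsNoetherianRing A] [IsNoetherianRing B]
    [Algebra A B] [IsLocalHom (algebraMap A B)] [Module.Flat A B]
    (hm : Ideal.map (algebraMap A B) (IsLocalRing.maximalIdeal A) = IsLocalRing.maximalIdeal B)
    (hk : Function.Bijective (IsLocalRing.ResidueField.map (algebraMap A B)))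
    (ψ : AdicCompletion (IsLocalRing.maximalIdeal A) A →+* AdicCompletion (IsLocalRing.maximalIdeal B) B)
    (hψ : ψ.comp (algebraMap A (AdicCompletion (IsLocalRing.maximalIdeal A) A)) =
      (algebraMap B (AdicCompletion (IsLocalRing.maximalIdeal B) B)).comp (algebraMap A B)) :
    Function.Bijective ψ := by
  haveI : Module.FaithfullyFlat A B := Module.FaithfullyFlat.of_flat_of_isLocalHom
  have hpow : ∀ k : ℕ, (IsLocalRing.maximalIdeal B) ^ k =
      Ideal.map (algebraMap A B) ((IsLocalRing.maximalIdeal A) ^ k) := by
    intro k; rw [Ideal.map_pow, hm]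
  have hbase : ∀ c : B, ∃ a : A, c - algebraMap A B a ∈ IsLocalRing.maximalIdeal B := by
    intro c
    obtain ⟨x, hx⟩ := hk.2 (IsLocalRing.residue B c)
    obtain ⟨a, rfl⟩ := IsLocalRing.residue_surjective x
    refine ⟨a, ?_⟩
    rw [← IsLocalRing.residue_eq_zero_iff, map_sub, ← hx, IsLocalRing.ResidueField.map_residue,
      sub_self]
  have hmap : ∀ (k : ℕ) (a : A), a ∈ (IsLocalRing.maximalIdeal A) ^ k →
      algebraMap A B a ∈ (IsLocalRing.maximalIdeal B) ^ k := by
    intro k a h
    rw [hpow k]; exact Ideal.mem_map_of_mem _ h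
  have F1 : ∀ (k : ℕ) (b : B), ∃ a : A,
      b - algebraMap A B a ∈ (IsLocalRing.maximalIdeal B) ^ k := by
    intro k
    induction k with
    | zero => intro b; exact ⟨0, by simp⟩
    | succ k ih =>
      intro b
      obtain ⟨a, ha⟩ := ih b
      rw [hpow k] at ha
      have key' : ∀ z ∈ Ideal.map (algebraMap A B) ((IsLocalRing.maximalIdeal A) ^ k),
          ∃ a' ∈ (IsLocalRing.maximalIdeal A) ^ k,
            z - algebraMap A B a' ∈ (IsLocalRing.maximalIdeal B) ^ (k + 1) := by
        intro z hz
        change z ∈ Submodule.span B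
            (⇑(algebraMap A B) '' (((IsLocalRing.maximalIdeal A) ^ k : Ideal A) : Set A)) at hz
        induction hz using Submodule.span_induction with
        | mem x hx =>
          obtain ⟨r, hr, rfl⟩ := hx
          exact ⟨r, hr, by rw [sub_self]; exact Ideal.zero_mem _⟩
        | zero =>
          exact ⟨0, Ideal.zero_mem _, by rw [map_zero, sub_self]; exact Ideal.zero_mem _⟩
        | add z₁ z₂ _ _ h₁ h₂ =>
          obtain ⟨a₁, g₁, g₁'⟩ := h₁
          obtain ⟨a₂, g₂, g₂'⟩ := h₂
          refine ⟨a₁ + a₂, Ideal.add_mem _ g₁ g₂, ?_⟩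
          have e : z₁ + z₂ - algebraMap A B (a₁ + a₂) =
              (z₁ - algebraMap A B a₁) + (z₂ - algebraMap A B a₂) := by
            rw [map_add]; ring
          rw [e]; exact Ideal.add_mem _ g₁' g₂'
        | smul c z _ h =>
          obtain ⟨a', g, g'⟩ := h
          obtain ⟨a₁, h₁⟩ := hbase c
          refine ⟨a₁ * a', Ideal.mul_mem_left _ _ g, ?_⟩
          have e : c • z - algebraMap A B (a₁ * a') =
              c * (z - algebraMap A B a') + (c - algebraMap A B a₁) * algebraMap A B a' := by
            rw [map_mul, smul_eq_mul]; ring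
          rw [e]
          refine Ideal.add_mem _ (Ideal.mul_mem_left _ _ g') ?_
          rw [pow_succ']
          exact Ideal.mul_mem_mul h₁ (hmap k a' g)
      obtain ⟨a', _, h'⟩ := key' _ ha
      refine ⟨a + a', ?_⟩
      have e : b - algebraMap A B (a + a') = (b - algebraMap A B a) - algebraMap A B a' := by
        rw [map_add]; ring
      rw [e]; exact h'
  have F2 : ∀ (k : ℕ) (a : A), algebraMap A B a ∈ (IsLocalRing.maximalIdeal B) ^ k →
      a ∈ (IsLocalRing.maximalIdeal A) ^ k := by
    intro k a ha
    rw [hpow k] at ha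
    have h := Ideal.comap_map_eq_self_of_faithfullyFlat (B := B) ((IsLocalRing.maximalIdeal A) ^ k)
    rw [← h]
    exact ha
  exact key (IsLocalRing.maximalIdeal A) (IsLocalRing.maximalIdeal B)
    (IsNoetherian.noetherian _) hmap F1 F2 ψ hψ

end Groth.Agent.S9232
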