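import Groth.Statements.S9240
import Groth.Agent.Lib.Helper14.BrnchCompl

set_option autoImplicit false
universe u
open Brnch

namespace Groth.Agent.S9240

/-- Let A be a Noetherian local ring, S its henselization and A^ its completion, and let ψ : S → A^ be
the ring map compatible with the structure maps from A (it is unique, A^ being henselian). Then
contraction along ψ sends every minimal prime of A^ to a minimal prime of S, and every minimal prime
of S arises this way: contraction maps the minimal primes of A^ onto the minimal primes of S. -/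
theorem result (A S : Type u) [CommRing A] [IsLocalRing A]
    [IsNoetherianRing A] [CommRing S] [IsLocalRing S] [Algebra A S] [IsLocalHom (algebraMap A S)]
    [Hensel.IsHenselization A S] (ψ : S →+* AdicCompletion (IsLocalRing.maximalIdeal A) A)
    (hψ : ψ.comp (algebraMap A S) = algebraMap A (AdicCompletion (IsLocalRing.maximalIdeal A) A)) :
    Set.MapsTo (Ideal.comap ψ) (minimalPrimes (AdicCompletion (IsLocalRing.maximalIdeal A) A))
        (minimalPrimes S) ∧
      Set.SurjOn (Ideal.comap ψ) (minimalPrimes (AdicCompletion (IsLocalRing.maximalIdeal A) A))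
        (minimalPrimes S) := by
  obtain ⟨hloc, hff⟩ := Groth.Agent.Lib.Helper14.BrnchCompl.hens_to_completion A S ψ hψ
  letI := ψ.toAlgebra
  haveI : Module.FaithfullyFlat S (AdicCompletion (IsLocalRing.maximalIdeal A) A) := hff
  constructor
  · intro q hq
    haveI : q.IsPrime := hq.1.1
    refine ⟨⟨Ideal.comap_isPrime ψ q, bot_le⟩, ?_⟩
    intro p' hp' hle
    haveI : p'.IsPrime := hp'.1
    haveI : (q.comap ψ).IsPrime := Ideal.comap_isPrime ψ q
    haveI : q.LiesOver (q.comap ψ) := ⟨rfl⟩
    obtain ⟨Q, hQq, hQprime, hQover⟩ := Ideal.exists_ideal_le_liesOver_of_le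
      (R := S) (S := AdicCompletion (IsLocalRing.maximalIdeal A) A) (p := p') (q := q.comap ψ) q hle
    have hQeq : Q = q := le_antisymm hQq (hq.2 ⟨hQprime, bot_le⟩ hQq)
    have : p' = Q.comap ψ := hQover.over
    rw [this, hQeq]
  · intro p hp
    obtain ⟨Q, hQ, hQp⟩ := Groth.Agent.Lib.Helper8.BranchCount.exists_minimalPrime_comap_eq S
      (AdicCompletion (IsLocalRing.maximalIdeal A) A) p hp
    exact ⟨Q, hQ, hQp⟩

end Groth.Agent.S9240
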