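import Groth.Statements.S9242
import Groth.Agent.Lib.Helper14.Punct.MinPrime
import Groth.Agent.Lib.Helper14.BrnchCompl
import Groth.Agent.Lib.Helper18.PopA
import Groth.Agent.S0543

set_option autoImplicit false
universe u
open Brnch

namespace Groth.Agent.S9242

/-- Let A be a Noetherian local ring with henselization S and completion A^, let ψ : S → A^ be the ring
map compatible with the structure maps from A, and let q be a minimal prime of A^ with dim(A^/q) =
1. Then q is the radical of the extension along ψ of some minimal prime of S. -/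
theorem result (A S : Type u) [CommRing A]
    [IsLocalRing A] [IsNoetherianRing A] [CommRing S] [IsLocalRing S] [Algebra A S]
    [IsLocalHom (algebraMap A S)] [Hensel.IsHenselization A S]
    (ψ : S →+* AdicCompletion (IsLocalRing.maximalIdeal A) A)
    (hψ : ψ.comp (algebraMap A S) = algebraMap A (AdicCompletion (IsLocalRing.maximalIdeal A) A))
    (q : Ideal (AdicCompletion (IsLocalRing.maximalIdeal A) A))
    (hq : q ∈ minimalPrimes (AdicCompletion (IsLocalRing.maximalIdeal A) A))
    (hdim : ringKrullDim (AdicCompletion (IsLocalRing.maximalIdeal A) A ⧸ q) = 1) :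
    ∃ q' ∈ minimalPrimes S, (Ideal.map ψ q').radical = q := by
  classical
  haveI hSh : HenselianLocalRing S := Hensel.IsHenselization.henselian (R := A)
  haveI : IsNoetherianRing S :=
    (Groth.Agent.Lib.Helper8.Hzl.henselization_isNoetherianRing_iff A S).mp inferInstance
  haveI : IsNoetherianRing (AdicCompletion (IsLocalRing.maximalIdeal A) A) :=
    Groth.Agent.S0543.result A _
  obtain ⟨hloc, hff⟩ := Groth.Agent.Lib.Helper14.BrnchCompl.hens_to_completion A S ψ hψ
  letI := ψ.toAlgebra
  haveI : Module.FaithfullyFlat S (AdicCompletion (IsLocalRing.maximalIdeal A) A) := hff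
  have hmS := Groth.Agent.Lib.Helper8.Hzl.henselization_map_maximalIdeal A S
  have hm : (IsLocalRing.maximalIdeal S).map
      (algebraMap S (AdicCompletion (IsLocalRing.maximalIdeal A) A)) =
      IsLocalRing.maximalIdeal (AdicCompletion (IsLocalRing.maximalIdeal A) A) := by
    rw [← hmS, Ideal.map_map, AdicCompletion.maximalIdeal_eq_map]
    congr 1
  have hdense : ∀ (N : ℕ) (a : AdicCompletion (IsLocalRing.maximalIdeal A) A), ∃ s : S,
      a - algebraMap S (AdicCompletion (IsLocalRing.maximalIdeal A) A) s ∈
        IsLocalRing.maximalIdeal (AdicCompletion (IsLocalRing.maximalIdeal A) A) ^ N := by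
    intro N a
    obtain ⟨r, hr⟩ := Ideal.Quotient.mk_surjective
      (AdicCompletion.evalₐ (IsLocalRing.maximalIdeal A) N a)
    refine ⟨algebraMap A S r, ?_⟩
    have h1 : algebraMap S (AdicCompletion (IsLocalRing.maximalIdeal A) A) (algebraMap A S r) =
        algebraMap A (AdicCompletion (IsLocalRing.maximalIdeal A) A) r := by
      show ψ (algebraMap A S r) = _
      rw [← RingHom.comp_apply, hψ]
    rw [h1, AdicCompletion.maximalIdeal_eq_map, ← Ideal.map_pow]
    apply Groth.Agent.Lib.Helper18.DR.Pop.mem_map_pow_of_evalₐ_eq_zero _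
      (IsNoetherian.noetherian _)
    rw [map_sub, ← hr, sub_eq_zero]
    simp
  exact Groth.Agent.Lib.Helper14.Punct.exists_minimalPrime_radical_eq hm hdense q hq hdim

end Groth.Agent.S9242
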