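import Groth.Statements.S9241
import Groth.Agent.S9242
import Groth.Agent.S9243
import Groth.Agent.S9238
import Groth.Agent.S0543
import Groth.Agent.Lib.Helper14.BrnchCompl
import Groth.Agent.Lib.Helper14.Punct.SHDense
import Groth.Agent.Lib.Helper14.Punct.DimOne
import Groth.Agent.Lib.Helper8.ComplDim
import Groth.Agent.Lib.Helper18.PopA

set_option autoImplicit false
universe u
open Brnch

namespace Groth.Agent.S9241

/-- For a Noetherian local ring A of dimension 1, A and its completion A^ have the same number of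
branches and the same number of geometric branches. -/
theorem result (A : Type u) [CommRing A] [IsLocalRing A]
    [IsNoetherianRing A] (hA : ringKrullDim A = 1) :
    Brnch.numBranches (AdicCompletion (IsLocalRing.maximalIdeal A) A) = Brnch.numBranches A ∧
      Brnch.numGeomBranches (AdicCompletion (IsLocalRing.maximalIdeal A) A) =
        Brnch.numGeomBranches A := by
  classical
  haveI hNC : IsNoetherianRing (AdicCompletion (IsLocalRing.maximalIdeal A) A) :=
    Groth.Agent.S0543.result A _
  have hdimC : ringKrullDim (AdicCompletion (IsLocalRing.maximalIdeal A) A) = 1 :=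
    (Groth.Agent.Lib.Helper8.ringKrullDim_adicCompletion A).trans hA
  -- density of `A` in the completion
  have hdenseB : ∀ (N : ℕ) (b : AdicCompletion (IsLocalRing.maximalIdeal A) A), ∃ a : A,
      b - algebraMap A (AdicCompletion (IsLocalRing.maximalIdeal A) A) a ∈
        IsLocalRing.maximalIdeal (AdicCompletion (IsLocalRing.maximalIdeal A) A) ^ N := by
    intro N b
    obtain ⟨r, hr⟩ := Ideal.Quotient.mk_surjective
      (AdicCompletion.evalₐ (IsLocalRing.maximalIdeal A) N b)
    refine ⟨r, ?_⟩
    rw [AdicCompletion.maximalIdeal_eq_map, ← Ideal.map_pow]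
    apply Groth.Agent.Lib.Helper18.DR.Pop.mem_map_pow_of_evalₐ_eq_zero _
      (IsNoetherian.noetherian _)
    rw [map_sub, ← hr, sub_eq_zero]
    simp
  refine ⟨?_, ?_⟩
  · -- branches, via the henselization
    haveI := Groth.Agent.Lib.Helper8.Hzl.isHenselization A
    obtain ⟨ψ, hψ, -⟩ := (Hensel.IsHenselization.universal (R := A)
      (S := Groth.Agent.Lib.Helper8.Hzl.Hens A) (AdicCompletion (IsLocalRing.maximalIdeal A) A)
      (algebraMap A (AdicCompletion (IsLocalRing.maximalIdeal A) A)) inferInstance)
    refine ((Groth.Agent.S9243.result A (Groth.Agent.Lib.Helper8.Hzl.Hens A) ψ hψ).mpr ?_).symm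
    intro q hq
    haveI hSh : HenselianLocalRing (Groth.Agent.Lib.Helper8.Hzl.Hens A) :=
      Hensel.IsHenselization.henselian (R := A)
    haveI : IsNoetherianRing (Groth.Agent.Lib.Helper8.Hzl.Hens A) :=
      (Groth.Agent.Lib.Helper8.Hzl.henselization_isNoetherianRing_iff A _).mp inferInstance
    obtain ⟨hloc, hff⟩ := Groth.Agent.Lib.Helper14.BrnchCompl.hens_to_completion A
      (Groth.Agent.Lib.Helper8.Hzl.Hens A) ψ hψ
    letI := ψ.toAlgebra
    haveI : Module.FaithfullyFlat (Groth.Agent.Lib.Helper8.Hzl.Hens A)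
      (AdicCompletion (IsLocalRing.maximalIdeal A) A) := hff
    have hmS := Groth.Agent.Lib.Helper8.Hzl.henselization_map_maximalIdeal A
      (Groth.Agent.Lib.Helper8.Hzl.Hens A)
    have hm : (IsLocalRing.maximalIdeal (Groth.Agent.Lib.Helper8.Hzl.Hens A)).map
        (algebraMap (Groth.Agent.Lib.Helper8.Hzl.Hens A)
          (AdicCompletion (IsLocalRing.maximalIdeal A) A)) =
        IsLocalRing.maximalIdeal (AdicCompletion (IsLocalRing.maximalIdeal A) A) := by
      rw [← hmS, Ideal.map_map, AdicCompletion.maximalIdeal_eq_map]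
      congr 1
    have hdense : ∀ (N : ℕ) (a : AdicCompletion (IsLocalRing.maximalIdeal A) A),
        ∃ s : Groth.Agent.Lib.Helper8.Hzl.Hens A,
        a - algebraMap (Groth.Agent.Lib.Helper8.Hzl.Hens A)
          (AdicCompletion (IsLocalRing.maximalIdeal A) A) s ∈
          IsLocalRing.maximalIdeal (AdicCompletion (IsLocalRing.maximalIdeal A) A) ^ N := by
      intro N a
      obtain ⟨r, hr⟩ := hdenseB N a
      refine ⟨algebraMap A _ r, ?_⟩
      have h1 : algebraMap (Groth.Agent.Lib.Helper8.Hzl.Hens A)
          (AdicCompletion (IsLocalRing.maximalIdeal A) A)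
          (algebraMap A (Groth.Agent.Lib.Helper8.Hzl.Hens A) r) =
          algebraMap A (AdicCompletion (IsLocalRing.maximalIdeal A) A) r := by
        show ψ (algebraMap A _ r) = _
        rw [← RingHom.comp_apply, hψ]
      rw [h1]
      exact hr
    have hdimT : ∀ Q ∈ minimalPrimes (AdicCompletion (IsLocalRing.maximalIdeal A) A),
        ringKrullDim (AdicCompletion (IsLocalRing.maximalIdeal A) A ⧸ Q) = 1 := fun Q hQ =>
      Groth.Agent.Lib.Helper14.Punct.ringKrullDim_quotient_minimalPrime_eq_one (A := A)
        AdicCompletion.maximalIdeal_eq_map.symm hA hQ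
    exact Groth.Agent.Lib.Helper14.Punct.radical_map_isPrime hm hdense hdimT hq
  · -- geometric branches, via the strict henselization
    haveI := Groth.Agent.Lib.Helper8.Hzl.isStrictHenselization A
    haveI := Groth.Agent.Lib.Helper8.Hzl.isStrictHenselization
      (AdicCompletion (IsLocalRing.maximalIdeal A) A)
    obtain ⟨g, hg, hgloc, hff⟩ := Groth.Agent.Lib.Helper14.BrnchCompl.exists_strictHenselization_map
      A (AdicCompletion (IsLocalRing.maximalIdeal A) A)
      (Groth.Agent.Lib.Helper8.Hzl.SHens A)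
      (Groth.Agent.Lib.Helper8.Hzl.SHens (AdicCompletion (IsLocalRing.maximalIdeal A) A))
    rw [← Groth.Agent.S9238.result A (Groth.Agent.Lib.Helper8.Hzl.SHens A),
      ← Groth.Agent.S9238.result (AdicCompletion (IsLocalRing.maximalIdeal A) A)
        (Groth.Agent.Lib.Helper8.Hzl.SHens (AdicCompletion (IsLocalRing.maximalIdeal A) A))]
    haveI hSh : HenselianLocalRing (Groth.Agent.Lib.Helper8.Hzl.SHens A) :=
      Hensel.IsStrictHenselization.henselian (R := A)
    haveI : IsNoetherianRing (Groth.Agent.Lib.Helper8.Hzl.SHens A) :=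
      (Groth.Agent.Lib.Helper8.Hzl.strictHenselization_isNoetherianRing_iff A _).mp inferInstance
    haveI : IsNoetherianRing
        (Groth.Agent.Lib.Helper8.Hzl.SHens (AdicCompletion (IsLocalRing.maximalIdeal A) A)) :=
      (Groth.Agent.Lib.Helper8.Hzl.strictHenselization_isNoetherianRing_iff
        (AdicCompletion (IsLocalRing.maximalIdeal A) A) _).mp inferInstance
    have hdenseT := Groth.Agent.Lib.Helper14.Punct.SHDense.shens_dense g hg
      AdicCompletion.maximalIdeal_eq_map.symm hdenseB
      (fun N => ⟨(AdicCompletion.evalₐ (IsLocalRing.maximalIdeal A) N).toRingHom,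
        (AdicCompletion.evalₐ (IsLocalRing.maximalIdeal A) N).comp_algebraMap⟩)
    have hmS := Groth.Agent.Lib.Helper8.Hzl.strictHenselization_map_maximalIdeal A
      (Groth.Agent.Lib.Helper8.Hzl.SHens A)
    have hmT := Groth.Agent.Lib.Helper8.Hzl.strictHenselization_map_maximalIdeal
      (AdicCompletion (IsLocalRing.maximalIdeal A) A)
      (Groth.Agent.Lib.Helper8.Hzl.SHens (AdicCompletion (IsLocalRing.maximalIdeal A) A))
    haveI : Module.Flat (AdicCompletion (IsLocalRing.maximalIdeal A) A)
        (Groth.Agent.Lib.Helper8.Hzl.SHens (AdicCompletion (IsLocalRing.maximalIdeal A) A)) :=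
      Groth.Agent.Lib.Helper8.Hzl.strictHenselization_flat _ _
    have hdimT : ∀ Q ∈ minimalPrimes
        (Groth.Agent.Lib.Helper8.Hzl.SHens (AdicCompletion (IsLocalRing.maximalIdeal A) A)),
        ringKrullDim (Groth.Agent.Lib.Helper8.Hzl.SHens
          (AdicCompletion (IsLocalRing.maximalIdeal A) A) ⧸ Q) = 1 := fun Q hQ =>
      Groth.Agent.Lib.Helper14.Punct.ringKrullDim_quotient_minimalPrime_eq_one
        (A := AdicCompletion (IsLocalRing.maximalIdeal A) A) hmT hdimC hQ
    letI := g.toAlgebra
    haveI : Module.FaithfullyFlat (Groth.Agent.Lib.Helper8.Hzl.SHens A)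
      (Groth.Agent.Lib.Helper8.Hzl.SHens (AdicCompletion (IsLocalRing.maximalIdeal A) A)) := hff
    have hm : (IsLocalRing.maximalIdeal (Groth.Agent.Lib.Helper8.Hzl.SHens A)).map
        (algebraMap (Groth.Agent.Lib.Helper8.Hzl.SHens A)
          (Groth.Agent.Lib.Helper8.Hzl.SHens (AdicCompletion (IsLocalRing.maximalIdeal A) A))) =
        IsLocalRing.maximalIdeal
          (Groth.Agent.Lib.Helper8.Hzl.SHens (AdicCompletion (IsLocalRing.maximalIdeal A) A)) := by
      rw [← hmS, Ideal.map_map, ← hmT, AdicCompletion.maximalIdeal_eq_map, Ideal.map_map]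
      congr 1
    refine le_antisymm ?_ (Groth.Agent.Lib.Helper14.BrnchCompl.card_minimalPrimes_le _ _)
    exact Groth.Agent.Lib.Helper14.Punct.card_minimalPrimes_le_of_dim_one hm
      (fun N a => hdenseT N a) hdimT

end Groth.Agent.S9241
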