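import Groth.Statements.S9245
import Mathlib

set_option autoImplicit false
universe u
open CAlg

namespace Groth.Agent.S9245

/-- For an étale ring map A → B and a prime q of B with contraction p in A, the localization A_p is a
Noetherian ring exactly when the localization B_q is. -/
theorem result (A B : Type u) [CommRing A] [CommRing B]
    [Algebra A B] [Algebra.Etale A B] (q : Ideal B) [q.IsPrime] :
    IsNoetherianRing (Localization.AtPrime (Ideal.comap (algebraMap A B) q)) ↔
      IsNoetherianRing (Localization.AtPrime q) := by
  let φ : Localization.AtPrime (Ideal.comap (algebraMap A B) q) →+* Localization.AtPrime q :=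
    Localization.localRingHom (Ideal.comap (algebraMap A B) q) q (algebraMap A B) rfl
  let _ : Algebra (Localization.AtPrime (Ideal.comap (algebraMap A B) q))
      (Localization.AtPrime q) := φ.toAlgebra
  have hst : IsScalarTower A (Localization.AtPrime (Ideal.comap (algebraMap A B) q))
      (Localization.AtPrime q) :=
    .of_algebraMap_eq fun x ↦ (Localization.localRingHom_to_map _ _ _ rfl x).symm
  constructor
  · intro hA
    have h1 : Algebra.EssFiniteType A (Localization.AtPrime q) :=
      Algebra.EssFiniteType.comp A B _
    have h2 : Algebra.EssFiniteType (Localization.AtPrime (Ideal.comap (algebraMap A B) q))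
        (Localization.AtPrime q) := Algebra.EssFiniteType.of_comp A _ _
    exact Algebra.EssFiniteType.isNoetherianRing
      (Localization.AtPrime (Ideal.comap (algebraMap A B) q)) _
  · intro hB
    have hflat : φ.Flat :=
      RingHom.Flat.localRingHom (f := algebraMap A B) (RingHom.flat_algebraMap_iff.mpr inferInstance) q _ rfl
    have h1 : Module.Flat (Localization.AtPrime (Ideal.comap (algebraMap A B) q))
        (Localization.AtPrime q) := hflat
    have h2 : IsLocalHom (algebraMap (Localization.AtPrime (Ideal.comap (algebraMap A B) q))
        (Localization.AtPrime q)) :=
      Localization.isLocalHom_localRingHom _ _ _ rfl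
    have h3 : Module.FaithfullyFlat (Localization.AtPrime (Ideal.comap (algebraMap A B) q))
        (Localization.AtPrime q) := Module.FaithfullyFlat.of_flat_of_isLocalHom
    have h4 : IsNoetherian (Localization.AtPrime q)
        (TensorProduct (Localization.AtPrime (Ideal.comap (algebraMap A B) q))
          (Localization.AtPrime q) (Localization.AtPrime (Ideal.comap (algebraMap A B) q))) :=
      isNoetherian_of_linearEquiv (TensorProduct.AlgebraTensorModule.rid
        (Localization.AtPrime (Ideal.comap (algebraMap A B) q)) (Localization.AtPrime q)
        (Localization.AtPrime q)).symm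
    exact Submodule.IsNoetherian.of_isNoetherian_tensorProduct_of_faithfullyFlat h4

end Groth.Agent.S9245
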