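import Groth.Statements.S9246
import Groth.Agent.Lib.Helper26.RegularRing
import Groth.Agent.Lib.Helper8.Hzl.Regular
import Groth.Agent.Lib.Helper8.ComplDim

set_option autoImplicit false
universe u
open CAlg

namespace Groth.Agent.S9246

/-- Let A → B be an étale ring map and q a prime of B lying over the prime p of A. Then A_p is a regular
local ring if and only if B_q is a regular local ring. -/
theorem result (A B : Type u) [CommRing A] [CommRing B]
    [Algebra A B] [Algebra.Etale A B] (q : Ideal B) [q.IsPrime] :
    IsRegularLocalRing (Localization.AtPrime (Ideal.comap (algebraMap A B) q)) ↔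
      IsRegularLocalRing (Localization.AtPrime q) := by
  haveI : q.LiesOver (Ideal.comap (algebraMap A B) q) := ⟨rfl⟩
  letI := Localization.AtPrime.algebraOfLiesOver (Ideal.comap (algebraMap A B) q) q
  haveI hloc : IsLocalHom (algebraMap (Localization.AtPrime (Ideal.comap (algebraMap A B) q))
      (Localization.AtPrime q)) :=
    Localization.isLocalHom_localRingHom _ q (algebraMap A B) Ideal.LiesOver.over
  constructor
  · intro hA
    haveI : Algebra.EssFiniteType (Localization.AtPrime (Ideal.comap (algebraMap A B) q))
        (Localization.AtPrime q) := .of_comp A _ _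
    haveI : IsNoetherianRing (Localization.AtPrime q) :=
      Algebra.EssFiniteType.isNoetherianRing
        (Localization.AtPrime (Ideal.comap (algebraMap A B) q)) _
    have hun : Algebra.IsUnramifiedAt A q := inferInstance
    have hm0 := ((Algebra.isUnramifiedAt_iff_map_eq A (Ideal.comap (algebraMap A B) q) q).mp hun).2
    have hm : (IsLocalRing.maximalIdeal (Localization.AtPrime (Ideal.comap (algebraMap A B) q))).map
        (algebraMap (Localization.AtPrime (Ideal.comap (algebraMap A B) q))
          (Localization.AtPrime q)) = IsLocalRing.maximalIdeal (Localization.AtPrime q) := by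
      rw [← hm0, ← Localization.AtPrime.map_eq_maximalIdeal, Ideal.map_map,
        ← IsScalarTower.algebraMap_eq]
    exact (Groth.Agent.Lib.Helper8.Hzl.isRegularLocalRing_iff_of_flat hm
      (Groth.Agent.Lib.Helper8.ringKrullDim_eq_of_flat hm)).mp hA
  · intro hB
    haveI : Module.FaithfullyFlat (Localization.AtPrime (Ideal.comap (algebraMap A B) q))
        (Localization.AtPrime q) := Module.FaithfullyFlat.of_flat_of_isLocalHom
    haveI : IsNoetherianRing (Localization.AtPrime (Ideal.comap (algebraMap A B) q)) :=
      Groth.Agent.Lib.Helper26.RegularRing.isNoetherianRing_of_faithfullyFlat _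
        (Localization.AtPrime q)
    exact Groth.Agent.Lib.Helper26.RegularRing.isRegularLocalRing_of_flat _
      (Localization.AtPrime q)

end Groth.Agent.S9246
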