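import Groth.Statements.S9248
import Mathlib
import Groth.Agent.Lib.Helper27.ValPic
import Groth.Agent.S0563
open Groth.Agent.Lib.Helper27 TensorProduct CategoryTheory

set_option autoImplicit false
universe u
open CAlg

namespace Groth.Agent.S9248

/-- Let R be a valuation ring, K its field of fractions and κ its residue field, and let A be a local
ring with a flat, local homomorphism R → A essentially of finite type such that κ ⊗_R A is a regular
ring. Then K ⊗_R A has trivial Picard group. -/
theorem result (R A : Type u) [CommRing R] [IsDomain R]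
    [ValuationRing R] [CommRing A] [IsLocalRing A] [Algebra R A] [IsLocalHom (algebraMap R A)]
    [Module.Flat R A] [Algebra.EssFiniteType R A]
    (hreg : IsRegularRing (TensorProduct R (IsLocalRing.ResidueField R) A)) :
    Subsingleton (CommRing.Pic (TensorProduct R (FractionRing R) A)) := by
  classical
  have hp : (IsLocalRing.maximalIdeal R).map (algebraMap R A) ≤ IsLocalRing.maximalIdeal A := by
    rw [Ideal.map_le_iff_le_comap]
    intro x hx
    rw [Ideal.mem_comap, IsLocalRing.mem_maximalIdeal, mem_nonunits_iff]
    intro hu
    exact (IsLocalRing.mem_maximalIdeal x).mp hx (isUnit_of_map_unit (algebraMap R A) x hu)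
  have hne : (IsLocalRing.maximalIdeal R).map (algebraMap R A) ≠ ⊤ := fun h =>
    (IsLocalRing.maximalIdeal.isMaximal A).ne_top (top_le_iff.mp (h ▸ hp))
  haveI : Nontrivial (A ⧸ (IsLocalRing.maximalIdeal R).map (algebraMap R A)) :=
    Ideal.Quotient.nontrivial_iff.mpr hne
  haveI : IsLocalRing (A ⧸ (IsLocalRing.maximalIdeal R).map (algebraMap R A)) :=
    IsLocalRing.of_surjective' (Ideal.Quotient.mk _) Ideal.Quotient.mk_surjective
  haveI : IsRegularRing (A ⧸ (IsLocalRing.maximalIdeal R).map (algebraMap R A)) := by
    haveI hreg' : IsRegularRing ((R ⧸ IsLocalRing.maximalIdeal R) ⊗[R] A) := hreg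
    exact IsRegularRing.of_ringEquiv
      (Algebra.TensorProduct.quotIdealMapEquivQuotTensor A
        (IsLocalRing.maximalIdeal R)).symm.toRingEquiv
  haveI : IsRegularLocalRing (A ⧸ (IsLocalRing.maximalIdeal R).map (algebraMap R A)) :=
    IsRegularLocalRing.of_isRegularRing_of_isLocalRing _
  have hn : ringKrullDim (A ⧸ (IsLocalRing.maximalIdeal R).map (algebraMap R A)) =
      ((IsLocalRing.maximalIdeal
        (A ⧸ (IsLocalRing.maximalIdeal R).map (algebraMap R A))).spanFinrank : ℕ) :=
    IsRegularLocalRing.spanFinrank_maximalIdeal.symm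
  letI : Algebra A (TensorProduct R (FractionRing R) A) := Algebra.TensorProduct.rightAlgebra
  haveI : IsLocalization (Algebra.algebraMapSubmonoid A (nonZeroDivisors R))
      (TensorProduct R (FractionRing R) A) :=
    IsLocalization.tensorRight (FractionRing R) (nonZeroDivisors R)
  rw [CommRing.Pic.subsingleton_iff]
  intro L _ _ _
  letI : Module A L := Module.compHom L (algebraMap A (TensorProduct R (FractionRing R) A))
  haveI : IsScalarTower A (TensorProduct R (FractionRing R) A) L :=
    IsScalarTower.of_algebraMap_smul fun r x => rfl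
  letI : Module R L := Module.compHom L (algebraMap R A)
  haveI : IsScalarTower R A L := IsScalarTower.of_algebraMap_smul fun r x => rfl
  exact ValPic.free_of_invertible R A (IsLocalRing.maximalIdeal R) hp _
    (fun Y _ _ => Groth.Agent.S0563.result _ _ hn Y)
    (Algebra.algebraMapSubmonoid A (nonZeroDivisors R))
    (fun c hc => Algebra.mem_algebraMapSubmonoid_of_mem
      (⟨c, mem_nonZeroDivisors_of_ne_zero hc⟩ : nonZeroDivisors R))
    (TensorProduct R (FractionRing R) A) L

end Groth.Agent.S9248
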