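-- Statement S9253.
import Groth.Statements.S9253
import Mathlib
import Groth.Agent.Lib.Helper1.KRegIdeal9

set_option autoImplicit false
universe u
attribute [local instance] HasDerivedCategory.standard
open CategoryTheory
open LCI

namespace Groth.Agent.S9253

/-- Let R → S be a ring map and g_1, ..., g_m elements of S generating the unit ideal. When every
localization S_{g_j} is a local complete intersection algebra over R, so is S. -/
theorem result (R S : Type u) [CommRing R] [CommRing S] [Algebra R S]
    (m : ℕ) (g : Fin m → S) (hg : Ideal.span (Set.range g) = ⊤)
    (h : ∀ j, LCI.IsLCI R (Localization.Away (g j))) : LCI.IsLCI R S := by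
  apply Groth.Agent.Lib.Helper1.KRegIdeal.isLCI_of_span_eq_top R S (Set.range g) hg
  rintro _ ⟨j, rfl⟩
  exact ⟨Localization.Away (g j), inferInstance, inferInstance, inferInstance, inferInstance,
    inferInstance, h j⟩

end Groth.Agent.S9253
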