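import Groth.Statements.S9257
import Mathlib
import Groth.Agent.Lib.Helper26.QFFormal4

set_option autoImplicit false
universe u
open CAlg

namespace Groth.Agent.S9257

open IsLocalRing EGA4 in
theorem comap_bot_eq (R : Type u) [CommRing R] (q : Ideal R) [q.IsPrime] (P : Ideal (R ⧸ q))
    [P.IsPrime] :
    (⊥ : Ideal (Localization.AtPrime P)).comap (algebraMap R (Localization.AtPrime P)) = q := by
  rw [IsScalarTower.algebraMap_eq R (R ⧸ q) (Localization.AtPrime P), ← Ideal.comap_comap]
  have hinj : Function.Injective (algebraMap (R ⧸ q) (Localization.AtPrime P)) :=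
    IsLocalization.injective _ P.primeCompl_le_nonZeroDivisors
  rw [Ideal.comap_bot_of_injective _ hinj, ← RingHom.ker_eq_comap_bot,
    Ideal.Quotient.algebraMap_eq, Ideal.mk_ker]

/-- A Noetherian ring R is a G-ring exactly when, for all primes q ⊆ p of R, the completion of the local
domain (R/q)_p tensored with its fraction field κ(q) is geometrically regular over κ(q). Here the
pairs q ⊆ p are enumerated as primes P of R/q. -/
theorem result (R : Type u) [CommRing R] [IsNoetherianRing R] :
    CAlg.IsGRing R ↔
      ∀ (q : Ideal R) [q.IsPrime] (P : Ideal (R ⧸ q)) [P.IsPrime],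
        CAlg.IsGeometricallyRegular (⊥ : Ideal (Localization.AtPrime P)).ResidueField
          (EGA4.formalFibre (Localization.AtPrime P) (⊥ : Ideal (Localization.AtPrime P)))  := by
  constructor
  · intro hG q _ P _
    have hqp : q ≤ P.under R := by
      intro x hx
      rw [Ideal.under_def, Ideal.mem_comap, Ideal.Quotient.algebraMap_eq,
        Ideal.Quotient.eq_zero_iff_mem.mpr hx]
      exact P.zero_mem
    have hdisj : Disjoint ((P.under R).primeCompl : Set R) (q : Set R) := by
      rw [Set.disjoint_left]
      intro x hx hxq
      exact hx (hqp hxq)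
    haveI hQp : (q.map (algebraMap R (Localization.AtPrime (P.under R)))).IsPrime :=
      IsLocalization.isPrime_of_isPrime_disjoint (P.under R).primeCompl _ q inferInstance hdisj
    have hQc : (q.map (algebraMap R (Localization.AtPrime (P.under R)))).comap
        (algebraMap R (Localization.AtPrime (P.under R))) = q :=
      IsLocalization.under_map_of_isPrime_disjoint (P.under R).primeCompl _ inferInstance hdisj
    exact Groth.Agent.Lib.Helper26.QFFormal3.geomRegular_formalFibre_atPrime R (R ⧸ q)
      (P.under R) P ⊥ (q.map (algebraMap R (Localization.AtPrime (P.under R))))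
      (hQc.trans (comap_bot_eq R q P).symm)
      ((hG.2 (P.under R)).2 (q.map (algebraMap R (Localization.AtPrime (P.under R))))).2
  · intro H
    refine ⟨inferInstance, fun p0 _ => ?_⟩
    haveI : IsNoetherianRing (Localization.AtPrime p0) :=
      IsLocalization.isNoetherianRing p0.primeCompl _ inferInstance
    refine ⟨inferInstance, fun Q _ => ⟨?_, ?_⟩⟩
    · haveI : IsNoetherianRing (EGA4.Cpl (Localization.AtPrime p0)) :=
        Groth.Agent.Lib.Helper14.ComplEtale.isNoetherianRing_completion _
      exact Groth.Agent.Lib.Helper14.GeomReduced.isNoetherianRing_fiber _ _ Q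
    · have hqp : Q.under R ≤ p0 := by
        have h1 : Q ≤ IsLocalRing.maximalIdeal (Localization.AtPrime p0) :=
          IsLocalRing.le_maximalIdeal (Ideal.IsPrime.ne_top inferInstance)
        have h2 := Ideal.comap_mono (f := algebraMap R (Localization.AtPrime p0)) h1
        exact le_trans h2 (le_of_eq
          (IsLocalization.AtPrime.comap_maximalIdeal (Localization.AtPrime p0) p0))
      have hsurj : Function.Surjective (Ideal.Quotient.mk (Q.under R)) :=
        Ideal.Quotient.mk_surjective
      haveI hPp : (p0.map (Ideal.Quotient.mk (Q.under R))).IsPrime :=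
        Ideal.map_isPrime_of_surjective hsurj (by rw [Ideal.mk_ker]; exact hqp)
      haveI : (p0.map (Ideal.Quotient.mk (Q.under R))).LiesOver p0 := ⟨by
        rw [Ideal.under_def, Ideal.Quotient.algebraMap_eq, Ideal.comap_map_of_surjective _ hsurj,
          ← RingHom.ker_eq_comap_bot, Ideal.mk_ker]
        exact (sup_eq_left.mpr hqp).symm⟩
      exact Groth.Agent.Lib.Helper26.QFFormal4.geomRegular_formalFibre_atPrime_conv R
        (R ⧸ Q.under R) p0 (p0.map (Ideal.Quotient.mk (Q.under R))) Ideal.Quotient.mk_surjective
        ⊥ Q ((comap_bot_eq R (Q.under R) _).symm)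
        (H (Q.under R) (p0.map (Ideal.Quotient.mk (Q.under R))))

end Groth.Agent.S9257
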