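import Groth.Statements.S9260
import Mathlib

set_option autoImplicit false
universe u
open CAlg

namespace Groth.Agent.S9260

/-- Suppose a finite group G with n elements acts on a ring R by ring automorphisms, A → R is a ring map
compatible with the action whose image contains the invariants (so that A maps onto R^G), J is an
ideal of A, and x lies in JR. Then ∏_σ (T - σ(x)) is the image of a monic polynomial over A of
degree at most n whose coefficients below degree n all lie in J. (The published statement takes A =
R^G and a polynomial of degree n; this row allows any such A mapping onto R^G and asks degree at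
most n, which is the same when A is nonzero.) -/
theorem result (A R G : Type u) [CommRing A]
    [CommRing R] [Algebra A R] [Group G] [Fintype G] [MulSemiringAction G R] [SMulCommClass G A R]
    [Algebra.IsInvariant A R G] (J : Ideal A) (x : R) (hx : x ∈ Ideal.map (algebraMap A R) J) :
    ∃ P : Polynomial A, P.Monic ∧ P.natDegree ≤ Fintype.card G ∧
      (∀ i : ℕ, i < Fintype.card G → P.coeff i ∈ J) ∧
      Polynomial.map (algebraMap A R) P = ∏ σ : G, (Polynomial.X - Polynomial.C (σ • x)) := by
  classical
  set n := Fintype.card G with hn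
  rcases subsingleton_or_nontrivial R with hR | hR
  · refine ⟨Polynomial.X ^ n, Polynomial.monic_X_pow n, Polynomial.natDegree_X_pow_le n, ?_, ?_⟩
    · intro i hi
      rw [Polynomial.coeff_X_pow, if_neg hi.ne]
      exact J.zero_mem
    · have : Subsingleton (Polynomial R) := by
        refine ⟨fun p q => ?_⟩
        ext m
        exact Subsingleton.elim _ _
      exact Subsingleton.elim _ _
  -- write `x` as a finite combination
  have hx' : x ∈ Submodule.span R ((algebraMap A R) '' (J : Set A)) := hx
  obtain ⟨t, htJ, r, hxr⟩ := (Submodule.mem_span_image_iff_exists_fun R).mp hx'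
  -- the generic polynomial
  let c : G → MvPolynomial t R := fun σ => ∑ i : t, MvPolynomial.X i * MvPolynomial.C (σ • r i)
  let F : Polynomial (MvPolynomial t R) := ∏ σ : G, (Polynomial.X - Polynomial.C (c σ))
  have hFmonic : F.Monic := Polynomial.monic_prod_X_sub_C c Finset.univ
  have hFdeg : F.natDegree = n := by
    simp [F, hn]
  -- `F` is invariant under the action on coefficients
  have hFinv : ∀ τ : G, Polynomial.map (MvPolynomial.map (MulSemiringAction.toRingHom G R τ)) F = F := by
    intro τ
    simp only [F, Polynomial.map_prod, Polynomial.map_sub, Polynomial.map_X, Polynomial.map_C]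
    refine Fintype.prod_equiv (Equiv.mulLeft τ) _ _ ?_
    intro σ
    congr 2
    simp only [c, map_sum, map_mul, MvPolynomial.map_X, MvPolynomial.map_C,
      MulSemiringAction.toRingHom_apply, Equiv.coe_mulLeft, mul_smul]
  have hcoeffinv : ∀ (l : ℕ) (α : t →₀ ℕ) (τ : G),
      τ • ((F.coeff l).coeff α) = (F.coeff l).coeff α := by
    intro l α τ
    have h := congrArg (fun p => (Polynomial.coeff p l).coeff α) (hFinv τ)
    simpa [Polynomial.coeff_map, MvPolynomial.coeff_map] using h
  have hlift : ∀ (l : ℕ) (α : t →₀ ℕ), ∃ a : A, algebraMap A R a = (F.coeff l).coeff α :=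
    fun l α => Algebra.IsInvariant.isInvariant (A := A) (G := G) _ (hcoeffinv l α)
  choose a ha using hlift
  -- evaluation at `0`
  have hF0 : Polynomial.map (MvPolynomial.constantCoeff (σ := t) (R := R)) F = Polynomial.X ^ n := by
    simp only [F, Polynomial.map_prod, Polynomial.map_sub, Polynomial.map_X, Polynomial.map_C]
    have : ∀ σ : G, MvPolynomial.constantCoeff (c σ) = 0 := by
      intro σ
      simp [c]
    simp [this, hn]
  have hconst : ∀ l, l < n → (F.coeff l).coeff 0 = 0 := by
    intro l hl
    have h := congrArg (fun p => Polynomial.coeff p l) hF0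
    simp only [Polynomial.coeff_map, Polynomial.coeff_X_pow, if_neg hl.ne] at h
    rw [← MvPolynomial.constantCoeff_eq]
    exact h
  -- evaluation at the `j`
  let ev : MvPolynomial t R →+* R := MvPolynomial.eval (fun i : t => algebraMap A R (i : A))
  have hσx : ∀ σ : G, σ • x = ev (c σ) := by
    intro σ
    rw [← hxr]
    simp only [c, ev, map_sum, map_mul, MvPolynomial.eval_X, MvPolynomial.eval_C, Finset.smul_sum,
      smul_eq_mul, smul_mul', smul_algebraMap]
    refine Finset.sum_congr rfl fun i _ => ?_
    rw [mul_comm]
  have hFev : Polynomial.map ev F = ∏ σ : G, (Polynomial.X - Polynomial.C (σ • x)) := by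
    simp only [F, Polynomial.map_prod, Polynomial.map_sub, Polynomial.map_X, Polynomial.map_C, hσx]
  -- the coefficients
  let Pc : ℕ → A := fun l => ∑ α ∈ (F.coeff l).support, a l α * ∏ i : t, (i : A) ^ (α i)
  have hPc : ∀ l, algebraMap A R (Pc l) = ev (F.coeff l) := by
    intro l
    simp only [Pc, ev, map_sum, map_mul, map_prod, map_pow, ha]
    rw [MvPolynomial.eval_eq']
  have hPcJ : ∀ l, l < n → Pc l ∈ J := by
    intro l hl
    refine J.sum_mem fun α hα => J.mul_mem_left _ ?_
    have hα0 : α ≠ 0 := by
      rintro rfl
      exact (MvPolynomial.mem_support_iff.mp hα) (hconst l hl)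
    obtain ⟨i, hi⟩ : ∃ i, α i ≠ 0 := by
      by_contra hcon
      exact hα0 (Finsupp.ext fun i => by
        by_contra hi
        exact hcon ⟨i, hi⟩)
    have hdvd : (i : A) ^ (α i) ∣ ∏ i : t, (i : A) ^ (α i) :=
      Finset.dvd_prod_of_mem _ (Finset.mem_univ i)
    exact Ideal.mem_of_dvd J hdvd (J.pow_mem_of_mem (htJ i.2) _ (Nat.pos_of_ne_zero hi))
  let Q : Polynomial A := ∑ l ∈ Finset.range n, Polynomial.C (Pc l) * Polynomial.X ^ l
  have hQdeg : Q.degree < (n : WithBot ℕ) := by
    rw [Polynomial.degree_lt_iff_coeff_zero]
    intro m hm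
    simp only [Q, Polynomial.finset_sum_coeff, Polynomial.coeff_C_mul_X_pow]
    refine Finset.sum_eq_zero fun l hl => ?_
    rw [if_neg]
    have := Finset.mem_range.mp hl
    omega
  refine ⟨Polynomial.X ^ n + Q, Polynomial.monic_X_pow_add hQdeg, ?_, ?_, ?_⟩
  · refine Polynomial.natDegree_add_le_of_degree_le (Polynomial.natDegree_X_pow_le n) ?_
    exact Polynomial.natDegree_le_of_degree_le hQdeg.le
  · intro i hi
    have : (Polynomial.X ^ n + Q).coeff i = Pc i := by
      simp only [Q, Polynomial.coeff_add, Polynomial.coeff_X_pow, if_neg hi.ne, zero_add,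
        Polynomial.finset_sum_coeff, Polynomial.coeff_C_mul_X_pow]
      rw [Finset.sum_eq_single i]
      · simp
      · intro b _ hb
        rw [if_neg (Ne.symm hb)]
      · intro hni
        exact absurd (Finset.mem_range.mpr hi) hni
    rw [this]
    exact hPcJ i hi
  · rw [← hFev]
    conv_rhs => rw [hFmonic.as_sum, hFdeg]
    simp only [Q, Polynomial.map_add, Polynomial.map_pow, Polynomial.map_X, Polynomial.map_sum,
      Polynomial.map_mul, Polynomial.map_C, hPc]

end Groth.Agent.S9260
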