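import Groth.Statements.S9261
import Mathlib

set_option autoImplicit false
universe u
open CAlg

namespace Groth.Agent.S9261

/-- Let G be a finite group acting on a ring R, S = R^G its ring of invariants (here: S → R injective
with image the invariants) and A a flat S-algebra. Then the map A → A ⊗_S R is injective with image
the invariants of G acting on A ⊗_S R through the second factor; that is, A → (A ⊗_S R)^G is an
isomorphism. -/
theorem result (S R A G : Type u) [CommRing S] [CommRing R] [Algebra S R]
    [FaithfulSMul S R] [Group G] [Finite G] [MulSemiringAction G R] [SMulCommClass G S R]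
    [Algebra.IsInvariant S R G] [CommRing A] [Algebra S A] [Module.Flat S A] :
    Function.Injective (algebraMap A (TensorProduct S A R)) ∧
      ∀ x : TensorProduct S A R,
        (∀ σ : G, Algebra.TensorProduct.map (AlgHom.id S A) (MulSemiringAction.toAlgHom S R σ) x = x) →
          x ∈ Set.range (algebraMap A (TensorProduct S A R)) := by
  classical
  have : Fintype G := Fintype.ofFinite G
  let ι : S →ₗ[S] R := Algebra.linearMap S R
  let φ : R →ₗ[S] (G → R) :=
    LinearMap.pi (fun σ => (MulSemiringAction.toAlgHom S R σ).toLinearMap - LinearMap.id)
  have hιinj : Function.Injective ι := FaithfulSMul.algebraMap_injective S R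
  have hexact : Function.Exact ι φ := by
    intro r
    constructor
    · intro hr
      have hr' : ∀ σ : G, σ • r = r := by
        intro σ
        have := congrFun hr σ
        simpa [φ, sub_eq_zero] using this
      obtain ⟨s, hs⟩ := Algebra.IsInvariant.isInvariant (A := S) (G := G) r hr'
      exact ⟨s, hs⟩
    · rintro ⟨s, rfl⟩
      ext σ
      simp [φ, ι, sub_eq_zero]
  have hkey : ∀ y : TensorProduct S A S,
      algebraMap A (TensorProduct S A R) (TensorProduct.rid S A y) = ι.lTensor A y := by
    intro y
    induction y using TensorProduct.induction_on with
    | zero => simp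
    | tmul a s =>
      simp only [TensorProduct.rid_tmul, LinearMap.lTensor_tmul, ι, Algebra.linearMap_apply,
        Algebra.TensorProduct.algebraMap_apply, Algebra.algebraMap_self, RingHom.id_apply]
      rw [Algebra.algebraMap_eq_smul_one, TensorProduct.tmul_smul, TensorProduct.smul_tmul']
    | add y z hy hz => simp only [map_add, hy, hz]
  constructor
  · have hinj : Function.Injective (ι.lTensor A) :=
      Module.Flat.lTensor_preserves_injective_linearMap ι hιinj
    intro a b hab
    have h1 := hkey ((TensorProduct.rid S A).symm a)
    have h2 := hkey ((TensorProduct.rid S A).symm b)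
    rw [LinearEquiv.apply_symm_apply] at h1 h2
    rw [h1, h2] at hab
    exact (TensorProduct.rid S A).symm.injective (hinj hab)
  · intro x hx
    have hex := Module.Flat.lTensor_exact A hexact
    have hcomp : ∀ (σ : G) (z : TensorProduct S A R),
        (TensorProduct.piRightHom S S A (fun _ : G => R) (φ.lTensor A z)) σ =
          Algebra.TensorProduct.map (AlgHom.id S A) (MulSemiringAction.toAlgHom S R σ) z - z := by
      intro σ z
      induction z using TensorProduct.induction_on with
      | zero => simp
      | tmul a r =>
        simp [φ, TensorProduct.tmul_sub]
      | add y z hy hz =>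
        simp only [map_add, Pi.add_apply, hy, hz]
        abel
    have hx0 : φ.lTensor A x = 0 := by
      apply (TensorProduct.piRight S S A (fun _ : G => R)).injective
      rw [map_zero]
      ext σ
      rw [TensorProduct.piRight_apply, hcomp σ x, hx σ, sub_self]
      rfl
    obtain ⟨y, hy⟩ := (hex x).mp hx0
    exact ⟨TensorProduct.rid S A y, (hkey y).trans hy⟩

end Groth.Agent.S9261
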