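import Groth.Statements.S9274
import Mathlib
import Groth.Agent.Lib.Helper26.QFFormal6

set_option autoImplicit false
universe u
open CAlg

namespace Groth.Agent.S9274

/-- For a Noetherian ring R, being a G-ring is equivalent to the following: whenever S is an R-algebra
that is finite and free as an R-module, every formal fibre of every local ring of S is a regular
ring. -/
theorem result (R : Type u) [CommRing R] [IsNoetherianRing R] :
    CAlg.IsGRing R ↔
      ∀ (S : Type u) [CommRing S] [Algebra R S] [Module.Finite R S] [Module.Free R S]
        (q : Ideal S) [q.IsPrime] (p : Ideal (Localization.AtPrime q)) [p.IsPrime],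
        IsRegularRing (EGA4.formalFibre (Localization.AtPrime q) p) := by
  constructor
  · intro hG S _ _ _ _ q _ p _
    haveI : IsNoetherianRing S := IsNoetherianRing.of_finite R S
    haveI : q.LiesOver (q.under R) := ⟨rfl⟩
    have hreg : CAlg.IsRegularHom (Localization.AtPrime q) (EGA4.Cpl (Localization.AtPrime q)) :=
      Groth.Agent.Lib.Helper26.QFFormal3.isRegularHom_cpl_atPrime R S (q.under R) q
        (hG.2 (q.under R))
    exact Groth.Agent.Lib.Helper26.QFFormal6.isRegularRing_of_geomRegular
      (Localization.AtPrime q) p (hreg.2 p).2
  · intro H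
    refine ⟨inferInstance, fun p0 _ => ?_⟩
    haveI : IsNoetherianRing (Localization.AtPrime p0) :=
      IsLocalization.isNoetherianRing p0.primeCompl _ inferInstance
    exact Groth.Agent.Lib.Helper26.QFFormal6.isRegularHom_cpl_of_regFib (Localization.AtPrime p0)
      (fun Q _ K _ _ _ _ _ => Groth.Agent.Lib.Helper26.QFFormal6.main _ R H p0 Q K le_rfl)

end Groth.Agent.S9274
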