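import Groth.Statements.S9275
import Mathlib

set_option autoImplicit false
universe u
open EtAlg

namespace Groth.Agent.S9275

/-- Let A → B be a ring map and J an ideal of B such that A → B is étale at every prime of V(J), in the
sense that every prime q ⊇ J has some h ∉ q with A → B_h étale. Then there is g ∈ B mapping to a
unit of B/J such that A → B_g is étale. -/
theorem result (A B : Type u) [CommRing A] [CommRing B]
    [Algebra A B] (J : Ideal B)
    (h : ∀ (q : Ideal B) [q.IsPrime], J ≤ q → ∃ h : B, h ∉ q ∧ Algebra.Etale A (Localization.Away h)) :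
    ∃ g : B, IsUnit (Ideal.Quotient.mk J g) ∧ Algebra.Etale A (Localization.Away g) := by
  classical
  let T : Set B := {h | Algebra.Etale A (Localization.Away h)}
  have hsup : Ideal.span T ⊔ J = ⊤ := by
    by_contra hne
    obtain ⟨q, hq, hle⟩ := Ideal.exists_le_maximal _ hne
    haveI := hq.isPrime
    obtain ⟨h0, hh0, hE⟩ := h q (le_sup_right.trans hle)
    exact hh0 (hle (Ideal.mem_sup_left (Ideal.subset_span hE)))
  obtain ⟨g, hg, j, hj, hgj⟩ := Submodule.mem_sup.mp ((Ideal.eq_top_iff_one _).mp hsup)
  refine ⟨g, ?_, ?_⟩
  · have h1 : Ideal.Quotient.mk J g = 1 := by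
      have : g = 1 - j := by rw [← hgj]; ring
      rw [this, map_sub, map_one, Ideal.Quotient.eq_zero_iff_mem.mpr hj, sub_zero]
    rw [h1]
    exact isUnit_one
  · rw [← RingHom.etale_algebraMap]
    apply RingHom.Etale.ofLocalizationSpanTarget _ ((algebraMap B (Localization.Away g)) '' T)
    · rw [← Ideal.map_span]
      exact Ideal.eq_top_of_isUnit_mem _ (Ideal.mem_map_of_mem _ hg)
        (IsLocalization.Away.algebraMap_isUnit g)
    · rintro ⟨_, h0, hh0, rfl⟩
      haveI : Algebra.Etale A (Localization.Away h0) := hh0
      haveI : Algebra.Etale A (Localization.Away (algebraMap B (Localization.Away h0) g)) :=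
        Algebra.Etale.comp A (Localization.Away h0) _
      haveI : IsLocalization.Away (h0 * g)
          (Localization.Away (algebraMap B (Localization.Away h0) g)) :=
        mul_comm g h0 ▸ inferInstance
      let e : Localization.Away (algebraMap B (Localization.Away g) h0) ≃ₐ[B]
          Localization.Away (algebraMap B (Localization.Away h0) g) :=
        IsLocalization.algEquiv (Submonoid.powers (h0 * g)) _ _
      rw [← IsScalarTower.algebraMap_eq A (Localization.Away g)
        (Localization.Away (algebraMap B (Localization.Away g) h0)), RingHom.etale_algebraMap]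
      exact Algebra.Etale.of_equiv (e.restrictScalars A).symm

end Groth.Agent.S9275
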