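import Groth.Statements.S9279
import Groth.Agent.Lib.Helper14.Punct.CechD
import Groth.Agent.Lib.Helper14.BrnchCompl
import Groth.Agent.Lib.Helper18.PopA

set_option autoImplicit false
universe u
open Brnch

namespace Groth.Agent.S9279

/-- For a Noetherian local ring A with henselization S and completion A^ at its maximal ideal, the
spectrum of A^ with its closed point removed is preconnected exactly when the spectrum of S with its
closed point removed is (the two sets are empty together, namely when A has dimension zero). Stated
as: the complement of the closed point in Spec A^ is preconnected iff the complement of the closed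
point in Spec S is. -/
theorem result (A S : Type u) [CommRing A]
    [IsLocalRing A] [IsNoetherianRing A] [CommRing S] [IsLocalRing S] [Algebra A S]
    [IsLocalHom (algebraMap A S)] [Hensel.IsHenselization A S] :
    IsPreconnected
        ({IsLocalRing.closedPoint (AdicCompletion (IsLocalRing.maximalIdeal A) A)}ᶜ :
          Set (PrimeSpectrum (AdicCompletion (IsLocalRing.maximalIdeal A) A))) ↔
      IsPreconnected ({IsLocalRing.closedPoint S}ᶜ : Set (PrimeSpectrum S)) := by
  classical
  haveI hSh : HenselianLocalRing S := Hensel.IsHenselization.henselian (R := A)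
  haveI : IsNoetherianRing S :=
    (Groth.Agent.Lib.Helper8.Hzl.henselization_isNoetherianRing_iff A S).mp inferInstance
  obtain ⟨ψ, hψ, -⟩ := (Hensel.IsHenselization.universal (R := A) (S := S)
    (AdicCompletion (IsLocalRing.maximalIdeal A) A)
    (algebraMap A (AdicCompletion (IsLocalRing.maximalIdeal A) A)) inferInstance)
  obtain ⟨hloc, hff⟩ := Groth.Agent.Lib.Helper14.BrnchCompl.hens_to_completion A S ψ hψ
  letI := ψ.toAlgebra
  haveI : Module.FaithfullyFlat S (AdicCompletion (IsLocalRing.maximalIdeal A) A) := hff
  have hmS := Groth.Agent.Lib.Helper8.Hzl.henselization_map_maximalIdeal A S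
  have hm : (IsLocalRing.maximalIdeal S).map
      (algebraMap S (AdicCompletion (IsLocalRing.maximalIdeal A) A)) =
      IsLocalRing.maximalIdeal (AdicCompletion (IsLocalRing.maximalIdeal A) A) := by
    rw [← hmS, Ideal.map_map, AdicCompletion.maximalIdeal_eq_map]
    congr 1
  constructor
  · exact Groth.Agent.Lib.Helper14.Punct.punctured_isPreconnected_down hm
  · refine Groth.Agent.Lib.Helper14.Punct.punctured_isPreconnected_up hm ?_
    intro N a
    obtain ⟨r, hr⟩ := Ideal.Quotient.mk_surjective
      (AdicCompletion.evalₐ (IsLocalRing.maximalIdeal A) N a)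
    refine ⟨algebraMap A S r, ?_⟩
    have h1 : algebraMap S (AdicCompletion (IsLocalRing.maximalIdeal A) A) (algebraMap A S r) =
        algebraMap A (AdicCompletion (IsLocalRing.maximalIdeal A) A) r := by
      show ψ (algebraMap A S r) = _
      rw [← RingHom.comp_apply, hψ]
    rw [h1, AdicCompletion.maximalIdeal_eq_map, ← Ideal.map_pow]
    apply Groth.Agent.Lib.Helper18.DR.Pop.mem_map_pow_of_evalₐ_eq_zero _
      (IsNoetherian.noetherian _)
    rw [map_sub, ← hr, sub_eq_zero]
    simp

end Groth.Agent.S9279
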