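import Groth.Statements.S9283
import Mathlib

set_option autoImplicit false
universe u
open CAlg

namespace Groth.Agent.S9283

/-- Let R be an auto-associated ring, that is, a local ring whose maximal ideal is weakly associated to
R: some nonzero x ∈ R is killed by a power of every element of the maximal ideal. Then every proper
finitely generated ideal of R has a nonzero annihilator. -/
theorem result (R : Type u) [CommRing R] [IsLocalRing R]
    (h : ∃ x : R, x ≠ 0 ∧ ∀ f ∈ IsLocalRing.maximalIdeal R, ∃ n : ℕ, f ^ n * x = 0)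
    (I : Ideal R) (hI : I.FG) (hI' : I ≠ ⊤) : I.annihilator ≠ ⊥ := by
  classical
  obtain ⟨x, hx0, hx⟩ := h
  -- for every finite set of elements of the maximal ideal there is a nonzero multiple of `x`
  -- killed by all of them
  have key : ∀ s : Finset R, (∀ f ∈ s, f ∈ IsLocalRing.maximalIdeal R) →
      ∃ y : R, y ≠ 0 ∧ (∃ c : R, y = c * x) ∧ ∀ f ∈ s, f * y = 0 := by
    intro s
    induction s using Finset.induction_on with
    | empty =>
      intro _
      exact ⟨x, hx0, ⟨1, (one_mul x).symm⟩, by simp⟩
    | insert g s hg ih =>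
      intro hs
      obtain ⟨y, hy0, ⟨c, hyc⟩, hy⟩ := ih (fun f hf => hs f (Finset.mem_insert_of_mem hf))
      have hgm : g ∈ IsLocalRing.maximalIdeal R := hs g (Finset.mem_insert_self g s)
      -- some power of `g` kills `y`
      have hex : ∃ n : ℕ, g ^ n * y = 0 := by
        obtain ⟨n, hn⟩ := hx g hgm
        exact ⟨n, by rw [hyc, ← mul_assoc, mul_comm (g ^ n) c, mul_assoc, hn, mul_zero]⟩
      let n := Nat.find hex
      have hn : g ^ n * y = 0 := Nat.find_spec hex
      have hnpos : n ≠ 0 := by
        intro h0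
        rw [h0, pow_zero, one_mul] at hn
        exact hy0 hn
      obtain ⟨k, hk⟩ := Nat.exists_eq_succ_of_ne_zero hnpos
      have hkmin : ¬ (g ^ k * y = 0) := Nat.find_min hex (by omega)
      refine ⟨g ^ k * y, hkmin, ⟨g ^ k * c, by rw [hyc, mul_assoc]⟩, ?_⟩
      intro f hf
      rcases Finset.mem_insert.mp hf with rfl | hf
      · rw [← mul_assoc, ← pow_succ', ← Nat.succ_eq_add_one, ← hk]
        exact hn
      · rw [mul_left_comm, hy f hf, mul_zero]
  obtain ⟨s, rfl⟩ := hI
  have hsm : ∀ f ∈ s, f ∈ IsLocalRing.maximalIdeal R := by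
    intro f hf
    have hle : Ideal.span (s : Set R) ≤ IsLocalRing.maximalIdeal R :=
      IsLocalRing.le_maximalIdeal hI'
    exact hle (Ideal.subset_span hf)
  obtain ⟨y, hy0, -, hy⟩ := key s hsm
  intro hbot
  have hyann : y ∈ (Ideal.span (s : Set R)).annihilator := by
    rw [Ideal.span, Submodule.mem_annihilator_span]
    rintro ⟨f, hf⟩
    rw [smul_eq_mul, mul_comm]
    exact hy f hf
  rw [hbot] at hyann
  exact hy0 (by simpa using hyann)

end Groth.Agent.S9283
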