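import Groth.Statements.S9285
import Mathlib

set_option autoImplicit false
universe u
open CAlg

namespace Groth.Agent.S9285

/-- A ring R has the property that every proper finitely generated ideal has a nonzero annihilator if
and only if every injective linear map R → R^n admits a retraction. -/
theorem result (R : Type u) [CommRing R] :
    (∀ I : Ideal R, I.FG → I ≠ ⊤ → I.annihilator ≠ ⊥) ↔
      ∀ (n : ℕ) (u : R →ₗ[R] (Fin n → R)), Function.Injective u →
        ∃ v : (Fin n → R) →ₗ[R] R, v.comp u = LinearMap.id := by
  classical
  constructor
  · intro hP n u hu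
    -- the ideal generated by the coordinates of `u 1`
    let a : Fin n → R := u 1
    have hua : ∀ r : R, u r = r • a := by
      intro r
      have : u (r • (1 : R)) = r • u 1 := u.map_smul r 1
      simpa using this
    have hann : (Ideal.span (Set.range a)).annihilator = ⊥ := by
      rw [eq_bot_iff]
      intro b hb
      rw [Ideal.mem_bot]
      apply hu
      rw [map_zero, hua]
      ext i
      have := (Submodule.mem_annihilator_span _ _).mp hb ⟨a i, i, rfl⟩
      simpa using this
    have htop : Ideal.span (Set.range a) = ⊤ := by
      by_contra hne
      exact hP _ (Submodule.fg_span (Set.finite_range a)) hne hann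
    obtain ⟨c, hc⟩ := (Ideal.mem_span_range_iff_exists_fun).mp ((Ideal.eq_top_iff_one _).mp htop)
    refine ⟨∑ i, c i • LinearMap.proj i, ?_⟩
    ext
    simp only [LinearMap.coe_comp, Function.comp_apply, LinearMap.sum_apply,
      LinearMap.smul_apply, LinearMap.proj_apply, LinearMap.id_coe, id_eq, smul_eq_mul]
    exact hc
  · intro H I hI hI' hann
    obtain ⟨n, a, rfl⟩ := (Submodule.fg_iff_exists_fin_generating_family).mp hI
    let u : R →ₗ[R] (Fin n → R) := LinearMap.toSpanSingleton R (Fin n → R) a
    have hu : Function.Injective u := by
      rw [← LinearMap.ker_eq_bot, LinearMap.ker_eq_bot']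
      intro b hb
      have hb' : b • a = 0 := hb
      have : b ∈ (Ideal.span (Set.range a)).annihilator := by
        rw [Ideal.span, Submodule.mem_annihilator_span]
        rintro ⟨_, i, rfl⟩
        have := congrFun hb' i
        simpa using this
      rw [hann] at this
      simpa using this
    obtain ⟨v, hv⟩ := H n u hu
    apply hI'
    rw [Ideal.eq_top_iff_one]
    have h1 : v (u 1) = 1 := by
      have := LinearMap.congr_fun hv 1
      simpa using this
    have hu1 : u 1 = a := by simp [u]
    rw [hu1] at h1
    have ha : a = ∑ i, a i • (Pi.single i (1 : R) : Fin n → R) := by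
      ext j
      simp [Finset.sum_apply, Pi.single_apply]
    rw [ha, map_sum] at h1
    rw [← h1]
    refine Ideal.sum_mem _ fun i _ => ?_
    rw [map_smul, smul_eq_mul]
    exact Ideal.mul_mem_right _ _ (Ideal.subset_span ⟨i, rfl⟩)

end Groth.Agent.S9285
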