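import Groth.Statements.S9291
import Mathlib

set_option autoImplicit false
universe u
open EtAlg

namespace Groth.Agent.S9291

/-- Let A be a ring, I an ideal and u a unit of A/I. Then there is an étale ring map A → A' such that
A/I → A'/IA' is an isomorphism, together with a unit of A' mapping to the image of u. -/
theorem result (A : Type u) [CommRing A] (I : Ideal A) (u : (A ⧸ I)ˣ) :
    ∃ (A' : Type u) (_ : CommRing A') (_ : Algebra A A'), Algebra.Etale A A' ∧
      Function.Bijective (Ideal.quotientMap (Ideal.map (algebraMap A A') I) (algebraMap A A')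
        Ideal.le_comap_map) ∧
      ∃ u' : A'ˣ, Ideal.Quotient.mk (Ideal.map (algebraMap A A') I) (u' : A') =
        Ideal.quotientMap (Ideal.map (algebraMap A A') I) (algebraMap A A') Ideal.le_comap_map
          (u : A ⧸ I) := by
  obtain ⟨a, ha⟩ := Ideal.Quotient.mk_surjective (u : A ⧸ I)
  refine ⟨Localization.Away a, inferInstance, inferInstance,
    Algebra.Etale.of_isLocalizationAway a, ?_, ?_⟩
  · have hle : Algebra.algebraMapSubmonoid (A ⧸ I) (Submonoid.powers a) ≤
        IsUnit.submonoid (A ⧸ I) := by
      rintro _ ⟨_, ⟨n, rfl⟩, rfl⟩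
      change IsUnit (Ideal.Quotient.mk I (a ^ n))
      rw [map_pow, ha]
      exact u.isUnit.pow n
    let e := IsLocalization.atUnits (A ⧸ I) (Algebra.algebraMapSubmonoid (A ⧸ I) (Submonoid.powers a))
      (S := Localization.Away a ⧸ I.map (algebraMap A (Localization.Away a))) hle
    have he : ∀ x, e x = Ideal.quotientMap (Ideal.map (algebraMap A (Localization.Away a)) I)
        (algebraMap A (Localization.Away a)) Ideal.le_comap_map x := by
      intro x
      exact e.commutes x
    have hb := e.bijective
    convert hb using 1
    ext x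
    exact (he x).symm
  · refine ⟨(IsLocalization.Away.algebraMap_isUnit (S := Localization.Away a) a).unit, ?_⟩
    rw [IsUnit.unit_spec, ← ha, Ideal.quotientMap_mk]

end Groth.Agent.S9291
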