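import Groth.Statements.S9300
import Mathlib

set_option autoImplicit false
universe u
open CAlg

namespace Groth.Agent.S9300

/-- Let A and B be domains and A → B a ring map for which the generic point of Spec(A) has a unique
preimage in Spec(B). Then every nonzero ideal of B has nonzero preimage in A. -/
theorem result (A B : Type u) [CommRing A] [IsDomain A]
    [CommRing B] [IsDomain B] (φ : A →+* B)
    (h : ∃! q : PrimeSpectrum B, Ideal.comap φ q.asIdeal = ⊥) (J : Ideal B) (hJ : J ≠ ⊥) :
    Ideal.comap φ J ≠ ⊥ := by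
  obtain ⟨q, hq, hquniq⟩ := h
  -- `φ` is injective
  have hker : RingHom.ker φ = ⊥ := by
    rw [eq_bot_iff]
    intro a ha
    have : a ∈ Ideal.comap φ q.asIdeal := by
      rw [Ideal.mem_comap, (RingHom.mem_ker).mp ha]
      exact q.asIdeal.zero_mem
    rw [hq] at this
    exact this
  have hinj : Function.Injective φ := (RingHom.injective_iff_ker_eq_bot φ).mpr hker
  -- the zero ideal of `B` lies over zero
  have hbot : Ideal.comap φ (⊥ : Ideal B) = ⊥ := by
    rw [← RingHom.ker_eq_comap_bot, hker]
  have hq0 : q = ⟨⊥, Ideal.isPrime_bot⟩ := (hquniq ⟨⊥, Ideal.isPrime_bot⟩ hbot).symm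
  intro hJ0
  -- a prime containing `J` and disjoint from the image of the nonzero elements
  let S : Submonoid B := Submonoid.map φ (nonZeroDivisors A)
  have hdisj : Disjoint (J : Set B) (S : Set B) := by
    rw [Set.disjoint_left]
    rintro _ hb ⟨a, ha, rfl⟩
    have : a ∈ Ideal.comap φ J := hb
    rw [hJ0, Ideal.mem_bot] at this
    exact (nonZeroDivisors.ne_zero ha) this
  obtain ⟨P, hP, hJP, hPS⟩ := Ideal.exists_le_prime_disjoint J S hdisj
  have hPcomap : Ideal.comap φ P = ⊥ := by
    rw [eq_bot_iff]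
    intro a ha
    rw [Ideal.mem_bot]
    by_contra hne
    exact (Set.disjoint_left.mp hPS) ha ⟨a, mem_nonZeroDivisors_of_ne_zero hne, rfl⟩
  have hPq : (⟨P, hP⟩ : PrimeSpectrum B) = q := hquniq ⟨P, hP⟩ hPcomap
  have hP0 : P = ⊥ := by
    have := congrArg PrimeSpectrum.asIdeal (hPq.trans hq0)
    exact this
  apply hJ
  rw [eq_bot_iff]
  exact hJP.trans hP0.le

end Groth.Agent.S9300
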