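import Groth.Statements.S9301
import Mathlib

set_option autoImplicit false
universe u
open CAlg

namespace Groth.Agent.S9301

/-- Let A and B be domains and A → B a flat ring map which is the localization of a quasi-finite ring
map A → B₀ (of finite type with finite fibres). Then every nonzero ideal of B has nonzero preimage
in A. -/
theorem result (A B₀ B : Type u) [CommRing A] [IsDomain A]
    [CommRing B₀] [CommRing B] [IsDomain B] [Algebra A B₀] [Algebra.FiniteType A B₀]
    [Algebra.QuasiFinite A B₀] (S : Submonoid B₀) [Algebra B₀ B] [IsLocalization S B] [Algebra A B]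
    [IsScalarTower A B₀ B] [Module.Flat A B] (J : Ideal B) (hJ : J ≠ ⊥) :
    Ideal.comap (algebraMap A B) J ≠ ⊥ := by
  haveI : Algebra.QuasiFinite A B :=
    Algebra.QuasiFinite.of_isLocalization (R := A) (S := B₀) (T := B) S
  have hinj : ∀ a : A, algebraMap A B a = 0 → a = 0 := by
    intro a ha
    by_contra hne
    have hreg : IsSMulRegular B a :=
      Module.Flat.isSMulRegular_of_nonZeroDivisors (mem_nonZeroDivisors_of_ne_zero hne)
    have h1 : a • (1 : B) = a • (0 : B) := by
      rw [smul_zero, Algebra.smul_def, mul_one, ha]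
    exact one_ne_zero (hreg h1)
  intro hbot
  let M : Submonoid B := (nonZeroDivisors A).map (algebraMap A B : A →* B)
  have hdisj : Disjoint (J : Set B) M := by
    rw [Set.disjoint_left]
    rintro _ hbJ ⟨a, ha, rfl⟩
    have h1 : a ∈ Ideal.comap (algebraMap A B) J := hbJ
    rw [hbot] at h1
    exact (nonZeroDivisors.ne_zero ha) ((Submodule.mem_bot _).mp h1)
  obtain ⟨Q, hQ, hJQ, hQM⟩ := Ideal.exists_le_prime_disjoint J M hdisj
  have hQu : Q.under A = ⊥ := by
    rw [eq_bot_iff]
    intro a ha
    by_contra hne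
    exact Set.disjoint_left.mp hQM ha ⟨a, mem_nonZeroDivisors_of_ne_zero hne, rfl⟩
  have hbu : (⊥ : Ideal B).under A = ⊥ := by
    rw [eq_bot_iff]
    intro a ha
    have ha' : algebraMap A B a = 0 := (Submodule.mem_bot B).mp ha
    exact (Submodule.mem_bot A).mpr (hinj a ha')
  haveI : (⊥ : Ideal B).IsPrime := Ideal.isPrime_bot
  have hQbot := Algebra.QuasiFinite.eq_of_le_of_under_eq (R := A) (⊥ : Ideal B) Q bot_le
    (hbu.trans hQu.symm)
  apply hJ
  rw [eq_bot_iff, hQbot]
  exact hJQ

end Groth.Agent.S9301
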