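import Groth.Statements.S9303
import Mathlib

set_option autoImplicit false
universe u
open CAlg

namespace Groth.Agent.S9303

/-- extraction of elementwise data from the idempotent-localization hypothesis -/
theorem data {A C Af Cf : Type u} [CommRing A] [CommRing C] [Algebra A C] (f : A)
    [CommRing Af] [CommRing Cf] [Algebra A Af] [IsLocalization.Away f Af]
    [Algebra C Cf] [IsLocalization (Algebra.algebraMapSubmonoid C (Submonoid.powers f)) Cf]
    [Algebra Af Cf]
    (hψ : ∀ a : A, algebraMap Af Cf (algebraMap A Af a) = algebraMap C Cf (algebraMap A C a))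
    (e : Af) (he : IsIdempotentElem e) [IsLocalization.Away e Cf] :
    ∃ (c : A) (k : ℕ),
      (∃ m, algebraMap A C (f ^ m * (f ^ k - c)) = 0) ∧
      (∀ j, algebraMap A C j = 0 → ∃ m, f ^ m * (c * j) = 0) ∧
      (∀ γ : C, ∃ (a : A) (n m : ℕ),
        algebraMap A C (f ^ m) * (γ * algebraMap A C (f ^ n) - algebraMap A C a) = 0) := by
  classical
  obtain ⟨c, ⟨_, k, rfl⟩, hc⟩ := IsLocalization.exists_mk'_eq (Submonoid.powers f) e
  have hspec : e * algebraMap A Af (f ^ k) = algebraMap A Af c := by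
    rw [← hc]; exact IsLocalization.mk'_spec _ _ _
  have hu : IsUnit (algebraMap Af Cf e) := IsLocalization.Away.algebraMap_isUnit e
  have hψe : algebraMap Af Cf e = 1 := by
    have h2 : algebraMap Af Cf e * algebraMap Af Cf e = algebraMap Af Cf e * 1 := by
      rw [← map_mul, he.eq, mul_one]
    exact hu.mul_left_cancel h2
  refine ⟨c, k, ?_, ?_, ?_⟩
  · have h1 : algebraMap C Cf (algebraMap A C (f ^ k - c)) = 0 := by
      rw [← hψ, map_sub, ← hspec, map_sub, map_mul, hψe, one_mul, sub_self]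
    obtain ⟨⟨_, _, ⟨m, rfl⟩, rfl⟩, hm⟩ := (IsLocalization.map_eq_zero_iff
      (Algebra.algebraMapSubmonoid C (Submonoid.powers f)) Cf _).mp h1
    exact ⟨m, by rw [map_mul]; exact hm⟩
  · intro j hj
    have h1 : algebraMap Af Cf (algebraMap A Af j) = algebraMap Af Cf 0 := by
      rw [hψ, hj, map_zero, map_zero]
    obtain ⟨n, hn⟩ := IsLocalization.Away.exists_of_eq e h1
    have h2 : e * algebraMap A Af j = 0 := by
      rw [mul_zero] at hn
      rcases n with _ | n
      · rw [pow_zero, one_mul] at hn; rw [hn, mul_zero]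
      · rw [he.pow_succ_eq] at hn; exact hn
    have h3 : algebraMap A Af (c * j) = 0 := by
      rw [map_mul, ← hspec, mul_right_comm, h2, zero_mul]
    obtain ⟨⟨_, m, rfl⟩, hm⟩ := (IsLocalization.map_eq_zero_iff (Submonoid.powers f) Af _).mp h3
    exact ⟨m, hm⟩
  · intro γ
    obtain ⟨n₀, x, hx⟩ := IsLocalization.Away.surj e (algebraMap C Cf γ)
    rw [hψe, one_pow, mul_one] at hx
    obtain ⟨a, ⟨_, n, rfl⟩, ha⟩ := IsLocalization.exists_mk'_eq (Submonoid.powers f) x
    have hspec2 : x * algebraMap A Af (f ^ n) = algebraMap A Af a := by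
      rw [← ha]; exact IsLocalization.mk'_spec _ _ _
    have h1 : algebraMap C Cf (γ * algebraMap A C (f ^ n) - algebraMap A C a) = 0 := by
      rw [map_sub, map_mul, ← hψ, ← hψ, hx, ← map_mul, hspec2, sub_self]
    obtain ⟨⟨_, _, ⟨m, rfl⟩, rfl⟩, hm⟩ := (IsLocalization.map_eq_zero_iff
      (Algebra.algebraMapSubmonoid C (Submonoid.powers f)) Cf _).mp h1
    exact ⟨a, n, m, hm⟩

theorem exists_uniform {ι : Type*} (F : Finset ι) (P : ι → ℕ → Prop)
    (mono : ∀ i n m, n ≤ m → P i n → P i m) (h : ∀ i ∈ F, ∃ n, P i n) :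
    ∃ N, ∀ i ∈ F, P i N := by
  classical
  choose! n hn using h
  exact ⟨F.sup n, fun i hi => mono i _ _ (Finset.le_sup hi) (hn i hi)⟩

theorem pow_mem_of_mem_span {A : Type u} [CommRing A] (F : Finset A) (T : Ideal A)
    (hT : ∀ g ∈ F, ∃ n, g ^ n ∈ T) (f : A) (hf : f ∈ Ideal.span (F : Set A)) : ∃ N, f ^ N ∈ T := by
  have : Ideal.span (F : Set A) ≤ T.radical := Ideal.span_le.mpr (fun g hg => hT g hg)
  exact this hf

/-- the complementary ideal -/
def Kideal {A : Type u} (C : Type u) [CommRing A] [CommRing C] [Algebra A C] (F : Finset A) :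
    Ideal A where
  carrier := {a | ∀ j, algebraMap A C j = 0 → ∀ g ∈ F, ∃ n, g ^ n * (a * j) = 0}
  zero_mem' := fun j _ g _ => ⟨0, by simp⟩
  add_mem' := by
    intro a b ha hb j hj g hg
    obtain ⟨n₁, h₁⟩ := ha j hj g hg
    obtain ⟨n₂, h₂⟩ := hb j hj g hg
    refine ⟨n₁ + n₂, ?_⟩
    have : g ^ (n₁ + n₂) * ((a + b) * j) =
        g ^ n₂ * (g ^ n₁ * (a * j)) + g ^ n₁ * (g ^ n₂ * (b * j)) := by ring
    rw [this, h₁, h₂, mul_zero, mul_zero, add_zero]
  smul_mem' := by
    intro r a ha j hj g hg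
    obtain ⟨n, hn⟩ := ha j hj g hg
    refine ⟨n, ?_⟩
    have : g ^ n * (r • a * j) = r * (g ^ n * (a * j)) := by rw [smul_eq_mul]; ring
    rw [this, hn, mul_zero]

theorem mem_Kideal {A : Type u} (C : Type u) [CommRing A] [CommRing C] [Algebra A C]
    (F : Finset A) (a : A) : a ∈ Kideal C F ↔
      ∀ j, algebraMap A C j = 0 → ∀ g ∈ F, ∃ n, g ^ n * (a * j) = 0 := Iff.rfl

/-- main elementwise statement for generators -/
theorem main_gen {A C : Type u} [CommRing A] [CommRing C] [Algebra A C] (F : Finset A)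
    (hdata : ∀ g ∈ F, ∃ (c : A) (k : ℕ),
      (∃ m, algebraMap A C (g ^ m * (g ^ k - c)) = 0) ∧
      (∀ j, algebraMap A C j = 0 → ∃ m, g ^ m * (c * j) = 0) ∧
      (∀ γ : C, ∃ (a : A) (n m : ℕ),
        algebraMap A C (g ^ m) * (γ * algebraMap A C (g ^ n) - algebraMap A C a) = 0)) :
    ∀ f ∈ F, (∀ a, algebraMap A C a = 0 → a ∈ Kideal C F → ∃ m, f ^ m * a = 0) ∧
      (∀ y : C × (A ⧸ Kideal C F), ∃ (a : A) (N : ℕ),
        algebraMap A (C × (A ⧸ Kideal C F)) a =
          algebraMap A (C × (A ⧸ Kideal C F)) (f ^ N) * y) := by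
  classical
  choose! c k hQ1 hQ2 hQ4 using hdata
  choose! m1 hm1 using hQ1
  intro f hf
  -- Q3'
  have hQ3 : ∃ m, f ^ m * c f ∈ Kideal C F := by
    obtain ⟨M, hM⟩ := exists_uniform F
      (fun g M => f ^ M * (c f * (g ^ m1 g * (g ^ k g - c g))) = 0)
      (fun g n m hnm hn => by
        rw [← pow_sub_mul_pow f hnm, mul_assoc, hn, mul_zero])
      (fun g hg => hQ2 f hf _ (hm1 g hg))
    refine ⟨M, ?_⟩
    intro j hj g hg
    obtain ⟨n, hn⟩ := hQ2 g hg j hj
    refine ⟨n + m1 g + k g, ?_⟩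
    have : g ^ (n + m1 g + k g) * (f ^ M * c f * j) =
        g ^ n * j * (f ^ M * (c f * (g ^ m1 g * (g ^ k g - c g)))) +
        g ^ m1 g * f ^ M * c f * (g ^ n * (c g * j)) := by ring
    rw [this, hM g hg, hn, mul_zero, mul_zero, add_zero]
  obtain ⟨m₃, hm₃⟩ := hQ3
  refine ⟨?_, ?_⟩
  · intro a ha haK
    obtain ⟨n', hn'⟩ := haK _ (hm1 f hf) f hf
    obtain ⟨m₂, hm₂⟩ := hQ2 f hf a ha
    refine ⟨n' + m₂ + m1 f + k f, ?_⟩
    have : f ^ (n' + m₂ + m1 f + k f) * a =
        f ^ m₂ * (f ^ n' * (a * (f ^ m1 f * (f ^ k f - c f)))) +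
        f ^ n' * f ^ m1 f * (f ^ m₂ * (c f * a)) := by ring
    rw [this, hn', hm₂, mul_zero, mul_zero, add_zero]
  · rintro ⟨γ, q⟩
    obtain ⟨b, rfl⟩ := Ideal.Quotient.mk_surjective q
    obtain ⟨a₂, n₂, m₄, h4⟩ := hQ4 f hf γ
    have h0 := hm1 f hf
    refine ⟨f ^ (m₃ + m1 f + k f + m₄ + n₂) * (f ^ m₃ * (b * (f ^ m1 f * (f ^ k f - c f)))) +
      f ^ (m₃ + m1 f + k f) * (f ^ (m1 f + m₄) * (f ^ m₃ * c f * a₂)),
      (m₃ + m1 f + k f) + (m₃ + m1 f + k f + m₄ + n₂), ?_⟩
    refine Prod.ext ?_ ?_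
    · change algebraMap A C _ = algebraMap A C _ * γ
      simp only [map_add, map_mul, map_pow, map_sub] at h0 h4 ⊢
      linear_combination
        ((algebraMap A C f) ^ (m₃ + m1 f + k f + m₄ + n₂) * (algebraMap A C f) ^ m₃ *
            algebraMap A C b -
          (algebraMap A C f) ^ (m₃ + m1 f + k f) * (algebraMap A C f) ^ m₃ *
            (algebraMap A C f) ^ m₄ * algebraMap A C a₂) * h0 -
        ((algebraMap A C f) ^ (m₃ + m1 f + k f) * (algebraMap A C f) ^ m₃ *
          (algebraMap A C f) ^ m1 f * (algebraMap A C f) ^ k f) * h4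
    · change Ideal.Quotient.mk (Kideal C F) _ =
        Ideal.Quotient.mk (Kideal C F) _ * Ideal.Quotient.mk (Kideal C F) b
      rw [← map_mul, Ideal.Quotient.eq]
      have : f ^ (m₃ + m1 f + k f + m₄ + n₂) * (f ^ m₃ * (b * (f ^ m1 f * (f ^ k f - c f)))) +
          f ^ (m₃ + m1 f + k f) * (f ^ (m1 f + m₄) * (f ^ m₃ * c f * a₂)) -
          f ^ ((m₃ + m1 f + k f) + (m₃ + m1 f + k f + m₄ + n₂)) * b =
          (-(f ^ (m₃ + m1 f + k f + m₄ + n₂) * b * f ^ m1 f) +
            f ^ (m₃ + m1 f + k f) * f ^ (m1 f + m₄) * a₂) * (f ^ m₃ * c f) := by ring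
      rw [this]
      exact Ideal.mul_mem_left _ _ hm₃

/-- passage from generators to all elements of the ideal -/
theorem main_all {A C : Type u} [CommRing A] [CommRing C] [Algebra A C] (F : Finset A)
    (hgen : ∀ f ∈ F, (∀ a, algebraMap A C a = 0 → a ∈ Kideal C F → ∃ m, f ^ m * a = 0) ∧
      (∀ y : C × (A ⧸ Kideal C F), ∃ (a : A) (N : ℕ),
        algebraMap A (C × (A ⧸ Kideal C F)) a =
          algebraMap A (C × (A ⧸ Kideal C F)) (f ^ N) * y))
    (f : A) (hf : f ∈ Ideal.span (F : Set A)) :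
    (∀ a, algebraMap A C a = 0 → a ∈ Kideal C F → ∃ m, f ^ m * a = 0) ∧
      (∀ y : C × (A ⧸ Kideal C F), ∃ (a : A) (N : ℕ),
        algebraMap A (C × (A ⧸ Kideal C F)) a =
          algebraMap A (C × (A ⧸ Kideal C F)) (f ^ N) * y) := by
  refine ⟨?_, ?_⟩
  · intro a ha haK
    have := pow_mem_of_mem_span F (LinearMap.ker (LinearMap.mulRight A a))
      (fun g hg => by
        obtain ⟨m, hm⟩ := (hgen g hg).1 a ha haK
        exact ⟨m, by rw [LinearMap.mem_ker, LinearMap.mulRight_apply]; exact hm⟩) f hf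
    obtain ⟨N, hN⟩ := this
    exact ⟨N, by rw [LinearMap.mem_ker, LinearMap.mulRight_apply] at hN; exact hN⟩
  · intro y
    let T : Ideal A :=
      { carrier := {s | ∃ a, algebraMap A (C × (A ⧸ Kideal C F)) a =
          algebraMap A (C × (A ⧸ Kideal C F)) s * y}
        zero_mem' := ⟨0, by rw [map_zero, zero_mul]⟩
        add_mem' := by
          rintro s₁ s₂ ⟨a₁, h₁⟩ ⟨a₂, h₂⟩
          exact ⟨a₁ + a₂, by rw [map_add, map_add, add_mul, h₁, h₂]⟩
        smul_mem' := by
          rintro r s ⟨a, h⟩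
          exact ⟨r * a, by rw [smul_eq_mul, map_mul, map_mul, mul_assoc, h]⟩ }
    obtain ⟨N, a, hN⟩ := pow_mem_of_mem_span F T
      (fun g hg => by
        obtain ⟨a, N, h⟩ := (hgen g hg).2 y
        exact ⟨N, a, h⟩) f hf
    exact ⟨a, N, hN⟩

/-- Let A be a ring, I a finitely generated ideal and A → C a ring map such that for every f ∈ I the map
A_f → C_f is the localization of A_f at an idempotent. Then there is a surjection A → C' (C' = A/K
for an ideal K) such that A_f → (C × C')_f is an isomorphism for every f ∈ I. -/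
theorem result (A : Type u) [CommRing A]
    (I : Ideal A) (hI : I.FG) (C : Type u) [CommRing C] [Algebra A C]
    (h : ∀ f ∈ I, ∃ e : Localization.Away f, IsIdempotentElem e ∧
      IsLocalization.Away e (Localization (Algebra.algebraMapSubmonoid C (Submonoid.powers f)))) :
    ∃ K : Ideal A, ∀ f ∈ I, Function.Bijective
      (algebraMap (Localization.Away f)
        (Localization (Algebra.algebraMapSubmonoid (C × (A ⧸ K)) (Submonoid.powers f)))) := by
  classical
  obtain ⟨F, rfl⟩ := hI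
  refine ⟨Kideal C F, ?_⟩
  have hdata : ∀ g ∈ F, ∃ (c : A) (k : ℕ),
      (∃ m, algebraMap A C (g ^ m * (g ^ k - c)) = 0) ∧
      (∀ j, algebraMap A C j = 0 → ∃ m, g ^ m * (c * j) = 0) ∧
      (∀ γ : C, ∃ (a : A) (n m : ℕ),
        algebraMap A C (g ^ m) * (γ * algebraMap A C (g ^ n) - algebraMap A C a) = 0) := by
    intro g hg
    obtain ⟨e, he, hloc⟩ := h g (Ideal.subset_span hg)
    haveI := hloc
    refine data (A := A) (C := C) (Af := Localization.Away g)
      (Cf := Localization (Algebra.algebraMapSubmonoid C (Submonoid.powers g))) g ?_ e he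
    intro a
    have key : algebraMap (Localization.Away g)
        (Localization (Algebra.algebraMapSubmonoid C (Submonoid.powers g))) =
        IsLocalization.map _ (algebraMap A C)
          (show Submonoid.powers g ≤ (Algebra.algebraMapSubmonoid C (Submonoid.powers g)).comap _
            from (Submonoid.powers g).le_comap_map) := rfl
    rw [key, IsLocalization.map_eq]
  have hgen := main_gen F hdata
  intro f hf
  obtain ⟨hinj, hsurj⟩ := main_all F hgen f hf
  have key : algebraMap (Localization.Away f)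
      (Localization (Algebra.algebraMapSubmonoid (C × (A ⧸ Kideal C F)) (Submonoid.powers f))) =
      IsLocalization.map _ (algebraMap A (C × (A ⧸ Kideal C F)))
        (show Submonoid.powers f ≤
          (Algebra.algebraMapSubmonoid (C × (A ⧸ Kideal C F)) (Submonoid.powers f)).comap _
          from (Submonoid.powers f).le_comap_map) := rfl
  have hψ : ∀ a : A, algebraMap (Localization.Away f)
      (Localization (Algebra.algebraMapSubmonoid (C × (A ⧸ Kideal C F)) (Submonoid.powers f)))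
      (algebraMap A _ a) = algebraMap (C × (A ⧸ Kideal C F)) _
        (algebraMap A (C × (A ⧸ Kideal C F)) a) := by
    intro a; rw [key, IsLocalization.map_eq]
  refine ⟨?_, ?_⟩
  · rw [injective_iff_map_eq_zero]
    intro x hx
    obtain ⟨a, ⟨_, n, rfl⟩, rfl⟩ := IsLocalization.exists_mk'_eq (Submonoid.powers f) x
    have hspec := IsLocalization.mk'_spec (Localization.Away f) a
      (⟨f ^ n, n, rfl⟩ : Submonoid.powers f)
    have h1 : algebraMap (C × (A ⧸ Kideal C F))
        (Localization (Algebra.algebraMapSubmonoid (C × (A ⧸ Kideal C F)) (Submonoid.powers f)))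
        (algebraMap A (C × (A ⧸ Kideal C F)) a) = 0 := by
      rw [← hψ, ← hspec, map_mul, hx, zero_mul]
    obtain ⟨⟨_, _, ⟨m, rfl⟩, rfl⟩, hm⟩ := (IsLocalization.map_eq_zero_iff
      (Algebra.algebraMapSubmonoid (C × (A ⧸ Kideal C F)) (Submonoid.powers f)) _ _).mp h1
    have hm' : algebraMap A (C × (A ⧸ Kideal C F)) (f ^ m * a) = 0 := by
      rw [map_mul]; exact hm
    have h2 : algebraMap A C (f ^ m * a) = 0 := congrArg Prod.fst hm'
    have h3 : f ^ m * a ∈ Kideal C F := by
      have : Ideal.Quotient.mk (Kideal C F) (f ^ m * a) = 0 := congrArg Prod.snd hm'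
      exact Ideal.Quotient.eq_zero_iff_mem.mp this
    obtain ⟨m', hm'⟩ := hinj _ h2 h3
    have h4 : algebraMap A (Localization.Away f) a = 0 := by
      rw [IsLocalization.map_eq_zero_iff (Submonoid.powers f)]
      exact ⟨⟨f ^ (m' + m), _, rfl⟩, by
        change f ^ (m' + m) * a = 0
        rw [pow_add, mul_assoc]; exact hm'⟩
    rw [h4] at hspec
    have hu : IsUnit (algebraMap A (Localization.Away f) (f ^ n)) := by
      rw [map_pow]; exact (IsLocalization.Away.algebraMap_isUnit f).pow n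
    exact hu.mul_left_eq_zero.mp hspec
  · intro z
    obtain ⟨y, ⟨_, _, ⟨n, rfl⟩, rfl⟩, rfl⟩ := IsLocalization.exists_mk'_eq
      (Algebra.algebraMapSubmonoid (C × (A ⧸ Kideal C F)) (Submonoid.powers f)) z
    obtain ⟨a, N, haN⟩ := hsurj y
    refine ⟨IsLocalization.mk' _ a (⟨f ^ (N + n), _, rfl⟩ : Submonoid.powers f), ?_⟩
    rw [IsLocalization.eq_mk'_iff_mul_eq]
    have hU : IsUnit (algebraMap (C × (A ⧸ Kideal C F))
        (Localization (Algebra.algebraMapSubmonoid (C × (A ⧸ Kideal C F)) (Submonoid.powers f)))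
        (algebraMap A (C × (A ⧸ Kideal C F)) (f ^ N))) :=
      IsLocalization.map_units _ (⟨_, f ^ N, ⟨N, rfl⟩, rfl⟩ :
        Algebra.algebraMapSubmonoid (C × (A ⧸ Kideal C F)) (Submonoid.powers f))
    apply hU.mul_right_cancel
    have hspec := IsLocalization.mk'_spec (Localization.Away f) a
      (⟨f ^ (N + n), _, rfl⟩ : Submonoid.powers f)
    change _ * algebraMap (C × (A ⧸ Kideal C F)) _
      (algebraMap A (C × (A ⧸ Kideal C F)) (f ^ n)) * _ = _
    have e1 : algebraMap (C × (A ⧸ Kideal C F))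
        (Localization (Algebra.algebraMapSubmonoid (C × (A ⧸ Kideal C F)) (Submonoid.powers f)))
        (algebraMap A (C × (A ⧸ Kideal C F)) (f ^ n)) *
        algebraMap (C × (A ⧸ Kideal C F))
        (Localization (Algebra.algebraMapSubmonoid (C × (A ⧸ Kideal C F)) (Submonoid.powers f)))
        (algebraMap A (C × (A ⧸ Kideal C F)) (f ^ N)) =
        algebraMap (Localization.Away f)
        (Localization (Algebra.algebraMapSubmonoid (C × (A ⧸ Kideal C F)) (Submonoid.powers f)))
        (algebraMap A (Localization.Away f) (f ^ (N + n))) := by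
      rw [hψ, pow_add, map_mul, map_mul, mul_comm]
    have e2 : algebraMap (Localization.Away f)
        (Localization (Algebra.algebraMapSubmonoid (C × (A ⧸ Kideal C F)) (Submonoid.powers f)))
        (IsLocalization.mk' (Localization.Away f) a
          (⟨f ^ (N + n), _, rfl⟩ : Submonoid.powers f)) *
        algebraMap (Localization.Away f)
        (Localization (Algebra.algebraMapSubmonoid (C × (A ⧸ Kideal C F)) (Submonoid.powers f)))
        (algebraMap A (Localization.Away f) (f ^ (N + n))) =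
        algebraMap (Localization.Away f)
        (Localization (Algebra.algebraMapSubmonoid (C × (A ⧸ Kideal C F)) (Submonoid.powers f)))
        (algebraMap A (Localization.Away f) a) := by
      rw [← map_mul]
      exact congrArg _ hspec
    rw [mul_assoc, e1, e2, hψ, haN, map_mul, mul_comm]

end Groth.Agent.S9303
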