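import Groth.Statements.S9310
import Groth.Agent.Lib.Helper14.FormalIFT

set_option autoImplicit false
universe u
open CAlg

namespace Groth.Agent.S9310

/-- Let K be a field, A = K[[x_1, ..., x_n]], and y_1, ..., y_n ∈ A a regular system of parameters (n
elements generating the maximal ideal). Then the substitution map K[[y_1, ..., y_n]] → A is an
isomorphism: f ↦ f(y_1, ..., y_n) is a bijection of K[[x_1, ..., x_n]] onto itself. -/
theorem result (K : Type u) [Field K] (n : ℕ)
    (y : Fin n → MvPowerSeries (Fin n) K)
    (hy : Ideal.span (Set.range y) = IsLocalRing.maximalIdeal (MvPowerSeries (Fin n) K)) :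
    Function.Bijective (MvPowerSeries.subst y : MvPowerSeries (Fin n) K → MvPowerSeries (Fin n) K) := by
  classical
  have hmem : ∀ f : MvPowerSeries (Fin n) K,
      f ∈ IsLocalRing.maximalIdeal (MvPowerSeries (Fin n) K) ↔
        MvPowerSeries.constantCoeff f = 0 := by
    intro f
    rw [IsLocalRing.mem_maximalIdeal, mem_nonunits_iff, MvPowerSeries.isUnit_iff_constantCoeff,
      isUnit_iff_ne_zero, not_not]
  apply Groth.Agent.Lib.Helper14.FormalIFT.subst_bijective_of_X_mem y
  · intro i
    rw [← hmem, ← hy]
    exact Ideal.subset_span ⟨i, rfl⟩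
  · intro l
    rw [hy, hmem]
    exact MvPowerSeries.constantCoeff_X l


end Groth.Agent.S9310
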