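import Mathlib
import Groth.Statements.S9311
import Groth.Agent.Lib.Helper14.FormalIFT

set_option autoImplicit false
universe u
open CAlg

namespace Groth.Agent.S9311

open MvPowerSeries IsLocalRing Groth.Agent.Lib.Helper14.FormalIFT

theorem isUnit_det_jacobian_of_X_mem_insert {σ : Type*} [Fintype σ] [DecidableEq σ] {Λ : Type*}
    [CommRing Λ] [IsLocalRing Λ] (π : Λ) (hπ : π ∈ maximalIdeal Λ)
    (y : σ → MvPowerSeries σ Λ) (h0 : ∀ i, constantCoeff (y i) = 0)
    (hX : ∀ l, (X l : MvPowerSeries σ Λ) ∈ Ideal.span (insert (C π) (Set.range y))) :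
    IsUnit (Matrix.of fun i j : σ => coeff (Finsupp.single j 1) (y i)).det := by
  have hX' : ∀ l, ∃ (b : MvPowerSeries σ Λ) (c : σ → MvPowerSeries σ Λ),
      (X l : MvPowerSeries σ Λ) = b * C π + ∑ j, c j * y j := by
    intro l
    obtain ⟨b, z, hz, hl⟩ := Ideal.mem_span_insert.1 (hX l)
    obtain ⟨c, hc⟩ := Ideal.mem_span_range_iff_exists_fun.mp hz
    exact ⟨b, c, by rw [hl, hc]⟩
  choose b c hbc using hX'
  obtain ⟨J, hJ⟩ : ∃ J : Matrix σ σ Λ,
      J = Matrix.of fun i j : σ => coeff (Finsupp.single j 1) (y i) := ⟨_, rfl⟩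
  rw [← hJ]
  have hmul : (Matrix.of fun l j => constantCoeff (c l j)) * J =
      1 - π • (Matrix.of fun l m => coeff (Finsupp.single m 1) (b l)) := by
    ext l m
    have key : Fil 2 ((X l : MvPowerSeries σ Λ) - b l * C π -
        ∑ j, C (constantCoeff (c l j)) * linForm J j) := by
      have e1 : (X l : MvPowerSeries σ Λ) - b l * C π = ∑ j, c l j * y j := by
        rw [hbc l]; ring
      rw [e1, ← Finset.sum_sub_distrib]
      apply Fil.sum
      intro j _
      have e2 : c l j * y j - C (constantCoeff (c l j)) * linForm J j =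
          (c l j - C (constantCoeff (c l j))) * y j +
            C (constantCoeff (c l j)) * (y j - linForm J j) := by ring
      rw [e2]
      have h3 : Fil 2 (y j - linForm J j) := by
        rw [hJ]; exact fil_two_sub_linForm y h0 j
      refine ((fil_one_of_constantCoeff ?_).mul (fil_one_of_constantCoeff (h0 j))).add
        (h3.C_mul _)
      rw [map_sub, constantCoeff_C, sub_self]
    have h2 := key (Finsupp.single m 1) (by rw [Finsupp.degree_single]; norm_num)
    rw [map_sub, map_sub, sub_eq_zero, map_sum] at h2
    simp only [coeff_C_mul, coeff_single_linForm, coeff_mul_C] at h2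
    rw [Matrix.mul_apply]
    simp only [Matrix.of_apply, Matrix.sub_apply, Matrix.smul_apply, Matrix.one_apply, smul_eq_mul]
    rw [← h2, coeff_index_single_X, mul_comm π]
    by_cases h : l = m
    · rw [if_pos h, if_pos h.symm]
    · rw [if_neg h, if_neg (Ne.symm h)]
  have hU : IsUnit (1 - π • (Matrix.of fun l m => coeff (Finsupp.single m 1) (b l)) :
      Matrix σ σ Λ).det := by
    apply IsLocalRing.notMem_maximalIdeal.mp
    rw [← IsLocalRing.residue_eq_zero_iff, RingHom.map_det]
    have h1 : (residue Λ).mapMatrix
        (1 - π • (Matrix.of fun l m => coeff (Finsupp.single m 1) (b l))) = 1 := by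
      ext l m
      rw [RingHom.mapMatrix_apply, Matrix.map_apply, Matrix.sub_apply, Matrix.smul_apply,
        smul_eq_mul, map_sub, map_mul, (residue_eq_zero_iff π).2 hπ, zero_mul, sub_zero,
        Matrix.one_apply, Matrix.one_apply]
      split_ifs <;> simp
    rw [h1, Matrix.det_one]
    exact one_ne_zero
  have hdet := congrArg Matrix.det hmul
  rw [Matrix.det_mul] at hdet
  rw [← hdet] at hU
  exact isUnit_of_mul_isUnit_right hU


/-- Let Λ be a Cohen ring (a complete discrete valuation ring whose maximal ideal is generated by a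
prime number p), B = Λ[[x_1, ..., x_n]], and y_1, ..., y_n ∈ B with zero constant terms such that p,
y_1, ..., y_n is a regular system of parameters of B (these n + 1 elements generate the maximal
ideal). Then the substitution map Λ[[y_1, ..., y_n]] → B is an isomorphism: f ↦ f(y_1, ..., y_n) is
a bijection of Λ[[x_1, ..., x_n]] onto itself. (The published statement allows the y_i to have
constant terms in pΛ, the substitution being defined through the (p, x)-adic topology of B; this row
asks the constant terms to vanish, the case in which substitution is defined coefficientwise with no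
topology on Λ.) -/
theorem result (Λ : Type u) [CommRing Λ] [IsDomain Λ]
    [IsDiscreteValuationRing Λ] [IsAdicComplete (IsLocalRing.maximalIdeal Λ) Λ] (p : ℕ) (hp : p.Prime)
    (hm : IsLocalRing.maximalIdeal Λ = Ideal.span {(p : Λ)}) (n : ℕ)
    (y : Fin n → MvPowerSeries (Fin n) Λ) (hy0 : ∀ i, MvPowerSeries.constantCoeff (y i) = 0)
    (hy : Ideal.span (insert (p : MvPowerSeries (Fin n) Λ) (Set.range y)) =
      IsLocalRing.maximalIdeal (MvPowerSeries (Fin n) Λ)) :
    Function.Bijective (MvPowerSeries.subst y : MvPowerSeries (Fin n) Λ → MvPowerSeries (Fin n) Λ) := by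
  have hπ : (p : Λ) ∈ maximalIdeal Λ := by
    rw [hm]; exact Ideal.mem_span_singleton_self _
  have hcast : (p : MvPowerSeries (Fin n) Λ) = C (p : Λ) :=
    (map_natCast (C : Λ →+* MvPowerSeries (Fin n) Λ) p).symm
  have hX : ∀ l, (X l : MvPowerSeries (Fin n) Λ) ∈
      Ideal.span (insert (C (p : Λ)) (Set.range y)) := by
    intro l
    rw [← hcast, hy, mem_maximalIdeal, mem_nonunits_iff, MvPowerSeries.isUnit_iff_constantCoeff,
      constantCoeff_X]
    exact not_isUnit_zero
  have hs : HasSubst y := hasSubst_of_constantCoeff_zero hy0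
  have hXs : ∀ i, substAlgHom (R := Λ) hs (X i) = y i := fun i => substAlgHom_X hs i
  have hbij : Function.Bijective (substAlgHom (R := Λ) hs) :=
    bijective_of_isLinPart_of_isUnit_det
      (J := Matrix.of fun i j : Fin n => coeff (Finsupp.single j 1) (y i))
      (fun i => by rw [hXs]; exact hy0 i)
      (fun i => by rw [hXs]; exact fil_two_sub_linForm y hy0 i)
      (isUnit_det_jacobian_of_X_mem_insert (p : Λ) hπ y hy0 hX)
  rw [← coe_substAlgHom hs]
  exact hbij

end Groth.Agent.S9311
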