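import Groth.Statements.S9313
import Groth.Agent.Lib.Helper26.ZMTIdem

set_option autoImplicit false
universe u
open CAlg

namespace Groth.Agent.S9313

/-- Let A be a ring with an ideal I and A → B a ring map of finite type, and suppose B/IB = C_1 × C_2
(given by an idempotent e of B/IB with C_1 = (B/IB)/(1 - e)) where C_1 is finite over A/I. Writing
B' for the integral closure of A in B, some g ∈ B' has idempotent image in B'/IB' lifting e (so
B'/IB' = C_1' × C_2' compatibly with the decomposition of B/IB), and the map B'_g → B_g is an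
isomorphism (whence C_1' = C_1). -/
theorem result (A B : Type u) [CommRing A] [CommRing B]
    [Algebra A B] [Algebra.FiniteType A B] (I : Ideal A) (e : B ⧸ Ideal.map (algebraMap A B) I)
    (he : IsIdempotentElem e)
    (hfin : Module.Finite (A ⧸ I) ((B ⧸ Ideal.map (algebraMap A B) I) ⧸ Ideal.span {1 - e})) :
    ∃ g : integralClosure A B,
      IsIdempotentElem (Ideal.Quotient.mk (Ideal.map (algebraMap A (integralClosure A B)) I) g) ∧
      Ideal.Quotient.mk (Ideal.map (algebraMap A B) I) (g : B) = e ∧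
      Function.Bijective (algebraMap (Localization.Away g)
        (Localization (Algebra.algebraMapSubmonoid B (Submonoid.powers g)))) := by
  obtain ⟨g₀, hg₀, hg₀e⟩ := Groth.Agent.Lib.Helper26.ZMTIdem.exists_good_lift A B I e he hfin
  have hint : g₀ ∈ integralClosure A B := hg₀.1
  have hy : (((⟨g₀, hint⟩ : integralClosure A B) * ⟨g₀, hint⟩ - ⟨g₀, hint⟩ :
      integralClosure A B) : B) ∈ I.map (algebraMap A B) := by
    rw [← Ideal.Quotient.eq_zero_iff_mem]
    show Ideal.Quotient.mk _ (g₀ * g₀ - g₀) = 0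
    rw [map_sub, map_mul, hg₀e, he.eq, sub_self]
  obtain ⟨c, hc⟩ := Groth.Agent.Lib.Helper26.ZMTIdem.exists_pow_mul_mem I
    (⟨g₀, hint⟩ : integralClosure A B) hg₀.2 _ hy
  refine ⟨(⟨g₀, hint⟩ : integralClosure A B) ^ (c + 1), ?_, ?_, ?_⟩
  · rw [map_pow]
    apply Groth.Agent.Lib.Helper26.ZMTIdem.isIdempotentElem_pow_succ
    rw [← map_pow, ← map_mul, ← map_sub, ← map_mul]
    exact Ideal.Quotient.eq_zero_iff_mem.mpr hc
  · show Ideal.Quotient.mk _ (g₀ ^ (c + 1)) = e
    rw [map_pow, hg₀e]
    exact he.pow_succ_eq c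
  · apply Groth.Agent.Lib.Helper26.ZMTIdem.bijective_of_good
    intro x
    exact (Groth.Agent.Lib.Helper26.ZMTIdem.Good.pow_succ hg₀ c).2 x

end Groth.Agent.S9313
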