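import Groth.Statements.S9324
import Groth.Agent.S0526
import Groth.Agent.Lib.Helper3.HenselPair
import Mathlib

set_option autoImplicit false
universe u
open Hensel

namespace Groth.Agent.S9324

open TensorProduct in
/-- Let `(A, I) → (B, J)` be a map of pairs, i.e. `I B ⊆ J`, such that `J` and `I B` have the same
radical, and suppose `A → B` is integral. Let `A^h` be a henselization of the pair `(A, I)`, `B^h` a
henselization of the pair `(B, J)`, and `φ : A^h → B^h` an `A`-algebra homomorphism (there is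
exactly one, by the universal property of `A^h`). Then the induced map `A^h ⊗_A B → B^h` is
bijective: henselization commutes with integral base change. -/
theorem result {A B Ah Bh : Type u} [CommRing A]
    [CommRing B] [CommRing Ah] [CommRing Bh] [Algebra A B] (I : Ideal A) (J : Ideal B)
    (hIJ : I.map (algebraMap A B) ≤ J) (hrad : J.radical = (I.map (algebraMap A B)).radical)
    [Algebra.IsIntegral A B] [Algebra A Ah] (hA : Hens2.IsPairHenselization A I Ah)
    [Algebra B Bh] [Algebra A Bh] [IsScalarTower A B Bh] (hB : Hens2.IsPairHenselization B J Bh)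
    (φ : Ah →ₐ[A] Bh) :
    Function.Bijective (Algebra.TensorProduct.productMap φ (IsScalarTower.toAlgHom A B Bh)) := by
  haveI := hA.1
  have hT1 : HenselianRing (Ah ⊗[A] B)
      ((I.map (algebraMap A Ah)).map (algebraMap Ah (Ah ⊗[A] B))) :=
    Groth.Agent.S0526.result Ah _ (Ah ⊗[A] B)
  let ιR : B →+* Ah ⊗[A] B :=
    (Algebra.TensorProduct.includeRight : B →ₐ[A] Ah ⊗[A] B).toRingHom
  have hιR : ∀ b, ιR b = (1 : Ah) ⊗ₜ[A] b := fun b => rfl
  have hIT : (I.map (algebraMap A Ah)).map (algebraMap Ah (Ah ⊗[A] B)) =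
      (I.map (algebraMap A B)).map ιR := by
    rw [Ideal.map_map, Ideal.map_map]
    congr 1
    ext a
    simp only [RingHom.comp_apply, hιR, Algebra.TensorProduct.algebraMap_apply]
    exact Algebra.TensorProduct.tmul_one_eq_one_tmul a
  have hJT : J.map ιR ≤ ((I.map (algebraMap A B)).map ιR).radical := by
    calc J.map ιR ≤ (J.radical).map ιR := Ideal.map_mono Ideal.le_radical
      _ = ((I.map (algebraMap A B)).radical).map ιR := by rw [hrad]
      _ ≤ _ := Ideal.map_radical_le ιR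
  have hT2 : HenselianRing (Ah ⊗[A] B) (J.map ιR) :=
    Groth.Agent.Lib.Helper3.henselianRing_of_le_radical (hIT ▸ hT1) hJT
  obtain ⟨Ψ, hΨ, -⟩ := hB.2 (Ah ⊗[A] B) (J.map ιR) ιR hT2 le_rfl
  set Φ := Algebra.TensorProduct.productMap φ (IsScalarTower.toAlgHom A B Bh) with hΦ
  have hΦr : ∀ b, Φ ((1 : Ah) ⊗ₜ[A] b) = algebraMap B Bh b := by
    intro b; simp [Φ]
  have hΦl : ∀ x, Φ (x ⊗ₜ[A] (1 : B)) = φ x := by
    intro x; simp [Φ]
  have hΨr : ∀ b, Ψ (algebraMap B Bh b) = (1 : Ah) ⊗ₜ[A] b := fun b => RingHom.congr_fun hΨ b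
  have h1 : ∀ y, Φ (Ψ y) = y := by
    obtain ⟨g₀, -, hu⟩ := hB.2 Bh _ (algebraMap B Bh) hB.1 le_rfl
    have e1 : (Φ : Ah ⊗[A] B →+* Bh).comp Ψ = g₀ := hu _ (by
      show ((Φ : Ah ⊗[A] B →+* Bh).comp Ψ).comp (algebraMap B Bh) = algebraMap B Bh
      ext b
      simp only [RingHom.comp_apply, hΨr]
      exact hΦr b)
    have e2 : RingHom.id Bh = g₀ := hu _ (RingHom.id_comp _)
    intro y
    exact RingHom.congr_fun (e1.trans e2.symm) y
  have hleft : ∀ x, Ψ (φ x) = x ⊗ₜ[A] (1 : B) := by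
    have hf : I.map ((algebraMap Ah (Ah ⊗[A] B)).comp (algebraMap A Ah)) ≤
        (I.map (algebraMap A Ah)).map (algebraMap Ah (Ah ⊗[A] B)) := by
      rw [← Ideal.map_map]
    obtain ⟨g₀, -, hu⟩ := hA.2 (Ah ⊗[A] B) _ ((algebraMap Ah (Ah ⊗[A] B)).comp (algebraMap A Ah))
      hT1 hf
    have e1 : Ψ.comp (φ : Ah →+* Bh) = g₀ := hu _ (by
      show (Ψ.comp (φ : Ah →+* Bh)).comp (algebraMap A Ah) = _
      ext a
      simp only [RingHom.comp_apply, RingHom.coe_coe, φ.commutes,
        Algebra.TensorProduct.algebraMap_apply]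
      rw [IsScalarTower.algebraMap_apply A B Bh, hΨr]
      exact (Algebra.TensorProduct.tmul_one_eq_one_tmul a).symm)
    have e2 : algebraMap Ah (Ah ⊗[A] B) = g₀ := hu _ rfl
    intro x
    have := RingHom.congr_fun (e1.trans e2.symm) x
    simpa [Algebra.TensorProduct.algebraMap_apply] using this
  have h2 : ∀ t, Ψ (Φ t) = t := by
    intro t
    induction t using TensorProduct.induction_on with
    | zero => simp
    | tmul x b =>
      have : x ⊗ₜ[A] b = (x ⊗ₜ[A] (1 : B)) * ((1 : Ah) ⊗ₜ[A] b) := by simp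
      rw [this, map_mul, map_mul, hΦl, hΦr, hleft, hΨr]
    | add x y hx hy => rw [map_add, map_add, hx, hy]
  exact Function.bijective_iff_has_inverse.mpr ⟨Ψ, h2, h1⟩

end Groth.Agent.S9324
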