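import Groth.Statements.S9326
import Mathlib

set_option autoImplicit false
universe u
open CAlg

namespace Groth.Agent.S9326

open Topology in
theorem key {N M : Type*} [AddCommGroup N] [AddCommGroup M] [UniformSpace N] [IsUniformAddGroup N]
    [TopologicalSpace M] [IsTopologicalAddGroup M] [T2Space M] [CompleteSpace N]
    [NonarchimedeanAddGroup N] [FirstCountableTopology N] (u : N →+ M) (hu : Continuous u)
    (hB : ∀ V : OpenAddSubgroup N, ¬ IsNowhereDense (u '' (V : Set N))) (V : OpenAddSubgroup N) :
    u '' (V : Set N) ∈ 𝓝 (0 : M) := by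
  -- closures of images of open subgroups are neighbourhoods of zero
  have hcl : ∀ W : OpenAddSubgroup N, closure (u '' (W : Set N)) ∈ 𝓝 (0 : M) := by
    intro W
    have hne : (interior (closure (u '' (W : Set N)))).Nonempty := by
      rw [Set.nonempty_iff_ne_empty]
      exact hB W
    obtain ⟨z, hz⟩ := hne
    have hco : ((AddSubgroup.map u (W : AddSubgroup N)).topologicalClosure : Set M) =
        closure (u '' (W : Set N)) := by
      rw [AddSubgroup.topologicalClosure_coe, AddSubgroup.coe_map]
      rfl
    have hopen : IsOpen ((AddSubgroup.map u (W : AddSubgroup N)).topologicalClosure : Set M) := by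
      apply AddSubgroup.isOpen_of_mem_nhds (g := z)
      rw [hco]
      exact mem_interior_iff_mem_nhds.mp hz
    rw [← hco]
    exact hopen.mem_nhds (zero_mem _)
  -- a decreasing basis of open subgroups inside V
  obtain ⟨x, hx⟩ := (𝓝 (0 : N)).exists_antitone_basis
  have hW : ∀ n, ∃ W : OpenAddSubgroup N, (W : Set N) ⊆ x n := fun n =>
    NonarchimedeanAddGroup.is_nonarchimedean _ (hx.toHasBasis.mem_of_mem trivial)
  choose W' hW' using hW
  have hinf : ∀ (A B : OpenAddSubgroup N), ((A ⊓ B : OpenAddSubgroup N) : Set N) ⊆ (B : Set N) :=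
    fun A B a ha => (show a ∈ (A : Set N) ∩ (B : Set N) from ha).2
  obtain ⟨W, hW0, hWsucc⟩ : ∃ W : ℕ → OpenAddSubgroup N, W 0 = V ⊓ W' 0 ∧
      ∀ n, W (n + 1) = W n ⊓ W' (n + 1) :=
    ⟨fun n => Nat.rec (motive := fun _ => OpenAddSubgroup N) (V ⊓ W' 0)
      (fun k Wk => Wk ⊓ W' (k + 1)) n, rfl, fun n => rfl⟩
  have hWanti : Antitone W :=
    antitone_nat_of_succ_le (fun n => by rw [hWsucc]; exact inf_le_left)
  have hWV : W 0 ≤ V := by rw [hW0]; exact inf_le_left
  have hWx : ∀ n, (W n : Set N) ⊆ x n := by
    intro n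
    cases n with
    | zero => rw [hW0]; exact (hinf _ _).trans (hW' 0)
    | succ k => rw [hWsucc]; exact (hinf _ _).trans (hW' (k + 1))
  have hWbasis : ∀ U ∈ 𝓝 (0 : N), ∃ n, (W n : Set N) ⊆ U := by
    intro U hU
    obtain ⟨n, -, hn⟩ := hx.toHasBasis.mem_iff.mp hU
    exact ⟨n, (hWx n).trans hn⟩
  -- the closures of the images shrink to zero
  have hinter : ∀ z : M, (∀ n, z ∈ closure (u '' (W n : Set N))) → z = 0 := by
    intro z hz
    by_contra hne
    have h1 : ({z}ᶜ : Set M) ∈ 𝓝 (0 : M) :=
      isOpen_compl_singleton.mem_nhds (fun h => hne h.symm)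
    obtain ⟨C, hC0, hCcl, hCsub⟩ := exists_mem_nhds_isClosed_subset h1
    have h2 : u ⁻¹' C ∈ 𝓝 (0 : N) := hu.continuousAt (by rw [map_zero]; exact hC0)
    obtain ⟨n, hn⟩ := hWbasis _ h2
    have h3 : closure (u '' (W n : Set N)) ⊆ C :=
      hCcl.closure_subset_iff.mpr (Set.image_subset_iff.mpr hn)
    exact hCsub (h3 (hz n)) rfl
  -- one approximation step
  have hstep : ∀ (n : ℕ) (z : M), z ∈ closure (u '' (W n : Set N)) →
      ∃ a : N, a ∈ (W n : Set N) ∧ z - u a ∈ closure (u '' (W (n + 1) : Set N)) := by
    intro n z hz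
    have h1 : (fun m : M => z - m) ⁻¹' (closure (u '' (W (n + 1) : Set N))) ∈ 𝓝 z := by
      have hc : ContinuousAt (fun m : M => z - m) z :=
        (continuous_const.sub continuous_id).continuousAt
      exact hc (by simpa using hcl (W (n + 1)))
    obtain ⟨m, hm1, a, ha, rfl⟩ := mem_closure_iff_nhds.mp hz _ h1
    exact ⟨a, ha, hm1⟩
  -- closure of the image of W 0 is contained in the image of W 0
  have hmain : closure (u '' (W 0 : Set N)) ⊆ u '' (W 0 : Set N) := by
    intro y hy
    choose! step hstep1 hstep2 using hstep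
    obtain ⟨r, hr0, hrs⟩ : ∃ r : ℕ → M, r 0 = y ∧ ∀ n, r (n + 1) = r n - u (step n (r n)) :=
      ⟨fun n => Nat.rec (motive := fun _ => M) y (fun k rk => rk - u (step k rk)) n, rfl,
        fun n => rfl⟩
    obtain ⟨s, hs0, hss⟩ : ∃ s : ℕ → N, s 0 = 0 ∧ ∀ n, s (n + 1) = s n + step n (r n) :=
      ⟨fun n => Nat.rec (motive := fun _ => N) 0 (fun k sk => sk + step k (r k)) n, rfl,
        fun n => rfl⟩
    have hr : ∀ n, r n ∈ closure (u '' (W n : Set N)) := by
      intro n
      induction n with
      | zero => rw [hr0]; exact hy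
      | succ k ih => rw [hrs]; exact hstep2 k (r k) ih
    have hxs : ∀ n, step n (r n) ∈ (W n : Set N) := fun n => hstep1 n (r n) (hr n)
    have hrs' : ∀ n, r n = y - u (s n) := by
      intro n
      induction n with
      | zero => rw [hr0, hs0, map_zero, sub_zero]
      | succ k ih => rw [hrs, hss, map_add, ih]; abel
    have hdiff : ∀ k j, k ≤ j → s j - s k ∈ W k := by
      intro k j hkj
      induction j, hkj using Nat.le_induction with
      | base => rw [sub_self]; exact zero_mem _
      | succ j hkj ih =>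
        have h1 : s (j + 1) - s k = (s j - s k) + step j (r j) := by rw [hss]; abel
        rw [h1]
        exact add_mem ih (hWanti hkj (hxs j))
    have hcauchy : CauchySeq s := by
      rw [cauchySeq_iff_tendsto, uniformity_eq_comap_nhds_zero N, Filter.tendsto_comap_iff,
        Filter.tendsto_def]
      intro U hU
      obtain ⟨k, hk⟩ := hWbasis U hU
      rw [Filter.mem_atTop_sets]
      refine ⟨(k, k), fun p hp => ?_⟩
      have hp1 : k ≤ p.1 := hp.1
      have hp2 : k ≤ p.2 := hp.2
      show s p.2 - s p.1 ∈ U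
      apply hk
      have h1 : s p.2 - s p.1 = (s p.2 - s k) - (s p.1 - s k) := by abel
      rw [h1]
      exact sub_mem (hdiff k p.2 hp2) (hdiff k p.1 hp1)
    obtain ⟨a, ha⟩ := cauchySeq_tendsto_of_complete hcauchy
    have hsW : ∀ n, s n ∈ (W 0 : Set N) := by
      intro n
      have h1 := hdiff 0 n (Nat.zero_le n)
      rw [hs0, sub_zero] at h1
      exact h1
    have haW : a ∈ (W 0 : Set N) :=
      (W 0).isClosed.mem_of_tendsto ha (Filter.Eventually.of_forall hsW)
    refine ⟨a, haW, ?_⟩
    have hlim : Filter.Tendsto (fun n => r n) Filter.atTop (𝓝 (y - u a)) := by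
      have h1 : Filter.Tendsto (fun n => y - u (s n)) Filter.atTop (𝓝 (y - u a)) :=
        tendsto_const_nhds.sub ((hu.tendsto a).comp ha)
      exact h1.congr (fun n => (hrs' n).symm)
    have hz : y - u a = 0 := by
      apply hinter
      intro n
      refine isClosed_closure.mem_of_tendsto hlim ?_
      rw [Filter.eventually_atTop]
      exact ⟨n, fun j hj => closure_mono
        (Set.image_mono (SetLike.coe_subset_coe.mpr (hWanti hj))) (hr j)⟩
    exact (sub_eq_zero.mp hz).symm
  have h5 : u '' (W 0 : Set N) ∈ 𝓝 (0 : M) := Filter.mem_of_superset (hcl (W 0)) hmain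
  exact Filter.mem_of_superset h5 (Set.image_mono (SetLike.coe_subset_coe.mpr hWV))

/-- Let `u : N → M` be a continuous homomorphism of topological abelian groups. Assume `M` is Hausdorff
and `N` is Hausdorff and complete, linearly topologized (every neighbourhood of zero contains an
open subgroup) and first countable (zero has a countable basis of neighbourhoods). Then exactly one
of two things holds: `u` is an open map; or there is an open subgroup of `N` whose image is nowhere
dense in `M`. -/
theorem result {N M : Type u} [AddCommGroup N]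
    [AddCommGroup M] [UniformSpace N] [IsUniformAddGroup N] [TopologicalSpace M]
    [IsTopologicalAddGroup M] [T2Space M] [T2Space N] [CompleteSpace N] [NonarchimedeanAddGroup N]
    [FirstCountableTopology N] (u : N →+ M) (hu : Continuous u) :
    Xor (IsOpenMap u) (∃ V : OpenAddSubgroup N, IsNowhereDense (u '' (V : Set N))) := by
  by_cases hB : ∃ V : OpenAddSubgroup N, IsNowhereDense (u '' (V : Set N))
  · right
    refine ⟨hB, ?_⟩
    intro hopen
    obtain ⟨V, hV⟩ := hB
    have h1 : IsOpen (u '' (V : Set N)) := hopen _ V.isOpen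
    have h2 : (0 : M) ∈ interior (closure (u '' (V : Set N))) :=
      interior_mono subset_closure (by rw [h1.interior_eq]; exact ⟨0, zero_mem V, map_zero u⟩)
    have hV' : interior (closure (u '' (V : Set N))) = ∅ := hV
    rw [hV'] at h2
    exact (Set.mem_empty_iff_false _).mp h2
  · left
    refine ⟨?_, hB⟩
    have hB' : ∀ V : OpenAddSubgroup N, ¬ IsNowhereDense (u '' (V : Set N)) :=
      fun V hV => hB ⟨V, hV⟩
    rw [isOpenMap_iff_nhds_le]
    intro a S hS
    rw [Filter.mem_map] at hS
    have h0 : (fun x => a + x) ⁻¹' (u ⁻¹' S) ∈ nhds (0 : N) := by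
      have hc : ContinuousAt (fun x : N => a + x) 0 :=
        (continuous_const.add continuous_id).continuousAt
      exact hc (by simpa using hS)
    obtain ⟨V, hV⟩ := NonarchimedeanAddGroup.is_nonarchimedean _ h0
    have h1 := key u hu hB' V
    have h2 : (fun m => m - u a) ⁻¹' (u '' (V : Set N)) ∈ nhds (u a) := by
      have hc : ContinuousAt (fun m : M => m - u a) (u a) :=
        (continuous_id.sub continuous_const).continuousAt
      exact hc (by simpa using h1)
    refine Filter.mem_of_superset h2 ?_
    rintro m ⟨v, hv, hvm⟩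
    have hvm' : u v = m - u a := hvm
    have h3 : m = u (a + v) := by rw [map_add, hvm']; abel
    rw [h3]
    exact hV hv

end Groth.Agent.S9326
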