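import Groth.Statements.S9331
import Mathlib

set_option autoImplicit false
universe u
open QFin

namespace Groth.Agent.S9331

open AlgebraicGeometry CategoryTheory in
/-- Let f : X → S be a morphism of schemes, x ∈ X, s = f x. If κ(x) is algebraic over κ(s) (through the
residue field map of f at x), then x is a closed point of the fibre X_s, and if in addition s is
closed in S then x is closed in X. -/
theorem result {X S : Scheme.{u}} (f : X ⟶ S) (x : X)
    (halg : @Algebra.IsAlgebraic (S.residueField (f.base x)) (X.residueField x) _ _ (f.residueFieldMap x).hom.toAlgebra) :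
    IsClosed ({f.asFiber x} : Set ↑(f.fiber (f.base x))) ∧
      (IsClosed ({f.base x} : Set ↑S) → IsClosed ({x} : Set ↑X)) := by
  have h1 : IsClosed ({f.asFiber x} : Set ↑(f.fiber (f.base x))) := by
    have hcov : TopologicalSpace.IsOpenCover
        (fun i : (f.fiber (f.base x)).affineOpens => (i : (f.fiber (f.base x)).Opens)) :=
      iSup_affineOpens_eq_top (f.fiber (f.base x))
    rw [hcov.isClosed_iff_coe_preimage]
    intro U
    by_cases hxU : f.asFiber x ∈ U.1
    · -- the morphism `Spec κ(x) ⟶ U`
      have hrange : Set.range (f.asFiberHom x) ⊆ Set.range U.1.ι := by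
        rw [Scheme.Hom.range_asFiberHom, Scheme.Opens.range_ι]
        simpa using hxU
      let gU : Spec (X.residueField x) ⟶ U.1.toScheme :=
        IsOpenImmersion.lift U.1.ι (f.asFiberHom x) hrange
      have hgU : gU ≫ U.1.ι = f.asFiberHom x := IsOpenImmersion.lift_fac _ _ _
      have hU : IsAffineOpen U.1 := U.2
      obtain ⟨β, hβ⟩ := Spec.map_surjective (gU ≫ hU.isoSpec.hom)
      obtain ⟨α, hα⟩ := Spec.map_surjective
        (hU.isoSpec.inv ≫ U.1.ι ≫ f.fiberToSpecResidueField (f.base x))
      have hcomp : α ≫ β = f.residueFieldMap x := by
        apply Spec.map_injective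
        rw [Spec.map_comp, hα, hβ]
        simp only [Category.assoc, Iso.hom_inv_id_assoc]
        rw [reassoc_of% hgU, f.asFiberHom_fiberToSpecResidueField]
      -- integrality
      have hφ : (f.residueFieldMap x).hom.IsIntegral := by
        let _ := (f.residueFieldMap x).hom.toAlgebra
        have : Algebra.IsIntegral (S.residueField (f.base x)) (X.residueField x) :=
          Algebra.IsAlgebraic.isIntegral
        exact algebraMap_isIntegral_iff.mpr this
      have hβint : β.hom.IsIntegral := by
        apply RingHom.IsIntegral.tower_top α.hom β.hom
        rw [← CommRingCat.hom_comp, hcomp]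
        exact hφ
      have hclosed : IsClosed (Set.range (Spec.map β)) := by
        have := (PrimeSpectrum.isClosedMap_comap_of_isIntegral β.hom hβint).isClosed_range
        exact this
      -- transfer to `U`
      have hset : (Subtype.val ⁻¹' ({f.asFiber x} : Set ↑(f.fiber (f.base x))) : Set ↥U.1) =
          (hU.isoSpec.hom) ⁻¹' (Set.range (Spec.map β)) := by
        ext y
        simp only [Set.mem_preimage, Set.mem_singleton_iff, Set.mem_range]
        constructor
        · intro hy
          refine ⟨default, ?_⟩
          rw [hβ, Scheme.Hom.comp_apply]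
          congr 1
          apply Subtype.ext
          have h2 : (gU ≫ U.1.ι) default = f.asFiber x := by
            rw [hgU, Scheme.Hom.asFiberHom_apply]
          rw [Scheme.Hom.comp_apply] at h2
          exact h2.trans hy.symm
        · rintro ⟨z, hz⟩
          rw [hβ, Scheme.Hom.comp_apply] at hz
          have hinj : Function.Injective (hU.isoSpec.hom) :=
            (hU.isoSpec.hom).isOpenEmbedding.injective
          have h3 := hinj hz
          rw [← h3]
          have h2 : (gU ≫ U.1.ι) z = f.asFiber x := by
            rw [hgU, Scheme.Hom.asFiberHom_apply]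
          rw [Scheme.Hom.comp_apply] at h2
          exact h2
      have hfin : IsClosed (Subtype.val ⁻¹' ({f.asFiber x} : Set ↑(f.fiber (f.base x))) :
          Set ↥U.1) := by
        rw [hset]
        exact hclosed.preimage (hU.isoSpec.hom).continuous
      exact hfin
    · convert isClosed_empty
      ext ⟨y, hy⟩
      simp only [Set.mem_preimage, Set.mem_singleton_iff, Set.mem_empty_iff_false, iff_false]
      rintro rfl
      exact hxU hy
  refine ⟨h1, fun hs => ?_⟩
  have hemb : Topology.IsClosedEmbedding (f.fiberι (f.base x)) :=
    ⟨(f.fiberι _).isEmbedding, by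
      rw [f.range_fiberι]; exact hs.preimage f.continuous⟩
  have := hemb.isClosedMap _ h1
  rwa [Set.image_singleton, f.fiberι_asFiber] at this

end Groth.Agent.S9331
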