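import Groth.Statements.S9332
import Mathlib

set_option autoImplicit false
universe u
open QFin

namespace Groth.Agent.S9332

open AlgebraicGeometry CategoryTheory in
/-- Let f : X → S be locally of finite type and x ∈ X. Then x is closed in its fibre X_{f x} if and only
if κ(x) is a finite extension of κ(f x) (via the residue field map of f at x). -/
theorem result {X S : Scheme.{u}} (f : X ⟶ S) [LocallyOfFiniteType f] (x : X) :
    IsClosed ({f.asFiber x} : Set ↑(f.fiber (f.base x))) ↔ (f.residueFieldMap x).hom.Finite := by
  have hfib : LocallyOfFiniteType (f.fiberToSpecResidueField (f.base x)) :=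
    MorphismProperty.pullback_snd _ _ inferInstance
  have hcomp : f.asFiberHom x ≫ f.fiberToSpecResidueField _ = Spec.map (f.residueFieldMap _) :=
    f.asFiberHom_fiberToSpecResidueField x
  constructor
  · intro hcl
    have hrange : IsClosed (Set.range (f.asFiberHom x)) := by
      rw [Scheme.Hom.range_asFiberHom]; exact hcl
    have h1 : IsClosedImmersion (f.asFiberHom x) := .of_isPreimmersion _ hrange
    have h2 : LocallyOfFiniteType (Spec.map (f.residueFieldMap x)) := by
      rw [← hcomp]; infer_instance
    have h3 : IsFinite (Spec.map (f.residueFieldMap x)) :=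
      isFinite_iff_locallyOfFiniteType_of_jacobsonSpace.mpr h2
    exact (IsFinite.SpecMap_iff _).mp h3
  · intro hfin
    have h3 : IsFinite (Spec.map (f.residueFieldMap x)) := (IsFinite.SpecMap_iff _).mpr hfin
    have h2 : LocallyOfFiniteType (f.asFiberHom x ≫ f.fiberToSpecResidueField _) := by
      rw [hcomp]; infer_instance
    have h1 : LocallyOfFiniteType (f.asFiberHom x) :=
      locallyOfFiniteType_of_comp (f.asFiberHom x) (f.fiberToSpecResidueField _)
    have hpt : (default : Spec (X.residueField x)) ∈ closedPoints (Spec (X.residueField x)) := by
      rw [mem_closedPoints_iff]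
      have : ({default} : Set (Spec (X.residueField x))) = Set.univ := by
        ext y; simp [Subsingleton.elim y default]
      rw [this]; exact isClosed_univ
    have := (f.asFiberHom x).closePoints_subset_preimage_closedPoints hpt
    rw [Set.mem_preimage, mem_closedPoints_iff, Scheme.Hom.asFiberHom_apply] at this
    exact this

end Groth.Agent.S9332
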