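import Groth.Statements.S9333
import Mathlib
import Groth.Agent.S9332
import Groth.Agent.S9331

set_option autoImplicit false
universe u
open QFin

namespace Groth.Agent.S9333

open TensorProduct in
/-- An epimorphism of fields is surjective. -/
lemma surjective_of_isEpi_field {K L : Type*} [Field K] [Field L] [Algebra K L]
    [Algebra.IsEpi K L] : Function.Surjective (algebraMap K L) := by
  intro x
  by_contra hx
  have hx' : x ∉ (LinearMap.range (Algebra.linearMap K L)) := fun ⟨a, ha⟩ => hx ⟨a, ha⟩
  obtain ⟨f, hfx, hf⟩ := Submodule.exists_le_ker_of_notMem hx'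
  have hf1 : f 1 = 0 := hf ⟨1, by simp⟩
  let m : L ⊗[K] L →ₗ[K] L := TensorProduct.lift
    (LinearMap.mk₂ K (fun a b => f b • a) (fun a₁ a₂ b => smul_add _ _ _)
      (fun c a b => smul_comm _ _ _) (fun a b₁ b₂ => by rw [map_add, add_smul])
      (fun c a b => by rw [map_smul, smul_eq_mul, mul_smul]))
  have h1 := congrArg m (((Algebra.isEpi_iff_forall_one_tmul_eq K L).mp inferInstance) x)
  simp only [m, TensorProduct.lift.tmul, LinearMap.mk₂_apply, hf1, zero_smul] at h1
  rcases smul_eq_zero.mp h1 with h2 | h2
  · exact hfx h2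
  · exact one_ne_zero h2

open CategoryTheory in
/-- An epimorphism from a ring integral over a field to a field is surjective. -/
lemma surjective_of_epi_of_isIntegral {k A F : Type u} [Field k] [CommRing A] [Field F]
    (ι : k →+* A) (hι : ι.IsIntegral) (φ : A →+* F) (hφ : Epi (CommRingCat.ofHom φ)) :
    Function.Surjective φ := by
  haveI : (RingHom.ker φ).IsPrime := RingHom.ker_isPrime φ
  haveI hmax : (RingHom.ker φ).IsMaximal := by
    apply Ideal.isMaximal_of_isIntegral_of_isMaximal_comap' ι hι
    have : (RingHom.ker φ).comap ι = ⊥ := by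
      have hp : ((RingHom.ker φ).comap ι).IsPrime := Ideal.comap_isPrime _ _
      exact (Ideal.eq_bot_or_top _).resolve_right hp.ne_top
    rw [this]
    exact Ideal.bot_isMaximal
  letI : Field (A ⧸ RingHom.ker φ) := Ideal.Quotient.field _
  let ψ : A ⧸ RingHom.ker φ →+* F := RingHom.kerLift φ
  have hfac : CommRingCat.ofHom φ =
      CommRingCat.ofHom (Ideal.Quotient.mk (RingHom.ker φ)) ≫ CommRingCat.ofHom ψ := by
    ext a
    rfl
  haveI : Epi (CommRingCat.ofHom (Ideal.Quotient.mk (RingHom.ker φ)) ≫ CommRingCat.ofHom ψ) :=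
    hfac ▸ hφ
  haveI : Epi (CommRingCat.ofHom ψ) := epi_of_epi (CommRingCat.ofHom (Ideal.Quotient.mk _)) _
  letI : Algebra (A ⧸ RingHom.ker φ) F := ψ.toAlgebra
  haveI : Algebra.IsEpi (A ⧸ RingHom.ker φ) F :=
    CommRingCat.epi_iff_epi.mp (inferInstanceAs (Epi (CommRingCat.ofHom ψ)))
  have hψ : Function.Surjective ψ := surjective_of_isEpi_field
  intro y
  obtain ⟨z, rfl⟩ := hψ y
  obtain ⟨a, rfl⟩ := Ideal.Quotient.mk_surjective z
  exact ⟨a, rfl⟩

open CategoryTheory in
lemma isIntegral_comp_cat {A B C : CommRingCat.{u}} (a : A ⟶ B) (b : B ⟶ C)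
    (ha : a.hom.IsIntegral) (hb : b.hom.IsIntegral) : (a ≫ b).hom.IsIntegral :=
  RingHom.IsIntegral.trans _ _ ha hb

open AlgebraicGeometry CategoryTheory Limits Scheme.Pullback in
/-- The residue field of a point of a fibre product is integral over the residue field of its
second projection if the residue field of its first projection is integral over the base. -/
lemma isIntegral_residueFieldMap_snd {X Y S : Scheme.{u}} (f : X ⟶ S) (g : Y ⟶ S)
    (t : ↑(pullback f g))
    (hint : (f.residueFieldMap (pullback.fst f g t)).hom.IsIntegral) :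
    ((pullback.snd f g).residueFieldMap t).hom.IsIntegral := by
  let T := Triplet.ofPoint t
  let φ := ofPointTensor t
  have hinr : T.tensorInr ≫ φ = (pullback.snd f g).residueFieldMap t := pushout.inr_desc _ _ _
  have ha : ((S.residueFieldCongr T.hx).inv ≫ f.residueFieldMap T.x).hom.IsIntegral := by
    exact isIntegral_comp_cat _ _ (RingHom.isIntegral_of_surjective _
      (ConcreteCategory.bijective_of_isIso (S.residueFieldCongr T.hx).inv).2) hint
  have hinl := RingHom.IsStableUnderBaseChange.pushout_inl
    RingHom.isIntegral_isStableUnderBaseChange RingHom.isIntegral_respectsIso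
    ((S.residueFieldCongr T.hy).inv ≫ g.residueFieldMap T.y)
    ((S.residueFieldCongr T.hx).inv ≫ f.residueFieldMap T.x) ha
  have hinrint : T.tensorInr.hom.IsIntegral := by
    have h2 : T.tensorInr = pushout.inl ((S.residueFieldCongr T.hy).inv ≫ g.residueFieldMap T.y)
        ((S.residueFieldCongr T.hx).inv ≫ f.residueFieldMap T.x) ≫ (pushoutSymmetry _ _).hom :=
      (inl_comp_pushoutSymmetry_hom _ _).symm
    rw [h2]
    exact isIntegral_comp_cat _ _ hinl (RingHom.isIntegral_of_surjective _
      (ConcreteCategory.bijective_of_isIso (pushoutSymmetry _ _).hom).2)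
  have hmono : Mono (Spec.map φ) := by
    have h1 : Spec.map φ ≫ T.SpecTensorTo = (pullback f g).fromSpecResidueField t :=
      ofPointTensor_SpecTensorTo t
    haveI : Mono (Spec.map φ ≫ T.SpecTensorTo) := by rw [h1]; infer_instance
    exact mono_of_mono (Spec.map φ) T.SpecTensorTo
  have hepi : Epi φ := by
    haveI : Mono φ.op := Scheme.Spec.mono_of_mono_map hmono
    exact unop_epi_of_mono φ.op
  have hsurj : Function.Surjective φ.hom :=
    surjective_of_epi_of_isIntegral T.tensorInr.hom hinrint φ.hom hepi
  rw [← hinr]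
  exact isIntegral_comp_cat _ _ hinrint (RingHom.isIntegral_of_surjective _ hsurj)

open AlgebraicGeometry CategoryTheory in
/-- Let f : X → S be locally of finite type, g : S' → S any morphism and X' = X ×_S S' with projections
g' : X' → X and f' : X' → S'. If x' ∈ X' maps to x ∈ X and x is closed in the fibre X_{f x}, then x'
is closed in the fibre X'_{f' x'}. -/
theorem result {X S X' S' : Scheme.{u}} (f : X ⟶ S) [LocallyOfFiniteType f] (g : S' ⟶ S)
    (g' : X' ⟶ X) (f' : X' ⟶ S') (hsq : IsPullback g' f' f g) (x' : X')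
    (hx : IsClosed ({f.asFiber (g'.base x')} : Set ↑(f.fiber (f.base (g'.base x'))))) :
    IsClosed ({f'.asFiber x'} : Set ↑(f'.fiber (f'.base x'))) := by
  let e := hsq.isoPullback
  have hfst : Limits.pullback.fst f g (e.hom x') = g' x' := by
    rw [← Scheme.Hom.comp_apply, hsq.isoPullback_hom_fst]
  have hx2 : IsClosed ({f.asFiber (Limits.pullback.fst f g (e.hom x'))} :
      Set ↑(f.fiber (f.base (Limits.pullback.fst f g (e.hom x'))))) := hfst.symm ▸ hx
  have hfin : (f.residueFieldMap (Limits.pullback.fst f g (e.hom x'))).hom.Finite :=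
    (Groth.Agent.S9332.result f _).mp hx2
  have hint := isIntegral_residueFieldMap_snd f g (e.hom x') hfin.to_isIntegral
  have hf' : f' = e.hom ≫ Limits.pullback.snd f g := hsq.isoPullback_hom_snd.symm
  have h1 := Scheme.Hom.residueFieldMap_congr hf' x'
  rw [Scheme.residueFieldMap_comp] at h1
  have hint' : (f'.residueFieldMap x').hom.IsIntegral := by
    rw [h1]
    refine isIntegral_comp_cat _ _ (RingHom.isIntegral_of_surjective _ ?_)
      (isIntegral_comp_cat _ _ hint (RingHom.isIntegral_of_surjective _ ?_))
    · exact (ConcreteCategory.bijective_of_isIso (S'.residueFieldCongr _).hom).2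
    · exact (ConcreteCategory.bijective_of_isIso (e.hom.residueFieldMap x')).2
  letI := (f'.residueFieldMap x').hom.toAlgebra
  haveI : Algebra.IsIntegral (S'.residueField (f'.base x')) (X'.residueField x') := ⟨hint'⟩
  exact (Groth.Agent.S9331.result f' x' Algebra.IsIntegral.isAlgebraic).1

end Groth.Agent.S9333
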