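import Groth.Statements.S9334
import Mathlib
import Groth.Agent.Lib.Helper14.IsolatedPt

set_option autoImplicit false
universe u
open QFin

namespace Groth.Agent.S9334

open AlgebraicGeometry CategoryTheory in
/-- Let f : X → S be locally of finite type, x ∈ X, and write s = f x. The morphism f is quasi-finite at
x exactly when x is a closed point of the fibre X_s and no point x' ≠ x of X_s specializes to x. -/
theorem result {X S : Scheme.{u}} (f : X ⟶ S) [LocallyOfFiniteType f] (x : X) :
    f.QuasiFiniteAt x ↔
      (IsClosed ({f.asFiber x} : Set ↑(f.fiber (f.base x))) ∧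
        ∀ x' : ↑(f.fiber (f.base x)), x' ⤳ f.asFiber x → x' = f.asFiber x) := by
  have : IsLocallyNoetherian (f.fiber (f.base x)) := by
    unfold Scheme.Hom.fiber; infer_instance
  constructor
  · intro h
    have hc := h.isClopen_singleton_asFiber
    exact ⟨hc.1, fun x' hx' => hx'.mem_open hc.2 rfl⟩
  · rintro ⟨hcl, hgen⟩
    rw [Scheme.Hom.quasiFiniteAt_iff_isOpen_singleton_asFiber]
    exact Scheme.isOpen_singleton_of_isClosed_of_forall_specializes _ _ hcl hgen

end Groth.Agent.S9334
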