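import Groth.Statements.S9336
import Mathlib
import Groth.Agent.Lib.Helper14.IsolatedPt
import Groth.Agent.S9332

set_option autoImplicit false
universe u
open QFin

namespace Groth.Agent.S9336

open AlgebraicGeometry CategoryTheory in
/-- Let f : X → Y be surjective and g : Y → S locally of finite type. If g ∘ f is locally quasi-finite
(and locally of finite type), then g is locally quasi-finite. -/
theorem result {X Y S : Scheme.{u}} (f : X ⟶ Y) (g : Y ⟶ S) [Surjective f]
    [LocallyQuasiFinite (f ≫ g)] [LocallyOfFiniteType (f ≫ g)] [LocallyOfFiniteType g] :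
    LocallyQuasiFinite g := by
  have halg : ∀ {A B C : Type u} [Field A] [CommRing B] [CommRing C] (φ : A →+* B) (ψ : B →+* C),
      Function.Injective ψ → (ψ.comp φ).Finite → φ.Finite := by
    intro A B C _ _ _ φ ψ hψ h
    algebraize [φ, ψ, ψ.comp φ]
    exact Module.Finite.of_injective (IsScalarTower.toAlgHom A B C).toLinearMap hψ
  -- every point of every fibre of `g` is closed
  have hclosed : ∀ (s : ↑S) (a : ↑(g.fiber s)), IsClosed ({a} : Set ↑(g.fiber s)) := by
    intro s a
    have hy : g.base ((g.fiberι s).base a) = s := by
      have : (g.fiberι s).base a ∈ Set.range (g.fiberι s) := ⟨a, rfl⟩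
      rw [Scheme.Hom.range_fiberι] at this
      exact this
    generalize hy' : (g.fiberι s).base a = y at hy
    subst hy
    have ha : a = g.asFiber y := by
      apply (g.fiberι (g.base y)).isEmbedding.injective
      rw [hy', g.fiberι_asFiber y]
    rw [ha, Groth.Agent.S9332.result g y]
    obtain ⟨x, rfl⟩ := f.surjective y
    have hq : (f ≫ g).QuasiFiniteAt x := (f ≫ g).quasiFiniteAt x
    have hcl := hq.isClopen_singleton_asFiber.1
    rw [Groth.Agent.S9332.result (f ≫ g) x, Scheme.residueFieldMap_comp] at hcl
    exact halg _ _ (f.residueFieldMap x).hom.injective hcl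
  rw [locallyQuasiFinite_iff_isDiscrete_preimage_singleton]
  intro s
  have h1 : IsLocallyNoetherian (g.fiber s) := by
    unfold Scheme.Hom.fiber; infer_instance
  have hdisc : DiscreteTopology ↑(g.fiber s) := by
    rw [discreteTopology_iff_isOpen_singleton]
    intro a
    apply Scheme.isOpen_singleton_of_isClosed_of_forall_specializes _ _ (hclosed s a)
    intro y hy
    have := specializes_iff_mem_closure.mp hy
    rw [(hclosed s y).closure_eq] at this
    exact this.symm
  exact ⟨(g.fiberHomeo s).symm.isEmbedding.discreteTopology⟩

end Groth.Agent.S9336
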