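import Groth.Statements.S9337
import Groth.Agent.Lib.Helper14.FtPts
import Groth.Agent.S9332

set_option autoImplicit false
universe u
open FtPts

namespace Groth.Agent.S9337

open AlgebraicGeometry CategoryTheory in
/-- Let k be a field and f : Spec k → S a morphism of schemes with image point u. Then f is locally of
finite type if and only if some affine open U ∋ u of S has u as a closed point and the residue field
of Spec k (that is, k) is finite over κ(u). -/
theorem result (S : Scheme.{u}) (k : Type u) [Field k] (f : Spec (CommRingCat.of k) ⟶ S) :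
    LocallyOfFiniteType f ↔
      ∃ U : S.Opens, IsAffineOpen U ∧ ∃ hu : f.base (IsLocalRing.closedPoint k) ∈ U,
        IsClosed ({⟨f.base (IsLocalRing.closedPoint k), hu⟩} : Set ↥U) ∧
          (f.residueFieldMap (IsLocalRing.closedPoint k)).hom.Finite := by
  have hsub : Subsingleton (Spec (CommRingCat.of k)) :=
    (inferInstance : Subsingleton (PrimeSpectrum k))
  have hiso := Groth.Agent.Lib.Helper14.isIso_fromSpecResidueField_of_field k
    (IsLocalRing.closedPoint k)
  have hsq := f.SpecMap_residueFieldMap_fromSpecResidueField (IsLocalRing.closedPoint k)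
  constructor
  · intro h
    obtain ⟨U, hU, hu, hcl⟩ := Groth.Agent.Lib.Helper14.exists_affine_isClosed_of_lft_from_field
      f (IsLocalRing.closedPoint k)
    refine ⟨U, hU, hu, hcl, ?_⟩
    rw [← Groth.Agent.S9332.result f (IsLocalRing.closedPoint k)]
    have hsub' : Subsingleton ↑(f.fiber (f.base (IsLocalRing.closedPoint k))) := by
      have hinj := (f.fiberHomeo (f.base (IsLocalRing.closedPoint k))).injective
      exact hinj.subsingleton
    have : ({f.asFiber (IsLocalRing.closedPoint k)} :
        Set ↑(f.fiber (f.base (IsLocalRing.closedPoint k)))) = Set.univ := by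
      ext y; simp [Subsingleton.elim y (f.asFiber (IsLocalRing.closedPoint k))]
    rw [this]; exact isClosed_univ
  · rintro ⟨U, hU, hu, hcl, hfin⟩
    have h1 : LocallyOfFiniteType (S.fromSpecResidueField (f.base (IsLocalRing.closedPoint k))) :=
      Groth.Agent.Lib.Helper14.lft_fromSpecResidueField_of_isClosed U _ hu hcl
    have h2 : IsFinite (Spec.map (f.residueFieldMap (IsLocalRing.closedPoint k))) :=
      (IsFinite.SpecMap_iff _).mpr hfin
    have h3 : f = inv ((Spec (CommRingCat.of k)).fromSpecResidueField (IsLocalRing.closedPoint k)) ≫
        Spec.map (f.residueFieldMap (IsLocalRing.closedPoint k)) ≫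
          S.fromSpecResidueField (f.base (IsLocalRing.closedPoint k)) := by
      rw [hsq, IsIso.inv_hom_id_assoc]
    rw [h3]
    have h4 : LocallyOfFiniteType (Spec.map (f.residueFieldMap (IsLocalRing.closedPoint k)) ≫
          S.fromSpecResidueField (f.base (IsLocalRing.closedPoint k))) := inferInstance
    have h5 : LocallyOfFiniteType
        (inv ((Spec (CommRingCat.of k)).fromSpecResidueField (IsLocalRing.closedPoint k))) :=
      inferInstance
    exact MorphismProperty.comp_mem _ _ _ h5 h4

end Groth.Agent.S9337
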