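import Groth.Statements.S9338
import Groth.Agent.Lib.Helper14.NilpFT
import Mathlib.RingTheory.HopkinsLevitzki

set_option autoImplicit false
universe u
open FtPts

namespace Groth.Agent.S9338

open AlgebraicGeometry CategoryTheory in
/-- For an Artinian local ring A with residue field κ, a morphism f : Spec A → S is (locally) of finite
type exactly when the composite Spec κ → Spec A → S is. -/
theorem result (S : Scheme.{u}) (A : Type u) [CommRing A] [IsArtinianRing A] [IsLocalRing A]
    (f : Spec (CommRingCat.of A) ⟶ S) :
    LocallyOfFiniteType f ↔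
      LocallyOfFiniteType (Spec.map (CommRingCat.ofHom (IsLocalRing.residue A)) ≫ f) := by
  have hres : LocallyOfFiniteType (Spec.map (CommRingCat.ofHom (IsLocalRing.residue A))) := by
    rw [HasRingHomProperty.Spec_iff (P := @LocallyOfFiniteType)]
    exact RingHom.FiniteType.of_surjective _ Ideal.Quotient.mk_surjective
  constructor
  · intro h
    infer_instance
  · intro h
    obtain ⟨_, ⟨(U : S.Opens), hU : IsAffineOpen U, rfl⟩, hxU, -⟩ :=
      S.isBasis_affineOpens.exists_subset_of_mem_open
        (Set.mem_univ (f (IsLocalRing.closedPoint A))) isOpen_univ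
    have hrange : Set.range f ⊆ U := by
      rintro _ ⟨y, rfl⟩
      exact ((IsLocalRing.specializes_closedPoint y).map f.continuous).mem_open U.2 hxU
    let f' : Spec (CommRingCat.of A) ⟶ U := IsOpenImmersion.lift U.ι f (by simpa using hrange)
    have hf' : f' ≫ U.ι = f := IsOpenImmersion.lift_fac _ _ _
    obtain ⟨φ, hφ⟩ := Spec.map_surjective (f' ≫ hU.isoSpec.hom)
    have hf : f = Spec.map φ ≫ hU.fromSpec := by
      rw [hφ, Category.assoc, hU.isoSpec_hom_fromSpec, hf']
    rw [hf] at h ⊢
    rw [← Category.assoc] at h
    have h1 : LocallyOfFiniteType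
        (Spec.map (CommRingCat.ofHom (IsLocalRing.residue A)) ≫ Spec.map φ) :=
      locallyOfFiniteType_of_comp _ hU.fromSpec
    rw [← Spec.map_comp, HasRingHomProperty.Spec_iff (P := @LocallyOfFiniteType)] at h1
    have h2 : φ.hom.FiniteType := by
      apply RingHom.finiteType_of_comp_mk_nilpotent φ.hom (IsLocalRing.maximalIdeal A)
        ((inferInstance : IsNoetherianRing A).noetherian (IsLocalRing.maximalIdeal A))
      · rw [← IsLocalRing.jacobson_eq_maximalIdeal ⊥ bot_ne_top]
        exact IsArtinianRing.isNilpotent_jacobson_bot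
      · exact h1
    have h3 : LocallyOfFiniteType (Spec.map φ) :=
      (HasRingHomProperty.Spec_iff (P := @LocallyOfFiniteType)).mpr h2
    infer_instance

end Groth.Agent.S9338
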