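import Groth.Statements.S9339
import Groth.Agent.Lib.Helper14.FtPts

set_option autoImplicit false
universe u
open FtPts

namespace Groth.Agent.S9339

open AlgebraicGeometry CategoryTheory in
/-- A morphism locally of finite type maps finite type points (points s whose canonical morphism Spec
κ(s) → S is locally of finite type) to finite type points. -/
theorem result {T S : Scheme.{u}} (f : T ⟶ S) [LocallyOfFiniteType f] :
    f.base '' {t : ↑T | LocallyOfFiniteType (T.fromSpecResidueField t)} ⊆
      {s : ↑S | LocallyOfFiniteType (S.fromSpecResidueField s)} := by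
  rintro _ ⟨t, ht, rfl⟩
  have ht' : LocallyOfFiniteType (T.fromSpecResidueField t) := ht
  have hg : LocallyOfFiniteType (T.fromSpecResidueField t ≫ f) := inferInstance
  obtain ⟨U, hU, hu, hcl⟩ := Groth.Agent.Lib.Helper14.exists_affine_isClosed_of_lft_from_field
    (k := T.residueField t) (T.fromSpecResidueField t ≫ f) default
  have e : (T.fromSpecResidueField t ≫ f) default = f.base t := by
    rw [Scheme.Hom.comp_apply, T.fromSpecResidueField_apply t default]
  have key : ∀ y : S, y = f.base t →
      (∃ U : S.Opens, ∃ hu : y ∈ U, IsClosed ({⟨y, hu⟩} : Set ↥U)) →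
      LocallyOfFiniteType (S.fromSpecResidueField (f.base t)) := by
    rintro y rfl ⟨U, hu, hcl⟩
    exact Groth.Agent.Lib.Helper14.lft_fromSpecResidueField_of_isClosed U _ hu hcl
  exact key _ e ⟨U, hu, hcl⟩

end Groth.Agent.S9339
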