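import Groth.Statements.S9340
import Groth.Agent.Lib.Helper14.FtPts
import Groth.Agent.S9339

set_option autoImplicit false
universe u
open FtPts

namespace Groth.Agent.S9340

open AlgebraicGeometry CategoryTheory in
/-- A surjective morphism locally of finite type maps the set of finite type points of the source onto
the set of finite type points of the target. -/
theorem result {T S : Scheme.{u}} (f : T ⟶ S) [LocallyOfFiniteType f] [Surjective f] :
    f.base '' {t : ↑T | LocallyOfFiniteType (T.fromSpecResidueField t)} =
      {s : ↑S | LocallyOfFiniteType (S.fromSpecResidueField s)} := by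
  apply Set.Subset.antisymm (Groth.Agent.S9339.result f)
  intro s hs
  have hs' : LocallyOfFiniteType (S.fromSpecResidueField s) := hs
  have hι : LocallyOfFiniteType (f.fiberι s) := MorphismProperty.pullback_fst _ _ hs'
  obtain ⟨x, hx⟩ := f.surjective s
  have hne : (Set.univ : Set ↑(f.fiber s)).Nonempty := by
    have : x ∈ Set.range (f.fiberι s) := by
      rw [Scheme.Hom.range_fiberι]; exact hx
    obtain ⟨y, -⟩ := this
    exact ⟨y, trivial⟩
  obtain ⟨t', -, ht'⟩ := Groth.Agent.Lib.Helper14.exists_ftPoint_of_isLocallyClosed (f.fiber s)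
    Set.univ isClosed_univ.isLocallyClosed hne
  have h1 := Groth.Agent.S9339.result (f.fiberι s) ⟨t', ht', rfl⟩
  refine ⟨(f.fiberι s).base t', h1, ?_⟩
  have : (f.fiberι s).base t' ∈ Set.range (f.fiberι s) := ⟨t', rfl⟩
  rw [Scheme.Hom.range_fiberι] at this
  exact this

end Groth.Agent.S9340
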