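import Groth.Statements.S9342
import Groth.Agent.Lib.Helper14.FtPts

set_option autoImplicit false
universe u
open FtPts

namespace Groth.Agent.S9342

open AlgebraicGeometry CategoryTheory in
/-- The finite type points of a scheme S are exactly the points that are closed in some affine open
neighbourhood. -/
theorem result (S : Scheme.{u}) (s : S) :
    LocallyOfFiniteType (S.fromSpecResidueField s) ↔
      ∃ U : S.Opens, IsAffineOpen U ∧ ∃ hs : s ∈ U, IsClosed ({⟨s, hs⟩} : Set ↥U) := by
  constructor
  · intro h
    obtain ⟨U, hU, hu, hcl⟩ := Groth.Agent.Lib.Helper14.exists_affine_isClosed_of_lft_from_field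
      (k := S.residueField s) (S.fromSpecResidueField s) default
    have e : S.fromSpecResidueField s default = s := S.fromSpecResidueField_apply s default
    have key : ∀ y : S, y = s →
        (∃ U : S.Opens, IsAffineOpen U ∧ ∃ hu : y ∈ U, IsClosed ({⟨y, hu⟩} : Set ↥U)) →
        ∃ U : S.Opens, IsAffineOpen U ∧ ∃ hs : s ∈ U, IsClosed ({⟨s, hs⟩} : Set ↥U) := by
      rintro y rfl h
      exact h
    exact key _ e ⟨U, hU, hu, hcl⟩
  · rintro ⟨U, hU, hs, hcl⟩
    exact Groth.Agent.Lib.Helper14.lft_fromSpecResidueField_of_isClosed U s hs hcl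

end Groth.Agent.S9342
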