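import Groth.Statements.S9345
import Mathlib
import Groth.Agent.Lib.Helper14.DomIrred

set_option autoImplicit false
universe u
open Dom

namespace Groth.Agent.S9345

open AlgebraicGeometry CategoryTheory in
/-- For a morphism f : X → S whose source has only finitely many irreducible components, the image of f
is dense exactly when it contains the generic point of each irreducible component of S, and then S
too has finitely many. -/
theorem result {X S : Scheme.{u}} (f : X ⟶ S)
    (hX : (irreducibleComponents (↑X : Type u)).Finite) :
    (IsDominant f ↔ ∀ s : ↑S, closure {s} ∈ irreducibleComponents (↑S : Type u) → s ∈ Set.range f.base) ∧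
      (IsDominant f → (irreducibleComponents (↑S : Type u)).Finite) := by
  have key : IsDominant f → irreducibleComponents (↑S : Type u) ⊆
      (fun C => closure (f.base '' C)) '' irreducibleComponents (↑X : Type u) := fun h =>
    Groth.Agent.Lib.Helper14.irreducibleComponents_subset_image_of_denseRange f.base f.continuous
      f.denseRange hX
  refine ⟨⟨fun h s hs => ?_, fun h => ?_⟩, fun h => (hX.image _).subset (key h)⟩
  · obtain ⟨C, hC, hCs⟩ := key h hs
    obtain ⟨ξ, hξ⟩ := QuasiSober.sober hC.1 (isClosed_of_mem_irreducibleComponents C hC)
    have h1 : IsGenericPoint (f.base ξ) (closure (f.base '' C)) := hξ.image f.continuous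
    have h2 : IsGenericPoint s (closure (f.base '' C)) := by
      rw [isGenericPoint_def]; exact hCs.symm
    exact ⟨ξ, h1.eq h2⟩
  · constructor
    intro s
    obtain ⟨η, hη⟩ := QuasiSober.sober (isIrreducible_irreducibleComponent (x := s))
      isClosed_irreducibleComponent
    have hmem : closure ({η} : Set ↑S) ∈ irreducibleComponents (↑S : Type u) := by
      rw [hη.def]; exact irreducibleComponent_mem_irreducibleComponents s
    have hs : s ∈ closure ({η} : Set ↑S) := by
      rw [hη.def]; exact mem_irreducibleComponent
    exact closure_mono (Set.singleton_subset_iff.mpr (h η hmem)) hs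

end Groth.Agent.S9345
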