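import Groth.Statements.S9346
import Mathlib

set_option autoImplicit false
universe u
open Dom

namespace Groth.Agent.S9346

open AlgebraicGeometry CategoryTheory in
/-- For a morphism f : X → Y between integral schemes, these six conditions coincide: (1) f is dominant;
(2) f sends the generic point of X to that of Y; (3) there exist affine opens U ⊆ X, V ⊆ Y with U
nonempty and U ⊆ f⁻¹V such that the induced ring map on sections is injective; (4) the same for all
such pairs; (5) for some x ∈ X the map of local rings O_{Y,f x} → O_{X,x} is injective; (6) the same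
for all x. -/
theorem result {X Y : Scheme.{u}} [AlgebraicGeometry.IsIntegral X] [AlgebraicGeometry.IsIntegral Y] (f : X ⟶ Y) :
    [IsDominant f,
      f.base (genericPoint ↑X) = genericPoint ↑Y,
      ∃ (U : X.Opens) (V : Y.Opens) (hUV : U ≤ f ⁻¹ᵁ V), IsAffineOpen U ∧ IsAffineOpen V ∧ (U : Set ↑X).Nonempty ∧
        Function.Injective (f.appLE V U hUV),
      ∀ (U : X.Opens) (V : Y.Opens) (hUV : U ≤ f ⁻¹ᵁ V), IsAffineOpen U → IsAffineOpen V → (U : Set ↑X).Nonempty →
        Function.Injective (f.appLE V U hUV),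
      ∃ x : ↑X, Function.Injective (f.stalkMap x),
      ∀ x : ↑X, Function.Injective (f.stalkMap x)].TFAE := by
  have hgenX : ∀ U : X.Opens, (U : Set ↑X).Nonempty → genericPoint ↑X ∈ U := fun U hU =>
    ((genericPoint_spec ↑X).mem_open_set_iff U.2).mpr (by simpa using hU)
  have hgenY : ∀ V : Y.Opens, (V : Set ↑Y).Nonempty → genericPoint ↑Y ∈ V := fun V hV =>
    ((genericPoint_spec ↑Y).mem_open_set_iff V.2).mpr (by simpa using hV)
  have h24 : f.base (genericPoint ↑X) = genericPoint ↑Y →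
      ∀ (U : X.Opens) (V : Y.Opens) (hUV : U ≤ f ⁻¹ᵁ V),
        (U : Set ↑X).Nonempty → Function.Injective (f.appLE V U hUV) := by
    intro h2 U V hUV hne
    rw [injective_iff_map_eq_zero]
    intro s hs
    by_contra hs0
    have h1 : Y.basicOpen s ≠ ⊥ := fun h => hs0 ((basicOpen_eq_bot_iff s).mp h)
    have h2' : genericPoint ↑Y ∈ Y.basicOpen s :=
      hgenY _ (TopologicalSpace.Opens.ne_bot_iff_nonempty _ |>.mp h1)
    have h3 : genericPoint ↑X ∈ X.basicOpen (f.appLE V U hUV s) := by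
      rw [Scheme.basicOpen_appLE]
      refine ⟨hgenX U hne, ?_⟩
      change f.base (genericPoint ↑X) ∈ Y.basicOpen s
      rw [h2]; exact h2'
    rw [hs, Scheme.basicOpen_zero] at h3
    exact h3
  have hchart : ∀ x : ↑X, ∃ (U : X.Opens) (V : Y.Opens) (hUV : U ≤ f ⁻¹ᵁ V),
      IsAffineOpen U ∧ IsAffineOpen V ∧ x ∈ U ∧ f.base x ∈ V := by
    intro x
    obtain ⟨_, ⟨(V : Y.Opens), hV : IsAffineOpen V, rfl⟩, hxV, -⟩ :=
      Y.isBasis_affineOpens.exists_subset_of_mem_open (Set.mem_univ (f.base x)) isOpen_univ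
    obtain ⟨_, ⟨(U : X.Opens), hU : IsAffineOpen U, rfl⟩, hxU, hUV⟩ :=
      X.isBasis_affineOpens.exists_subset_of_mem_open (show x ∈ (f ⁻¹ᵁ V : Set ↑X) from hxV)
        (f ⁻¹ᵁ V).2
    exact ⟨U, V, hUV, hU, hV, hxU, hxV⟩
  tfae_have 1 ↔ 2 := by
    constructor
    · intro h
      have h1 := (genericPoint_spec ↑X).image f.continuous
      rw [Set.image_univ, f.denseRange.closure_range] at h1
      exact h1.eq (genericPoint_spec ↑Y)
    · intro h
      constructor
      rw [DenseRange, dense_iff_closure_eq, ← Set.univ_subset_iff]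
      have h1 : closure ({genericPoint ↑Y} : Set ↑Y) = Set.univ := (genericPoint_spec ↑Y).def
      rw [← h1]
      exact closure_mono (Set.singleton_subset_iff.mpr ⟨genericPoint ↑X, h⟩)
  tfae_have 2 → 4 := fun h2 U V hUV _ _ hne => h24 h2 U V hUV hne
  tfae_have 4 → 3 := by
    intro h
    obtain ⟨x⟩ := (inferInstance : Nonempty ↑X)
    obtain ⟨U, V, hUV, hU, hV, hxU, hxV⟩ := hchart x
    exact ⟨U, V, hUV, hU, hV, ⟨x, hxU⟩, h U V hUV hU hV ⟨x, hxU⟩⟩
  tfae_have 3 → 1 := by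
    rintro ⟨U, V, hUV, hU, hV, ⟨x₀, hx₀⟩, hinj⟩
    constructor
    rw [DenseRange, dense_iff_inter_open]
    intro W hW hWne
    have hVne : (V : Set ↑Y).Nonempty := ⟨f.base x₀, hUV hx₀⟩
    have hη : genericPoint ↑Y ∈ (⟨W, hW⟩ : Y.Opens) ⊓ V :=
      ⟨hgenY ⟨W, hW⟩ hWne, hgenY V hVne⟩
    obtain ⟨s, hsW, hsη⟩ := hV.exists_basicOpen_le
      (V := (⟨W, hW⟩ : Y.Opens) ⊓ V) ⟨genericPoint ↑Y, hη⟩ hη.2
    have hs0 : s ≠ 0 := by
      rintro rfl
      rw [Scheme.basicOpen_zero] at hsη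
      exact hsη
    have h1 : f.appLE V U hUV s ≠ 0 := fun h => hs0 (hinj (h.trans (map_zero _).symm))
    have h2 : X.basicOpen (f.appLE V U hUV s) ≠ ⊥ := fun h => h1 ((basicOpen_eq_bot_iff _).mp h)
    obtain ⟨x, hx⟩ := (TopologicalSpace.Opens.ne_bot_iff_nonempty _).mp h2
    rw [Scheme.basicOpen_appLE] at hx
    exact ⟨f.base x, (hsW hx.2).1, x, rfl⟩
  tfae_have 2 → 6 := by
    intro h2 x
    rw [injective_iff_map_eq_zero]
    intro t ht
    obtain ⟨V, hxV, s, rfl⟩ := Y.presheaf.exists_germ_eq t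
    rw [Scheme.Hom.germ_stalkMap_apply] at ht
    have ht' : X.presheaf.germ (f ⁻¹ᵁ V) x hxV (f.app V s) =
        X.presheaf.germ (f ⁻¹ᵁ V) x hxV 0 := by rw [ht, map_zero]
    obtain ⟨W, hxW, iU, iV, e⟩ := X.presheaf.germ_eq x hxV hxV _ _ ht'
    rw [map_zero] at e
    have hs : f.appLE V W iU.le s = 0 := e
    rw [h24 h2 W V iU.le ⟨x, hxW⟩ (hs.trans (map_zero _).symm), map_zero]
  tfae_have 6 → 5 := by
    intro h
    obtain ⟨x⟩ := (inferInstance : Nonempty ↑X)
    exact ⟨x, h x⟩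
  tfae_have 5 → 3 := by
    rintro ⟨x, hx⟩
    obtain ⟨U, V, hUV, hU, hV, hxU, hxV⟩ := hchart x
    refine ⟨U, V, hUV, hU, hV, ⟨x, hxU⟩, ?_⟩
    rw [injective_iff_map_eq_zero]
    intro s hs
    apply germ_injective_of_isIntegral Y (f.base x) hxV
    apply hx
    rw [map_zero, map_zero, Scheme.Hom.germ_stalkMap_apply]
    have h1 : X.presheaf.germ U x hxU (X.presheaf.map (homOfLE hUV).op (f.app V s)) =
        X.presheaf.germ (f ⁻¹ᵁ V) x hxV (f.app V s) :=
      X.presheaf.germ_res_apply (homOfLE hUV) x hxU _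
    rw [← h1]
    have h2 : X.presheaf.map (homOfLE hUV).op (f.app V s) = f.appLE V U hUV s := rfl
    rw [h2, hs, map_zero]
  tfae_finish

end Groth.Agent.S9346
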