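import Groth.Statements.S9348
import Mathlib

set_option autoImplicit false
universe u
open Dom

namespace Groth.Agent.S9348

open AlgebraicGeometry CategoryTheory in
/-- Let f : X → Y be a morphism and g : Y' → Y open and surjective. If the base change f' : X ×_Y Y' →
Y' of f is quasi-compact, then so is f. -/
theorem result {X Y X' Y' : Scheme.{u}} (f : X ⟶ Y) (g : Y' ⟶ Y) [Surjective g]
    (hg : IsOpenMap g.base) (g' : X' ⟶ X) (f' : X' ⟶ Y') (hsq : IsPullback g' f' f g) [QuasiCompact f'] :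
    QuasiCompact f := by
  constructor
  intro U hU hUc
  let ι := {W : Y'.affineOpens // ((W : Y'.Opens) : Set ↑Y') ⊆ g.base ⁻¹' U}
  have hcov : U ⊆ ⋃ W : ι, g.base '' ((W.1 : Y'.Opens) : Set ↑Y') := by
    intro y hy
    obtain ⟨y', rfl⟩ := g.surjective y
    obtain ⟨_, ⟨(W : Y'.Opens), hW : IsAffineOpen W, rfl⟩, hyW, hWU⟩ :=
      Y'.isBasis_affineOpens.exists_subset_of_mem_open (show y' ∈ g.base ⁻¹' U from hy)
        (hU.preimage g.continuous)
    exact Set.mem_iUnion.mpr ⟨⟨⟨W, hW⟩, hWU⟩, y', hyW, rfl⟩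
  obtain ⟨t, ht⟩ := hUc.elim_finite_subcover (fun W : ι => g.base '' ((W.1 : Y'.Opens) : Set ↑Y'))
    (fun W => hg _ (W.1 : Y'.Opens).2) hcov
  let K : Set ↑Y' := ⋃ W ∈ t, ((W.1 : Y'.Opens) : Set ↑Y')
  have hKc : IsCompact K := t.isCompact_biUnion fun W _ => W.1.2.isCompact
  have hKo : IsOpen K := isOpen_biUnion fun W _ => (W.1 : Y'.Opens).2
  have hgK : g.base '' K = U := by
    apply Set.Subset.antisymm
    · rintro _ ⟨y', hy', rfl⟩
      obtain ⟨W, hW, hyW⟩ := Set.mem_iUnion₂.mp hy'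
      exact W.2 hyW
    · intro y hy
      obtain ⟨W, hW, y', hyW, rfl⟩ := Set.mem_iUnion₂.mp (ht hy)
      exact ⟨y', Set.mem_iUnion₂.mpr ⟨W, hW, hyW⟩, rfl⟩
  have h1 : IsCompact (f'.base ⁻¹' K) := QuasiCompact.isCompact_preimage (f := f') K hKo hKc
  have h2 := Scheme.image_preimage_eq_of_isPullback hsq.flip K
  rw [hgK] at h2
  rw [← h2]
  exact h1.image g'.continuous

end Groth.Agent.S9348
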