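import Groth.Statements.S9352
import Mathlib
import Groth.Agent.Lib.Helper17.PureIdeal

set_option autoImplicit false
universe u
open FlatMod

namespace Groth.Agent.S9352

open Groth.Agent.Lib.Helper3 Groth.Agent.Lib.Helper17 AlgebraicGeometry CategoryTheory
  TopologicalSpace Opposite TensorProduct

section Alg

variable {A : Type*} [CommRing A] {M : Type*} [AddCommGroup M] [Module A M]

theorem algRank_le_of_span_eq_top (q : PrimeSpectrum A) {m : ℕ} (v : Fin m → M)
    (hv : Submodule.span A (Set.range v) = ⊤) : LocConstRank.algRank A M q ≤ m := by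
  classical
  let κ := q.asIdeal.ResidueField
  have h1 : ∀ x : M, (1 : κ) ⊗ₜ[A] x ∈
      Submodule.span κ (Set.range fun i : Fin m => (1 : κ) ⊗ₜ[A] v i) := by
    intro x
    have hx : x ∈ Submodule.span A (Set.range v) := by rw [hv]; trivial
    induction hx using Submodule.span_induction with
    | mem y hy =>
      obtain ⟨i, rfl⟩ := hy
      exact Submodule.subset_span ⟨i, rfl⟩
    | zero => rw [TensorProduct.tmul_zero]; exact zero_mem _
    | add y z _ _ hy hz => rw [TensorProduct.tmul_add]; exact add_mem hy hz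
    | smul r y _ hy =>
      have h : (1 : κ) ⊗ₜ[A] (r • y) = (algebraMap A κ r) • ((1 : κ) ⊗ₜ[A] y) := by
        rw [TensorProduct.tmul_smul, algebraMap_smul]
      rw [h]
      exact Submodule.smul_mem _ _ hy
  have hspan : Submodule.span κ (Set.range fun i : Fin m => (1 : κ) ⊗ₜ[A] v i) = ⊤ := by
    rw [eq_top_iff]
    rintro t -
    induction t using TensorProduct.induction_on with
    | zero => exact zero_mem _
    | tmul a x =>
      have h : a ⊗ₜ[A] x = a • ((1 : κ) ⊗ₜ[A] x) := by
        rw [TensorProduct.smul_tmul', smul_eq_mul, mul_one]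
      rw [h]
      exact Submodule.smul_mem _ _ (h1 x)
    | add x y hx hy => exact add_mem hx hy
  unfold LocConstRank.algRank
  calc Module.finrank κ (κ ⊗[A] M)
      = Module.finrank κ (⊤ : Submodule κ (κ ⊗[A] M)) := by rw [finrank_top]
    _ = (Set.range fun i : Fin m => (1 : κ) ⊗ₜ[A] v i).finrank κ := by rw [← hspan]; rfl
    _ ≤ Fintype.card (Fin m) := finrank_range_le_card _
    _ = m := Fintype.card_fin m

end Alg

theorem backward {X : Scheme.{u}}
    (hopen : ∀ Z : Set ↑X, IsClosed Z → StableUnderGeneralization Z → IsOpen Z)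
    (F : X.Modules) (hq : Coh.IsQCoh F) (hft : CohB1.IsFT F) (hfl : FlatMod.IsFlat F) :
    FlatMod.IsFinLocFree F := by
  haveI : F.IsQuasicoherent := hq
  haveI : F.IsFiniteType := hft
  have hfin : ∀ (U : X.Opens), IsAffineOpen U → Module.Finite Γ(X, U) Γ(F, U) :=
    fun U hU => QCProps.finite_sections F hU
  have hflat : ∀ (U : X.Opens), IsAffineOpen U → Module.Flat Γ(X, U) Γ(F, U) :=
    fun U hU => FlatSections.flat_sections_of_isFlat F hfl hU
  have hrk : ∀ (U : X.Opens) (hU : IsAffineOpen U) (x : X) (hx : x ∈ U),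
      LocConstRank.fibreRank F x = Module.rankAtStalk Γ(F, U) (hU.primeIdealOf ⟨x, hx⟩) := by
    intro U hU x hx
    haveI := hfin U hU
    haveI := hflat U hU
    rw [LocConstRank.fibreRank_eq_algRank F hU x hx, Module.rankAtStalk_eq]
    rfl
  have hspec : ∀ x y : X, y ⤳ x →
      LocConstRank.fibreRank F y = LocConstRank.fibreRank F x := by
    intro x y hyx
    obtain ⟨U, hU, hxU⟩ := QCProps.exists_affine_nbhd x
    have hyU : y ∈ U := hyx.mem_open U.2 hxU
    haveI := hfin U hU
    haveI := hflat U hU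
    rw [hrk U hU x hxU, hrk U hU y hyU]
    exact Module.rankAtStalk_eq_of_le_of_finite_of_flat Γ(F, U)
      ((PureIdeal.primeIdealOf_le_iff hU y x hyU hxU).mpr hyx)
  have husc : ∀ n : ℕ, IsOpen {y : X | LocConstRank.fibreRank F y ≤ n} := by
    intro n
    rw [isOpen_iff_forall_mem_open]
    intro x hx
    obtain ⟨U, hU, hxU⟩ := QCProps.exists_affine_nbhd x
    haveI := hfin U hU
    obtain ⟨f, v, hf, hv⟩ := LocConstRank.exists_generators (hU.primeIdealOf ⟨x, hxU⟩)
      (rfl : LocConstRank.algRank Γ(X, U) Γ(F, U) (hU.primeIdealOf ⟨x, hxU⟩) = _)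
    have hW : IsAffineOpen (X.basicOpen f) := hU.basicOpen f
    have hspan := LocConstRank.span_res_eq_top F hU f v hv
    refine ⟨X.basicOpen f, ?_, (X.basicOpen f).2,
      LocConstRank.mem_basicOpen_of_notMem hU x hxU f hf⟩
    intro y hy
    show LocConstRank.fibreRank F y ≤ n
    rw [LocConstRank.fibreRank_eq_algRank F hW y hy]
    refine (algRank_le_of_span_eq_top _ _ hspan).trans ?_
    rw [← LocConstRank.fibreRank_eq_algRank F hU x hxU]
    exact hx
  have hlc : IsLocallyConstant (LocConstRank.fibreRank F) := by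
    rw [IsLocallyConstant.iff_exists_open]
    intro x
    have hZn_open : IsOpen {y : X | LocConstRank.fibreRank F x ≤ LocConstRank.fibreRank F y} := by
      apply hopen
      · rcases Nat.eq_zero_or_pos (LocConstRank.fibreRank F x) with h0 | hpos
        · have : {y : X | LocConstRank.fibreRank F x ≤ LocConstRank.fibreRank F y} = Set.univ := by
            ext y
            simp [h0]
          rw [this]
          exact isClosed_univ
        · have : {y : X | LocConstRank.fibreRank F x ≤ LocConstRank.fibreRank F y} =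
              {y : X | LocConstRank.fibreRank F y ≤ LocConstRank.fibreRank F x - 1}ᶜ := by
            ext y
            simp only [Set.mem_setOf_eq, Set.mem_compl_iff]
            omega
          rw [this]
          exact (husc _).isClosed_compl
      · intro a b hba ha
        show LocConstRank.fibreRank F x ≤ LocConstRank.fibreRank F b
        rw [hspec a b hba]
        exact ha
    exact ⟨{y | LocConstRank.fibreRank F y ≤ LocConstRank.fibreRank F x} ∩
        {y | LocConstRank.fibreRank F x ≤ LocConstRank.fibreRank F y},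
      (husc _).inter hZn_open,
      Set.mem_inter (show LocConstRank.fibreRank F x ≤ LocConstRank.fibreRank F x from le_rfl)
        (show LocConstRank.fibreRank F x ≤ LocConstRank.fibreRank F x from le_rfl),
      fun y hy => le_antisymm hy.1 hy.2⟩
  have hfree : ∀ x : X, Module.Free (X.presheaf.stalk x) (F.presheaf.stalk x) := by
    intro x
    obtain ⟨U, hU, hxU⟩ := QCProps.exists_affine_nbhd x
    obtain ⟨i1, i2, i3, i4, g, h1, h2, h3⟩ := QS.exists_isLocalizedModule hU F x hxU
    haveI := hfin U hU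
    haveI : Module.Finite (X.presheaf.stalk x) (F.presheaf.stalk x) :=
      Module.Finite.of_isLocalizedModule (hU.primeIdealOf ⟨x, hxU⟩).asIdeal.primeCompl g
    haveI : Module.Flat (X.presheaf.stalk x) (F.presheaf.stalk x) := hfl x
    exact Module.free_of_flat_of_isLocalRing
  exact LocConstRank.isFinLocFree_of_free_stalks F hft hfree hlc

theorem forward {X : Scheme.{u}}
    (H : ∀ F : X.Modules, Coh.IsQCoh F → CohB1.IsFT F → FlatMod.IsFlat F →
      FlatMod.IsFinLocFree F)
    (Z : Set ↑X) (hZc : IsClosed Z) (hZg : StableUnderGeneralization Z) : IsOpen Z := by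
  let I := PureIdeal.pureIdealSheaf Z hZc hZg
  let ι := I.subschemeι
  let F : X.Modules := (Scheme.Modules.pushforward ι).obj (Coh.structureModule I.subscheme)
  haveI hq : F.IsQuasicoherent := QCSec.isQuasicoherent_pushforward ι _
  have hsurj : ∀ (U : X.Opens) (hU : IsAffineOpen U), Function.Surjective (ι.app U).hom :=
    fun U hU => I.subschemeι_app_surjective ⟨U, hU⟩
  have hker : ∀ (U : X.Opens) (hU : IsAffineOpen U),
      RingHom.ker (ι.app U).hom = PureIdeal.pureIdeal Z U :=
    fun U hU => I.ker_subschemeι_app ⟨U, hU⟩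
  have hsec : ∀ (U : X.Opens) (hU : IsAffineOpen U),
      Module.Flat Γ(X, U) Γ(F, U) ∧ Module.Finite Γ(X, U) Γ(F, U) ∧
      (∀ a ∈ PureIdeal.pureIdeal Z U, ∀ m : Γ(F, U), a • m = 0) ∧
      ((1 : Γ(X, U)) ∉ PureIdeal.pureIdeal Z U → Nontrivial Γ(F, U)) := by
    intro U hU
    letI alg : Algebra Γ(X, U) Γ(I.subscheme, ι ⁻¹ᵁ U) := (ι.app U).hom.toAlgebra
    let e : Γ(F, U) ≃ₗ[Γ(X, U)] Γ(I.subscheme, ι ⁻¹ᵁ U) :=
      { toFun := fun m => m
        invFun := fun m => m
        map_add' := fun _ _ => rfl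
        map_smul' := fun _ _ => rfl
        left_inv := fun _ => rfl
        right_inv := fun _ => rfl }
    haveI h1 : Module.Flat Γ(X, U) Γ(I.subscheme, ι ⁻¹ᵁ U) := by
      apply PureIdeal.flat_of_pure (hsurj U hU)
      intro a ha
      have ha' : a ∈ PureIdeal.pureIdeal Z U := by rw [← hker U hU]; exact ha
      obtain ⟨κ, hκ, hκa⟩ := ha'
      obtain ⟨N, hN⟩ := PureIdeal.exists_pow_mem_pureIdeal hZc hZg hU κ hκ
      refine ⟨κ ^ N, ?_, PureIdeal.pow_mul_eq_self hκa N⟩
      have h2 : κ ^ N ∈ RingHom.ker (ι.app U).hom := by rw [hker U hU]; exact hN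
      exact h2
    haveI h2 : Module.Finite Γ(X, U) Γ(I.subscheme, ι ⁻¹ᵁ U) :=
      Module.Finite.of_surjective (Algebra.linearMap Γ(X, U) Γ(I.subscheme, ι ⁻¹ᵁ U))
        (hsurj U hU)
    refine ⟨Module.Flat.of_linearEquiv e, Module.Finite.equiv e.symm, ?_, ?_⟩
    · intro a ha m
      have h3 : (ι.app U).hom a = 0 := by
        have : a ∈ RingHom.ker (ι.app U).hom := by rw [hker U hU]; exact ha
        exact this
      apply e.injective
      rw [map_smul, map_zero, Algebra.smul_def]
      show (ι.app U).hom a * e m = 0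
      rw [h3, zero_mul]
    · intro h1not
      have h10 : (1 : Γ(I.subscheme, ι ⁻¹ᵁ U)) ≠ 0 := by
        intro h10
        apply h1not
        rw [← hker U hU, RingHom.mem_ker, map_one]
        exact h10
      exact ⟨⟨e.symm 1, e.symm 0, fun h => h10 (e.symm.injective h)⟩⟩
  have hfl : FlatMod.IsFlat F := by
    rw [FlatSections.isFlat_iff_flat_sections]
    exact fun U hU => (hsec U hU).1
  have hft : CohB1.IsFT F := by
    show SheafOfModules.IsFiniteType (R := X.ringCatSheaf) F
    rw [QCProps.isFiniteType_iff_finite_sections]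
    exact fun U hU => (hsec U hU).2.1
  have hlf := H F hq hft hfl
  rw [isOpen_iff_forall_mem_open]
  intro x hxZ
  obtain ⟨U₀, n, e₀, hxU₀, hb₀⟩ := LocFreeCrit.isFinLocFree_iff.mp hlf x
  obtain ⟨_, ⟨U, hU, rfl⟩, hxU, hUU₀⟩ :=
    X.isBasis_affineOpens.exists_subset_of_mem_open hxU₀ U₀.2
  have hb : FreeBasis.IsBasisAt F U (fun i => QCSec.res F hUU₀ (e₀ i)) := (hb₀.mono hUU₀).self
  obtain ⟨-, -, hkill, hnt⟩ := hsec U hU
  have h1not : (1 : Γ(X, U)) ∉ PureIdeal.pureIdeal Z U := by
    intro h1
    have h2 := PureIdeal.pureIdeal_le_primeIdealOf hU x hxU hxZ h1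
    exact (hU.primeIdealOf ⟨x, hxU⟩).isPrime.ne_top ((Ideal.eq_top_iff_one _).mpr h2)
  haveI := hnt h1not
  have hn : 0 < n := by
    by_contra h0
    have hn0 : n = 0 := by omega
    subst hn0
    obtain ⟨m1, m2, hne⟩ := exists_pair_ne Γ(F, U)
    obtain ⟨c1, rfl⟩ := hb.2 m1
    obtain ⟨c2, rfl⟩ := hb.2 m2
    exact hne (by rw [Subsingleton.elim c1 c2])
  have hI0 : ∀ a ∈ PureIdeal.pureIdeal Z U, a = 0 := by
    intro a ha
    have h3 : (fun c : Fin n → Γ(X, U) => ∑ i, c i • QCSec.res F hUU₀ (e₀ i)) (fun _ => a) =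
        (fun c : Fin n → Γ(X, U) => ∑ i, c i • QCSec.res F hUU₀ (e₀ i)) (fun _ => 0) := by
      simp only [zero_smul, Finset.sum_const_zero]
      exact Finset.sum_eq_zero (fun i _ => hkill a ha _)
    have h4 := hb.1 h3
    exact congrFun h4 ⟨0, hn⟩
  refine ⟨U, ?_, U.2, hxU⟩
  intro y hyU
  by_contra hyZ
  obtain ⟨g, hg, hyg⟩ := hU.exists_basicOpen_le (V := ⟨Zᶜ, hZc.isOpen_compl⟩) ⟨y, hyZ⟩ hyU
  have hgK : g ∈ PureIdeal.vanIdeal Z U := fun x hxZ hxg => hg hxg hxZ
  obtain ⟨N, hN⟩ := PureIdeal.exists_pow_mem_pureIdeal hZc hZg hU g hgK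
  have h0 := hI0 _ hN
  have hu : IsUnit (X.presheaf.germ U y hyU g) := (X.mem_basicOpen g y hyU).mp hyg
  have hu' := hu.pow N
  rw [← map_pow, h0, map_zero] at hu'
  exact not_isUnit_zero hu'

open AlgebraicGeometry CategoryTheory in
/-- For a scheme X, every finite type flat quasi-coherent O_X-module is finite locally free if and only
if every closed subset of X that is stable under generalization is open. -/
theorem result (X : Scheme.{u}) :
    (∀ F : X.Modules, Coh.IsQCoh F → CohB1.IsFT F → FlatMod.IsFlat F → FlatMod.IsFinLocFree F) ↔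
      ∀ Z : Set ↑X, IsClosed Z → StableUnderGeneralization Z → IsOpen Z := by
  constructor
  · intro H Z hZc hZg
    exact forward H Z hZc hZg
  · intro h F hq hft hfl
    exact backward h F hq hft hfl

end Groth.Agent.S9352
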