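import Groth.Statements.S9356
import Mathlib
import Groth.Agent.Lib.Helper3.AffinePoints

set_option autoImplicit false
universe u
open FibDim

namespace Groth.Agent.S9356

open AlgebraicGeometry CategoryTheory in
/-- Let f : X → S be locally of finite type and x ⤳ x' a nontrivial specialization of points of the
fibre X_s. Then dim_x(X_s) ≤ dim_{x'}(X_s) and dim O_{X_s,x} < dim O_{X_s,x'}. (The assertion on
transcendence degrees of residue fields is a separate statement.) -/
theorem result {X S : Scheme.{u}} (f : X ⟶ S) [LocallyOfFiniteType f] (s : S)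
    (x x' : ↑(f.fiber s)) (hsp : x ⤳ x') (hne : x ≠ x') :
    FlatMor.localDim ↑(f.fiber s) x ≤ FlatMor.localDim ↑(f.fiber s) x' ∧
      ringKrullDim ((f.fiber s).presheaf.stalk x) < ringKrullDim ((f.fiber s).presheaf.stalk x') := by
  have h1 : IsLocallyNoetherian (f.fiber s) := by
    unfold Scheme.Hom.fiber; infer_instance
  constructor
  · unfold FlatMor.localDim
    exact le_iInf fun U => iInf_le_of_le ⟨U.1, hsp.mem_open U.1.2 U.2⟩ le_rfl
  · obtain ⟨_, ⟨(W : (f.fiber s).Opens), hW : IsAffineOpen W, rfl⟩, hx'W, -⟩ :=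
      (f.fiber s).isBasis_affineOpens.exists_subset_of_mem_open (Set.mem_univ x') isOpen_univ
    have hxW : x ∈ W := hsp.mem_open W.2 hx'W
    have : IsNoetherianRing Γ(f.fiber s, W) := IsLocallyNoetherian.component_noetherian ⟨W, hW⟩
    letI i1 : Algebra Γ(f.fiber s, W) ((f.fiber s).presheaf.stalk x) :=
      TopCat.Presheaf.algebra_section_stalk (f.fiber s).presheaf (U := W) ⟨x, hxW⟩
    letI i2 : Algebra Γ(f.fiber s, W) ((f.fiber s).presheaf.stalk x') :=
      TopCat.Presheaf.algebra_section_stalk (f.fiber s).presheaf (U := W) ⟨x', hx'W⟩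
    have l1 : IsLocalization.AtPrime ((f.fiber s).presheaf.stalk x)
        (hW.primeIdealOf ⟨x, hxW⟩).asIdeal := hW.isLocalization_stalk ⟨x, hxW⟩
    have l2 : IsLocalization.AtPrime ((f.fiber s).presheaf.stalk x')
        (hW.primeIdealOf ⟨x', hx'W⟩).asIdeal := hW.isLocalization_stalk ⟨x', hx'W⟩
    rw [IsLocalization.AtPrime.ringKrullDim_eq_height (hW.primeIdealOf ⟨x, hxW⟩).asIdeal,
      IsLocalization.AtPrime.ringKrullDim_eq_height (hW.primeIdealOf ⟨x', hx'W⟩).asIdeal]
    have hlt : (hW.primeIdealOf ⟨x, hxW⟩).asIdeal < (hW.primeIdealOf ⟨x', hx'W⟩).asIdeal := by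
      refine lt_of_le_of_ne
        ((Groth.Agent.Lib.Helper3.primeIdealOf_le_iff_specializes hW x x' hxW hx'W).mpr hsp) ?_
      intro h
      apply hne
      have h' : hW.primeIdealOf ⟨x, hxW⟩ = hW.primeIdealOf ⟨x', hx'W⟩ := PrimeSpectrum.ext h
      have e1 := hW.fromSpec_primeIdealOf ⟨x, hxW⟩
      have e2 := hW.fromSpec_primeIdealOf ⟨x', hx'W⟩
      rw [h'] at e1
      exact e1.symm.trans e2
    exact_mod_cast Ideal.height_strict_mono_of_isPrime_of_isPrime hlt

end Groth.Agent.S9356
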