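import Groth.Statements.S9360
import Groth.Agent.Lib.Helper14.ReducedKer

set_option autoImplicit false
universe u
open SchDense

namespace Groth.Agent.S9360

open AlgebraicGeometry CategoryTheory in
/-- Let U ⊆ X be a reduced open subscheme. Then the scheme-theoretic closure of U in X is X if and only
if U is scheme-theoretically dense in X (for every open W the scheme-theoretic closure of U ∩ W in W
is W); and in that case X is reduced. -/
theorem result (X : Scheme.{u}) (U : X.Opens) [IsReduced (↑U : Scheme.{u})] :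
    (IsSchemeTheoreticallyDominant U.ι ↔
        ∀ W : X.Opens, IsSchemeTheoreticallyDominant (X.homOfLE (inf_le_right : U ⊓ W ≤ W))) ∧
      (IsSchemeTheoreticallyDominant U.ι → IsReduced X) := by
  have key : IsSchemeTheoreticallyDominant U.ι → IsReduced X ∧ DenseRange U.ι := fun h =>
    Groth.Agent.Lib.Helper14.ker_eq_bot_consequences U.ι h.ker_eq_bot
  refine ⟨⟨fun h W => ?_, fun h => ?_⟩, fun h => (key h).1⟩
  · obtain ⟨hred, hdense⟩ := key h
    have : IsReduced (W : Scheme.{u}) := isReduced_of_isOpenImmersion W.ι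
    have : IsDominant (X.homOfLE (inf_le_right : U ⊓ W ≤ W)) := by
      constructor
      rw [DenseRange, dense_iff_inter_open]
      rintro V hV ⟨w, hw⟩
      have hVo : IsOpen (W.ι '' V) := W.ι.isOpenEmbedding.isOpenMap _ hV
      obtain ⟨x, hxV, ⟨u, rfl⟩⟩ := hdense.inter_open_nonempty _ hVo ⟨W.ι w, w, hw, rfl⟩
      obtain ⟨w', hw', hw'x⟩ := hxV
      have hxW : U.ι u ∈ W := by rw [← hw'x]; exact w'.2
      refine ⟨w', hw', ⟨⟨U.ι u, ⟨u.2, hxW⟩⟩, ?_⟩⟩
      apply W.ι.isOpenEmbedding.injective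
      rw [hw'x, ← Scheme.Hom.comp_apply, Scheme.homOfLE_ι]
      rfl
    exact IsSchemeTheoreticallyDominant.of_isDominant _
  · have h1 := h ⊤
    have e : U.ι = (X.isoOfEq (inf_top_eq U)).inv ≫
        X.homOfLE (inf_le_right : U ⊓ ⊤ ≤ ⊤) ≫ (⊤ : X.Opens).ι := by
      simp
    rw [e]
    have i1 : IsIso (⊤ : X.Opens).ι := by
      rw [show (⊤ : X.Opens).ι = X.topIso.hom from rfl]; infer_instance
    have i2 : IsSchemeTheoreticallyDominant (X.homOfLE (inf_le_right : U ⊓ ⊤ ≤ ⊤) ≫ (⊤ : X.Opens).ι) :=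
      inferInstance
    infer_instance

end Groth.Agent.S9360
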