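import Groth.Statements.S9361
import Groth.Agent.Lib.Helper16.SchImgKer
import Groth.Agent.Lib.Helper16.FibreProduct
open Groth.Agent.Lib.Helper16

set_option autoImplicit false
universe u
open SchImage

namespace Groth.Agent.S9361

open AlgebraicGeometry CategoryTheory in
/-- Let f : X → Y be separated, V ⊆ Y a retrocompact open and s : V → X a section of f over V. If Y' ⊆ X
is the scheme-theoretic image of s, then Y' → Y is an isomorphism over V. -/
theorem result {X Y : Scheme.{u}} (f : X ⟶ Y) [IsSeparated f] (V : Y.Opens) [QuasiCompact V.ι]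
    (s : (↑V : Scheme.{u}) ⟶ X) (hs : s ≫ f = V.ι) :
    IsIso ((s.imageι ≫ f) ∣_ V) := by
  classical
  -- `s` is quasi-compact
  haveI : QuasiCompact (s ≫ f) := by rw [hs]; infer_instance
  haveI : QuasiCompact s := QuasiCompact.of_comp s f
  set g : s.image ⟶ Y := s.imageι ≫ f with hg
  haveI : IsSeparated g := by rw [hg]; infer_instance
  -- the section `σ` of `g ∣_ V`
  have hfac : s.toImage ≫ g = V.ι := by
    rw [hg, ← Category.assoc, s.toImage_imageι, hs]
  have hrange : Set.range s.toImage.base ⊆ Set.range (g ⁻¹ᵁ V).ι.base := by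
    rintro _ ⟨x, rfl⟩
    rw [Scheme.Opens.range_ι]
    show g.base (s.toImage.base x) ∈ V
    have := congrArg (fun k => k.base x) hfac
    simp only [Scheme.Hom.comp_base, TopCat.hom_comp, ContinuousMap.comp_apply] at this
    rw [this]
    exact x.2
  set σ : (↑V : Scheme.{u}) ⟶ ↑(g ⁻¹ᵁ V) := IsOpenImmersion.lift (g ⁻¹ᵁ V).ι s.toImage hrange with hσ
  have hσι : σ ≫ (g ⁻¹ᵁ V).ι = s.toImage := IsOpenImmersion.lift_fac _ _ _
  have hσg : σ ≫ (g ∣_ V) = 𝟙 _ := by
    rw [← cancel_mono V.ι, Category.assoc, morphismRestrict_ι, ← Category.assoc, hσι, hfac,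
      Category.id_comp]
  -- `σ` is a closed immersion
  haveI : IsSeparated (g ∣_ V) :=
    MorphismProperty.of_isPullback (P := @IsSeparated) (isPullback_morphismRestrict g V).flip inferInstance
  haveI : IsClosedImmersion (σ ≫ (g ∣_ V)) := by rw [hσg]; infer_instance
  haveI : IsClosedImmersion σ := IsClosedImmersion.of_comp σ (g ∣_ V)
  -- `σ` is scheme theoretically dominant
  haveI : IsSchemeTheoreticallyDominant s.toImage := ⟨SchImgKer.ker_toImage s⟩
  have sqσ : IsPullback (𝟙 (↑V : Scheme.{u})) σ s.toImage (g ⁻¹ᵁ V).ι := by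
    refine isPullback_of_exists_lift (by rw [Category.id_comp, hσι]) ?_ ?_
    · intro Q a b hab
      refine ⟨a, Category.comp_id _, ?_⟩
      rw [← cancel_mono (g ⁻¹ᵁ V).ι, Category.assoc, hσι, hab]
    · intro Q l l' h1 _
      simpa using h1
  haveI : IsSchemeTheoreticallyDominant σ := IsSchemeTheoreticallyDominant.of_isPullback sqσ
  haveI : IsIso σ := IsClosedImmersion.isIso_iff_ker_eq_bot.2 σ.ker_eq_bot
  exact IsIso.of_isIso_fac_left hσg

end Groth.Agent.S9361
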