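import Groth.Statements.S9368
import Mathlib
import Groth.Agent.Lib.Helper25.CIOver
import Groth.Agent.Lib.Helper22.SyntFib
import Groth.Agent.Lib.Helper24.SyntLocalSch
set_option linter.style.haveILetI false

set_option autoImplicit false
universe u
open Synt

namespace Groth.Agent.S9368

theorem isSyntomic_field_iff (K B : Type u) [Field K] [CommRing B] [Algebra K B] :
    Synt.IsSyntomic K B ↔ Synt.IsLCIOver K B := by
  constructor
  · exact Groth.Agent.Lib.Helper22.SyntFib.isLCIOver_of_isSyntomic_field K B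
  · intro h
    haveI := h.1
    refine ⟨inferInstance, Algebra.FinitePresentation.of_finiteType.mp h.1, fun p => ?_⟩
    have hp : p.asIdeal = ⊥ := Ideal.eq_bot_of_prime p.asIdeal
    haveI : p.asIdeal.IsMaximal := hp ▸ Ideal.bot_isMaximal
    have hbij : Function.Bijective (algebraMap K p.asIdeal.ResidueField) :=
      ⟨(algebraMap K p.asIdeal.ResidueField).injective,
        Ideal.algebraMap_residueField_surjective _⟩
    let σ₀ : K ≃ₐ[K] p.asIdeal.ResidueField :=
      AlgEquiv.ofBijective (Algebra.ofId K _) hbij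
    let e : p.asIdeal.Fiber B ≃ₐ[K] B :=
      (Algebra.TensorProduct.congr σ₀.symm AlgEquiv.refl).trans (Algebra.TensorProduct.lid K B)
    refine (Groth.Agent.Lib.Helper24.SyntLocal.isLCIOver_iff_of_semilinearEquiv
      σ₀.symm.toRingEquiv e.toRingEquiv ?_).mpr h
    intro x
    show e (algebraMap _ _ x) = algebraMap K B (σ₀.symm x)
    rw [Algebra.TensorProduct.algebraMap_apply]
    simp [e, Algebra.smul_def]

theorem nonempty_algEquiv_localization {k A B : Type u} [CommRing k] [CommRing A] [CommRing B]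
    [Algebra k A] [Algebra k B] [Algebra A B] (M : Submonoid A) [IsLocalization M B]
    (hc : ∀ a : k, algebraMap k B a = algebraMap A B (algebraMap k A a)) :
    Nonempty (B ≃ₐ[k] Localization M) := by
  haveI : IsScalarTower k A B := IsScalarTower.of_algebraMap_eq hc
  exact ⟨(IsLocalization.algEquiv M B (Localization M)).restrictScalars k⟩

section aux

open AlgebraicGeometry CategoryTheory Opposite

variable {k : Type u} [Field k] {X : Scheme.{u}} (p : X ⟶ Spec (CommRingCat.of k))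

/-- the `k`-algebra structure on sections over `U`. -/
@[reducible] noncomputable def algU (U : X.Opens) : Algebra k Γ(X, U) :=
  ((Scheme.ΓSpecIso (CommRingCat.of k)).inv ≫ p.appLE ⊤ U le_top).hom.toAlgebra

/-- the `k`-algebra structure on the stalk at `x`. -/
@[reducible] noncomputable def algx (x : X) : Algebra k (X.presheaf.stalk x) :=
  ((Scheme.ΓSpecIso (CommRingCat.of k)).inv ≫ p.appLE ⊤ ⊤ le_top ≫
    X.presheaf.germ ⊤ x trivial).hom.toAlgebra

theorem finiteType_algU [LocallyOfFiniteType p] {U : X.Opens} (hU : IsAffineOpen U) :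
    letI := algU p U
    Algebra.FiniteType k Γ(X, U) := by
  have h1 : (p.appLE ⊤ U le_top).hom.FiniteType :=
    HasRingHomProperty.appLE @LocallyOfFiniteType p inferInstance ⟨⊤, isAffineOpen_top _⟩
      ⟨U, hU⟩ le_top
  exact (RingHom.finiteType_respectsIso.cancel_left_isIso
    (Scheme.ΓSpecIso (CommRingCat.of k)).inv (p.appLE ⊤ U le_top)).mpr h1

theorem syntomic_iff (U : X.Opens) :
    (letI := (p.appLE ⊤ U le_top).hom.toAlgebra
     Synt.IsSyntomic Γ(Spec (CommRingCat.of k), ⊤) Γ(X, U)) ↔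
      (letI := algU p U
       Synt.IsLCIOver k Γ(X, U)) := by
  have h1 := Groth.Agent.Lib.Helper24.SyntLocal.Q_isLocal.respectsIso.cancel_left_isIso
    (Scheme.ΓSpecIso (CommRingCat.of k)).inv (p.appLE ⊤ U le_top)
  letI := algU p U
  exact h1.symm.trans (isSyntomic_field_iff k Γ(X, U))

theorem mem_basicOpen_iff {U : X.Opens} (hU : IsAffineOpen U) (x : X) (hx : x ∈ U)
    (g : Γ(X, U)) :
    x ∈ X.basicOpen g ↔ g ∉ (hU.primeIdealOf ⟨x, hx⟩).asIdeal := by
  letI : Algebra Γ(X, U) (X.presheaf.stalk x) :=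
    TopCat.Presheaf.algebra_section_stalk X.presheaf ⟨x, hx⟩
  haveI : IsLocalization.AtPrime (X.presheaf.stalk x) (hU.primeIdealOf ⟨x, hx⟩).asIdeal :=
    hU.isLocalization_stalk ⟨x, hx⟩
  rw [X.mem_basicOpen g x hx]
  exact IsLocalization.AtPrime.isUnit_to_map_iff (X.presheaf.stalk x)
    (hU.primeIdealOf ⟨x, hx⟩).asIdeal g

theorem globalCI_basicOpen_iff {U : X.Opens} (hU : IsAffineOpen U) (g : Γ(X, U)) :
    (letI := algU p U
     Synt.IsGlobalCI k (Localization.Away g)) ↔
      (letI := algU p (X.basicOpen g)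
       Synt.IsGlobalCI k Γ(X, X.basicOpen g)) := by
  letI := algU p U
  letI := algU p (X.basicOpen g)
  haveI : IsLocalization (Submonoid.powers g) Γ(X, X.basicOpen g) :=
    hU.isLocalization_basicOpen g
  have hmor : (Scheme.ΓSpecIso (CommRingCat.of k)).inv ≫ p.appLE ⊤ (X.basicOpen g) le_top =
      ((Scheme.ΓSpecIso (CommRingCat.of k)).inv ≫ p.appLE ⊤ U le_top) ≫
        X.presheaf.map (homOfLE (X.basicOpen_le g)).op := by
    rw [Category.assoc, Scheme.Hom.appLE_map]
  obtain ⟨ε⟩ := nonempty_algEquiv_localization (k := k) (A := Γ(X, U))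
    (B := Γ(X, X.basicOpen g)) (Submonoid.powers g)
    (fun a => congrArg (fun φ : CommRingCat.of k ⟶ Γ(X, X.basicOpen g) => φ.hom a) hmor)
  exact ⟨fun h => Groth.Agent.Lib.Helper14.isGlobalCI_of_algEquiv ε.symm h,
    fun h => Groth.Agent.Lib.Helper14.isGlobalCI_of_algEquiv ε h⟩

theorem stalk_iff {U : X.Opens} (hU : IsAffineOpen U) (x : X) (hx : x ∈ U) :
    (letI := algx p x
     Synt.IsCIOver k (X.presheaf.stalk x)) ↔
      (letI := algU p U
       Synt.IsCIOver k (Localization.AtPrime (hU.primeIdealOf ⟨x, hx⟩).asIdeal)) := by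
  letI := algU p U
  letI := algx p x
  letI : Algebra Γ(X, U) (X.presheaf.stalk x) :=
    TopCat.Presheaf.algebra_section_stalk X.presheaf ⟨x, hx⟩
  haveI : IsLocalization (hU.primeIdealOf ⟨x, hx⟩).asIdeal.primeCompl (X.presheaf.stalk x) :=
    hU.isLocalization_stalk ⟨x, hx⟩
  have hgerm : p.appLE ⊤ ⊤ le_top ≫ X.presheaf.germ ⊤ x trivial =
      p.appLE ⊤ U le_top ≫ X.presheaf.germ U x hx := by
    rw [← X.presheaf.germ_res (homOfLE (le_top : U ≤ ⊤)) x hx, ← Category.assoc,
      Scheme.Hom.appLE_map]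
  have hmor : (Scheme.ΓSpecIso (CommRingCat.of k)).inv ≫ p.appLE ⊤ ⊤ le_top ≫
        X.presheaf.germ ⊤ x trivial =
      ((Scheme.ΓSpecIso (CommRingCat.of k)).inv ≫ p.appLE ⊤ U le_top) ≫
        X.presheaf.germ U x hx := by
    rw [Category.assoc, hgerm]
  obtain ⟨ε⟩ := nonempty_algEquiv_localization (k := k) (A := Γ(X, U))
    (B := X.presheaf.stalk x) (hU.primeIdealOf ⟨x, hx⟩).asIdeal.primeCompl
    (fun a => congrArg (fun φ : CommRingCat.of k ⟶ X.presheaf.stalk x => φ.hom a) hmor)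
  exact ⟨fun h => Groth.Agent.Lib.Helper25.CIOver.isCIOver_of_algEquiv ε h,
    fun h => Groth.Agent.Lib.Helper25.CIOver.isCIOver_of_algEquiv ε.symm h⟩

theorem exists_affine_nhd (x : X) : ∃ U : X.Opens, IsAffineOpen U ∧ x ∈ U := by
  obtain ⟨_, ⟨V, hV, rfl⟩, hxV, -⟩ := X.isBasis_affineOpens.exists_subset_of_mem_open
    (show x ∈ ((⊤ : X.Opens) : Set X) from trivial) (⊤ : X.Opens).2
  exact ⟨V, hV, hxV⟩

end aux


open AlgebraicGeometry CategoryTheory in
/-- For X locally of finite type over a field k with structure morphism p, the following are equivalent: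
(1) p is syntomic; (2) every x ∈ X has an affine open neighbourhood whose coordinate ring is a
global complete intersection over k; (3) each stalk O_{X,x} is a complete intersection ring over k
(k-algebra structures induced by p). -/
theorem result (k : Type u) [Field k] (X : Scheme.{u}) (p : X ⟶ Spec (CommRingCat.of k)) [LocallyOfFiniteType p] :
    [Synt.IsSyntomicMor p,
      ∀ x : ↑X, ∃ U : X.affineOpens, x ∈ U.1 ∧
        letI := ((Scheme.ΓSpecIso (CommRingCat.of k)).inv ≫ p.appLE ⊤ U.1 le_top).hom.toAlgebra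
        Synt.IsGlobalCI k Γ(X, U.1),
      ∀ x : ↑X,
        letI := ((Scheme.ΓSpecIso (CommRingCat.of k)).inv ≫ p.appLE ⊤ ⊤ le_top ≫ X.presheaf.germ ⊤ x trivial).hom.toAlgebra
        Synt.IsCIOver k (X.presheaf.stalk x)].TFAE := by
  tfae_have 1 → 2 := by
    intro h x
    obtain ⟨U, hU, hxU⟩ := exists_affine_nhd x
    have h1 := (Groth.Agent.Lib.Helper24.SyntLocalSch.isSyntomicMor_iff_forall_affineOpens p).mp h
      ⟨U, hU⟩ ⟨⊤, isAffineOpen_top _⟩ le_top
    have h2 := (syntomic_iff p U).mp h1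
    obtain ⟨g, hg, hG⟩ := h2.2 (hU.primeIdealOf ⟨x, hxU⟩)
    exact ⟨⟨X.basicOpen g, hU.basicOpen g⟩, (mem_basicOpen_iff hU x hxU g).mpr hg,
      (globalCI_basicOpen_iff p hU g).mp hG⟩
  tfae_have 2 → 3 := by
    intro h x
    obtain ⟨⟨U, hU⟩, hxU, hG⟩ := h x
    letI : Algebra k Γ(X, U) := algU p U
    haveI hft : Algebra.FiniteType k Γ(X, U) := finiteType_algU p hU
    have hG1 : Synt.IsGlobalCI k Γ(X, U) := hG
    have h1 : Synt.IsCIOver k (Localization.AtPrime (hU.primeIdealOf ⟨x, hxU⟩).asIdeal) :=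
      (Groth.Agent.Lib.Helper25.CIOver.isCIOver_atPrime_iff k Γ(X, U) _).mpr
        ⟨1, fun h1 => (hU.primeIdealOf ⟨x, hxU⟩).isPrime.ne_top
            ((Ideal.eq_top_iff_one _).mpr h1),
          Groth.Agent.Lib.Helper24.LocCI.isGlobalCI_away k Γ(X, U) 1 hG1⟩
    exact (stalk_iff p hU x hxU).mpr h1
  tfae_have 3 → 1 := by
    intro h x
    obtain ⟨U, hU, hxU⟩ := exists_affine_nhd x
    letI : Algebra k Γ(X, U) := algU p U
    haveI hft : Algebra.FiniteType k Γ(X, U) := finiteType_algU p hU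
    have h1 : Synt.IsCIOver k (Localization.AtPrime (hU.primeIdealOf ⟨x, hxU⟩).asIdeal) :=
      (stalk_iff p hU x hxU).mp (h x)
    obtain ⟨g, hg, hG⟩ := (Groth.Agent.Lib.Helper25.CIOver.isCIOver_atPrime_iff k Γ(X, U) _).mp h1
    have hG' := (globalCI_basicOpen_iff p hU g).mp hG
    letI : Algebra k Γ(X, X.basicOpen g) := algU p (X.basicOpen g)
    haveI hft' : Algebra.FiniteType k Γ(X, X.basicOpen g) := finiteType_algU p (hU.basicOpen g)
    have hL : Synt.IsLCIOver k Γ(X, X.basicOpen g) :=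
      Groth.Agent.Lib.Helper25.CIOver.isLCIOver_of_isGlobalCI k _ hG'
    exact ⟨⟨X.basicOpen g, hU.basicOpen g⟩, ⟨⊤, isAffineOpen_top _⟩, le_top,
      (mem_basicOpen_iff hU x hxU g).mpr hg, (syntomic_iff p (X.basicOpen g)).mpr hL⟩
  tfae_finish

end Groth.Agent.S9368
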