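import Groth.Statements.S9373
import Groth.Agent.Lib.Helper3.AssPoints

set_option autoImplicit false
universe u
open QCohSub

namespace Groth.Agent.S9373

open AlgebraicGeometry CategoryTheory in
/-- The support of a quasi-coherent O_X-module is closed under specialization. -/
theorem result (X : Scheme.{u}) (F : X.Modules) (hF : Coh.IsQCoh F) :
    StableUnderSpecialization (CohB1.support F) := by
  have : F.IsQuasicoherent := hF
  intro x x' hsp hx
  change ¬ Subsingleton (F.presheaf.stalk x) at hx
  change ¬ Subsingleton (F.presheaf.stalk x')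
  intro hx'
  apply hx
  obtain ⟨_, ⟨U, hU : IsAffineOpen U, rfl⟩, hx'U, -⟩ := X.isBasis_affineOpens.exists_subset_of_mem_open (Set.mem_univ x') isOpen_univ
  have hxU : x ∈ U := hsp.mem_open U.2 hx'U
  rw [Groth.Agent.Lib.Helper3.QS.subsingleton_stalk_iff hU F x hxU]
  rw [Groth.Agent.Lib.Helper3.QS.subsingleton_stalk_iff hU F x' hx'U] at hx'
  intro m
  obtain ⟨c, hc, hcm⟩ := hx' m
  refine ⟨c, fun hcx => hc ?_, hcm⟩
  exact (Groth.Agent.Lib.Helper3.primeIdealOf_le_iff_specializes hU x x' hxU hx'U).mpr hsp hcx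

end Groth.Agent.S9373
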