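-- Statement S9375.
import Groth.Statements.S9375
import Mathlib
import Groth.Agent.Lib.Helper1.ConormMap
set_option linter.style.haveILetI false

set_option autoImplicit false
universe u
open OmegaSh

namespace Groth.Agent.S9375

open CategoryTheory CategoryTheory.Limits AlgebraicGeometry TopologicalSpace Opposite
open Groth.Agent.Lib.Helper1

open AlgebraicGeometry CategoryTheory Limits in
/-- For quasi-compact immersions i : Z → X and j : Z → Y with j = i ≫ p for p : X → Y, there is an exact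
sequence C_{Z/Y} → C_{Z/X} → i^*Ω_{X/Y} → 0 with the canonical maps; Ω_{X/Y} is any receptacle of a
universal derivation. (The published statement allows arbitrary immersions; this row assumes i and j
quasi-compact.) -/
theorem result {Z X Y : Scheme.{u}} (p : X ⟶ Y) (i : Z ⟶ X) (j : Z ⟶ Y) [IsImmersion i] [IsImmersion j]
    [QuasiCompact i] [QuasiCompact j] (hij : i ≫ p = j)
    (Ω : X.Modules) (d : OmegaSh.Der p Ω) (hd : OmegaSh.IsUniversal d)
    (ψ : (Scheme.Modules.pullback (𝟙 Z)).obj (Omega.conormal j) ⟶ Omega.conormal i) (hψ : OmegaSh.IsConormalMap i j p (𝟙 Z) ψ)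
    (φ : Omega.conormal i ⟶ (Scheme.Modules.pullback i).obj Ω) (hφ : OmegaSh.IsConormalDiff i d φ) :
    ∃ w : ψ ≫ φ = 0, (ShortComplex.mk ψ φ w).Exact ∧ Epi φ := by
  subst hij
  haveI qX : Ω.IsQuasicoherent := DerSmooth.isQuasicoherent p d hd
  haveI qN : ((Scheme.Modules.pullback i).obj Ω).IsQuasicoherent :=
    Groth.Agent.Lib.Helper17.PbStalk.isQuasicoherent_pullback i Ω
  haveI qC : (Omega.conormal i).IsQuasicoherent :=
    Groth.Agent.Lib.Helper17.PbStalk.isQuasicoherent_pullback i (ClSub.idealMod i.ker)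
  have w := ConormMap.psi_phi_eq_zero p i d ψ hψ φ hφ
  refine ⟨w, ?_, ConormMap.epi_conormalDiff p i d φ hφ hd⟩
  apply ModLocal.exact_of_exact_on_affine_cover
  intro z
  obtain ⟨VY, U, hVY, hU, hzU, hUVY, hUc, hVYc, hle⟩ := ConormMap.exists_good_pair i p z
  obtain ⟨hV, -⟩ := ConormMap.good_of_le_coborderRange i hU hUc
  exact ⟨i ⁻¹ᵁ U, hV, hzU, fun m hm =>
    ConormMap.exact_on_pair p i d ψ hψ φ hφ hd hVY hU hUVY hUc hVYc hle m hm⟩

end Groth.Agent.S9375
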