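import Groth.Statements.S9378
import Mathlib
import Groth.Agent.Lib.Helper17.PbStalk
import Groth.Agent.Lib.Helper17.PbFinite
import Groth.Agent.Lib.Helper17.ClImmUnit
import Groth.Agent.Lib.Helper3.IdealComap
import Groth.Agent.Lib.Helper3.QCProps

set_option autoImplicit false
universe u
open QCohSub

namespace Groth.Agent.S9378

open AlgebraicGeometry CategoryTheory Opposite TensorProduct Groth.Agent.Lib.Helper3
  Groth.Agent.Lib.Helper17

/-- the annihilator of a finite module commutes with flat base change. -/
theorem annihilator_baseChange {A B M N : Type*} [CommRing A] [CommRing B] [Algebra A B]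
    [Module.Flat A B] [AddCommGroup M] [Module A M] [Module.Finite A M] [AddCommGroup N]
    [Module A N] [Module B N] [IsScalarTower A B N] (β : M →ₗ[A] N) (hβ : IsBaseChange B β) :
    Module.annihilator B N = (Module.annihilator A M).map (algebraMap A B) := by
  classical
  apply le_antisymm
  · intro b hb
    obtain ⟨G, hG⟩ := (Module.Finite.fg_top : (⊤ : Submodule A M).FG)
    let ψ : A →ₗ[A] (G → M) := LinearMap.pi fun g => LinearMap.toSpanSingleton A M g.1
    have hψ : ∀ (a : A) (g : G), ψ a g = a • (g.1 : M) := fun a g => rfl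
    have hker : ∀ a : A, a ∈ LinearMap.ker ψ → a ∈ Module.annihilator A M := by
      intro a ha
      rw [LinearMap.mem_ker] at ha
      rw [Module.mem_annihilator]
      intro m
      have hm : m ∈ Submodule.span A (G : Set M) := by rw [hG]; trivial
      induction hm using Submodule.span_induction with
      | mem x hx =>
        have := congrFun ha ⟨x, hx⟩
        rw [hψ] at this
        exact this
      | zero => rw [smul_zero]
      | add x y _ _ hx hy => rw [smul_add, hx, hy, add_zero]
      | smul r x _ hx => rw [smul_comm, hx, smul_zero]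
    have hex := Module.Flat.lTensor_exact B (LinearMap.exact_subtype_ker_map ψ)
    have h0 : (ψ.lTensor B) (b ⊗ₜ[A] (1 : A)) = 0 := by
      rw [LinearMap.lTensor_tmul, ← Finset.univ_sum_single (ψ 1), TensorProduct.tmul_sum]
      apply Finset.sum_eq_zero
      intro g _
      have h1 : b ⊗ₜ[A] (g.1 : M) = 0 := by
        apply hβ.equiv.injective
        rw [IsBaseChange.equiv_tmul, map_zero]
        exact Module.mem_annihilator.mp hb _
      have h2 := congrArg ((LinearMap.single A (fun _ : G => M) g).lTensor B) h1
      rw [LinearMap.lTensor_tmul, map_zero] at h2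
      rw [hψ, one_smul]
      exact h2
    obtain ⟨y, hy⟩ := (hex (b ⊗ₜ[A] (1 : A))).mp h0
    have hb' : b = TensorProduct.rid A B (((LinearMap.ker ψ).subtype.lTensor B) y) := by
      rw [hy, TensorProduct.rid_tmul, one_smul]
    rw [hb']
    clear hb' hy
    induction y using TensorProduct.induction_on with
    | zero =>
      rw [map_zero, map_zero]
      exact Ideal.zero_mem _
    | tmul b' i =>
      rw [LinearMap.lTensor_tmul, TensorProduct.rid_tmul, Algebra.smul_def]
      exact Ideal.mul_mem_right _ _ (Ideal.mem_map_of_mem _ (hker _ i.2))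
    | add y z hy hz =>
      rw [map_add, map_add]
      exact Ideal.add_mem _ hy hz
  · rw [Ideal.map_le_iff_le_comap]
    intro a ha
    rw [Ideal.mem_comap, Module.mem_annihilator]
    intro n
    induction n using hβ.inductionOn with
    | zero => rw [smul_zero]
    | tmul m =>
      rw [algebraMap_smul, ← β.map_smul, Module.mem_annihilator.mp ha, map_zero]
    | smul b' n hn => rw [smul_comm, hn, smul_zero]
    | add n₁ n₂ h₁ h₂ => rw [smul_add, h₁, h₂, add_zero]

open AlgebraicGeometry CategoryTheory Opposite in
/-- Let f : Y → X be flat and F a quasi-coherent O_X-module of finite type, where the ideal sheaf J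
(given by annihilators on affine opens) defines the scheme-theoretic support of F. Then the inverse
image ideal sheaf of J along f cuts out the scheme-theoretic support of f^*F. -/
theorem result {Y X : Scheme.{u}} (f : Y ⟶ X) [Flat f] (F : X.Modules)
    (hq : Coh.IsQCoh F) (hft : CohB1.IsFT F) (J : X.IdealSheafData)
    (hJ : ∀ U : X.affineOpens, J.ideal U = Module.annihilator Γ(X, U.1) Γ(F, U.1)) :
    ∀ V : Y.affineOpens, (J.comap f).ideal V =
      Module.annihilator Γ(Y, V.1) Γ((Scheme.Modules.pullback f).obj F, V.1) := by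
  haveI : F.IsQuasicoherent := hq
  haveI : F.IsFiniteType := hft
  haveI : ((Scheme.Modules.pullback f).obj F).IsQuasicoherent :=
    PbStalk.isQuasicoherent_pullback f F
  haveI : ((Scheme.Modules.pullback f).obj F).IsFiniteType := PbFinite.isFiniteType_pullback f F
  have key : J.comap f = ClImmUnit.annData ((Scheme.Modules.pullback f).obj F) := by
    apply Scheme.IdealSheafData.ext_of_iSup_eq_top
      (fun p : {p : Y.affineOpens × X.affineOpens // p.1.1 ≤ f ⁻¹ᵁ p.2.1} => p.1.1)
    · rw [eq_top_iff]
      intro y _
      obtain ⟨U, hU, hyU⟩ := QCProps.exists_affine_nbhd (f y)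
      obtain ⟨V, hV, hyV, hVle⟩ := TopologicalSpace.Opens.isBasis_iff_nbhd.mp Y.isBasis_affineOpens
        (show y ∈ f ⁻¹ᵁ U from hyU)
      exact TopologicalSpace.Opens.mem_iSup.mpr ⟨⟨(⟨V, hV⟩, ⟨U, hU⟩), hVle⟩, hyV⟩
    · rintro ⟨⟨V, U⟩, h⟩
      rw [ideal_comap_of_le f J V U h, hJ U]
      show _ = Module.annihilator Γ(Y, V.1) Γ((Scheme.Modules.pullback f).obj F, V.1)
      letI alg : Algebra Γ(X, U.1) Γ(Y, V.1) := (f.appLE U.1 V.1 h).hom.toAlgebra
      letI : Module Γ(X, U.1) Γ((Scheme.Modules.pullback f).obj F, V.1) :=
        Module.compHom _ (f.appLE U.1 V.1 h).hom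
      obtain ⟨hst, β, hβ⟩ := PbStalk.exists_isBaseChange_sections f F U.2 V.2 h
      haveI : Module.Flat Γ(X, U.1) Γ(Y, V.1) := f.flat_appLE U.2 V.2 h
      haveI : Module.Finite Γ(X, U.1) Γ(F, U.1) := QCProps.finite_sections F U.2
      exact (annihilator_baseChange β hβ).symm
  intro V
  rw [key]
  rfl

end Groth.Agent.S9378
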