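import Groth.Statements.S9380
import Groth.Agent.Lib.Helper3.AffEmb
import Groth.Agent.Lib.Helper6.AffAlgBasic

set_option autoImplicit false
universe u
open QAff

namespace Groth.Agent.S9380

open AlgebraicGeometry CategoryTheory in
/-- A quasi-compact quasi-separated morphism f : X → S is quasi-affine if and only if the canonical
S-morphism X → Spec_S(f_*O_X) (the one inducing the comparison map on direct-image algebras) exists
as a quasi-compact open immersion. -/
theorem result {X S : Scheme.{u}} (f : X ⟶ S) [QuasiCompact f] [QuasiSeparated f] :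
    MoreMor.IsQuasiAffineHom f ↔
      ∃ (c : X ⟶ (RelSpec.QCAlg.directImage f).spec) (e : c ≫ (RelSpec.QCAlg.directImage f).π = f),
        (RelSpec.QCAlg.directImage f).gammaMap = AffAlg.algHom (RelSpec.QCAlg.directImage f).π f c e ∧
          QuasiCompact c ∧ IsOpenImmersion c := by
  classical
  constructor
  · rintro ⟨hqc, hqa⟩
    obtain ⟨c, e, hc⟩ := Groth.Agent.Lib.Helper3.AffEmb.exists_hom_to_spec f
      (RelSpec.QCAlg.directImage f) (𝟙 _)
    have hc' : (RelSpec.QCAlg.directImage f).gammaMap =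
        AffAlg.algHom (RelSpec.QCAlg.directImage f).π f c e := by
      rw [hc]
      exact (Category.comp_id _).symm
    refine ⟨c, e, hc', ?_, ?_⟩
    · haveI : QuasiCompact (c ≫ (RelSpec.QCAlg.directImage f).π) := by rw [e]; infer_instance
      exact QuasiCompact.of_comp c (RelSpec.QCAlg.directImage f).π
    · refine (IsZariskiLocalAtTarget.iff_of_iSup_eq_top (P := @IsOpenImmersion)
        (fun V : S.affineOpens => (RelSpec.QCAlg.directImage f).π ⁻¹ᵁ V.1)
        (Groth.Agent.Lib.Helper6.iSup_preimage_affineOpens_eq_top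
          (RelSpec.QCAlg.directImage f).π)).2 ?_
      intro V
      haveI : IsAffine ((RelSpec.QCAlg.directImage f).π ⁻¹ᵁ V.1 : Scheme.{u}) :=
        V.2.preimage (RelSpec.QCAlg.directImage f).π
      haveI : Scheme.IsQuasiAffine (c ⁻¹ᵁ ((RelSpec.QCAlg.directImage f).π ⁻¹ᵁ V.1) : Scheme.{u}) := by
        have h1 : c ⁻¹ᵁ ((RelSpec.QCAlg.directImage f).π ⁻¹ᵁ V.1) = f ⁻¹ᵁ V.1 := by
          rw [← Scheme.Hom.comp_preimage, e]
        rw [h1]
        exact hqa V.1 V.2
      have hiso : IsIso (c.app ((RelSpec.QCAlg.directImage f).π ⁻¹ᵁ V.1)) := by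
        obtain ⟨ε, hε⟩ := Groth.Agent.Lib.Helper6.algHom_app_eq
          (RelSpec.QCAlg.directImage f).π f c e V.1
        have h1 : (RelSpec.QCAlg.directImage f).gammaMap.app (Opposite.op V.1) =
            (RelSpec.QCAlg.directImage f).gammaAff V.1 V.2 :=
          (RelSpec.QCAlg.directImage f).gammaMap_app V.1 V.2
        have hG := Groth.Agent.S8255.isIso_gammaAff (RelSpec.QCAlg.directImage f) V.1 V.2
        haveI h2 : IsIso (c.app ((RelSpec.QCAlg.directImage f).π ⁻¹ᵁ V.1) ≫ ε.hom) := by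
          rw [← hε, ← hc', h1]
          exact hG
        exact IsIso.of_isIso_comp_right _ ε.hom
      haveI hiso' : IsIso (c ∣_ ((RelSpec.QCAlg.directImage f).π ⁻¹ᵁ V.1)).appTop := by
        rw [morphismRestrict_appTop]
        have hA : IsIso (c.app (((RelSpec.QCAlg.directImage f).π ⁻¹ᵁ V.1).ι ''ᵁ ⊤)) :=
          Groth.Agent.Lib.Helper6.app_isIso_congr c
            (Scheme.Opens.ι_image_top _).symm hiso
        have hB := Groth.Agent.Lib.Helper6.isIso_presheaf_map_eqToHom (Z := X)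
          (image_morphismRestrict_preimage c ((RelSpec.QCAlg.directImage f).π ⁻¹ᵁ V.1) ⊤)
        exact IsIso.comp_isIso' hA hB
      have hnat := Scheme.toSpecΓ_naturality (c ∣_ ((RelSpec.QCAlg.directImage f).π ⁻¹ᵁ V.1))
      have h2 : c ∣_ ((RelSpec.QCAlg.directImage f).π ⁻¹ᵁ V.1) =
          Scheme.toSpecΓ _ ≫ Spec.map (c ∣_ ((RelSpec.QCAlg.directImage f).π ⁻¹ᵁ V.1)).appTop ≫
            inv (Scheme.toSpecΓ _) := by
        rw [← Category.assoc, ← hnat, Category.assoc, IsIso.hom_inv_id, Category.comp_id]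
      rw [h2]
      infer_instance
  · rintro ⟨c, e, -, hqc, hoi⟩
    refine ⟨inferInstance, fun V hV => ?_⟩
    have h1 : c ⁻¹ᵁ ((RelSpec.QCAlg.directImage f).π ⁻¹ᵁ V) = f ⁻¹ᵁ V := by
      rw [← Scheme.Hom.comp_preimage, e]
    rw [← h1]
    haveI : IsAffine ((RelSpec.QCAlg.directImage f).π ⁻¹ᵁ V : Scheme.{u}) :=
      hV.preimage (RelSpec.QCAlg.directImage f).π
    haveI : IsOpenImmersion (c ∣_ ((RelSpec.QCAlg.directImage f).π ⁻¹ᵁ V)) :=
      IsZariskiLocalAtTarget.restrict hoi _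
    haveI : QuasiCompact (c ∣_ ((RelSpec.QCAlg.directImage f).π ⁻¹ᵁ V)) :=
      IsZariskiLocalAtTarget.restrict hqc _
    haveI : CompactSpace (c ⁻¹ᵁ ((RelSpec.QCAlg.directImage f).π ⁻¹ᵁ V) : Scheme.{u}) :=
      QuasiCompact.compactSpace_of_compactSpace (c ∣_ ((RelSpec.QCAlg.directImage f).π ⁻¹ᵁ V))
    exact Scheme.IsQuasiAffine.of_isImmersion (c ∣_ ((RelSpec.QCAlg.directImage f).π ⁻¹ᵁ V))

end Groth.Agent.S9380
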