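import Groth.Statements.S9381
import Mathlib
import Groth.Agent.Lib.Helper12.SchemeDimFT
import Groth.Agent.S1537
import Groth.Agent.S7407

set_option autoImplicit false
universe u
open FibDim

namespace Groth.Agent.S9381

open AlgebraicGeometry CategoryTheory Limits
open Groth.Agent.Lib.Helper12.SchemeDimFT

attribute [local instance] Curv2.resAlgebra

theorem trdeg_lt_of_specializes (k : Type u) [Field k] (X : Scheme.{u})
    [X.Over (Spec (CommRingCat.of k))]
    [LocallyOfFiniteType (X ↘ Spec (CommRingCat.of k))] (x x' : X) (hsp : x ⤳ x')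
    (hne : x ≠ x') :
    Algebra.trdeg k (X.residueField x') < Algebra.trdeg k (X.residueField x) := by
  obtain ⟨U, hU, hx'⟩ := exists_affineOpen_mem X x'
  have hx : x ∈ U := hsp.mem_open U.2 hx'
  have hlt : hU.primeIdealOf ⟨x, hx⟩ < hU.primeIdealOf ⟨x', hx'⟩ :=
    (primeIdealOf_lt_iff hU _ _).mpr ⟨hsp, hne⟩
  obtain ⟨m, hm1, hm2⟩ := exists_trdeg_eq_coheight k X U hU x hx
  obtain ⟨m', hm1', hm2'⟩ := exists_trdeg_eq_coheight k X U hU x' hx'
  have h3 : Order.coheight (hU.primeIdealOf ⟨x', hx'⟩) <
      Order.coheight (hU.primeIdealOf ⟨x, hx⟩) :=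
    Order.coheight_strictAnti hlt (by rw [hm2']; exact ENat.coe_lt_top _)
  rw [hm2, hm2'] at h3
  rw [hm1, hm1']
  exact_mod_cast h3

theorem residueFieldMap_surjective_of_isPreimmersion {Z X : Scheme.{u}} (ι : Z ⟶ X)
    [IsPreimmersion ι] (z : Z) : Function.Surjective (ι.residueFieldMap z).hom := by
  intro b
  obtain ⟨b₀, rfl⟩ := IsLocalRing.residue_surjective b
  obtain ⟨a, rfl⟩ := ι.stalkMap_surjective z b₀
  exact ⟨IsLocalRing.residue _ a, rfl⟩

open AlgebraicGeometry CategoryTheory in
/-- Let f : X → S be locally of finite type and x ⤳ x' a nontrivial specialization of points of X in the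
same fibre (f x = f x'). Then trdeg_{κ(f x)} κ(x) > trdeg_{κ(f x')} κ(x'). -/
theorem result {X S : Scheme.{u}} (f : X ⟶ S) [LocallyOfFiniteType f] (x x' : X)
    (hsp : x ⤳ x') (hne : x ≠ x') (hfx : f.base x = f.base x') :
    @Algebra.trdeg (S.residueField (f.base x')) (X.residueField x') _ _ (f.residueFieldMap x').hom.toAlgebra <
      @Algebra.trdeg (S.residueField (f.base x)) (X.residueField x) _ _ (f.residueFieldMap x).hom.toAlgebra := by

  classical
  obtain ⟨s, hs⟩ : ∃ s : S, s = f.base x' := ⟨_, rfl⟩
  let Z := f.fiber s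
  let ι : Z ⟶ X := f.fiberι s
  let t : Z ⟶ Spec (S.residueField s) := f.fiberToSpecResidueField s
  let L : Type u := S.residueField s
  have hrange : Set.range ι = f ⁻¹' {s} := f.range_fiberι s
  obtain ⟨z', hz'⟩ : x' ∈ Set.range ι := by rw [hrange]; exact hs.symm
  obtain ⟨z, hz⟩ : x ∈ Set.range ι := by rw [hrange]; exact hfx.trans hs.symm
  subst hz hz'
  have hzsp : z ⤳ z' := ι.isEmbedding.toIsInducing.specializes_iff.mp hsp
  have hzne : z ≠ z' := fun h => hne (congrArg _ h)
  letI : Z.Over (Spec (CommRingCat.of L)) := ⟨t⟩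
  haveI : LocallyOfFiniteType (Z ↘ Spec (CommRingCat.of L)) :=
    inferInstanceAs (LocallyOfFiniteType (pullback.snd f (S.fromSpecResidueField s)))
  have hA := trdeg_lt_of_specializes L Z z z' hzsp hzne
  have hB : ∀ w : Z,
      @Algebra.trdeg (S.residueField (f.base (ι w))) (X.residueField (ι w)) _ _
        (f.residueFieldMap (ι w)).hom.toAlgebra = Algebra.trdeg L (Z.residueField w) := by
    intro w
    have hsw : f.base (ι w) = s := by
      have : ι w ∈ f ⁻¹' {s} := hrange ▸ ⟨w, rfl⟩
      exact this
    let χ := (f.residueFieldMap (ι w)).hom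
    let ρ := (ι.residueFieldMap w).hom
    let c := (S.residueFieldCongr hsw).hom.hom
    let ξ := Curv2.resMap L Z w
    have hsq : ρ.comp χ = ξ.comp c := by
      have h1 : f.residueFieldMap (ι w) ≫ ι.residueFieldMap w =
          (S.residueFieldCongr hsw).hom ≫ CommRingCat.ofHom ξ := by
        apply Spec.map_injective
        rw [← cancel_mono (S.fromSpecResidueField (f.base (ι w)))]
        rw [Spec.map_comp, Spec.map_comp, Category.assoc, Category.assoc,
          Scheme.Hom.SpecMap_residueFieldMap_fromSpecResidueField,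
          Scheme.Hom.SpecMap_residueFieldMap_fromSpecResidueField_assoc,
          Scheme.residueFieldCongr_fromSpecResidueField]
        refine Eq.trans ?_ (congrArg (fun q => q ≫ S.fromSpecResidueField s)
          (Groth.Agent.S1537.specMap_resMap L Z w).symm)
        show Z.fromSpecResidueField w ≫ ι ≫ f =
          (Z.fromSpecResidueField w ≫ t) ≫ S.fromSpecResidueField s
        rw [Category.assoc]
        congr 1
        exact f.fiber_fac s
      exact congrArg CommRingCat.Hom.hom h1
    have hρ : Function.Surjective ρ := residueFieldMap_surjective_of_isPreimmersion ι w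
    have hc : Function.Surjective c :=
      (ConcreteCategory.bijective_of_isIso (S.residueFieldCongr hsw).hom).2
    have e1 := Groth.Agent.S7407.trdeg_comp_of_right_algebraic χ ρ χ.injective ρ.injective
      (Groth.Agent.S7407.isAlgebraic_of_surjective ρ hρ)
    have e2 := Groth.Agent.S7407.trdeg_congr_hom hsq
    have e3 := Groth.Agent.S7407.trdeg_comp_of_left_algebraic c ξ c.injective ξ.injective
      (Groth.Agent.S7407.isAlgebraic_of_surjective c hc)
    exact e1.symm.trans (e2.trans e3)
  rw [hB z, hB z']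
  exact hA

end Groth.Agent.S9381
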