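import Groth.Statements.S9385
import Groth.Agent.Lib.Helper16.SchImmRed
open Groth.Agent.Lib.Helper16

set_option autoImplicit false
universe u
open SchDense

namespace Groth.Agent.S9385

open AlgebraicGeometry CategoryTheory in
/-- Let h : Z → X be an immersion, and suppose that either Z is reduced or h is quasi-compact. Write Z̄
⊆ X for the scheme-theoretic image of h. Then Z → Z̄ is an open immersion identifying Z with a
scheme-theoretically dense (in the for-every-open sense) and topologically dense open subscheme of
Z̄. -/
theorem result {Z X : Scheme.{u}} (h : Z ⟶ X) [IsImmersion h]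
    (hyp : QuasiCompact h ∨ IsReduced Z) :
    ∃ hI : IsOpenImmersion h.toImage,
      (∀ W : h.image.Opens, IsSchemeTheoreticallyDominant
          (h.image.homOfLE (inf_le_right : @Scheme.Hom.opensRange _ _ h.toImage hI ⊓ W ≤ W))) ∧
        DenseRange h.toImage.base := by
  classical
  rcases hyp with hq | hred
  · -- quasi-compact case
    haveI : IsSchemeTheoreticallyDominant h.toImage := ⟨SchImgKer.ker_toImage h⟩
    refine ⟨inferInstance, fun W => ?_, h.toImage.denseRange⟩
    have hι : h.toImage.isoOpensRange.inv ≫ h.toImage = h.toImage.opensRange.ι :=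
      Scheme.Hom.isoOpensRange_inv_comp h.toImage
    haveI : IsSchemeTheoreticallyDominant h.toImage.opensRange.ι := by
      rw [← hι]; infer_instance
    haveI : QuasiCompact h.toImage.opensRange.ι := by
      rw [← hι]; infer_instance
    exact IsSchemeTheoreticallyDominant.of_isPullback (isPullback_opens_inf h.toImage.opensRange W)
  · -- reduced case
    haveI := SchImgKer.isReduced_image_of_isReduced h
    have hd : DenseRange h.toImage := SchImgKer.denseRange_toImage_of_isReduced h
    have hI : IsOpenImmersion h.toImage := SchImgKer.isOpenImmersion_toImage_of_isReduced h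
    refine ⟨hI, fun W => ?_, hd⟩
    haveI : IsDominant (h.image.homOfLE (inf_le_right : h.toImage.opensRange ⊓ W ≤ W)) := by
      constructor
      have h1 : Dense ((Subtype.val : W → h.image) ⁻¹' Set.range h.toImage) :=
        hd.preimage W.isOpen.isOpenMap_subtype_val
      refine h1.mono ?_
      rintro ⟨w, hw⟩ ⟨z, hz⟩
      refine ⟨⟨w, ⟨⟨z, hz⟩, hw⟩⟩, ?_⟩
      apply Subtype.ext
      rw [Scheme.homOfLE_apply]
    exact IsSchemeTheoreticallyDominant.of_isDominant _

end Groth.Agent.S9385
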