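import Groth.Statements.S9389
import Mathlib

set_option autoImplicit false
universe u
open QFin

namespace Groth.Agent.S9389

open AlgebraicGeometry CategoryTheory in
theorem isOpen_singleton_fiber_iff {X S : Scheme.{u}} (f : X ⟶ S) [LocallyOfFiniteType f]
    (y : S) (z : f.fiber y) :
    IsOpen {z} ↔ f.QuasiFiniteAt (f.fiberι y z) := by
  suffices ∀ x, f.fiberι y z = x → (IsOpen {z} ↔ f.QuasiFiniteAt x) from this _ rfl
  intro x hx
  have hy : f x = y := by
    have : x ∈ Set.range (f.fiberι y) := ⟨z, hx⟩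
    rw [f.range_fiberι] at this
    exact this
  subst hy
  have : z = f.asFiber x :=
    (f.fiberι (f x)).isEmbedding.injective (by rw [hx, f.fiberι_asFiber])
  rw [this]
  exact Scheme.Hom.quasiFiniteAt_iff_isOpen_singleton_asFiber.symm

open AlgebraicGeometry CategoryTheory Limits in
theorem aux {X S X' S' : Scheme.{u}} (f : X ⟶ S) [LocallyOfFiniteType f] (g : S' ⟶ S)
    (g' : X' ⟶ X) (f' : X' ⟶ S') (hsq : IsPullback g' f' f g) :
    {x' : ↑X' | f'.QuasiFiniteAt x'} = g'.base ⁻¹' {x : ↑X | f.QuasiFiniteAt x} := by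
  have : LocallyOfFiniteType f' := MorphismProperty.of_isPullback hsq ‹_›
  ext x'
  simp only [Set.mem_setOf_eq, Set.mem_preimage]
  constructor
  · intro h
    have h1 : IsOpen {f'.asFiber x'} :=
      Scheme.Hom.quasiFiniteAt_iff_isOpen_singleton_asFiber.mp h
    let φ : f'.fiber (f' x') ⟶ f.fiber (g (f' x')) :=
      pullback.map _ _ _ _ g' (Spec.map (g.residueFieldMap (f' x'))) g hsq.w.symm (by simp)
    have hφ : IsPullback φ (f'.fiberToSpecResidueField (f' x'))
        (f.fiberToSpecResidueField (g (f' x'))) (Spec.map (g.residueFieldMap (f' x'))) :=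
      isPullback_fiberToSpecResidueField_of_isPullback hsq (f' x')
    have : UniversallyOpen (Spec.map (g.residueFieldMap (f' x'))) := inferInstance
    have : UniversallyOpen φ := MorphismProperty.of_isPullback hφ.flip this
    have h2 : IsOpen (φ '' {f'.asFiber x'}) := φ.isOpenMap _ h1
    rw [Set.image_singleton, isOpen_singleton_fiber_iff] at h2
    convert h2 using 1
    have e : φ ≫ f.fiberι _ = f'.fiberι _ ≫ g' := pullback.lift_fst _ _ _
    rw [← Scheme.Hom.comp_apply, e, Scheme.Hom.comp_apply, f'.fiberι_asFiber]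
  · intro h
    have hxU : g' x' ∈ f.quasiFiniteLocus := h
    have sq1 : IsPullback (g' ∣_ f.quasiFiniteLocus) (g' ⁻¹ᵁ f.quasiFiniteLocus).ι
        f.quasiFiniteLocus.ι g' := isPullback_morphismRestrict g' _
    have sq2 := sq1.paste_vert hsq
    have : LocallyQuasiFinite ((g' ⁻¹ᵁ f.quasiFiniteLocus).ι ≫ f') :=
      MorphismProperty.of_isPullback sq2
        (inferInstance : LocallyQuasiFinite (f.quasiFiniteLocus.ι ≫ f))
    have h3 := ((g' ⁻¹ᵁ f.quasiFiniteLocus).ι ≫ f').quasiFiniteAt ⟨x', hxU⟩
    rw [Scheme.Hom.quasiFiniteAt_comp_iff_of_isOpenImmersion] at h3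
    exact h3

open AlgebraicGeometry CategoryTheory in
/-- For f : X → S locally of finite type and a cartesian square with base change f' : X' → S', g' : X' →
X, the quasi-finite locus of f' is the inverse image under g' of the quasi-finite locus of f. -/
theorem result {X S X' S' : Scheme.{u}} (f : X ⟶ S) [LocallyOfFiniteType f] (g : S' ⟶ S)
    (g' : X' ⟶ X) (f' : X' ⟶ S') (hsq : IsPullback g' f' f g) :
    {x' : ↑X' | f'.QuasiFiniteAt x'} = g'.base ⁻¹' {x : ↑X | f.QuasiFiniteAt x} := by
  exact aux f g g' f' hsq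

end Groth.Agent.S9389
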