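import Groth.Statements.S9393
import Mathlib
import Groth.Agent.Lib.Helper14.NJapanese

set_option autoImplicit false
universe u
open CAlg

namespace Groth.Agent.S9393

/-- Being N-1 can be checked on a finite cover of Spec R by principal opens whose rings are N-1 domains. -/
theorem result (R : Type u) [CommRing R] [IsDomain R]
    {ι : Type u} [Finite ι] (f : ι → R) (hf : Ideal.span (Set.range f) = ⊤)
    (Rf : ι → Type u) [∀ i, CommRing (Rf i)] [∀ i, IsDomain (Rf i)] [∀ i, Algebra R (Rf i)]
    [∀ i, IsLocalization.Away (f i) (Rf i)] (h : ∀ i, CAlg.IsN1 (Rf i)) : CAlg.IsN1 R := by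
  have hM : ∀ i, ∀ m : Submonoid.powers (f i), IsUnit (algebraMap R (FractionRing R) m) := by
    intro i m
    have hm0 : (m : R) ≠ 0 := by
      intro h0
      have := IsLocalization.map_units (Rf i) m
      rw [h0, map_zero] at this
      exact not_isUnit_zero this
    exact IsUnit.mk0 _ (by simpa using hm0)
  letI : ∀ i, Algebra (Rf i) (FractionRing R) := fun i => (IsLocalization.lift (hM i)).toAlgebra
  haveI : ∀ i, IsScalarTower R (Rf i) (FractionRing R) := fun i =>
    IsScalarTower.of_algebraMap_eq fun r => (IsLocalization.lift_eq (hM i) r).symm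
  haveI : ∀ i, IsFractionRing (Rf i) (FractionRing R) := fun i =>
    IsFractionRing.isFractionRing_of_isDomain_of_isLocalization (Submonoid.powers (f i)) (Rf i)
      (FractionRing R)
  apply Groth.Agent.Lib.Helper14.finite_integralClosure_of_span_eq_top f hf Rf
  intro i
  let e : FractionRing (Rf i) ≃ₐ[Rf i] FractionRing R := FractionRing.algEquiv (Rf i) (FractionRing R)
  have hi : Module.Finite (Rf i) (integralClosure (Rf i) (FractionRing (Rf i))) := h i
  exact Module.Finite.equiv e.mapIntegralClosure.toLinearEquiv

end Groth.Agent.S9393
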