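import Groth.Statements.S9395
import Mathlib

set_option autoImplicit false
universe u
open CAlg

namespace Groth.Agent.S9395

/-- For a Noetherian domain R, if the Laurent polynomial ring R[X, 1/X] (the localization of R[X] away
from X) is N-1, then R is N-1. -/
theorem result (R : Type u) [CommRing R] [IsDomain R] [IsNoetherianRing R]
    (S : Type u) [CommRing S] [IsDomain S] [Algebra (Polynomial R) S]
    [IsLocalization.Away (Polynomial.X : Polynomial R) S] (h : CAlg.IsN1 S) : CAlg.IsN1 R := by
  classical
  letI : Algebra R S := ((algebraMap (Polynomial R) S).comp Polynomial.C).toAlgebra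
  haveI : IsScalarTower R (Polynomial R) S := IsScalarTower.of_algebraMap_eq fun _ => rfl
  have hX0 : (Polynomial.X : Polynomial R) ≠ 0 := Polynomial.X_ne_zero
  have hinjPS : Function.Injective (algebraMap (Polynomial R) S) :=
    IsLocalization.injective S (powers_le_nonZeroDivisors_of_noZeroDivisors hX0)
  have hinjRS : Function.Injective (algebraMap R S) := by
    rw [IsScalarTower.algebraMap_eq R (Polynomial R) S]
    exact hinjPS.comp Polynomial.C_injective
  have hinjSL : Function.Injective (algebraMap S (FractionRing S)) :=
    IsFractionRing.injective S (FractionRing S)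
  have hinjRL : Function.Injective (algebraMap R (FractionRing S)) := by
    rw [IsScalarTower.algebraMap_eq R S (FractionRing S)]
    exact hinjSL.comp hinjRS
  -- the field map `K → L`
  let ι : FractionRing R →+* FractionRing S := IsFractionRing.lift hinjRL
  have hι : ∀ r : R, ι (algebraMap R (FractionRing R) r) = algebraMap R (FractionRing S) r :=
    fun r => IsFractionRing.lift_algebraMap hinjRL r
  haveI : IsNoetherianRing S :=
    IsLocalization.isNoetherianRing (Submonoid.powers (Polynomial.X : Polynomial R)) S inferInstance
  -- evaluation at `X = 1`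
  have hu : IsUnit (Polynomial.evalRingHom (1 : R) (Polynomial.X : Polynomial R)) := by
    simp
  let ev : S →+* R := IsLocalization.Away.lift (Polynomial.X : Polynomial R) hu
  have hev : ∀ r : R, ev (algebraMap R S r) = r := by
    intro r
    rw [IsScalarTower.algebraMap_apply R (Polynomial R) S]
    rw [IsLocalization.Away.lift_eq]
    simp
  -- finiteness
  have hfin : Module.Finite S (integralClosure S (FractionRing S)) := h
  change Module.Finite S ↥(Subalgebra.toSubmodule (integralClosure S (FractionRing S))) at hfin
  haveI : IsNoetherian S ↥(Subalgebra.toSubmodule (integralClosure S (FractionRing S))) :=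
    isNoetherian_of_isNoetherianRing_of_finite S _
  let Rset : Set (FractionRing R) := {t | IsIntegral R t}
  have hNle : Submodule.span S (ι '' Rset) ≤
      Subalgebra.toSubmodule (integralClosure S (FractionRing S)) := by
    rw [Submodule.span_le]
    rintro _ ⟨t, ht, rfl⟩
    have h1 : IsIntegral R (ι t) := by
      have := IsIntegral.map_of_comp_eq (RingHom.id R) ι (S := FractionRing R)
        (U := FractionRing S) (by ext r; simp [hι]) ht
      simpa using this
    exact IsIntegral.tower_top (A := S) h1
  have hNfg : (Submodule.span S (ι '' Rset)).FG := isNoetherian_submodule.mp inferInstance _ hNle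
  obtain ⟨T, hTsub, hTspan⟩ := (Submodule.fg_span_iff_fg_span_finset_subset _).mp hNfg
  have hτ : ∀ y : FractionRing S, ∃ t : FractionRing R, y ∈ T → (IsIntegral R t ∧ ι t = y) := by
    intro y
    by_cases hy : y ∈ T
    · obtain ⟨t, ht, hty⟩ := hTsub hy
      exact ⟨t, fun _ => ⟨ht, hty⟩⟩
    · exact ⟨0, fun h => absurd h hy⟩
  choose τ hτ using hτ
  change Module.Finite R ↥(Subalgebra.toSubmodule (integralClosure R (FractionRing R)))
  rw [Module.Finite.iff_fg]
  refine ⟨T.image τ, ?_⟩
  apply le_antisymm
  · rw [Submodule.span_le]
    intro t ht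
    obtain ⟨y, hy, rfl⟩ := Finset.mem_image.mp (Finset.mem_coe.mp ht)
    exact (hτ y hy).1
  · intro r' hr'
    have hr'int : IsIntegral R r' := hr'
    have hmem : ι r' ∈ Submodule.span S (↑T : Set (FractionRing S)) := by
      rw [← hTspan]
      exact Submodule.subset_span ⟨r', hr'int, rfl⟩
    obtain ⟨f, -, hf⟩ := Submodule.mem_span_finset.mp hmem
    obtain ⟨d, hd⟩ := IsLocalization.exist_integer_multiples_of_finset (nonZeroDivisors R)
      (insert r' (T.image τ))
    obtain ⟨a, ha⟩ := hd r' (Finset.mem_insert_self _ _)
    have hb : ∀ y : FractionRing S, ∃ b : R, y ∈ T →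
        algebraMap R (FractionRing R) b = (d : R) • τ y := by
      intro y
      by_cases hy : y ∈ T
      · obtain ⟨b, hb⟩ := hd (τ y) (Finset.mem_insert_of_mem (Finset.mem_image_of_mem τ hy))
        exact ⟨b, fun _ => hb⟩
      · exact ⟨0, fun h => absurd h hy⟩
    choose b hb using hb
    have hd0 : algebraMap R (FractionRing R) (d : R) ≠ 0 := by
      rw [Ne, map_eq_zero_iff _ (IsFractionRing.injective R (FractionRing R))]
      exact nonZeroDivisors.ne_zero d.2
    -- the key identity in `S`
    have E1 : algebraMap S (FractionRing S) (algebraMap R S a) =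
        algebraMap R (FractionRing S) (d : R) * ι r' := by
      rw [← IsScalarTower.algebraMap_apply R S (FractionRing S), ← hι a, ha, Algebra.smul_def,
        map_mul, hι]
    have E2 : ∀ y ∈ T, algebraMap R (FractionRing S) (d : R) * y =
        algebraMap S (FractionRing S) (algebraMap R S (b y)) := by
      intro y hy
      rw [← IsScalarTower.algebraMap_apply R S (FractionRing S), ← hι (b y), hb y hy,
        Algebra.smul_def, map_mul, hι, (hτ y hy).2]
    have hkey : algebraMap R S a = ∑ y ∈ T, f y * algebraMap R S (b y) := by
      apply hinjSL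
      rw [E1, ← hf, Finset.mul_sum, map_sum]
      refine Finset.sum_congr rfl fun y hy => ?_
      rw [map_mul, ← E2 y hy, Algebra.smul_def]
      ring
    have hkey' : a = ∑ y ∈ T, ev (f y) * b y := by
      have := congrArg ev hkey
      rw [hev, map_sum] at this
      rw [this]
      refine Finset.sum_congr rfl fun y _ => ?_
      rw [map_mul, hev]
    have hfinal : r' = ∑ y ∈ T, ev (f y) • τ y := by
      apply mul_left_cancel₀ hd0
      rw [← Algebra.smul_def, ← ha, hkey', map_sum, Finset.mul_sum]
      refine Finset.sum_congr rfl fun y hy => ?_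
      rw [map_mul, hb y hy, Algebra.smul_def, Algebra.smul_def]
      ring
    rw [hfinal]
    refine Submodule.sum_mem _ fun y hy => Submodule.smul_mem _ _ (Submodule.subset_span ?_)
    exact Finset.mem_coe.mpr (Finset.mem_image_of_mem τ hy)

end Groth.Agent.S9395
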