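import Groth.Statements.S9397
import Mathlib

set_option autoImplicit false
universe u
open CAlg

namespace Groth.Agent.S9397

/-- A ring R is universally Japanese provided that each R-algebra of finite type which is a domain is
N-1. -/
theorem result (R : Type u) [CommRing R]
    (h : ∀ (S : Type u) [CommRing S] [IsDomain S] [Algebra R S], Algebra.FiniteType R S → CAlg.IsN1 S) :
    CAlg.IsUniversallyJapanese R := by
  classical
  intro S _ _ _ hft L _ _ _ _ hfd
  obtain ⟨s, b, hb⟩ := FiniteDimensional.exists_is_basis_integral S (FractionRing S) L
  let S' : Subalgebra S L := Algebra.adjoin S (Set.range b)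
  have hfin : Module.Finite S S' := by
    apply Algebra.finite_adjoin_of_finite_of_isIntegral (Set.finite_range b)
    rintro _ ⟨x, rfl⟩
    exact hb x
  letI : Algebra R S' := ((algebraMap S S').comp (algebraMap R S)).toAlgebra
  haveI : IsScalarTower R S S' := IsScalarTower.of_algebraMap_eq fun _ => rfl
  have hft' : Algebra.FiniteType R S' :=
    Algebra.FiniteType.trans hft (inferInstance : Algebra.FiniteType S S')
  have hN1 : Module.Finite S' (integralClosure S' (FractionRing S')) := h S' hft'
  have hinjS : Function.Injective (algebraMap S L) := by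
    rw [IsScalarTower.algebraMap_eq S (FractionRing S) L]
    exact (algebraMap (FractionRing S) L).injective.comp (IsFractionRing.injective S (FractionRing S))
  haveI : IsFractionRing S' L := by
    apply IsFractionRing.of_field
    intro z
    obtain ⟨d, hd⟩ := IsLocalization.exist_integer_multiples (nonZeroDivisors S) (Finset.univ : Finset s)
      (fun i => b.repr z i)
    choose a ha using fun i : s => hd i (Finset.mem_univ i)
    have hd0 : algebraMap S L (d : S) ≠ 0 := by
      rw [Ne, map_eq_zero_iff _ hinjS]
      exact nonZeroDivisors.ne_zero d.2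
    have hz : algebraMap S L (d : S) * z = ∑ i : s, algebraMap S L (a i) * b i := by
      conv_lhs => rw [← b.sum_repr z]
      rw [Finset.mul_sum]
      refine Finset.sum_congr rfl fun i _ => ?_
      have h1 := ha i
      rw [Algebra.smul_def, ← mul_assoc]
      congr 1
      rw [IsScalarTower.algebraMap_apply S (FractionRing S) L,
        IsScalarTower.algebraMap_apply S (FractionRing S) L, ← map_mul]
      congr 1
      rw [h1, Algebra.smul_def]
    have hmem : ∑ i : s, algebraMap S L (a i) * b i ∈ S' := by
      refine Subalgebra.sum_mem _ fun i _ => ?_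
      exact Subalgebra.mul_mem _ (Subalgebra.algebraMap_mem _ _)
        (Algebra.subset_adjoin ⟨i, rfl⟩)
    refine ⟨⟨_, hmem⟩, ⟨algebraMap S L d, Subalgebra.algebraMap_mem _ _⟩, ?_⟩
    change z = (∑ i : s, algebraMap S L (a i) * b i) / algebraMap S L (d : S)
    rw [← hz, mul_div_cancel_left₀ _ hd0]
  have h1 : Module.Finite S' (integralClosure S' L) := by
    let e : FractionRing S' ≃ₐ[S'] L := FractionRing.algEquiv S' L
    exact Module.Finite.equiv e.mapIntegralClosure.toLinearEquiv
  have h2 : Module.Finite S (integralClosure S' L) := Module.Finite.trans S' _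
  haveI : Algebra.IsIntegral S S' := inferInstance
  let e : ↥(integralClosure S' L) ≃ₗ[S] ↥(integralClosure S L) :=
    { toFun := fun x => ⟨x.1, isIntegral_trans (A := S') x.1 x.2⟩
      invFun := fun x => ⟨x.1, IsIntegral.tower_top (A := S') x.2⟩
      map_add' := fun _ _ => rfl
      map_smul' := fun _ _ => rfl
      left_inv := fun _ => rfl
      right_inv := fun _ => rfl }
  exact Module.Finite.equiv e

end Groth.Agent.S9397
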