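import Groth.Statements.S9403
import Mathlib

set_option autoImplicit false
universe u
open CAlg

namespace Groth.Agent.S9403

/-- Let R → S be a ring map with S a Noetherian local ring which is an algebra over the rationals, and f
∈ S such that some S-linear form on the module of differentials of S over R sends df to 1 (df spans
a free direct summand of rank one). Then f is a nonzerodivisor of S. (The published statement asks
only that S·df be a direct summand of the module of differentials, which also holds for the
rationals with a square-zero element adjoined, where f is a zero divisor; this row asks for an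
S-linear form on the differentials sending df to 1, as the published proof uses.) -/
theorem result (R : Type u) [CommRing R]
    (S : Type u) [CommRing S] [IsLocalRing S] [IsNoetherianRing S] [Algebra R S] [Algebra ℚ S]
    (f : S) (θ : Ω[S⁄R] →ₗ[S] S) (hθ : θ (KaehlerDifferential.D R S f) = 1) : f ∈ nonZeroDivisors S := by
  have hunit : ∀ k : ℕ, IsUnit ((k + 1 : ℕ) : S) := by
    intro k
    have : ((k + 1 : ℕ) : S) = algebraMap ℚ S ((k + 1 : ℕ) : ℚ) := by simp
    rw [this]
    exact (IsUnit.mk0 _ (by positivity)).map (algebraMap ℚ S)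
  -- the derivation `D = θ ∘ d`
  have hD : ∀ a b : S, θ (KaehlerDifferential.D R S (a * b)) =
      a * θ (KaehlerDifferential.D R S b) + b * θ (KaehlerDifferential.D R S a) := by
    intro a b
    rw [Derivation.leibniz, map_add, map_smul, map_smul, smul_eq_mul, smul_eq_mul]
  have hDpow : ∀ k : ℕ, θ (KaehlerDifferential.D R S (f ^ (k + 1))) = ((k + 1 : ℕ) : S) * f ^ k := by
    intro k
    rw [Derivation.leibniz_pow, map_nsmul, map_smul, hθ, smul_eq_mul, mul_one, nsmul_eq_mul,
      Nat.add_sub_cancel]
  -- Claim A
  have claimA : ∀ k : ℕ, ∀ h : S, f ^ (k + 1) * h = 0 → ∃ h' : S, h = f * h' := by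
    intro k
    induction k with
    | zero =>
      intro h hh
      rw [zero_add, pow_one] at hh
      have h1 := congrArg (fun z => θ (KaehlerDifferential.D R S z)) hh
      simp only [map_zero] at h1
      rw [hD, hθ, mul_one] at h1
      refine ⟨-θ (KaehlerDifferential.D R S h), ?_⟩
      linear_combination h1
    | succ k ih =>
      intro h hh
      have h1 := congrArg (fun z => θ (KaehlerDifferential.D R S z)) hh
      simp only [map_zero] at h1
      rw [hD, hDpow] at h1
      have h2 : f ^ (k + 1) * (((k + 1 + 1 : ℕ) : S) * h + f * θ (KaehlerDifferential.D R S h)) = 0 := by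
        linear_combination h1
      obtain ⟨h'', hh''⟩ := ih _ h2
      obtain ⟨u, hu⟩ := hunit (k + 1)
      refine ⟨(↑u⁻¹ : S) * (h'' - θ (KaehlerDifferential.D R S h)), ?_⟩
      have h3 : (u : S) * h = f * (h'' - θ (KaehlerDifferential.D R S h)) := by
        rw [hu]; linear_combination hh''
      calc h = (↑u⁻¹ : S) * ((u : S) * h) := by rw [← mul_assoc, Units.inv_mul, one_mul]
        _ = f * ((↑u⁻¹ : S) * (h'' - θ (KaehlerDifferential.D R S h))) := by rw [h3]; ring
  -- Claim B
  have claimB : ∀ g : S, f * g = 0 → ∀ n : ℕ, ∃ h : S, g = f ^ n * h ∧ f ^ (n + 1) * h = 0 := by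
    intro g hg n
    induction n with
    | zero => exact ⟨g, by simp, by simpa using hg⟩
    | succ n ih =>
      obtain ⟨h, hgh, hh⟩ := ih
      obtain ⟨h', rfl⟩ := claimA n h hh
      refine ⟨h', by rw [hgh]; ring, ?_⟩
      rw [← hh]; ring
  rw [mem_nonZeroDivisors_iff_right]
  intro g hg
  rw [mul_comm] at hg
  by_cases hf : IsUnit f
  · exact (hf.mul_right_eq_zero).mp hg
  · have hne : Ideal.span {f} ≠ ⊤ := by
      rw [Ne, Ideal.span_singleton_eq_top]; exact hf
    have hbot := Ideal.iInf_pow_eq_bot_of_isLocalRing (Ideal.span {f}) hne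
    have hmem : g ∈ ⨅ n : ℕ, Ideal.span {f} ^ n := by
      rw [Ideal.mem_iInf]
      intro n
      obtain ⟨h, hgh, -⟩ := claimB g hg n
      rw [hgh, Ideal.span_singleton_pow]
      exact Ideal.mul_mem_right _ _ (Ideal.mem_span_singleton_self _)
    rw [hbot] at hmem
    exact hmem

end Groth.Agent.S9403
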