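import Groth.Statements.S9404
import Mathlib

set_option autoImplicit false
universe u
open CAlg

namespace Groth.Agent.S9404

open TensorProduct IsLocalRing

abbrev Good {Q D : Type u} [CommRing Q] [CommRing D] (p : ℕ) (j : D →+* Q) (x : Q) : Prop :=
  ∃ (n : ℕ) (d : D), x ^ p ^ n = j d

theorem good_mul {Q D : Type u} [CommRing Q] [CommRing D] (p : ℕ) (j : D →+* Q) {x y : Q}
    (hx : Good p j x) (hy : Good p j y) : Good p j (x * y) := by
  obtain ⟨n1, d1, h1⟩ := hx
  obtain ⟨n2, d2, h2⟩ := hy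
  have hx' : x ^ p ^ (n1 + n2) = j (d1 ^ p ^ n2) := by rw [pow_add, pow_mul, h1, map_pow]
  have hy' : y ^ p ^ (n1 + n2) = j (d2 ^ p ^ n1) := by
    rw [pow_add, mul_comm, pow_mul, h2, map_pow]
  exact ⟨n1 + n2, d1 ^ p ^ n2 * d2 ^ p ^ n1, by rw [mul_pow, hx', hy', map_mul]⟩

theorem good_add {Q D : Type u} [CommRing Q] [CommRing D] (p : ℕ) [ExpChar Q p] (j : D →+* Q)
    {x y : Q} (hx : Good p j x) (hy : Good p j y) : Good p j (x + y) := by
  obtain ⟨n1, d1, h1⟩ := hx
  obtain ⟨n2, d2, h2⟩ := hy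
  have hx' : x ^ p ^ (n1 + n2) = j (d1 ^ p ^ n2) := by rw [pow_add, pow_mul, h1, map_pow]
  have hy' : y ^ p ^ (n1 + n2) = j (d2 ^ p ^ n1) := by
    rw [pow_add, mul_comm, pow_mul, h2, map_pow]
  exact ⟨n1 + n2, d1 ^ p ^ n2 + d2 ^ p ^ n1, by rw [add_pow_expChar_pow, hx', hy', map_add]⟩

theorem good_range {Q D : Type u} [CommRing Q] [CommRing D] (p : ℕ) (j : D →+* Q) (d : D) :
    Good p j (j d) := ⟨0, d, by simp⟩

theorem exists_pow_sub_mem (A E : Type u) [CommRing A] [IsLocalRing A] [CommRing E] [IsLocalRing E]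
    [Algebra A E] [IsLocalHom (algebraMap A E)] (p : ℕ) [ExpChar (ResidueField A) p]
    [IsPurelyInseparable (ResidueField A) (ResidueField E)] (e : E) :
    ∃ (n : ℕ) (a : A), e ^ p ^ n - algebraMap A E a ∈ maximalIdeal E := by
  obtain ⟨n, a', ha'⟩ := IsPurelyInseparable.pow_mem (ResidueField A) p (residue E e)
  obtain ⟨a, rfl⟩ := residue_surjective a'
  refine ⟨n, a, ?_⟩
  rw [← residue_eq_zero_iff, map_sub, map_pow, sub_eq_zero]
  exact ha'.symm

theorem isLocalRing_of {R D : Type u} [CommRing R] [CommRing D] [IsLocalRing D] (N : Ideal R)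
    (hN : N ≠ ⊤) (hmax : ∀ M : Ideal R, M.IsMaximal → N ≤ M) (j : D →+* R)
    (hj : ∀ z ∈ maximalIdeal D, j z ∈ N) (p : ℕ) (hp : 0 < p)
    (hpow : ∀ x : R, ∃ (n : ℕ) (z : D), x ^ p ^ n - j z ∈ N) : IsLocalRing R := by
  obtain ⟨M0, hM0, hNM0⟩ := Ideal.exists_le_maximal N hN
  have key : ∀ M1 M2 : Ideal R, M1.IsMaximal → M2.IsMaximal → M1 ≤ M2 := by
    intro M1 M2 h1 h2 x hx
    obtain ⟨n, z, hz⟩ := hpow x
    have hjz : j z ∈ M1 := by
      have h3 : x ^ p ^ n ∈ M1 := Ideal.pow_mem_of_mem M1 hx _ (pow_pos hp _)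
      have h4 := hmax M1 h1 hz
      have : j z = x ^ p ^ n - (x ^ p ^ n - j z) := by ring
      rw [this]; exact M1.sub_mem h3 h4
    have hzm : z ∈ maximalIdeal D := by
      by_contra hzu
      have hu : IsUnit z := by
        by_contra h
        exact hzu ((IsLocalRing.mem_maximalIdeal z).mpr h)
      exact h1.ne_top (Ideal.eq_top_of_isUnit_mem _ hjz (hu.map j))
    have h5 : x ^ p ^ n ∈ M2 := by
      have : x ^ p ^ n = (x ^ p ^ n - j z) + j z := by ring
      rw [this]; exact M2.add_mem (hmax M2 h2 hz) (hmax M2 h2 (hj z hzm))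
    exact h2.isPrime.mem_of_pow_mem _ h5
  apply IsLocalRing.of_unique_max_ideal
  exact ⟨M0, hM0, fun M hM => hM.eq_of_le hM0.ne_top (key M M0 hM hM0)⟩

open TensorProduct in
/-- For local homomorphisms of local rings A → B and A → C with A → C integral, if the residue field of
C or that of B is purely inseparable over the residue field of A, then B ⊗_A C is local and both
structure maps into it are local. -/
theorem result (A : Type u) [CommRing A]
    [IsLocalRing A] (B : Type u) [CommRing B] [IsLocalRing B] [Algebra A B]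
    [IsLocalHom (algebraMap A B)] (C : Type u) [CommRing C] [IsLocalRing C] [Algebra A C]
    [IsLocalHom (algebraMap A C)] [Algebra.IsIntegral A C]
    (h : IsPurelyInseparable (IsLocalRing.ResidueField A) (IsLocalRing.ResidueField C) ∨
      IsPurelyInseparable (IsLocalRing.ResidueField A) (IsLocalRing.ResidueField B)) :
    IsLocalRing (B ⊗[A] C) ∧
      IsLocalHom (Algebra.TensorProduct.includeLeft : B →ₐ[A] B ⊗[A] C).toRingHom ∧
      IsLocalHom (Algebra.TensorProduct.includeRight : C →ₐ[A] B ⊗[A] C).toRingHom := by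

  classical
  set fB : B →+* B ⊗[A] C :=
    (Algebra.TensorProduct.includeLeft : B →ₐ[A] B ⊗[A] C).toRingHom with hfB
  set fC : C →+* B ⊗[A] C :=
    (Algebra.TensorProduct.includeRight : C →ₐ[A] B ⊗[A] C).toRingHom with hfC
  have hcomm : ∀ a : A, fC (algebraMap A C a) = fB (algebraMap A B a) := fun a => by
    show (Algebra.TensorProduct.includeRight : C →ₐ[A] B ⊗[A] C) (algebraMap A C a) =
      (Algebra.TensorProduct.includeLeft : B →ₐ[A] B ⊗[A] C) (algebraMap A B a)
    rw [AlgHom.commutes, AlgHom.commutes]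
  have htmul : ∀ (b : B) (c : C), b ⊗ₜ[A] c = fB b * fC c := fun b c => by
    show b ⊗ₜ[A] c = (b ⊗ₜ[A] (1 : C)) * ((1 : B) ⊗ₜ[A] c)
    rw [Algebra.TensorProduct.tmul_mul_tmul, mul_one, one_mul]
  let N : Ideal (B ⊗[A] C) :=
    Ideal.map fB (maximalIdeal B) ⊔ Ideal.map fC (maximalIdeal C)
  have hNB : ∀ b ∈ maximalIdeal B, fB b ∈ N := fun b hb =>
    Ideal.mem_sup_left (Ideal.mem_map_of_mem _ hb)
  have hNC : ∀ c ∈ maximalIdeal C, fC c ∈ N := fun c hc =>
    Ideal.mem_sup_right (Ideal.mem_map_of_mem _ hc)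
  -- N is proper
  have hN : N ≠ ⊤ := by
    haveI : Nontrivial (ResidueField B ⊗[ResidueField A] ResidueField C) :=
      Algebra.TensorProduct.nontrivial_of_algebraMap_injective_of_isDomain _ _ _
        (algebraMap (ResidueField A) (ResidueField B)).injective
        (algebraMap (ResidueField A) (ResidueField C)).injective
    letI : TensorProduct.CompatibleSMul (ResidueField A) A (ResidueField B) (ResidueField C) :=
      TensorProduct.CompatibleSMul.isScalarTower
    let θ : B ⊗[A] C →ₐ[A] ResidueField B ⊗[ResidueField A] ResidueField C :=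
      (Algebra.TensorProduct.mapOfCompatibleSMul (ResidueField A) A A (ResidueField B)
        (ResidueField C)).comp
        (Algebra.TensorProduct.map (IsScalarTower.toAlgHom A B (ResidueField B))
          (IsScalarTower.toAlgHom A C (ResidueField C)))
    have e1 : ∀ (b : B) (c : C), θ (b ⊗ₜ[A] c) =
        (residue B b) ⊗ₜ[ResidueField A] (residue C c) := fun b c => by
      first | rfl | simp [θ]
    have hθ : N ≤ RingHom.ker θ.toRingHom := by
      refine sup_le (Ideal.map_le_iff_le_comap.mpr fun b hb => ?_)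
        (Ideal.map_le_iff_le_comap.mpr fun c hc => ?_)
      · rw [Ideal.mem_comap, RingHom.mem_ker]
        show θ (b ⊗ₜ[A] (1 : C)) = 0
        rw [e1, (residue_eq_zero_iff b).mpr hb, TensorProduct.zero_tmul]
      · rw [Ideal.mem_comap, RingHom.mem_ker]
        show θ ((1 : B) ⊗ₜ[A] c) = 0
        rw [e1, (residue_eq_zero_iff c).mpr hc, TensorProduct.tmul_zero]
    intro htop
    have h1 : (1 : B ⊗[A] C) ∈ RingHom.ker θ.toRingHom := hθ (htop ▸ Submodule.mem_top)
    rw [RingHom.mem_ker] at h1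
    have h2 : θ 1 = 0 := h1
    rw [map_one] at h2
    exact one_ne_zero h2
  -- every maximal ideal contains N
  have hmax : ∀ M : Ideal (B ⊗[A] C), M.IsMaximal → N ≤ M := by
    intro M hM
    haveI := hM
    have h1 : (M.comap fB).IsMaximal :=
      Ideal.isMaximal_comap_of_isIntegral_of_isMaximal (R := B) M
    have h1' : M.comap fB = maximalIdeal B := IsLocalRing.eq_maximalIdeal h1
    have hA : (M.comap fC).comap (algebraMap A C) = maximalIdeal A := by
      have e1 : (M.comap fC).comap (algebraMap A C) = (M.comap fB).comap (algebraMap A B) := by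
        ext a
        rw [Ideal.mem_comap, Ideal.mem_comap, Ideal.mem_comap, Ideal.mem_comap, hcomm]
      rw [e1, h1']
      ext a
      rw [Ideal.mem_comap, IsLocalRing.mem_maximalIdeal, IsLocalRing.mem_maximalIdeal,
        mem_nonunits_iff, mem_nonunits_iff, isUnit_map_iff]
    haveI : (M.comap fC).IsPrime := Ideal.comap_isPrime fC M
    have h2 : (M.comap fC).IsMaximal := by
      apply Ideal.isMaximal_of_isIntegral_of_isMaximal_comap (R := A)
      rw [hA]; infer_instance
    have h2' : M.comap fC = maximalIdeal C := IsLocalRing.eq_maximalIdeal h2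
    exact sup_le (Ideal.map_le_iff_le_comap.mpr h1'.ge) (Ideal.map_le_iff_le_comap.mpr h2'.ge)
  obtain ⟨M0, hM0, hNM0⟩ := Ideal.exists_le_maximal N hN
  have hlocB : IsLocalHom fB := ⟨fun b hb => by
    by_contra hbu
    have hbm : b ∈ maximalIdeal B := (IsLocalRing.mem_maximalIdeal b).mpr hbu
    exact hM0.ne_top (Ideal.eq_top_of_isUnit_mem _ (hNM0 (hNB b hbm)) hb)⟩
  have hlocC : IsLocalHom fC := ⟨fun c hc => by
    by_contra hcu
    have hcm : c ∈ maximalIdeal C := (IsLocalRing.mem_maximalIdeal c).mpr hcu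
    exact hM0.ne_top (Ideal.eq_top_of_isUnit_mem _ (hNM0 (hNC c hcm)) hc)⟩
  have hloc : IsLocalRing (B ⊗[A] C) := by
    let p := ringExpChar (ResidueField A)
    haveI : ExpChar (ResidueField A) p := ringExpChar.expChar _
    have hp : 0 < p := expChar_pos (ResidueField A) p
    haveI : Nontrivial ((B ⊗[A] C) ⧸ N) := Ideal.Quotient.nontrivial_iff.mpr hN
    let π : B ⊗[A] C →+* (B ⊗[A] C) ⧸ N := Ideal.Quotient.mk N
    let κ : ResidueField A →+* (B ⊗[A] C) ⧸ N :=
      Ideal.Quotient.lift (maximalIdeal A) (π.comp (fB.comp (algebraMap A B))) (by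
        intro a ha
        rw [RingHom.comp_apply, RingHom.comp_apply, Ideal.Quotient.eq_zero_iff_mem]
        exact hNB _ (map_nonunit (algebraMap A B) a ha))
    haveI : ExpChar ((B ⊗[A] C) ⧸ N) p := expChar_of_injective_ringHom κ.injective p
    have hgen : ∀ (D : Type u) [CommRing D] (jD : D →+* (B ⊗[A] C) ⧸ N),
        (∀ b, Good p jD (π (fB b))) → (∀ c, Good p jD (π (fC c))) →
        ∀ x : B ⊗[A] C, Good p jD (π x) := by
      intro D _ jD hb hc x
      induction x using TensorProduct.induction_on with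
      | zero => exact ⟨0, 0, by simp⟩
      | tmul b c => rw [htmul, map_mul]; exact good_mul p jD (hb b) (hc c)
      | add x y hx hy => rw [map_add]; exact good_add p jD hx hy
    have hfin : ∀ (D : Type u) [CommRing D] [IsLocalRing D] (j : D →+* B ⊗[A] C),
        (∀ z ∈ maximalIdeal D, j z ∈ N) → (∀ x : B ⊗[A] C, Good p (π.comp j) (π x)) →
        IsLocalRing (B ⊗[A] C) := by
      intro D _ _ j hj hgood
      refine isLocalRing_of N hN hmax j hj p hp (fun x => ?_)
      obtain ⟨n, z, hz⟩ := hgood x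
      refine ⟨n, z, ?_⟩
      rw [← Ideal.Quotient.eq_zero_iff_mem, map_sub, map_pow, sub_eq_zero]
      exact hz
    rcases h with hC | hB
    · haveI := hC
      refine hfin B fB hNB (hgen B (π.comp fB) (fun b => good_range p _ b) (fun c => ?_))
      obtain ⟨n, a, ha⟩ := exists_pow_sub_mem A C p c
      refine ⟨n, algebraMap A B a, ?_⟩
      have h0 : π (fC (c ^ p ^ n - algebraMap A C a)) = 0 :=
        Ideal.Quotient.eq_zero_iff_mem.mpr (hNC _ ha)
      rw [map_sub, map_sub, sub_eq_zero, hcomm, map_pow, map_pow] at h0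
      exact h0
    · haveI := hB
      refine hfin C fC hNC (hgen C (π.comp fC) (fun b => ?_) (fun c => good_range p _ c))
      obtain ⟨n, a, ha⟩ := exists_pow_sub_mem A B p b
      refine ⟨n, algebraMap A C a, ?_⟩
      have h0 : π (fB (b ^ p ^ n - algebraMap A B a)) = 0 :=
        Ideal.Quotient.eq_zero_iff_mem.mpr (hNB _ ha)
      rw [map_sub, map_sub, sub_eq_zero, ← hcomm, map_pow, map_pow] at h0
      exact h0
  exact ⟨hloc, hlocB, hlocC⟩

end Groth.Agent.S9404
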