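import Groth.Statements.S9405
import Mathlib
import Groth.Agent.Lib.Helper15.FiniteComplete

set_option autoImplicit false
universe u
open CAlg

namespace Groth.Agent.S9405

/-- A module-finite algebra S over a complete Noetherian local ring R is a finite product of complete
Noetherian local rings; precisely, S has finitely many maximal ideals, S maps bijectively onto the
product of its localizations at them, and each of these localizations is Noetherian and complete for
its maximal ideal. -/
theorem result (R : Type u) [CommRing R]
    [IsLocalRing R] [IsNoetherianRing R] [IsAdicComplete (IsLocalRing.maximalIdeal R) R]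
    (S : Type u) [CommRing S] [Algebra R S] [Module.Finite R S] :
    Finite (MaximalSpectrum S) ∧
      Function.Bijective
        (algebraMap S ((m : MaximalSpectrum S) → Localization.AtPrime m.asIdeal)) ∧
      ∀ m : MaximalSpectrum S, IsNoetherianRing (Localization.AtPrime m.asIdeal) ∧
        IsAdicComplete (IsLocalRing.maximalIdeal (Localization.AtPrime m.asIdeal))
          (Localization.AtPrime m.asIdeal) := by
  exact ⟨Groth.Agent.Lib.Helper15.FiniteComplete.finite_maximalSpectrum R S,
    Groth.Agent.Lib.Helper15.FiniteComplete.bijective_algebraMap_pi R S,
    fun m => ⟨Groth.Agent.Lib.Helper15.FiniteComplete.isNoetherianRing_localization R S m,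
      Groth.Agent.Lib.Helper15.FiniteComplete.isAdicComplete_localization R S m⟩⟩

end Groth.Agent.S9405
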