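import Groth.Statements.S9410
import Mathlib
import Groth.Agent.Lib.Helper14.GeomRegularSep
open TensorProduct

set_option autoImplicit false
universe u
open CAlg

namespace Groth.Agent.S9410

/-- Given a separable algebraic field extension k'/k and a Noetherian k'-algebra A, geometric regularity
of A over k' is equivalent to geometric regularity of A over k. -/
theorem result (k : Type u) [Field k] (k' : Type u)
    [Field k'] [Algebra k k'] [Algebra.IsSeparable k k'] (A : Type u) [CommRing A] [Algebra k' A]
    [Algebra k A] [IsScalarTower k k' A] [IsNoetherianRing A] :
    CAlg.IsGeometricallyRegular k A ↔ CAlg.IsGeometricallyRegular k' A := by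
  exact ⟨Groth.Agent.Lib.Helper14.GeomRegularSep.geomRegular_ascend k k' A,
    Groth.Agent.Lib.Helper14.GeomRegularSep.geomRegular_descend k k' A⟩


end Groth.Agent.S9410
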