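import Groth.Statements.S9412
import Mathlib
import Groth.Agent.Lib.Helper14.NormalRing

set_option autoImplicit false
universe u
open EGA4

namespace Groth.Agent.S9412

/-- A localization of a geometrically normal algebra over a field k is geometrically normal over k. -/
theorem result (k : Type u) [Field k] (A : Type u) [CommRing A]
    [Algebra k A] (M : Submonoid A) (B : Type u) [CommRing B] [Algebra A B] [IsLocalization M B]
    [Algebra k B] [IsScalarTower k A B] (h : EGA4.IsGeomNormal k A) :
    EGA4.IsGeomNormal k B := by
  intro k' _ _ hfin
  have hA := h k' hfin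
  have hA' : EGA4.IsNormalRing (TensorProduct k A k') :=
    Groth.Agent.Lib.Helper14.isNormalRing_of_ringEquiv
      (Algebra.TensorProduct.comm k k' A).toRingEquiv hA
  letI : Algebra (TensorProduct k A k') (TensorProduct k B k') :=
    (Algebra.TensorProduct.map (IsScalarTower.toAlgHom k A B) (AlgHom.id k k')).toRingHom.toAlgebra
  have halg : ∀ x : TensorProduct k A k', algebraMap (TensorProduct k A k') (TensorProduct k B k') x =
      Algebra.TensorProduct.map (IsScalarTower.toAlgHom k A B) (AlgHom.id k k') x := fun _ => rfl
  haveI : IsScalarTower A (TensorProduct k A k') (TensorProduct k B k') :=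
    IsScalarTower.of_algebraMap_eq fun a => by
      rw [halg]
      simp [Algebra.TensorProduct.algebraMap_apply]
  have hpush : Algebra.IsPushout A B (TensorProduct k A k') (TensorProduct k B k') :=
    Algebra.IsPushout.tensorProduct_tensorProduct k k' A B (by
      ext x
      simp [halg])
  haveI : IsLocalization (Algebra.algebraMapSubmonoid (TensorProduct k A k') M) (TensorProduct k B k') :=
    (Algebra.isLocalization_iff_isPushout M B).mpr hpush.symm
  have hB' : EGA4.IsNormalRing (TensorProduct k B k') :=
    Groth.Agent.Lib.Helper14.isNormalRing_of_isLocalization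
      (Algebra.algebraMapSubmonoid (TensorProduct k A k') M) (TensorProduct k B k') hA'
  exact Groth.Agent.Lib.Helper14.isNormalRing_of_ringEquiv
    (Algebra.TensorProduct.comm k B k').toRingEquiv hB'

end Groth.Agent.S9412
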