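import Groth.Statements.S9414
import Mathlib
import Groth.Agent.Lib.Helper14.CotangentInj

set_option autoImplicit false
universe u
open CAlg

namespace Groth.Agent.S9414

open TensorProduct in
/-- For an algebraically closed field k, a finite type k-algebra S and a maximal ideal m of S with
residue field κ = S/m, the κ-vector spaces κ ⊗_S Ω_{S/k} and m/m² have the same dimension. -/
theorem result (k : Type u) [Field k]
    [IsAlgClosed k] (S : Type u) [CommRing S] [Algebra k S] [Algebra.FiniteType k S]
    (m : Ideal S) [m.IsMaximal] :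
    Module.finrank (S ⧸ m) ((S ⧸ m) ⊗[S] Ω[S⁄k]) = Module.finrank (S ⧸ m) m.Cotangent := by
  classical
  letI : Field (S ⧸ m) := Ideal.Quotient.field m
  haveI : Module.Finite k (S ⧸ m) := finite_of_finite_type_of_isJacobsonRing k (S ⧸ m)
  have hbij : Function.Bijective (algebraMap k (S ⧸ m)) :=
    IsAlgClosed.algebraMap_bijective_of_isIntegral
  have hsurjk : Function.Surjective (algebraMap k (S ⧸ m)) := hbij.2
  haveI : Algebra.FormallySmooth k (S ⧸ m) :=
    Algebra.FormallySmooth.of_equiv (AlgEquiv.ofBijective (Algebra.ofId k (S ⧸ m)) hbij)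
  have hsurj : Function.Surjective (algebraMap S (S ⧸ m)) := Ideal.Quotient.mk_surjective
  have hinj := Groth.Agent.Lib.Helper14.kerCotangentToTensor_injective_of_formallySmooth
    (R := k) (P := S) (A := S ⧸ m) hsurj
  haveI : Subsingleton (Ω[(S ⧸ m)⁄k]) := KaehlerDifferential.subsingleton_of_surjective k (S ⧸ m) hsurjk
  have hsur : Function.Surjective (KaehlerDifferential.kerCotangentToTensor k S (S ⧸ m)) := by
    intro y
    exact ((KaehlerDifferential.exact_kerCotangentToTensor_mapBaseChange k S (S ⧸ m) hsurj) y).mp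
      (Subsingleton.elim _ _)
  let e₀ : (RingHom.ker (algebraMap S (S ⧸ m))).Cotangent ≃ₗ[S] (S ⧸ m) ⊗[S] Ω[S⁄k] :=
    LinearEquiv.ofBijective _ ⟨hinj, hsur⟩
  have hker : RingHom.ker (algebraMap S (S ⧸ m)) = m := by
    rw [Ideal.Quotient.algebraMap_eq, Ideal.mk_ker]
  have key : ∀ (I J : Ideal S), I = J → Nonempty (J.Cotangent ≃ₗ[S] I.Cotangent) := by
    rintro I J rfl
    exact ⟨LinearEquiv.refl _ _⟩
  obtain ⟨e₁⟩ := key _ _ hker
  exact ((e₁.trans e₀).extendScalarsOfSurjective hsurj).finrank_eq.symm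

end Groth.Agent.S9414
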