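import Groth.Statements.S9423
import Mathlib
import Groth.Agent.Lib.Helper8.WeakColimBase
import Groth.Agent.Lib.Helper24.SyntDescend

set_option autoImplicit false
universe u
open Synt

namespace Groth.Agent.S9423

open TensorProduct in
/-- Let (A_i) be a directed system of A₀-algebras with colimit A (given by compatible maps A_i → A which
are jointly surjective and whose kernels die in the system), and B₀ → C₀ a homomorphism of
A₀-algebras with C₀ of finite presentation over B₀. If the base change of B₀ → C₀ along B₀ → B₀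
⊗_{A₀} A is syntomic (flat, of finite presentation, with local complete intersection fibres), then
already its base change along B₀ → B₀ ⊗_{A₀} A_i is syntomic for some index i. (The published
statement also treats relative global complete intersections; this row states the syntomic case.) -/
theorem result {ι : Type u} [Preorder ι] [IsDirected ι (· ≤ ·)] [Nonempty ι]
    (A₀ : Type u) [CommRing A₀] (G : ι → Type u) [∀ i, CommRing (G i)] [∀ i, Algebra A₀ (G i)]
    (f : ∀ i j, i ≤ j → (G i →ₐ[A₀] G j)) (A : Type u) [CommRing A] [Algebra A₀ A]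
    (g : ∀ i, G i →ₐ[A₀] A) (hg : ∀ i j (h : i ≤ j), (g j).comp (f i j h) = g i)
    (hsurj : ∀ a : A, ∃ i, ∃ x : G i, g i x = a)
    (hker : ∀ i (x : G i), g i x = 0 → ∃ j, ∃ h : i ≤ j, f i j h x = 0)
    (B₀ : Type u) [CommRing B₀] [Algebra A₀ B₀] (C₀ : Type u) [CommRing C₀] [Algebra A₀ C₀]
    [Algebra B₀ C₀] [IsScalarTower A₀ B₀ C₀] [Algebra.FinitePresentation B₀ C₀]
    (h : Synt.IsSyntomic (B₀ ⊗[A₀] A) ((B₀ ⊗[A₀] A) ⊗[B₀] C₀)) :
    ∃ i, Synt.IsSyntomic (B₀ ⊗[A₀] G i) ((B₀ ⊗[A₀] G i) ⊗[B₀] C₀) := by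
  classical
  open Groth.Agent.Lib.Helper8.WeakColim Groth.Agent.Lib.Helper24 in
  have hW := isWeakColim_baseChange A₀ G f A g hg hsurj hker B₀
  obtain ⟨i₀⟩ := ‹Nonempty ι›
  have hQ : Groth.Agent.Lib.Helper24.SyntLocal.Q
      (algebraMap (B₀ ⊗[A₀] A) ((B₀ ⊗[A₀] A) ⊗[B₀] C₀)) :=
    Groth.Agent.Lib.Helper24.SyntLocal.isSyntomic_congr_algebra
      (R := B₀ ⊗[A₀] A) (S := (B₀ ⊗[A₀] A) ⊗[B₀] C₀)
      Algebra.TensorProduct.leftAlgebra
      (RingHom.toAlgebra (@algebraMap (B₀ ⊗[A₀] A) ((B₀ ⊗[A₀] A) ⊗[B₀] C₀) _ _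
        Algebra.TensorProduct.leftAlgebra))
      (fun r => rfl) h
  obtain ⟨j, -, hj⟩ := Groth.Agent.Lib.Helper24.SyntDescend.descendsWeakColim_syntomic
    (Groth.Agent.Lib.Helper8.WeakColim.algSys A₀ G f A g hg) hW C₀ hQ i₀
  exact ⟨j, Groth.Agent.Lib.Helper24.SyntLocal.isSyntomic_congr_algebra
    (algebraMap (B₀ ⊗[A₀] G j) ((B₀ ⊗[A₀] G j) ⊗[B₀] C₀)).toAlgebra inferInstance
    (fun r => rfl) hj⟩

end Groth.Agent.S9423
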