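import Groth.Statements.S9425
import Mathlib
import Groth.Agent.Lib.Helper14.ColimHom
import Groth.Agent.S9424

set_option autoImplicit false
universe u
open CAlg

namespace Groth.Agent.S9425

/-- A directed colimit of formally étale R-algebras is formally étale over R. The colimit is encoded by
compatible R-algebra maps S_i → S which are jointly surjective and whose kernels die further along
the system. -/
theorem result {ι : Type u} [Preorder ι] [IsDirected ι (· ≤ ·)] [Nonempty ι]
    (R : Type u) [CommRing R] (G : ι → Type u) [∀ i, CommRing (G i)] [∀ i, Algebra R (G i)]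
    (f : ∀ i j, i ≤ j → (G i →ₐ[R] G j)) (S : Type u) [CommRing S] [Algebra R S]
    (g : ∀ i, G i →ₐ[R] S) (hg : ∀ i j (h : i ≤ j), (g j).comp (f i j h) = g i)
    (hsurj : ∀ s : S, ∃ i, ∃ x : G i, g i x = s)
    (hker : ∀ i (x : G i), g i x = 0 → ∃ j, ∃ h : i ≤ j, f i j h x = 0)
    (h : ∀ i, Algebra.FormallyEtale R (G i)) : Algebra.FormallyEtale R S := by
  have hunr : Algebra.FormallyUnramified R S :=
    Groth.Agent.S9424.result R G f S g hg hsurj hker (fun i => inferInstance)
  have hsm : Algebra.FormallySmooth R S := by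
    apply Algebra.FormallySmooth.of_comp_surjective
    intro B _ _ I hI φ
    have hbij := fun i => Algebra.FormallyEtale.comp_bijective R (G i) I hI
    choose ψ hψ using fun i => (hbij i).2 (φ.comp (g i))
    have hcompat : ∀ i j (h : i ≤ j), (ψ j).comp (f i j h) = ψ i := by
      intro i j hij
      apply (hbij i).1
      change (Ideal.Quotient.mkₐ R I).comp ((ψ j).comp (f i j hij)) =
        (Ideal.Quotient.mkₐ R I).comp (ψ i)
      rw [← AlgHom.comp_assoc, hψ, hψ, AlgHom.comp_assoc, hg]
    obtain ⟨Ψ, hΨ⟩ := Groth.Agent.Lib.Helper14.exists_algHom_of_compatible R G f S g hg hsurj hker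
      ψ hcompat
    refine ⟨Ψ, ?_⟩
    apply Groth.Agent.Lib.Helper14.algHom_ext_of_colimit R G S g hsurj
    intro i
    rw [AlgHom.comp_assoc, hΨ, hψ]
  exact .of_formallyUnramified_and_formallySmooth

end Groth.Agent.S9425
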