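import Groth.Statements.S9428
import Mathlib

set_option autoImplicit false
universe u
open CAlg

namespace Groth.Agent.S9428

/-- If R → S is formally étale and J ⊆ S is an ideal with R → S/J surjective, I ⊆ R its kernel (the
preimage of J), then R/I^n → S/J^n is bijective for all n. (The published statement adds that the
associated graded rings are then isomorphic, which follows from these bijections.) -/
theorem result (R : Type u) [CommRing R] (S : Type u)
    [CommRing S] [Algebra R S] [Algebra.FormallyEtale R S] (J : Ideal S)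
    (hJ : Function.Surjective (algebraMap R (S ⧸ J))) (n : ℕ) :
    Function.Bijective (Ideal.quotientMap (J ^ n) (algebraMap R S)
      (le_of_le_of_eq (Ideal.le_comap_pow (algebraMap R S) n) rfl :
        (J.comap (algebraMap R S)) ^ n ≤ (J ^ n).comap (algebraMap R S))) := by
  set I := J.comap (algebraMap R S) with hI
  set q := Ideal.quotientMap (J ^ n) (algebraMap R S)
      (le_of_le_of_eq (Ideal.le_comap_pow (algebraMap R S) n) rfl :
        (J.comap (algebraMap R S)) ^ n ≤ (J ^ n).comap (algebraMap R S)) with hq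
  have hqmk : ∀ r : R, q (Ideal.Quotient.mk _ r) = Ideal.Quotient.mk _ (algebraMap R S r) :=
    fun r => Ideal.quotientMap_mk
  rcases Nat.eq_zero_or_pos n with rfl | hn
  · have h1 : Subsingleton (R ⧸ I ^ 0) := by
      rw [pow_zero, Ideal.one_eq_top]; exact Ideal.Quotient.subsingleton_iff.mpr rfl
    have h2 : Subsingleton (S ⧸ J ^ 0) := by
      rw [pow_zero, Ideal.one_eq_top]; exact Ideal.Quotient.subsingleton_iff.mpr rfl
    exact ⟨fun a b _ => Subsingleton.elim a b, fun y => ⟨0, Subsingleton.elim _ _⟩⟩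
  · have hIn : I ^ n ≤ I := Ideal.pow_le_self (by omega)
    have hIJ : ∀ a ∈ I, algebraMap R (S ⧸ J) a = 0 := by
      intro a ha
      rw [IsScalarTower.algebraMap_apply R S (S ⧸ J), Ideal.Quotient.algebraMap_eq,
        Ideal.Quotient.eq_zero_iff_mem]
      exact ha
    let gB : (R ⧸ I ^ n) →ₐ[R] S ⧸ J := Ideal.Quotient.liftₐ (I ^ n) (Algebra.ofId R (S ⧸ J))
      (fun a ha => hIJ a (hIn ha))
    have hgBmk : ∀ r : R, gB (Ideal.Quotient.mk _ r) = algebraMap R (S ⧸ J) r := fun r => rfl
    have hgBsurj : Function.Surjective gB := fun y => by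
      obtain ⟨r, rfl⟩ := hJ y
      exact ⟨Ideal.Quotient.mk _ r, hgBmk r⟩
    have hkerle : RingHom.ker (gB : (R ⧸ I ^ n) →+* S ⧸ J) ≤ I.map (Ideal.Quotient.mk (I ^ n)) := by
      intro b hb
      obtain ⟨r, rfl⟩ := Ideal.Quotient.mk_surjective b
      rw [RingHom.mem_ker] at hb
      have hb' : algebraMap R (S ⧸ J) r = 0 := hb
      rw [IsScalarTower.algebraMap_apply R S (S ⧸ J), Ideal.Quotient.algebraMap_eq,
        Ideal.Quotient.eq_zero_iff_mem] at hb'
      exact Ideal.mem_map_of_mem _ hb'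
    have hkerpow : RingHom.ker (gB : (R ⧸ I ^ n) →+* S ⧸ J) ^ n = ⊥ := by
      rw [eq_bot_iff]
      refine (Ideal.pow_right_mono hkerle n).trans ?_
      rw [← Ideal.map_pow, Ideal.map_quotient_self]
    have hnil : IsNilpotent (RingHom.ker (gB : (R ⧸ I ^ n) →+* S ⧸ J)) := ⟨n, hkerpow⟩
    let φ : S →ₐ[R] (R ⧸ I ^ n) :=
      Algebra.FormallySmooth.liftOfSurjective (Ideal.Quotient.mkₐ R J) gB hgBsurj hnil
    have hφ : ∀ s, gB (φ s) = Ideal.Quotient.mk J s := fun s =>
      Algebra.FormallySmooth.liftOfSurjective_apply (Ideal.Quotient.mkₐ R J) gB hgBsurj hnil s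
    have hφJ : J ≤ (RingHom.ker (gB : (R ⧸ I ^ n) →+* S ⧸ J)).comap (φ : S →+* (R ⧸ I ^ n)) := by
      intro s hs
      rw [Ideal.mem_comap, RingHom.mem_ker]
      change gB (φ s) = 0
      rw [hφ, Ideal.Quotient.eq_zero_iff_mem]
      exact hs
    have hφJn : ∀ s ∈ J ^ n, φ s = 0 := by
      intro s hs
      have h1 : (φ : S →+* (R ⧸ I ^ n)) s ∈ (J ^ n).map (φ : S →+* (R ⧸ I ^ n)) :=
        Ideal.mem_map_of_mem _ hs
      rw [Ideal.map_pow] at h1
      have h2 := Ideal.pow_right_mono (Ideal.map_le_iff_le_comap.mpr hφJ) n h1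
      rw [hkerpow] at h2
      exact h2
    -- `q ∘ φ` is the quotient map
    have hfq : ∀ b : R ⧸ I ^ n,
        Ideal.Quotient.factor (Ideal.pow_le_self (show n ≠ 0 by omega) : J ^ n ≤ J) (q b) = gB b := by
      intro b
      obtain ⟨r, rfl⟩ := Ideal.Quotient.mk_surjective b
      rw [hqmk, Ideal.Quotient.factor_mk, hgBmk, IsScalarTower.algebraMap_apply R S (S ⧸ J),
        Ideal.Quotient.algebraMap_eq]
    let g₁ : S →ₐ[R] S ⧸ J ^ n :=
      { q.comp (φ : S →+* (R ⧸ I ^ n)) with
        commutes' := fun r => by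
          change q (φ (algebraMap R S r)) = _
          rw [AlgHom.commutes, Ideal.Quotient.algebraMap_eq, hqmk]
          rfl }
    have hg₁ : ∀ s, g₁ s = q (φ s) := fun s => rfl
    have hfnil : IsNilpotent (RingHom.ker
        (Ideal.Quotient.factor (Ideal.pow_le_self (show n ≠ 0 by omega) : J ^ n ≤ J))) := by
      refine ⟨n, ?_⟩
      rw [Ideal.zero_eq_bot, eq_bot_iff]
      have hle : RingHom.ker
          (Ideal.Quotient.factor (Ideal.pow_le_self (show n ≠ 0 by omega) : J ^ n ≤ J)) ≤
          J.map (Ideal.Quotient.mk (J ^ n)) := by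
        intro y hy
        obtain ⟨s, rfl⟩ := Ideal.Quotient.mk_surjective y
        rw [RingHom.mem_ker, Ideal.Quotient.factor_mk, Ideal.Quotient.eq_zero_iff_mem] at hy
        exact Ideal.mem_map_of_mem _ hy
      refine (Ideal.pow_right_mono hle n).trans ?_
      rw [← Ideal.map_pow, Ideal.map_quotient_self]
    have huniq : g₁ = Ideal.Quotient.mkₐ R (J ^ n) := by
      apply Algebra.FormallyUnramified.ext' _ hfnil
      intro s
      rw [hg₁, hfq, hφ, Ideal.Quotient.mkₐ_eq_mk, Ideal.Quotient.factor_mk]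
    have hqφ : ∀ s, q (φ s) = Ideal.Quotient.mk (J ^ n) s := fun s => by
      rw [← hg₁, huniq]; rfl
    constructor
    · intro a b hab
      obtain ⟨r, rfl⟩ := Ideal.Quotient.mk_surjective a
      obtain ⟨r', rfl⟩ := Ideal.Quotient.mk_surjective b
      rw [hqmk, hqmk, Ideal.Quotient.eq] at hab
      have h1 := hφJn _ hab
      rw [map_sub, AlgHom.commutes, AlgHom.commutes, sub_eq_zero] at h1
      exact h1
    · intro y
      obtain ⟨s, rfl⟩ := Ideal.Quotient.mk_surjective y
      exact ⟨φ s, hqφ s⟩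

end Groth.Agent.S9428
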