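import Groth.Statements.S9430
import Groth.Agent.Lib.Helper27.GCI2
import Groth.Agent.Lib.Helper22.DimTrdeg
open Groth.Agent.Lib.Helper27

set_option autoImplicit false
universe u
open Synt

namespace Groth.Agent.S9430

/-- For a field extension K/k, every finite subset of K lies in a k-subalgebra of K which is a global
complete intersection over k; so K is the directed union of its k-subalgebras that are global
complete intersections over k. -/
theorem result (k : Type u) [Field k] (K : Type u)
    [Field K] [Algebra k K] (E : Finset K) :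
    ∃ A : Subalgebra k K, (↑E : Set K) ⊆ (A : Set K) ∧ Synt.IsGlobalCI k A := by
  obtain ⟨A, hEA, ι, σ, _, _, ⟨P⟩, hle, htr⟩ := GCI.exists_good k K E
  refine ⟨A, hEA, Or.inr ⟨Fintype.card ι, Fintype.card σ, hle, ?_⟩⟩
  obtain ⟨P', -⟩ : ∃ P' : Algebra.Presentation k A (Fin (Fintype.card ι)) (Fin (Fintype.card σ)),
      True := ⟨P.reindex (Fintype.equivFin ι).symm (Fintype.equivFin σ).symm, trivial⟩
  haveI : Algebra.FinitePresentation k A := P'.finitePresentation_of_isFinite
  haveI : Algebra.FiniteType k A := inferInstance
  refine ⟨MvPolynomial.aeval P'.val, P'.relation, P'.aeval_val_surjective, ?_, ?_⟩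
  · rw [P'.span_range_relation_eq_ker, P'.ker_eq_ker_aeval_val]
    rfl
  · exact Groth.Agent.Lib.Helper22.ringKrullDim_eq_of_trdeg (k := k) _ htr

end Groth.Agent.S9430
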