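import Groth.Statements.S9434
import Groth.Agent.Lib.Helper8.Splitting

set_option autoImplicit false
universe u
open CAlg

namespace Groth.Agent.S9434

/-- Let R → S be a local homomorphism of local rings with S the localization of an étale R-algebra at a
prime. Then there is a finite, finitely presented, faithfully flat R-algebra S' such that for every
maximal ideal m' of S' the structure map R → S'_{m'} factors through some R-algebra map S → S'_{m'}. -/
theorem result (R : Type u) [CommRing R] [IsLocalRing R] (T : Type u) [CommRing T] [Algebra R T]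
    [Algebra.Etale R T] (q : Ideal T) [q.IsPrime] (S : Type u) [CommRing S] [IsLocalRing S]
    [Algebra T S] [IsLocalization.AtPrime S q] [Algebra R S] [IsScalarTower R T S]
    [IsLocalHom (algebraMap R S)] :
    ∃ (S' : Type u) (_ : CommRing S') (_ : Algebra R S'),
      Module.Finite R S' ∧ Algebra.FinitePresentation R S' ∧ Module.FaithfullyFlat R S' ∧
        ∀ (m' : Ideal S') [m'.IsMaximal], Nonempty (S →ₐ[R] Localization.AtPrime m') := by
  open Groth.Agent.Lib.Helper8 in
  obtain ⟨f, hfq, hf⟩ := Algebra.IsEtaleAt.exists_isStandardEtale (R := R) q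
  obtain ⟨pr⟩ := hf.nonempty_standardEtalePresentation
  obtain ⟨S', _, _, hfin, hfree, hnt, H⟩ := exists_finite_free_dominating R (Localization.Away f) pr
  haveI : Nontrivial S' := hnt inferInstance
  refine ⟨S', inferInstance, inferInstance, hfin, (finite_free_props R S' hnt).1, inferInstance,
    fun m' _ => ?_⟩
  have hdisj : Disjoint (Submonoid.powers f : Set T) (q : Set T) := by
    rw [Set.disjoint_left]
    rintro x ⟨k, rfl⟩ hx
    exact hfq (‹q.IsPrime›.mem_of_pow_mem k hx)
  let qf : Ideal (Localization.Away f) := q.map (algebraMap T _)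
  haveI : qf.IsPrime :=
    IsLocalization.isPrime_of_isPrime_disjoint (Submonoid.powers f) _ q ‹_› hdisj
  have hqfcomap : qf.comap (algebraMap T _) = q :=
    IsLocalization.comap_map_of_isPrime_disjoint (Submonoid.powers f) _ ‹q.IsPrime› hdisj
  have hqR : q.comap (algebraMap R T) = IsLocalRing.maximalIdeal R := by
    rw [← IsLocalization.AtPrime.comap_maximalIdeal S q, Ideal.comap_comap,
      ← IsScalarTower.algebraMap_eq]
    exact ((IsLocalRing.local_hom_TFAE (algebraMap R S)).out 0 4 rfl rfl).mp inferInstance
  have hunder : m'.under R = qf.under R := by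
    have h1 : qf.under R = IsLocalRing.maximalIdeal R := by
      rw [Ideal.under, IsScalarTower.algebraMap_eq R T (Localization.Away f), ← Ideal.comap_comap,
        hqfcomap, hqR]
    have : Algebra.IsIntegral R S' := Algebra.IsIntegral.of_finite R S'
    have h2 : (m'.comap (algebraMap R S')).IsMaximal :=
      Ideal.isMaximal_comap_of_isIntegral_of_isMaximal m'
    rw [h1]
    exact IsLocalRing.eq_maximalIdeal h2
  obtain ⟨g', hg', φ, hφ⟩ := H qf m' hunder
  obtain ⟨φ', hφ'⟩ := exists_algHom_atPrime_of_away qf m' g' hg' φ hφ
  let ψ : T →ₐ[R] Localization.AtPrime m' :=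
    φ'.comp (IsScalarTower.toAlgHom R T (Localization.Away f))
  have hψ : ∀ t, ψ t ∈ IsLocalRing.maximalIdeal (Localization.AtPrime m') ↔ t ∈ q := by
    intro t
    rw [← hqfcomap, ← hφ']
    rfl
  have hu : ∀ y : q.primeCompl, IsUnit (ψ y) := fun y => by
    by_contra h
    exact y.2 ((hψ y).mp h)
  exact ⟨IsLocalization.liftAlgHom (M := q.primeCompl) (f := ψ) hu⟩

end Groth.Agent.S9434
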