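import Groth.Statements.S9435
import Mathlib

set_option autoImplicit false
universe u
open CAlg

namespace Groth.Agent.S9435

/-- Given a prime p of a ring R and a finite separable extension L of κ(p), there is an étale R-algebra
R' with a prime p' over p whose residue field is κ(p)-isomorphic to L. Stated through an R-algebra
map ψ : R' → L whose image generates the field L: its kernel is such a prime p' and the induced
κ(p') → L is then an isomorphism over κ(p). -/
theorem result (R : Type u) [CommRing R]
    (p : Ideal R) [p.IsPrime] (L : Type u) [Field L] [Algebra p.ResidueField L] [Algebra R L]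
    [IsScalarTower R p.ResidueField L] [Module.Finite p.ResidueField L]
    [Algebra.IsSeparable p.ResidueField L] :
    ∃ (R' : Type u) (_ : CommRing R') (_ : Algebra R R') (_ : Algebra.Etale R R') (ψ : R' →ₐ[R] L),
      Subfield.closure (Set.range ψ) = ⊤ := by
  classical
  obtain ⟨θ, hθ⟩ := Field.exists_primitive_element p.ResidueField L
  set μ := minpoly p.ResidueField θ with hμ
  have hμmonic : μ.Monic := minpoly.monic (Algebra.IsIntegral.isIntegral θ)
  have hμsep : μ.Separable := Algebra.IsSeparable.isSeparable p.ResidueField θ
  have hμroot : Polynomial.aeval θ μ = 0 := minpoly.aeval _ _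
  -- common denominator
  obtain ⟨b, hb⟩ := IsLocalization.exist_integer_multiples_of_finset (nonZeroDivisors (R ⧸ p))
    (S := p.ResidueField) μ.coeffs
  obtain ⟨s, hs⟩ := Ideal.Quotient.mk_surjective (b : R ⧸ p)
  have hsp : s ∉ p := fun h => by
    have h0 : (b : R ⧸ p) = 0 := by rw [← hs]; exact Ideal.Quotient.eq_zero_iff_mem.mpr h
    exact nonZeroDivisors.coe_ne_zero b h0
  have hsu : IsUnit (algebraMap R p.ResidueField s) :=
    IsUnit.mk0 _ (fun h => hsp (Ideal.algebraMap_residueField_eq_zero.mp h))
  letI : Algebra (Localization.Away s) p.ResidueField :=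
    (IsLocalization.Away.lift s (g := algebraMap R p.ResidueField) hsu).toAlgebra
  haveI : IsScalarTower R (Localization.Away s) p.ResidueField :=
    IsScalarTower.of_algebraMap_eq (fun r => (IsLocalization.Away.lift_eq s hsu r).symm)
  have hlifts : μ ∈ Polynomial.lifts (algebraMap (Localization.Away s) p.ResidueField) := by
    rw [Polynomial.lifts_iff_coeffs_subset_range]
    intro a ha
    obtain ⟨n, hn⟩ := hb a ha
    obtain ⟨r, rfl⟩ := Ideal.Quotient.mk_surjective n
    have h1 : algebraMap R p.ResidueField s * a = algebraMap R p.ResidueField r := by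
      rw [IsScalarTower.algebraMap_apply R (R ⧸ p) p.ResidueField,
        IsScalarTower.algebraMap_apply R (R ⧸ p) p.ResidueField, Ideal.Quotient.algebraMap_eq,
        hs, hn, Algebra.smul_def]
    refine ⟨IsLocalization.mk' (Localization.Away s) r (⟨s, Submonoid.mem_powers s⟩ :
      Submonoid.powers s), ?_⟩
    apply hsu.mul_left_cancel
    rw [h1, IsScalarTower.algebraMap_apply R (Localization.Away s) p.ResidueField s, ← map_mul,
      mul_comm, IsLocalization.mk'_spec, ← IsScalarTower.algebraMap_apply]
  obtain ⟨f₁, hf₁map, -, hf₁monic⟩ := Polynomial.lifts_and_natDegree_eq_and_monic hlifts hμmonic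
  let P₁ : StandardEtalePair (Localization.Away s) :=
    ⟨f₁, hf₁monic, Polynomial.derivative f₁, 1, 0, 1, by simp⟩
  letI : Algebra (Localization.Away s) L :=
    ((algebraMap p.ResidueField L).comp (algebraMap (Localization.Away s) p.ResidueField)).toAlgebra
  haveI : IsScalarTower (Localization.Away s) p.ResidueField L :=
    IsScalarTower.of_algebraMap_eq (fun _ => rfl)
  haveI : IsScalarTower R (Localization.Away s) L := IsScalarTower.of_algebraMap_eq (fun r => by
    change _ = algebraMap p.ResidueField L (algebraMap (Localization.Away s) p.ResidueField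
      (algebraMap R (Localization.Away s) r))
    rw [← IsScalarTower.algebraMap_apply R (Localization.Away s) p.ResidueField,
      ← IsScalarTower.algebraMap_apply R p.ResidueField L])
  have hroot : Polynomial.aeval θ f₁ = 0 := by
    rw [← Polynomial.aeval_map_algebraMap p.ResidueField, hf₁map]
    exact hμroot
  have hder : Polynomial.aeval θ (Polynomial.derivative f₁) ≠ 0 := by
    rw [← Polynomial.aeval_map_algebraMap p.ResidueField, ← Polynomial.derivative_map, hf₁map]
    exact hμsep.aeval_derivative_ne_zero hμroot
  have hmap : P₁.HasMap θ := ⟨hroot, IsUnit.mk0 _ hder⟩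
  letI : Algebra R P₁.Ring :=
    ((algebraMap (Localization.Away s) P₁.Ring).comp (algebraMap R (Localization.Away s))).toAlgebra
  haveI : IsScalarTower R (Localization.Away s) P₁.Ring :=
    IsScalarTower.of_algebraMap_eq (fun _ => rfl)
  haveI : Algebra.Etale R (Localization.Away s) := inferInstance
  haveI : Algebra.Etale R P₁.Ring := Algebra.Etale.comp R (Localization.Away s) P₁.Ring
  refine ⟨P₁.Ring, inferInstance, inferInstance, inferInstance,
    (P₁.lift θ hmap).restrictScalars R, ?_⟩
  set K := Subfield.closure (Set.range ((P₁.lift θ hmap).restrictScalars R)) with hK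
  have hR : ∀ r : R, algebraMap R L r ∈ K := fun r =>
    Subfield.subset_closure ⟨algebraMap R P₁.Ring r, by
      rw [AlgHom.commutes]⟩
  have hκ : ∀ a : p.ResidueField, algebraMap p.ResidueField L a ∈ K := by
    intro a
    obtain ⟨n, d, hd, rfl⟩ := IsFractionRing.div_surjective (A := R ⧸ p) a
    obtain ⟨n, rfl⟩ := Ideal.Quotient.mk_surjective n
    obtain ⟨d, rfl⟩ := Ideal.Quotient.mk_surjective d
    rw [map_div₀]
    apply K.div_mem
    · rw [← Ideal.Quotient.algebraMap_eq, ← IsScalarTower.algebraMap_apply R (R ⧸ p) p.ResidueField,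
        ← IsScalarTower.algebraMap_apply R p.ResidueField L]
      exact hR n
    · rw [← Ideal.Quotient.algebraMap_eq, ← IsScalarTower.algebraMap_apply R (R ⧸ p) p.ResidueField,
        ← IsScalarTower.algebraMap_apply R p.ResidueField L]
      exact hR d
  have hθK : θ ∈ K := Subfield.subset_closure ⟨P₁.X, by
    change P₁.lift θ hmap P₁.X = θ
    exact P₁.lift_X _ _⟩
  rw [eq_top_iff]
  intro x _
  have hx : x ∈ IntermediateField.adjoin p.ResidueField {θ} := by rw [hθ]; trivial
  have hle : IntermediateField.adjoin p.ResidueField {θ} ≤ K.toIntermediateField hκ := by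
    rw [IntermediateField.adjoin_le_iff]
    intro y hy
    rw [Set.mem_singleton_iff] at hy
    subst hy
    exact hθK
  exact hle hx

end Groth.Agent.S9435
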