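import Groth.Statements.S9439
import Groth.Agent.Lib.Helper26.DVRFlat
import Groth.Agent.S0542

set_option autoImplicit false
universe u
open CAlg

namespace Groth.Agent.S9439

/-- Let R be a Noetherian local ring, R^ its completion and p a prime with R_p a discrete valuation ring
and with R^/pR^ reduced (p analytically unramified: the completion of R/p, which is R^/pR^, is
reduced). Then the localization of R^ at any associated prime of R^/pR^ is a discrete valuation
ring. -/
theorem result
    (R : Type u) [CommRing R] [IsLocalRing R] [IsNoetherianRing R] (p : Ideal R) [p.IsPrime]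
    [IsDomain (Localization.AtPrime p)] [IsDiscreteValuationRing (Localization.AtPrime p)]
    (hp : IsReduced (AdicCompletion (IsLocalRing.maximalIdeal R) R ⧸
      p.map (algebraMap R (AdicCompletion (IsLocalRing.maximalIdeal R) R))))
    (q : Ideal (AdicCompletion (IsLocalRing.maximalIdeal R) R)) [q.IsPrime]
    (hq : q ∈ associatedPrimes (AdicCompletion (IsLocalRing.maximalIdeal R) R)
      (AdicCompletion (IsLocalRing.maximalIdeal R) R ⧸
        p.map (algebraMap R (AdicCompletion (IsLocalRing.maximalIdeal R) R)))) :
    ∃ _ : IsDomain (Localization.AtPrime q), IsDiscreteValuationRing (Localization.AtPrime q) := by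
  haveI hN : IsNoetherianRing (AdicCompletion (IsLocalRing.maximalIdeal R) R) :=
    Groth.Agent.S0542.result R (IsLocalRing.maximalIdeal R) (Ideal.fg_of_isNoetherianRing _)
  set S := AdicCompletion (IsLocalRing.maximalIdeal R) R with hS
  set P := p.map (algebraMap R S) with hP
  obtain ⟨_, xb, hxb⟩ := isAssociatedPrime_iff.mp hq
  obtain ⟨x, rfl⟩ := Ideal.Quotient.mk_surjective xb
  have hqx : ∀ y, y ∈ q ↔ y * x ∈ P := by
    intro y
    rw [hxb, Submodule.mem_colon_singleton, Submodule.mem_bot, ← Ideal.Quotient.eq_zero_iff_mem,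
      map_mul]
    rfl
  have hxP : x ∉ P := by
    intro hx
    have : (1 : S) ∈ q := (hqx 1).mpr (by rwa [one_mul])
    exact (Ideal.ne_top_iff_one q).mp (Ideal.IsPrime.ne_top inferInstance) this
  have hxq : x ∉ q := by
    intro hx
    have h1 : x * x ∈ P := (hqx x).mp hx
    have h2 : (Ideal.Quotient.mk P x) ^ 2 = 0 := by
      rw [← map_pow, Ideal.Quotient.eq_zero_iff_mem, pow_two]; exact h1
    have h3 : Ideal.Quotient.mk P x = 0 := by
      haveI := hp
      exact pow_eq_zero_iff (two_ne_zero) |>.mp h2
    exact hxP (Ideal.Quotient.eq_zero_iff_mem.mp h3)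
  have hPq : P ≤ q := by
    intro y hy
    exact (hqx y).mpr (Ideal.mul_mem_right _ _ hy)
  -- the contraction of `q` is `p`
  have hcomap : p = q.comap (algebraMap R S) := by
    haveI : (q.comap (algebraMap R S)).IsPrime := Ideal.comap_isPrime _ _
    have hle : p ≤ q.comap (algebraMap R S) := by
      rw [← Ideal.map_le_iff_le_comap]; exact hPq
    haveI : q.LiesOver (q.comap (algebraMap R S)) := ⟨rfl⟩
    obtain ⟨q', hq'le, hq'prime, hq'over⟩ := Ideal.exists_ideal_le_liesOver_of_le q hle
    haveI := hq'prime
    have hPq' : P ≤ q' := by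
      rw [hP, Ideal.map_le_iff_le_comap]
      exact (hq'over.over).le
    have hqq' : q ≤ q' := by
      intro y hy
      have h1 : y * x ∈ q' := hPq' ((hqx y).mp hy)
      rcases Ideal.IsPrime.mem_or_mem hq'prime h1 with h | h
      · exact h
      · exact absurd (hq'le h) hxq
    have : q' = q := le_antisymm hq'le hqq'
    rw [← this]
    exact hq'over.over
  -- the flat local homomorphism `R_p → S_q`
  let φ := Localization.localRingHom p q (algebraMap R S) hcomap
  have hφ : φ.Flat := RingHom.Flat.localRingHom
    (RingHom.flat_algebraMap_iff.mpr inferInstance) q p hcomap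
  haveI : IsNoetherianRing (Localization.AtPrime q) :=
    IsLocalization.isNoetherianRing q.primeCompl _ hN
  apply Groth.Agent.Lib.Helper26.DVRFlat.isDiscreteValuationRing_of_flat φ hφ
  rw [← Localization.AtPrime.map_eq_maximalIdeal (I := p), Ideal.map_map,
    ← Localization.AtPrime.map_eq_maximalIdeal (I := q)]
  have hcomp : φ.comp (algebraMap R (Localization.AtPrime p)) =
      (algebraMap S (Localization.AtPrime q)).comp (algebraMap R S) := by
    ext r
    simp [φ]
    rfl
  rw [hcomp, ← Ideal.map_map]
  apply le_antisymm (Ideal.map_mono hPq)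
  rw [Ideal.map_le_iff_le_comap]
  intro y hy
  rw [Ideal.mem_comap]
  have h1 : algebraMap S (Localization.AtPrime q) (y * x) ∈
      P.map (algebraMap S (Localization.AtPrime q)) :=
    Ideal.mem_map_of_mem _ ((hqx y).mp hy)
  have hu : IsUnit (algebraMap S (Localization.AtPrime q) x) :=
    IsLocalization.map_units (Localization.AtPrime q) (⟨x, hxq⟩ : q.primeCompl)
  rw [map_mul] at h1
  exact (Ideal.mul_unit_mem_iff_mem _ hu).mp h1

end Groth.Agent.S9439
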