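import Groth.Statements.S9440
import Groth.Agent.Lib.Helper27.NagAU6
open Groth.Agent.Lib.Helper27 Groth.Agent.Lib.Helper12

set_option autoImplicit false
universe u
open CAlg

namespace Groth.Agent.S9440

/-- (1) ⇔ (3): a Noetherian local ring R is a Nagata ring if and only if for every finite local
homomorphism R → S of local rings with S a domain, the completion of S is reduced. -/
theorem result (R : Type u) [CommRing R]
    [IsLocalRing R] [IsNoetherianRing R] :
    CAlg.IsNagata R ↔ ∀ (S : Type u) [CommRing S] [IsDomain S] [IsLocalRing S] [Algebra R S]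
      [IsLocalHom (algebraMap R S)] [Module.Finite R S],
      IsReduced (AdicCompletion (IsLocalRing.maximalIdeal S) S) := by
  constructor
  · rintro ⟨_, hN⟩ S _ _ _ _ _ _
    have h := NagAU.isReduced_adicCompletion_jacobson R S
      (NagAU.isReduced_tensor_of_isReduced (IsLocalRing.maximalIdeal R) hN S)
    rw [IsLocalRing.jacobson_eq_maximalIdeal ⊥ bot_ne_top] at h
    exact h
  · intro H
    refine ⟨inferInstance, fun p hp => ?_⟩
    haveI : Nontrivial (R ⧸ p) := Ideal.Quotient.nontrivial_iff.mpr hp.ne_top
    haveI : IsLocalRing (R ⧸ p) :=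
      IsLocalRing.of_surjective' (Ideal.Quotient.mk p) Ideal.Quotient.mk_surjective
    haveI : IsLocalHom (Ideal.Quotient.mk p) :=
      IsLocalHom.of_surjective (Ideal.Quotient.mk p) Ideal.Quotient.mk_surjective
    have HB : ∀ (S : Type u) [CommRing S] [IsDomain S] [IsLocalRing S] [Algebra (R ⧸ p) S]
        [IsLocalHom (algebraMap (R ⧸ p) S)] [Module.Finite (R ⧸ p) S],
        IsReduced (AdicCompletion (IsLocalRing.maximalIdeal S) S) := by
      intro S _ _ _ _ _ _
      letI : Algebra R S := ((algebraMap (R ⧸ p) S).comp (Ideal.Quotient.mk p)).toAlgebra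
      haveI : IsScalarTower R (R ⧸ p) S := IsScalarTower.of_algebraMap_eq (fun _ => rfl)
      haveI : IsLocalHom (algebraMap R S) := by
        show IsLocalHom ((algebraMap (R ⧸ p) S).comp (Ideal.Quotient.mk p))
        infer_instance
      haveI : Module.Finite R S := Module.Finite.trans (R ⧸ p) S
      exact H S
    refine (NagataLoc.isN2_iff_N2' (R ⧸ p)).2 (N2Insep.N2'_of_purelyInseparable (R ⧸ p) ?_)
    intro K' _ _ _ _ _ _
    exact NagAU.finite_integralClosure_of_forall_finite_local (R ⧸ p) HB K'

end Groth.Agent.S9440
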