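import Groth.Statements.S9443
import Groth.Agent.Lib.Helper26.PowerSeriesRLR

set_option autoImplicit false
universe u
open CAlg

namespace Groth.Agent.S9443

open Groth.Agent.Lib.Helper26.PowerSeriesRLR

/-- A complete regular local ring R with a coefficient field k (a subfield mapping isomorphically onto
the residue field) is k-isomorphic to a power series ring over k in finitely many variables
(existence of an isomorphism only; the number of variables is then the dimension of R). -/
theorem result (R : Type u)
    [CommRing R] [IsRegularLocalRing R] [IsAdicComplete (IsLocalRing.maximalIdeal R) R]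
    (k : Type u) [Field k] [Algebra k R]
    (hk : Function.Bijective (algebraMap k (IsLocalRing.ResidueField R))) :
    ∃ d : ℕ, Nonempty (R ≃ₐ[k] MvPowerSeries (Fin d) k) := by
  classical
  set d := Module.finrank (IsLocalRing.ResidueField R) (IsLocalRing.CotangentSpace R) with hd
  have hdim : ringKrullDim R = d :=
    ((IsRegularLocalRing.iff_finrank_cotangentSpace R).mp inferInstance).symm
  let b := Module.finBasis (IsLocalRing.ResidueField R) (IsLocalRing.CotangentSpace R)
  choose x hx using fun i => (IsLocalRing.maximalIdeal R).toCotangent_surjective (b i)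
  obtain ⟨ψ, hψ⟩ := exists_algHom k (fun i => (x i : R)) (fun i => (x i).2)
  have hψm : ∀ i, ψ (MvPowerSeries.X i) ∈ IsLocalRing.maximalIdeal R := by
    intro i; rw [hψ i]; exact (x i).2
  have hcot : (fun i : Fin d => (IsLocalRing.maximalIdeal R).toCotangent
      ⟨ψ (MvPowerSeries.X i), hψm i⟩) = b := by
    funext i
    rw [← hx i]
    congr 1
    exact Subtype.ext (hψ i)
  have hR : Function.Surjective ((IsLocalRing.residue R).comp (algebraMap k R)) := by
    have : (IsLocalRing.residue R).comp (algebraMap k R) =
        algebraMap k (IsLocalRing.ResidueField R) := by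
      ext c
      rfl
    rw [this]
    exact hk.surjective
  have hsurj : Function.Surjective ψ := by
    apply surjective_of_span_cotangent hR ψ hψm
    rw [hcot]
    exact b.span_eq
  have hinj : Function.Injective ψ :=
    injective_of_surjective_of_le_ringKrullDim k d ψ.toRingHom hsurj hdim.ge
  exact ⟨d, ⟨(AlgEquiv.ofBijective ψ ⟨hinj, hsurj⟩).symm⟩⟩

end Groth.Agent.S9443
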