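import Groth.Statements.S9444
import Mathlib
import Groth.Agent.Lib.Helper21.CohenStruct

set_option autoImplicit false
universe u
open CAlg

namespace Groth.Agent.S9444

/-- A complete regular local ring containing a field (that is, containing the prime field F_p or ℚ) is
isomorphic to a power series ring in finitely many variables over its residue field (existence of an
isomorphism only). -/
theorem result (R : Type u)
    [CommRing R] [IsRegularLocalRing R] [IsAdicComplete (IsLocalRing.maximalIdeal R) R]
    (k₀ : Type u) [Field k₀] [Algebra k₀ R] :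
    ∃ d : ℕ, Nonempty (R ≃+* MvPowerSeries (Fin d) (IsLocalRing.ResidueField R)) := by
  classical
  obtain ⟨σ, hσ⟩ := Groth.Agent.Lib.Helper21.CohenStruct.exists_section R k₀
  letI : Algebra (IsLocalRing.ResidueField R) R := σ.toAlgebra
  have hK : Function.Surjective ((IsLocalRing.residue R).comp
      (algebraMap (IsLocalRing.ResidueField R) R)) := fun x => ⟨x, hσ x⟩
  obtain ⟨ψ, hs, -⟩ := Groth.Agent.Lib.Helper21.CohenStruct.exists_surjective
    (IsLocalRing.ResidueField R) R hK
  have hd : ((Module.finrank (IsLocalRing.ResidueField R) (IsLocalRing.CotangentSpace R) : ℕ) :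
      WithBot ℕ∞) ≤ ringKrullDim R :=
    ((IsRegularLocalRing.iff_finrank_cotangentSpace R).mp inferInstance).le
  have hinj := Groth.Agent.Lib.Helper26.PowerSeriesRLR.injective_of_surjective_of_le_ringKrullDim
    (IsLocalRing.ResidueField R) _ ψ.toRingHom hs hd
  exact ⟨_, ⟨(RingEquiv.ofBijective ψ.toRingHom ⟨hinj, hs⟩).symm⟩⟩

end Groth.Agent.S9444
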