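import Groth.Statements.S9447
import Mathlib
import Groth.Agent.S0585
open scoped TensorProduct KaehlerDifferential

set_option autoImplicit false
universe u
open CAlg

namespace Groth.Agent.S9447

open TensorProduct in
/-- Formal smoothness descends along faithfully flat base change: for R → S arbitrary and R → R'
faithfully flat, the R-algebra S is formally smooth exactly when the R'-algebra R' ⊗_R S is formally
smooth. No finiteness hypothesis on S. -/
theorem result (R : Type u) [CommRing R]
    (S : Type u) [CommRing S] [Algebra R S] (R' : Type u) [CommRing R'] [Algebra R R']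
    [Module.FaithfullyFlat R R'] :
    Algebra.FormallySmooth R S ↔ Algebra.FormallySmooth R' (R' ⊗[R] S) := by
  constructor
  · intro h
    infer_instance
  · intro h
    letI : Algebra R' (S ⊗[R] R') := Algebra.TensorProduct.rightAlgebra
    have h1 : Subsingleton (Algebra.H1Cotangent R S) := by
      haveI : Subsingleton (R' ⊗[R] Algebra.H1Cotangent R S) :=
        (Algebra.tensorH1CotangentOfFlat R S R').toEquiv.subsingleton
      exact Module.FaithfullyFlat.lTensor_reflects_triviality R R' _
    let e : (R' ⊗[R] S) ≃ₐ[R'] (S ⊗[R] R') :=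
      AlgEquiv.ofRingEquiv (f := (Algebra.TensorProduct.comm R R' S).toRingEquiv) (by
        intro x
        show Algebra.TensorProduct.comm R R' S (algebraMap R' (R' ⊗[R] S) x) = (1 : S) ⊗ₜ[R] x
        rw [Algebra.TensorProduct.algebraMap_apply, Algebra.TensorProduct.comm_tmul]
        rfl)
    haveI : Algebra.FormallySmooth R' (S ⊗[R] R') := Algebra.FormallySmooth.of_equiv e
    haveI : Module.Projective (S ⊗[R] R') Ω[(S ⊗[R] R')⁄R'] := inferInstance
    haveI : Module.Projective (S ⊗[R] R') ((S ⊗[R] R') ⊗[S] Ω[S⁄R]) :=
      Module.Projective.of_equiv'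
        (KaehlerDifferential.tensorKaehlerEquiv R R' S (S ⊗[R] R')).symm
    have h2 : Module.Projective S Ω[S⁄R] := Groth.Agent.S0585.result S (S ⊗[R] R') Ω[S⁄R]
    exact ⟨h2, h1⟩

end Groth.Agent.S9447
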