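import Groth.Statements.S9448
-- import your own Groth.Agent.* helpers here
import Mathlib
import Groth.Agent.Lib.Helper22.EtaleDim4
import Groth.Agent.Lib.Helper22.EtaleDim5

set_option autoImplicit false
universe u
open Unram

namespace Groth.Agent.S9448

/-- For a field k and a finite type algebra A over the polynomial ring k[x_1, …, x_n] (the variables
mapping to a_1, …, a_n), the structure map is étale if and only if (a) the local rings of A at all
maximal ideals have dimension n and (b) da_1, …, da_n generate the module of differentials of A over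
k. -/
theorem result (k : Type u) [Field k] (n : ℕ)
    (A : Type u) [CommRing A] [Algebra k A] [Algebra (MvPolynomial (Fin n) k) A]
    [IsScalarTower k (MvPolynomial (Fin n) k) A] [Algebra.FiniteType (MvPolynomial (Fin n) k) A] :
    Algebra.Etale (MvPolynomial (Fin n) k) A ↔
      (∀ (m : Ideal A) [m.IsMaximal], ringKrullDim (Localization.AtPrime m) = n) ∧
        Submodule.span A (Set.range fun i : Fin n =>
          KaehlerDifferential.D k A (algebraMap (MvPolynomial (Fin n) k) A (MvPolynomial.X i))) = ⊤ := by
  haveI : Algebra.FiniteType k A := Algebra.FiniteType.trans (R := k)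
    (S := MvPolynomial (Fin n) k) (A := A) inferInstance inferInstance
  haveI : IsNoetherianRing A := Algebra.FiniteType.isNoetherianRing (MvPolynomial (Fin n) k) A
  haveI : Algebra.FinitePresentation (MvPolynomial (Fin n) k) A :=
    Algebra.FinitePresentation.of_finiteType.mp inferInstance
  have key := Groth.Agent.Lib.Helper22.EtaleDim.span_eq_top_iff_formallyUnramified k (Fin n) A
  rw [key]
  constructor
  · intro h
    haveI := h
    refine ⟨fun m hm => ?_, inferInstance⟩
    haveI := hm
    haveI : Module.Flat (MvPolynomial (Fin n) k) A := inferInstance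
    haveI : Algebra.QuasiFinite (MvPolynomial (Fin n) k) A := inferInstance
    rw [IsLocalization.AtPrime.ringKrullDim_eq_height m (Localization.AtPrime m),
      Groth.Agent.Lib.Helper22.SmoothDim.height_eq_height_under (A := MvPolynomial (Fin n) k) m]
    haveI := Groth.Agent.Lib.Helper22.SmoothDim.isMaximal_under k (MvPolynomial (Fin n) k) A m
    rw [Groth.Agent.Lib.Helper12.DimFT.height_eq_of_isMaximal k (MvPolynomial (Fin n) k) n
      (Groth.Agent.Lib.Helper22.SmoothDim.ringKrullDim_mvPolynomial_field k n) _]
    rfl
  · rintro ⟨hdim, hunr⟩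
    haveI := hunr
    rw [← Algebra.etaleLocus_eq_univ_iff_etale, Set.eq_univ_iff_forall]
    intro p
    obtain ⟨m, hm, hpm⟩ := Ideal.exists_le_maximal p.asIdeal p.2.ne_top
    haveI := hm
    have hmem : (⟨m, hm.isPrime⟩ : PrimeSpectrum A) ∈
        Algebra.etaleLocus (MvPolynomial (Fin n) k) A := by
      haveI : Algebra.IsUnramifiedAt (MvPolynomial (Fin n) k) m := inferInstance
      refine Groth.Agent.Lib.Helper22.EtaleDim.isEtaleAt_of_unramified k n A m ?_
      rw [Groth.Agent.Lib.Helper12.DimFT2.localDim_primeSpectrum k A ⟨m, hm.isPrime⟩]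
      have h1 := hdim m
      rw [IsLocalization.AtPrime.ringKrullDim_eq_height m (Localization.AtPrime m)] at h1
      have h2 : m.height = n := by exact_mod_cast h1
      have h3 : Order.height (⟨m, hm.isPrime⟩ : PrimeSpectrum A) = n := by
        rw [← h2]; exact (PrimeSpectrum.height_eq_orderHeight (⟨m, hm.isPrime⟩ : PrimeSpectrum A)).symm
      rw [h3]
      exact_mod_cast le_self_add
    have hspec : p ⤳ (⟨m, hm.isPrime⟩ : PrimeSpectrum A) :=
      (PrimeSpectrum.le_iff_specializes p ⟨m, hm.isPrime⟩).mp hpm
    exact hspec.mem_open Algebra.isOpen_etaleLocus hmem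

end Groth.Agent.S9448
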