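import Groth.Statements.S9451
import Mathlib
open CategoryTheory CategoryTheory.Limits TensorProduct in
/-- A ring map from a finite type `ℤ`-algebra to a filtered colimit of rings factors through a
stage. -/
theorem Groth.Agent.S9451.exists_factor.{v} {I : Type v} [SmallCategory I] [IsFiltered I]
    (D : I ⥤ CommRingCat.{v}) (c : Cocone D) (hc : IsColimit c)
    (A₀ : Type v) [CommRing A₀] (hA₀ : Algebra.FiniteType ℤ A₀) (g : A₀ →+* c.pt) :
    ∃ (i : I) (g' : A₀ →+* D.obj i), g = (c.ι.app i).hom.comp g' := by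
  let R : CommRingCat.{v} := CommRingCat.of (ULift.{v} ℤ)
  have hR : IsInitial R := CommRingCat.isInitial
  let α : (Functor.const I).obj R ⟶ D :=
    { app := fun i => hR.to _, naturality := fun _ _ _ => hR.hom_ext _ _ }
  let f : R ⟶ CommRingCat.of A₀ := hR.to _
  have : IsNoetherianRing (ULift.{v} ℤ) := isNoetherianRing_of_ringEquiv ℤ ULift.ringEquiv.symm
  have hf : f.hom.FinitePresentation := by
    rw [← RingHom.FinitePresentation.of_finiteType]
    have h1 : (f.hom.comp (ULift.ringEquiv.symm : ℤ ≃+* ULift.{v} ℤ).toRingHom).FiniteType := by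
      have : f.hom.comp (ULift.ringEquiv.symm : ℤ ≃+* ULift.{v} ℤ).toRingHom = algebraMap ℤ A₀ :=
        Subsingleton.elim _ _
      rw [this]
      exact (RingHom.finiteType_algebraMap).mpr hA₀
    exact RingHom.FiniteType.of_comp_finiteType h1
  obtain ⟨i, g', -, h2⟩ := RingHom.EssFiniteType.exists_eq_comp_ι_app_of_isColimit R D α f c hc hf
    (CommRingCat.ofHom g) (fun i => hR.hom_ext _ _)
  refine ⟨i, g'.hom, ?_⟩
  have := congrArg CommRingCat.Hom.hom h2
  simpa using this


set_option autoImplicit false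
universe u
open CategoryTheory CategoryTheory.Limits TensorProduct
open CAlg

namespace Groth.Agent.S9451

/-- Let (A_i) be a filtered system of rings with colimit A and B a smooth A-algebra. Then some stage A_i
carries a smooth A_i-algebra B_i with B isomorphic to A ⊗_{A_i} B_i as A-algebras (the base change
along the colimit map A_i → A; existence of an isomorphism). -/
theorem result {I : Type u} [SmallCategory I] [IsFiltered I]
    (D : I ⥤ CommRingCat.{u}) (c : Cocone D) (hc : IsColimit c) (B : Type u) [CommRing B]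
    [Algebra c.pt B] [Algebra.Smooth c.pt B] :
    ∃ (i : I) (Bi : Type u) (_ : CommRing Bi) (_ : Algebra (D.obj i) Bi),
      Algebra.Smooth (D.obj i) Bi ∧
      (letI : Algebra (D.obj i) c.pt := (c.ι.app i).hom.toAlgebra
       Nonempty (B ≃ₐ[c.pt] (c.pt ⊗[D.obj i] Bi))) := by
  obtain ⟨A₀, B₀, _, _, hfg, hsm, ⟨e⟩⟩ := Algebra.Smooth.exists_subalgebra_fg ℤ c.pt B
  have hft : Algebra.FiniteType ℤ A₀ := (Subalgebra.fg_iff_finiteType A₀).mp hfg
  obtain ⟨i, g', hg'⟩ := exists_factor D c hc A₀ hft A₀.val.toRingHom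
  letI : Algebra A₀ (D.obj i) := g'.toAlgebra
  letI : Algebra (D.obj i) c.pt := (c.ι.app i).hom.toAlgebra
  haveI : IsScalarTower A₀ (D.obj i) c.pt := IsScalarTower.of_algebraMap_eq' hg'
  refine ⟨i, D.obj i ⊗[A₀] B₀, inferInstance, inferInstance, inferInstance, ⟨e.trans ?_⟩⟩
  exact (Algebra.TensorProduct.cancelBaseChange A₀ (D.obj i) c.pt c.pt B₀).symm

end Groth.Agent.S9451
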