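import Groth.Statements.S9454
import Groth.Agent.Lib.Helper8.SplittingCover

set_option autoImplicit false
universe u
open CAlg

namespace Groth.Agent.S9454

/-- For an étale ring map R → S which is surjective on spectra there is a finite, finitely presented,
flat R-algebra S' with Spec S' → Spec R surjective such that, Zariski locally on S', the structure
map factors through S: every prime q' of S' has some g' ∉ q' and an R-algebra map S → S'_{g'}. -/
theorem result (R : Type u) [CommRing R]
    (S : Type u) [CommRing S] [Algebra R S] [Algebra.Etale R S]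
    (hs : Function.Surjective (PrimeSpectrum.comap (algebraMap R S))) :
    ∃ (S' : Type u) (_ : CommRing S') (_ : Algebra R S'),
      Module.Finite R S' ∧ Algebra.FinitePresentation R S' ∧ Module.Flat R S' ∧
        Function.Surjective (PrimeSpectrum.comap (algebraMap R S')) ∧
        ∀ (q' : Ideal S') [q'.IsPrime], ∃ (g' : S') (_ : g' ∉ q'),
          Nonempty (S →ₐ[R] Localization.Away g') := by
  open Groth.Agent.Lib.Helper8 in
  let F : Set S := {f | Algebra.IsStandardEtale R (Localization.Away f)}
  have hspan : Ideal.span F = ⊤ := by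
    by_contra h
    obtain ⟨M, hM, hle⟩ := Ideal.exists_le_maximal _ h
    haveI := hM.isPrime
    obtain ⟨f, hfM, hf⟩ := Algebra.IsEtaleAt.exists_isStandardEtale (R := R) M
    exact hfM (hle (Ideal.subset_span hf))
  obtain ⟨s, hsF, hs1⟩ := (Ideal.span_eq_top_iff_finite F).mp hspan
  obtain ⟨S', _, _, hfin, hfree, hnt, hD⟩ :=
    exists_dominates_finset (R := R) s (fun f hf => hsF hf)
  obtain ⟨h1, h2, h3⟩ := finite_free_props R S' hnt
  refine ⟨S', inferInstance, inferInstance, hfin, h1, h2, h3, fun q' _ => ?_⟩
  obtain ⟨q, hq⟩ := hs ⟨q'.under R, inferInstance⟩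
  have hex : ∃ f ∈ s, f ∉ q.asIdeal := by
    by_contra h
    push_neg at h
    have h4 : Ideal.span (s : Set S) ≤ q.asIdeal := Ideal.span_le.mpr h
    rw [hs1] at h4
    exact q.isPrime.ne_top (top_le_iff.mp h4)
  exact hD q.asIdeal hex q.isPrime q' (by
    have := congrArg PrimeSpectrum.asIdeal hq
    exact this.symm)

end Groth.Agent.S9454
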