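import Groth.Statements.S9456
import Groth.Agent.Lib.Helper14.FlatStage.IntModel

set_option autoImplicit false
universe u
open CAlg

namespace Groth.Agent.S9456

/-- Let R → S be of finite presentation and M a finitely presented S-module which is flat over R. Then
the triple descends to a finite type ℤ-algebra: there are R₀ of finite type over ℤ with R₀ → R, a
finite type R₀-algebra S₀ with a compatible map S₀ → S making S the base change R ⊗_{R₀} S₀, and a
finite S₀-module M₀ flat over R₀ with an S₀-linear map M₀ → M making M the base change S ⊗_{S₀} M₀. -/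
theorem result (R : Type u) [CommRing R]
    (S : Type u) [CommRing S] [Algebra R S] [Algebra.FinitePresentation R S] (M : Type u)
    [AddCommGroup M] [Module S M] [Module R M] [IsScalarTower R S M]
    [Module.FinitePresentation S M] [Module.Flat R M] :
    ∃ (R₀ : Type u) (_ : CommRing R₀) (_ : Algebra R₀ R) (S₀ : Type u) (_ : CommRing S₀)
      (_ : Algebra R₀ S₀) (_ : Algebra S₀ S) (_ : Algebra R₀ S) (_ : IsScalarTower R₀ R S)
      (_ : IsScalarTower R₀ S₀ S) (M₀ : Type u) (_ : AddCommGroup M₀) (_ : Module S₀ M₀)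
      (_ : Module R₀ M₀) (_ : IsScalarTower R₀ S₀ M₀) (_ : Module S₀ M) (_ : IsScalarTower S₀ S M)
      (f : M₀ →ₗ[S₀] M),
      Algebra.FiniteType ℤ R₀ ∧ Algebra.FiniteType R₀ S₀ ∧ Module.Finite S₀ M₀ ∧ Module.Flat R₀ M₀ ∧
        Algebra.IsPushout R₀ R S₀ S ∧ IsBaseChange S f := by
  classical
  obtain ⟨n, π, m, fk, b, e, ℓ, ε, hπ, hfk, hε, hεsmul, hεker⟩ :=
    Groth.Agent.Lib.Helper14.FlatStage.exists_presentation' R S M
  obtain ⟨R₁, hR₁, ⟨L', hL'⟩, ⟨f0, hf0⟩⟩ :=
    Groth.Agent.Lib.Helper14.FlatStage.exists_coeff_ring₂ R ℓ fk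
  haveI : Algebra.FiniteType ℤ R₁ := (Subalgebra.fg_iff_finiteType R₁).1 hR₁
  haveI : IsNoetherianRing R₁ := Algebra.FiniteType.isNoetherianRing ℤ R₁
  have hID : Groth.Agent.Lib.Helper14.FlatStage.ID f0 R = Ideal.span (Set.range fk) := by
    unfold Groth.Agent.Lib.Helper14.FlatStage.ID
    congr 2
    funext k
    exact hf0 k
  have hker : ∀ p, π p = 0 ↔ p ∈ Groth.Agent.Lib.Helper14.FlatStage.ID f0 R := by
    intro p
    rw [hID, hfk]
    rfl
  have hKm : ∀ v, ε v = 0 ↔
      v ∈ Groth.Agent.Lib.Helper14.FlatStage.Km (Groth.Agent.Lib.Helper14.FlatStage.Laug L' f0) R := by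
    intro v
    rw [hεker]
    have hEq : Groth.Agent.Lib.Helper14.FlatStage.Km
        (Groth.Agent.Lib.Helper14.FlatStage.Laug L' f0) R =
        Submodule.span (MvPolynomial (Fin n) R) (Set.range ℓ) := by
      apply le_antisymm
      · unfold Groth.Agent.Lib.Helper14.FlatStage.Km
        rw [Submodule.span_le]
        rintro _ ⟨j, rfl⟩
        rcases j with j | ⟨k, i⟩
        · rw [Groth.Agent.Lib.Helper14.FlatStage.genm_aug_inl, hL']
          exact Submodule.subset_span ⟨j, rfl⟩
        · rw [Groth.Agent.Lib.Helper14.FlatStage.genm_aug_inr, hf0, SetLike.mem_coe, ← hεker]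
          have h1 : (Pi.single i (fk k) : Groth.Agent.Lib.Helper14.FlatStage.Fm n b R) =
              fk k • (Pi.single i 1 : Groth.Agent.Lib.Helper14.FlatStage.Fm n b R) := by
            funext i'
            by_cases h : i' = i
            · subst h
              rw [Pi.smul_apply, Pi.single_eq_same, Pi.single_eq_same, smul_eq_mul, mul_one]
            · rw [Pi.smul_apply, Pi.single_eq_of_ne h, Pi.single_eq_of_ne h, smul_zero]
          have h2 : π (fk k) = 0 := by
            rw [hker, hID]
            exact Ideal.subset_span ⟨k, rfl⟩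
          rw [h1, hεsmul, h2, zero_smul]
      · rw [Submodule.span_le]
        rintro _ ⟨j, rfl⟩
        have h1 := Groth.Agent.Lib.Helper14.FlatStage.genm_aug_inl L' f0 R j
        rw [hL'] at h1
        rw [← h1]
        exact Submodule.subset_span ⟨Sum.inl j, rfl⟩
    rw [hEq]
  have hflat : Module.Flat R (Groth.Agent.Lib.Helper14.FlatStage.Mm
      (Groth.Agent.Lib.Helper14.FlatStage.Laug L' f0) R) :=
    Module.Flat.of_linearEquiv (Groth.Agent.Lib.Helper14.FlatStage.quotEquivOfKer
      (Groth.Agent.Lib.Helper14.FlatStage.Km (Groth.Agent.Lib.Helper14.FlatStage.Laug L' f0) R)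
      ε hε hKm)
  obtain ⟨C, hC, hflC⟩ := Groth.Agent.Lib.Helper14.FlatStage.exists_fg_flat
    (Groth.Agent.Lib.Helper14.FlatStage.Laug L' f0) R hflat
  have hfin : Algebra.FiniteType ℤ C := by
    haveI : Algebra.FiniteType R₁ C := (Subalgebra.fg_iff_finiteType C).1 hC
    exact Algebra.FiniteType.trans (S := R₁) inferInstance inferInstance
  exact Groth.Agent.Lib.Helper14.FlatStage.exists_int_model_aux L' f0 C R π hπ hker ε hε hεsmul
    hKm hfin hflC

end Groth.Agent.S9456
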