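import Groth.Statements.S9470
import Groth.Agent.Lib.Helper8.Hzl.AtPrimePairs

set_option autoImplicit false
universe u
open Hensel

namespace Groth.Agent.S9470

/-- Let R be a ring, p a prime of R and R^h a henselization of the local ring R_p, regarded as an
R-algebra through R_p. For pairs (S, q) with S an étale R-algebra and q a prime of S over p such
that κ(p) → κ(q) is bijective: (a) there is exactly one R-algebra map f : S → R^h under which the
maximal ideal pulls back to q; (b) every element of R^h is f(s) for some such pair, map f and s ∈ S;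
(c) if such an f sends s to 0, then some R-algebra map S → S' to another such pair (S', q'), pulling
q' back to q, already sends s to 0. Together with filteredness of the category of pairs this
expresses that R^h is canonically the colimit of S over all pairs (S, q). (The published statement
also records the equal colimit of the local rings S_q.) -/
theorem result (R : Type u) [CommRing R]
    (p : Ideal R) [p.IsPrime] (Rh : Type u) [CommRing Rh] [IsLocalRing Rh]
    [Algebra (Localization.AtPrime p) Rh] [IsLocalHom (algebraMap (Localization.AtPrime p) Rh)]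
    [Hensel.IsHenselization (Localization.AtPrime p) Rh] [Algebra R Rh]
    [IsScalarTower R (Localization.AtPrime p) Rh] :
    (∀ (S : Type u) [CommRing S] [Algebra R S] [Algebra.Etale R S] (q : Ideal S) [q.IsPrime]
        (hq : p = q.comap (algebraMap R S)),
        Function.Bijective (Ideal.ResidueField.map p q (algebraMap R S) hq) →
          ∃! f : S →ₐ[R] Rh, (IsLocalRing.maximalIdeal Rh).comap f.toRingHom = q) ∧
    (∀ x : Rh, ∃ (S : Type u) (_ : CommRing S) (_ : Algebra R S) (_ : Algebra.Etale R S) (q : Ideal S)
        (_ : q.IsPrime) (hq : p = q.comap (algebraMap R S)),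
        Function.Bijective (Ideal.ResidueField.map p q (algebraMap R S) hq) ∧
          ∃ (f : S →ₐ[R] Rh) (s : S), (IsLocalRing.maximalIdeal Rh).comap f.toRingHom = q ∧ f s = x) ∧
    (∀ (S : Type u) [CommRing S] [Algebra R S] [Algebra.Etale R S] (q : Ideal S) [q.IsPrime]
        (hq : p = q.comap (algebraMap R S)),
        Function.Bijective (Ideal.ResidueField.map p q (algebraMap R S) hq) →
          ∀ (f : S →ₐ[R] Rh), (IsLocalRing.maximalIdeal Rh).comap f.toRingHom = q → ∀ s : S, f s = 0 →
            ∃ (S' : Type u) (_ : CommRing S') (_ : Algebra R S') (_ : Algebra.Etale R S') (q' : Ideal S')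
              (_ : q'.IsPrime) (hq' : p = q'.comap (algebraMap R S')),
              Function.Bijective (Ideal.ResidueField.map p q' (algebraMap R S') hq') ∧
                ∃ φ : S →ₐ[R] S', q'.comap φ.toRingHom = q ∧ φ s = 0) := by
  open Groth.Agent.Lib.Helper8.Hzl Groth.Agent.Lib.Helper8.Hzl.AtPrime in
  have hH := AtPrime.isHenselization R p
  obtain ⟨e₀⟩ := nonempty_algEquiv_of_isHenselization (Localization.AtPrime p) Rh (H R p)
  let e : Rh ≃ₐ[R] H R p := e₀.restrictScalars R
  have hmax : ∀ y : Rh, y ∈ IsLocalRing.maximalIdeal Rh ↔ e y ∈ IsLocalRing.maximalIdeal (H R p) := by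
    intro y
    rw [IsLocalRing.mem_maximalIdeal, IsLocalRing.mem_maximalIdeal, mem_nonunits_iff,
      mem_nonunits_iff]
    exact not_congr (isUnit_map_iff e y).symm
  have hcomap : ∀ {S : Type u} [CommRing S] [Algebra R S] (f : S →ₐ[R] Rh),
      (IsLocalRing.maximalIdeal Rh).comap f.toRingHom =
        (IsLocalRing.maximalIdeal (H R p)).comap (e.toAlgHom.comp f).toRingHom := by
    intro S _ _ f
    ext s
    exact hmax (f s)
  have hcomap' : ∀ {S : Type u} [CommRing S] [Algebra R S] (f : S →ₐ[R] H R p),
      (IsLocalRing.maximalIdeal Rh).comap (e.symm.toAlgHom.comp f).toRingHom =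
        (IsLocalRing.maximalIdeal (H R p)).comap f.toRingHom := by
    intro S _ _ f
    rw [hcomap]
    congr 2
    ext s
    exact e.apply_symm_apply (f s)
  refine ⟨?_, ?_, ?_⟩
  · intro S _ _ _ q _ hq hbij
    obtain ⟨f, hf, hu⟩ := existsUnique_algHom_pair S q hq hbij
    refine ⟨e.symm.toAlgHom.comp f, (hcomap' f).trans hf, fun g hg => ?_⟩
    have h1 := hu (e.toAlgHom.comp g) ((hcomap g).symm.trans hg)
    rw [← h1]
    ext s
    exact (e.symm_apply_apply (g s)).symm
  · intro x
    obtain ⟨k, z, hk, hz⟩ := exists_pair R p (e x)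
    refine ⟨k.idx.E, inferInstance, inferInstance, inferInstance, k.idx.q, inferInstance,
      Idx.comap_q k.idx, Idx.bijective k.idx, e.symm.toAlgHom.comp (Nbhd.toHz k), z,
      (hcomap' _).trans hk, ?_⟩
    change e.symm (Nbhd.toHz k z) = x
    rw [hz, e.symm_apply_apply]
  · intro S _ _ _ q _ hq hbij f hf s hs
    obtain ⟨k, φ, hφ, hφs⟩ := exists_kill S q hq hbij (e.toAlgHom.comp f)
      ((hcomap f).symm.trans hf) s (by
        change e (f s) = 0
        rw [hs, map_zero])
    exact ⟨k.idx.E, inferInstance, inferInstance, inferInstance, k.idx.q, inferInstance,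
      Idx.comap_q k.idx, Idx.bijective k.idx, φ, hφ, hφs⟩

end Groth.Agent.S9470
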