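import Groth.Statements.S9474
import Mathlib

set_option autoImplicit false
universe u
open CAlg

namespace Groth.Agent.S9474


open TensorProduct MvPolynomial in
theorem exists_jac (R : Type u) [CommRing R] (S : Type u) [CommRing S] [Algebra R S]
    [Algebra.FormallyUnramified R S] (n : ℕ) (f : MvPolynomial (Fin n) R →ₐ[R] S)
    (hf : Function.Surjective f) (i : Fin n) :
    ∃ g : MvPolynomial (Fin n) R, f g = 0 ∧ ∀ k, f (pderiv k (X i - g)) = 0 := by
  letI : Algebra (MvPolynomial (Fin n) R) S := f.toRingHom.toAlgebra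
  haveI : IsScalarTower R (MvPolynomial (Fin n) R) S :=
    IsScalarTower.of_algebraMap_eq (fun r => (f.commutes r).symm)
  have hsurj : Function.Surjective (algebraMap (MvPolynomial (Fin n) R) S) := hf
  have hex := KaehlerDifferential.exact_kerCotangentToTensor_mapBaseChange R
    (MvPolynomial (Fin n) R) S hsurj
  have h0 : KaehlerDifferential.mapBaseChange R (MvPolynomial (Fin n) R) S
      ((1 : S) ⊗ₜ KaehlerDifferential.D R (MvPolynomial (Fin n) R) (X i)) = 0 :=
    Subsingleton.elim _ _
  obtain ⟨c, hc⟩ := (hex _).1 h0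
  obtain ⟨g, rfl⟩ := Ideal.toCotangent_surjective _ c
  rw [KaehlerDifferential.kerCotangentToTensor_toCotangent] at hc
  refine ⟨g.1, RingHom.mem_ker.1 g.2, fun k => ?_⟩
  have h1 : (1 : S) ⊗ₜ[MvPolynomial (Fin n) R]
      KaehlerDifferential.D R (MvPolynomial (Fin n) R) (X i - g.1) = 0 := by
    rw [map_sub, TensorProduct.tmul_sub, hc, sub_self]
  have h2 := congrArg
    (fun t => ((KaehlerDifferential.mvPolynomialBasis R (Fin n)).baseChange S).repr t k) h1
  simp only [Module.Basis.baseChange_repr_tmul, KaehlerDifferential.mvPolynomialBasis_repr_apply,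
    map_zero, Finsupp.zero_apply] at h2
  rw [Algebra.smul_def, mul_one] at h2
  exact h2

open MvPolynomial in
theorem unram_quot (A : Type u) [CommRing A] (n : ℕ) (g : Fin n → MvPolynomial (Fin n) A)
    (J : Ideal (MvPolynomial (Fin n) A))
    (h1 : ∀ i, g i ∈ J) (h2 : ∀ i k, pderiv k (X i - g i) ∈ J) :
    Algebra.Unramified A (MvPolynomial (Fin n) A ⧸ J) := by
  haveI : Algebra.FiniteType A (MvPolynomial (Fin n) A ⧸ J) :=
    Algebra.FiniteType.of_surjective (Ideal.Quotient.mkₐ A J) (Ideal.Quotient.mkₐ_surjective A J)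
  haveI : Algebra.FormallyUnramified A (MvPolynomial (Fin n) A ⧸ J) := by
    constructor
    have key : ∀ p : MvPolynomial (Fin n) A,
        KaehlerDifferential.D A (MvPolynomial (Fin n) A ⧸ J) (Ideal.Quotient.mk J p) =
          ∑ k, (Ideal.Quotient.mk J (pderiv k p)) •
            KaehlerDifferential.D A (MvPolynomial (Fin n) A ⧸ J) (Ideal.Quotient.mk J (X k)) := by
      intro p
      have hp : ∑ k, pderiv k p • KaehlerDifferential.D A (MvPolynomial (Fin n) A) (X k) =
          KaehlerDifferential.D A (MvPolynomial (Fin n) A) p := by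
        have := (KaehlerDifferential.mvPolynomialBasis A (Fin n)).sum_repr
          (KaehlerDifferential.D A (MvPolynomial (Fin n) A) p)
        simpa only [KaehlerDifferential.mvPolynomialBasis_repr_apply,
          KaehlerDifferential.mvPolynomialBasis_apply] using this
      have h3 := congrArg (KaehlerDifferential.map A A (MvPolynomial (Fin n) A)
        (MvPolynomial (Fin n) A ⧸ J)) hp
      rw [KaehlerDifferential.map_D, map_sum] at h3
      rw [← Ideal.Quotient.algebraMap_eq, ← h3]
      refine Finset.sum_congr rfl (fun k _ => ?_)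
      rw [map_smul, KaehlerDifferential.map_D]
      have := algebraMap_smul (R := MvPolynomial (Fin n) A) (MvPolynomial (Fin n) A ⧸ J)
        (pderiv k p) (KaehlerDifferential.D A (MvPolynomial (Fin n) A ⧸ J)
          (algebraMap (MvPolynomial (Fin n) A) (MvPolynomial (Fin n) A ⧸ J) (X k)))
      exact this.symm
    have hd : ∀ i, KaehlerDifferential.D A (MvPolynomial (Fin n) A ⧸ J)
        (Ideal.Quotient.mk J (X i)) = 0 := by
      intro i
      have e1 : Ideal.Quotient.mk J (X i) = Ideal.Quotient.mk J (X i - g i) := by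
        rw [map_sub, Ideal.Quotient.eq_zero_iff_mem.2 (h1 i), sub_zero]
      rw [e1, key]
      refine Finset.sum_eq_zero (fun k _ => ?_)
      rw [Ideal.Quotient.eq_zero_iff_mem.2 (h2 i k)]
      have := zero_smul (MvPolynomial (Fin n) A ⧸ J)
        (KaehlerDifferential.D A (MvPolynomial (Fin n) A ⧸ J) (Ideal.Quotient.mk J (X k)))
      exact this
    have hD : ∀ q, KaehlerDifferential.D A (MvPolynomial (Fin n) A ⧸ J) q = 0 := by
      intro q
      obtain ⟨p, rfl⟩ := Ideal.Quotient.mk_surjective q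
      rw [key]
      refine Finset.sum_eq_zero (fun k _ => ?_)
      rw [hd, smul_zero]
    have hle : Submodule.span (MvPolynomial (Fin n) A ⧸ J)
        (Set.range (KaehlerDifferential.D A (MvPolynomial (Fin n) A ⧸ J))) ≤ ⊥ := by
      apply Submodule.span_le.2
      rintro _ ⟨q, rfl⟩
      simp [hD q]
    rw [KaehlerDifferential.span_range_derivation] at hle
    refine subsingleton_of_forall_eq 0 (fun ω => ?_)
    have : ω ∈ (⊥ : Submodule (MvPolynomial (Fin n) A ⧸ J) _) := hle trivial
    simpa using this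
  exact {}

open TensorProduct MvPolynomial in
theorem core (R : Type u) [CommRing R] (S : Type u) [CommRing S] [Algebra R S]
    (n : ℕ) (f : MvPolynomial (Fin n) R →ₐ[R] S) (hf : Function.Surjective f)
    (R₀ : Subalgebra ℤ R)
    (g₀ : Fin n → MvPolynomial (Fin n) R₀)
    (h0 : ∀ i, f (MvPolynomial.map (algebraMap R₀ R) (g₀ i)) = 0)
    (hk : ∀ i k, f (pderiv k (X i - MvPolynomial.map (algebraMap R₀ R) (g₀ i))) = 0) :
    ∃ (S₀ : Type u) (_ : CommRing S₀)
      (_ : Algebra R₀ S₀) (_ : Algebra.Unramified R₀ S₀)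
      (ψ : R ⊗[R₀] S₀ →ₐ[R] S), Function.Surjective ψ := by
  classical
  let J₀ : Ideal (MvPolynomial (Fin n) R₀) :=
    Ideal.span (Set.range g₀ ∪
      Set.range (fun ik : Fin n × Fin n => pderiv ik.2 (X ik.1 - g₀ ik.1)))
  have hunr : Algebra.Unramified R₀ (MvPolynomial (Fin n) R₀ ⧸ J₀) :=
    unram_quot R₀ n g₀ J₀ (fun i => Ideal.subset_span (Or.inl ⟨i, rfl⟩))
      (fun i k => Ideal.subset_span (Or.inr ⟨(i, k), rfl⟩))
  let g' : MvPolynomial (Fin n) R₀ →ₐ[R₀] S := MvPolynomial.aeval (fun i => f (X i))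
  have hg' : ∀ p : MvPolynomial (Fin n) R₀, g' p = f (MvPolynomial.map (algebraMap R₀ R) p) := by
    intro p
    induction p using MvPolynomial.induction_on with
    | C a =>
      have e1 : g' (C a) = algebraMap R₀ S a := MvPolynomial.aeval_C _ a
      have e2 : f (MvPolynomial.map (algebraMap R₀ R) (C a)) =
          algebraMap R S (algebraMap R₀ R a) := by
        rw [MvPolynomial.map_C]; exact f.commutes _
      exact e1.trans e2.symm
    | add p q hp hq => rw [map_add, map_add, map_add, hp, hq]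
    | mul_X p i hp =>
      rw [map_mul, map_mul, map_mul, hp, MvPolynomial.map_X]
      congr 1
      exact MvPolynomial.aeval_X _ i
  have hJ : ∀ a ∈ J₀, g' a = 0 := by
    intro a ha
    have : J₀ ≤ RingHom.ker (g' : MvPolynomial (Fin n) R₀ →+* S) := by
      apply Ideal.span_le.2
      rintro _ (⟨i, rfl⟩ | ⟨⟨i, k⟩, rfl⟩)
      · show g' (g₀ i) = 0
        rw [hg', h0]
      · show g' (pderiv k (X i - g₀ i)) = 0
        rw [hg', ← MvPolynomial.pderiv_map, map_sub, MvPolynomial.map_X]
        exact hk i k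
    exact this ha
  let gq : (MvPolynomial (Fin n) R₀ ⧸ J₀) →ₐ[R₀] S := Ideal.Quotient.liftₐ J₀ g' hJ
  let ψ : R ⊗[R₀] (MvPolynomial (Fin n) R₀ ⧸ J₀) →ₐ[R] S :=
    Algebra.TensorProduct.lift (Algebra.ofId R S) gq (fun _ _ => Commute.all _ _)
  refine ⟨MvPolynomial (Fin n) R₀ ⧸ J₀, inferInstance, inferInstance, hunr, ψ, ?_⟩
  have hψ : ∀ p : MvPolynomial (Fin n) R, f p ∈ ψ.range := by
    intro p
    induction p using MvPolynomial.induction_on with
    | C a => exact ⟨algebraMap R _ a, (ψ.commutes a).trans (f.commutes a).symm⟩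
    | add p q hp hq => rw [map_add]; exact add_mem hp hq
    | mul_X p i hp =>
      rw [map_mul]
      refine mul_mem hp ⟨(1 : R) ⊗ₜ Ideal.Quotient.mk J₀ (X i), ?_⟩
      show ψ ((1 : R) ⊗ₜ[R₀] (Ideal.Quotient.mk J₀ (X i))) = f (X i)
      rw [Algebra.TensorProduct.lift_tmul, map_one, _root_.one_mul]
      show g' (X i) = f (X i)
      exact MvPolynomial.aeval_X _ i
  intro s
  obtain ⟨p, rfl⟩ := hf s
  exact hψ p


open TensorProduct in
/-- If R → S is unramified (of finite type with vanishing module of differentials), then there are a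
finite type ℤ-algebra R₀, an unramified R₀-algebra S₀, a ring map R₀ → R, and a surjective R-algebra
map from R ⊗_{R₀} S₀ onto S. -/
theorem result (R : Type u) [CommRing R] (S : Type u)
    [CommRing S] [Algebra R S] [Algebra.Unramified R S] :
    ∃ (R₀ : Type u) (_ : CommRing R₀) (_ : Algebra.FiniteType ℤ R₀) (S₀ : Type u) (_ : CommRing S₀)
      (_ : Algebra R₀ S₀) (_ : Algebra.Unramified R₀ S₀) (_ : Algebra R₀ R)
      (ψ : R ⊗[R₀] S₀ →ₐ[R] S), Function.Surjective ψ := by
  classical
  obtain ⟨n, f, hf⟩ := Algebra.FiniteType.iff_quotient_mvPolynomial''.1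
    (inferInstance : Algebra.FiniteType R S)
  choose g hg0 hgk using exists_jac R S n f hf
  let T : Set R := ⋃ i, ((g i).coeffs : Set R)
  have hT : T.Finite := Set.finite_iUnion (fun i => (g i).coeffs.finite_toSet)
  let R₀ : Subalgebra ℤ R := Algebra.adjoin ℤ T
  have hft : Algebra.FiniteType ℤ R₀ := by
    rw [← Subalgebra.fg_iff_finiteType]
    exact Subalgebra.fg_def.2 ⟨T, hT, rfl⟩
  have hlift : ∀ i, ∃ g₀ : MvPolynomial (Fin n) R₀,
      MvPolynomial.map (algebraMap R₀ R) g₀ = g i := by
    intro i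
    have : g i ∈ Set.range (MvPolynomial.map (algebraMap R₀ R)) := by
      rw [MvPolynomial.mem_range_map_iff_coeffs_subset]
      intro c hc
      exact ⟨⟨c, Algebra.subset_adjoin (Set.mem_iUnion.2 ⟨i, hc⟩)⟩, rfl⟩
    exact this
  choose g₀ hg₀ using hlift
  obtain ⟨S₀, i1, i2, i3, ψ, hψ⟩ := core R S n f hf R₀ g₀
    (fun i => by rw [hg₀]; exact hg0 i) (fun i k => by rw [hg₀]; exact hgk i k)
  exact ⟨R₀, inferInstance, hft, S₀, i1, i2, i3, inferInstance, ψ, hψ⟩

end Groth.Agent.S9474
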