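import Groth.Statements.S9485
import Groth.Agent.Lib.Helper13.FaithMeet

set_option autoImplicit false
universe u
open Pi1

namespace Groth.Agent.S9485

open AlgebraicGeometry CategoryTheory CategoryTheory.Limits in
/-- Let A be a Noetherian local ring with maximal ideal m and f ∈ m, U the punctured spectrum of A and
U₀ that of A/fA (realised as U ×_{Spec A} Spec(A/fA)). Let U' ⊆ U be an open through which U₀ ⟶ Spec
A factors (as u'). If dim(A/p) ≥ 2 for every minimal prime p of A which lies in U' and does not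
contain f, then restriction of finite etale covers along u' is faithful. (Such U' exist, e.g. the
complement in U of the one-dimensional irreducible components not meeting U₀, and the condition
passes to smaller such opens, so restriction from the system of these opens is faithful.) -/
theorem result (A : Type u) [CommRing A] [IsNoetherianRing A] [IsLocalRing A] (f : A) (hf : f ∈ IsLocalRing.maximalIdeal A)
    (U' : (Spec (CommRingCat.of A)).Opens) (hU' : U' ≤ FEt.puncturedSpec A)
    (u' : pullback (FEt.puncturedSpec A).ι (Spec.map (CommRingCat.ofHom (Ideal.Quotient.mk (Ideal.span {f})))) ⟶ (U' : Scheme.{u})) (hu' : u' ≫ U'.ι = (pullback.fst (FEt.puncturedSpec A).ι (Spec.map (CommRingCat.ofHom (Ideal.Quotient.mk (Ideal.span {f})))) ≫ (FEt.puncturedSpec A).ι))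
    (hdim : ∀ p : PrimeSpectrum A, p.asIdeal ∈ minimalPrimes A → p ∈ U' → f ∉ p.asIdeal →
      (2 : WithBot ℕ∞) ≤ ringKrullDim (A ⧸ p.asIdeal)) :
    (FEt.restrict u').Faithful := by
  classical
  apply Groth.Agent.Lib.Helper13.FaithMeet.faithful_of_meets
  intro x
  -- the prime of `A` underlying `x`
  set xA : PrimeSpectrum A := x.1 with hxA
  have hxU' : xA ∈ U' := x.2
  obtain ⟨p, hpmin, hpx⟩ := Ideal.exists_minimalPrimes_le (bot_le : (⊥ : Ideal A) ≤ xA.asIdeal)
  haveI hpP : p.IsPrime := hpmin.1.1
  let pA : PrimeSpectrum A := ⟨p, hpP⟩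
  have hspec : pA ⤳ xA := (PrimeSpectrum.le_iff_specializes pA xA).mp hpx
  have hpU' : pA ∈ U' := hspec.mem_open U'.2 hxU'
  -- a non-maximal prime `q ⊇ p` containing `f`
  obtain ⟨q, hqP, hpq, hfq, hqm⟩ : ∃ q : Ideal A, q.IsPrime ∧ p ≤ q ∧ f ∈ q ∧
      q ≠ IsLocalRing.maximalIdeal A := by
    by_cases hfp : f ∈ p
    · refine ⟨p, hpP, le_rfl, hfp, ?_⟩
      intro hpm
      have h1 : pA ∈ FEt.puncturedSpec A := hU' hpU'
      apply h1
      show pA = IsLocalRing.closedPoint A
      exact PrimeSpectrum.ext hpm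
    · exact Groth.Agent.Lib.Helper13.FaithMeet.exists_prime_of_dim f hf p hfp
        (hdim pA hpmin hpU' hfp)
  let qA : PrimeSpectrum A := ⟨q, hqP⟩
  have hqU : qA ∈ FEt.puncturedSpec A := by
    intro h
    apply hqm
    have : qA = IsLocalRing.closedPoint A := h
    exact congrArg PrimeSpectrum.asIdeal this
  -- `qA` lies in the image of the punctured hypersurface
  have hqrange : qA ∈ Set.range (Spec.map (CommRingCat.ofHom (Ideal.Quotient.mk (Ideal.span {f})))).base := by
    have : Set.range (PrimeSpectrum.comap (Ideal.Quotient.mk (Ideal.span {f}))) =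
        PrimeSpectrum.zeroLocus (RingHom.ker (Ideal.Quotient.mk (Ideal.span {f}))) :=
      _root_.range_comap_of_surjective _ _ Ideal.Quotient.mk_surjective
    show qA ∈ Set.range (PrimeSpectrum.comap (Ideal.Quotient.mk (Ideal.span {f})))
    rw [this, Ideal.mk_ker, PrimeSpectrum.mem_zeroLocus]
    intro a ha
    obtain ⟨c, rfl⟩ := Ideal.mem_span_singleton'.mp ha
    exact Ideal.mul_mem_left _ _ hfq
  have hfst := AlgebraicGeometry.Scheme.Pullback.range_fst (FEt.puncturedSpec A).ι
    (Spec.map (CommRingCat.ofHom (Ideal.Quotient.mk (Ideal.span {f}))))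
  obtain ⟨z, hz⟩ : (⟨qA, hqU⟩ : ↥(FEt.puncturedSpec A)) ∈
      Set.range (pullback.fst (FEt.puncturedSpec A).ι
        (Spec.map (CommRingCat.ofHom (Ideal.Quotient.mk (Ideal.span {f}))))) := by
    rw [hfst]
    exact hqrange
  have hz' : (u' z).1 = qA := by
    have h1 : (u' ≫ U'.ι) z = qA := by
      rw [hu']
      show (FEt.puncturedSpec A).ι ((pullback.fst (FEt.puncturedSpec A).ι
        (Spec.map (CommRingCat.ofHom (Ideal.Quotient.mk (Ideal.span {f}))))) z) = qA
      rw [hz]
      rfl
    exact h1
  refine ⟨u' z, ?_, ⟨z, rfl⟩⟩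
  -- `u' z` lies in the connected component of `x`
  let p' : ↥(U' : Scheme.{u}) := ⟨pA, hpU'⟩
  have hind : Topology.IsInducing (U'.ι : ↥(U' : Scheme.{u}) → ↥(Spec (CommRingCat.of A))) :=
    U'.ι.isOpenEmbedding.isInducing
  have hp'x : p' ⤳ x := hind.specializes_iff.mp hspec
  have hp'q : p' ⤳ u' z := by
    apply hind.specializes_iff.mp
    show pA ⤳ (u' z).1
    rw [hz']
    exact (PrimeSpectrum.le_iff_specializes pA qA).mp hpq
  have hcl : closure ({p'} : Set ↥(U' : Scheme.{u})) ⊆ connectedComponent p' :=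
    (isPreconnected_singleton.closure).subset_connectedComponent (subset_closure rfl)
  have hx_mem : x ∈ connectedComponent p' := hcl (specializes_iff_mem_closure.mp hp'x)
  have hq_mem : u' z ∈ connectedComponent p' := hcl (specializes_iff_mem_closure.mp hp'q)
  have e := connectedComponent_eq hx_mem
  rw [e] at hq_mem
  exact hq_mem

end Groth.Agent.S9485
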