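import Groth.Statements.S9496
import Mathlib
import Groth.Agent.Lib.Helper14.TildeExact

set_option autoImplicit false
universe u
open AffSch

namespace Groth.Agent.S9496

open AlgebraicGeometry in
open CategoryTheory Limits in
/-- Let X = Spec A be an affine scheme and φ : M → N a morphism of quasi-coherent O_X-modules. Then the
kernel and the cokernel of φ, computed in the category of all O_X-modules, are quasi-coherent. -/
theorem result
    (A : Type u) [CommRing A] {M N : (Spec (CommRingCat.of A)).Modules}
    [Coh.IsQCoh M] [Coh.IsQCoh N] (φ : M ⟶ N) :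
    Coh.IsQCoh (kernel φ) ∧ Coh.IsQCoh (cokernel φ) := by
  haveI := Groth.Agent.Lib.Helper14.preservesFiniteLimits_tilde (CommRingCat.of A)
  haveI := Groth.Agent.Lib.Helper14.preservesFiniteColimits_tilde (CommRingCat.of A)
  have hF : ∀ k, ((parallelPair φ 0).obj k).IsQuasicoherent := by
    rintro (_ | _)
    · exact (inferInstance : M.IsQuasicoherent)
    · exact (inferInstance : N.IsQuasicoherent)
  exact ⟨Groth.Agent.Lib.Helper14.isQuasicoherent_limit (parallelPair φ 0) hF,
    Groth.Agent.Lib.Helper14.isQuasicoherent_colimit (parallelPair φ 0) hF⟩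

end Groth.Agent.S9496
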