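import Groth.Statements.S9500
import Mathlib

set_option autoImplicit false
universe u
open SchMor

namespace Groth.Agent.S9500

open AlgebraicGeometry in
open CategoryTheory Limits in
/-- A monomorphism from a nonempty scheme to the spectrum of a field is an isomorphism. -/
theorem isIso_of_mono_of_nonempty_of_field {V : Scheme.{u}} {K : Type u} [Field K]
    (f : V ⟶ Spec (CommRingCat.of K)) [Mono f] [Nonempty ↥V] : IsIso f := by
  have hinj : Function.Injective f := f.injective
  have hsub : Subsingleton ↥V := hinj.subsingleton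
  have hfin : Finite ↥V := Finite.of_subsingleton
  have : QuasiCompact f := by
    rw [quasiCompact_iff]
    intro U _ _
    exact (Set.toFinite _).isCompact
  have : Surjective f := ⟨fun y => by
    obtain ⟨v⟩ := ‹Nonempty ↥V›
    exact ⟨v, Subsingleton.elim _ _⟩⟩
  exact Flat.isIso_of_surjective_of_mono f

open AlgebraicGeometry in
open CategoryTheory Limits in
theorem aux {ι : Type u} (k : ι → Type u) [∀ i, Field (k i)]
    {Y : Scheme.{u}} (f : Y ⟶ ∐ fun i => Spec (CommRingCat.of (k i))) [Mono f] :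
    ∃ (J : Set ι) (e : Y ≅ ∐ fun j : J => Spec (CommRingCat.of (k j.1))),
      e.hom ≫ Sigma.desc (fun j : J => Sigma.ι (fun i => Spec (CommRingCat.of (k i))) j.1) = f := by
  classical
  let g : ι → Scheme.{u} := fun i => Spec (CommRingCat.of (k i))
  let J : Set ι := {i | Nonempty ↥(pullback f (Sigma.ι g i))}
  have hiso : ∀ j : J, IsIso (pullback.snd f (Sigma.ι g j.1)) := fun j => by
    haveI : Nonempty ↥(pullback f (Sigma.ι g j.1)) := j.2
    exact isIso_of_mono_of_nonempty_of_field (K := k j.1) (pullback.snd f (Sigma.ι g j.1))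
  let α : ∀ j : J, g j.1 ⟶ Y :=
    fun j => inv (pullback.snd f (Sigma.ι g j.1)) ≫ pullback.fst f (Sigma.ι g j.1)
  have hα : ∀ j, IsOpenImmersion (α j) := fun j => inferInstance
  have hαf : ∀ j, α j ≫ f = Sigma.ι g j.1 := fun j => by
    simp only [α, Category.assoc, pullback.condition, IsIso.inv_hom_id_assoc]
  have hrange : ∀ j : J, Set.range (α j) = f ⁻¹' Set.range (Sigma.ι g j.1) := fun j => by
    rw [← Scheme.Pullback.range_fst]
    have hs : Function.Surjective (inv (pullback.snd f (Sigma.ι g j.1))) :=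
      (inv (pullback.snd f (Sigma.ι g j.1))).surjective
    show Set.range (inv (pullback.snd f (Sigma.ι g j.1)) ≫ pullback.fst f (Sigma.ι g j.1)) = _
    rw [Scheme.Hom.comp_base, TopCat.coe_comp, Set.range_comp, Set.range_eq_univ.mpr hs,
      Set.image_univ]
  have hcol : Nonempty (IsColimit (Cofan.mk Y α)) := by
    apply nonempty_isColimit_cofanMk_of
    · rw [eq_top_iff]
      intro y _
      obtain ⟨i, z, hz⟩ := (sigmaOpenCover g).exists_eq (f y)
      have hy : y ∈ f ⁻¹' Set.range (Sigma.ι g i) := ⟨z, hz⟩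
      have hy' := hy
      rw [← Scheme.Pullback.range_fst] at hy'
      obtain ⟨w, hw⟩ := hy'
      have hi : i ∈ J := ⟨w⟩
      have : y ∈ Set.range (α ⟨i, hi⟩) := by rw [hrange]; exact hy
      exact TopologicalSpace.Opens.mem_iSup.mpr ⟨⟨i, hi⟩, this⟩
    · intro j j' hne U hU hU' x hx
      have h1 : x ∈ Set.range (α j) := hU hx
      have h2 : x ∈ Set.range (α j') := hU' hx
      rw [hrange] at h1 h2
      have hne' : j.1 ≠ j'.1 := fun h => hne (Subtype.ext h)
      have hd := disjoint_opensRange_sigmaι g j.1 j'.1 hne'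
      rw [disjoint_iff] at hd
      have hmem : f x ∈ (Sigma.ι g j.1).opensRange ⊓ (Sigma.ι g j'.1).opensRange := ⟨h1, h2⟩
      rw [hd] at hmem
      exact hmem.elim
  rw [Cofan.nonempty_isColimit_iff_isIso_sigmaDesc] at hcol
  have hcol' : IsIso (Sigma.desc α) := hcol
  refine ⟨J, (asIso (Sigma.desc α)).symm, ?_⟩
  rw [Iso.symm_hom, asIso_inv, IsIso.inv_comp_eq]
  apply Sigma.hom_ext
  intro j
  rw [Sigma.ι_desc, Sigma.ι_desc_assoc, hαf]

open AlgebraicGeometry in
open CategoryTheory Limits in
/-- Let (k_i)_{i ∈ ι} be a family of fields, X = ∐_i Spec(k_i) the disjoint union, and f : Y → X a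
monomorphism of schemes. Then there are a subset J of ι and an isomorphism Y ≅ ∐_{j ∈ J} Spec(k_j)
over X, where ∐_{j ∈ J} Spec(k_j) maps to X by the coproduct inclusions. -/
theorem result
    {ι : Type u} (k : ι → Type u) [∀ i, Field (k i)]
    {Y : Scheme.{u}} (f : Y ⟶ ∐ fun i => Spec (CommRingCat.of (k i))) [Mono f] :
    ∃ (J : Set ι) (e : Y ≅ ∐ fun j : J => Spec (CommRingCat.of (k j.1))),
      e.hom ≫ Sigma.desc (fun j : J => Sigma.ι (fun i => Spec (CommRingCat.of (k i))) j.1) = f := by
  exact aux k f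

end Groth.Agent.S9500
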