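import Groth.Statements.S9510
import Mathlib

set_option autoImplicit false
universe u
open SchMor

namespace Groth.Agent.S9510

open AlgebraicGeometry in
open CategoryTheory in
/-- Let X be a scheme, X = ⋃ U_i an affine open covering and V ⊆ X an affine open. Then there is a
standard open covering V = D(f_1) ∪ … ∪ D(f_m), with f_1, …, f_m sections of O_X over V, such that
each D(f_j) is also a standard open D(g) of one of the U_i (g a section over that U_i). -/
theorem result
    (X : Scheme.{u}) {ι : Type u} (U : ι → X.affineOpens) (hU : ⨆ i, (U i : X.Opens) = ⊤)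
    (V : X.affineOpens) :
    ∃ s : Finset Γ(X, (V : X.Opens)),
      (⨆ f ∈ s, X.basicOpen f) = (V : X.Opens) ∧
        ∀ f ∈ s, ∃ (i : ι) (g : Γ(X, (U i : X.Opens))), X.basicOpen f = X.basicOpen g := by
  classical
  have key : ∀ x : (V : X.Opens), ∃ f : Γ(X, (V : X.Opens)), (x : X) ∈ X.basicOpen f ∧
      ∃ (i : ι) (g : Γ(X, (U i : X.Opens))), X.basicOpen f = X.basicOpen g := by
    rintro ⟨x, hx⟩
    have hxU : x ∈ ⨆ i, (U i : X.Opens) := by rw [hU]; trivial
    obtain ⟨i, hi⟩ := TopologicalSpace.Opens.mem_iSup.mp hxU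
    obtain ⟨f, g, hfg, hxf⟩ := exists_basicOpen_le_affine_inter V.2 (U i).2 x ⟨hx, hi⟩
    exact ⟨f, hxf, i, g, hfg⟩
  choose F hF1 hF2 using key
  have hcov : ((V : X.Opens) : Set X) ⊆ ⋃ x : (V : X.Opens), (X.basicOpen (F x) : Set X) :=
    fun x hx => Set.mem_iUnion.mpr ⟨⟨x, hx⟩, hF1 ⟨x, hx⟩⟩
  obtain ⟨t, ht⟩ := V.2.isCompact.elim_finite_subcover
    (fun x : (V : X.Opens) => (X.basicOpen (F x) : Set X)) (fun x => (X.basicOpen (F x)).2) hcov
  refine ⟨t.image F, ?_, ?_⟩
  · apply le_antisymm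
    · exact iSup₂_le fun f _ => X.basicOpen_le f
    · intro x hx
      obtain ⟨y, hy, hxy⟩ := Set.mem_iUnion₂.mp (ht hx)
      exact TopologicalSpace.Opens.mem_iSup.mpr
        ⟨F y, TopologicalSpace.Opens.mem_iSup.mpr ⟨Finset.mem_image_of_mem F hy, hxy⟩⟩
  · intro f hf
    obtain ⟨y, -, rfl⟩ := Finset.mem_image.mp hf
    exact hF2 y

end Groth.Agent.S9510
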