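import Groth.Statements.S9521
import Mathlib
import Groth.Agent.Lib.Helper17.GenSub6

set_option autoImplicit false
universe u
open Coherent

namespace Groth.Agent.S9521

open CategoryTheory CategoryTheory.Limits AlgebraicGeometry in
/-- Let X be a Noetherian scheme, i : Z → X a closed immersion with Z an integral scheme, ξ ∈ X the
image of the generic point of Z, and F a coherent O_X-module whose stalk F_ξ is annihilated by the
maximal ideal of O_{X,ξ}. Then one can find r ≥ 0 together with a coherent ideal sheaf I ⊆ O_Z and a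
monomorphism of O_X-modules i_*(I^⊕r) → F that becomes an isomorphism when restricted to some open
neighbourhood of ξ. -/
theorem result (X Z : Scheme.{u}) [IsNoetherian X]
    (i : Z ⟶ X) [IsClosedImmersion i] [IsIntegral Z] (F : X.Modules) (hF : Coh.IsCoh F)
    (hann : ∀ a ∈ IsLocalRing.maximalIdeal (X.presheaf.stalk (i (genericPoint Z))),
      ∀ m : ↑(F.presheaf.stalk (i (genericPoint Z))), a • m = 0) :
    ∃ (r : ℕ) (I : Z.Modules) (ι : I ⟶ Coh.structureModule Z) (φ : (Coh.push i).obj (∐ fun _ : Fin r => I) ⟶ F),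
      Mono ι ∧ Coh.IsCoh I ∧ Mono φ ∧
      ∃ U : X.Opens, i (genericPoint Z) ∈ U ∧ IsIso ((Scheme.Modules.restrictFunctor U.ι).map φ) := by
  classical
  haveI : IsLocallyNoetherian Z := LocallyOfFiniteType.isLocallyNoetherian i
  set ξ := i (genericPoint Z) with hξ
  let Zc : TopologicalSpace.Closeds X := ⟨Set.range i, i.isClosedEmbedding.isClosed_range⟩
  have hy : closure {ξ} = (Zc : Set X) := by
    rw [hξ, Groth.Agent.Lib.Helper17.DevInt.isGenericPoint_image i]
    exact i.isClosedEmbedding.isClosed_range.closure_eq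
  obtain ⟨e, he⟩ := Groth.Agent.Lib.Helper17.GenSub.exists_iso_sub i Zc rfl
  obtain ⟨r, I₀, ι₀, φ₀, hι₀, hI₀q, hφ₀, U, hξU, hU⟩ :=
    Groth.Agent.Lib.Helper17.GenSub.exists_generic_sub' Zc ξ hy F hF hann
  haveI := hι₀
  obtain ⟨I', ιI', hιI', hI'q, ⟨θ⟩⟩ :=
    Groth.Agent.Lib.Helper17.DevTest.exists_ideal_of_mono
      (Scheme.IdealSheafData.vanishingIdeal Zc) hI₀q ι₀
  haveI := hιI'
  haveI : I'.IsQuasicoherent := hI'q
  obtain ⟨I, ι, hι, hIq, ⟨Ξ₁⟩⟩ := Groth.Agent.Lib.Helper17.GenSub.transport e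
    (Scheme.IdealSheafData.vanishingIdeal Zc).subschemeι i he I' ιI'
  haveI := hι
  have hOZ : Coh.IsCoh (Coh.structureModule Z) := ⟨inferInstance, inferInstance⟩
  have hIc : Coh.IsCoh I := Groth.Agent.Lib.Helper17.DevBasic.isCoh_of_mono ι hIq hOZ
  let Ξ : (Coh.push i).obj (∐ fun _ : Fin r => I) ≅ ∐ fun _ : Fin r => I₀ :=
    PreservesCoproduct.iso (Scheme.Modules.pushforward i) (fun _ : Fin r => I) ≪≫
      Sigma.mapIso (fun _ => Ξ₁ ≪≫ θ.symm)
  haveI := hφ₀
  refine ⟨r, I, ι, Ξ.hom ≫ φ₀, hι, hIc, inferInstance, U, hξU, ?_⟩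
  rw [Functor.map_comp]
  haveI := hU
  infer_instance

end Groth.Agent.S9521
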