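-- Statement S9530.
import Groth.Statements.S9530
import Mathlib
import Groth.Agent.Lib.Helper14.ProIsoAdic

set_option autoImplicit false
universe u
open CategoryTheory CategoryTheory.Limits AlgebraicGeometry Opposite
open Algz

namespace Groth.Agent.S9530

/-- The functor from Coh(X, I O_X) to pro-objects of quasi-coherent modules is fully faithful: for the
ideal sheaf I O_X of an ideal I of a base ring A and with positions shifted by one. Let X be a
Noetherian scheme over Spec A and F, G objects of Coh(X, I O_X). Let m be a monotone self-map of ℕ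
with n ≤ m n, let π be the levelwise map from the re-indexed system n ↦ F_(m n) to F whose
components are the transition maps of F, and let α be any levelwise map from the re-indexed system
to G. Then α factors as π followed by a unique morphism of systems β from F to G. (Existence is
fullness on this representative of a pro-morphism, uniqueness is faithfulness.) -/
theorem result (A : Type u) [CommRing A] (I : Ideal A) (X : Scheme.{u})
    [X.Over (Spec (CommRingCat.of A))] [IsNoetherian X] (F G : ℕᵒᵖ ⥤ X.Modules)
    (hF : Formal.IsCohFormal I F) (hG : Formal.IsCohFormal I G) (m : ℕ → ℕ) (hm : Monotone m)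
    (hle : ∀ n : ℕ, n ≤ m n) (π : DerCA.reindex F hm ⟶ F)
    (hπ : ∀ n : ℕ, π.app (op n) = F.map (homOfLE (hle n)).op) (α : DerCA.reindex F hm ⟶ G) :
    ∃! β : F ⟶ G, π ≫ β = α := by
  classical
  have hq : ∀ n : ℕ, Groth.Agent.Lib.Helper14.ProIsoAdic.QuotProp I F n (m n) (hle n) :=
    fun n => Groth.Agent.Lib.Helper14.ProIsoAdic.quotProp I F hF n (m n) (hle n)
  have hπ' : ∀ n : ℕ, π.app (op n) = ARSys.tr F (hle n) := fun n => hπ n
  have hepi : ∀ n : ℕ, Epi (π.app (op n)) := fun n => by rw [hπ' n]; exact (hq n).1
  have hfac : ∀ n : ℕ, ∃ b : F.obj (op n) ⟶ G.obj (op n), π.app (op n) ≫ b = α.app (op n) := by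
    intro n
    obtain ⟨b, hb⟩ := (hq n).2 (G.obj (op n)) (α.app (op n))
      (Groth.Agent.Lib.Helper14.ProIsoAdic.kills_of_killedBy (hG.2.1 n) _)
    exact ⟨b, by rw [hπ' n]; exact hb⟩
  choose b hb using hfac
  have hnat : ∀ (x y : ℕᵒᵖ) (f : x ⟶ y), F.map f ≫ b y.unop = b x.unop ≫ G.map f := by
    intro x y f
    haveI := hepi x.unop
    rw [← cancel_epi (π.app x)]
    have h1 : π.app x ≫ F.map f = (DerCA.reindex F hm).map f ≫ π.app y := (π.naturality f).symm
    rw [← Category.assoc, h1, Category.assoc]
    have h2 : π.app y ≫ b y.unop = α.app y := hb y.unop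
    have h3 : π.app x ≫ b x.unop = α.app x := hb x.unop
    rw [h2, ← Category.assoc, h3]
    exact α.naturality f
  refine ⟨{ app := fun x => b x.unop, naturality := hnat }, ?_, ?_⟩
  · refine NatTrans.ext (funext fun x => ?_)
    exact hb x.unop
  · intro β' hβ'
    refine NatTrans.ext (funext fun x => ?_)
    haveI := hepi x.unop
    rw [← cancel_epi (π.app x)]
    have h3 : π.app x ≫ b x.unop = α.app x := hb x.unop
    have h4 : π.app x ≫ β'.app x = α.app x := by
      rw [← hβ']; rfl
    change π.app x ≫ β'.app x = π.app x ≫ b x.unop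
    rw [h3, h4]

end Groth.Agent.S9530
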