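-- Statement S9531.
import Groth.Statements.S9531
import Mathlib
import Groth.Agent.Lib.Helper1.AlgzExt

set_option autoImplicit false
universe u
open CategoryTheory CategoryTheory.Limits AlgebraicGeometry Opposite
open Algz

namespace Groth.Agent.S9531

/-- Let A be a Noetherian ring, I ⊆ 𝔞 ideals, U = Spec A ∖ V(𝔞), and take (F_n) in Coh(U, I O_U).
Suppose (F_n) extends canonically to Spec A; then (F_n) extends to Spec A: there is an object of
Coh(Spec A, I O) whose restriction to U is isomorphic to (F_n). (Spec A is regarded over itself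
through the identity.) -/
theorem result (A : Type u) [CommRing A] [IsNoetherianRing A] (I 𝔞 : Ideal A) (hI𝔞 : I ≤ 𝔞)
    (G : ℕᵒᵖ ⥤ (↑(LocCoh.puncturedOpen A 𝔞) : Scheme.{u}).Modules) (hG : Formal.IsCohFormal I G)
    (h : Algz.CanonicallyExtends A I (LocCoh.puncturedOpen A 𝔞) G) :
    @Algz.Extends A _ (Spec (CommRingCat.of A)) ⟨𝟙 (Spec (CommRingCat.of A))⟩ I (LocCoh.puncturedOpen A 𝔞) G := by
  classical
  obtain ⟨G', hG', hpro⟩ := h
  letI : (Spec (CommRingCat.of A)).Over (Spec (CommRingCat.of A)) := ⟨𝟙 (Spec (CommRingCat.of A))⟩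
  have hf : (((LocCoh.puncturedOpen A 𝔞) : Scheme.{u}) ↘ Spec (CommRingCat.of A)) =
      (LocCoh.puncturedOpen A 𝔞).ι ≫ ((Spec (CommRingCat.of A)) ↘ Spec (CommRingCat.of A)) := (Category.comp_id _).symm
  have hq : ∀ n : ℕᵒᵖ, (G.obj n).IsQuasicoherent := fun n => (hG.1 n.unop).1
  let η := Groth.Agent.Lib.Helper1.AlgzExt.etaIso A (LocCoh.puncturedOpen A 𝔞) G hq
  have hpro2 : Algz.IsProIsomorphic G (Algz.restrictSys (LocCoh.puncturedOpen A 𝔞) G') :=
    Groth.Agent.Lib.Helper1.AlgzExt.isProIsomorphic_of_iso_of_functor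
      (Scheme.Modules.restrictFunctor (LocCoh.puncturedOpen A 𝔞).ι) (Algz.sectSys A (LocCoh.puncturedOpen A 𝔞) G) G' G η hpro
  have hKG := Groth.Agent.Lib.Helper14.ProIsoAdic.quotProp I G hG
  have hKG' : ∀ n k (h : n ≤ k), Groth.Agent.Lib.Helper14.ProIsoAdic.QuotProp I
      (Algz.restrictSys (LocCoh.puncturedOpen A 𝔞) G') n k h := fun n k h =>
    Groth.Agent.Lib.Helper1.AlgzExt.quotProp_restrict (LocCoh.puncturedOpen A 𝔞).ι hf I G' n k h
      (Groth.Agent.Lib.Helper14.ProIsoAdic.quotProp I G' hG' n k h)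
  obtain ⟨e⟩ := Groth.Agent.Lib.Helper1.AlgzExt.nonempty_iso_of_quotProp I G (Algz.restrictSys (LocCoh.puncturedOpen A 𝔞) G')
    hKG hKG' hG.2.1
    (fun n => Groth.Agent.Lib.Helper1.AlgzExt.killedBy_restrict (LocCoh.puncturedOpen A 𝔞).ι hf (hG'.2.1 n)) hpro2
  exact ⟨G', hG', ⟨e.symm⟩⟩

end Groth.Agent.S9531
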