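-- Statement S9532.
import Groth.Statements.S9532
import Mathlib
import Groth.Agent.Lib.Helper14.ProIsoAdic
import Groth.Agent.Lib.Helper1.MLProIso

set_option autoImplicit false
universe u
open CategoryTheory CategoryTheory.Limits AlgebraicGeometry Opposite
open Algz

namespace Groth.Agent.S9532

/-- Let A be a Noetherian ring, I ⊆ 𝔞 ideals, U = Spec A ∖ V(𝔞), and let (F_n) belong to Coh(U, I O_U).
Suppose (F_n) admits a canonical extension to Spec A; then the inverse system of A-modules n ↦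
H^0(U, F_n) satisfies the Mittag-Leffler condition. -/
theorem result (A : Type u) [CommRing A] [IsNoetherianRing A] (I 𝔞 : Ideal A) (hI𝔞 : I ≤ 𝔞)
    (G : ℕᵒᵖ ⥤ (↑(LocCoh.puncturedOpen A 𝔞) : Scheme.{u}).Modules) (hG : Formal.IsCohFormal I G)
    (h : Algz.CanonicallyExtends A I (LocCoh.puncturedOpen A 𝔞) G) :
    ARSys.IsML (Algz.sectMod A (LocCoh.puncturedOpen A 𝔞) G) := by
  classical
  obtain ⟨G', hG', m, hm, hle, a, ha⟩ := h
  letI : (Spec (CommRingCat.of A)).Over (Spec (CommRingCat.of A)) := ⟨𝟙 (Spec (CommRingCat.of A))⟩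
  have hstrict : ARSys.IsStrict G' := fun n k hnk =>
    (Groth.Agent.Lib.Helper14.ProIsoAdic.quotProp I G' hG' n k hnk).1
  have hML : ARSys.IsML (Algz.sectSys A (LocCoh.puncturedOpen A 𝔞) G) :=
    Groth.Agent.Lib.Helper1.MLProIso.isML_of_isProIso_strict _ G' hm hle a ha hstrict
  exact Groth.Agent.Lib.Helper1.MLProIso.isML_of_isML_comp_tilde (CommRingCat.of A) _ hML

end Groth.Agent.S9532
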