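-- Statement S9533.
import Groth.Statements.S9533
import Mathlib
import Groth.Agent.Lib.Helper1.AffFormalLim

set_option autoImplicit false
universe u
open CategoryTheory CategoryTheory.Limits AlgebraicGeometry Opposite
open Algz

namespace Groth.Agent.S9533

/-- Let A be a Noetherian ring, I ⊆ 𝔞 ideals, U = Spec A ∖ V(𝔞), (F_n) an object of Coh(U, I O_U), and M
= lim_n H^0(U, F_n). If (F_n) canonically extends to Spec A, then the limit topology of M agrees
with the I-adic one: for every k some kernel of M → H^0(U, F_n) lies inside I^k M. (Each such kernel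
contains I^(n+1) M automatically. The other part of (4), that M is finitely generated over the
completion of A with respect to I, is not stated here.) -/
theorem result (A : Type u) [CommRing A] [IsNoetherianRing A] (I 𝔞 : Ideal A) (hI𝔞 : I ≤ 𝔞)
    (G : ℕᵒᵖ ⥤ (↑(LocCoh.puncturedOpen A 𝔞) : Scheme.{u}).Modules) (hG : Formal.IsCohFormal I G)
    (h : Algz.CanonicallyExtends A I (LocCoh.puncturedOpen A 𝔞) G) (k : ℕ) :
    ∃ n : ℕ, LinearMap.ker (limit.π (Algz.sectMod A (LocCoh.puncturedOpen A 𝔞) G) (op n)).hom ≤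
      I ^ k • (⊤ : Submodule A ↑(limit (Algz.sectMod A (LocCoh.puncturedOpen A 𝔞) G))) := by
  classical
  obtain ⟨G', hG', hpro⟩ := h
  have hpro2 : Algz.IsProIsomorphic (Algz.sectMod A (LocCoh.puncturedOpen A 𝔞) G)
      (G' ⋙ Groth.Agent.Lib.Helper1.AffFormal.ΓA A) :=
    Groth.Agent.Lib.Helper1.AlgzExt.isProIsomorphic_of_iso_of_functor
      (Groth.Agent.Lib.Helper1.AffFormal.ΓA A) (Algz.sectSys A (LocCoh.puncturedOpen A 𝔞) G) G'
      (Algz.sectMod A (LocCoh.puncturedOpen A 𝔞) G)
      (Groth.Agent.Lib.Helper1.AffFormalLim.unitIso (Algz.sectMod A (LocCoh.puncturedOpen A 𝔞) G)) hpro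
  exact Groth.Agent.Lib.Helper1.AffFormalLim.ker_le_of_proIso hG'
    (Algz.sectMod A (LocCoh.puncturedOpen A 𝔞) G) hpro2 k

end Groth.Agent.S9533
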