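-- Statement S9535.
import Groth.Statements.S9535
import Mathlib
import Groth.Agent.Lib.Helper1.AffFormal
import Groth.Agent.Lib.Helper1.CompletionExt
import Groth.Agent.Lib.Helper3.QCProps

set_option autoImplicit false
universe u
open CategoryTheory CategoryTheory.Limits AlgebraicGeometry Opposite
open Algz

namespace Groth.Agent.S9535

/-- (6) ⇒ (2): Let A be a Noetherian ring complete for the I-adic topology, I ⊆ 𝔞 ideals, U = Spec A ∖
V(𝔞) and (F_n) an object of Coh(U, I O_U). If (F_n) extends to Spec A, then (F_n) is isomorphic to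
the completion of a coherent O_U-module. -/
theorem result (A : Type u) [CommRing A] [IsNoetherianRing A] (I 𝔞 : Ideal A) (hI𝔞 : I ≤ 𝔞)
    (G : ℕᵒᵖ ⥤ (↑(LocCoh.puncturedOpen A 𝔞) : Scheme.{u}).Modules) (hG : Formal.IsCohFormal I G) [IsAdicComplete I A]
    (h : @Algz.Extends A _ (Spec (CommRingCat.of A)) ⟨𝟙 (Spec (CommRingCat.of A))⟩ I (LocCoh.puncturedOpen A 𝔞) G) :
    ∃ F : (↑(LocCoh.puncturedOpen A 𝔞) : Scheme.{u}).Modules, Coh.IsCoh F ∧ Nonempty (Formal.completion I F ≅ G) := by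
  classical
  letI : (Spec (CommRingCat.of A)).Over (Spec (CommRingCat.of A)) := ⟨𝟙 (Spec (CommRingCat.of A))⟩
  have hf : (((LocCoh.puncturedOpen A 𝔞) : Scheme.{u}) ↘ Spec (CommRingCat.of A)) =
      (LocCoh.puncturedOpen A 𝔞).ι ≫ ((Spec (CommRingCat.of A)) ↘ Spec (CommRingCat.of A)) := (Category.comp_id _).symm
  obtain ⟨G', hG', ⟨e⟩⟩ := h
  obtain ⟨F', hF', ⟨e'⟩⟩ := Groth.Agent.Lib.Helper1.AffFormal.exists_coh_completion_iso hG'
  haveI : F'.IsQuasicoherent := hF'.1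
  haveI : F'.IsFiniteType := hF'.2
  refine ⟨(Scheme.Modules.restrictFunctor (LocCoh.puncturedOpen A 𝔞).ι).obj F',
    ⟨Scheme.Modules.isQuasicoherent_restrictFunctor (LocCoh.puncturedOpen A 𝔞).ι F',
      Groth.Agent.Lib.Helper3.QCProps.isFiniteType_restrict (LocCoh.puncturedOpen A 𝔞).ι F'⟩, ?_⟩
  obtain ⟨e₁⟩ := Groth.Agent.Lib.Helper1.CompletionExt.completion_left_iso
    (Scheme.Modules.restrictAdjunction (LocCoh.puncturedOpen A 𝔞).ι)
    (Groth.Agent.Lib.Helper1.AlgzExt.restrict_smulMod (LocCoh.puncturedOpen A 𝔞).ι hf) I F'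
    ((Scheme.Modules.restrictFunctor (LocCoh.puncturedOpen A 𝔞).ι).obj F') (Iso.refl _)
  exact ⟨e₁ ≪≫ Functor.isoWhiskerRight e' (Scheme.Modules.restrictFunctor (LocCoh.puncturedOpen A 𝔞).ι) ≪≫ e⟩

end Groth.Agent.S9535
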