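-- Statement S9536.
import Groth.Statements.S9536
import Mathlib
import Groth.Agent.Lib.Helper1.CompletionExt
import Groth.Agent.Lib.Helper3.QCExtend

set_option autoImplicit false
universe u
open CategoryTheory CategoryTheory.Limits AlgebraicGeometry Opposite
open Algz

namespace Groth.Agent.S9536

/-- (2) ⇒ (6): Let A be a Noetherian ring, I ⊆ 𝔞 ideals, U = Spec A ∖ V(𝔞) and (F_n) an object of Coh(U,
I O_U). If (F_n) is isomorphic to the completion of a coherent O_U-module, then (F_n) extends to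
Spec A. -/
theorem result (A : Type u) [CommRing A] [IsNoetherianRing A] (I 𝔞 : Ideal A) (hI𝔞 : I ≤ 𝔞)
    (G : ℕᵒᵖ ⥤ (↑(LocCoh.puncturedOpen A 𝔞) : Scheme.{u}).Modules) (hG : Formal.IsCohFormal I G)
    (F : (↑(LocCoh.puncturedOpen A 𝔞) : Scheme.{u}).Modules) (hF : Coh.IsCoh F) (e : Formal.completion I F ≅ G) :
    @Algz.Extends A _ (Spec (CommRingCat.of A)) ⟨𝟙 (Spec (CommRingCat.of A))⟩ I (LocCoh.puncturedOpen A 𝔞) G := by
  classical
  letI : (Spec (CommRingCat.of A)).Over (Spec (CommRingCat.of A)) := ⟨𝟙 (Spec (CommRingCat.of A))⟩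
  have hf : (((LocCoh.puncturedOpen A 𝔞) : Scheme.{u}) ↘ Spec (CommRingCat.of A)) =
      (LocCoh.puncturedOpen A 𝔞).ι ≫ ((Spec (CommRingCat.of A)) ↘ Spec (CommRingCat.of A)) := (Category.comp_id _).symm
  -- extend `F` to a coherent module on `Spec A`
  have hU : IsCompact ((LocCoh.puncturedOpen A 𝔞 : (Spec (CommRingCat.of A)).Opens) : Set (Spec (CommRingCat.of A))) :=
    (TopologicalSpace.NoetherianSpace.isCompact _)
  haveI : F.IsQuasicoherent := hF.1
  haveI : CompactSpace ((LocCoh.puncturedOpen A 𝔞 : (Spec (CommRingCat.of A)).Opens) : Scheme.{u}) :=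
    isCompact_iff_compactSpace.mp hU
  haveI : QuasiCompact (LocCoh.puncturedOpen A 𝔞).ι := inferInstance
  haveI : ((Scheme.Modules.pushforward (LocCoh.puncturedOpen A 𝔞).ι).obj F).IsQuasicoherent :=
    Groth.Agent.Lib.Helper3.QCSec.isQuasicoherent_pushforward (LocCoh.puncturedOpen A 𝔞).ι F
  haveI : IsIso ((Scheme.Modules.restrictAdjunction (LocCoh.puncturedOpen A 𝔞).ι).counit.app F) := inferInstance
  obtain ⟨F', i, e₀, hi, hFq, hFft, -⟩ := Groth.Agent.Lib.Helper3.QCExtend.exists_finiteType_extension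
    (LocCoh.puncturedOpen A 𝔞) hU
    ((Scheme.Modules.pushforward (LocCoh.puncturedOpen A 𝔞).ι).obj F) F hF.2
    (inv ((Scheme.Modules.restrictAdjunction (LocCoh.puncturedOpen A 𝔞).ι).counit.app F))
  have hF' : Coh.IsCoh F' := ⟨hFq, hFft⟩
  refine ⟨Formal.completion I F', Groth.Agent.Lib.Helper1.CompletionExt.isCohFormal_completion I F' hF', ?_⟩
  obtain ⟨e₁⟩ := Groth.Agent.Lib.Helper1.CompletionExt.completion_left_iso
    (Scheme.Modules.restrictAdjunction (LocCoh.puncturedOpen A 𝔞).ι)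
    (Groth.Agent.Lib.Helper1.AlgzExt.restrict_smulMod (LocCoh.puncturedOpen A 𝔞).ι hf) I F' F e₀
  exact ⟨e₁.symm ≪≫ e⟩

end Groth.Agent.S9536
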