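-- Statement S9551.
import Groth.Statements.S9551
import Mathlib
import Groth.Agent.Lib.Helper1.MLLimit
import Groth.Agent.Lib.Helper14.ProIsoAdic
import Groth.Agent.Lib.Helper3.QCPush

set_option autoImplicit false
universe u
open CategoryTheory CategoryTheory.Limits AlgebraicGeometry Opposite
open Algz

namespace Groth.Agent.S9551

/-- Let A be a Noetherian ring, I ⊆ 𝔞 ideals, U = Spec A ∖ V(𝔞) with inclusion j, (F_n) an object of
Coh(U, I O_U) and M = lim_n H^0(U, F_n). If the system H^0(U, F_n) is Mittag-Leffler, then for every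
n the canonical map from M~|_U to F_n, adjoint (under the tilde and restriction adjunctions) to the
projection M → H^0(U, F_n) = Γ(Spec A, j_*F_n), is an epimorphism. (The source states surjectivity
of (M/I^nM)~|_U → F_n; the map from M~|_U factors through it after the epimorphism M~ → (M/I^nM)~,
so the two surjectivity statements are equivalent.) -/
theorem result (A : Type u) [CommRing A] [IsNoetherianRing A] (I 𝔞 : Ideal A) (hI𝔞 : I ≤ 𝔞)
    (G : ℕᵒᵖ ⥤ (↑(LocCoh.puncturedOpen A 𝔞) : Scheme.{u}).Modules) (hG : Formal.IsCohFormal I G)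
    (ha : ARSys.IsML (Algz.sectMod A (LocCoh.puncturedOpen A 𝔞) G)) (n : ℕ) :
    Epi (((Scheme.Modules.restrictAdjunction (LocCoh.puncturedOpen A 𝔞).ι).homEquiv _ (G.obj (op n))).symm
      (((tilde.adjunction (R := CommRingCat.of A)).homEquiv (limit (Algz.sectMod A (LocCoh.puncturedOpen A 𝔞) G))
        ((Scheme.Modules.pushforward (LocCoh.puncturedOpen A 𝔞).ι).obj (G.obj (op n)))).symm
          (limit.π (Algz.sectMod A (LocCoh.puncturedOpen A 𝔞) G) (op n)))) := by
  classical
  letI : (Spec (CommRingCat.of A)).Over (Spec (CommRingCat.of A)) := ⟨𝟙 (Spec (CommRingCat.of A))⟩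
  have hU : IsCompact ((LocCoh.puncturedOpen A 𝔞 : (Spec (CommRingCat.of A)).Opens) : Set (Spec (CommRingCat.of A))) :=
    (TopologicalSpace.NoetherianSpace.isCompact _)
  haveI : CompactSpace ((LocCoh.puncturedOpen A 𝔞 : (Spec (CommRingCat.of A)).Opens) : Scheme.{u}) :=
    isCompact_iff_compactSpace.mp hU
  haveI : QuasiCompact (LocCoh.puncturedOpen A 𝔞).ι := inferInstance
  let adj := (tilde.adjunction (R := CommRingCat.of A)).comp
    (Scheme.Modules.restrictAdjunction (LocCoh.puncturedOpen A 𝔞).ι)
  have hq := Groth.Agent.Lib.Helper14.ProIsoAdic.quotProp I G hG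
  have hc : ∀ k : ℕ, Epi (adj.counit.app (G.obj (op k))) := by
    intro k
    haveI : (G.obj (op k)).IsQuasicoherent := (hG.1 k).1
    haveI : ((Scheme.Modules.pushforward (LocCoh.puncturedOpen A 𝔞).ι).obj (G.obj (op k))).IsQuasicoherent :=
      Groth.Agent.Lib.Helper3.QCSec.isQuasicoherent_pushforward (LocCoh.puncturedOpen A 𝔞).ι (G.obj (op k))
    haveI h1 : IsIso ((tilde.adjunction (R := CommRingCat.of A)).counit.app
        ((Scheme.Modules.pushforward (LocCoh.puncturedOpen A 𝔞).ι).obj (G.obj (op k)))) :=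
      @Scheme.Modules.isIso_fromTildeΓ_of_isQuasicoherent (CommRingCat.of A)
        ((Scheme.Modules.pushforward (LocCoh.puncturedOpen A 𝔞).ι).obj (G.obj (op k))) inferInstance
    haveI h2 : IsIso ((Scheme.Modules.restrictAdjunction (LocCoh.puncturedOpen A 𝔞).ι).counit.app (G.obj (op k))) :=
      inferInstance
    rw [Adjunction.comp_counit_app]
    infer_instance
  have key := Groth.Agent.Lib.Helper1.MLLimit.epi_homEquiv_symm_limit_π adj G
    (fun n m h => (hq n m h).1) hc ha n
  have hcomp := Adjunction.comp_homEquiv (tilde.adjunction (R := CommRingCat.of A))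
    (Scheme.Modules.restrictAdjunction (LocCoh.puncturedOpen A 𝔞).ι)
  have e : (adj.homEquiv _ _).symm (limit.π (G ⋙ (Scheme.Modules.pushforward (LocCoh.puncturedOpen A 𝔞).ι ⋙
        moduleSpecΓFunctor (R := CommRingCat.of A))) (op n)) =
      ((Scheme.Modules.restrictAdjunction (LocCoh.puncturedOpen A 𝔞).ι).homEquiv _ (G.obj (op n))).symm
      (((tilde.adjunction (R := CommRingCat.of A)).homEquiv (limit (Algz.sectMod A (LocCoh.puncturedOpen A 𝔞) G))
        ((Scheme.Modules.pushforward (LocCoh.puncturedOpen A 𝔞).ι).obj (G.obj (op n)))).symm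
          (limit.π (Algz.sectMod A (LocCoh.puncturedOpen A 𝔞) G) (op n))) := by
    change ((((tilde.adjunction (R := CommRingCat.of A)).comp
      (Scheme.Modules.restrictAdjunction (LocCoh.puncturedOpen A 𝔞).ι)).homEquiv) _ _).symm _ = _
    rw [hcomp]
    rfl
  rw [← e]
  exact key

end Groth.Agent.S9551
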