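-- Statement S9553.
import Groth.Statements.S9553
import Mathlib
import Groth.Agent.Lib.Helper1.AlgzLimTop

set_option autoImplicit false
universe u
open CategoryTheory CategoryTheory.Limits AlgebraicGeometry Opposite
open Algz

namespace Groth.Agent.S9553

/-- Let A be a Noetherian ring, I ⊆ 𝔞 ideals, U = Spec A ∖ V(𝔞) with inclusion j, (F_n) an object of
Coh(U, I O_U), M = lim_n H^0(U, F_n) and G_n = (M/I^(n+1)M)~ (positions shifted by one). Assume the
limit topology of M agrees with the I-adic one: for every k some kernel of M → H^0(U, F_n) lies in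
I^k M. Let ℓ_n : M/I^(n+1)M → H^0(U, F_n) = Γ(Spec A, j_*F_n) be the factorisations of the
projections (they exist since F_n is killed by I^(n+1); they are pinned here by that property) and
G_n → j_*F_n the adjoint maps. Then (i) each G_n|_U is coherent, and (ii) the resulting morphism
(G_n|_U) → (F_n) of inverse systems is a monomorphism in Coh(U, I O_U) (an abelian category), in the
form the printed proof establishes: for every f ∈ 𝔞, a family of sections of the G_n over D(f),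
compatible under the transition maps, whose images in the Γ(D(f), j_*F_n) = Γ(D(f) ∩ U, F_n) all
vanish, is zero. -/
theorem result (A : Type u) [CommRing A] [IsNoetherianRing A] (I 𝔞 : Ideal A) (hI𝔞 : I ≤ 𝔞)
    (G : ℕᵒᵖ ⥤ (↑(LocCoh.puncturedOpen A 𝔞) : Scheme.{u}).Modules) (hG : Formal.IsCohFormal I G)
    (hb : ∀ k : ℕ, ∃ n : ℕ, LinearMap.ker (limit.π (Algz.sectMod A (LocCoh.puncturedOpen A 𝔞) G) (op n)).hom ≤
      I ^ k • (⊤ : Submodule A ↑(limit (Algz.sectMod A (LocCoh.puncturedOpen A 𝔞) G))))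
    (ℓ : ∀ n : ℕ, ModuleCat.of A (Formal2.quotPow A I ↑(limit (Algz.sectMod A (LocCoh.puncturedOpen A 𝔞) G)) n) ⟶ (Algz.sectMod A (LocCoh.puncturedOpen A 𝔞) G).obj (op n))
    (hℓ : ∀ n : ℕ, ModuleCat.ofHom (Formal2.quotPowπ A I ↑(limit (Algz.sectMod A (LocCoh.puncturedOpen A 𝔞) G)) n) ≫ ℓ n = limit.π (Algz.sectMod A (LocCoh.puncturedOpen A 𝔞) G) (op n)) :
    (∀ n : ℕ, Coh.IsCoh ((Scheme.Modules.restrictFunctor (LocCoh.puncturedOpen A 𝔞).ι).obj (Formal2.tmod A (Formal2.quotPow A I ↑(limit (Algz.sectMod A (LocCoh.puncturedOpen A 𝔞) G)) n)))) ∧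
    ∀ (f : A), f ∈ 𝔞 →
      ∀ x : (∀ n : ℕ, (Scheme.Modules.presheaf (Formal2.tmod A (Formal2.quotPow A I ↑(limit (Algz.sectMod A (LocCoh.puncturedOpen A 𝔞) G)) n))).obj (op (PrimeSpectrum.basicOpen f : (Spec (CommRingCat.of A)).Opens))),
        (∀ n : ℕ, Scheme.Modules.Hom.app (Formal2.tmodMap A (Formal2.quotPowTrans A I ↑(limit (Algz.sectMod A (LocCoh.puncturedOpen A 𝔞) G)) n)) (PrimeSpectrum.basicOpen f : (Spec (CommRingCat.of A)).Opens) (x (n + 1)) = x n) →
        (∀ n : ℕ, Scheme.Modules.Hom.app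
            (((tilde.adjunction (R := CommRingCat.of A)).homEquiv (ModuleCat.of A (Formal2.quotPow A I ↑(limit (Algz.sectMod A (LocCoh.puncturedOpen A 𝔞) G)) n))
              ((Scheme.Modules.pushforward (LocCoh.puncturedOpen A 𝔞).ι).obj (G.obj (op n)))).symm (ℓ n))
            (PrimeSpectrum.basicOpen f : (Spec (CommRingCat.of A)).Opens) (x n) = 0) →
        ∀ n : ℕ, x n = 0 := by
  classical
  have hU : IsCompact ((LocCoh.puncturedOpen A 𝔞 : (Spec (CommRingCat.of A)).Opens) :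
      Set (Spec (CommRingCat.of A))) :=
    (TopologicalSpace.NoetherianSpace.isCompact _)
  haveI : CompactSpace (↑(LocCoh.puncturedOpen A 𝔞) : Scheme.{u}) :=
    isCompact_iff_compactSpace.mp hU
  haveI : QuasiCompact (LocCoh.puncturedOpen A 𝔞).ι := inferInstance
  -- cofinality of the kernels, in the form with `n ≤ m`
  have hb' : ∀ n : ℕ, ∃ m, n ≤ m ∧
      LinearMap.ker (limit.π (Algz.sectMod A (LocCoh.puncturedOpen A 𝔞) G) (op m)).hom ≤
        I ^ (n + 1) • (⊤ : Submodule A ↑(limit (Algz.sectMod A (LocCoh.puncturedOpen A 𝔞) G))) := by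
    intro n
    obtain ⟨n₀, hn₀⟩ := hb (n + 1)
    refine ⟨max n n₀, le_max_left _ _, ?_⟩
    refine le_trans ?_ hn₀
    intro y hy
    rw [LinearMap.mem_ker] at hy ⊢
    have hle : n₀ ≤ max n n₀ := le_max_right _ _
    have h1 := limit.w (Algz.sectMod A (LocCoh.puncturedOpen A 𝔞) G) (homOfLE hle).op
    rw [← h1]
    change ((Algz.sectMod A (LocCoh.puncturedOpen A 𝔞) G).map (homOfLE hle).op).hom
      ((limit.π (Algz.sectMod A (LocCoh.puncturedOpen A 𝔞) G) (op (max n n₀))).hom y) = 0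
    rw [hy]
    exact map_zero _
  refine ⟨fun n => ?_, ?_⟩
  · obtain ⟨m, -, hm⟩ := hb' n
    exact Groth.Agent.Lib.Helper1.AlgzLimTop.isCoh_restrict_quot A I (LocCoh.puncturedOpen A 𝔞) G
      (fun k => hG.1 k) ↑(limit (Algz.sectMod A (LocCoh.puncturedOpen A 𝔞) G)) n m
      (limit.π (Algz.sectMod A (LocCoh.puncturedOpen A 𝔞) G) (op m)) hm
  · intro f _ x hx hx0
    refine Groth.Agent.Lib.Helper1.AlgzLimTop.sections_eq_zero A I
      (fun n => (Scheme.Modules.pushforward (LocCoh.puncturedOpen A 𝔞).ι).obj (G.obj (op n)))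
      (fun n => ?_) ↑(limit (Algz.sectMod A (LocCoh.puncturedOpen A 𝔞) G))
      (fun n => limit.π (Algz.sectMod A (LocCoh.puncturedOpen A 𝔞) G) (op n)) hb' ℓ hℓ f x hx hx0
    haveI : (G.obj (op n)).IsQuasicoherent := (hG.1 n).1
    exact Groth.Agent.Lib.Helper3.QCSec.isQuasicoherent_pushforward
      (LocCoh.puncturedOpen A 𝔞).ι (G.obj (op n))

end Groth.Agent.S9553
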