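import Groth.Statements.S9559
import Mathlib

set_option autoImplicit false
open CategoryTheory CategoryTheory.Limits AlgebraicGeometry Opposite
universe u
open EtLocal

namespace Groth.Agent.S9559

open scoped TensorProduct

/-- ring-level core: a finite étale algebra becomes split after an étale base change
hitting a given prime -/
theorem ring_core {A B : Type u} [CommRing A] [CommRing B] [Algebra A B] [Module.Finite A B]
    [Algebra.Etale A B] (𝔭 : PrimeSpectrum A) :
    ∃ (T : Type u) (_ : CommRing T) (_ : Algebra A T) (_ : Algebra.Etale A T)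
      (q : PrimeSpectrum T) (_ : PrimeSpectrum.comap (algebraMap A T) q = 𝔭) (m : ℕ),
      Nonempty (T ⊗[A] B ≃ₐ[T] (ULift.{u} (Fin m) → T)) := by
  classical
  haveI : Module.FinitePresentation A B :=
    Module.FinitePresentation.of_finite_of_finitePresentation A B
  have hlc : IsLocallyConstant (Module.rankAtStalk (R := A) B) :=
    Module.isLocallyConstant_rankAtStalk
  set n := Module.rankAtStalk (R := A) B 𝔭 with hn
  obtain ⟨r, h𝔭r, hr⟩ : ∃ r : A, 𝔭 ∈ PrimeSpectrum.basicOpen r ∧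
      ∀ q ∈ PrimeSpectrum.basicOpen r, Module.rankAtStalk (R := A) B q = n := by
    have hopen : IsOpen (Module.rankAtStalk (R := A) B ⁻¹' {n}) := hlc.isOpen_fiber n
    obtain ⟨_, ⟨_, ⟨r, rfl⟩, rfl⟩, h1, h2⟩ := PrimeSpectrum.isBasis_basic_opens.exists_subset_of_mem_open
      (show 𝔭 ∈ Module.rankAtStalk (R := A) B ⁻¹' {n} from rfl) hopen
    exact ⟨r, h1, fun q hq => h2 hq⟩
  let R := Localization.Away r
  have hrange : Set.range (PrimeSpectrum.comap (algebraMap A R)) =
      (PrimeSpectrum.basicOpen r : Set (PrimeSpectrum A)) :=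
    PrimeSpectrum.localization_away_comap_range R r
  have hrank : Module.rankAtStalk (R := R) (R ⊗[A] B) = n := by
    ext q
    rw [Module.rankAtStalk_baseChange]
    simp only [Pi.natCast_def, Nat.cast_id]
    apply hr
    have : PrimeSpectrum.comap (algebraMap A R) q ∈
        Set.range (PrimeSpectrum.comap (algebraMap A R)) := ⟨q, rfl⟩
    rw [hrange] at this
    exact this
  obtain ⟨T, _, _, hff, hTfin, hTet, hsplit⟩ :=
    Algebra.IsFiniteSplit.exists_tensorProduct_of_etale (R := R) (S := R ⊗[A] B) hrank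
  obtain ⟨m, ⟨e0⟩⟩ := hsplit.nonempty_algEquiv_fun
  letI : Algebra A T := ((algebraMap R T).comp (algebraMap A R)).toAlgebra
  haveI : IsScalarTower A R T := IsScalarTower.of_algebraMap_eq' rfl
  haveI : Algebra.Etale A R := Algebra.Etale.of_isLocalizationAway r
  haveI : Algebra.Etale A T := Algebra.Etale.comp A R T
  obtain ⟨𝔭', h𝔭'⟩ : 𝔭 ∈ Set.range (PrimeSpectrum.comap (algebraMap A R)) := by
    rw [hrange]; exact h𝔭r
  obtain ⟨q, hq⟩ := PrimeSpectrum.comap_surjective_of_faithfullyFlat (A := R) (B := T) 𝔭'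
  refine ⟨T, inferInstance, inferInstance, inferInstance, q, ?_, m,
    ⟨((Algebra.TensorProduct.cancelBaseChange A R T T B).symm.trans e0).trans
      (AlgEquiv.piCongrLeft' T (fun _ : Fin m => T) Equiv.ulift.symm)⟩⟩
  rw [← h𝔭', ← hq]
  rfl

/-- A finite étale morphism f : X ⟶ S becomes, after base change to a suitable étale neighbourhood (U,
u) of any point s of S, a finite disjoint union of copies of U: X_U is isomorphic over U to a finite
coproduct of schemes V_j each of which maps isomorphically onto U. -/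
theorem result {X S : Scheme.{u}} (f : X ⟶ S) [IsFinite f] [Etale f] (s : S) :
    ∃ (U : Scheme.{u}) (g : U ⟶ S) (_ : AlgebraicGeometry.Etale g) (u : U) (_ : g.base u = s)
      (n : ℕ) (V : Fin n → Scheme.{u}) (c : ∀ j, V j ⟶ U) (_ : ∀ j, IsIso (c j))
      (e : (∐ V) ≅ pullback f g), ∀ j, Sigma.ι V j ≫ e.hom ≫ pullback.snd f g = c j := by
  classical
  obtain ⟨_, ⟨W, hW, rfl⟩, hsW, -⟩ := (S.isBasis_affineOpens).exists_subset_of_mem_open
    (Set.mem_univ s) isOpen_univ
  have hV : IsAffineOpen (f ⁻¹ᵁ W) := hW.preimage f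
  let A := Γ(S, W)
  let B := Γ(X, f ⁻¹ᵁ W)
  let φ : A →+* B := (f.app W).hom
  letI : Algebra A B := φ.toAlgebra
  have hfin : φ.Finite := IsFinite.finite_app f W hW
  haveI : Module.Finite A B := hfin
  have hetale : RingHom.Etale φ := by
    have := HasRingHomProperty.appLE @Etale f inferInstance ⟨W, hW⟩ ⟨f ⁻¹ᵁ W, hV⟩ le_rfl
    rwa [Scheme.Hom.appLE_eq_app] at this
  haveI : Algebra.Etale A B := hetale
  let 𝔭 : PrimeSpectrum A := hW.primeIdealOf ⟨s, hsW⟩
  have h𝔭 : hW.fromSpec 𝔭 = s := hW.fromSpec_primeIdealOf ⟨s, hsW⟩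
  obtain ⟨T, _, _, hTet, q, hq, m, ⟨e'⟩⟩ := ring_core (A := A) (B := B) 𝔭
  have hcomm : Spec.map (f.app W) ≫ hW.fromSpec = hV.fromSpec ≫ f := by
    have := IsAffineOpen.SpecMap_appLE_fromSpec f hW hV le_rfl
    rwa [Scheme.Hom.appLE_eq_app] at this
  let ψ : A ⟶ CommRingCat.of T := CommRingCat.ofHom (algebraMap A T)
  let U : Scheme.{u} := Spec (CommRingCat.of T)
  let g : U ⟶ S := Spec.map ψ ≫ hW.fromSpec
  have hψet : Etale (Spec.map ψ) :=
    (HasRingHomProperty.Spec_iff (P := @Etale)).mpr (RingHom.etale_algebraMap.mpr hTet)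
  have hg : Etale g := inferInstance
  let inR : B ⟶ CommRingCat.of (T ⊗[A] B) :=
    CommRingCat.ofHom (Algebra.TensorProduct.includeRight (R := A) (A := T) (B := B)).toRingHom
  let inL : CommRingCat.of T ⟶ CommRingCat.of (T ⊗[A] B) :=
    CommRingCat.ofHom (Algebra.TensorProduct.includeLeftRingHom (R := A) (A := T) (B := B))
  have hpo : IsPushout (f.app W) ψ inR inL :=
    (CommRingCat.isPushout_tensorProduct A T B).flip
  have hleft : IsPullback (Spec.map inR) (Spec.map inL) (Spec.map (f.app W)) (Spec.map ψ) :=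
    isPullback_SpecMap_of_isPushout _ _ _ _ hpo
  have hright : IsPullback hV.fromSpec (Spec.map (f.app W)) f hW.fromSpec := by
    refine (IsOpenImmersion.isPullback (Spec.map (f.app W)) hV.fromSpec hW.fromSpec f
      hcomm.symm ?_).flip
    rw [hW.opensRange_fromSpec, hV.opensRange_fromSpec]
  have hpb : IsPullback (Spec.map inR ≫ hV.fromSpec) (Spec.map inL) f g :=
    hleft.paste_horiz hright
  let ι' := ULift.{u} (Fin m)
  let Rf : ι' → CommRingCat.{u} := fun _ => CommRingCat.of T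
  let V : Fin m → Scheme.{u} := fun _ => U
  let eqv : ι' ≃ Fin m := Equiv.ulift
  let i0 : (∐ V) ≅ ∐ (fun i : ι' => Spec (Rf i)) := (Sigma.reindex eqv V).symm
  let i1 : (∐ fun i : ι' => Spec (Rf i)) ≅ Spec (CommRingCat.of (ι' → T)) :=
    asIso (sigmaSpec Rf)
  let ρ : CommRingCat.of (T ⊗[A] B) ⟶ CommRingCat.of (ι' → T) :=
    CommRingCat.ofHom (e' : T ⊗[A] B →+* (ι' → T))
  let ρinv : CommRingCat.of (ι' → T) ⟶ CommRingCat.of (T ⊗[A] B) :=
    CommRingCat.ofHom (e'.symm : (ι' → T) →+* T ⊗[A] B)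
  have h1 : ρ ≫ ρinv = 𝟙 _ := by
    refine CommRingCat.hom_ext (RingHom.ext fun x => ?_)
    show e'.symm (e' x) = x
    exact e'.symm_apply_apply x
  have h2 : ρinv ≫ ρ = 𝟙 _ := by
    refine CommRingCat.hom_ext (RingHom.ext fun x => ?_)
    show e' (e'.symm x) = x
    exact e'.apply_symm_apply x
  let i2 : Spec (CommRingCat.of (ι' → T)) ≅ Spec (CommRingCat.of (T ⊗[A] B)) :=
    { hom := Spec.map ρ
      inv := Spec.map ρinv
      hom_inv_id := by rw [← Spec.map_comp, h2, Spec.map_id]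
      inv_hom_id := by rw [← Spec.map_comp, h1, Spec.map_id] }
  let e : (∐ V) ≅ pullback f g := i0 ≪≫ i1 ≪≫ i2 ≪≫ hpb.isoPullback
  refine ⟨U, g, hg, q, ?_, m, V, fun _ => 𝟙 _, fun _ => inferInstance, e, ?_⟩
  · show hW.fromSpec ((Spec.map ψ) q) = s
    rw [← h𝔭]
    congr 1
  · intro j
    have e1 : Sigma.ι V j ≫ i0.hom = Sigma.ι (fun i : ι' => Spec (Rf i)) ⟨j⟩ :=
      Sigma.ι_reindex_inv eqv V ⟨j⟩
    have e2 : Sigma.ι (fun i : ι' => Spec (Rf i)) ⟨j⟩ ≫ i1.hom =
        Spec.map (CommRingCat.ofHom (Pi.evalRingHom _ ⟨j⟩)) := ι_sigmaSpec Rf ⟨j⟩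
    have e3 : hpb.isoPullback.hom ≫ pullback.snd f g = Spec.map inL := hpb.isoPullback_hom_snd
    have e4 : (inL ≫ ρ) ≫ CommRingCat.ofHom (Pi.evalRingHom (fun _ : ι' => T) ⟨j⟩) = 𝟙 _ := by
      refine CommRingCat.hom_ext (RingHom.ext fun t => ?_)
      show (e' (Algebra.TensorProduct.includeLeftRingHom t)) ⟨j⟩ = t
      have := e'.commutes t
      rw [Algebra.TensorProduct.algebraMap_apply] at this
      simp only [Algebra.TensorProduct.includeLeftRingHom_apply]
      rw [show (algebraMap T T) t = t from rfl] at this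
      rw [this]
      rfl
    show Sigma.ι V j ≫ (i0.hom ≫ i1.hom ≫ i2.hom ≫ hpb.isoPullback.hom) ≫ pullback.snd f g = 𝟙 _
    rw [Category.assoc, Category.assoc, Category.assoc, ← Category.assoc (Sigma.ι V j), e1,
      ← Category.assoc (Sigma.ι _ _), e2, e3]
    show Spec.map _ ≫ Spec.map ρ ≫ Spec.map inL = _
    rw [← Spec.map_comp, ← Spec.map_comp, e4, Spec.map_id]

end Groth.Agent.S9559
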