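import Groth.Statements.S9560
import Groth.Agent.Lib.Helper14.EtaleAtFlat

set_option autoImplicit false
universe u
open EtLocal

namespace Groth.Agent.S9560

/-- Suppose A is a Noetherian ring and B is a finite-type A-algebra, and consider a prime q of B lying
over the prime p of A, where B_q carries its A_p-algebra structure. Then B is étale at q over A (the
local ring B_q is formally étale over A) if and only if the local homomorphism A_p → B_q is étale,
which means three things: B_q is A_p-flat, the ideal p B_q equals the maximal ideal of B_q, and the
residue field of q is a finite separable extension of the residue field of p (that B_q is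
essentially of finite type over A_p holds automatically). -/
theorem result (A B : Type u) [CommRing A] [CommRing B]
    [Algebra A B] [IsNoetherianRing A] [Algebra.FiniteType A B]
    (p : Ideal A) [p.IsPrime] (q : Ideal B) [q.IsPrime] [q.LiesOver p]
    [Algebra (Localization.AtPrime p) (Localization.AtPrime q)]
    [Localization.AtPrime.IsLiesOverAlgebra p q] :
    Algebra.IsEtaleAt A q ↔
      Module.Flat (Localization.AtPrime p) (Localization.AtPrime q) ∧
        p.map (algebraMap A (Localization.AtPrime q)) = IsLocalRing.maximalIdeal (Localization.AtPrime q) ∧
        Module.Finite p.ResidueField q.ResidueField ∧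
        Algebra.IsSeparable p.ResidueField q.ResidueField := by
  have hfp : Algebra.FinitePresentation A B :=
    Algebra.FinitePresentation.of_finiteType.mp inferInstance
  constructor
  · intro h
    have hU : Algebra.IsUnramifiedAt A q :=
      (Algebra.FormallyEtale.iff_formallyUnramified_and_formallySmooth.mp h).1
    obtain ⟨hsep, hmap⟩ := (Algebra.isUnramifiedAt_iff_map_eq A p q).mp hU
    refine ⟨?_, hmap, inferInstance, hsep⟩
    obtain ⟨f, hfq, hE⟩ := Algebra.exists_etale_of_isEtaleAt (R := A) q
    have hflat : Module.Flat A (Localization.Away f) := inferInstance
    have hunit : IsUnit (algebraMap B (Localization.AtPrime q) f) :=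
      IsLocalization.map_units (M := q.primeCompl) _ ⟨f, hfq⟩
    let g : Localization.Away f →+* Localization.AtPrime q :=
      IsLocalization.Away.lift f hunit
    algebraize [g]
    have : IsScalarTower B (Localization.Away f) (Localization.AtPrime q) :=
      .of_algebraMap_eq' (IsLocalization.Away.lift_comp f hunit).symm
    have : IsScalarTower A (Localization.Away f) (Localization.AtPrime q) := .to₁₃₄ _ B _ _
    have hle : Submonoid.powers f ≤ q.primeCompl := by
      rintro _ ⟨n, rfl⟩
      exact fun h => hfq (‹q.IsPrime›.mem_of_pow_mem _ h)
    have : IsLocalization (Algebra.algebraMapSubmonoid (Localization.Away f) q.primeCompl)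
        (Localization.AtPrime q) :=
      .isLocalization_of_submonoid_le _ _ (Submonoid.powers f) _ hle
    have : Module.Flat (Localization.Away f) (Localization.AtPrime q) :=
      IsLocalization.flat _ (Algebra.algebraMapSubmonoid (Localization.Away f) q.primeCompl)
    have : Module.Flat A (Localization.AtPrime q) := .trans A (Localization.Away f) _
    rw [Module.flat_iff_of_isLocalization (Localization.AtPrime p) p.primeCompl]
    exact this
  · rintro ⟨hflat, hmap, hfin, hsep⟩
    have hU : Algebra.IsUnramifiedAt A q :=
      (Algebra.isUnramifiedAt_iff_map_eq A p q).mpr ⟨hsep, hmap⟩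
    exact Groth.Agent.Lib.Helper14.isEtaleAt_of_flat_of_isUnramifiedAt p q


end Groth.Agent.S9560
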