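import Groth.Statements.S9563
import Groth.Agent.Lib.Helper14.EssFTLocal

set_option autoImplicit false
universe u
open EtLocal

namespace Groth.Agent.S9563

/-- Let A → B be an étale homomorphism of Noetherian local rings, i.e. a local homomorphism with B
essentially of finite type and flat over A, m_A B = m_B, and residue field of B finite separable
over that of A. Then there are a standard étale A-algebra B' = A[t]_g/(f) (f monic and f' invertible
in B') and a prime 𝔮 of B' such that B is isomorphic as an A-algebra to the localization of B' at 𝔮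
(existence of an isomorphism). -/
theorem result (A B : Type u) [CommRing A] [CommRing B]
    [IsLocalRing A] [IsLocalRing B] [IsNoetherianRing A] [IsNoetherianRing B] [Algebra A B]
    [IsLocalHom (algebraMap A B)] [Algebra.EssFiniteType A B] [Module.Flat A B]
    (hm : (IsLocalRing.maximalIdeal A).map (algebraMap A B) = IsLocalRing.maximalIdeal B)
    [Module.Finite (IsLocalRing.ResidueField A) (IsLocalRing.ResidueField B)]
    [Algebra.IsSeparable (IsLocalRing.ResidueField A) (IsLocalRing.ResidueField B)] :
    ∃ (P : StandardEtalePair A) (𝔮 : Ideal P.Ring) (_ : 𝔮.IsPrime),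
      Nonempty (B ≃ₐ[A] Localization.AtPrime 𝔮) := by
  classical
  have hU : Algebra.FormallyUnramified A B := Algebra.FormallyUnramified.of_map_maximalIdeal hm
  let B₀ := Algebra.EssFiniteType.subalgebra A B
  let q : Ideal B₀ := Groth.Agent.Lib.Helper14.essPrime A B
  have hloc : IsLocalization.AtPrime B q := Groth.Agent.Lib.Helper14.essPrime_isLocalization A B
  let e : B ≃ₐ[B₀] Localization.AtPrime q := IsLocalization.algEquiv q.primeCompl _ _
  have hfp : Algebra.FinitePresentation A B₀ :=
    Algebra.FinitePresentation.of_finiteType.mp inferInstance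
  have hS : Algebra.FormallySmooth A B := by
    have : Algebra.FormallyEtale (IsLocalRing.ResidueField A)
        (TensorProduct A (IsLocalRing.ResidueField A) B) :=
      Algebra.FormallyEtale.of_formallyUnramified_of_field _ _
    have : Algebra.FormallySmooth (IsLocalRing.ResidueField A)
        (TensorProduct A (IsLocalRing.ResidueField A) B) := inferInstance
    exact Algebra.FormallySmooth.of_formallySmooth_residueField_tensor
      (R := A) (S := B) (P := B₀) q.primeCompl
  have hE : Algebra.FormallyEtale A B :=
    Algebra.FormallyEtale.iff_formallyUnramified_and_formallySmooth.mpr ⟨hU, hS⟩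
  have : Algebra.IsEtaleAt A q := Algebra.FormallyEtale.of_equiv (e.restrictScalars A)
  obtain ⟨f, hfq, hstd⟩ := Algebra.IsEtaleAt.exists_isStandardEtale (R := A) q
  let Pres : StandardEtalePresentation A (Localization.Away f) :=
    hstd.nonempty_standardEtalePresentation.some
  let φ : Pres.P.Ring ≃ₐ[A] Localization.Away f := Pres.equivRing.symm
  have hunit : IsUnit (algebraMap B₀ B f) :=
    IsLocalization.map_units (M := q.primeCompl) B ⟨f, hfq⟩
  let g : Localization.Away f →ₐ[A] B :=
    IsLocalization.liftAlgHom (M := Submonoid.powers f) (f := B₀.val) (by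
      rintro ⟨_, n, rfl⟩
      simpa using hunit.pow n)
  have hg : ∀ x : B₀, g (algebraMap B₀ (Localization.Away f) x) = algebraMap B₀ B x := by
    intro x
    simp [g]
  have hginj : ∀ z, g z = 0 → z = 0 := by
    intro z hz
    obtain ⟨y, s, rfl⟩ := IsLocalization.exists_mk'_eq (Submonoid.powers f) z
    have h1 : g (IsLocalization.mk' (Localization.Away f) y s) *
        g (algebraMap B₀ (Localization.Away f) (s : B₀)) = 0 := by rw [hz, zero_mul]
    rw [← map_mul, IsLocalization.mk'_spec, hg] at h1
    have h2 : y = 0 := Subtype.ext h1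
    rw [h2, IsLocalization.mk'_zero]
  let ψ : Pres.P.Ring →ₐ[A] B := g.comp φ.toAlgHom
  refine ⟨Pres.P, Groth.Agent.Lib.Helper14.comapMax ψ, inferInstance, ⟨?_⟩⟩
  refine (AlgEquiv.ofBijective (Groth.Agent.Lib.Helper14.atPrimeLift ψ)
    ⟨Groth.Agent.Lib.Helper14.atPrimeLift_injective ψ ?_,
      Groth.Agent.Lib.Helper14.atPrimeLift_surjective ψ ?_⟩).symm
  · intro a ha
    refine ⟨1, by simp, ?_⟩
    have : φ a = 0 := hginj _ ha
    rw [one_mul]
    exact φ.injective (this.trans (map_zero φ).symm)
  · intro b
    obtain ⟨⟨x, s⟩, h⟩ := IsLocalization.surj q.primeCompl b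
    obtain ⟨x', hx'⟩ := φ.surjective (algebraMap B₀ _ x)
    obtain ⟨s', hs'⟩ := φ.surjective (algebraMap B₀ _ (s : B₀))
    have hψx : ψ x' = algebraMap B₀ B x := by
      change g (φ x') = _
      rw [hx', hg]
    have hψs : ψ s' = algebraMap B₀ B (s : B₀) := by
      change g (φ s') = _
      rw [hs', hg]
    refine ⟨x', s', ?_, ?_⟩
    · rw [hψs]
      exact IsLocalization.map_units (M := q.primeCompl) B s
    · rw [hψs, hψx]
      exact h


end Groth.Agent.S9563
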