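import Groth.Statements.S9564
import Groth.Agent.Lib.Helper14.EssFTLocal

set_option autoImplicit false
universe u
open EtLocal

namespace Groth.Agent.S9564

/-- Let A → B be an unramified homomorphism of Noetherian local rings, i.e. a local homomorphism with B
essentially of finite type over A, m_A B = m_B, and residue field of B finite separable over that of
A. Then there are a standard étale A-algebra B' = A[t]_g/(f) (f monic and f' invertible in B'), a
prime 𝔮 of B' and an ideal I of the localization of B' at 𝔮 such that B is isomorphic as an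
A-algebra to the quotient of that localization by I (existence of an isomorphism). -/
theorem result (A B : Type u) [CommRing A] [CommRing B]
    [IsLocalRing A] [IsLocalRing B] [IsNoetherianRing A] [IsNoetherianRing B] [Algebra A B]
    [IsLocalHom (algebraMap A B)] [Algebra.EssFiniteType A B]
    (hm : (IsLocalRing.maximalIdeal A).map (algebraMap A B) = IsLocalRing.maximalIdeal B)
    [Module.Finite (IsLocalRing.ResidueField A) (IsLocalRing.ResidueField B)]
    [Algebra.IsSeparable (IsLocalRing.ResidueField A) (IsLocalRing.ResidueField B)] :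
    ∃ (P : StandardEtalePair A) (𝔮 : Ideal P.Ring) (_ : 𝔮.IsPrime) (I : Ideal (Localization.AtPrime 𝔮)),
      Nonempty (B ≃ₐ[A] (Localization.AtPrime 𝔮 ⧸ I)) := by
  classical
  have hU : Algebra.FormallyUnramified A B := Algebra.FormallyUnramified.of_map_maximalIdeal hm
  let B₀ := Algebra.EssFiniteType.subalgebra A B
  let q : Ideal B₀ := Groth.Agent.Lib.Helper14.essPrime A B
  have hloc : IsLocalization.AtPrime B q := Groth.Agent.Lib.Helper14.essPrime_isLocalization A B
  let e : B ≃ₐ[B₀] Localization.AtPrime q := IsLocalization.algEquiv q.primeCompl _ _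
  have : Algebra.IsUnramifiedAt A q := Algebra.FormallyUnramified.of_equiv (e.restrictScalars A)
  obtain ⟨f, hfq, P, φ, hφ⟩ :=
    Algebra.IsUnramifiedAt.exists_hasStandardEtaleSurjectionOn (R := A) q
  have hunit : IsUnit (algebraMap B₀ B f) :=
    IsLocalization.map_units (M := q.primeCompl) B ⟨f, hfq⟩
  let g : Localization.Away f →ₐ[A] B :=
    IsLocalization.liftAlgHom (M := Submonoid.powers f) (f := B₀.val) (by
      rintro ⟨_, n, rfl⟩
      simpa using hunit.pow n)
  have hg : ∀ x : B₀, g (algebraMap B₀ (Localization.Away f) x) = algebraMap B₀ B x := by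
    intro x
    simp [g]
  let ψ : P.Ring →ₐ[A] B := g.comp φ
  refine ⟨P, Groth.Agent.Lib.Helper14.comapMax ψ, inferInstance,
    RingHom.ker (Groth.Agent.Lib.Helper14.atPrimeLift ψ), ⟨?_⟩⟩
  refine (Ideal.quotientKerAlgEquivOfSurjective
    (Groth.Agent.Lib.Helper14.atPrimeLift_surjective ψ ?_)).symm
  intro b
  obtain ⟨⟨x, s⟩, h⟩ := IsLocalization.surj q.primeCompl b
  obtain ⟨x', hx'⟩ := hφ (algebraMap B₀ _ x)
  obtain ⟨s', hs'⟩ := hφ (algebraMap B₀ _ (s : B₀))
  have hψx : ψ x' = algebraMap B₀ B x := by
    change g (φ x') = _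
    rw [hx', hg]
  have hψs : ψ s' = algebraMap B₀ B (s : B₀) := by
    change g (φ s') = _
    rw [hs', hg]
  refine ⟨x', s', ?_, ?_⟩
  · rw [hψs]
    exact IsLocalization.map_units (M := q.primeCompl) B s
  · rw [hψs, hψx]
    exact h


end Groth.Agent.S9564
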