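import Groth.Statements.S9567
import Groth.Agent.Lib.Helper14.StdEtaleMonogenic

set_option autoImplicit false
universe u
open EtLocal

namespace Groth.Agent.S9567

open AlgebraicGeometry CategoryTheory in
/-- Let φ : X ⟶ Y be any morphism of schemes, x a point of X and V an affine open neighbourhood of φ(x),
with ring R = Γ(Y, V). If φ is étale on some open neighbourhood of x, then there are an affine open
neighbourhood U of x with φ(U) ⊆ V, a monic polynomial p over R and an open immersion j of U into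
Spec of (R[t]/(p))[1/p′] (the localization of R[t]/(p) away from the image of the derivative of p)
such that j followed by the projection to Spec R is the morphism U → Spec R induced by φ. -/
theorem result {X Y : Scheme.{u}} (φ : X ⟶ Y) (x : X)
    (V : Y.Opens) (hV : IsAffineOpen V) (hxV : φ.base x ∈ V)
    (hφ : ∃ W : X.Opens, x ∈ W ∧ Etale (W.ι ≫ φ)) :
    ∃ (U : X.Opens) (hU : IsAffineOpen U) (_ : x ∈ U) (e : U ≤ φ ⁻¹ᵁ V)
      (p : Polynomial Γ(Y, V)) (_ : p.Monic)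
      (j : U.toScheme ⟶ Spec (CommRingCat.of (Localization.Away (AdjoinRoot.mk p (Polynomial.derivative p))))),
      IsOpenImmersion j ∧
        j ≫ Spec.map (CommRingCat.ofHom
            (algebraMap Γ(Y, V) (Localization.Away (AdjoinRoot.mk p (Polynomial.derivative p))))) =
          hU.isoSpec.hom ≫ Spec.map (φ.appLE V U e) := by
  obtain ⟨W, hxW, hW⟩ := hφ
  obtain ⟨_, ⟨(U₀ : X.Opens), (hU₀ : IsAffineOpen U₀), rfl⟩, hxU₀, hU₀le⟩ :=
    X.isBasis_affineOpens.exists_subset_of_mem_open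
      (show x ∈ ((W ⊓ φ ⁻¹ᵁ V : X.Opens) : Set X) from ⟨hxW, hxV⟩) (W ⊓ φ ⁻¹ᵁ V).2
  have hU₀W : U₀ ≤ W := fun y hy => (hU₀le hy).1
  have hU₀V : U₀ ≤ φ ⁻¹ᵁ V := fun y hy => (hU₀le hy).2
  have h0 : Etale (U₀.ι ≫ φ) := by
    have : U₀.ι = X.homOfLE hU₀W ≫ W.ι := (X.homOfLE_ι hU₀W).symm
    rw [this, Category.assoc]
    infer_instance
  have h1 : Etale (φ.resLE V U₀ hU₀V ≫ V.ι) := by
    rw [Scheme.Hom.resLE_comp_ι]
    exact h0
  have h2 : Etale (φ.resLE V U₀ hU₀V) := Etale.of_comp _ V.ι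
  have : IsAffine V.toScheme := hV
  have : IsAffine U₀.toScheme := hU₀
  have h3 : (φ.appLE V U₀ hU₀V).hom.Etale :=
    (RingHom.Etale.respectsIso.arrow_mk_iso_iff (arrowResLEAppIso φ V U₀ hU₀V)).mp
      ((HasRingHomProperty.iff_of_isAffine (P := @Etale)).mp h2)
  algebraize [(φ.appLE V U₀ hU₀V).hom]
  have hEt : Algebra.Etale Γ(Y, V) Γ(X, U₀) := RingHom.etale_algebraMap.mp h3
  let q := (hU₀.primeIdealOf ⟨x, hxU₀⟩).asIdeal
  have : Algebra.IsEtaleAt Γ(Y, V) q := Algebra.FormallyEtale.comp Γ(Y, V) Γ(X, U₀) _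
  obtain ⟨r, hrq, hr⟩ := Algebra.IsEtaleAt.exists_isStandardEtale (R := Γ(Y, V)) q
  have hxr : x ∈ X.basicOpen r :=
    Groth.Agent.Lib.Helper14.mem_basicOpen_of_notMem_primeIdealOf hU₀ x hxU₀ r hrq
  have hUle : X.basicOpen r ≤ φ ⁻¹ᵁ V := (X.basicOpen_le r).trans hU₀V
  have hU : IsAffineOpen (X.basicOpen r) := hU₀.basicOpen r
  have hloc := hU₀.isLocalization_basicOpen r
  let : Algebra Γ(Y, V) Γ(X, X.basicOpen r) := (φ.appLE V (X.basicOpen r) hUle).hom.toAlgebra
  have : IsScalarTower Γ(Y, V) Γ(X, U₀) Γ(X, X.basicOpen r) := by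
    refine IsScalarTower.of_algebraMap_eq' ?_
    ext a
    simp only [RingHom.algebraMap_toAlgebra, RingHom.comp_apply, ← ConcreteCategory.comp_apply,
      Scheme.Hom.appLE_map]
  let e : Localization.Away r ≃ₐ[Γ(Y, V)] Γ(X, X.basicOpen r) :=
    (IsLocalization.algEquiv (.powers r) (Localization.Away r) Γ(X, X.basicOpen r)).restrictScalars
      Γ(Y, V)
  have : Algebra.IsStandardEtale Γ(Y, V) Γ(X, X.basicOpen r) := .of_equiv e
  obtain ⟨p, hp, χ, hχ⟩ :=
    Groth.Agent.Lib.Helper14.exists_monic_away_derivative_isOpenImmersion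
      Γ(Y, V) Γ(X, X.basicOpen r)
  refine ⟨X.basicOpen r, hU, hxr, hUle, p, hp,
    hU.isoSpec.hom ≫ Spec.map (CommRingCat.ofHom χ.toRingHom), inferInstance, ?_⟩
  rw [Category.assoc, ← Spec.map_comp]
  congr 2
  ext a
  exact χ.commutes a


end Groth.Agent.S9567
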