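import Groth.Statements.S9570
import Groth.Agent.Lib.Helper3.ProjPullSec

set_option autoImplicit false
universe u
open CategoryTheory CategoryTheory.Limits AlgebraicGeometry TopologicalSpace Opposite
open Constr

namespace Groth.Agent.S9570

open Groth.Agent.Lib.Helper3 in
theorem aux9570 {R : Type u} [CommRing R] (n : ℕ)
    {Z : Scheme.{u}} (i : Z ⟶ Proj (CohB1.polyGrading n R)) [IsClosedImmersion i]
    {B : Type u} [CommRing B] [Algebra R B] (ℬ : ℕ → Submodule R B) [GradedAlgebra ℬ]
    (φ : CohB1.polyGrading n R →+*ᵍ ℬ) (hφs : Function.Surjective φ)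
    (hker : ∀ (d : ℕ) (F : MvPolynomial (Fin (n + 1)) R) (hF : F ∈ CohB1.polyGrading n R d),
      φ F = 0 ↔ ProjUP.pullSec i (Twist.twist (CohB1.polyGrading n R) d)
        (Twist.globalOf (CohB1.polyGrading n R) ⟨F, hF⟩) = 0)
    (hφ : HomogeneousIdeal.irrelevant ℬ ≤
      (HomogeneousIdeal.irrelevant (CohB1.polyGrading n R)).map φ) :
    ∃ e : Z ≅ Proj ℬ, e.hom ≫ Proj.map φ hφ = i := by
  classical
  let f : ULift.{u} (Fin (n + 1)) → MvPolynomial (Fin (n + 1)) R :=
    fun j => MvPolynomial.X j.down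
  have hf : ∀ j, f j ∈ CohB1.polyGrading n R 1 := fun j => MvPolynomial.isHomogeneous_X R j.down
  have hcov : ∀ x : Proj (CohB1.polyGrading n R),
      ∃ j, x ∈ Proj.basicOpen (CohB1.polyGrading n R) (f j) := by
    apply TwistProj.exists_mem_basicOpen_of_adjoin f (fun _ => 1) hf
    have hr : Set.range f =
        Set.range (MvPolynomial.X : Fin (n + 1) → MvPolynomial (Fin (n + 1)) R) := by
      ext p
      constructor
      · rintro ⟨j, rfl⟩
        exact ⟨j.down, rfl⟩
      · rintro ⟨j, rfl⟩
        exact ⟨⟨j⟩, rfl⟩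
    rw [hr]
    exact MvPolynomial.adjoin_range_X
  have hsurj : ∀ (m : ℕ) (b : B), b ∈ ℬ m → ∃ a ∈ CohB1.polyGrading n R m, φ a = b := by
    intro m b hb
    obtain ⟨a', rfl⟩ := hφs b
    refine ⟨DirectSum.decompose (CohB1.polyGrading n R) a' m, SetLike.coe_mem _, ?_⟩
    rw [GradedRingHom.map_directSumDecompose, DirectSum.decompose_of_mem_same ℬ hb]
  have hker' : ∀ a, φ a = 0 ↔ ProjClosed.InJ hf i.ker a := by
    intro a
    have h1 : φ a = 0 ↔ ∀ m, φ (DirectSum.decompose (CohB1.polyGrading n R) a m) = 0 := by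
      constructor
      · intro h m
        rw [GradedRingHom.map_directSumDecompose, h, DirectSum.decompose_zero]
        rfl
      · intro h
        rw [← DirectSum.sum_support_decompose (CohB1.polyGrading n R) a, map_sum]
        exact Finset.sum_eq_zero (fun m _ => h m)
    rw [h1]
    apply forall_congr'
    intro m
    rw [hker m _ (SetLike.coe_mem _)]
    exact ProjPullSec.pull_gsec_eq_zero_iff hf hcov i _
  exact ProjClosed.exists_iso_of_ker hf hcov φ hφ hsurj i hker'

/-- Let R be a ring and i : Z → P^n_R a closed immersion. For d ≥ 0 let I_d be the kernel of the map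
from the degree-d forms of R[T_0, …, T_n] to the global sections of i^*O(d), sending a form F to the
inverse image of the global section F of O(d). Then I = ⊕ I_d is a graded ideal and Z is the closed
subscheme Proj(R[T_0, …, T_n]/I) of P^n_R: for every surjective homomorphism of graded rings φ from
R[T_0, …, T_n] onto a graded ring B whose kernel in each degree d is exactly I_d, there is an
isomorphism Z ≅ Proj B whose composite with the morphism Proj B → P^n_R induced by φ is i. -/
theorem result {R : Type u} [CommRing R] (n : ℕ)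
    {Z : Scheme.{u}} (i : Z ⟶ CohB1.ProjSpace n R) [IsClosedImmersion i]
    {B : Type u} [CommRing B] [Algebra R B] (ℬ : ℕ → Submodule R B) [GradedAlgebra ℬ]
    (φ : CohB1.polyGrading n R →+*ᵍ ℬ) (hφs : Function.Surjective φ)
    (hker : ∀ (d : ℕ) (F : MvPolynomial (Fin (n + 1)) R) (hF : F ∈ CohB1.polyGrading n R d),
      φ F = 0 ↔ ProjUP.pullSec i (Twist.twistProjSpace n R d) (Twist.globalOf (CohB1.polyGrading n R) ⟨F, hF⟩) = 0)
    (hφ : HomogeneousIdeal.irrelevant ℬ ≤ (HomogeneousIdeal.irrelevant (CohB1.polyGrading n R)).map φ) :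
    ∃ e : Z ≅ Proj ℬ, e.hom ≫ Proj.map φ hφ = i := by
  exact @aux9570 R _ n Z i ‹IsClosedImmersion i› B _ _ ℬ _ φ hφs hker hφ

end Groth.Agent.S9570
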