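import Groth.Statements.S9571


set_option autoImplicit false
universe u
open CategoryTheory CategoryTheory.Limits AlgebraicGeometry TopologicalSpace Opposite
open Constr

namespace Groth.Agent.S9571

/-- Let S be a graded ring, X = Proj S and d ≥ 1; let W_d be the union of the opens D_+(ab) over pairs
of homogeneous a, b with deg a = deg b + d (the open over which the twisting sheaves O_X(nd) are
invertible with compatible multiplications). For n ≥ 1 and f homogeneous of degree nd, with s the
section of O_X(nd) over W_d defined by f, the non-vanishing locus (W_d)_s equals D_+(f) ∩ W_d.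
Pointwise: for p in some D_+(ab) as above, p ∈ D_+(f) if and only if the value f/1 of s at p
generates the module of degree-nd fractions at p (the span of the fractions c/t with t ∉ p and deg c
= deg t + nd, over the degree-zero local ring at p). -/
theorem result {R A : Type u} [CommRing R] [CommRing A] [Algebra R A] (𝒜 : ℕ → Submodule R A) [GradedAlgebra 𝒜]
    {d : ℕ} (hd : 0 < d) {i j : ℕ} {a b : A} (ha : a ∈ 𝒜 i) (hb : b ∈ 𝒜 j) (hij : i = j + d)
    (p : ProjectiveSpectrum 𝒜) (hp : p ∈ ProjectiveSpectrum.basicOpen 𝒜 (a * b))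
    {n : ℕ} (hn : 0 < n) (f : 𝒜 (n * d)) :
    p ∈ ProjectiveSpectrum.basicOpen 𝒜 (f : A) ↔
      Submodule.span (Twist.A0 𝒜 p) {(Twist.globalOf 𝒜 f).1 ⟨p, trivial⟩} = ⊤ := by
  classical
  rw [ProjectiveSpectrum.mem_basicOpen]
  have habp : a * b ∉ p.asHomogeneousIdeal := hp
  have hap : a ∉ p.asHomogeneousIdeal.toIdeal := fun h =>
    habp (p.asHomogeneousIdeal.toIdeal.mul_mem_right b h)
  have hbp : b ∉ p.asHomogeneousIdeal.toIdeal := fun h =>
    habp (p.asHomogeneousIdeal.toIdeal.mul_mem_left a h)
  have hprime : p.asHomogeneousIdeal.toIdeal.IsPrime := p.isPrime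
  have h1 : (1 : A) ∉ p.asHomogeneousIdeal.toIdeal := fun h =>
    hprime.ne_top ((Ideal.eq_top_iff_one _).mpr h)
  set g := (Twist.globalOf 𝒜 f).1 ⟨p, trivial⟩ with hg
  have hgval : (g : Twist.Loc 𝒜 p) = Localization.mk (f : A) ⟨1, h1⟩ := rfl
  -- reduce to an equality of submodules of `Loc`
  have key : Submodule.span (Twist.A0 𝒜 p) {g} = ⊤ ↔
      Submodule.span (Twist.A0 𝒜 p) {(g : Twist.Loc 𝒜 p)} = Twist.twistAt 𝒜 ((n * d : ℕ) : ℤ) p := by
    rw [← (Submodule.map_injective_of_injective
      (f := (Twist.twistAt 𝒜 ((n * d : ℕ) : ℤ) p).subtype) Subtype.val_injective).eq_iff,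
      Submodule.map_span, Set.image_singleton, Submodule.map_top, Submodule.range_subtype]
    rfl
  rw [key]
  constructor
  · intro hf
    have hf' : (f : A) ∉ p.asHomogeneousIdeal.toIdeal := hf
    apply le_antisymm
    · rw [Submodule.span_le, Set.singleton_subset_iff]
      exact g.2
    · unfold Twist.twistAt
      rw [Submodule.span_le]
      rintro _ ⟨i', j', a', s', hs', hdeg, rfl⟩
      have hsf : (s' : A) * (f : A) ∉ p.asHomogeneousIdeal.toIdeal := fun h =>
        (hprime.mem_or_mem h).elim hs' hf'
      have hdeg' : j' + n * d = i' := by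
        have : ((j' + n * d : ℕ) : ℤ) = (i' : ℤ) := by push_cast; rw [hdeg]; push_cast; ring
        exact_mod_cast this
      let c : Twist.A0 𝒜 p := HomogeneousLocalization.mk
        ⟨i', a', ⟨(s' : A) * (f : A), hdeg' ▸ SetLike.mul_mem_graded s'.2 f.2⟩, hsf⟩
      refine Submodule.mem_span_singleton.mpr ⟨c, ?_⟩
      rw [Algebra.smul_def, HomogeneousLocalization.algebraMap_apply, hgval,
        HomogeneousLocalization.val_mk, Localization.mk_mul, Localization.mk_eq_mk_iff,
        Localization.r_iff_exists]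
      refine ⟨1, ?_⟩
      simp only [OneMemClass.coe_one, one_mul, Submonoid.coe_mul, mul_one]
      ring
  · intro hspan hf
    have hbn : b ^ n ∈ p.asHomogeneousIdeal.toIdeal.primeCompl :=
      fun h => hbp (hprime.mem_of_pow_mem n h)
    have hq₀ : (Localization.mk (a ^ n) (⟨b ^ n, hbn⟩ : p.asHomogeneousIdeal.toIdeal.primeCompl) :
        Twist.Loc 𝒜 p) ∈ Twist.twistAt 𝒜 ((n * d : ℕ) : ℤ) p := by
      refine Submodule.subset_span ⟨n * i, n * j, ⟨a ^ n, ?_⟩, ⟨b ^ n, ?_⟩,
        fun h => hbp (hprime.mem_of_pow_mem n h), ?_, rfl⟩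
      · have := SetLike.pow_mem_graded n ha
        simpa [smul_eq_mul] using this
      · have := SetLike.pow_mem_graded n hb
        simpa [smul_eq_mul] using this
      · subst hij
        push_cast
        ring
    rw [← hspan] at hq₀
    obtain ⟨c, hc⟩ := Submodule.mem_span_singleton.mp hq₀
    rw [Algebra.smul_def, HomogeneousLocalization.algebraMap_apply, hgval,
      c.eq_num_div_den, Localization.mk_mul, Localization.mk_eq_mk_iff,
      Localization.r_iff_exists] at hc
    obtain ⟨u, hu⟩ := hc
    simp only [Submonoid.coe_mul, mul_one] at hu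
    have hL : (u : A) * (b ^ n * (c.num * (f : A))) ∈ p.asHomogeneousIdeal.toIdeal :=
      Ideal.mul_mem_left _ _ (Ideal.mul_mem_left _ _ (Ideal.mul_mem_left _ _ hf))
    rw [hu] at hL
    rcases hprime.mem_or_mem hL with h | h
    · exact u.2 h
    · rcases hprime.mem_or_mem h with h | h
      · exact c.den_mem h
      · exact hap (hprime.mem_of_pow_mem n h)


end Groth.Agent.S9571
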