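import Groth.Statements.S9572
import Groth.Agent.Lib.Helper14.IsoCharts
import Groth.Agent.Lib.Helper14.AwayMapBij
import Groth.Agent.Lib.Helper6.PConeAffine

set_option autoImplicit false
universe u
open CategoryTheory CategoryTheory.Limits AlgebraicGeometry TopologicalSpace Opposite
open Constr

namespace Groth.Agent.S9572

/-- Let ψ : A → B be a homomorphism of graded rings such that A_d → B_d is bijective for all d ≥ d₀. Let
U(ψ) ⊆ Proj B be the union of the opens D_+(ψ f) over homogeneous f of positive degree, and r_ψ :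
U(ψ) → Proj A the morphism whose restriction to each chart Spec B_(ψ f) is Spec of the induced map
A_(f) → B_(ψ f) followed by the chart of Proj A. Then U(ψ) = Proj B and r_ψ is an isomorphism. (Here
r_ψ is any morphism with that chart description; it is unique.) -/
theorem result {R A : Type u} [CommRing R] [CommRing A] [Algebra R A] (𝒜 : ℕ → Submodule R A) [GradedAlgebra 𝒜]
    {B : Type u} [CommRing B] [Algebra R B] (ℬ : ℕ → Submodule R B) [GradedAlgebra ℬ] (ψ : 𝒜 →+*ᵍ ℬ)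
    (d₀ : ℕ) (hbij : ∀ d : ℕ, d₀ ≤ d → Set.BijOn ψ (𝒜 d) (ℬ d))
    (r : (PCone.dom ψ : Scheme.{u}) ⟶ Proj 𝒜)
    (hr : ∀ (d : ℕ) (f : A) (hd : 0 < d) (hf : f ∈ 𝒜 d),
      PCone.chart ψ hf hd ≫ r =
        Spec.map (CommRingCat.ofHom (HomogeneousLocalization.Away.map ψ f)) ≫ Proj.awayι 𝒜 f hf hd) :
    PCone.dom ψ = ⊤ ∧ IsIso r := by
  have hdom : PCone.dom ψ = ⊤ := by
    rw [eq_top_iff]
    rintro q -
    obtain ⟨i, hi, b, hb, hqb⟩ := Groth.Agent.Lib.Helper6.exists_homogeneous_mem_basicOpen ℬ q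
    have hbk : b ^ (d₀ + 1) ∈ ℬ ((d₀ + 1) • i) := SetLike.pow_mem_graded _ hb
    have hD : d₀ ≤ (d₀ + 1) • i := by
      rw [smul_eq_mul]
      calc d₀ ≤ d₀ + 1 := Nat.le_succ _
        _ = (d₀ + 1) * 1 := (mul_one _).symm
        _ ≤ (d₀ + 1) * i := Nat.mul_le_mul_left _ hi
    obtain ⟨f, hf, hfb⟩ := (hbij _ hD).surjOn hbk
    have hpos : 0 < (d₀ + 1) • i := by
      rw [smul_eq_mul]
      exact Nat.mul_pos (Nat.succ_pos _) hi
    refine TopologicalSpace.Opens.mem_iSup.mpr ⟨⟨f, _, hpos, hf⟩, ?_⟩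
    change q ∈ Proj.basicOpen ℬ (ψ f)
    rw [hfb, Proj.basicOpen_pow _ _ _ (Nat.succ_pos _)]
    exact hqb
  refine ⟨hdom, ?_⟩
  let J := {x : ℕ × A // 0 < x.1 ∧ x.2 ∈ 𝒜 x.1}
  have hiso : ∀ i : J, IsIso (Spec.map (CommRingCat.ofHom
      (HomogeneousLocalization.Away.map ψ i.1.2))) := by
    intro i
    have hb := Groth.Agent.Lib.Helper14.awayMap_bijective_of_eventually_bijOn ψ d₀ hbij i.2.1 i.2.2
    have : IsIso (CommRingCat.ofHom (HomogeneousLocalization.Away.map ψ i.1.2)) :=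
      (ConcreteCategory.isIso_iff_bijective _).mpr hb
    infer_instance
  refine Groth.Agent.Lib.Helper14.isIso_of_charts r (ι := J)
    (c := fun i => PCone.chart ψ i.2.2 i.2.1)
    (a := fun i => Proj.awayι 𝒜 i.1.2 i.2.2 i.2.1)
    (t := fun i => Spec.map (CommRingCat.ofHom (HomogeneousLocalization.Away.map ψ i.1.2)))
    (fun i => hr i.1.1 i.1.2 i.2.1 i.2.2) ?_ ?_
  · rw [eq_top_iff]
    rintro x -
    obtain ⟨i, hi, s, hs, hx⟩ := Groth.Agent.Lib.Helper6.exists_homogeneous_mem_basicOpen 𝒜 x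
    refine TopologicalSpace.Opens.mem_iSup.mpr ⟨⟨(i, s), hi, hs⟩, ?_⟩
    rw [Proj.opensRange_awayι]
    exact hx
  · intro i
    rw [Proj.opensRange_awayι]
    exact Groth.Agent.Lib.Helper6.pcone_preimage_basicOpen ψ r hr i.2.1 i.2.2


end Groth.Agent.S9572
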