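import Groth.Statements.S9573
import Groth.Agent.Lib.Helper3.PbIsoCrit
import Groth.Agent.Lib.Helper3.ProjLoc
import Groth.Agent.Lib.Helper3.ProjZero

set_option autoImplicit false
universe u
open CategoryTheory CategoryTheory.Limits AlgebraicGeometry TopologicalSpace Opposite
open scoped HomogeneousIdeal
open Constr

namespace Groth.Agent.S9573

/-- Let A be a graded ring, g an element of degree zero and ψ : A → B = A_g the localization map, B
carrying the induced grading (B_n consists of the b with g^k b = ψ(a) for some k and some a ∈ A_n).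
Then the morphism r_ψ : Proj B → Proj A induced by ψ is everywhere defined, it is an open immersion
whose image is the inverse image of the basic open D(g) of Spec A_0 under the structure morphism
Proj A → Spec A_0, and for every integer n the canonical map θ : r_ψ^* O_{Proj A}(n) → O_{Proj B}(n)
(adjoint to a/f ↦ ψ(a)/ψ(f)) is an isomorphism. (The containment of B_+ in the ideal generated by
ψ(A_+), through which r_ψ is Proj.map here, follows from the other hypotheses and is carried as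
data.) -/
theorem result {R A : Type u} [CommRing R] [CommRing A] [Algebra R A] (𝒜 : ℕ → Submodule R A) [GradedAlgebra 𝒜]
    {B : Type u} [CommRing B] [Algebra R B] (ℬ : ℕ → Submodule R B) [GradedAlgebra ℬ] (ψ : 𝒜 →+*ᵍ ℬ)
    (g : A) (hg : g ∈ 𝒜 0) [Algebra A B] (hψA : ∀ a : A, ψ a = algebraMap A B a) [IsLocalization.Away g B]
    (hdeg : ∀ (n : ℕ) (b : B), b ∈ ℬ n ↔ ∃ (k : ℕ) (a : A), a ∈ 𝒜 n ∧ ψ g ^ k * b = ψ a)
    (hψ : HomogeneousIdeal.irrelevant ℬ ≤ (HomogeneousIdeal.irrelevant 𝒜).map ψ) :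
    IsOpenImmersion (Proj.map ψ hψ) ∧
      Set.range (Proj.map ψ hψ).base =
        (Proj.toSpecZero 𝒜).base ⁻¹' (PrimeSpectrum.basicOpen (⟨g, hg⟩ : 𝒜 0) : Set (PrimeSpectrum (𝒜 0))) ∧
      ∀ n : ℤ, IsIso (((Scheme.Modules.pullbackPushforwardAdjunction (Proj.map ψ hψ)).homEquiv _ _).symm
        (GrTwist.comap ψ hψ n)) := by
  classical
  have hu : IsUnit (ψ g) := by
    rw [hψA]
    exact IsLocalization.map_units B (⟨g, Submonoid.mem_powers g⟩ : Submonoid.powers g)
  have hsurj : ∀ b : B, ∃ (k : ℕ) (a : A), b * ψ g ^ k = ψ a := by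
    intro b
    obtain ⟨⟨a, s⟩, h⟩ := IsLocalization.surj (Submonoid.powers g) b
    obtain ⟨k, hk⟩ := s.2
    have hk' : g ^ k = (s : A) := hk
    refine ⟨k, a, ?_⟩
    rw [hψA, hψA, ← map_pow, hk']
    exact h
  have hker : ∀ a : A, ψ a = 0 → ∃ m : ℕ, g ^ m * a = 0 := by
    intro a ha
    rw [hψA] at ha
    obtain ⟨⟨_, m, rfl⟩, hm⟩ := (IsLocalization.map_eq_zero_iff (Submonoid.powers g) B a).mp ha
    exact ⟨m, hm⟩
  haveI hoi : IsOpenImmersion (Proj.map ψ hψ) :=
    Groth.Agent.Lib.Helper3.ProjLoc.isOpenImmersion_projMap ψ hψ g hg hu hsurj hker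
  have hrange := Groth.Agent.Lib.Helper3.ProjLoc.range_projMap ψ hψ g hu hsurj hker
  refine ⟨hoi, ?_, ?_⟩
  · rw [hrange]
    have h1 := Groth.Agent.Lib.Helper3.ProjZero.toSpecZero_preimage_basicOpen (𝒜 := 𝒜)
      (⟨g, hg⟩ : 𝒜 0)
    ext x
    have hx : x ∈ (Proj.toSpecZero 𝒜 ⁻¹ᵁ PrimeSpectrum.basicOpen (⟨g, hg⟩ : 𝒜 0)) ↔
        x ∈ Proj.basicOpen 𝒜 g := by rw [h1]
    exact (Proj.mem_basicOpen 𝒜 g x).symm.trans hx.symm
  · intro n
    haveI : (GrTwist.twist 𝒜 n).IsQuasicoherent :=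
      (Groth.Agent.Lib.Helper3.GrModQC.isQuasicoherent_tilde (𝒜 := 𝒜) (ℳ := 𝒜) n :
        (GrMod.tilde 𝒜 𝒜 n).IsQuasicoherent)
    haveI : (GrTwist.twist ℬ n).IsQuasicoherent :=
      (Groth.Agent.Lib.Helper3.GrModQC.isQuasicoherent_tilde (𝒜 := ℬ) (ℳ := ℬ) n :
        (GrMod.tilde ℬ ℬ n).IsQuasicoherent)
    apply Groth.Agent.Lib.Helper3.PbIsoCrit.isIso_adjunct_of_isOpenImmersion
    intro W hW
    apply Groth.Agent.Lib.Helper3.GrTwistLoc.comap_app_bijective ψ hψ g hu hsurj hker hg n W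
    intro x hx
    obtain ⟨y, hy⟩ := hW hx
    exact ⟨y, hy⟩

end Groth.Agent.S9573
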