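import Groth.Statements.S9580
import Groth.Agent.Lib.Helper3.TwistBasic
import Groth.Agent.Lib.Helper3.InvRestrict

set_option autoImplicit false
universe u
open CategoryTheory CategoryTheory.Limits AlgebraicGeometry TopologicalSpace Opposite
open Constr

namespace Groth.Agent.S9580

open Groth.Agent.Lib.Helper3 Groth.Agent.Lib.Helper3.InvGen Groth.Agent.Lib.Helper3.QCSec in
/-- `O(d)|_Y` is invertible if `Y` is covered by opens carrying unit fractions of degree `d` -/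
theorem isInvertible_restrict9580 {R A : Type u} [CommRing R] [CommRing A] [Algebra R A]
    (𝒜 : ℕ → Submodule R A) [GradedAlgebra 𝒜] (Y : (Proj 𝒜).Opens) (d : ℤ)
    (h : ∀ y : Proj 𝒜, y ∈ Y → ∃ U : (Proj 𝒜).Opens, y ∈ U ∧ TwistBasic.HasUnitFrac d U) :
    PicF.IsInvertible ((Twist.twist 𝒜 d).restrict Y.ι) := by
  apply isInvertible_of_isGen
  intro x
  have hx : Y.ι x ∈ Y := by
    have h1 : Y.ι x ∈ Set.range Y.ι := Set.mem_range_self x
    rw [Scheme.Opens.range_ι Y] at h1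
    exact h1
  obtain ⟨U, hxU, hU⟩ := h _ hx
  have hU' : TwistBasic.HasUnitFrac d (Y.ι ''ᵁ (Y.ι ⁻¹ᵁ U)) :=
    hU.mono (Y.ι.image_preimage_le U)
  obtain ⟨e, he⟩ := hU'.exists_isGen
  exact ⟨Y.ι ⁻¹ᵁ U, e, hxU, (InvRestrict.isGen_restrict_iff Y.ι _ _ _).mpr he⟩

open Groth.Agent.Lib.Helper3 in

/-- Let S be a graded ring, X = Proj S and Y ⊆ X a quasi-compact open subscheme. Then there is an
integer d ≥ 1 such that Y is contained in the open W_d, the union of the standard opens D_+(ab) over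
homogeneous a, b with deg a = deg b + d, and such that the restriction O_Y(nd) of O_X(nd) to Y is
invertible for every integer n. (The remaining assertions — the multiplication maps among the
O_Y(nd) and M~(nd) are isomorphisms, D_+(f) ∩ Y = Y_s, and the loci Y_s form a basis — are not
stated here.) -/
theorem result {R A : Type u} [CommRing R] [CommRing A] [Algebra R A] (𝒜 : ℕ → Submodule R A) [GradedAlgebra 𝒜]
    (Y : (Proj 𝒜).Opens) (hY : IsCompact (Y : Set (Proj 𝒜))) :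
    ∃ d : ℕ, 0 < d ∧
      (∀ y : Proj 𝒜, y ∈ Y → ∃ (i j : ℕ) (a b : A), a ∈ 𝒜 i ∧ b ∈ 𝒜 j ∧ i = j + d ∧ y ∈ Proj.basicOpen 𝒜 (a * b)) ∧
      ∀ n : ℤ, PicF.IsInvertible ((Twist.twist 𝒜 (n * d)).restrict Y.ι) := by
  classical
  -- every point lies in some `D₊(f)`, `f` homogeneous of positive degree
  have hpt : ∀ y : Proj 𝒜, ∃ (e : ℕ) (f : A), 0 < e ∧ f ∈ 𝒜 e ∧ y ∈ Proj.basicOpen 𝒜 f := by
    intro y
    let i := (Proj.affineOpenCover 𝒜).idx y
    have h1 : y ∈ (Proj.awayι 𝒜 (i.2 : A) i.2.2 i.1.2).opensRange :=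
      (Proj.affineOpenCover 𝒜).covers y
    rw [Proj.opensRange_awayι] at h1
    exact ⟨i.1, i.2, i.1.2, i.2.2, h1⟩
  choose e f he hf hyf using hpt
  obtain ⟨t, ht⟩ := hY.elim_finite_subcover (fun y : Proj 𝒜 => (Proj.basicOpen 𝒜 (f y) : Set (Proj 𝒜)))
    (fun y => (Proj.basicOpen 𝒜 (f y)).2) (fun y _ => Set.mem_iUnion.mpr ⟨y, hyf y⟩)
  let d : ℕ := ∏ y ∈ t, e y
  have hd : 0 < d := Finset.prod_pos fun y _ => he y
  have key : ∀ y : Proj 𝒜, y ∈ Y → ∃ y' : Proj 𝒜, e y' ∣ d ∧ y ∈ Proj.basicOpen 𝒜 (f y') := by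
    intro y hy
    obtain ⟨y', hy'⟩ := Set.mem_iUnion.mp (ht hy)
    obtain ⟨hy't, hyy'⟩ := Set.mem_iUnion.mp hy'
    exact ⟨y', Finset.dvd_prod_of_mem e hy't, hyy'⟩
  refine ⟨d, hd, fun y hy => ?_, fun n => ?_⟩
  · obtain ⟨y', hdvd, hyy'⟩ := key y hy
    obtain ⟨k, hk⟩ := hdvd
    refine ⟨(k + 1) • e y', e y', f y' ^ (k + 1), f y', SetLike.pow_mem_graded (k + 1) (hf y'),
      hf y', ?_, ?_⟩
    · rw [hk, smul_eq_mul]; ring
    · rw [← pow_succ, Proj.basicOpen_pow 𝒜 (f y') (k + 1 + 1) (Nat.succ_pos _)]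
      exact hyy'
  · apply isInvertible_restrict9580
    intro y hy
    obtain ⟨y', hdvd, hyy'⟩ := key y hy
    obtain ⟨k, hk⟩ := hdvd
    refine ⟨Proj.basicOpen 𝒜 (f y'), hyy', ?_⟩
    have h1 := (TwistBasic.hasUnitFrac_basicOpen (hf y')).zsmul (n * k)
    have e1 : n * (k : ℤ) * (e y' : ℤ) = n * (d : ℤ) := by
      rw [hk]; push_cast; ring
    rwa [e1] at h1

end Groth.Agent.S9580
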