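import Groth.Statements.S9582
import Mathlib

set_option autoImplicit false
universe u
open CAlg

namespace Groth.Agent.S9582

/-- For a reduced ring R, the primes weakly associated to the R-module R (primes minimal over the
annihilator of some element) are exactly the minimal primes of R. -/
theorem result {R : Type u} [CommRing R] [IsReduced R] :
    FlatCA.weakAss R R = minimalPrimes R := by
  classical
  ext p
  constructor
  · rintro ⟨m, hp⟩
    have hmemI : ∀ a : R, a ∈ (Submodule.span R {m}).annihilator ↔ a * m = 0 := by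
      intro a
      rw [Submodule.mem_annihilator_span_singleton, smul_eq_mul]
    haveI hpp : p.IsPrime := hp.1.1
    have hIp : (Submodule.span R {m}).annihilator ≤ p := hp.1.2
    have factA : ∀ y ∈ p, ∃ s ∉ p, s * y * m = 0 := by
      intro y hy
      have h := IsLocalization.AtPrime.radical_map_of_mem_minimalPrimes
        (A := Localization.AtPrime p) p _ hp
      have hy' : algebraMap R (Localization.AtPrime p) y ∈
          (((Submodule.span R {m}).annihilator).map
            (algebraMap R (Localization.AtPrime p))).radical := by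
        rw [h]; exact Ideal.mem_map_of_mem _ hy
      obtain ⟨n, hn⟩ := hy'
      rw [IsLocalization.mem_map_algebraMap_iff (M := p.primeCompl)] at hn
      obtain ⟨⟨a, b⟩, hab⟩ := hn
      rw [← map_pow, ← map_mul, IsLocalization.eq_iff_exists p.primeCompl] at hab
      obtain ⟨t, ht⟩ := hab
      simp only at ht
      have h1 : (t : R) * b * y ^ n ∈ (Submodule.span R {m}).annihilator := by
        have h3 : (t : R) * b * y ^ n = t * a := by rw [← ht]; ring
        rw [h3]; exact Ideal.mul_mem_left _ _ a.2
      have h4 := (hmemI _).mp h1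
      have h2 : ((t : R) * b * y * m) ^ (n + 1) = 0 := by
        calc ((t : R) * b * y * m) ^ (n + 1)
            = ((t : R) * b * y ^ n * m) * (((t : R) * b) ^ n * y * m ^ n) := by ring
          _ = 0 := by rw [h4, zero_mul]
      exact ⟨t * b, (t * b).2, IsReduced.eq_zero _ ⟨n + 1, h2⟩⟩
    by_contra hmin
    have hdisj : Disjoint ((⊥ : Ideal R) : Set R) (p.primeCompl ⊔ Submonoid.powers m : Submonoid R) := by
      rw [Set.disjoint_left]
      intro x hx hxS
      rw [SetLike.mem_coe, Ideal.mem_bot] at hx
      rw [SetLike.mem_coe, Submonoid.mem_sup] at hxS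
      obtain ⟨s, hs, _, ⟨k, rfl⟩, hsk⟩ := hxS
      rw [hx] at hsk
      have h5 : (s * m) ^ (k + 1) = 0 := by
        calc (s * m) ^ (k + 1) = (s * m ^ k) * (s ^ k * m) := by ring
          _ = 0 := by rw [hsk, zero_mul]
      have h6 : s * m = 0 := IsReduced.eq_zero _ ⟨k + 1, h5⟩
      exact hs (hIp ((hmemI s).mpr h6))
    obtain ⟨q, hq, -, hqS⟩ := Ideal.exists_le_prime_disjoint (⊥ : Ideal R) _ hdisj
    have hqp : q ≤ p := by
      intro x hx
      by_contra hxp
      exact Set.disjoint_left.mp hqS hx (Submonoid.mem_sup_left (show x ∈ p.primeCompl from hxp))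
    have hmq : m ∉ q := fun hm =>
      Set.disjoint_left.mp hqS hm (Submonoid.mem_sup_right (Submonoid.mem_powers m))
    obtain ⟨q', hq', hq'q⟩ := Ideal.exists_minimalPrimes_le (I := ⊥) (J := q) bot_le
    haveI : q'.IsPrime := hq'.1.1
    have hnle : ¬ p ≤ q' := by
      intro hle
      have : p = q' := le_antisymm hle (hq'q.trans hqp)
      exact hmin (this ▸ hq')
    obtain ⟨y, hyp, hyq'⟩ := Set.not_subset.mp hnle
    obtain ⟨s, hs, hsym⟩ := factA y hyp
    have h7 : s * y * m ∈ q' := by rw [hsym]; exact Ideal.zero_mem _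
    rcases ‹q'.IsPrime›.mem_or_mem h7 with h8 | h8
    · rcases ‹q'.IsPrime›.mem_or_mem h8 with h9 | h9
      · exact hs (hqp (hq'q h9))
      · exact hyq' h9
    · exact hmq (hq'q h8)
  · intro hp
    refine ⟨1, ?_⟩
    have : (Submodule.span R {(1 : R)}).annihilator = ⊥ := by
      ext a
      rw [Submodule.mem_annihilator_span_singleton, smul_eq_mul, mul_one, Ideal.mem_bot]
    rw [this]
    exact hp

end Groth.Agent.S9582
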