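import Groth.Statements.S9583


set_option autoImplicit false
universe u
open CAlg

namespace Groth.Agent.S9583

theorem minimalPrimes_of_le_of_le {R : Type*} [CommRing R] {I J p : Ideal R}
    (hp : p ∈ I.minimalPrimes) (hIJ : I ≤ J) (hJp : J ≤ p) : p ∈ J.minimalPrimes :=
  ⟨⟨hp.1.1, hJp⟩, fun _ hq hqp => hp.2 ⟨hq.1, hIJ.trans hq.2⟩ hqp⟩

theorem ann_eq_of_injective {R : Type*} [CommRing R] {M N : Type*} [AddCommGroup M] [Module R M]
    [AddCommGroup N] [Module R N] (f : M →ₗ[R] N) (hf : Function.Injective f) (m : M) :
    (Submodule.span R {f m}).annihilator = (Submodule.span R {m}).annihilator := by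
  ext a
  rw [Submodule.mem_annihilator_span_singleton, Submodule.mem_annihilator_span_singleton,
    ← map_smul]
  exact ⟨fun h => hf (by rw [h, map_zero]), fun h => by rw [h, map_zero]⟩

/-- For a ring R and a short exact sequence 0 → M' → M → M'' → 0 of R-modules, every prime weakly
associated to M' is weakly associated to M, and every prime weakly associated to M is weakly
associated to M' or to M''. -/
theorem result {R : Type u} [CommRing R] {M' M M'' : Type u} [AddCommGroup M'] [Module R M'] [AddCommGroup M] [Module R M] [AddCommGroup M''] [Module R M''] (f : M' →ₗ[R] M) (g : M →ₗ[R] M'') (hf : Function.Injective f) (hg : Function.Surjective g) (hfg : Function.Exact f g) :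
    FlatCA.weakAss R M' ⊆ FlatCA.weakAss R M ∧ FlatCA.weakAss R M ⊆ FlatCA.weakAss R M' ∪ FlatCA.weakAss R M'' := by
  constructor
  · rintro p ⟨m', hp⟩
    refine ⟨f m', ?_⟩
    rw [ann_eq_of_injective f hf m']
    exact hp
  · rintro p ⟨m, hp⟩
    by_cases hle : (Submodule.span R {g m}).annihilator ≤ p
    · right
      refine ⟨g m, minimalPrimes_of_le_of_le hp ?_ hle⟩
      intro a ha
      rw [Submodule.mem_annihilator_span_singleton] at ha ⊢
      rw [← map_smul, ha, map_zero]
    · left
      obtain ⟨x, hx, hxp⟩ := SetLike.not_le_iff_exists.mp hle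
      rw [Submodule.mem_annihilator_span_singleton] at hx
      have hker : g (x • m) = 0 := by rw [map_smul]; exact hx
      obtain ⟨m', hm'⟩ := (hfg (x • m)).mp hker
      refine ⟨m', ?_⟩
      rw [← ann_eq_of_injective f hf m', hm']
      refine minimalPrimes_of_le_of_le hp ?_ ?_
      · intro a ha
        rw [Submodule.mem_annihilator_span_singleton] at ha ⊢
        rw [smul_comm, ha, smul_zero]
      · intro a ha
        rw [Submodule.mem_annihilator_span_singleton] at ha
        have h1 : a * x ∈ p := hp.1.2 (by
          rw [Submodule.mem_annihilator_span_singleton, mul_smul]; exact ha)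
        exact (hp.1.1.mem_or_mem h1).resolve_right hxp

end Groth.Agent.S9583
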