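import Groth.Statements.S9585


set_option autoImplicit false
universe u
open CAlg

namespace Groth.Agent.S9585

/-- For a ring R and an R-module M, an element of R lies in some weakly associated prime of M exactly
when multiplication by it on M is not injective; in other words the union of the weakly associated
primes of M equals the set of zerodivisors on M. -/
theorem result {R : Type u} [CommRing R] (M : Type u) [AddCommGroup M] [Module R M] :
    ⋃ q ∈ FlatCA.weakAss R M, (q : Set R) = {f : R | ¬ IsSMulRegular M f} := by
  ext f
  simp only [Set.mem_iUnion, SetLike.mem_coe, Set.mem_setOf_eq, exists_prop]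
  constructor
  · rintro ⟨q, ⟨m, hq⟩, hfq⟩ hreg
    obtain ⟨y, hy, hfy⟩ := Ideal.exists_mul_mem_of_mem_minimalPrimes hq hfq
    rw [Submodule.mem_annihilator_span_singleton] at hy hfy
    have h1 : f • (y • m) = f • (0 : M) := by
      rw [smul_zero, ← mul_smul]; exact hfy
    exact hy (hreg h1)
  · intro hreg
    have hex : ∃ m : M, m ≠ 0 ∧ f • m = 0 := by
      by_contra hcon
      push_neg at hcon
      apply hreg
      intro a b hab
      by_contra hne
      exact hcon (a - b) (sub_ne_zero.mpr hne) (by rw [smul_sub]; exact sub_eq_zero.mpr hab)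
    obtain ⟨m, hm0, hfm⟩ := hex
    have hne : (Submodule.span R {m}).annihilator ≠ ⊤ := by
      intro htop
      rw [Submodule.annihilator_eq_top_iff, Submodule.span_singleton_eq_bot] at htop
      exact hm0 htop
    obtain ⟨⟨q, hq⟩⟩ := Ideal.nonempty_minimalPrimes hne
    exact ⟨q, ⟨m, hq⟩, hq.1.2 ((Submodule.mem_annihilator_span_singleton m f).mpr hfm)⟩

end Groth.Agent.S9585
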