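import Groth.Statements.S9594
import Groth.Agent.Lib.Helper9.WeakAssLib

set_option autoImplicit false
universe u
open CAlg

namespace Groth.Agent.S9594

open Groth.Agent.Lib.Helper9.WeakAssLib

/-- For a ring R, an R-module M and a multiplicative subset S of R, (1) the primes of R associated to
the R-module S⁻¹M are the inverse images of the primes of S⁻¹R associated to S⁻¹M, and (2) a prime
of R associated to M which does not meet S is associated to the R-module S⁻¹M. Here a prime is
associated to a module when it equals the annihilator of some element. -/
theorem result {R : Type u} [CommRing R] (S : Submonoid R) (M : Type u) [AddCommGroup M] [Module R M] :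
    FlatCA.ass R (LocalizedModule S M) = Ideal.comap (algebraMap R (Localization S)) '' FlatCA.ass (Localization S) (LocalizedModule S M) ∧
      ∀ p ∈ FlatCA.ass R M, Disjoint (S : Set R) (p : Set R) → p ∈ FlatCA.ass R (LocalizedModule S M) := by
  refine ⟨?_, ?_⟩
  · ext p
    constructor
    · rintro ⟨hp, y, rfl⟩
      refine ⟨(Submodule.span (Localization S) {y}).annihilator, ⟨?_, y, rfl⟩,
        (annR_eq_comap S y).symm⟩
      have hdisj : Disjoint (S : Set R) ((Submodule.span R {y}).annihilator : Set R) := by
        rw [Set.disjoint_left]
        intro s hs hsy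
        rw [SetLike.mem_coe, Submodule.mem_annihilator_span_singleton] at hsy
        have hy0 : y = 0 := by
          refine IsLocalizedModule.smul_injective (LocalizedModule.mkLinearMap S M) ⟨s, hs⟩ ?_
          show (⟨s, hs⟩ : S) • y = (⟨s, hs⟩ : S) • (0 : LocalizedModule S M)
          rw [smul_zero]
          exact hsy
        apply hp.ne_top
        rw [hy0, Submodule.annihilator_eq_top_iff, Submodule.span_singleton_eq_bot]
      rw [← IsLocalization.map_under S (Localization S)
        (Submodule.span (Localization S) {y}).annihilator]
      show (Ideal.map _ (Ideal.comap _ _)).IsPrime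
      rw [← annR_eq_comap S y]
      exact IsLocalization.isPrime_of_isPrime_disjoint S (Localization S) _ hp hdisj
    · rintro ⟨q, ⟨hq, y, rfl⟩, rfl⟩
      refine ⟨?_, y, (annR_eq_comap S y).symm⟩
      haveI := hq
      exact Ideal.comap_isPrime _ _
  · rintro p ⟨hp, m, rfl⟩ hdisj
    refine ⟨hp, LocalizedModule.mk m 1, ?_⟩
    ext a
    rw [mem_annR_mk]
    constructor
    · intro ha
      rw [Submodule.mem_annihilator_span_singleton] at ha
      exact ⟨1, by rw [mul_smul, ha, smul_zero]⟩
    · rintro ⟨t, ht⟩
      have h1 : (t : R) * a ∈ (Submodule.span R {m}).annihilator :=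
        (Submodule.mem_annihilator_span_singleton _ _).mpr ht
      exact (hp.mem_or_mem h1).resolve_left (fun h => Set.disjoint_left.mp hdisj t.2 h)

end Groth.Agent.S9594
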