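import Groth.Statements.S9597
import Mathlib.RingTheory.Ideal.AssociatedPrime.Localization
import Mathlib.RingTheory.Ideal.Quotient.Noetherian

set_option autoImplicit false
universe u
open CAlg

namespace Groth.Agent.S9597


theorem comap_mem_ass {R : Type*} [CommRing R] [IsNoetherianRing R] (M : Type*) [AddCommGroup M]
    [Module R M] [Module.Finite R M]
    (P : Ideal (R ⧸ Module.annihilator R M))
    (hP : P ∈ associatedPrimes (R ⧸ Module.annihilator R M) (R ⧸ Module.annihilator R M)) :
    P.comap (Ideal.Quotient.mk (Module.annihilator R M)) ∈ associatedPrimes R M := by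
  classical
  obtain ⟨hPp, xb, hx⟩ := isAssociatedPrime_iff.mp hP
  obtain ⟨x, rfl⟩ := Ideal.Quotient.mk_surjective xb
  obtain ⟨s, hs⟩ := (Module.Finite.fg_top : (⊤ : Submodule R M).FG)
  have hpp : (P.comap (Ideal.Quotient.mk (Module.annihilator R M))).IsPrime := by
    haveI := hPp
    exact Ideal.comap_isPrime _ _
  have hmem : ∀ a : R, a ∈ P.comap (Ideal.Quotient.mk (Module.annihilator R M)) ↔
      ∀ m ∈ s, (a * x) • m = 0 := by
    intro a
    rw [Ideal.mem_comap, hx, Submodule.mem_colon_singleton, Submodule.mem_bot, smul_eq_mul,
      ← map_mul, Ideal.Quotient.eq_zero_iff_mem, Module.mem_annihilator]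
    constructor
    · intro h m _
      exact h m
    · intro h m
      have hm : m ∈ Submodule.span R (s : Set M) := hs ▸ Submodule.mem_top
      induction hm using Submodule.span_induction with
      | mem m hm => exact h m hm
      | zero => exact smul_zero _
      | add m n _ _ hm hn => rw [smul_add, hm, hn, add_zero]
      | smul c m _ hm => rw [smul_comm, hm, smul_zero]
  have hle : s.inf (fun m => Submodule.colon (⊥ : Submodule R M) {x • m}) ≤
      P.comap (Ideal.Quotient.mk (Module.annihilator R M)) := by
    intro a ha
    rw [Submodule.mem_finsetInf] at ha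
    rw [hmem]
    intro m hm
    have h1 := ha m hm
    rw [Submodule.mem_colon_singleton, Submodule.mem_bot, ← mul_smul] at h1
    exact h1
  obtain ⟨m, hms, hm⟩ := (Ideal.IsPrime.inf_le' hpp).mp hle
  refine isAssociatedPrime_iff.mpr ⟨hpp, x • m, le_antisymm ?_ hm⟩
  intro a ha
  rw [Submodule.mem_colon_singleton, Submodule.mem_bot, ← mul_smul]
  exact (hmem a).mp ha m hms

/-- Let R be a Noetherian ring, M a finite R-module whose associated primes are pairwise incomparable
under inclusion (M has no embedded associated primes), and I the annihilator of M. Then the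
associated primes of R/I, viewed as a module over itself, are again pairwise incomparable: R/I has
no embedded primes either. -/
theorem result {R : Type u} [CommRing R] [IsNoetherianRing R] (M : Type u) [AddCommGroup M] [Module R M] [Module.Finite R M] (hM : ∀ p ∈ associatedPrimes R M, ∀ q ∈ associatedPrimes R M, p ≤ q → p = q) :
    ∀ p ∈ associatedPrimes (R ⧸ Module.annihilator R M) (R ⧸ Module.annihilator R M), ∀ q ∈ associatedPrimes (R ⧸ Module.annihilator R M) (R ⧸ Module.annihilator R M), p ≤ q → p = q := by
  intro P hP Q hQ hPQ
  have h1 := comap_mem_ass M P hP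
  have h2 := comap_mem_ass M Q hQ
  have h3 := hM _ h1 _ h2 (Ideal.comap_mono hPQ)
  exact Ideal.comap_injective_of_surjective _ Ideal.Quotient.mk_surjective h3

end Groth.Agent.S9597
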