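import Groth.Statements.S9598
import Mathlib.RingTheory.Jacobson.Ring
import Mathlib.RingTheory.Ideal.AssociatedPrime.Finiteness
import Mathlib.RingTheory.KrullDimension.Basic
import Mathlib.RingTheory.FiniteType

set_option autoImplicit false
universe u
open CAlg

namespace Groth.Agent.S9598

/-- For a field k and a finite type k-algebra S with dim S > 0, some element of S is a nonzerodivisor
and a nonunit. -/
theorem result {k S : Type u} [Field k] [CommRing S] [Algebra k S] [Algebra.FiniteType k S] (hdim : 0 < ringKrullDim S) :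
    ∃ f : S, f ∈ nonZeroDivisors S ∧ ¬ IsUnit f := by
  classical
  haveI : IsNoetherianRing S := Algebra.FiniteType.isNoetherianRing k S
  haveI : IsJacobsonRing S := isJacobsonRing_of_finiteType (A := k) (B := S)
  have hex : ∃ p0 : Ideal S, p0.IsPrime ∧ ¬ p0.IsMaximal := by
    by_contra hcon
    push Not at hcon
    have h1 : Ring.KrullDimLE 0 S := Ring.krullDimLE_zero_iff.mpr hcon
    have h2 : ringKrullDim S ≤ 0 := by
      have := Ring.krullDimLE_iff.mp h1
      simpa using this
    exact absurd hdim (not_lt.mpr h2)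
  obtain ⟨p0, hp0, hp0max⟩ := hex
  have hfin : (associatedPrimes S S).Finite := associatedPrimes.finite S S
  have hm : ∃ m : Ideal S, m.IsMaximal ∧ m ∉ associatedPrimes S S := by
    by_contra hcon
    push Not at hcon
    have hj : p0.jacobson = p0 := IsJacobsonRing.out ‹_› hp0.isRadical
    let F : Finset (Ideal S) := hfin.toFinset.filter (fun m => p0 ≤ m ∧ m.IsMaximal)
    have hle : F.inf (fun q : Ideal S => q) ≤ p0 := by
      intro x hx
      rw [← hj, Ideal.jacobson, Submodule.mem_sInf]
      rintro m ⟨hpm, hmmax⟩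
      rw [Submodule.mem_finsetInf] at hx
      refine hx m ?_
      rw [Finset.mem_filter, Set.Finite.mem_toFinset]
      exact ⟨hcon m hmmax, hpm, hmmax⟩
    obtain ⟨m, hmF, hmp⟩ := (Ideal.IsPrime.inf_le' hp0).mp hle
    have hmmax : m.IsMaximal := (Finset.mem_filter.mp hmF).2.2
    have hmp0 : m = p0 := hmmax.eq_of_le hp0.ne_top hmp
    exact hp0max (hmp0 ▸ hmmax)
  obtain ⟨m, hmmax, hmass⟩ := hm
  have hnot : ¬ ((m : Set S) ⊆ ⋃ p ∈ associatedPrimes S S, (p : Set S)) := by
    intro hsub
    have hsub' : (m : Set S) ⊆ ⋃ p ∈ (hfin.toFinset : Set (Ideal S)),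
        ((fun q : Ideal S => q) p : Set S) := by
      rw [hfin.coe_toFinset]
      exact hsub
    have hprime : ∀ p ∈ hfin.toFinset, p ≠ ⊥ → p ≠ ⊥ → ((fun q : Ideal S => q) p).IsPrime :=
      fun p hp _ _ => (hfin.mem_toFinset.mp hp).isPrime
    obtain ⟨p, hpF, hmp⟩ := (Ideal.subset_union_prime (f := fun q : Ideal S => q) ⊥ ⊥ hprime).mp hsub'
    have hpass := hfin.mem_toFinset.mp hpF
    have hmp' : m = p := hmmax.eq_of_le hpass.isPrime.ne_top hmp
    exact hmass (hmp' ▸ hpass)
  obtain ⟨f, hfm, hf⟩ := Set.not_subset.mp hnot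
  refine ⟨f, ?_, fun hu => hmmax.ne_top (Ideal.eq_top_of_isUnit_mem _ hfm hu)⟩
  by_contra hnz
  apply hf
  rw [biUnion_associatedPrimes_eq_compl_nonZeroDivisors S]
  exact hnz

end Groth.Agent.S9598
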