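import Groth.Statements.S9599
import Mathlib.RingTheory.AdicCompletion.Exactness
import Mathlib.RingTheory.Flat.Equalizer
import Mathlib.LinearAlgebra.TensorProduct.Quotient

set_option autoImplicit false
universe u
open CAlg

namespace Groth.Agent.S9599


theorem comap_smul_top_of_flat {R : Type*} [CommRing R] (J : Ideal R) {K M N : Type*}
    [AddCommGroup K] [Module R K] [AddCommGroup M] [Module R M] [AddCommGroup N] [Module R N]
    [Module.Flat R N] (i : K →ₗ[R] M) (g : M →ₗ[R] N) (hi : Function.Injective i)
    (hg : Function.Surjective g) (hig : Function.Exact i g) :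
    Submodule.comap i (J • (⊤ : Submodule R M)) ≤ J • (⊤ : Submodule R K) := by
  intro k hk
  rw [Submodule.mem_comap] at hk
  have hinj := LinearMap.lTensor_injective_of_exact_of_flat g hg i hi hig (R ⧸ J)
  have h1 : (i.lTensor (R ⧸ J)) ((1 : R ⧸ J) ⊗ₜ[R] k) = 0 := by
    rw [LinearMap.lTensor_tmul]
    apply (TensorProduct.quotTensorEquivQuotSMul M J).injective
    rw [TensorProduct.quotTensorEquivQuotSMul_mk_one_tmul, map_zero,
      Submodule.Quotient.mk_eq_zero]
    exact hk
  have h2 : ((1 : R ⧸ J) ⊗ₜ[R] k) = 0 := hinj (by rw [h1, map_zero])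
  have h3 := congrArg (TensorProduct.quotTensorEquivQuotSMul K J) h2
  rw [TensorProduct.quotTensorEquivQuotSMul_mk_one_tmul, map_zero,
    Submodule.Quotient.mk_eq_zero] at h3
  exact h3

/-- For a ring R, an ideal I of R and a short exact sequence 0 → K → M → N → 0 of R-modules with N flat
over R, the induced sequence of I-adic completions 0 → K^ → M^ → N^ → 0 is again short exact. -/
theorem result {R : Type u} [CommRing R] (I : Ideal R) {K M N : Type u} [AddCommGroup K] [Module R K] [AddCommGroup M] [Module R M] [AddCommGroup N] [Module R N] [Module.Flat R N] (i : K →ₗ[R] M) (g : M →ₗ[R] N) (hi : Function.Injective i) (hg : Function.Surjective g) (hig : Function.Exact i g) :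
    Function.Injective (AdicCompletion.map I i) ∧ Function.Exact (AdicCompletion.map I i) (AdicCompletion.map I g) ∧ Function.Surjective (AdicCompletion.map I g) := by
  refine ⟨?_, ?_, AdicCompletion.map_surjective I hg⟩
  · rw [← LinearMap.ker_eq_bot, LinearMap.ker_eq_bot']
    intro x
    apply AdicCompletion.induction_on I K x (fun a ↦ ?_)
    intro hx
    refine AdicCompletion.mk_zero_of _ _ _ ⟨0, fun n _ ↦ ⟨n, le_rfl, n, le_rfl, ?_⟩⟩
    apply comap_smul_top_of_flat (I ^ n) i g hi hg hig
    rw [Submodule.mem_comap]
    simpa using congrArg (fun x ↦ x.val n) hx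
  · intro y
    constructor
    · intro hy
      obtain ⟨b, rfl⟩ := AdicCompletion.mk_surjective I M y
      have hgb : ∀ n, ∃ e : M, e ∈ (I ^ n • ⊤ : Submodule R M) ∧ g e = g (b n) := by
        intro n
        have h1 : g (b n) ∈ (I ^ n • ⊤ : Submodule R N) := by
          simpa using congrArg (fun x ↦ x.val n) hy
        have h2 : (I ^ n • ⊤ : Submodule R N) =
            Submodule.map g (I ^ n • ⊤ : Submodule R M) := by
          rw [Submodule.map_smul'', Submodule.map_top, LinearMap.range_eq_top.mpr hg]
        rw [h2] at h1
        obtain ⟨e, he, hge⟩ := h1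
        exact ⟨e, he, hge⟩
      choose e he hge using hgb
      have hex : ∀ n, ∃ a : K, i a = b n - e n := fun n =>
        (hig (b n - e n)).mp (by rw [map_sub, hge, sub_self])
      choose a ha using hex
      have hcau : ∀ n, a n ≡ a (n + 1) [SMOD (I ^ n • ⊤ : Submodule R K)] := by
        intro n
        rw [SModEq.sub_mem]
        apply comap_smul_top_of_flat (I ^ n) i g hi hg hig
        rw [Submodule.mem_comap, map_sub, ha, ha]
        have h1 : b n - b (n + 1) ∈ (I ^ n • ⊤ : Submodule R M) := by
          rw [← SModEq.sub_mem]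
          exact b.property (Nat.le_succ n)
        have h2 : e (n + 1) ∈ (I ^ n • ⊤ : Submodule R M) :=
          Submodule.smul_mono_left (Ideal.pow_le_pow_right (Nat.le_succ n)) (he (n + 1))
        have h3 : b n - e n - (b (n + 1) - e (n + 1)) =
            (b n - b (n + 1)) - e n + e (n + 1) := by abel
        rw [h3]
        exact Submodule.add_mem _ (Submodule.sub_mem _ h1 (he n)) h2
      refine ⟨AdicCompletion.mk I K (AdicCompletion.AdicCauchySequence.mk I K a hcau), ?_⟩
      rw [AdicCompletion.map_mk]
      apply AdicCompletion.ext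
      intro n
      show Submodule.Quotient.mk (i (a n)) = Submodule.Quotient.mk (b n)
      rw [ha, Submodule.Quotient.mk_sub, (Submodule.Quotient.mk_eq_zero _).mpr (he n), sub_zero]
    · rintro ⟨x, rfl⟩
      rw [AdicCompletion.map_comp_apply, hig.linearMap_comp_eq_zero, AdicCompletion.map_zero,
        LinearMap.zero_apply]

end Groth.Agent.S9599
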