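import Groth.Statements.S9600
import Mathlib.RingTheory.AdicCompletion.Exactness

set_option autoImplicit false
universe u
open CAlg

namespace Groth.Agent.S9600

/-- Let R be a ring, I an ideal of R and 0 → M → N → Q → 0 a short exact sequence of R-modules in which
Q is killed by some power I^c of I. Then on I-adic completions the map M^ → N^ is injective, N^ → Q^
is surjective with kernel equal to the image of M^, and the canonical map Q → Q^ is bijective; so 0
→ M^ → N^ → Q → 0 is again short exact. -/
theorem result {R : Type u} [CommRing R] (I : Ideal R) {M N Q : Type u} [AddCommGroup M] [Module R M] [AddCommGroup N] [Module R N] [AddCommGroup Q] [Module R Q] (i : M →ₗ[R] N) (g : N →ₗ[R] Q) (hi : Function.Injective i) (hg : Function.Surjective g) (hig : Function.Exact i g) (c : ℕ) (hc : ∀ x ∈ I ^ c, ∀ q : Q, x • q = 0) :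
    Function.Injective (AdicCompletion.map I i) ∧ Function.Exact (AdicCompletion.map I i) (AdicCompletion.map I g) ∧ Function.Surjective (AdicCompletion.map I g) ∧ Function.Bijective (AdicCompletion.of I Q) := by
  have hrange : (I ^ c • ⊤ : Submodule R N) ≤ LinearMap.range i := by
    rw [Submodule.smul_le]
    intro r hr y _
    rw [← LinearMap.exact_iff.mp hig, LinearMap.mem_ker, map_smul]
    exact hc r hr (g y)
  have hle : ∀ n, (I ^ (n + c) • ⊤ : Submodule R N) ≤ I ^ n • LinearMap.range i := by
    intro n
    rw [pow_add, Submodule.mul_smul]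
    exact Submodule.smul_mono le_rfl hrange
  have hbot : ∀ n, c ≤ n → (I ^ n • ⊤ : Submodule R Q) = ⊥ := by
    intro n hn
    rw [eq_bot_iff, Submodule.smul_le]
    intro r hr q _
    rw [Submodule.mem_bot]
    exact hc r (Ideal.pow_le_pow_right hn hr) q
  refine ⟨?_, ?_, AdicCompletion.map_surjective I hg, ?_⟩
  · rw [← LinearMap.ker_eq_bot, LinearMap.ker_eq_bot']
    intro x
    apply AdicCompletion.induction_on I M x (fun a ↦ ?_)
    intro hx
    refine AdicCompletion.mk_zero_of _ _ _ ⟨0, fun n _ ↦ ⟨n + c, by omega, n, le_rfl, ?_⟩⟩
    rw [← Submodule.comap_map_eq_of_injective hi (I ^ n • ⊤ : Submodule R M),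
      Submodule.map_smul'', Submodule.map_top, Submodule.mem_comap]
    apply hle n
    simpa using congrArg (fun x ↦ x.val (n + c)) hx
  · intro y
    constructor
    · intro hy
      obtain ⟨b, rfl⟩ := AdicCompletion.mk_surjective I N y
      have hgb : ∀ n, g (b (n + c)) = 0 := by
        intro n
        have h1 : g (b (n + c)) ∈ (I ^ (n + c) • ⊤ : Submodule R Q) := by
          simpa using congrArg (fun x ↦ x.val (n + c)) hy
        rw [hbot (n + c) (Nat.le_add_left c n), Submodule.mem_bot] at h1
        exact h1
      have hex : ∀ n, ∃ a : M, i a = b (n + c) := fun n => (hig (b (n + c))).mp (hgb n)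
      choose a ha using hex
      have hcau : ∀ n, a n ≡ a (n + 1) [SMOD (I ^ n • ⊤ : Submodule R M)] := by
        intro n
        rw [SModEq.sub_mem, ← Submodule.comap_map_eq_of_injective hi (I ^ n • ⊤ : Submodule R M),
          Submodule.mem_comap, Submodule.map_smul'', Submodule.map_top, map_sub, ha, ha]
        apply hle n
        rw [← SModEq.sub_mem]
        exact b.property (by omega)
      refine ⟨AdicCompletion.mk I M (AdicCompletion.AdicCauchySequence.mk I M a hcau), ?_⟩
      rw [AdicCompletion.map_mk]
      apply AdicCompletion.ext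
      intro n
      show Submodule.Quotient.mk (i (a n)) = Submodule.Quotient.mk (b n)
      rw [ha]
      exact AdicCompletion.AdicCauchySequence.mk_eq_mk (Nat.le_add_right n c) b
    · rintro ⟨x, rfl⟩
      rw [AdicCompletion.map_comp_apply, hig.linearMap_comp_eq_zero, AdicCompletion.map_zero,
        LinearMap.zero_apply]
  · have hH : IsHausdorff I Q := ⟨by
      intro x hx
      have h1 := hx c
      rw [SModEq.zero, hbot c le_rfl, Submodule.mem_bot] at h1
      exact h1⟩
    have hP : IsPrecomplete I Q := ⟨by
      intro f hf
      refine ⟨f c, fun n => ?_⟩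
      rcases le_total n c with hn | hn
      · exact hf hn
      · have h1 := hf hn
        rw [SModEq.sub_mem, hbot c le_rfl, Submodule.mem_bot, sub_eq_zero] at h1
        refine SModEq.sub_mem.mpr ?_
        rw [h1, sub_self]
        exact Submodule.zero_mem _⟩
    exact AdicCompletion.of_bijective_iff.mpr { toIsHausdorff := hH, toIsPrecomplete := hP }

end Groth.Agent.S9600
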