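import Groth.Statements.S9601
import Mathlib.RingTheory.AdicCompletion.Basic

set_option autoImplicit false
universe u
open CAlg

namespace Groth.Agent.S9601


theorem ker_eval_le {R : Type*} [CommRing R] (I : Ideal R) (M : Type*) [AddCommGroup M] [Module R M]
    (h : IsPrecomplete I (AdicCompletion I M)) (n : ℕ) :
    LinearMap.ker (AdicCompletion.eval I M n) ≤
      I ^ n • (⊤ : Submodule R (AdicCompletion I M)) := by
  intro x hx
  obtain ⟨a, rfl⟩ := AdicCompletion.mk_surjective I M x
  have hof : ∀ k (z : M), z ∈ (I ^ k • ⊤ : Submodule R M) →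
      AdicCompletion.of I M z ∈ (I ^ k • ⊤ : Submodule R (AdicCompletion I M)) := by
    intro k z hz
    have h1 : Submodule.map (AdicCompletion.of I M) (I ^ k • ⊤) ≤
        (I ^ k • ⊤ : Submodule R (AdicCompletion I M)) := by
      rw [Submodule.map_smul'']
      exact Submodule.smul_mono le_rfl le_top
    exact h1 ⟨z, hz, rfl⟩
  obtain ⟨L, hL⟩ := h.prec' (fun k => AdicCompletion.of I M (a k)) (by
    intro i j hij
    rw [SModEq.sub_mem, ← map_sub]
    apply hof
    rw [← SModEq.sub_mem]
    exact a.property hij)
  have hLx : L = AdicCompletion.mk I M a := by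
    apply AdicCompletion.ext
    intro k
    have h1 := hL k
    rw [SModEq.sub_mem] at h1
    have h2 := AdicCompletion.pow_smul_top_le_ker_eval (I := I) (M := M) k h1
    rw [LinearMap.mem_ker, map_sub, AdicCompletion.eval_of, sub_eq_zero] at h2
    rw [← AdicCompletion.eval_apply, ← h2]
    rfl
  subst hLx
  have hn := hL n
  rw [LinearMap.mem_ker, AdicCompletion.eval_apply] at hx
  have han : a n ∈ (I ^ n • ⊤ : Submodule R M) := by
    rw [← Submodule.Quotient.mk_eq_zero]
    exact hx
  have h3 := hof n (a n) han
  rw [SModEq.sub_mem] at hn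
  have h4 : AdicCompletion.mk I M a = AdicCompletion.of I M (a n) -
      (AdicCompletion.of I M (a n) - AdicCompletion.mk I M a) := by abel
  rw [h4]
  exact Submodule.sub_mem _ h3 hn

/-- For a ring R, an ideal I of R and an R-module M, let M^ be the I-adic completion and K_n the kernel
of the projection M^ → M/IⁿM. The completion M^ is I-adically complete exactly when K_n = Iⁿ M^
holds for every n ≥ 1. -/
theorem result {R : Type u} [CommRing R] (I : Ideal R) (M : Type u) [AddCommGroup M] [Module R M] :
    IsAdicComplete I (AdicCompletion I M) ↔ ∀ n : ℕ, 1 ≤ n → LinearMap.ker (AdicCompletion.eval I M n) = I ^ n • (⊤ : Submodule R (AdicCompletion I M)) := by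
  constructor
  · intro h n _
    exact le_antisymm (ker_eval_le I M h.toIsPrecomplete n)
      (AdicCompletion.pow_smul_top_le_ker_eval (I := I) (M := M) n)
  · intro h
    have hP : IsPrecomplete I (AdicCompletion I M) := ⟨by
      intro f hf
      have hcompat : ∀ {m n : ℕ} (hmn : m ≤ n),
          AdicCompletion.transitionMap I M hmn ((f n).val n) = (f m).val m := by
        intro m n hmn
        rw [(f n).property hmn]
        have h1 := hf hmn
        rw [SModEq.sub_mem] at h1
        have h2 := AdicCompletion.pow_smul_top_le_ker_eval (I := I) (M := M) m h1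
        rw [LinearMap.mem_ker, map_sub, sub_eq_zero, AdicCompletion.eval_apply,
          AdicCompletion.eval_apply] at h2
        exact h2.symm
      let L : AdicCompletion I M := ⟨fun n => (f n).val n, hcompat⟩
      refine ⟨L, fun n => ?_⟩
      rcases Nat.eq_zero_or_pos n with rfl | hn
      · rw [SModEq.sub_mem, pow_zero, Ideal.one_eq_top, Submodule.top_smul]
        exact Submodule.mem_top
      · rw [SModEq.sub_mem, ← h n hn, LinearMap.mem_ker, map_sub, sub_eq_zero,
          AdicCompletion.eval_apply, AdicCompletion.eval_apply]⟩
    exact { toIsHausdorff := inferInstance, toIsPrecomplete := hP }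

end Groth.Agent.S9601
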