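import Groth.Statements.S9602
import Mathlib.RingTheory.AdicCompletion.Algebra
import Mathlib.RingTheory.Ideal.Quotient.Nilpotent
import Mathlib.RingTheory.Jacobson.Ideal

set_option autoImplicit false
universe u
open CAlg

namespace Groth.Agent.S9602


theorem isUnit_of_evalOne {R : Type*} [CommRing R] (I : Ideal R) (x : AdicCompletion I R)
    (hx : IsUnit (AdicCompletion.evalOneₐ I x)) : IsUnit x := by
  obtain ⟨a, rfl⟩ := AdicCompletion.mk_surjective I R x
  have h1 : IsUnit (Ideal.Quotient.mk I (a.val 1)) := by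
    have h0 : AdicCompletion.evalOneₐ I (AdicCompletion.mk I R a) =
        Ideal.Quotient.mk I (a.val 1) := by
      rw [← AdicCompletion.factorₐ_evalₐ_one, AdicCompletion.evalₐ_mk]
      rfl
    rwa [h0] at hx
  have hn : ∀ n : ℕ, n ≠ 0 → IsUnit (Ideal.Quotient.mk (I ^ n) (a.val n)) := by
    intro n hn0
    rw [Ideal.Quotient.isUnit_mk_pow_iff_isUnit_mk I hn0]
    have h2 := AdicCompletion.Ideal.mk_eq_mk I (Nat.one_le_iff_ne_zero.mpr hn0) a
    rw [pow_one] at h2
    rw [h2]
    exact h1
  have hb : ∀ n : ℕ, ∃ b : R, a.val n * b - 1 ∈ I ^ n := by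
    intro n
    by_cases hn0 : n = 0
    · subst hn0
      exact ⟨0, by rw [pow_zero, Ideal.one_eq_top]; exact Submodule.mem_top⟩
    · obtain ⟨u, hu⟩ := hn n hn0
      obtain ⟨b, hb⟩ := Ideal.Quotient.mk_surjective (↑u⁻¹ : R ⧸ I ^ n)
      refine ⟨b, ?_⟩
      rw [← Ideal.Quotient.eq, map_mul, map_one, hb, ← hu, Units.mul_inv]
  choose b hb using hb
  have hcauchy : ∀ n, b n ≡ b (n + 1) [SMOD (I ^ n • ⊤ : Submodule R R)] := by
    intro n
    rw [SModEq.sub_mem, smul_eq_mul, Ideal.mul_top]
    have ha : a.val n - a.val (n + 1) ∈ I ^ n := by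
      have h3 := a.property (Nat.le_succ n)
      rw [SModEq.sub_mem, smul_eq_mul, Ideal.mul_top] at h3
      exact h3
    have h3 : a.val (n + 1) * b (n + 1) - 1 ∈ I ^ n :=
      Ideal.pow_le_pow_right (Nat.le_succ n) (hb (n + 1))
    have h4 : b n - b (n + 1) = b (n + 1) * (a.val n * b n - 1) -
        b n * (a.val (n + 1) * b (n + 1) - 1) -
        b n * b (n + 1) * (a.val n - a.val (n + 1)) := by ring
    rw [h4]
    exact Ideal.sub_mem _ (Ideal.sub_mem _ (Ideal.mul_mem_left _ _ (hb n))
      (Ideal.mul_mem_left _ _ h3)) (Ideal.mul_mem_left _ _ ha)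
  refine IsUnit.of_mul_eq_one
    (AdicCompletion.mk I R (AdicCompletion.AdicCauchySequence.mk I R b hcauchy)) ?_
  apply AdicCompletion.ext_evalₐ
  intro n
  rw [map_mul, AdicCompletion.evalₐ_mk, AdicCompletion.evalₐ_mk, map_one, ← map_mul,
    ← map_one (Ideal.Quotient.mk (I ^ n)), Ideal.Quotient.eq]
  exact hb n

/-- Let R be a ring, I an ideal of R and R^ = lim R/Iⁿ the I-adic completion. An element of R^ whose
image in R/I is invertible is itself invertible in R^; and the kernel of R^ → R/I as well as the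
extended ideal I R^ both lie inside the Jacobson radical of R^. -/
theorem result {R : Type u} [CommRing R] (I : Ideal R) :
    (∀ x : AdicCompletion I R, IsUnit (AdicCompletion.evalOneₐ I x) → IsUnit x) ∧
      RingHom.ker (AdicCompletion.evalOneₐ I).toRingHom ≤ (⊥ : Ideal (AdicCompletion I R)).jacobson ∧
      I.map (algebraMap R (AdicCompletion I R)) ≤ (⊥ : Ideal (AdicCompletion I R)).jacobson := by
  have hunit := isUnit_of_evalOne I
  have hker : RingHom.ker (AdicCompletion.evalOneₐ I).toRingHom ≤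
      (⊥ : Ideal (AdicCompletion I R)).jacobson := by
    intro x hx
    rw [RingHom.mem_ker] at hx
    rw [Ideal.mem_jacobson_bot]
    intro y
    apply hunit
    have hx' : AdicCompletion.evalOneₐ I x = 0 := hx
    have h1 : AdicCompletion.evalOneₐ I (x * y + 1) = 1 := by
      rw [map_add, map_mul, hx', zero_mul, zero_add, map_one]
    rw [h1]
    exact isUnit_one
  refine ⟨hunit, hker, le_trans ?_ hker⟩
  rw [Ideal.map_le_iff_le_comap]
  intro r hr
  rw [Ideal.mem_comap, RingHom.mem_ker]
  have h2 := RingHom.congr_fun (AdicCompletion.evalOneₐ_comp_algebraMap_eq_mk I) r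
  rw [RingHom.comp_apply] at h2
  rw [h2]
  exact Ideal.Quotient.eq_zero_iff_mem.mpr hr

end Groth.Agent.S9602
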