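import Groth.Statements.S9603
import Mathlib.RingTheory.AdicCompletion.Basic
import Mathlib.RingTheory.Ideal.Operations

set_option autoImplicit false
universe u
open CAlg

namespace Groth.Agent.S9603


theorem precomplete_sup {A : Type*} [CommRing A] (I J : Ideal A) (M : Type*) [AddCommGroup M]
    [Module A M] (hI : IsPrecomplete I M) (hJ : IsPrecomplete J M) :
    IsPrecomplete (I ⊔ J) M := by
  constructor
  intro y hy
  have hstep : ∀ n, ∃ u ∈ (I ^ n • ⊤ : Submodule A M), ∃ v ∈ (J ^ n • ⊤ : Submodule A M),
      y (2 * (n + 1)) - y (2 * n) = u + v := by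
    intro n
    have h1 : y (2 * n) ≡ y (2 * (n + 1)) [SMOD ((I ⊔ J) ^ (2 * n) • ⊤ : Submodule A M)] :=
      hy (by omega)
    rw [SModEq.sub_mem] at h1
    have h2 : ((I ⊔ J) ^ (2 * n) • ⊤ : Submodule A M) ≤ I ^ n • ⊤ ⊔ J ^ n • ⊤ := by
      rw [← Submodule.sup_smul]
      apply Submodule.smul_mono_left
      rw [two_mul]
      exact Ideal.sup_pow_add_le_pow_sup_pow
    have h3 := h2 h1
    rw [Submodule.mem_sup] at h3
    obtain ⟨u, hu, v, hv, huv⟩ := h3
    refine ⟨-u, Submodule.neg_mem _ hu, -v, Submodule.neg_mem _ hv, ?_⟩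
    rw [← neg_add, huv, neg_sub]
  choose u hu v hv huv using hstep
  let U : ℕ → M := fun N => ∑ n ∈ Finset.range N, u n
  let V : ℕ → M := fun N => ∑ n ∈ Finset.range N, v n
  have hUc : AdicCompletion.IsAdicCauchy I M U := by
    rw [AdicCompletion.isAdicCauchy_iff]
    intro n
    rw [SModEq.sub_mem]
    simp only [U, Finset.sum_range_succ]
    rw [sub_add_cancel_left]
    exact Submodule.neg_mem _ (hu n)
  have hVc : AdicCompletion.IsAdicCauchy J M V := by
    rw [AdicCompletion.isAdicCauchy_iff]
    intro n
    rw [SModEq.sub_mem]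
    simp only [V, Finset.sum_range_succ]
    rw [sub_add_cancel_left]
    exact Submodule.neg_mem _ (hv n)
  obtain ⟨Lu, hLu⟩ := hI.prec' U (fun hmn => hUc hmn)
  obtain ⟨Lv, hLv⟩ := hJ.prec' V (fun hmn => hVc hmn)
  have htel : ∀ N, y (2 * N) = y 0 + U N + V N := by
    intro N
    induction N with
    | zero => simp [U, V]
    | succ N ih =>
      have h1 : y (2 * (N + 1)) = y (2 * N) + (u N + v N) := by
        rw [← huv N]; abel
      rw [h1, ih]
      simp only [U, V, Finset.sum_range_succ]
      abel
  refine ⟨y 0 + Lu + Lv, fun n => ?_⟩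
  have h1 : y n ≡ y (2 * n) [SMOD ((I ⊔ J) ^ n • ⊤ : Submodule A M)] := hy (by omega)
  refine h1.trans ?_
  rw [htel n]
  have h2 : U n ≡ Lu [SMOD ((I ⊔ J) ^ n • ⊤ : Submodule A M)] :=
    (hLu n).mono (Submodule.smul_mono_left (Ideal.pow_right_mono le_sup_left n))
  have h3 : V n ≡ Lv [SMOD ((I ⊔ J) ^ n • ⊤ : Submodule A M)] :=
    (hLv n).mono (Submodule.smul_mono_left (Ideal.pow_right_mono le_sup_right n))
  exact (SModEq.rfl.add h2).add h3

/-- For a ring A, elements f_1, …, f_r generating an ideal I and an A-module M, if the canonical map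
from M to its (f_i)-adic completion is surjective for every i, then the canonical map from M to its
I-adic completion is surjective. -/
theorem result {A : Type u} [CommRing A] {r : ℕ} (f : Fin r → A) (M : Type u) [AddCommGroup M] [Module A M] (h : ∀ i, Function.Surjective (AdicCompletion.of (Ideal.span {f i}) M)) :
    Function.Surjective (AdicCompletion.of (Ideal.span (Set.range f)) M) := by
  classical
  rw [AdicCompletion.of_surjective_iff]
  have hi : ∀ i, IsPrecomplete (Ideal.span {f i}) M :=
    fun i => AdicCompletion.of_surjective_iff.mp (h i)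
  have key : ∀ s : Finset (Fin r), IsPrecomplete (Ideal.span (f '' (s : Set (Fin r)))) M := by
    intro s
    induction s using Finset.induction_on with
    | empty =>
      simp only [Finset.coe_empty, Set.image_empty, Ideal.span_empty]
      infer_instance
    | insert a s ha ih =>
      rw [Finset.coe_insert, Set.image_insert_eq, Ideal.span_insert]
      exact precomplete_sup _ _ M (hi a) ih
  have h1 := key Finset.univ
  rw [Finset.coe_univ, Set.image_univ] at h1
  exact h1

end Groth.Agent.S9603
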