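import Groth.Statements.S9605
import Mathlib.RingTheory.AdicCompletion.Exactness

set_option autoImplicit false
universe u
open CAlg

namespace Groth.Agent.S9605


theorem mkQ_mem_iff {R : Type*} [CommRing R] (I : Ideal R) {M : Type*} [AddCommGroup M] [Module R M]
    (K : Submodule R M) (n : ℕ) (x : M) :
    K.mkQ x ∈ (I ^ n • ⊤ : Submodule R (M ⧸ K)) ↔ x ∈ K ⊔ I ^ n • (⊤ : Submodule R M) := by
  have h1 : (I ^ n • ⊤ : Submodule R (M ⧸ K)) =
      Submodule.map K.mkQ (I ^ n • (⊤ : Submodule R M)) := by
    rw [Submodule.map_smul'', Submodule.map_top, Submodule.range_mkQ]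
  rw [h1, ← Submodule.mem_comap, Submodule.comap_map_mkQ]

theorem precomplete_quot {R : Type*} [CommRing R] (I : Ideal R) {M : Type*} [AddCommGroup M]
    [Module R M] [IsPrecomplete I M] (K : Submodule R M) : IsPrecomplete I (M ⧸ K) := by
  rw [← AdicCompletion.of_surjective_iff]
  have h1 : Function.Surjective (AdicCompletion.map I K.mkQ) :=
    AdicCompletion.map_surjective I (Submodule.mkQ_surjective K)
  have h2 : Function.Surjective (AdicCompletion.of I M) := AdicCompletion.of_surjective I M
  intro y
  obtain ⟨z, rfl⟩ := h1 y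
  obtain ⟨x, rfl⟩ := h2 z
  exact ⟨K.mkQ x, (AdicCompletion.map_of I K.mkQ x).symm⟩

/-- For a ring R, an ideal I of R, an I-adically complete R-module M and a submodule K of M, the
quotient M/K is I-adically complete if and only if K = ⋂ₙ (K + IⁿM). -/
theorem result {R : Type u} [CommRing R] (I : Ideal R) (M : Type u) [AddCommGroup M] [Module R M] [IsAdicComplete I M] (K : Submodule R M) :
    IsAdicComplete I (M ⧸ K) ↔ K = ⨅ n : ℕ, K ⊔ I ^ n • (⊤ : Submodule R M) := by
  constructor
  · intro h
    apply le_antisymm
    · exact le_iInf (fun n => le_sup_left)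
    · intro x hx
      rw [Submodule.mem_iInf] at hx
      rw [← Submodule.Quotient.mk_eq_zero K]
      apply h.toIsHausdorff.haus'
      intro n
      rw [SModEq.zero]
      exact (mkQ_mem_iff I K n x).mpr (hx n)
  · intro h
    haveI : IsPrecomplete I (M ⧸ K) := precomplete_quot I K
    have hH : IsHausdorff I (M ⧸ K) := ⟨by
      intro y hy
      obtain ⟨x, rfl⟩ := Submodule.mkQ_surjective K y
      have hx : x ∈ K := by
        rw [h, Submodule.mem_iInf]
        intro n
        exact (mkQ_mem_iff I K n x).mp (SModEq.zero.mp (hy n))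
      exact (Submodule.Quotient.mk_eq_zero K).mpr hx⟩
    exact { toIsHausdorff := hH, toIsPrecomplete := inferInstance }

end Groth.Agent.S9605
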