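import Groth.Statements.S9606
import Mathlib

set_option autoImplicit false
universe u
open CAlg

namespace Groth.Agent.S9606


theorem key6 {R S : Type u} [CommRing R] [CommRing S] [Algebra R S] (p : Ideal R) [p.IsPrime]
    (s : S)
    (hs : s ∈ Algebra.adjoin R {x : S | x ^ 2 ∈ Set.range (algebraMap R S) ∧
      x ^ 3 ∈ Set.range (algebraMap R S)}) :
    ∃ α : p.ResidueField, ∀ (q : Ideal S) [q.IsPrime] (hq : p = q.comap (algebraMap R S)),
      algebraMap S q.ResidueField s = Ideal.ResidueField.map p q (algebraMap R S) hq α := by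
  induction hs using Algebra.adjoin_induction with
  | mem x hx =>
    obtain ⟨⟨a, ha⟩, ⟨b, hb⟩⟩ := hx
    by_cases hap : a ∈ p
    · refine ⟨0, fun q _ hq => ?_⟩
      rw [map_zero, Ideal.algebraMap_residueField_eq_zero]
      have : x ^ 2 ∈ q := by
        rw [← ha]
        have : a ∈ q.comap (algebraMap R S) := hq ▸ hap
        exact this
      exact Ideal.IsPrime.mem_of_pow_mem inferInstance 2 this
    · refine ⟨algebraMap R p.ResidueField b / algebraMap R p.ResidueField a, fun q _ hq => ?_⟩
      rw [map_div₀, Ideal.ResidueField.map_algebraMap, Ideal.ResidueField.map_algebraMap, hb, ha,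
        map_pow, map_pow]
      have hx0 : algebraMap S q.ResidueField x ≠ 0 := by
        intro h0
        rw [Ideal.algebraMap_residueField_eq_zero] at h0
        apply hap
        rw [hq, Ideal.mem_comap, ha]
        exact Ideal.pow_mem_of_mem q h0 2 (by norm_num)
      field_simp
  | algebraMap r =>
    exact ⟨algebraMap R p.ResidueField r, fun q _ hq => by
      rw [Ideal.ResidueField.map_algebraMap]⟩
  | add x y hx hy ihx ihy =>
    obtain ⟨α₁, h₁⟩ := ihx
    obtain ⟨α₂, h₂⟩ := ihy
    exact ⟨α₁ + α₂, fun q _ hq => by rw [map_add, map_add, h₁ q hq, h₂ q hq]⟩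
  | mul x y hx hy ihx ihy =>
    obtain ⟨α₁, h₁⟩ := ihx
    obtain ⟨α₂, h₂⟩ := ihy
    exact ⟨α₁ * α₂, fun q _ hq => by rw [map_mul, map_mul, h₁ q hq, h₂ q hq]⟩

/-- Let R → S be a ring map with locally nilpotent kernel such that S is generated over R by elements x
with x² and x³ in the image of R. Then the induced map on spectra is a homeomorphism and every
residue field map κ(p) → κ(q), for q a prime of S with inverse image p, is bijective. -/
theorem result {R S : Type u} [CommRing R] [CommRing S] [Algebra R S]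
    (hgen : Algebra.adjoin R {x : S | x ^ 2 ∈ Set.range (algebraMap R S) ∧ x ^ 3 ∈ Set.range (algebraMap R S)} = ⊤)
    (hker : ∀ r : R, algebraMap R S r = 0 → IsNilpotent r) :
    IsHomeomorph (PrimeSpectrum.comap (algebraMap R S)) ∧
      ∀ (q : Ideal S) [q.IsPrime], Function.Bijective (Ideal.ResidueField.map (q.comap (algebraMap R S)) q (algebraMap R S) rfl) := by
  classical
  have hmem : ∀ s : S, s ∈ Algebra.adjoin R {x : S | x ^ 2 ∈ Set.range (algebraMap R S) ∧
      x ^ 3 ∈ Set.range (algebraMap R S)} := fun s => hgen ▸ Algebra.mem_top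
  have hint : Algebra.IsIntegral R S := by
    rw [← integralClosure_eq_top_iff, eq_top_iff, ← hgen]
    apply Algebra.adjoin_le
    rintro x ⟨⟨a, ha⟩, -⟩
    rw [SetLike.mem_coe, mem_integralClosure_iff]
    refine ⟨Polynomial.X ^ 2 - Polynomial.C a, Polynomial.monic_X_pow_sub_C a (by norm_num), ?_⟩
    simp [ha]
  have hinj : Function.Injective (PrimeSpectrum.comap (algebraMap R S)) := by
    intro q₁ q₂ h12
    have hq₂ : q₁.asIdeal.comap (algebraMap R S) = q₂.asIdeal.comap (algebraMap R S) :=
      congrArg PrimeSpectrum.asIdeal h12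
    apply PrimeSpectrum.ext
    ext s
    obtain ⟨α, hα⟩ := key6 (q₁.asIdeal.comap (algebraMap R S)) s (hmem s)
    have e1 : s ∈ q₁.asIdeal ↔ α = 0 := by
      rw [← Ideal.algebraMap_residueField_eq_zero (I := q₁.asIdeal), hα q₁.asIdeal rfl,
        map_eq_zero]
    have e2 : s ∈ q₂.asIdeal ↔ α = 0 := by
      rw [← Ideal.algebraMap_residueField_eq_zero (I := q₂.asIdeal), hα q₂.asIdeal hq₂,
        map_eq_zero]
    exact e1.trans e2.symm
  have hsurj : Function.Surjective (PrimeSpectrum.comap (algebraMap R S)) := by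
    intro p
    obtain ⟨Q, -, hQ, hQp⟩ := Ideal.exists_ideal_over_prime_of_isIntegral p.asIdeal (⊥ : Ideal S)
      (by
        intro r hr
        have h0 : algebraMap R S r = 0 := by simpa using hr
        obtain ⟨n, hn⟩ := hker r h0
        exact Ideal.IsPrime.mem_of_pow_mem inferInstance n (hn ▸ zero_mem _))
    exact ⟨⟨Q, hQ⟩, PrimeSpectrum.ext hQp⟩
  refine ⟨?_, ?_⟩
  · rw [isHomeomorph_iff_continuous_isClosedMap_bijective]
    exact ⟨PrimeSpectrum.continuous_comap _,
      PrimeSpectrum.isClosedMap_comap_of_isIntegral _ (algebraMap_isIntegral_iff.mpr hint),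
      hinj, hsurj⟩
  · intro q _
    refine ⟨RingHom.injective _, fun x => ?_⟩
    obtain ⟨a, b, hb, rfl⟩ := IsFractionRing.div_surjective (S ⧸ q) x
    obtain ⟨sa, rfl⟩ := Ideal.Quotient.mk_surjective a
    obtain ⟨sb, rfl⟩ := Ideal.Quotient.mk_surjective b
    obtain ⟨α₁, h₁⟩ := key6 (q.comap (algebraMap R S)) sa (hmem sa)
    obtain ⟨α₂, h₂⟩ := key6 (q.comap (algebraMap R S)) sb (hmem sb)
    refine ⟨α₁ / α₂, ?_⟩
    rw [map_div₀, ← h₁ q rfl, ← h₂ q rfl, Ideal.algebraMap_quotient_residueField_mk,
      Ideal.algebraMap_quotient_residueField_mk]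

end Groth.Agent.S9606
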