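import Groth.Statements.S9607
import Mathlib

set_option autoImplicit false
universe u
open CAlg

namespace Groth.Agent.S9607


theorem pow_mul_mem {P : Type*} [CommRing P] (B : Subalgebra ℤ P) (x c : P) (N : ℕ) (hN : 0 < N)
    (hx1 : x ^ N ∈ B) (hx2 : c * x ∈ B) (hc : c ∈ B) (i : ℕ) : c ^ N * x ^ i ∈ B := by
  obtain ⟨u, v, hv, rfl⟩ : ∃ u v, v < N ∧ i = N * u + v :=
    ⟨i / N, i % N, Nat.mod_lt _ hN, (Nat.div_add_mod i N).symm⟩
  obtain ⟨w, rfl⟩ : ∃ w, N = v + w := ⟨N - v, (Nat.add_sub_cancel' hv.le).symm⟩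
  have : c ^ (v + w) * x ^ ((v + w) * u + v) = (x ^ (v + w)) ^ u * c ^ w * (c * x) ^ v := by ring
  rw [this]
  exact B.mul_mem (B.mul_mem (B.pow_mem hx1 _) (B.pow_mem hc _)) (B.pow_mem hx2 _)

theorem choose_dichotomy {p : ℕ} (hp : p.Prime) (a K j : ℕ) (hj0 : 0 < j) (hja : j < p ^ a)
    (hK : K ≤ a) : p ^ K ∣ Nat.choose (p ^ a) j ∨ p ^ (a - K + 1) ∣ j := by
  obtain ⟨v, j', hj', rfl⟩ := Nat.exists_eq_pow_mul_and_not_dvd hj0.ne' p hp.ne_one
  by_cases hv : a - K + 1 ≤ v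
  · right
    exact (pow_dvd_pow p hv).trans (dvd_mul_right _ _)
  · left
    push Not at hv
    have hvK : K ≤ a - v := by omega
    have hva : v ≤ a := by omega
    have hpa : 0 < p ^ a := pow_pos hp.pos a
    have hid : p ^ a * Nat.choose (p ^ a - 1) (p ^ v * j' - 1) =
        Nat.choose (p ^ a) (p ^ v * j') * (p ^ v * j') := by
      have := Nat.add_one_mul_choose_eq (p ^ a - 1) (p ^ v * j' - 1)
      rwa [Nat.sub_add_cancel hpa, Nat.sub_add_cancel hj0] at this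
    have h1 : p ^ (a - v) * p ^ v ∣ (Nat.choose (p ^ a) (p ^ v * j') * j') * p ^ v := by
      rw [← pow_add, Nat.sub_add_cancel hva]
      exact ⟨Nat.choose (p ^ a - 1) (p ^ v * j' - 1), by rw [hid]; ring⟩
    have h2 : p ^ (a - v) ∣ Nat.choose (p ^ a) (p ^ v * j') * j' :=
      Nat.dvd_of_mul_dvd_mul_right (pow_pos hp.pos v) h1
    have hcop : Nat.Coprime (p ^ (a - v)) j' :=
      Nat.Coprime.pow_left _ ((Nat.Prime.coprime_iff_not_dvd hp).mpr hj')
    exact (pow_dvd_pow p hvK).trans (hcop.dvd_of_dvd_mul_right h2)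

theorem main_lemma {P : Type*} [CommRing P] (B : Subalgebra ℤ P) (x y : P) (p : ℕ) (hp : p.Prime)
    (n m : ℕ) (h1 : x ^ (p ^ n) ∈ B) (h2 : (p : P) ^ n * x ∈ B) (h3 : y ^ (p ^ m) ∈ B)
    (h4 : (p : P) ^ m * y ∈ B) :
    ∃ a : ℕ, (x + y) ^ (p ^ a) ∈ B ∧ (p : P) ^ a * (x + y) ∈ B := by
  have hpB : (p : P) ∈ B := natCast_mem B p
  obtain ⟨K, hK⟩ : ∃ K, K = n * p ^ n + m * p ^ m := ⟨_, rfl⟩
  obtain ⟨w, hw⟩ : ∃ w, w = n + m := ⟨_, rfl⟩
  have hpK : (p : P) ^ K = ((p : P) ^ n) ^ (p ^ n) * ((p : P) ^ m) ^ (p ^ m) := by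
    rw [hK, pow_add, pow_mul, pow_mul]
  refine ⟨K + w, ?_, ?_⟩
  · rw [add_pow]
    refine Subalgebra.sum_mem _ (fun j hj => ?_)
    have hj' : j ≤ p ^ (K + w) := Nat.lt_succ_iff.mp (Finset.mem_range.mp hj)
    have hxN : ∀ i, p ^ n ∣ i → x ^ i ∈ B := by
      rintro i ⟨u, rfl⟩
      rw [pow_mul]
      exact B.pow_mem h1 u
    have hyM : ∀ i, p ^ m ∣ i → y ^ i ∈ B := by
      rintro i ⟨u, rfl⟩
      rw [pow_mul]
      exact B.pow_mem h3 u
    have hC : ((Nat.choose (p ^ (K + w)) j : ℕ) : P) ∈ B := natCast_mem B _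
    rcases Nat.eq_zero_or_pos j with rfl | hj0
    · simp only [pow_zero, one_mul, Nat.sub_zero, Nat.choose_zero_right, Nat.cast_one, mul_one]
      exact hyM _ (pow_dvd_pow p (by omega))
    rcases hj'.eq_or_lt with rfl | hjlt
    · simp only [Nat.sub_self, pow_zero, mul_one, Nat.choose_self, Nat.cast_one]
      exact hxN _ (pow_dvd_pow p (by omega))
    rcases choose_dichotomy hp (K + w) K j hj0 hjlt (by omega) with ⟨c', hc'⟩ | hdiv
    · have e1 := pow_mul_mem B x ((p : P) ^ n) (p ^ n) (pow_pos hp.pos n) h1 h2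
        (B.pow_mem hpB n) j
      have e2 := pow_mul_mem B y ((p : P) ^ m) (p ^ m) (pow_pos hp.pos m) h3 h4
        (B.pow_mem hpB m) (p ^ (K + w) - j)
      have : x ^ j * y ^ (p ^ (K + w) - j) * ((Nat.choose (p ^ (K + w)) j : ℕ) : P) =
          (c' : P) * ((((p : P) ^ n) ^ (p ^ n) * x ^ j) *
            (((p : P) ^ m) ^ (p ^ m) * y ^ (p ^ (K + w) - j))) := by
        rw [hc', Nat.cast_mul, Nat.cast_pow, hpK]
        ring
      rw [this]
      exact B.mul_mem (natCast_mem B c') (B.mul_mem e1 e2)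
    · have hdiv' : p ^ (w + 1) ∣ j := by
        rwa [show K + w - K + 1 = w + 1 by omega] at hdiv
      have hNj : p ^ n ∣ j := (pow_dvd_pow p (by omega)).trans hdiv'
      have hMj : p ^ m ∣ j := (pow_dvd_pow p (by omega)).trans hdiv'
      have hMl : p ^ m ∣ p ^ (K + w) - j := Nat.dvd_sub (pow_dvd_pow p (by omega)) hMj
      exact B.mul_mem (B.mul_mem (hxN _ hNj) (hyM _ hMl)) hC
  · have : (p : P) ^ (K + w) * (x + y) =
        (p : P) ^ (K + m) * ((p : P) ^ n * x) + (p : P) ^ (K + n) * ((p : P) ^ m * y) := by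
      rw [hw]
      ring
    rw [this]
    exact B.add_mem (B.mul_mem (B.pow_mem hpB _) h2) (B.mul_mem (B.pow_mem hpB _) h4)

/-- For a prime number p and integers n, m > 0 there exists an integer a such that (x + y)^(p^a) and p^a
(x + y) both belong to the subring ℤ[x^(p^n), p^n x, y^(p^m), p^m y] of the polynomial ring ℤ[x, y]. -/
theorem result (p : ℕ) (hp : p.Prime) (n m : ℕ) (hn : 0 < n) (hm : 0 < m) :
    ∃ a : ℕ, ((MvPolynomial.X 0 + MvPolynomial.X 1 : MvPolynomial (Fin 2) ℤ) ^ (p ^ a) ∈ Algebra.adjoin ℤ ({MvPolynomial.X 0 ^ (p ^ n), (p : MvPolynomial (Fin 2) ℤ) ^ n * MvPolynomial.X 0, MvPolynomial.X 1 ^ (p ^ m), (p : MvPolynomial (Fin 2) ℤ) ^ m * MvPolynomial.X 1} : Set (MvPolynomial (Fin 2) ℤ)) ∧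
      (p : MvPolynomial (Fin 2) ℤ) ^ a * (MvPolynomial.X 0 + MvPolynomial.X 1) ∈ Algebra.adjoin ℤ ({MvPolynomial.X 0 ^ (p ^ n), (p : MvPolynomial (Fin 2) ℤ) ^ n * MvPolynomial.X 0, MvPolynomial.X 1 ^ (p ^ m), (p : MvPolynomial (Fin 2) ℤ) ^ m * MvPolynomial.X 1} : Set (MvPolynomial (Fin 2) ℤ))) := by
  exact main_lemma (Algebra.adjoin ℤ _) (MvPolynomial.X 0) (MvPolynomial.X 1) p hp n m
    (Algebra.subset_adjoin (Set.mem_insert _ _))
    (Algebra.subset_adjoin (Set.mem_insert_of_mem _ (Set.mem_insert _ _)))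
    (Algebra.subset_adjoin (Set.mem_insert_of_mem _ (Set.mem_insert_of_mem _ (Set.mem_insert _ _))))
    (Algebra.subset_adjoin (Set.mem_insert_of_mem _ (Set.mem_insert_of_mem _
      (Set.mem_insert_of_mem _ (Set.mem_singleton _)))))

end Groth.Agent.S9607
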