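import Groth.Statements.S9608
import Mathlib

set_option autoImplicit false
universe u
open CAlg

namespace Groth.Agent.S9608

/-- Let k'/k be a field extension and p a prime number. Then k' is generated over k by elements x for
which some n > 0 has x^(p^n) ∈ k and p^n x ∈ k, if and only if either k' = k, or k has
characteristic p and k'/k is purely inseparable. -/
theorem result {k k' : Type u} [Field k] [Field k'] [Algebra k k'] (p : ℕ) (hp : p.Prime) :
    IntermediateField.adjoin k {x : k' | ∃ n : ℕ, 0 < n ∧ x ^ (p ^ n) ∈ Set.range (algebraMap k k') ∧ (p : k') ^ n * x ∈ Set.range (algebraMap k k')} = ⊤ ↔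
      (Function.Surjective (algebraMap k k') ∨ (CharP k p ∧ IsPurelyInseparable k k')) := by
  constructor
  · intro h
    by_cases hchar : CharP k p
    · right
      refine ⟨hchar, ?_⟩
      haveI := hchar
      haveI : ExpChar k p := ExpChar.prime hp
      have h1 : IsPurelyInseparable k (IntermediateField.adjoin k {x : k' | ∃ n : ℕ, 0 < n ∧
          x ^ (p ^ n) ∈ Set.range (algebraMap k k') ∧
          (p : k') ^ n * x ∈ Set.range (algebraMap k k')}) := by
        rw [IntermediateField.isPurelyInseparable_adjoin_iff_pow_mem k k' p]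
        rintro x ⟨n, -, hx, -⟩
        exact ⟨n, hx⟩
      rw [h] at h1
      haveI := h1
      exact (IntermediateField.topEquiv (F := k) (E := k')).isPurelyInseparable
    · left
      have hp0 : (p : k) ≠ 0 := fun h0 => hchar ((CharP.charP_iff_prime_eq_zero hp).mpr h0)
      have hle : IntermediateField.adjoin k {x : k' | ∃ n : ℕ, 0 < n ∧
          x ^ (p ^ n) ∈ Set.range (algebraMap k k') ∧
          (p : k') ^ n * x ∈ Set.range (algebraMap k k')} ≤ ⊥ := by
        rw [IntermediateField.adjoin_le_iff]
        rintro x ⟨n, -, -, c, hc⟩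
        rw [SetLike.mem_coe, IntermediateField.mem_bot]
        refine ⟨c / (p : k) ^ n, ?_⟩
        have hpn : (algebraMap k k') ((p : k) ^ n) ≠ 0 := by
          rw [Ne, map_eq_zero]
          exact pow_ne_zero n hp0
        rw [map_div₀, hc, map_pow, map_natCast]
        rw [map_pow, map_natCast] at hpn
        field_simp
      rw [h] at hle
      intro y
      have : y ∈ (⊥ : IntermediateField k k') := hle (IntermediateField.mem_top)
      exact IntermediateField.mem_bot.mp this
  · intro h
    have huniv : {x : k' | ∃ n : ℕ, 0 < n ∧ x ^ (p ^ n) ∈ Set.range (algebraMap k k') ∧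
        (p : k') ^ n * x ∈ Set.range (algebraMap k k')} = Set.univ := by
      rw [Set.eq_univ_iff_forall]
      intro x
      rcases h with hs | ⟨hchar, hpi⟩
      · obtain ⟨c, rfl⟩ := hs x
        exact ⟨1, Nat.one_pos, ⟨c ^ (p ^ 1), by rw [map_pow]⟩,
          ⟨(p : k) ^ 1 * c, by rw [map_mul, map_pow, map_natCast]⟩⟩
      · haveI := hchar
        haveI := hpi
        haveI : ExpChar k p := ExpChar.prime hp
        haveI : CharP k' p := charP_of_injective_algebraMap (algebraMap k k').injective p
        obtain ⟨n, c, hc⟩ := IsPurelyInseparable.pow_mem k p x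
        refine ⟨n + 1, Nat.succ_pos n, ⟨c ^ p, ?_⟩, ⟨0, ?_⟩⟩
        · rw [map_pow, hc, pow_succ, pow_mul]
        · rw [map_zero, CharP.cast_eq_zero k' p, zero_pow (Nat.succ_ne_zero n), zero_mul]
    rw [huniv, IntermediateField.adjoin_univ]

end Groth.Agent.S9608
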