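import Groth.Statements.S9609
import Mathlib

set_option autoImplicit false
universe u
open CAlg

namespace Groth.Agent.S9609


open TensorProduct in
/-- The inclusion `S → R' ⊗[R] S` as a ring hom. -/
noncomputable def incR (R S R' : Type*) [CommRing R] [CommRing S] [CommRing R'] [Algebra R S]
    [Algebra R R'] : S →+* R' ⊗[R] S :=
  (Algebra.TensorProduct.includeRight : S →ₐ[R] R' ⊗[R] S).toRingHom

open TensorProduct in
theorem incR_algebraMap {R S R' : Type*} [CommRing R] [CommRing S] [CommRing R'] [Algebra R S]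
    [Algebra R R'] (r : R) :
    incR R S R' (algebraMap R S r) = algebraMap R' (R' ⊗[R] S) (algebraMap R R' r) := by
  have h1 : incR R S R' (algebraMap R S r) = algebraMap R (R' ⊗[R] S) r :=
    AlgHom.commutes (Algebra.TensorProduct.includeRight : S →ₐ[R] R' ⊗[R] S) r
  rw [h1, IsScalarTower.algebraMap_apply R R' (R' ⊗[R] S)]

theorem ringExpChar_eq_of_ringHom {K L : Type*} [Field K] [Field L] (f : K →+* L) :
    ringExpChar L = ringExpChar K := by
  haveI : ExpChar L (ringExpChar K) := expChar_of_injective_ringHom f.injective (ringExpChar K)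
  exact ringExpChar.eq L (ringExpChar K)

open TensorProduct in
theorem key {R S R' : Type u} [CommRing R] [CommRing S] [CommRing R'] [Algebra R S]
    [Algebra R R'] (p : Ideal R) [p.IsPrime] (q : Ideal S) [q.IsPrime] (p' : Ideal R')
    [p'.IsPrime] (hp : p = q.comap (algebraMap R S)) (hpp' : p = p'.comap (algebraMap R R'))
    (e : ℕ) [ExpChar p.ResidueField e]
    (hpi : ∀ x : q.ResidueField, ∃ n : ℕ,
      x ^ e ^ n ∈ Set.range (Ideal.ResidueField.map p q (algebraMap R S) hp))
    (t : R' ⊗[R] S) :
    ∃ (n : ℕ) (β : p'.ResidueField), ∀ (q' : Ideal (R' ⊗[R] S)) [q'.IsPrime]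
      (_hq : q = q'.comap (incR R S R')) (hp' : p' = q'.comap (algebraMap R' (R' ⊗[R] S))),
      (algebraMap (R' ⊗[R] S) q'.ResidueField t) ^ e ^ n =
        Ideal.ResidueField.map p' q' (algebraMap R' (R' ⊗[R] S)) hp' β := by
  induction t using TensorProduct.induction_on with
  | zero => exact ⟨0, 0, fun q' _ _ _ => by simp⟩
  | tmul r' s =>
    obtain ⟨n, α, hα⟩ := hpi (algebraMap S q.ResidueField s)
    refine ⟨n, (algebraMap R' p'.ResidueField r') ^ e ^ n *
      Ideal.ResidueField.map p p' (algebraMap R R') hpp' α, ?_⟩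
    intro q' _ hq hp'
    have h1 : r' ⊗ₜ[R] s = algebraMap R' (R' ⊗[R] S) r' * incR R S R' s := by
      simp [incR, Algebra.TensorProduct.algebraMap_apply]
    have hsq : (Ideal.ResidueField.map q q' (incR R S R') hq).comp
        (Ideal.ResidueField.map p q (algebraMap R S) hp) =
        (Ideal.ResidueField.map p' q' (algebraMap R' (R' ⊗[R] S)) hp').comp
          (Ideal.ResidueField.map p p' (algebraMap R R') hpp') := by
      apply Ideal.ResidueField.ringHom_ext
      ext r
      simp only [RingHom.comp_apply, Ideal.ResidueField.map_algebraMap]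
      rw [incR_algebraMap]
    have hsq' := congrArg (fun φ => φ α) hsq
    simp only [RingHom.comp_apply] at hsq'
    rw [h1, map_mul, mul_pow, map_mul, map_pow]
    congr 1
    · rw [Ideal.ResidueField.map_algebraMap]
    · rw [← hsq', hα, map_pow, Ideal.ResidueField.map_algebraMap]
  | add x y hx hy =>
    obtain ⟨n₁, β₁, h₁⟩ := hx
    obtain ⟨n₂, β₂, h₂⟩ := hy
    refine ⟨n₁ + n₂, β₁ ^ e ^ n₂ + β₂ ^ e ^ n₁, ?_⟩
    intro q' _ hq hp'
    haveI : ExpChar q'.ResidueField e :=
      expChar_of_injective_ringHom
        (f := (Ideal.ResidueField.map p' q' (algebraMap R' (R' ⊗[R] S)) hp').comp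
          (Ideal.ResidueField.map p p' (algebraMap R R') hpp')) (RingHom.injective _) e
    rw [map_add, add_pow_expChar_pow, map_add, map_pow, map_pow, ← h₁ q' hq hp', ← h₂ q' hq hp',
      ← pow_mul, ← pow_mul, ← pow_add, ← pow_add, add_comm n₂ n₁]

open TensorProduct in
/-- Let R → S be a ring map which is injective on spectra and whose residue field extensions κ(p) → κ(q)
(q a prime of S with inverse image p) are purely inseparable: every element of κ(q) has a power with
exponent a power of the characteristic exponent lying in the image of κ(p). Then, given an arbitrary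
R-algebra R', the induced map R' → R' ⊗_R S is likewise injective on spectra and has purely
inseparable residue field extensions. -/
theorem result {R S R' : Type u} [CommRing R] [CommRing S] [CommRing R'] [Algebra R S] [Algebra R R']
    (hinj : Function.Injective (PrimeSpectrum.comap (algebraMap R S)))
    (hpi : ∀ (q : Ideal S) [q.IsPrime] (x : q.ResidueField), ∃ n : ℕ, x ^ (ringExpChar (q.comap (algebraMap R S)).ResidueField) ^ n ∈ Set.range (Ideal.ResidueField.map (q.comap (algebraMap R S)) q (algebraMap R S) rfl)) :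
    Function.Injective (PrimeSpectrum.comap (algebraMap R' (R' ⊗[R] S))) ∧
      ∀ (q' : Ideal (R' ⊗[R] S)) [q'.IsPrime] (x : q'.ResidueField), ∃ n : ℕ, x ^ (ringExpChar (q'.comap (algebraMap R' (R' ⊗[R] S))).ResidueField) ^ n ∈ Set.range (Ideal.ResidueField.map (q'.comap (algebraMap R' (R' ⊗[R] S))) q' (algebraMap R' (R' ⊗[R] S)) rfl) := by
  constructor
  · intro q₁ q₂ h12
    have hp'₂ : q₁.asIdeal.comap (algebraMap R' (R' ⊗[R] S)) =
        q₂.asIdeal.comap (algebraMap R' (R' ⊗[R] S)) := congrArg PrimeSpectrum.asIdeal h12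
    have hpp' : (q₁.asIdeal.comap (incR R S R')).comap (algebraMap R S) =
        (q₁.asIdeal.comap (algebraMap R' (R' ⊗[R] S))).comap (algebraMap R R') := by
      ext r
      simp only [Ideal.mem_comap, incR_algebraMap]
    have hq₂ : q₁.asIdeal.comap (incR R S R') = q₂.asIdeal.comap (incR R S R') := by
      have := @hinj ⟨q₁.asIdeal.comap (incR R S R'), inferInstance⟩
        ⟨q₂.asIdeal.comap (incR R S R'), inferInstance⟩ (by
          apply PrimeSpectrum.ext
          ext r
          simp only [PrimeSpectrum.comap_asIdeal, Ideal.mem_comap, incR_algebraMap]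
          have := congrArg (fun I => algebraMap R R' r ∈ I) hp'₂
          simpa [Ideal.mem_comap] using this)
      exact congrArg PrimeSpectrum.asIdeal this
    apply PrimeSpectrum.ext
    ext t
    obtain ⟨n, β, hβ⟩ := key ((q₁.asIdeal.comap (incR R S R')).comap (algebraMap R S))
      (q₁.asIdeal.comap (incR R S R')) (q₁.asIdeal.comap (algebraMap R' (R' ⊗[R] S))) rfl hpp'
      (ringExpChar ((q₁.asIdeal.comap (incR R S R')).comap (algebraMap R S)).ResidueField)
      (hpi (q₁.asIdeal.comap (incR R S R'))) t
    have h1 := hβ q₁.asIdeal rfl rfl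
    have h2 := hβ q₂.asIdeal hq₂ hp'₂
    have hpos : (ringExpChar ((q₁.asIdeal.comap (incR R S R')).comap
        (algebraMap R S)).ResidueField) ^ n ≠ 0 :=
      (pow_pos (expChar_pos ((q₁.asIdeal.comap (incR R S R')).comap
        (algebraMap R S)).ResidueField _) n).ne'
    have e1 : t ∈ q₁.asIdeal ↔ β = 0 := by
      rw [← Ideal.algebraMap_residueField_eq_zero (I := q₁.asIdeal), ← pow_eq_zero_iff hpos, h1,
        map_eq_zero]
    have e2 : t ∈ q₂.asIdeal ↔ β = 0 := by
      rw [← Ideal.algebraMap_residueField_eq_zero (I := q₂.asIdeal), ← pow_eq_zero_iff hpos, h2,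
        map_eq_zero]
    exact e1.trans e2.symm
  · intro q' _ x
    have hpp' : (q'.comap (incR R S R')).comap (algebraMap R S) =
        (q'.comap (algebraMap R' (R' ⊗[R] S))).comap (algebraMap R R') := by
      ext r
      simp only [Ideal.mem_comap, incR_algebraMap]
    obtain ⟨a, b, hb, rfl⟩ := IsFractionRing.div_surjective ((R' ⊗[R] S) ⧸ q') x
    obtain ⟨ta, rfl⟩ := Ideal.Quotient.mk_surjective a
    obtain ⟨tb, rfl⟩ := Ideal.Quotient.mk_surjective b
    obtain ⟨n₁, β₁, h₁⟩ := key ((q'.comap (incR R S R')).comap (algebraMap R S))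
      (q'.comap (incR R S R')) (q'.comap (algebraMap R' (R' ⊗[R] S))) rfl hpp'
      (ringExpChar ((q'.comap (incR R S R')).comap (algebraMap R S)).ResidueField)
      (hpi (q'.comap (incR R S R'))) ta
    obtain ⟨n₂, β₂, h₂⟩ := key ((q'.comap (incR R S R')).comap (algebraMap R S))
      (q'.comap (incR R S R')) (q'.comap (algebraMap R' (R' ⊗[R] S))) rfl hpp'
      (ringExpChar ((q'.comap (incR R S R')).comap (algebraMap R S)).ResidueField)
      (hpi (q'.comap (incR R S R'))) tb
    have hE : ringExpChar (q'.comap (algebraMap R' (R' ⊗[R] S))).ResidueField =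
        ringExpChar ((q'.comap (incR R S R')).comap (algebraMap R S)).ResidueField :=
      ringExpChar_eq_of_ringHom (Ideal.ResidueField.map _ _ (algebraMap R R') hpp')
    rw [hE]
    refine ⟨n₁ + n₂, β₁ ^ (ringExpChar ((q'.comap (incR R S R')).comap (algebraMap R S)).ResidueField) ^ n₂ /
      β₂ ^ (ringExpChar ((q'.comap (incR R S R')).comap (algebraMap R S)).ResidueField) ^ n₁, ?_⟩
    rw [map_div₀, map_pow, map_pow, ← h₁ q' rfl rfl, ← h₂ q' rfl rfl,
      Ideal.algebraMap_quotient_residueField_mk, Ideal.algebraMap_quotient_residueField_mk,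
      div_pow, ← pow_mul, ← pow_mul, ← pow_add, ← pow_add, add_comm n₂ n₁]

end Groth.Agent.S9609
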