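import Groth.Statements.S9610
import Mathlib.LinearAlgebra.Dimension.Basic
import Mathlib.Algebra.Polynomial.AlgebraMap
import Mathlib.Algebra.Polynomial.Degree.Lemmas
import Mathlib.Algebra.Polynomial.Eval.Defs
import Mathlib.Algebra.Module.Equiv.Basic
import Mathlib.Algebra.Polynomial.Eval.SMul

set_option autoImplicit false
universe u
open CAlg

namespace Groth.Agent.S9610

/-- Let k be a field and V a nonzero k-vector space with dim_k V < #k as cardinals. Then every k-linear
endomorphism T of V admits a monic polynomial P over k for which P(T) is not invertible. -/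
theorem result {k V : Type u} [Field k] [AddCommGroup V] [Module k V] [Nontrivial V] (hV : Module.rank k V < Cardinal.mk k) (T : Module.End k V) :
    ∃ P : Polynomial k, P.Monic ∧ ¬ IsUnit (Polynomial.aeval T P) := by
  classical
  by_contra hcon
  push Not at hcon
  have hinj : ∀ P : Polynomial k, P ≠ 0 → Function.Injective (Polynomial.aeval T P) := by
    intro P hP
    have hm : (P * Polynomial.C P.leadingCoeff⁻¹).Monic := Polynomial.monic_mul_leadingCoeff_inv hP
    have hu := hcon _ hm
    rw [map_mul, Polynomial.aeval_C] at hu
    have hinj' : Function.Injective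
        (Polynomial.aeval T P * algebraMap k (Module.End k V) P.leadingCoeff⁻¹) :=
      ((Module.End.isUnit_iff _).mp hu).injective
    intro v w hvw
    have hc : P.leadingCoeff⁻¹ ≠ 0 := inv_ne_zero (Polynomial.leadingCoeff_ne_zero.mpr hP)
    have h1 : (Polynomial.aeval T P * algebraMap k (Module.End k V) P.leadingCoeff⁻¹) v =
        (Polynomial.aeval T P * algebraMap k (Module.End k V) P.leadingCoeff⁻¹) w := by
      rw [Module.End.mul_apply, Module.End.mul_apply, Module.algebraMap_end_apply,
        Module.algebraMap_end_apply, map_smul, map_smul, hvw]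
    exact hinj' h1
  obtain ⟨v0, hv0⟩ := exists_ne (0 : V)
  have hsurj : ∀ a : k, ∃ w : V,
      Polynomial.aeval T (Polynomial.X - Polynomial.C a) w = v0 := fun a =>
    ((Module.End.isUnit_iff _).mp (hcon _ (Polynomial.monic_X_sub_C a))).surjective v0
  choose w hw using hsurj
  have hli : LinearIndependent k w := by
    rw [linearIndependent_iff']
    intro s c hsum a0 ha0
    let Q : k → Polynomial k := fun a => ∏ b ∈ s.erase a, (Polynomial.X - Polynomial.C b)
    let Rp : Polynomial k := ∑ a ∈ s, c a • Q a
    have h2 : ∀ a ∈ s, Polynomial.aeval T (∏ b ∈ s, (Polynomial.X - Polynomial.C b)) (w a) =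
        Polynomial.aeval T (Q a) v0 := by
      intro a ha
      rw [← Finset.mul_prod_erase s (fun b => Polynomial.X - Polynomial.C b) ha,
        mul_comm (Polynomial.X - Polynomial.C a), map_mul, Module.End.mul_apply, hw a]
    have h3 := congrArg (Polynomial.aeval T (∏ b ∈ s, (Polynomial.X - Polynomial.C b))) hsum
    rw [map_sum, map_zero] at h3
    have h3' : ∑ a ∈ s, c a • Polynomial.aeval T (Q a) v0 = 0 := by
      rw [← h3]
      refine Finset.sum_congr rfl (fun a ha => ?_)
      rw [map_smul, h2 a ha]
    have h1 : Polynomial.aeval T Rp v0 = 0 := by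
      rw [← h3']
      simp only [Rp, map_sum, map_smul, LinearMap.sum_apply, LinearMap.smul_apply]
    have hR0 : Rp = 0 := by
      by_contra hne
      exact hv0 (hinj Rp hne (by rw [h1, map_zero]))
    have h4 := congrArg (Polynomial.eval a0) hR0
    simp only [Rp, Polynomial.eval_finsetSum, Polynomial.eval_smul, smul_eq_mul,
      Polynomial.eval_zero] at h4
    rw [Finset.sum_eq_single a0] at h4
    · rcases mul_eq_zero.mp h4 with h | h
      · exact h
      · exfalso
        simp only [Q, Polynomial.eval_prod, Polynomial.eval_sub, Polynomial.eval_X,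
          Polynomial.eval_C] at h
        rw [Finset.prod_eq_zero_iff] at h
        obtain ⟨b, hb, hb0⟩ := h
        exact (Finset.ne_of_mem_erase hb) (sub_eq_zero.mp hb0).symm
    · intro b hb hba
      have h5 : Polynomial.eval a0 (Q b) = 0 := by
        simp only [Q, Polynomial.eval_prod, Polynomial.eval_sub, Polynomial.eval_X,
          Polynomial.eval_C]
        exact Finset.prod_eq_zero (Finset.mem_erase.mpr ⟨hba.symm, ha0⟩) (sub_self a0)
      rw [h5, mul_zero]
    · intro h
      exact absurd ha0 h
  have h6 := hli.cardinal_le_rank
  exact absurd hV (not_lt.mpr h6)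

end Groth.Agent.S9610
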