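import Groth.Statements.S9611
import Mathlib.RingTheory.Jacobson.Ring

set_option autoImplicit false
universe u
open CAlg

namespace Groth.Agent.S9611

/-- Let R be a Jacobson ring, p a prime ideal of R which is not maximal, and f an element of R not in p.
Then the set of primes of R containing p and not containing f is infinite. -/
theorem result {R : Type u} [CommRing R] [IsJacobsonRing R] (p : Ideal R) [p.IsPrime] (hp : ¬ p.IsMaximal) (f : R) (hf : f ∉ p) :
    {q : PrimeSpectrum R | p ≤ q.asIdeal ∧ f ∉ q.asIdeal}.Infinite := by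
  classical
  intro hfin
  let F : Finset (PrimeSpectrum R) := hfin.toFinset
  let g : PrimeSpectrum R → R := fun q =>
    if h : ∃ x, x ∈ q.asIdeal ∧ x ∉ p then h.choose else 1
  have hpp : p.IsPrime := inferInstance
  have hg : ∀ q, g q ∉ p := by
    intro q
    by_cases h : ∃ x, x ∈ q.asIdeal ∧ x ∉ p
    · simp only [g, dif_pos h]
      exact h.choose_spec.2
    · simp only [g, dif_neg h]
      exact fun h1 => hpp.ne_top ((Ideal.eq_top_iff_one p).mpr h1)
  have hG : f * ∏ q ∈ F, g q ∉ p := by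
    intro h
    rcases hpp.mem_or_mem h with h | h
    · exact hf h
    · obtain ⟨q, _, hq⟩ := (Ideal.IsPrime.prod_mem_iff).mp h
      exact hg q hq
  have hj : p.jacobson = p := IsJacobsonRing.out ‹_› hpp.isRadical
  rw [← hj, Ideal.jacobson, Submodule.mem_sInf] at hG
  push Not at hG
  obtain ⟨m, ⟨hpm, hmmax⟩, hGm⟩ := hG
  have hfm : f ∉ m := fun h => hGm (Ideal.mul_mem_right _ m h)
  have hmF : (⟨m, hmmax.isPrime⟩ : PrimeSpectrum R) ∈ F := hfin.mem_toFinset.mpr ⟨hpm, hfm⟩
  have hne : p ≠ m := fun h => hp (h ▸ hmmax)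
  obtain ⟨x, hxm, hxp⟩ := SetLike.exists_of_lt (lt_of_le_of_ne hpm hne)
  have hex : ∃ x, x ∈ (⟨m, hmmax.isPrime⟩ : PrimeSpectrum R).asIdeal ∧ x ∉ p := ⟨x, hxm, hxp⟩
  have hgm : g ⟨m, hmmax.isPrime⟩ ∈ m := by
    simp only [g, dif_pos hex]
    exact hex.choose_spec.1
  apply hGm
  apply Ideal.mul_mem_left m
  exact (Ideal.IsPrime.prod_mem_iff (hp := hmmax.isPrime)).mpr ⟨_, hmF, hgm⟩

end Groth.Agent.S9611
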