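import Groth.Statements.S9613
import Mathlib.RingTheory.Jacobson.Ring
import Mathlib.RingTheory.Localization.Integral
import Mathlib.RingTheory.Algebraic.Integral
import Mathlib.RingTheory.Localization.Away.Basic
import Mathlib.RingTheory.IntegralClosure.IsIntegralClosure.Basic

set_option autoImplicit false
universe u
open CAlg

namespace Groth.Agent.S9613

/-- Let R → K be an injective ring map into a field K which makes K an R-algebra of finite type. Then
for some nonzero f ∈ R the localization R_f is a field over which K is finite; here R_f is realised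
as the R-subalgebra of K that is a localization of R away from f. -/
theorem result {R K : Type u} [CommRing R] [Field K] [Algebra R K] (hinj : Function.Injective (algebraMap R K)) [Algebra.FiniteType R K] :
    ∃ f : R, f ≠ 0 ∧ ∃ Rf : Subalgebra R K, IsLocalization.Away f Rf ∧ IsField Rf ∧ Module.Finite Rf K := by
  classical
  haveI : IsDomain R := Function.Injective.isDomain (algebraMap R K) hinj
  have halg : Algebra.IsAlgebraic R K := by
    letI : Algebra (FractionRing R) K := (IsFractionRing.lift (K := FractionRing R) hinj).toAlgebra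
    haveI : IsScalarTower R (FractionRing R) K :=
      IsScalarTower.of_algebraMap_eq (fun x => (IsFractionRing.lift_algebraMap hinj x).symm)
    haveI : Algebra.FiniteType (FractionRing R) K :=
      Algebra.FiniteType.of_restrictScalars_finiteType R (FractionRing R) K
    haveI : Module.Finite (FractionRing R) K :=
      finite_of_finite_type_of_isJacobsonRing (FractionRing R) K
    haveI : Algebra.IsAlgebraic (FractionRing R) K := Algebra.IsAlgebraic.of_finite _ _
    exact (IsFractionRing.comap_isAlgebraic_iff (A := R) (K := FractionRing R) (C := K)).mpr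
      inferInstance
  obtain ⟨s, hs⟩ := (‹Algebra.FiniteType R K›).out
  have hy : ∀ x : K, ∃ y : R, y ≠ 0 ∧ IsIntegral R (y • x) :=
    fun x => (halg.isAlgebraic x).exists_integral_multiple
  choose y hy0 hyint using hy
  have hyK : ∀ x, algebraMap R K (y x) ≠ 0 := fun x h => hy0 x (hinj (by rw [h, map_zero]))
  have hf0 : (∏ x ∈ s, y x) ≠ 0 := Finset.prod_ne_zero_iff.mpr (fun x _ => hy0 x)
  have hfK : algebraMap R K (∏ x ∈ s, y x) ≠ 0 := fun h => hf0 (hinj (by rw [h, map_zero]))
  refine ⟨∏ x ∈ s, y x, hf0, ?_⟩
  have hfu : ∀ z : Submonoid.powers (∏ x ∈ s, y x), IsUnit (Algebra.ofId R K z) := by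
    rintro ⟨_, n, rfl⟩
    show IsUnit (algebraMap R K ((∏ x ∈ s, y x) ^ n))
    rw [map_pow]
    exact (IsUnit.mk0 _ hfK).pow n
  let φ : Localization.Away (∏ x ∈ s, y x) →ₐ[R] K :=
    IsLocalization.liftAlgHom (M := Submonoid.powers (∏ x ∈ s, y x)) (f := Algebra.ofId R K) hfu
  have hφinj : Function.Injective φ := by
    rw [injective_iff_map_eq_zero]
    intro z hz
    obtain ⟨⟨r, m⟩, hrm⟩ := IsLocalization.surj (Submonoid.powers (∏ x ∈ s, y x)) z
    have h1 := congrArg φ hrm
    rw [map_mul, hz, zero_mul, AlgHom.commutes] at h1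
    have hr : r = 0 := hinj (by rw [← h1, map_zero])
    rw [hr, map_zero] at hrm
    exact (IsLocalization.map_units (Localization.Away (∏ x ∈ s, y x)) m).mul_left_eq_zero.mp hrm
  have hloc : IsLocalization.Away (∏ x ∈ s, y x) φ.range :=
    IsLocalization.isLocalization_of_algEquiv (Submonoid.powers (∏ x ∈ s, y x))
      (AlgEquiv.ofInjective φ hφinj)
  have hinvmem : (algebraMap R K (∏ x ∈ s, y x))⁻¹ ∈ φ.range := by
    refine ⟨IsLocalization.mk' (Localization.Away (∏ x ∈ s, y x)) (1 : R)
      (⟨∏ x ∈ s, y x, Submonoid.mem_powers _⟩ : Submonoid.powers (∏ x ∈ s, y x)), ?_⟩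
    apply eq_inv_of_mul_eq_one_left
    have h2 := congrArg φ (IsLocalization.mk'_spec (Localization.Away (∏ x ∈ s, y x)) (1 : R)
      (⟨∏ x ∈ s, y x, Submonoid.mem_powers _⟩ : Submonoid.powers (∏ x ∈ s, y x)))
    rw [map_mul, AlgHom.commutes, map_one, map_one] at h2
    exact h2
  have hgen : ∀ x ∈ s, IsIntegral φ.range x := by
    intro x hx
    have hyinv : (algebraMap R K (y x))⁻¹ ∈ φ.range := by
      have hfx : (∏ z ∈ s, y z) = y x * ∏ z ∈ s.erase x, y z := (Finset.mul_prod_erase s y hx).symm
      have h3 : (algebraMap R K (y x))⁻¹ = algebraMap R K (∏ z ∈ s.erase x, y z) *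
          (algebraMap R K (∏ z ∈ s, y z))⁻¹ := by
        have h4 : algebraMap R K (∏ z ∈ s, y z) =
            algebraMap R K (y x) * algebraMap R K (∏ z ∈ s.erase x, y z) := by
          rw [← map_mul, ← hfx]
        have h5 : algebraMap R K (∏ z ∈ s.erase x, y z) ≠ 0 := by
          intro h6
          apply hfK
          rw [h4, h6, mul_zero]
        rw [h4, mul_inv, mul_comm (algebraMap R K (y x))⁻¹, ← mul_assoc, mul_inv_cancel₀ h5,
          one_mul]
      rw [h3]
      exact φ.range.mul_mem (φ.range.algebraMap_mem _) hinvmem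
    have hx' : x = (y x • x) * (algebraMap φ.range K ⟨_, hyinv⟩) := by
      show x = (y x • x) * (algebraMap R K (y x))⁻¹
      rw [Algebra.smul_def, mul_comm, ← mul_assoc, inv_mul_cancel₀ (hyK x), one_mul]
    rw [hx']
    exact IsIntegral.mul ((hyint x).tower_top) isIntegral_algebraMap
  have hint : Algebra.IsIntegral φ.range K := by
    constructor
    intro z
    have h1 : Algebra.adjoin R (s : Set K) ≤ (integralClosure φ.range K).restrictScalars R :=
      Algebra.adjoin_le (fun x hx => hgen x hx)
    rw [hs] at h1
    exact h1 Algebra.mem_top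
  refine ⟨φ.range, hloc, ?_, ?_⟩
  · exact isField_of_isIntegral_of_isField (R := φ.range) (S := K) Subtype.val_injective
      (Field.toIsField K)
  · haveI : Algebra.FiniteType φ.range K :=
      Algebra.FiniteType.of_restrictScalars_finiteType R φ.range K
    exact Algebra.IsIntegral.finite

end Groth.Agent.S9613
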