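import Groth.Statements.S9614
import Mathlib.Algebra.Module.GradedModule
import Mathlib.RingTheory.GradedAlgebra.Homogeneous.Ideal

set_option autoImplicit false
universe u
open CAlg

namespace Groth.Agent.S9614


section GradedHelpers

open DirectSum

variable {R S : Type*} [CommRing R] [CommRing S] [Algebra R S] (𝒜 : ℕ → Submodule R S)
  [GradedAlgebra 𝒜]
  {M : Type*} [AddCommGroup M] [Module R M] [Module S M] [IsScalarTower R S M]
  (ℳ : ℕ → Submodule R M) [DirectSum.Decomposition ℳ] [SetLike.GradedSMul 𝒜 ℳ]

/-- The projection onto the degree `d` component, as an additive map. -/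
noncomputable def projM (d : ℕ) : M →+ M where
  toFun m := (decompose ℳ m d : M)
  map_zero' := by rw [decompose_zero, zero_apply, ZeroMemClass.coe_zero]
  map_add' a b := by rw [decompose_add, add_apply, Submodule.coe_add]

omit [Module S M] in
theorem projM_apply (d : ℕ) (m : M) : projM ℳ d m = (decompose ℳ m d : M) := rfl

omit [Module S M] in
theorem projM_of_mem_same {d : ℕ} {m : M} (hm : m ∈ ℳ d) : projM ℳ d m = m :=
  decompose_of_mem_same ℳ hm

omit [Module S M] in
theorem projM_of_mem_ne {d e : ℕ} {m : M} (hm : m ∈ ℳ e) (h : e ≠ d) : projM ℳ d m = 0 :=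
  decompose_of_mem_ne ℳ hm h

theorem projM_smul_mem (N : Submodule S M) (a : S) (m' : M) (d : ℕ)
    (h : ∀ i j, i + j = d → ((decompose 𝒜 a i : S) • (decompose ℳ m' j : M)) ∈ N) :
    projM ℳ d (a • m') ∈ N := by
  classical
  have key : a • m' = ∑ i ∈ (decompose 𝒜 a).support, ∑ j ∈ (decompose ℳ m').support,
      (decompose 𝒜 a i : S) • (decompose ℳ m' j : M) := by
    conv_lhs => rw [← sum_support_decompose 𝒜 a, ← sum_support_decompose ℳ m']
    rw [Finset.sum_smul]
    refine Finset.sum_congr rfl (fun i _ => ?_)
    rw [Finset.smul_sum]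
  rw [key, map_sum]
  refine Submodule.sum_mem _ (fun i _ => ?_)
  rw [map_sum]
  refine Submodule.sum_mem _ (fun j _ => ?_)
  have hmem : (decompose 𝒜 a i : S) • (decompose ℳ m' j : M) ∈ ℳ (i + j) :=
    SetLike.GradedSMul.smul_mem (decompose 𝒜 a i).2 (decompose ℳ m' j).2
  by_cases hij : i + j = d
  · rw [hij] at hmem
    rw [projM_of_mem_same ℳ hmem]
    exact h i j hij
  · rw [projM_of_mem_ne ℳ hmem hij]
    exact N.zero_mem

end GradedHelpers

/-- Let S be an ℕ-graded ring and M a finitely generated graded S-module, graded in nonnegative degrees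
(the source allows all integer degrees). If x_1, …, x_n are homogeneous elements of M which generate
M modulo S₊ M (S₊ the irrelevant ideal), then x_1, …, x_n generate M. -/
theorem result {R S : Type u} [CommRing R] [CommRing S] [Algebra R S] (𝒜 : ℕ → Submodule R S) [GradedAlgebra 𝒜]
    (M : Type u) [AddCommGroup M] [Module R M] [Module S M] [IsScalarTower R S M] [Module.Finite S M] (ℳ : ℕ → Submodule R M) [DirectSum.Decomposition ℳ] [SetLike.GradedSMul 𝒜 ℳ]
    {n : ℕ} (x : Fin n → M) (hx : ∀ i, SetLike.IsHomogeneousElem ℳ (x i))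
    (h : Submodule.span S (Set.range x) ⊔ (HomogeneousIdeal.irrelevant 𝒜).toIdeal • (⊤ : Submodule S M) = ⊤) :
    Submodule.span S (Set.range x) = ⊤ := by
  classical
  -- the span is a homogeneous submodule
  have hNhom : ∀ n ∈ Submodule.span S (Set.range x), ∀ e,
      projM ℳ e n ∈ Submodule.span S (Set.range x) := by
    intro n hn
    induction hn using Submodule.span_induction with
    | mem y hy =>
      obtain ⟨k, rfl⟩ := hy
      intro e
      obtain ⟨e', he'⟩ := hx k
      by_cases hee : e' = e
      · rw [projM_of_mem_same ℳ (hee ▸ he')]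
        exact Submodule.subset_span ⟨k, rfl⟩
      · rw [projM_of_mem_ne ℳ he' hee]
        exact Submodule.zero_mem _
    | zero =>
      intro e
      rw [map_zero]
      exact Submodule.zero_mem _
    | add a b _ _ ha hb =>
      intro e
      rw [map_add]
      exact Submodule.add_mem _ (ha e) (hb e)
    | smul s n _ hn =>
      intro e
      apply projM_smul_mem 𝒜 ℳ _ s n e
      intro i j _
      exact Submodule.smul_mem _ _ (hn j)
  -- every homogeneous element lies in the span
  have hhom : ∀ d, ∀ m ∈ ℳ d, m ∈ Submodule.span S (Set.range x) := by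
    intro d
    induction d using Nat.strong_induction_on with
    | _ d ih =>
      intro m hm
      have hmtop : m ∈ Submodule.span S (Set.range x) ⊔
          (HomogeneousIdeal.irrelevant 𝒜).toIdeal • (⊤ : Submodule S M) := by
        rw [h]
        exact Submodule.mem_top
      obtain ⟨n, hn, z, hz, rfl⟩ := Submodule.mem_sup.mp hmtop
      have h1 : projM ℳ d (n + z) = n + z := projM_of_mem_same ℳ hm
      rw [← h1, map_add]
      refine Submodule.add_mem _ (hNhom n hn d) ?_
      clear h1 hm hmtop
      refine Submodule.smul_induction_on hz (fun a ha m' _ => ?_) (fun z1 z2 h1 h2 => ?_)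
      · apply projM_smul_mem 𝒜 ℳ _ a m' d
        intro i j hij
        rcases Nat.eq_zero_or_pos i with rfl | hi
        · have h0 : GradedRing.proj 𝒜 0 a = 0 :=
            (HomogeneousIdeal.mem_irrelevant_iff 𝒜 a).mp ha
          rw [GradedRing.proj_apply] at h0
          rw [h0, zero_smul]
          exact Submodule.zero_mem _
        · exact Submodule.smul_mem _ _ (ih j (by omega) _ (DirectSum.decompose ℳ m' j).2)
      · rw [map_add]
        exact Submodule.add_mem _ h1 h2
  rw [eq_top_iff]
  intro m _
  rw [← DirectSum.sum_support_decompose ℳ m]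
  exact Submodule.sum_mem _ (fun i _ => hhom i _ (DirectSum.decompose ℳ m i).2)

end Groth.Agent.S9614
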