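import Groth.Statements.S9615
import Mathlib.RingTheory.Polynomial.IsIntegral
import Mathlib.RingTheory.GradedAlgebra.Basic
import Mathlib.RingTheory.PolynomialAlgebra

set_option autoImplicit false
universe u
open CAlg

namespace Groth.Agent.S9615


section GradedPoly

open Polynomial DirectSum

attribute [local instance] Polynomial.algebra

variable {S : Type*} [CommRing S] (𝒮 : ℕ → AddSubgroup S) [GradedRing 𝒮]

/-- The additive maps `S_i → S[X]`, `x ↦ x X^i`. -/
noncomputable def phi (i : ℕ) : 𝒮 i →+ S[X] :=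
  (Polynomial.monomial i : S →ₗ[S] S[X]).toAddMonoidHom.comp (𝒮 i).subtype

theorem phi_apply (i : ℕ) (x : 𝒮 i) : phi 𝒮 i x = Polynomial.monomial i (x : S) := rfl

/-- The ring map `S → S[X]`, `∑ sᵢ ↦ ∑ sᵢ Xⁱ`. -/
noncomputable def toPoly : S →+* S[X] :=
  (DirectSum.toSemiring (phi 𝒮)
    (by rw [phi_apply, SetLike.coe_gOne, Polynomial.monomial_zero_left, map_one])
    (by
      intro i j ai aj
      rw [phi_apply, phi_apply, phi_apply, SetLike.coe_gMul,
        Polynomial.monomial_mul_monomial])).comp
    (DirectSum.decomposeRingEquiv 𝒮).toRingHom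

theorem toPoly_of_mem {i : ℕ} {x : S} (hx : x ∈ 𝒮 i) :
    toPoly 𝒮 x = Polynomial.monomial i x := by
  have h1 : (DirectSum.decomposeRingEquiv 𝒮).toRingHom x = DirectSum.decompose 𝒮 x := rfl
  rw [toPoly, RingHom.comp_apply, h1, DirectSum.decompose_of_mem 𝒮 hx, DirectSum.toSemiring_of,
    phi_apply]

theorem coeff_toPoly (s : S) (i : ℕ) :
    (toPoly 𝒮 s).coeff i = (DirectSum.decompose 𝒮 s i : S) := by
  classical
  conv_lhs => rw [← DirectSum.sum_support_decompose 𝒮 s]
  rw [map_sum, Polynomial.finsetSum_coeff]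
  have h1 : ∀ j ∈ (DirectSum.decompose 𝒮 s).support,
      (toPoly 𝒮 ((DirectSum.decompose 𝒮 s j : S))).coeff i =
        if j = i then (DirectSum.decompose 𝒮 s j : S) else 0 := by
    intro j _
    rw [toPoly_of_mem 𝒮 (DirectSum.decompose 𝒮 s j).2, Polynomial.coeff_monomial]
  rw [Finset.sum_congr rfl h1, Finset.sum_ite_eq']
  split_ifs with h
  · rfl
  · rw [DFinsupp.notMem_support_iff.mp h]
    rfl

end GradedPoly

/-- Let R → S be a homomorphism of ℕ-graded rings, i.e. the structure map carries each graded piece R_i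
into S_i. If an element s of S is integral over R, then each homogeneous component of s is integral
over R; so the integral closure of R in S is a graded subring of S. -/
theorem result {R S : Type u} [CommRing R] [CommRing S] [Algebra R S] (ℛ : ℕ → AddSubgroup R) [GradedRing ℛ] (𝒮 : ℕ → AddSubgroup S) [GradedRing 𝒮]
    (hmap : ∀ i : ℕ, ∀ r ∈ ℛ i, algebraMap R S r ∈ 𝒮 i) (s : S) (hs : IsIntegral R s) (i : ℕ) :
    IsIntegral R ((DirectSum.decompose 𝒮 s i : 𝒮 i) : S) := by
  classical
  letI := Polynomial.algebra (R := R) (A := S)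
  -- compatibility of the two maps to polynomial rings
  have hcompat : ∀ r : R, toPoly 𝒮 (algebraMap R S r) =
      Polynomial.map (algebraMap R S) (toPoly ℛ r) := by
    intro r
    induction r using DirectSum.Decomposition.inductionOn ℛ with
    | zero => simp
    | homogeneous m =>
      rename_i j
      rw [toPoly_of_mem ℛ m.2, toPoly_of_mem 𝒮 (hmap j _ m.2), Polynomial.map_monomial]
    | add a b ha hb => rw [map_add, map_add, map_add, Polynomial.map_add, ha, hb]
  obtain ⟨p, hpm, hp⟩ := hs
  have hint : IsIntegral (Polynomial R) (toPoly 𝒮 s) := by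
    refine ⟨p.map (toPoly ℛ), hpm.map _, ?_⟩
    rw [Polynomial.eval₂_map]
    have h1 : (algebraMap (Polynomial R) (Polynomial S)).comp (toPoly ℛ) =
        (toPoly 𝒮).comp (algebraMap R S) := by
      ext1 r
      rw [RingHom.comp_apply, RingHom.comp_apply, hcompat r]
      rfl
    rw [h1, ← Polynomial.hom_eval₂, hp, map_zero]
  have h2 := Polynomial.isIntegral_iff_isIntegral_coeff.mp hint i
  rw [coeff_toPoly] at h2
  exact h2

end Groth.Agent.S9615
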