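import Groth.Statements.S9616
import Mathlib.RingTheory.GradedAlgebra.Homogeneous.Ideal
import Mathlib.RingTheory.Ideal.Operations

set_option autoImplicit false
universe u
open CAlg

namespace Groth.Agent.S9616


section GradedAvoid

open DirectSum

variable {R S : Type*} [CommRing R] [CommRing S] [Algebra R S] (𝒜 : ℕ → Submodule R S)
  [GradedAlgebra 𝒜]

theorem exists_homog_not_mem (J : Ideal S) (hJ : J.IsHomogeneous 𝒜) (P : Ideal S)
    (h : ¬ J ≤ P) : ∃ z : S, ∃ d : ℕ, z ∈ 𝒜 d ∧ z ∈ J ∧ z ∉ P := by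
  classical
  obtain ⟨z, hzJ, hzP⟩ := SetLike.not_le_iff_exists.mp h
  by_contra hcon
  push Not at hcon
  apply hzP
  rw [← DirectSum.sum_support_decompose 𝒜 z]
  exact P.sum_mem (fun i _ => hcon _ i (decompose 𝒜 z i).2 (hJ i hzJ))

theorem graded_avoid (I : Ideal S) (hIh : I.IsHomogeneous 𝒜)
    (hI : I ≤ (HomogeneousIdeal.irrelevant 𝒜).toIdeal)
    {ι : Type*} [DecidableEq ι] (P : ι → Ideal S) (hPh : ∀ i, (P i).IsHomogeneous 𝒜)
    (hPp : ∀ i, (P i).IsPrime) :
    ∀ (n : ℕ) (t : Finset ι), t.card = n → (∀ i ∈ t, ¬ I ≤ P i) →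
      ∃ x : S, ∃ d : ℕ, 0 < d ∧ x ∈ 𝒜 d ∧ x ∈ I ∧ ∀ i ∈ t, x ∉ P i := by
  intro n
  induction n with
  | zero =>
    intro t ht _
    rw [Finset.card_eq_zero] at ht
    subst ht
    exact ⟨0, 1, Nat.one_pos, Submodule.zero_mem _, I.zero_mem, by simp⟩
  | succ n ih =>
    intro t ht hnot
    have hne : t.Nonempty := Finset.card_pos.mp (by omega)
    obtain ⟨a, hat⟩ := hne
    by_cases hcase : ∃ i ∈ t, i ≠ a ∧ P i ≤ P a
    · obtain ⟨i, hit, hia, hle⟩ := hcase
      obtain ⟨x, d, hd, hxd, hxI, hx⟩ := ih (t.erase i)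
        (by rw [Finset.card_erase_of_mem hit, ht]; rfl)
        (fun j hj => hnot j (Finset.mem_of_mem_erase hj))
      refine ⟨x, d, hd, hxd, hxI, fun j hj => ?_⟩
      by_cases hji : j = i
      · rw [hji]
        exact fun h => hx a (Finset.mem_erase.mpr ⟨fun h' => hia h'.symm, hat⟩) (hle h)
      · exact hx j (Finset.mem_erase.mpr ⟨hji, hj⟩)
    · push Not at hcase
      obtain ⟨x', d', hd', hx'd, hx'I, hx'⟩ := ih (t.erase a)
        (by rw [Finset.card_erase_of_mem hat, ht]; rfl)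
        (fun j hj => hnot j (Finset.mem_of_mem_erase hj))
      by_cases hx'a : x' ∈ P a
      swap
      · refine ⟨x', d', hd', hx'd, hx'I, fun j hj => ?_⟩
        by_cases hja : j = a
        · rw [hja]
          exact hx'a
        · exact hx' j (Finset.mem_erase.mpr ⟨hja, hj⟩)
      -- an element of `I` in all the other primes but not in `P a`
      obtain ⟨y, ey, hyhom, hyI, hyi, hya⟩ : ∃ y : S, ∃ ey : ℕ, y ∈ 𝒜 ey ∧ y ∈ I ∧
          (∀ i ∈ t.erase a, y ∈ P i) ∧ y ∉ P a := by
        obtain ⟨z0, e0, hz0e, hz0I, hz0a⟩ := exists_homog_not_mem 𝒜 I hIh (P a) (hnot a hat)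
        have hz : ∀ i : ι, ∃ z : S, ∃ e : ℕ, z ∈ 𝒜 e ∧ (i ∈ t.erase a → z ∈ P i) ∧ z ∉ P a := by
          intro i
          by_cases hi : i ∈ t.erase a
          · obtain ⟨z, e, hze, hzi, hza⟩ := exists_homog_not_mem 𝒜 (P i) (hPh i) (P a)
              (hcase i (Finset.mem_of_mem_erase hi) (Finset.ne_of_mem_erase hi))
            exact ⟨z, e, hze, fun _ => hzi, hza⟩
          · exact ⟨1, 0, SetLike.one_mem_graded 𝒜, fun h => absurd h hi,
              fun h => (hPp a).ne_top ((Ideal.eq_top_iff_one _).mpr h)⟩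
        choose z e hze hzi hza using hz
        refine ⟨z0 * ∏ i ∈ t.erase a, z i, e0 + ∑ i ∈ t.erase a, e i,
          SetLike.mul_mem_graded hz0e (SetLike.prod_mem_graded 𝒜 e z (fun k _ => hze k)),
          I.mul_mem_right _ hz0I, ?_, ?_⟩
        · intro i hi
          haveI := hPp i
          exact (P i).mul_mem_left _ (Ideal.IsPrime.prod_mem_iff.mpr ⟨i, hi, hzi i hi⟩)
        · intro hmem
          haveI := hPp a
          rcases (hPp a).mem_or_mem hmem with h1 | h1
          · exact hz0a h1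
          · obtain ⟨i, _, hi⟩ := Ideal.IsPrime.prod_mem_iff.mp h1
            exact hza i hi
      have hey : 0 < ey := by
        by_contra h0
        have h0' : ey = 0 := by omega
        rw [h0'] at hyhom
        have h1 : GradedRing.proj 𝒜 0 y = 0 :=
          (HomogeneousIdeal.mem_irrelevant_iff 𝒜 y).mp (hI hyI)
        rw [GradedRing.proj_apply, DirectSum.decompose_of_mem_same 𝒜 hyhom] at h1
        exact hya (h1 ▸ (P a).zero_mem)
      refine ⟨x' ^ ey + y ^ d', d' * ey, Nat.mul_pos hd' hey, ?_, ?_, ?_⟩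
      · refine Submodule.add_mem _ ?_ ?_
        · have h1 := SetLike.pow_mem_graded ey hx'd
          rwa [smul_eq_mul, mul_comm] at h1
        · have h1 := SetLike.pow_mem_graded d' hyhom
          rwa [smul_eq_mul] at h1
      · exact I.add_mem (Ideal.pow_mem_of_mem I hx'I _ hey) (Ideal.pow_mem_of_mem I hyI _ hd')
      · intro j hj hw
        by_cases hja : j = a
        · rw [hja] at hw
          have h1 : y ^ d' ∈ P a := by
            have h2 := (P a).sub_mem hw (Ideal.pow_mem_of_mem (P a) hx'a _ hey)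
            rwa [add_sub_cancel_left] at h2
          exact hya ((hPp a).mem_of_pow_mem _ h1)
        · have hj' : j ∈ t.erase a := Finset.mem_erase.mpr ⟨hja, hj⟩
          have h1 : x' ^ ey ∈ P j := by
            have h2 := (P j).sub_mem hw (Ideal.pow_mem_of_mem (P j) (hyi j hj') _ hd')
            rwa [add_sub_cancel_right] at h2
          exact hx' j hj' ((hPp j).mem_of_pow_mem _ h1)

end GradedAvoid

/-- Let S be an ℕ-graded ring, p_1, …, p_r homogeneous prime ideals of S and I ⊆ S₊ a homogeneous ideal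
not contained in any p_i. Then there is a homogeneous element x ∈ I of positive degree with x ∉ p_i
for all i. -/
theorem result {R S : Type u} [CommRing R] [CommRing S] [Algebra R S] (𝒜 : ℕ → Submodule R S) [GradedAlgebra 𝒜]
    {r : ℕ} (p : Fin r → HomogeneousIdeal 𝒜) (hp : ∀ i, (p i).toIdeal.IsPrime) (I : HomogeneousIdeal 𝒜) (hI : I ≤ HomogeneousIdeal.irrelevant 𝒜) (h : ∀ i, ¬ I ≤ p i) :
    ∃ x : S, ∃ d : ℕ, 0 < d ∧ x ∈ 𝒜 d ∧ x ∈ I ∧ ∀ i, x ∉ p i := by
  classical
  obtain ⟨x, d, hd, hxd, hxI, hx⟩ := graded_avoid 𝒜 I.toIdeal I.isHomogeneous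
    (fun x hx => hI hx) (fun i => (p i).toIdeal) (fun i => (p i).isHomogeneous) hp
    (Finset.univ : Finset (Fin r)).card Finset.univ rfl
    (fun i _ hle => h i (fun x hx => hle hx))
  exact ⟨x, d, hd, hxd, hxI, fun i => hx i (Finset.mem_univ i)⟩

end Groth.Agent.S9616
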