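import Groth.Statements.S9617
import Mathlib

set_option autoImplicit false
universe u
open CAlg

namespace Groth.Agent.S9617


section GradedFin

open DirectSum

variable {A S : Type*} [CommRing A] [CommRing S] [Algebra A S]
  {M : Type*} [AddCommGroup M] [Module A M]
  (ℳ : ℕ → Submodule A M) [DirectSum.Decomposition ℳ]

/-- Projection onto the degree `d` component as an `A`-linear map. -/
noncomputable def projL (d : ℕ) : M →ₗ[A] M :=
  (ℳ d).subtype ∘ₗ (DirectSum.component A ℕ (fun i => ℳ i) d) ∘ₗ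
    (DirectSum.decomposeLinearEquiv ℳ).toLinearMap

theorem projL_apply (d : ℕ) (m : M) : projL ℳ d m = (decompose ℳ m d : M) := rfl

theorem projL_mem (d : ℕ) (m : M) : projL ℳ d m ∈ ℳ d := (decompose ℳ m d).2

theorem projL_of_mem_same {d : ℕ} {m : M} (hm : m ∈ ℳ d) : projL ℳ d m = m :=
  decompose_of_mem_same ℳ hm

theorem projL_of_mem_ne {d e : ℕ} {m : M} (hm : m ∈ ℳ e) (h : e ≠ d) : projL ℳ d m = 0 :=
  decompose_of_mem_ne ℳ hm h

theorem exists_gens (𝒜 : ℕ → Submodule A S) [GradedAlgebra 𝒜]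
    (h0 : ∀ s ∈ 𝒜 0, s ∈ Set.range (algebraMap A S)) [Algebra.FiniteType A S] :
    ∃ s : Finset S, Algebra.adjoin A (s : Set S) = ⊤ ∧ ∀ f ∈ s, ∃ d, d ≠ 0 ∧ f ∈ 𝒜 d := by
  classical
  obtain ⟨F, hF⟩ := Algebra.FiniteType.out (R := A) (A := S)
  refine ⟨F.biUnion (fun x => ((DirectSum.decompose 𝒜 x).support.filter (· ≠ 0)).image
    (fun i => (DirectSum.decompose 𝒜 x i : S))), ?_, ?_⟩
  · rw [← top_le_iff, ← hF, Algebra.adjoin_le_iff]
    intro x hx
    rw [SetLike.mem_coe, ← DirectSum.sum_support_decompose 𝒜 x]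
    refine Subalgebra.sum_mem _ (fun i hi => ?_)
    by_cases hi0 : i = 0
    · subst hi0
      obtain ⟨a, ha⟩ := h0 _ (DirectSum.decompose 𝒜 x 0).2
      rw [← ha]
      exact Subalgebra.algebraMap_mem _ a
    · apply Algebra.subset_adjoin
      rw [Finset.mem_coe, Finset.mem_biUnion]
      exact ⟨x, Finset.mem_coe.mp hx,
        Finset.mem_image.mpr ⟨i, Finset.mem_filter.mpr ⟨hi, hi0⟩, rfl⟩⟩
  · intro f hf
    rw [Finset.mem_biUnion] at hf
    obtain ⟨x, -, hf⟩ := hf
    obtain ⟨i, hi, rfl⟩ := Finset.mem_image.mp hf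
    exact ⟨i, (Finset.mem_filter.mp hi).2, (DirectSum.decompose 𝒜 x i).2⟩

theorem exists_gensM [Module S M] [Module.Finite S M] :
    ∃ t : Finset M, Submodule.span S (t : Set M) = ⊤ ∧ ∀ m ∈ t, ∃ e, m ∈ ℳ e := by
  classical
  obtain ⟨G, hG⟩ := Module.Finite.fg_top (R := S) (M := M)
  refine ⟨G.biUnion (fun x => (DirectSum.decompose ℳ x).support.image
    (fun i => (DirectSum.decompose ℳ x i : M))), ?_, ?_⟩
  · rw [← top_le_iff, ← hG, Submodule.span_le]
    intro x hx
    rw [SetLike.mem_coe, ← DirectSum.sum_support_decompose ℳ x]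
    refine Submodule.sum_mem _ (fun i hi => Submodule.subset_span ?_)
    rw [Finset.mem_coe, Finset.mem_biUnion]
    exact ⟨x, Finset.mem_coe.mp hx, Finset.mem_image.mpr ⟨i, hi, rfl⟩⟩
  · intro m hm
    rw [Finset.mem_biUnion] at hm
    obtain ⟨x, -, hm⟩ := hm
    obtain ⟨i, -, rfl⟩ := Finset.mem_image.mp hm
    exact ⟨i, (DirectSum.decompose ℳ x i).2⟩

open Classical in
/-- `k`-fold products of elements of `s`. -/
noncomputable def prods (s : Finset S) : ℕ → Finset S
  | 0 => {1}
  | k + 1 => Finset.image₂ (· * ·) s (prods s k)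

open Classical in
theorem prods_zero (s : Finset S) : prods s 0 = {1} := rfl

open Classical in
theorem prods_succ (s : Finset S) (k : ℕ) :
    prods s (k + 1) = Finset.image₂ (· * ·) s (prods s k) := rfl

open Classical in
theorem prods_homog (𝒜 : ℕ → Submodule A S) [GradedAlgebra 𝒜] (s : Finset S)
    (hs : ∀ f ∈ s, ∃ d, d ≠ 0 ∧ f ∈ 𝒜 d) (k : ℕ) :
    ∀ c ∈ prods s k, ∃ i, k ≤ i ∧ c ∈ 𝒜 i := by
  induction k with
  | zero =>
    intro c hc
    rw [prods_zero, Finset.mem_singleton] at hc
    exact ⟨0, le_rfl, hc ▸ SetLike.GradedOne.one_mem⟩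
  | succ k ih =>
    intro c hc
    rw [prods_succ, Finset.mem_image₂] at hc
    obtain ⟨f, hf, c', hc', rfl⟩ := hc
    obtain ⟨d, hd, hfd⟩ := hs f hf
    obtain ⟨i, hi, hci⟩ := ih c' hc'
    exact ⟨d + i, by omega, SetLike.GradedMul.mul_mem hfd hci⟩

end GradedFin

/-- Let S be an ℕ-graded ring, presented as a graded algebra over a ring A mapping onto S₀, such that S
is of finite type over A, i.e. over S₀. If M is a finitely generated graded S-module, graded in
nonnegative degrees (the source allows all integer degrees), then each graded piece M_n is a finite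
module over A, i.e. over S₀. -/
theorem result {A S : Type u} [CommRing A] [CommRing S] [Algebra A S] (𝒜 : ℕ → Submodule A S) [GradedAlgebra 𝒜]
    (h0 : ∀ s ∈ 𝒜 0, s ∈ Set.range (algebraMap A S)) [Algebra.FiniteType A S]
    (M : Type u) [AddCommGroup M] [Module A M] [Module S M] [IsScalarTower A S M] [Module.Finite S M] (ℳ : ℕ → Submodule A M) [DirectSum.Decomposition ℳ] [SetLike.GradedSMul 𝒜 ℳ] (n : ℕ) :
    Module.Finite A (ℳ n) := by
  classical
  obtain ⟨s, hs_top, hs⟩ := exists_gens 𝒜 h0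
  obtain ⟨t, ht_top, ht_hom⟩ := exists_gensM (S := S) ℳ
  set T : Set M := {x | ∃ k, ∃ c ∈ prods s k, ∃ m ∈ t, x = c • m} with hT
  have hN : ∀ c : S, ∀ x ∈ Submodule.span A T, c • x ∈ Submodule.span A T := by
    intro c
    have hc : c ∈ Algebra.adjoin A (s : Set S) := hs_top ▸ Algebra.mem_top
    induction hc using Algebra.adjoin_induction with
    | mem f hf =>
      intro x hx
      induction hx using Submodule.span_induction with
      | mem x hx =>
        obtain ⟨k, c', hc', m, hm, rfl⟩ := hx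
        apply Submodule.subset_span
        refine ⟨k + 1, f * c', ?_, m, hm, by rw [mul_smul]⟩
        rw [prods_succ]
        exact Finset.mem_image₂_of_mem (Finset.mem_coe.mp hf) hc'
      | zero =>
        rw [smul_zero]
        exact Submodule.zero_mem _
      | add x y _ _ hx hy =>
        rw [smul_add]
        exact Submodule.add_mem _ hx hy
      | smul a x _ hx =>
        rw [smul_comm]
        exact Submodule.smul_mem _ a hx
    | algebraMap a =>
      intro x hx
      rw [algebraMap_smul]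
      exact Submodule.smul_mem _ a hx
    | add c₁ c₂ _ _ h₁ h₂ =>
      intro x hx
      rw [add_smul]
      exact Submodule.add_mem _ (h₁ x hx) (h₂ x hx)
    | mul c₁ c₂ _ _ h₁ h₂ =>
      intro x hx
      rw [mul_smul]
      exact h₁ _ (h₂ x hx)
  have hM : ∀ x : M, x ∈ Submodule.span A T := by
    intro x
    have hx : x ∈ Submodule.span S (t : Set M) := ht_top ▸ Submodule.mem_top
    induction hx using Submodule.span_induction with
    | mem m hm =>
      exact Submodule.subset_span ⟨0, 1, by rw [prods_zero]; exact Finset.mem_singleton_self 1,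
        m, Finset.mem_coe.mp hm, (one_smul _ _).symm⟩
    | zero => exact Submodule.zero_mem _
    | add x y _ _ hx hy => exact Submodule.add_mem _ hx hy
    | smul c x _ hx => exact hN c x hx
  rw [Module.Finite.iff_fg]
  refine ⟨(Finset.range (n + 1)).biUnion (fun k =>
    Finset.image₂ (fun c m => projL ℳ n (c • m)) (prods s k) t), le_antisymm ?_ ?_⟩
  · rw [Submodule.span_le]
    intro y hy
    rw [Finset.mem_coe, Finset.mem_biUnion] at hy
    obtain ⟨k, -, hy⟩ := hy
    obtain ⟨c, -, m, -, rfl⟩ := Finset.mem_image₂.mp hy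
    exact projL_mem ℳ n _
  · intro x hx
    have hx' : projL ℳ n x ∈ Submodule.map (projL ℳ n) (Submodule.span A T) :=
      Submodule.mem_map_of_mem (hM x)
    rw [projL_of_mem_same ℳ hx, Submodule.map_span] at hx'
    refine Submodule.span_le.mpr ?_ hx'
    rintro _ ⟨_, ⟨k, c, hc, m, hm, rfl⟩, rfl⟩
    by_cases hk : k ≤ n
    · apply Submodule.subset_span
      rw [Finset.mem_coe, Finset.mem_biUnion]
      exact ⟨k, Finset.mem_range.mpr (by omega), Finset.mem_image₂_of_mem hc hm⟩
    · obtain ⟨i, hi, hci⟩ := prods_homog 𝒜 s hs k c hc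
      obtain ⟨e, hme⟩ := ht_hom m hm
      have hmem : c • m ∈ ℳ (i + e) := SetLike.GradedSMul.smul_mem hci hme
      rw [SetLike.mem_coe, projL_of_mem_ne ℳ hmem (by omega)]
      exact Submodule.zero_mem _

end Groth.Agent.S9617
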