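import Groth.Statements.S9620
import Mathlib.RingTheory.Spectrum.Prime.Topology
import Mathlib.Topology.Connected.Clopen
import Mathlib.RingTheory.Spectrum.Prime.RingHom

set_option autoImplicit false
universe u
open CAlg

namespace Groth.Agent.S9620


section IdemHelpers
variable {R : Type*} [CommRing R]

/-- Every element of the ideal generated by the idempotents contained in a prime `p` is fixed by
multiplication with one such idempotent. -/
theorem exists_idem_mul_eq (p : Ideal R) [p.IsPrime] {x : R}
    (hx : x ∈ Ideal.span {e : R | IsIdempotentElem e ∧ e ∈ p}) :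
    ∃ e : R, IsIdempotentElem e ∧ e ∈ p ∧ x * e = x := by
  induction hx using Submodule.span_induction with
  | mem y hy => exact ⟨y, hy.1, hy.2, hy.1⟩
  | zero => exact ⟨0, IsIdempotentElem.zero, p.zero_mem, by simp⟩
  | add a b _ _ ha hb =>
    obtain ⟨e1, he1, he1p, h1⟩ := ha
    obtain ⟨e2, he2, he2p, h2⟩ := hb
    refine ⟨e1 + e2 - e1 * e2, ?_, ?_, ?_⟩
    · have h : e1 + e2 - e1 * e2 = 1 - (1 - e1) * (1 - e2) := by ring
      rw [h]
      exact (he1.one_sub.mul he2.one_sub).one_sub
    · exact p.sub_mem (p.add_mem he1p he2p) (p.mul_mem_left _ he2p)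
    · have e1' : e1 * e1 = e1 := he1
      have e2' : e2 * e2 = e2 := he2
      calc (a + b) * (e1 + e2 - e1 * e2)
          = (a * e1) * (e1 + e2 - e1 * e2) + (b * e2) * (e1 + e2 - e1 * e2) := by
            rw [h1, h2]; ring
        _ = a * (e1 * e1) + a * (e1 * e2) - a * (e1 * e1) * e2 +
            (b * (e2 * e1) + b * (e2 * e2) - b * e1 * (e2 * e2)) := by ring
        _ = a * e1 + b * e2 := by rw [e1', e2']; ring
        _ = a + b := by rw [h1, h2]
  | smul r a _ ha =>
    obtain ⟨e1, he1, he1p, h1⟩ := ha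
    exact ⟨e1, he1, he1p, by rw [smul_eq_mul, mul_assoc, h1]⟩

theorem idem_quot (p : Ideal R) [hp : p.IsPrime]
    (eb : R ⧸ Ideal.span {e : R | IsIdempotentElem e ∧ e ∈ p}) (heb : IsIdempotentElem eb) :
    eb = 0 ∨ eb = 1 := by
  obtain ⟨e, rfl⟩ := Ideal.Quotient.mk_surjective eb
  have h1 : e * e - e ∈ Ideal.span {e : R | IsIdempotentElem e ∧ e ∈ p} := by
    rw [← Ideal.Quotient.eq, map_mul]
    exact heb
  obtain ⟨e', he', he'p, h2⟩ := exists_idem_mul_eq p h1
  have hg : (1 - e') * (1 - e') = 1 - e' := he'.one_sub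
  have hf : IsIdempotentElem (e * (1 - e')) := by
    show e * (1 - e') * (e * (1 - e')) = e * (1 - e')
    have h3 : e * (1 - e') * (e * (1 - e')) = e * e * ((1 - e') * (1 - e')) := by ring
    rw [h3, hg]
    have h4 : e * e * (1 - e') = e * (1 - e') + ((e * e - e) - (e * e - e) * e') := by ring
    rw [h4, h2, sub_self, add_zero]
  have he'I : e' ∈ Ideal.span {e : R | IsIdempotentElem e ∧ e ∈ p} :=
    Ideal.subset_span ⟨he', he'p⟩
  have hmk : Ideal.Quotient.mk (Ideal.span {e : R | IsIdempotentElem e ∧ e ∈ p}) (e * (1 - e')) =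
      Ideal.Quotient.mk (Ideal.span {e : R | IsIdempotentElem e ∧ e ∈ p}) e := by
    rw [Ideal.Quotient.eq]
    have h5 : e * (1 - e') - e = -(e * e') := by ring
    rw [h5]
    exact Submodule.neg_mem _ (Ideal.mul_mem_left _ _ he'I)
  have hprod : e * (1 - e') * (1 - e * (1 - e')) ∈ p := by
    have h6 : e * (1 - e') * (1 - e * (1 - e')) = 0 := by
      rw [mul_sub, mul_one, hf.eq, sub_self]
    rw [h6]
    exact p.zero_mem
  rcases hp.mem_or_mem hprod with h | h
  · left
    rw [← hmk, Ideal.Quotient.eq_zero_iff_mem]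
    exact Ideal.subset_span ⟨hf, h⟩
  · right
    rw [← hmk, ← sub_eq_zero, ← map_one (Ideal.Quotient.mk _), ← map_sub,
      Ideal.Quotient.eq_zero_iff_mem]
    have h7 : e * (1 - e') - 1 = -(1 - e * (1 - e')) := by ring
    rw [h7]
    exact Submodule.neg_mem _ (Ideal.subset_span ⟨hf.one_sub, h⟩)

theorem preconnected_zeroLocus (p : PrimeSpectrum R) :
    IsPreconnected (PrimeSpectrum.zeroLocus {e : R | IsIdempotentElem e ∧ e ∈ p.asIdeal}) := by
  haveI := p.2
  haveI : PreconnectedSpace
      (PrimeSpectrum (R ⧸ Ideal.span {e : R | IsIdempotentElem e ∧ e ∈ p.asIdeal})) := by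
    rw [preconnectedSpace_iff_clopen]
    intro s hs
    obtain ⟨eb, heb, rfl⟩ := PrimeSpectrum.isClopen_iff.mp hs
    rcases idem_quot p.asIdeal eb heb with h | h
    · left
      rw [h, PrimeSpectrum.basicOpen_zero]
      rfl
    · right
      rw [h, PrimeSpectrum.basicOpen_one]
      rfl
  have hrange : Set.range (PrimeSpectrum.comap
      (Ideal.Quotient.mk (Ideal.span {e : R | IsIdempotentElem e ∧ e ∈ p.asIdeal}))) =
      PrimeSpectrum.zeroLocus {e : R | IsIdempotentElem e ∧ e ∈ p.asIdeal} := by
    rw [range_comap_of_surjective _ _ Ideal.Quotient.mk_surjective, Ideal.mk_ker,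
      PrimeSpectrum.zeroLocus_span]
  rw [← hrange]
  exact isPreconnected_range (PrimeSpectrum.continuous_comap _)

end IdemHelpers

/-- For a ring R and a point p of Spec R, the connected component of p is the zero locus of the ideal I
generated by the idempotents of R contained in p, and every idempotent e of R satisfies e ∈ I or 1 -
e ∈ I (e maps to 0 or 1 in R/I). -/
theorem result {R : Type u} [CommRing R] (p : PrimeSpectrum R) :
    connectedComponent p = PrimeSpectrum.zeroLocus {e : R | IsIdempotentElem e ∧ e ∈ p.asIdeal} ∧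
      ∀ e : R, IsIdempotentElem e → (e ∈ Ideal.span {e : R | IsIdempotentElem e ∧ e ∈ p.asIdeal} ∨ 1 - e ∈ Ideal.span {e : R | IsIdempotentElem e ∧ e ∈ p.asIdeal}) := by
  haveI := p.2
  refine ⟨?_, ?_⟩
  · apply Set.Subset.antisymm
    · intro q hq
      rw [PrimeSpectrum.mem_zeroLocus]
      intro e he
      have hclopen : IsClopen (PrimeSpectrum.zeroLocus ({e} : Set R)) :=
        PrimeSpectrum.isClopen_iff_zeroLocus.mpr ⟨e, he.1, rfl⟩
      have hp : p ∈ PrimeSpectrum.zeroLocus ({e} : Set R) := by
        rw [PrimeSpectrum.mem_zeroLocus, Set.singleton_subset_iff]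
        exact he.2
      have h1 := hclopen.connectedComponent_subset hp hq
      rw [PrimeSpectrum.mem_zeroLocus, Set.singleton_subset_iff] at h1
      exact h1
    · apply (preconnected_zeroLocus p).subset_connectedComponent
      rw [PrimeSpectrum.mem_zeroLocus]
      intro e he
      exact he.2
  · intro e he
    have hprod : e * (1 - e) ∈ p.asIdeal := by
      rw [mul_sub, mul_one, he.eq, sub_self]
      exact p.asIdeal.zero_mem
    rcases p.2.mem_or_mem hprod with h | h
    · left
      exact Ideal.subset_span ⟨he, h⟩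
    · right
      exact Ideal.subset_span ⟨he.one_sub, h⟩

end Groth.Agent.S9620
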