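import Groth.Statements.S9618
import Groth.Agent.S9620
import Mathlib.RingTheory.Spectrum.Prime.Topology
import Mathlib.Topology.Connected.Clopen

set_option autoImplicit false
universe u
open CAlg

namespace Groth.Agent.S9618

/-- For a ring R and a subset T of Spec R the following are equivalent: (1) T is closed and contains the
connected component of each of its points; (2) T can be written as an intersection of subsets of
Spec R that are both open and closed; (3) T is the common zero locus of some set of idempotent
elements of R (equivalently, of the ideal they generate). -/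
theorem result {R : Type u} [CommRing R] (T : Set (PrimeSpectrum R)) :
    [IsClosed T ∧ ∀ x ∈ T, connectedComponent x ⊆ T,
      ∃ U : Set (Set (PrimeSpectrum R)), (∀ u ∈ U, IsClopen u) ∧ T = ⋂₀ U,
      ∃ E : Set R, (∀ e ∈ E, IsIdempotentElem e) ∧ T = PrimeSpectrum.zeroLocus E].TFAE := by
  tfae_have 3 → 2 := by
    rintro ⟨E, hE, rfl⟩
    refine ⟨(fun e => PrimeSpectrum.zeroLocus ({e} : Set R)) '' E, ?_, ?_⟩
    · rintro _ ⟨e, he, rfl⟩
      exact PrimeSpectrum.isClopen_iff_zeroLocus.mpr ⟨e, hE e he, rfl⟩
    · ext x
      rw [PrimeSpectrum.mem_zeroLocus, Set.mem_sInter]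
      constructor
      · rintro h _ ⟨e, he, rfl⟩
        rw [PrimeSpectrum.mem_zeroLocus, Set.singleton_subset_iff]
        exact h he
      · intro h e he
        have h1 := h _ ⟨e, he, rfl⟩
        rw [PrimeSpectrum.mem_zeroLocus, Set.singleton_subset_iff] at h1
        exact h1
  tfae_have 2 → 1 := by
    rintro ⟨U, hU, rfl⟩
    refine ⟨isClosed_sInter (fun u hu => (hU u hu).isClosed), ?_⟩
    intro x hx
    apply Set.subset_sInter
    intro u hu
    exact (hU u hu).connectedComponent_subset (hx u hu)
  tfae_have 1 → 3 := by
    rintro ⟨hTc, hT⟩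
    refine ⟨{e : R | IsIdempotentElem e ∧ T ⊆ PrimeSpectrum.zeroLocus ({e} : Set R)},
      fun e he => he.1, ?_⟩
    apply Set.Subset.antisymm
    · intro x hx
      rw [PrimeSpectrum.mem_zeroLocus]
      intro e he
      have h1 := he.2 hx
      rw [PrimeSpectrum.mem_zeroLocus, Set.singleton_subset_iff] at h1
      exact h1
    · intro q hq
      by_contra hqT
      haveI := q.2
      have hTJ : PrimeSpectrum.zeroLocus (PrimeSpectrum.vanishingIdeal T : Set R) = T := by
        rw [PrimeSpectrum.zeroLocus_vanishingIdeal_eq_closure, hTc.closure_eq]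
      have htop : PrimeSpectrum.vanishingIdeal T ⊔
          Ideal.span {e : R | IsIdempotentElem e ∧ e ∈ q.asIdeal} = ⊤ := by
        by_contra hne
        obtain ⟨m, hm, hle⟩ := Ideal.exists_le_maximal _ hne
        have hmT : (⟨m, hm.isPrime⟩ : PrimeSpectrum R) ∈ T := by
          rw [← hTJ, PrimeSpectrum.mem_zeroLocus]
          exact SetLike.coe_subset_coe.mpr (le_trans le_sup_left hle)
        have hmq : (⟨m, hm.isPrime⟩ : PrimeSpectrum R) ∈ connectedComponent q := by
          rw [(Groth.Agent.S9620.result q).1, PrimeSpectrum.mem_zeroLocus]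
          exact fun e he => hle (Submodule.mem_sup_right (Ideal.subset_span he))
        have h2 : connectedComponent q = connectedComponent (⟨m, hm.isPrime⟩ : PrimeSpectrum R) :=
          connectedComponent_eq hmq
        apply hqT
        apply hT _ hmT
        rw [← h2]
        exact mem_connectedComponent
      have h1 : (1 : R) ∈ PrimeSpectrum.vanishingIdeal T ⊔
          Ideal.span {e : R | IsIdempotentElem e ∧ e ∈ q.asIdeal} := by
        rw [htop]
        exact Submodule.mem_top
      obtain ⟨j, hj, i, hi, hji⟩ := Submodule.mem_sup.mp h1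
      obtain ⟨e', he', he'q, hie⟩ := Groth.Agent.S9620.exists_idem_mul_eq q.asIdeal hi
      have he'' : e' * e' = e' := he'
      have h3 : 1 - e' = j * (1 - e') := by
        have h4 : i * (1 - e') = 0 := by
          rw [← hie, mul_assoc, mul_sub, mul_one, he'', sub_self, mul_zero]
        calc 1 - e' = (j + i) * (1 - e') := by rw [hji, one_mul]
          _ = j * (1 - e') + i * (1 - e') := by ring
          _ = j * (1 - e') := by rw [h4, add_zero]
      have h5 : 1 - e' ∈ PrimeSpectrum.vanishingIdeal T := by
        rw [h3]
        exact Ideal.mul_mem_right _ _ hj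
      have h6 : (1 - e') ∈ {e : R | IsIdempotentElem e ∧ T ⊆ PrimeSpectrum.zeroLocus ({e} : Set R)} := by
        refine ⟨he'.one_sub, ?_⟩
        intro x hx
        rw [PrimeSpectrum.mem_zeroLocus, Set.singleton_subset_iff]
        exact (PrimeSpectrum.mem_vanishingIdeal _ _).mp h5 x hx
      rw [PrimeSpectrum.mem_zeroLocus] at hq
      have h7 : 1 - e' ∈ q.asIdeal := hq h6
      have h8 : (1 : R) ∈ q.asIdeal := by
        have h9 : (1 : R) = (1 - e') + e' := by ring
        rw [h9]
        exact q.asIdeal.add_mem h7 he'q
      exact q.2.ne_top ((Ideal.eq_top_iff_one _).mpr h8)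
  tfae_finish

end Groth.Agent.S9618
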