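import Groth.Statements.S9619


set_option autoImplicit false
universe u
open CAlg

namespace Groth.Agent.S9619

theorem mem_span_of_idem {R : Type*} [CommRing R] {E : Set R} {e : R} (he : IsIdempotentElem e)
    (h : PrimeSpectrum.zeroLocus E ⊆ PrimeSpectrum.zeroLocus {e}) : e ∈ Ideal.span E := by
  have h1 : e ∈ (Ideal.span E).radical := by
    rw [← PrimeSpectrum.vanishingIdeal_zeroLocus_eq_radical, PrimeSpectrum.zeroLocus_span,
      PrimeSpectrum.mem_vanishingIdeal]
    intro x hx
    have h2 := h hx
    rw [PrimeSpectrum.mem_zeroLocus] at h2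
    exact h2 (Set.mem_singleton e)
  obtain ⟨n, hn⟩ := h1
  rcases Nat.eq_zero_or_pos n with rfl | hpos
  · rw [pow_zero] at hn
    rw [(Ideal.eq_top_iff_one _).mpr hn]
    exact Submodule.mem_top
  · obtain ⟨k, rfl⟩ := Nat.exists_eq_succ_of_ne_zero hpos.ne'
    rwa [Nat.succ_eq_add_one, he.pow_succ_eq] at hn

/-- For a ring R and two sets E, E' of idempotent elements of R with the same zero locus in Spec R, the
ideals generated by E and by E' are equal. -/
theorem result {R : Type u} [CommRing R] (E E' : Set R) (hE : ∀ e ∈ E, IsIdempotentElem e) (hE' : ∀ e ∈ E', IsIdempotentElem e) (h : PrimeSpectrum.zeroLocus E = PrimeSpectrum.zeroLocus E') :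
    Ideal.span E = Ideal.span E' := by
  apply le_antisymm
  · rw [Ideal.span_le]
    intro e he
    refine mem_span_of_idem (hE e he) ?_
    rw [← h]
    exact PrimeSpectrum.zeroLocus_anti_mono (Set.singleton_subset_iff.mpr he)
  · rw [Ideal.span_le]
    intro e he
    refine mem_span_of_idem (hE' e he) ?_
    rw [h]
    exact PrimeSpectrum.zeroLocus_anti_mono (Set.singleton_subset_iff.mpr he)

end Groth.Agent.S9619
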