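import Groth.Statements.S9621


set_option autoImplicit false
universe u
open CAlg

namespace Groth.Agent.S9621

theorem exists_mul_pow_eq_zero {R : Type*} [CommRing R] (p : Ideal R) (hp : p ∈ minimalPrimes R)
    {g : R} (hg : g ∈ p) : ∃ f : R, f ∉ p ∧ ∃ n : ℕ, f * g ^ n = 0 := by
  haveI : p.IsPrime := hp.1.1
  by_contra hcon
  push_neg at hcon
  -- the submonoid generated by the complement of `p` and `g`
  let T : Submonoid R := p.primeCompl ⊔ Submonoid.powers g
  have hdisj : Disjoint ((⊥ : Ideal R) : Set R) (T : Set R) := by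
    rw [Set.disjoint_left]
    intro x hx hxT
    rw [SetLike.mem_coe, Ideal.mem_bot] at hx
    rw [SetLike.mem_coe, Submonoid.mem_sup] at hxT
    obtain ⟨t, ht, y, ⟨n, rfl⟩, hty⟩ := hxT
    exact hcon t ht n (hty.trans hx)
  obtain ⟨q, hq, -, hqT⟩ := Ideal.exists_le_prime_disjoint ⊥ T hdisj
  have hqp : q ≤ p := by
    intro x hx
    by_contra hxp
    exact Set.disjoint_left.mp hqT hx (SetLike.le_def.mp le_sup_left (show x ∈ p.primeCompl from hxp))
  have hpq : p ≤ q := hp.2 ⟨hq, bot_le⟩ hqp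
  exact Set.disjoint_left.mp hqT (hpq hg)
    (SetLike.le_def.mp le_sup_right (Submonoid.mem_powers g))

/-- Let R be a ring, p a minimal prime of R and W a quasi-compact open subset of Spec R not containing
p. Then there is an f ∈ R, f ∉ p, whose basic open D(f) is disjoint from W. -/
theorem result {R : Type u} [CommRing R] (p : PrimeSpectrum R) (hp : p.asIdeal ∈ minimalPrimes R) (W : Set (PrimeSpectrum R)) (hWo : IsOpen W) (hWc : IsCompact W) (hpW : p ∉ W) :
    ∃ f : R, f ∉ p.asIdeal ∧ Disjoint (PrimeSpectrum.basicOpen f : Set (PrimeSpectrum R)) W := by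
  classical
  haveI : p.asIdeal.IsPrime := p.2
  obtain ⟨t, rfl⟩ := PrimeSpectrum.isCompact_isOpen_iff.mp ⟨hWc, hWo⟩
  have hpt : (t : Set R) ⊆ p.asIdeal := by
    have : p ∈ PrimeSpectrum.zeroLocus (t : Set R) := by
      by_contra h; exact hpW h
    exact (PrimeSpectrum.mem_zeroLocus _ _).mp this
  have key : ∀ s : Finset R, (s : Set R) ⊆ p.asIdeal →
      ∃ f : R, f ∉ p.asIdeal ∧ ∀ g ∈ s, ∃ n : ℕ, f * g ^ n = 0 := by
    intro s
    induction s using Finset.induction_on with
    | empty => intro _; exact ⟨1, fun h => p.2.ne_top ((Ideal.eq_top_iff_one _).mpr h), by simp⟩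
    | insert a s ha ih =>
      intro hs
      rw [Finset.coe_insert, Set.insert_subset_iff] at hs
      obtain ⟨f, hf, hfs⟩ := ih hs.2
      obtain ⟨f', hf', n, hn⟩ := exists_mul_pow_eq_zero p.asIdeal hp hs.1
      refine ⟨f * f', fun h => (p.2.mem_or_mem h).elim hf hf', ?_⟩
      intro g hg
      rw [Finset.mem_insert] at hg
      rcases hg with rfl | hg
      · exact ⟨n, by rw [mul_assoc, hn, mul_zero]⟩
      · obtain ⟨k, hk⟩ := hfs g hg
        exact ⟨k, by rw [mul_right_comm, hk, zero_mul]⟩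
  obtain ⟨f, hf, hfs⟩ := key t hpt
  refine ⟨f, hf, ?_⟩
  rw [Set.disjoint_left]
  intro q hq hqW
  have hfq : f ∉ q.asIdeal := by
    simpa [PrimeSpectrum.basicOpen] using hq
  rw [Set.mem_compl_iff, PrimeSpectrum.mem_zeroLocus, Set.not_subset] at hqW
  obtain ⟨g, hgt, hgq⟩ := hqW
  obtain ⟨n, hn⟩ := hfs g (Finset.mem_coe.mp hgt)
  have h0 : f * g ^ n ∈ q.asIdeal := by rw [hn]; exact Ideal.zero_mem _
  rcases q.2.mem_or_mem h0 with h | h
  · exact hfq h
  · exact hgq (q.2.mem_of_pow_mem n h)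

end Groth.Agent.S9621
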