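import Groth.Statements.S9622
import Mathlib.RingTheory.Finiteness.NilpotentKer
import Mathlib.RingTheory.Artinian.Ring
import Mathlib.RingTheory.HopkinsLevitzki
import Mathlib.RingTheory.FiniteType
import Mathlib.RingTheory.LocalRing.Basic
import Mathlib.RingTheory.Jacobson.Ideal

set_option autoImplicit false
universe u
open CAlg

namespace Groth.Agent.S9622


theorem finite_of_quot {P S : Type*} [CommRing P] [CommRing S] [Algebra P S] [IsArtinianRing S]
    [IsLocalRing S] (h : Module.Finite P (S ⧸ IsLocalRing.maximalIdeal S)) : Module.Finite P S := by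
  haveI := h
  haveI : IsNoetherianRing S := inferInstance
  have hker : RingHom.ker (Ideal.Quotient.mkₐ P (IsLocalRing.maximalIdeal S)) =
      IsLocalRing.maximalIdeal S := by
    ext x
    rw [RingHom.mem_ker, Ideal.Quotient.mkₐ_eq_mk, Ideal.Quotient.eq_zero_iff_mem]
  refine Module.finite_of_surjective_of_ker_le_nilradical
    (Ideal.Quotient.mkₐ P (IsLocalRing.maximalIdeal S)) (Ideal.Quotient.mkₐ_surjective P _) ?_ ?_
  · rw [hker]
    have h1 : IsLocalRing.maximalIdeal S ≤ (⊥ : Ideal S).radical :=
      (IsLocalRing.maximalIdeal_le_jacobson ⊥).trans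
        (le_of_eq (IsArtinianRing.jacobson_eq_radical ⊥))
    exact h1
  · rw [hker]
    exact IsNoetherian.noetherian _

theorem finiteType_of_quot {R S : Type*} [CommRing R] [CommRing S] [Algebra R S]
    [IsArtinianRing S] [IsLocalRing S]
    (h : Algebra.FiniteType R (S ⧸ IsLocalRing.maximalIdeal S)) : Algebra.FiniteType R S := by
  classical
  obtain ⟨n, f, hf⟩ := Algebra.FiniteType.iff_quotient_mvPolynomial''.mp h
  let b : Fin n → S := fun i =>
    Function.surjInv Ideal.Quotient.mk_surjective (f (MvPolynomial.X i))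
  have hb : ∀ i, Ideal.Quotient.mk (IsLocalRing.maximalIdeal S) (b i) = f (MvPolynomial.X i) :=
    fun i => Function.surjInv_eq _ _
  let g : MvPolynomial (Fin n) R →ₐ[R] S := MvPolynomial.aeval b
  have hgf : (Ideal.Quotient.mkₐ R (IsLocalRing.maximalIdeal S)).comp g = f := by
    apply MvPolynomial.algHom_ext
    intro i
    rw [AlgHom.comp_apply, MvPolynomial.aeval_X, Ideal.Quotient.mkₐ_eq_mk]
    exact hb i
  letI : Algebra (MvPolynomial (Fin n) R) S := g.toRingHom.toAlgebra
  haveI : IsScalarTower R (MvPolynomial (Fin n) R) S :=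
    IsScalarTower.of_algebraMap_eq (fun r => (g.commutes r).symm)
  haveI : Module.Finite (MvPolynomial (Fin n) R) (S ⧸ IsLocalRing.maximalIdeal S) := by
    apply Module.Finite.of_surjective
      (Algebra.linearMap (MvPolynomial (Fin n) R) (S ⧸ IsLocalRing.maximalIdeal S))
    intro y
    obtain ⟨x, rfl⟩ := hf y
    refine ⟨x, ?_⟩
    rw [Algebra.linearMap_apply, ← hgf]
    rfl
  haveI : Module.Finite (MvPolynomial (Fin n) R) S := finite_of_quot inferInstance
  exact Algebra.FiniteType.trans
    (inferInstance : Algebra.FiniteType R (MvPolynomial (Fin n) R)) inferInstance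

/-- Let R → S be a ring map whose target S is a local Artinian ring, and write m for the maximal ideal
of S. Then S is a finite R-module exactly when S/m is, and S is an R-algebra of finite type exactly
when S/m is. -/
theorem result {R S : Type u} [CommRing R] [CommRing S] [Algebra R S] [IsArtinianRing S] [IsLocalRing S] :
    (Module.Finite R S ↔ Module.Finite R (S ⧸ IsLocalRing.maximalIdeal S)) ∧
      (Algebra.FiniteType R S ↔ Algebra.FiniteType R (S ⧸ IsLocalRing.maximalIdeal S)) := by
  refine ⟨⟨fun h => ?_, finite_of_quot⟩, ⟨fun h => ?_, finiteType_of_quot⟩⟩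
  · haveI := h
    exact Module.Finite.of_surjective
      (Ideal.Quotient.mkₐ R (IsLocalRing.maximalIdeal S)).toLinearMap
      (Ideal.Quotient.mkₐ_surjective R _)
  · haveI := h
    exact Algebra.FiniteType.of_surjective
      (Ideal.Quotient.mkₐ R (IsLocalRing.maximalIdeal S)) (Ideal.Quotient.mkₐ_surjective R _)

end Groth.Agent.S9622
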