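import Groth.Statements.S9624
import Groth.Agent.Lib.Helper9.FiberLib

set_option autoImplicit false
universe u
open CAlg

namespace Groth.Agent.S9624

open Groth.Agent.Lib.Helper9.FiberLib

open TensorProduct in
/-- Let k be a field, S a geometrically connected k-algebra (the spectrum of k' ⊗_k S is connected for
every field extension k'/k) and R any k-algebra. Then the map R → R ⊗_k S induces a bijection on
idempotents: each idempotent of R ⊗_k S comes from exactly one idempotent of R. Here the test fields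
range over field extensions in the universe of k; this is equivalent to the unrestricted notion,
since an algebraic closure of k suffices as a test. -/
theorem result {k R S : Type u} [Field k] [CommRing R] [CommRing S] [Algebra k R] [Algebra k S]
    (hS : ∀ (k' : Type u) [Field k'] [Algebra k k'], ConnectedSpace (PrimeSpectrum (k' ⊗[k] S)))
    (x : R ⊗[k] S) (hx : IsIdempotentElem x) :
    ∃! e : R, IsIdempotentElem e ∧ algebraMap R (R ⊗[k] S) e = x := by
  classical
  have hopen : IsOpenMap (PrimeSpectrum.comap (algebraMap R (R ⊗[k] S))) := isOpenMap_comap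
  have hcont : Continuous (PrimeSpectrum.comap (algebraMap R (R ⊗[k] S))) :=
    PrimeSpectrum.continuous_comap _
  have hfib := fun p : PrimeSpectrum R => isConnected_fiber (R := R) hS p
  have hsurj : Function.Surjective (PrimeSpectrum.comap (algebraMap R (R ⊗[k] S))) :=
    comap_surjective_of_connected hS
  have hquot := hopen.isQuotientMap hcont hsurj
  have key : ∀ y : R ⊗[k] S, IsIdempotentElem y → ∀ q q₁ : PrimeSpectrum (R ⊗[k] S),
      PrimeSpectrum.comap (algebraMap R (R ⊗[k] S)) q₁ =
        PrimeSpectrum.comap (algebraMap R (R ⊗[k] S)) q →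
      y ∉ q₁.asIdeal → y ∉ q.asIdeal := by
    intro y hy q q₁ hqq hq₁
    have hcl : IsClopen (PrimeSpectrum.basicOpen y : Set (PrimeSpectrum (R ⊗[k] S))) :=
      PrimeSpectrum.isClopen_iff.mpr ⟨y, hy, rfl⟩
    have hsub := (hfib (PrimeSpectrum.comap (algebraMap R (R ⊗[k] S)) q)).isPreconnected.subset_isClopen
      hcl ⟨q₁, hqq, (PrimeSpectrum.mem_basicOpen y q₁).mpr hq₁⟩
    exact (PrimeSpectrum.mem_basicOpen y q).mp (hsub (show q ∈ _ from rfl))
  have hpre : PrimeSpectrum.comap (algebraMap R (R ⊗[k] S)) ⁻¹'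
      (PrimeSpectrum.comap (algebraMap R (R ⊗[k] S)) ''
        (PrimeSpectrum.basicOpen x : Set (PrimeSpectrum (R ⊗[k] S)))) =
      (PrimeSpectrum.basicOpen x : Set (PrimeSpectrum (R ⊗[k] S))) := by
    apply Set.Subset.antisymm
    · rintro q ⟨q₁, hq₁, hqq⟩
      exact (PrimeSpectrum.mem_basicOpen x q).mpr
        (key x hx q q₁ hqq ((PrimeSpectrum.mem_basicOpen x q₁).mp hq₁))
    · exact Set.subset_preimage_image _ _
  have hU : IsClopen (PrimeSpectrum.comap (algebraMap R (R ⊗[k] S)) ''
      (PrimeSpectrum.basicOpen x : Set (PrimeSpectrum (R ⊗[k] S)))) := by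
    rw [← hquot.isClopen_preimage, hpre]
    exact PrimeSpectrum.isClopen_iff.mpr ⟨x, hx, rfl⟩
  obtain ⟨e, he, hUe⟩ := PrimeSpectrum.isClopen_iff.mp hU
  have hmem : ∀ q : PrimeSpectrum (R ⊗[k] S),
      algebraMap R (R ⊗[k] S) e ∉ q.asIdeal ↔ x ∉ q.asIdeal := by
    intro q
    have h1 : q ∈ (PrimeSpectrum.basicOpen x : Set (PrimeSpectrum (R ⊗[k] S))) ↔
        q ∈ PrimeSpectrum.comap (algebraMap R (R ⊗[k] S)) ⁻¹'
          (PrimeSpectrum.comap (algebraMap R (R ⊗[k] S)) ''
            (PrimeSpectrum.basicOpen x : Set (PrimeSpectrum (R ⊗[k] S)))) := by rw [hpre]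
    rw [hUe] at h1
    exact h1.symm
  have hex : algebraMap R (R ⊗[k] S) e = x := by
    apply PrimeSpectrum.basicOpen_injOn_isIdempotentElem (he.map (algebraMap R (R ⊗[k] S))) hx
    ext q
    exact hmem q
  refine ⟨e, ⟨he, hex⟩, ?_⟩
  rintro e' ⟨he', hex'⟩
  apply PrimeSpectrum.basicOpen_injOn_isIdempotentElem he' he
  ext p
  obtain ⟨q, rfl⟩ := hsurj p
  show (algebraMap R (R ⊗[k] S) e' ∉ q.asIdeal) ↔ (algebraMap R (R ⊗[k] S) e ∉ q.asIdeal)
  rw [hex', hex]

end Groth.Agent.S9624
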