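import Groth.Statements.S9623
import Groth.Agent.Lib.Helper9.GeomLib3
import Groth.Agent.S9624

set_option autoImplicit false
universe u
open CAlg

namespace Groth.Agent.S9623

open Groth.Agent.Lib.Helper9.GeomLib

open TensorProduct in
/-- Let k be a separably closed field and R, S two k-algebras with connected (nonempty) spectra. Then
Spec(R ⊗_k S) is connected. -/
theorem result {k R S : Type u} [Field k] [IsSepClosed k] [CommRing R] [CommRing S] [Algebra k R] [Algebra k S]
    [ConnectedSpace (PrimeSpectrum R)] [ConnectedSpace (PrimeSpectrum S)] :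
    ConnectedSpace (PrimeSpectrum (R ⊗[k] S)) := by
  have hS0 := (Lib.Helper9.GeomLib.connectedSpace_iff S).mp inferInstance
  have hR0 := (Lib.Helper9.GeomLib.connectedSpace_iff R).mp inferInstance
  haveI := hS0.1
  haveI := hR0.1
  have hS' : ∀ (k' : Type u) [Field k'] [Algebra k k'],
      ConnectedSpace (PrimeSpectrum (k' ⊗[k] S)) := by
    intro k' _ _
    rw [Lib.Helper9.GeomLib.connectedSpace_iff]
    exact ⟨Algebra.TensorProduct.nontrivial_of_algebraMap_injective_of_flat_right k k' S
      (algebraMap k k').injective, trivIdem_tensor_of_isSepClosed k' S hS0.2⟩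
  rw [Lib.Helper9.GeomLib.connectedSpace_iff]
  constructor
  · exact Algebra.TensorProduct.nontrivial_of_algebraMap_injective_of_flat_right k R S
      (algebraMap k R).injective
  · intro x hx
    obtain ⟨e, ⟨he, hex⟩, -⟩ := Groth.Agent.S9624.result hS' x hx
    rcases hR0.2 e he with rfl | rfl
    · left
      rw [← hex, map_zero]
    · right
      rw [← hex, map_one]

end Groth.Agent.S9623
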