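import Groth.Statements.S9625
import Mathlib.RingTheory.Spectrum.Prime.Topology
import Mathlib.RingTheory.Flat.Basic
import Mathlib.RingTheory.Flat.FaithfullyFlat.Basic
import Mathlib.RingTheory.TensorProduct.Basic

set_option autoImplicit false
universe u
open CAlg

namespace Groth.Agent.S9625


theorem irreducibleSpace_of_injective {A' A : Type*} [CommRing A'] [CommRing A] (φ : A' →+* A)
    (hφ : Function.Injective φ) [h : IrreducibleSpace (PrimeSpectrum A)] :
    IrreducibleSpace (PrimeSpectrum A') := by
  rw [PrimeSpectrum.irreducibleSpace_iff_isPrime_nilradical] at h ⊢
  have h1 : nilradical A' = (nilradical A).comap φ := by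
    ext x
    rw [Ideal.mem_comap, mem_nilradical, mem_nilradical, IsNilpotent.map_iff hφ]
  rw [h1]
  haveI := h
  exact Ideal.comap_isPrime _ _

open TensorProduct in
/-- Let k be a field and S a k-algebra such that Spec(k' ⊗_k S) is irreducible for every field extension
k'/k. Then every k-subalgebra of S has the same property. Here the test fields range over field
extensions in the universe of k; this is equivalent to the unrestricted notion, since an algebraic
closure of k suffices as a test. -/
theorem result {k S : Type u} [Field k] [CommRing S] [Algebra k S]
    (hS : ∀ (k' : Type u) [Field k'] [Algebra k k'], IrreducibleSpace (PrimeSpectrum (k' ⊗[k] S))) (S' : Subalgebra k S) :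
    ∀ (k' : Type u) [Field k'] [Algebra k k'], IrreducibleSpace (PrimeSpectrum (k' ⊗[k] S')) := by
  intro k' _ _
  haveI := hS k'
  refine irreducibleSpace_of_injective
    (Algebra.TensorProduct.map (AlgHom.id k k') S'.val).toRingHom ?_
  exact Module.Flat.lTensor_preserves_injective_linearMap (M := k') S'.val.toLinearMap
    Subtype.val_injective

end Groth.Agent.S9625
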