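import Groth.Statements.S9626
import Groth.Agent.Lib.Helper9.FiberLib

set_option autoImplicit false
universe u
open CAlg

namespace Groth.Agent.S9626

open Groth.Agent.Lib.Helper9.FiberLib

open TensorProduct in
/-- Let k be a field, S a k-algebra with Spec(k' ⊗_k S) irreducible for every field extension k'/k, and
R any k-algebra. Then Spec(R ⊗_k S) → Spec(R) induces a bijection on irreducible components: taking
inverse images along R → R ⊗_k S maps the set of minimal primes of R ⊗_k S bijectively onto the set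
of minimal primes of R. Here the test fields range over field extensions in the universe of k; this
is equivalent to the unrestricted notion, since an algebraic closure of k suffices as a test. -/
theorem result {k R S : Type u} [Field k] [CommRing R] [CommRing S] [Algebra k R] [Algebra k S]
    (hS : ∀ (k' : Type u) [Field k'] [Algebra k k'], IrreducibleSpace (PrimeSpectrum (k' ⊗[k] S))) :
    Set.BijOn (Ideal.comap (algebraMap R (R ⊗[k] S))) (minimalPrimes (R ⊗[k] S)) (minimalPrimes R) := by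
  classical
  have hcont : Continuous (PrimeSpectrum.comap (algebraMap R (R ⊗[k] S))) :=
    PrimeSpectrum.continuous_comap _
  have hopen : IsOpenMap (PrimeSpectrum.comap (algebraMap R (R ⊗[k] S))) := isOpenMap_comap
  have hfib : ∀ p : PrimeSpectrum R,
      IsPreirreducible (PrimeSpectrum.comap (algebraMap R (R ⊗[k] S)) ⁻¹' {p}) :=
    fun p => (isIrreducible_fiber hS p).isPreirreducible
  have hsurj : Function.Surjective (PrimeSpectrum.comap (algebraMap R (R ⊗[k] S))) :=
    comap_surjective_of_irreducible hS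
  have hcomp : ∀ (Q : Ideal (R ⊗[k] S)), Q ∈ minimalPrimes (R ⊗[k] S) →
      PrimeSpectrum.zeroLocus (Q : Set (R ⊗[k] S)) ∈
        irreducibleComponents (PrimeSpectrum (R ⊗[k] S)) := by
    intro Q hQ
    have hQp : Q.IsPrime := hQ.1.1
    rw [PrimeSpectrum.zeroLocus_ideal_mem_irreducibleComponents, hQp.radical]
    exact hQ
  have himg : ∀ (Q : Ideal (R ⊗[k] S)), Q ∈ minimalPrimes (R ⊗[k] S) →
      PrimeSpectrum.comap (algebraMap R (R ⊗[k] S)) '' PrimeSpectrum.zeroLocus (Q : Set (R ⊗[k] S)) =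
        PrimeSpectrum.zeroLocus ((Ideal.comap (algebraMap R (R ⊗[k] S)) Q : Ideal R) : Set R) ∧
      PrimeSpectrum.zeroLocus ((Ideal.comap (algebraMap R (R ⊗[k] S)) Q : Ideal R) : Set R) ∈
        irreducibleComponents (PrimeSpectrum R) := by
    intro Q hQ
    haveI hQp : Q.IsPrime := hQ.1.1
    have hV := hcomp Q hQ
    have hW := image_mem_irreducibleComponents_of_isPreirreducible_fiber _ hcont hopen hfib hsurj hV
    have heq : PrimeSpectrum.comap (algebraMap R (R ⊗[k] S)) ''
          PrimeSpectrum.zeroLocus (Q : Set (R ⊗[k] S)) =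
        PrimeSpectrum.zeroLocus ((Ideal.comap (algebraMap R (R ⊗[k] S)) Q : Ideal R) : Set R) := by
      apply Set.Subset.antisymm
      · rintro _ ⟨Q', hQ', rfl⟩
        rw [PrimeSpectrum.mem_zeroLocus] at hQ' ⊢
        intro r hr
        exact hQ' hr
      · have hcl : IsClosed (PrimeSpectrum.comap (algebraMap R (R ⊗[k] S)) ''
            PrimeSpectrum.zeroLocus (Q : Set (R ⊗[k] S))) :=
          isClosed_of_mem_irreducibleComponents _ hW
        have hmem : (⟨Ideal.comap (algebraMap R (R ⊗[k] S)) Q, inferInstance⟩ : PrimeSpectrum R) ∈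
            PrimeSpectrum.comap (algebraMap R (R ⊗[k] S)) ''
              PrimeSpectrum.zeroLocus (Q : Set (R ⊗[k] S)) :=
          ⟨⟨Q, hQp⟩, (PrimeSpectrum.mem_zeroLocus _ _).mpr (fun r hr => hr), rfl⟩
        have := hcl.closure_subset_iff.mpr (Set.singleton_subset_iff.mpr hmem)
        rwa [PrimeSpectrum.closure_singleton] at this
    exact ⟨heq, heq ▸ hW⟩
  let E := irreducibleComponentsEquivOfIsPreirreducibleFiber _ hcont hopen hfib hsurj
  have hback : ∀ V (hV : V ∈ irreducibleComponents (PrimeSpectrum (R ⊗[k] S))),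
      PrimeSpectrum.comap (algebraMap R (R ⊗[k] S)) ⁻¹'
        (PrimeSpectrum.comap (algebraMap R (R ⊗[k] S)) '' V) = V := by
    intro V hV
    exact congrArg Subtype.val (E.apply_symm_apply ⟨V, hV⟩)
  refine ⟨?_, ?_, ?_⟩
  · intro Q hQ
    haveI hQp : Q.IsPrime := hQ.1.1
    have h := (himg Q hQ).2
    rw [PrimeSpectrum.zeroLocus_ideal_mem_irreducibleComponents,
      (Ideal.comap_isPrime (algebraMap R (R ⊗[k] S)) Q).radical] at h
    exact h
  · intro Q₁ hQ₁ Q₂ hQ₂ h12
    have h1 : PrimeSpectrum.zeroLocus (Q₁ : Set (R ⊗[k] S)) =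
        PrimeSpectrum.zeroLocus (Q₂ : Set (R ⊗[k] S)) := by
      rw [← hback _ (hcomp Q₁ hQ₁), ← hback _ (hcomp Q₂ hQ₂), (himg Q₁ hQ₁).1, (himg Q₂ hQ₂).1]
      have h12' : Ideal.comap (algebraMap R (R ⊗[k] S)) Q₁ =
        Ideal.comap (algebraMap R (R ⊗[k] S)) Q₂ := h12
      rw [h12']
    have hQp₁ : Q₁.IsPrime := hQ₁.1.1
    have hQp₂ : Q₂.IsPrime := hQ₂.1.1
    apply le_antisymm
    · have : (⟨Q₂, hQp₂⟩ : PrimeSpectrum (R ⊗[k] S)) ∈
          PrimeSpectrum.zeroLocus (Q₁ : Set (R ⊗[k] S)) := by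
        rw [h1, PrimeSpectrum.mem_zeroLocus]
      exact (PrimeSpectrum.mem_zeroLocus _ _).mp this
    · have : (⟨Q₁, hQp₁⟩ : PrimeSpectrum (R ⊗[k] S)) ∈
          PrimeSpectrum.zeroLocus (Q₂ : Set (R ⊗[k] S)) := by
        rw [← h1, PrimeSpectrum.mem_zeroLocus]
      exact (PrimeSpectrum.mem_zeroLocus _ _).mp this
  · intro P hP
    have hPp : P.IsPrime := hP.1.1
    have hVP : PrimeSpectrum.zeroLocus (P : Set R) ∈ irreducibleComponents (PrimeSpectrum R) := by
      rw [PrimeSpectrum.zeroLocus_ideal_mem_irreducibleComponents, hPp.radical]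
      exact hP
    have hpre : PrimeSpectrum.comap (algebraMap R (R ⊗[k] S)) ⁻¹' PrimeSpectrum.zeroLocus (P : Set R) ∈
        irreducibleComponents (PrimeSpectrum (R ⊗[k] S)) := (E ⟨_, hVP⟩).2
    rw [← PrimeSpectrum.zeroLocus_minimalPrimes] at hpre
    obtain ⟨Q, hQ, hQeq⟩ := hpre
    refine ⟨Q, hQ, ?_⟩
    have hQeq' : PrimeSpectrum.zeroLocus (Q : Set (R ⊗[k] S)) =
      PrimeSpectrum.comap (algebraMap R (R ⊗[k] S)) ⁻¹' PrimeSpectrum.zeroLocus (P : Set R) := hQeq
    have h4 : PrimeSpectrum.zeroLocus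
        ((Ideal.comap (algebraMap R (R ⊗[k] S)) Q : Ideal R) : Set R) =
        PrimeSpectrum.zeroLocus (P : Set R) := by
      rw [← (himg Q hQ).1, hQeq', Set.image_preimage_eq _ hsurj]
    haveI hQp : Q.IsPrime := hQ.1.1
    apply le_antisymm
    · have : (⟨P, hPp⟩ : PrimeSpectrum R) ∈ PrimeSpectrum.zeroLocus
          ((Ideal.comap (algebraMap R (R ⊗[k] S)) Q : Ideal R) : Set R) := by
        rw [h4, PrimeSpectrum.mem_zeroLocus]
      exact (PrimeSpectrum.mem_zeroLocus _ _).mp this
    · have : (⟨Ideal.comap (algebraMap R (R ⊗[k] S)) Q, inferInstance⟩ : PrimeSpectrum R) ∈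
          PrimeSpectrum.zeroLocus (P : Set R) := by
        rw [← h4, PrimeSpectrum.mem_zeroLocus]
      exact (PrimeSpectrum.mem_zeroLocus _ _).mp this

end Groth.Agent.S9626
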