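import Groth.Statements.S9633
import Mathlib

set_option autoImplicit false
universe u
open CAlg

namespace Groth.Agent.S9633

/-- For a ring R with spectrum X the following are equivalent: (1) X is profinite, i.e. compact,
Hausdorff and totally disconnected; (2) X is Hausdorff; (3) X is totally disconnected; (4) every
quasi-compact open subset of X is closed; (5) there are no nontrivial inclusions among prime ideals
of R; (6) every prime ideal of R is maximal; (7) every prime ideal of R is a minimal prime; (8)
every standard open D(f) is closed. -/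
theorem result {R : Type u} [CommRing R] :
    [CompactSpace (PrimeSpectrum R) ∧ T2Space (PrimeSpectrum R) ∧ TotallyDisconnectedSpace (PrimeSpectrum R),
      T2Space (PrimeSpectrum R),
      TotallyDisconnectedSpace (PrimeSpectrum R),
      ∀ W : Set (PrimeSpectrum R), IsOpen W → IsCompact W → IsClosed W,
      ∀ p q : PrimeSpectrum R, p ≤ q → p = q,
      ∀ p : Ideal R, p.IsPrime → p.IsMaximal,
      ∀ p : Ideal R, p.IsPrime → p ∈ minimalPrimes R,
      ∀ f : R, IsClosed (PrimeSpectrum.basicOpen f : Set (PrimeSpectrum R))].TFAE := by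
  tfae_have 1 → 2 := fun h => h.2.1
  tfae_have 1 → 3 := fun h => h.2.2
  tfae_have 2 → 5 := by
    intro h p q hpq
    haveI := h
    exact ((PrimeSpectrum.le_iff_specializes p q).mp hpq).eq
  tfae_have 3 → 5 := by
    intro h p q hpq
    haveI := h
    have hs := (PrimeSpectrum.le_iff_specializes p q).mp hpq
    have hpre : IsPreconnected (closure ({p} : Set (PrimeSpectrum R))) :=
      isPreconnected_singleton.closure
    exact hpre.subsingleton (subset_closure rfl) hs.mem_closure
  tfae_have 5 → 6 := by
    intro h p hp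
    obtain ⟨m, hm, hpm⟩ := Ideal.exists_le_maximal p hp.ne_top
    have h1 := h ⟨p, hp⟩ ⟨m, hm.isPrime⟩ hpm
    have h2 : p = m := congrArg PrimeSpectrum.asIdeal h1
    rw [h2]
    exact hm
  tfae_have 6 → 7 := by
    intro h p hp
    refine ⟨⟨hp, bot_le⟩, fun q hq hqp => ?_⟩
    have hqm := h q hq.1
    have h1 : q = p := hqm.eq_of_le hp.ne_top hqp
    exact h1 ▸ le_rfl
  tfae_have 7 → 5 := by
    intro h p q hpq
    have hq := h q.asIdeal q.2
    have h1 : q.asIdeal ≤ p.asIdeal := hq.2 ⟨p.2, bot_le⟩ hpq
    exact PrimeSpectrum.ext (le_antisymm hpq h1)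
  tfae_have 5 → 8 := by
    intro h f
    apply PrimeSpectrum.isClosed_of_stableUnderSpecialization_of_isConstructible _
      PrimeSpectrum.isConstructible_basicOpen
    intro x y hxy hx
    have h1 := h x y ((PrimeSpectrum.le_iff_specializes x y).mpr hxy)
    exact h1 ▸ hx
  tfae_have 8 → 4 := by
    intro h W ho hc
    obtain ⟨s, hs, rfl⟩ := (isCompact_open_iff_eq_finite_iUnion_of_isTopologicalBasis
      (fun f : R => (PrimeSpectrum.basicOpen f : Set (PrimeSpectrum R)))
      PrimeSpectrum.isTopologicalBasis_basic_opens PrimeSpectrum.isCompact_basicOpen W).mp ⟨hc, ho⟩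
    exact hs.isClosed_biUnion (fun i _ => h i)
  tfae_have 4 → 8 := fun h f => h _ (PrimeSpectrum.basicOpen f).2 (PrimeSpectrum.isCompact_basicOpen f)
  tfae_have 8 → 1 := by
    intro h
    haveI : TotallySeparatedSpace (PrimeSpectrum R) := by
      rw [totallySeparatedSpace_iff_exists_isClopen]
      intro x y hxy
      have hne : ¬ (x.asIdeal ≤ y.asIdeal ∧ y.asIdeal ≤ x.asIdeal) :=
        fun ⟨h1, h2⟩ => hxy (PrimeSpectrum.ext (le_antisymm h1 h2))
      rw [not_and_or] at hne
      rcases hne with h1 | h1
      · obtain ⟨f, hfx, hfy⟩ := SetLike.not_le_iff_exists.mp h1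
        refine ⟨(PrimeSpectrum.basicOpen f : Set (PrimeSpectrum R))ᶜ,
          ⟨(PrimeSpectrum.basicOpen f).2.isClosed_compl, (h f).isOpen_compl⟩, ?_, ?_⟩
        · exact fun hx => (PrimeSpectrum.mem_basicOpen f x).mp hx hfx
        · rw [compl_compl]
          exact (PrimeSpectrum.mem_basicOpen f y).mpr hfy
      · obtain ⟨f, hfy, hfx⟩ := SetLike.not_le_iff_exists.mp h1
        refine ⟨(PrimeSpectrum.basicOpen f : Set (PrimeSpectrum R)),
          ⟨h f, (PrimeSpectrum.basicOpen f).2⟩, (PrimeSpectrum.mem_basicOpen f x).mpr hfx, ?_⟩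
        exact fun hy => (PrimeSpectrum.mem_basicOpen f y).mp hy hfy
    exact ⟨inferInstance, inferInstance, inferInstance⟩
  tfae_finish

end Groth.Agent.S9633
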