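import Groth.Statements.S9636
import Mathlib
import Groth.Agent.Lib.Helper9.SepGen

set_option autoImplicit false
universe u
open CAlg

namespace Groth.Agent.S9636

open TensorProduct in
/-- Let k'/k be a separable algebraic field extension. Then for some multiplicative subset S of k' ⊗_k
k' the multiplication map k' ⊗_k k' → k' is a localization at S: there is a ring isomorphism S⁻¹(k'
⊗_k k') ≅ k' carrying the localization map to the multiplication map. -/
theorem result {k k' : Type u} [Field k] [Field k'] [Algebra k k'] [Algebra.IsSeparable k k'] :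
    ∃ (S : Submonoid (k' ⊗[k] k')) (e : Localization S ≃+* k'), ∀ x : k' ⊗[k] k', e (algebraMap (k' ⊗[k] k') (Localization S) x) = Algebra.TensorProduct.lmul' (S := k') k x := by
  classical
  haveI : IsReduced (TensorProduct k k' k') :=
    Groth.Agent.Lib.Helper9.SepGen.isReduced_tensor_of_isSeparable k k' k'
  haveI : Algebra.IsAlgebraic k k' := Algebra.IsSeparable.isAlgebraic k k'
  haveI : Algebra.IsIntegral k k' := Algebra.IsAlgebraic.isIntegral
  haveI : Algebra.IsIntegral k' (TensorProduct k k' k') := inferInstance
  haveI hdim : Ring.KrullDimLE 0 (TensorProduct k k' k') := Ring.KrullDimLE.mk₀ fun I hI => by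
    haveI := hI
    refine Ideal.isMaximal_of_isIntegral_of_isMaximal_comap (R := k') I ?_
    have hb : I.comap (algebraMap k' (TensorProduct k k' k')) = ⊥ :=
      (Ideal.eq_bot_or_top _).resolve_right (Ideal.IsPrime.ne_top inferInstance)
    rw [hb]
    exact Ideal.bot_isMaximal
  have hμsurj : Function.Surjective (Algebra.TensorProduct.lmul' (S := k') k) :=
    fun a => ⟨a ⊗ₜ 1, by simp⟩
  haveI hm : (RingHom.ker (Algebra.TensorProduct.lmul' (S := k') k).toRingHom).IsMaximal :=
    RingHom.ker_isMaximal_of_surjective _ hμsurj
  have hunits : ∀ y : (RingHom.ker (Algebra.TensorProduct.lmul' (S := k') k).toRingHom).primeCompl,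
      IsUnit ((Algebra.TensorProduct.lmul' (S := k') k).toRingHom y) := fun y => by
    rw [isUnit_iff_ne_zero]
    exact fun h => y.2 h
  have he₀ : ∀ x, (IsLocalization.lift (S := Localization.AtPrime
      (RingHom.ker (Algebra.TensorProduct.lmul' (S := k') k).toRingHom)) hunits)
      (algebraMap _ _ x) = Algebra.TensorProduct.lmul' (S := k') k x :=
    fun x => IsLocalization.lift_eq hunits x
  haveI : Ring.KrullDimLE 0 (Localization.AtPrime
      (RingHom.ker (Algebra.TensorProduct.lmul' (S := k') k).toRingHom)) :=
    Ring.KrullDimLE.of_isLocalization _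
      (Ring.KrullDimLE.mem_minimalPrimes_iff_le_of_isPrime
        (I := RingHom.ker (Algebra.TensorProduct.lmul' (S := k') k).toRingHom).mpr bot_le) _
  have hfield : IsField (Localization.AtPrime
      (RingHom.ker (Algebra.TensorProduct.lmul' (S := k') k).toRingHom)) :=
    Ring.KrullDimLE.isField_of_isReduced
  letI := hfield.toField
  have hinj : Function.Injective (IsLocalization.lift (S := Localization.AtPrime
      (RingHom.ker (Algebra.TensorProduct.lmul' (S := k') k).toRingHom)) hunits) :=
    RingHom.injective _
  have hsurj : Function.Surjective (IsLocalization.lift (S := Localization.AtPrime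
      (RingHom.ker (Algebra.TensorProduct.lmul' (S := k') k).toRingHom)) hunits) := fun a => by
    obtain ⟨x, hx⟩ := hμsurj a
    exact ⟨algebraMap _ _ x, by rw [he₀, hx]⟩
  exact ⟨(RingHom.ker (Algebra.TensorProduct.lmul' (S := k') k).toRingHom).primeCompl,
    RingEquiv.ofBijective _ ⟨hinj, hsurj⟩, fun x => he₀ x⟩

end Groth.Agent.S9636
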