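import Groth.Statements.S9637
import Groth.Agent.Lib.Helper4.Depth

set_option autoImplicit false
universe u
open CAlg

namespace Groth.Agent.S9637

/-- Let R be a local Noetherian ring, I an ideal contained in its maximal ideal, and M a finite
R-module. Then I contains an M-regular element (one acting injectively on M) if and only if no
associated prime of M contains I. -/
theorem result {R : Type u} [CommRing R] [IsNoetherianRing R] [IsLocalRing R] (I : Ideal R) (hI : I ≤ IsLocalRing.maximalIdeal R) (M : Type u) [AddCommGroup M] [Module R M] [Module.Finite R M] :
    (∃ x ∈ I, IsSMulRegular M x) ↔ ∀ q ∈ associatedPrimes R M, ¬ I ≤ q := by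
  rcases subsingleton_or_nontrivial M with hM | hM
  · constructor
    · intro _ q hq
      rw [associatedPrimes.eq_empty_of_subsingleton] at hq
      exact absurd hq (Set.notMem_empty q)
    · intro _
      exact ⟨0, I.zero_mem, fun a b _ => Subsingleton.elim a b⟩
  · have key := Groth.Agent.Lib.Helper4.forall_not_isSMulRegular_iff_exists_le_associatedPrime
      (M := M) I
    constructor
    · rintro ⟨x, hxI, hx⟩ q hq hIq
      exact (key.mpr ⟨q, hq, hIq⟩) x hxI hx
    · intro h
      by_contra hcon
      push Not at hcon
      obtain ⟨q, hq, hIq⟩ := key.mp hcon
      exact h q hq hIq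

end Groth.Agent.S9637
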