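import Groth.Statements.S9638
import Groth.Agent.Lib.Helper9.WeakAssLib
import Mathlib.RingTheory.Flat.TorsionFree

set_option autoImplicit false
universe u
open CAlg

namespace Groth.Agent.S9638

open Groth.Agent.Lib.Helper9.WeakAssLib

/-- Let R → S be a ring map with R a domain with fraction field K, and N an S-module flat over R.
Writing T for the image in S of the nonzero elements of R, so that T⁻¹S = S ⊗_R K and T⁻¹N = N ⊗_R
K, the associated primes of N over S (primes equal to the annihilator of an element) coincide with
those of T⁻¹N over S, and these are exactly the inverse images in S of the associated primes of T⁻¹N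
over T⁻¹S. -/
theorem result {R S : Type u} [CommRing R] [IsDomain R] [CommRing S] [Algebra R S] (N : Type u) [AddCommGroup N] [Module S N] [Module R N] [IsScalarTower R S N] [Module.Flat R N] :
    FlatCA.ass S N = FlatCA.ass S (LocalizedModule (Algebra.algebraMapSubmonoid S (nonZeroDivisors R)) N) ∧
      FlatCA.ass S N = Ideal.comap (algebraMap S (Localization (Algebra.algebraMapSubmonoid S (nonZeroDivisors R)))) '' FlatCA.ass (Localization (Algebra.algebraMapSubmonoid S (nonZeroDivisors R))) (LocalizedModule (Algebra.algebraMapSubmonoid S (nonZeroDivisors R)) N) := by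
  have hT : ∀ t ∈ Algebra.algebraMapSubmonoid S (nonZeroDivisors R), IsSMulRegular N t := by
    rintro _ ⟨r, hr, rfl⟩
    have h1 : IsSMulRegular N r := Module.Flat.isSMulRegular_of_nonZeroDivisors hr
    intro a b hab
    apply h1
    simpa [algebraMap_smul] using hab
  constructor
  · ext p
    constructor
    · rintro ⟨hp, n, hn⟩
      exact ⟨hp, LocalizedModule.mk n 1, by rw [annR_mk_of_regular _ hT]; exact hn⟩
    · rintro ⟨hp, y, hy⟩
      induction y with | _ n s
      exact ⟨hp, n, by rw [annR_mk_of_regular _ hT] at hy; exact hy⟩
  · ext p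
    constructor
    · rintro ⟨hp, n, hn⟩
      have hdisj : Disjoint (Algebra.algebraMapSubmonoid S (nonZeroDivisors R) : Set S) (p : Set S) := by
        rw [Set.disjoint_left]
        intro t htT htp
        rw [SetLike.mem_coe, hn, Submodule.mem_annihilator_span_singleton] at htp
        have hn0 : n = 0 := hT t htT (by simp only [htp, smul_zero])
        apply hp.ne_top
        rw [hn, hn0, Ideal.eq_top_iff_one, Submodule.mem_annihilator_span_singleton, smul_zero]
      refine ⟨Ideal.map (algebraMap S (Localization (Algebra.algebraMapSubmonoid S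
        (nonZeroDivisors R)))) p, ⟨?_, LocalizedModule.mk n 1, ?_⟩, ?_⟩
      · exact IsLocalization.isPrime_of_isPrime_disjoint
          (Algebra.algebraMapSubmonoid S (nonZeroDivisors R)) _ p hp hdisj
      · rw [annLoc_mk, ← hn]
      · exact IsLocalization.comap_map_of_isPrime_disjoint
          (Algebra.algebraMapSubmonoid S (nonZeroDivisors R)) _ hp hdisj
    · rintro ⟨P, ⟨hP, y, hy⟩, rfl⟩
      haveI := hP
      refine ⟨Ideal.comap_isPrime _ P, ?_⟩
      induction y with | _ n s
      refine ⟨n, ?_⟩
      rw [hy, ← annR_eq_comap, annR_mk_of_regular _ hT]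

end Groth.Agent.S9638
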