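import Groth.Statements.S9639
import Groth.Agent.Lib.Helper9.GeomLib

set_option autoImplicit false
universe u
open CAlg

namespace Groth.Agent.S9639

open Groth.Agent.Lib.Helper9.GeomLib

open TensorProduct in
/-- Let k be a field and S a k-algebra such that Spec(k' ⊗_k S) is connected for every field extension
k'/k. Then every k-subalgebra of S has the same property. Here the test fields range over field
extensions in the universe of k; this is equivalent to the unrestricted notion, since an algebraic
closure of k suffices as a test. -/
theorem result {k S : Type u} [Field k] [CommRing S] [Algebra k S]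
    (hS : ∀ (k' : Type u) [Field k'] [Algebra k k'], ConnectedSpace (PrimeSpectrum (k' ⊗[k] S))) (S' : Subalgebra k S) :
    ∀ (k' : Type u) [Field k'] [Algebra k k'], ConnectedSpace (PrimeSpectrum (k' ⊗[k] S')) := by
  intro k' _ _
  rw [Lib.Helper9.GeomLib.connectedSpace_iff]
  have h := (Lib.Helper9.GeomLib.connectedSpace_iff _).mp (hS k')
  have hinj : Function.Injective (Algebra.TensorProduct.map (AlgHom.id k k') S'.val) :=
    Module.Flat.lTensor_preserves_injective_linearMap _ Subtype.val_injective
  refine ⟨?_, TrivIdem.of_injective
    (Algebra.TensorProduct.map (AlgHom.id k k') S'.val).toRingHom hinj h.2⟩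
  haveI := h.1
  haveI : Nontrivial S :=
    (Algebra.TensorProduct.includeRight : S →ₐ[k] k' ⊗[k] S).toRingHom.domain_nontrivial
  exact Algebra.TensorProduct.nontrivial_of_algebraMap_injective_of_flat_right k k' S'
    (algebraMap k k').injective

end Groth.Agent.S9639
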