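import Groth.Statements.S9643
import Mathlib

set_option autoImplicit false
universe u
open CAlg

namespace Groth.Agent.S9643

/-- Let R be a Noetherian ring, M a finite R-module and 0 = M_0 ⊆ M_1 ⊆ ⋯ ⊆ M_n = M a chain of
submodules whose successive quotients M_i/M_{i-1} are isomorphic to R/p_i for prime ideals p_i. Then
the primes minimal among p_1, …, p_n are exactly the primes minimal in the support of M. -/
theorem result {R : Type u} [CommRing R] [IsNoetherianRing R] (M : Type u) [AddCommGroup M] [Module R M] [Module.Finite R M]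
    {n : ℕ} (N : Fin (n + 1) → Submodule R M) (hN : Monotone N) (h0 : N 0 = ⊥) (hlast : N (Fin.last n) = ⊤)
    (p : Fin n → PrimeSpectrum R)
    (hquot : ∀ i : Fin n, Nonempty ((↥(N i.succ) ⧸ Submodule.comap (N i.succ).subtype (N i.castSucc)) ≃ₗ[R] (R ⧸ (p i).asIdeal))) :
    {q : PrimeSpectrum R | Minimal (fun x => x ∈ Set.range p) q} = {q : PrimeSpectrum R | Minimal (fun x => x ∈ Module.support R M) q} := by
  have hsuppquot : ∀ i : Fin n, Module.support R
      (↥(N i.succ) ⧸ Submodule.comap (N i.succ).subtype (N i.castSucc)) =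
        PrimeSpectrum.zeroLocus ((p i).asIdeal : Set R) := by
    intro i
    obtain ⟨e⟩ := hquot i
    rw [e.support_eq, Module.support_eq_zeroLocus, Ideal.annihilator_quotient]
  have hstep : ∀ i : Fin n, Module.support R (N i.succ) =
      Module.support R (N i.castSucc) ∪ PrimeSpectrum.zeroLocus ((p i).asIdeal : Set R) := by
    intro i
    have hle : N i.castSucc ≤ N i.succ := hN (Fin.castSucc_lt_succ).le
    rw [Module.support_of_exact
      (f := (Submodule.comap (N i.succ).subtype (N i.castSucc)).subtype)
      (g := (Submodule.comap (N i.succ).subtype (N i.castSucc)).mkQ)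
      (LinearMap.exact_subtype_mkQ _) (Submodule.injective_subtype _)
      (Submodule.mkQ_surjective _), hsuppquot i,
      (Submodule.comapSubtypeEquivOfLe hle).support_eq]
  have ha : ∀ i, p i ∈ Module.support R M := by
    intro i
    have h1 : p i ∈ Module.support R (N i.succ) := by
      rw [hstep i]
      right
      rw [PrimeSpectrum.mem_zeroLocus]
    exact Module.support_subset_of_injective (N i.succ).subtype
      (Submodule.injective_subtype _) h1
  have hb : ∀ q ∈ Module.support R M, ∃ i, p i ≤ q := by
    intro q hq
    by_contra hcon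
    push Not at hcon
    have key : ∀ k : Fin (n + 1), q ∉ Module.support R (N k) := by
      intro k
      induction k using Fin.induction with
      | zero =>
        rw [h0, Module.support_eq_empty]
        exact Set.notMem_empty q
      | succ i ih =>
        rw [hstep i]
        rintro (h1 | h1)
        · exact ih h1
        · rw [PrimeSpectrum.mem_zeroLocus, SetLike.coe_subset_coe] at h1
          exact hcon i h1
    have hk := key (Fin.last n)
    rw [hlast, (Submodule.topEquiv : (⊤ : Submodule R M) ≃ₗ[R] M).support_eq] at hk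
    exact hk hq
  ext q
  simp only [Set.mem_setOf_eq]
  constructor
  · intro hmin
    obtain ⟨⟨i, rfl⟩, hmin'⟩ := hmin
    refine ⟨ha i, fun q' hq' hle => ?_⟩
    obtain ⟨j, hj⟩ := hb q' hq'
    exact le_trans (hmin' ⟨j, rfl⟩ (le_trans hj hle)) hj
  · intro hmin
    obtain ⟨hq, hmin'⟩ := hmin
    obtain ⟨i, hi⟩ := hb q hq
    have hqi : q = p i := le_antisymm (hmin' (ha i) hi) hi
    refine ⟨⟨i, hqi.symm⟩, fun q' hq' hle => ?_⟩
    obtain ⟨j, rfl⟩ := hq'
    exact hmin' (ha j) hle

end Groth.Agent.S9643
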