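import Groth.Statements.S9646
import Groth.Agent.S9645

set_option autoImplicit false
universe u
open CAlg

namespace Groth.Agent.S9646

/-- (2) ⇒ (1): let R → S be a ring map and x ∈ S. If for every prime ideal p of R the image of x in S_p
(the localization of S at the image of R ∖ p) is integral over R_p, then x is integral over R. Here
R_p and S_p are any rings satisfying the localization universal properties. -/
theorem result {R S : Type u} [CommRing R] [CommRing S] [Algebra R S] (x : S)
    (h : ∀ (p : Ideal R) [p.IsPrime] (Rp Sp : Type u) [CommRing Rp] [CommRing Sp] [Algebra R Rp] [Algebra S Sp] [Algebra Rp Sp] [Algebra R Sp] [IsScalarTower R S Sp] [IsScalarTower R Rp Sp] [IsLocalization.AtPrime Rp p] [IsLocalization (Algebra.algebraMapSubmonoid S p.primeCompl) Sp], IsIntegral Rp (algebraMap S Sp x)) :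
    IsIntegral R x := by
  let J : Ideal R :=
    { carrier := {r | IsIntegral R (r • x)}
      add_mem' := fun {a b} ha hb => by
        change IsIntegral R ((a + b) • x)
        rw [add_smul]
        exact IsIntegral.add ha hb
      zero_mem' := by
        change IsIntegral R ((0 : R) • x)
        rw [zero_smul]
        exact isIntegral_zero
      smul_mem' := fun c a ha => by
        change IsIntegral R ((c • a) • x)
        rw [smul_assoc]
        exact IsIntegral.smul c ha }
  have hJ : J = ⊤ := by
    by_contra hne
    obtain ⟨m, hm, hJm⟩ := Ideal.exists_le_maximal J hne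
    haveI : m.IsPrime := hm.isPrime
    have hint := h m (Localization.AtPrime m)
      (Localization (Algebra.algebraMapSubmonoid S m.primeCompl))
    obtain ⟨b, hb, s, hs, e⟩ := (Groth.Agent.S9645.result (A := R) (B := S)
      (As := Localization.AtPrime m)
      (Bs := Localization (Algebra.algebraMapSubmonoid S m.primeCompl)) m.primeCompl
      (algebraMap S _ x)).mp hint
    rw [IsScalarTower.algebraMap_apply R S
      (Localization (Algebra.algebraMapSubmonoid S m.primeCompl)), ← map_mul,
      IsLocalization.eq_iff_exists (Algebra.algebraMapSubmonoid S m.primeCompl)] at e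
    obtain ⟨⟨_, t, ht, rfl⟩, hc⟩ := e
    have hts : t * s ∈ J := by
      change IsIntegral R ((t * s) • x)
      have : (t * s) • x = t • b := by
        rw [Algebra.smul_def, Algebra.smul_def, map_mul, mul_assoc, mul_comm (algebraMap R S s) x]
        exact hc
      rw [this]
      exact IsIntegral.smul t hb
    rcases (inferInstance : m.IsPrime).mem_or_mem (hJm hts) with h1 | h1
    · exact ht h1
    · exact hs h1
  have h1 : (1 : R) ∈ J := by rw [hJ]; trivial
  have h2 : IsIntegral R ((1 : R) • x) := h1
  rwa [one_smul] at h2

end Groth.Agent.S9646
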