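import Groth.Statements.S9649
import Mathlib
import Groth.Agent.Lib.Helper9.SepGen

set_option autoImplicit false
universe u
open CAlg

namespace Groth.Agent.S9649

/-- A separably generated field extension is separable. Precisely: let K/k be a field extension
admitting a transcendence basis x over whose generated subfield k(x) the field K is separable
algebraic; then every finitely generated subextension K' of K/k also admits such a transcendence
basis. -/
theorem result {k K : Type u} [Field k] [Field K] [Algebra k K]
    (h : ∃ (ι : Type u) (x : ι → K), IsTranscendenceBasis k x ∧ Algebra.IsSeparable (IntermediateField.adjoin k (Set.range x)) K)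
    (K' : IntermediateField k K) (hK' : ∃ s : Finset K, IntermediateField.adjoin k (s : Set K) = K') :
    ∃ (ι : Type u) (x : ι → K'), IsTranscendenceBasis k x ∧ Algebra.IsSeparable (IntermediateField.adjoin k (Set.range x)) K' := by
  classical
  obtain ⟨ι, x, hx, hsep⟩ := h
  haveI : Algebra.EssFiniteType k K' := IntermediateField.essFiniteType_iff.mpr hK'
  have key : ∃ s : Finset K', IsTranscendenceBasis k ((↑) : s → K') ∧
      Algebra.IsSeparable (IntermediateField.adjoin k (s : Set K')) K' := by
    obtain _ | ⟨p, hp, hpk⟩ := CharP.exists' k
    · exact exists_isTranscendenceBasis_and_isSeparable_of_perfectField k K'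
    · haveI : ExpChar k p := .prime hp.out
      haveI := hsep
      have hred : IsReduced (TensorProduct k K (AlgebraicClosure k)) :=
        Groth.Agent.Lib.Helper9.SepGen.isReduced_tensor_of_sepGen x hx.1 (AlgebraicClosure k)
      have hred' : IsReduced (TensorProduct k (AlgebraicClosure k) K) :=
        isReduced_of_injective (Algebra.TensorProduct.comm k (AlgebraicClosure k) K)
          (Algebra.TensorProduct.comm k (AlgebraicClosure k) K).injective
      refine exists_isTranscendenceBasis_and_isSeparable_of_linearIndepOn_pow_of_essFiniteType
        p hp.out fun s hs => ?_
      have hs' : LinearIndependent k (fun i : (s : Set K') => (i : K')) := hs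
      have h1 : LinearIndependent k (fun i : (s : Set K') => ((i : K') : K)) :=
        hs'.map' K'.val.toLinearMap (LinearMap.ker_eq_bot.mpr K'.val.injective)
      have h2 := Groth.Agent.Lib.Helper9.SepGen.linearIndependent_pow_of_isReduced p
        (AlgebraicClosure k) hred' _ h1
      have h3 : LinearIndependent k (K'.val.toLinearMap ∘ fun i : (s : Set K') => (i : K') ^ p) := by
        convert h2 using 1
        funext i
        simp
      exact h3.of_comp
  obtain ⟨s, hs1, hs2⟩ := key
  refine ⟨s, ((↑) : s → K'), hs1, ?_⟩
  have hr : Set.range ((↑) : s → K') = (s : Set K') := Subtype.range_coe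
  rw [hr]
  exact hs2

end Groth.Agent.S9649
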