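import Groth.Statements.S9650
import Mathlib

set_option autoImplicit false
universe u
open CAlg

namespace Groth.Agent.S9650

/-- Let K/k be a finitely generated field extension that is separably generated, i.e. admits a
transcendence basis over whose generated subfield K is separable algebraic. Then K is generated over
k by finitely many elements x_1, …, x_r, y such that the x_i form a transcendence basis of K/k and y
is separable over the subfield k(x_1, …, x_r). -/
theorem result {k K : Type u} [Field k] [Field K] [Algebra k K]
    (hfg : ∃ s : Finset K, IntermediateField.adjoin k (s : Set K) = ⊤)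
    (hsep : ∃ (ι : Type u) (x : ι → K), IsTranscendenceBasis k x ∧ Algebra.IsSeparable (IntermediateField.adjoin k (Set.range x)) K) :
    ∃ (r : ℕ) (x : Fin r → K) (y : K), IsTranscendenceBasis k x ∧ IntermediateField.adjoin k (insert y (Set.range x)) = ⊤ ∧ IsSeparable (IntermediateField.adjoin k (Set.range x)) y := by
  classical
  obtain ⟨ι, x, hx, hsep⟩ := hsep
  haveI : Algebra.EssFiniteType k K := IntermediateField.fg_top_iff.mp hfg
  haveI : Finite ι := finite_of_isTranscendenceBasis hx
  obtain ⟨r, ⟨e⟩⟩ := Finite.exists_equiv_fin ι
  have hx' : IsTranscendenceBasis k (x ∘ e.symm) := hx.comp_equiv e.symm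
  have hrange : Set.range (x ∘ e.symm) = Set.range x := e.symm.surjective.range_comp x
  haveI hsep' : Algebra.IsSeparable (IntermediateField.adjoin k (Set.range (x ∘ e.symm))) K := by
    rw [hrange]
    exact hsep
  haveI : Algebra.IsAlgebraic (IntermediateField.adjoin k (Set.range (x ∘ e.symm))) K :=
    Algebra.IsSeparable.isAlgebraic _ K
  obtain ⟨s, hs⟩ := hfg
  have htop : IntermediateField.adjoin (IntermediateField.adjoin k (Set.range (x ∘ e.symm)))
      (s : Set K) = ⊤ := by
    apply IntermediateField.restrictScalars_injective k
    rw [IntermediateField.adjoin_adjoin_left, IntermediateField.restrictScalars_top, eq_top_iff,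
      ← hs]
    exact IntermediateField.adjoin.mono k _ _ Set.subset_union_right
  haveI : FiniteDimensional (IntermediateField.adjoin k (Set.range (x ∘ e.symm))) K := by
    haveI : FiniteDimensional (IntermediateField.adjoin k (Set.range (x ∘ e.symm)))
        (⊤ : IntermediateField (IntermediateField.adjoin k (Set.range (x ∘ e.symm))) K) := by
      rw [← htop]
      exact IntermediateField.finiteDimensional_adjoin
        (fun z _ => Algebra.IsIntegral.isIntegral z)
    exact (IntermediateField.topEquiv :
      (⊤ : IntermediateField (IntermediateField.adjoin k (Set.range (x ∘ e.symm))) K) ≃ₐ[_] K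
      ).toLinearEquiv.finiteDimensional
  obtain ⟨y, hy⟩ := Field.exists_primitive_element
    (IntermediateField.adjoin k (Set.range (x ∘ e.symm))) K
  refine ⟨r, x ∘ e.symm, y, hx', ?_, Algebra.IsSeparable.isSeparable _ y⟩
  have h1 := IntermediateField.adjoin_adjoin_left k (Set.range (x ∘ e.symm)) ({y} : Set K)
  rw [hy, IntermediateField.restrictScalars_top, Set.union_singleton] at h1
  exact h1.symm

end Groth.Agent.S9650
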