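import Groth.Statements.S9651
import Mathlib
import Groth.Agent.Lib.Helper28.GenFreeFT

set_option autoImplicit false
universe u
open CAlg

namespace Groth.Agent.S9651


namespace H9651
open PrimeSpectrum TensorProduct Groth.Agent.Lib.Helper28.GenFree

theorem dom_core {R T : Type u} [CommRing R] [IsDomain R] [CommRing T] [Algebra R T]
    [Algebra.FiniteType R T] (hinj : Function.Injective (algebraMap R T)) :
    ∃ f : R, f ≠ 0 ∧ ∀ x : PrimeSpectrum R, f ∉ x.asIdeal →
      ∃ y : PrimeSpectrum T, comap (algebraMap R T) y = x := by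
  obtain ⟨f, hf, hfree⟩ := genFree_finiteType (R := R) (S := T) T
  refine ⟨f, hf, fun x hx => ?_⟩
  unfold FreeAt at hfree
  haveI : Module.Free (Localization.Away f) (Localization.Away f ⊗[R] T) := hfree
  haveI : Nontrivial (Localization.Away f ⊗[R] T) := by
    have h1 : (1 : Localization.Away f ⊗[R] T) ≠ 0 := by
      rw [Algebra.TensorProduct.one_def]
      intro h0
      have h2 : (TensorProduct.mk R (Localization.Away f) T 1) (1 : T) = 0 := h0
      rw [IsLocalizedModule.eq_zero_iff (Submonoid.powers f)] at h2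
      obtain ⟨⟨c, n, hn⟩, hc⟩ := h2
      have hc' : algebraMap R T c = 0 := by
        have : c • (1 : T) = 0 := hc
        rwa [Algebra.smul_def, mul_one] at this
      have h3 : c = 0 := hinj (by rw [hc', map_zero])
      have hn' : f ^ n = c := hn
      rw [← hn'] at h3
      exact pow_ne_zero n hf h3
    exact ⟨⟨1, 0, h1⟩⟩
  haveI : Module.FaithfullyFlat (Localization.Away f) (Localization.Away f ⊗[R] T) :=
    inferInstance
  obtain ⟨x', hx'⟩ : ∃ x' : PrimeSpectrum (Localization.Away f),
      comap (algebraMap R (Localization.Away f)) x' = x := by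
    have hr := PrimeSpectrum.localization_away_comap_range (Localization.Away f) f
    have hmem : x ∈ Set.range (comap (algebraMap R (Localization.Away f))) := by
      rw [hr]; exact hx
    exact hmem
  obtain ⟨z, hz⟩ := PrimeSpectrum.comap_surjective_of_faithfullyFlat
    (A := Localization.Away f) (B := Localization.Away f ⊗[R] T) x'
  refine ⟨comap (Algebra.TensorProduct.includeRight :
    T →ₐ[R] Localization.Away f ⊗[R] T).toRingHom z, ?_⟩
  rw [← hx', ← hz]
  apply PrimeSpectrum.ext
  ext r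
  simp only [PrimeSpectrum.comap_asIdeal, Ideal.mem_comap]
  have : (Algebra.TensorProduct.includeRight :
      T →ₐ[R] Localization.Away f ⊗[R] T).toRingHom (algebraMap R T r) =
      algebraMap (Localization.Away f) (Localization.Away f ⊗[R] T)
        (algebraMap R (Localization.Away f) r) := by
    rw [AlgHom.toRingHom_eq_coe, RingHom.coe_coe, AlgHom.commutes,
      ← IsScalarTower.algebraMap_apply]
  rw [this]

theorem quot_core {R S : Type u} [CommRing R] [CommRing S] [Algebra R S] [Algebra.FiniteType R S]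
    (q : Ideal S) [q.IsPrime] (a : S) (ha : a ∉ q) :
    ∃ f : R, f ∉ q.comap (algebraMap R S) ∧ ∀ x : PrimeSpectrum R, f ∉ x.asIdeal →
      q.comap (algebraMap R S) ≤ x.asIdeal →
      ∃ y : PrimeSpectrum S, q ≤ y.asIdeal ∧ a ∉ y.asIdeal ∧ comap (algebraMap R S) y = x := by
  have ha' : Ideal.Quotient.mk q a ≠ 0 := fun h => ha (Ideal.Quotient.eq_zero_iff_mem.mp h)
  haveI : IsScalarTower R (R ⧸ q.comap (algebraMap R S)) (S ⧸ q) :=
    IsScalarTower.of_algebraMap_eq (fun r => rfl)
  haveI : Algebra.FiniteType R (S ⧸ q) :=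
    Algebra.FiniteType.of_surjective (Ideal.Quotient.mkₐ R q)
      (Ideal.Quotient.mkₐ_surjective R q)
  haveI : Algebra.FiniteType (R ⧸ q.comap (algebraMap R S)) (S ⧸ q) :=
    Algebra.FiniteType.of_restrictScalars_finiteType R (R ⧸ q.comap (algebraMap R S)) (S ⧸ q)
  haveI : Algebra.FiniteType (R ⧸ q.comap (algebraMap R S))
      (Localization.Away (Ideal.Quotient.mk q a)) := inferInstance
  have hinj : Function.Injective (algebraMap (R ⧸ q.comap (algebraMap R S))
      (Localization.Away (Ideal.Quotient.mk q a))) := by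
    rw [IsScalarTower.algebraMap_eq (R ⧸ q.comap (algebraMap R S)) (S ⧸ q)
      (Localization.Away (Ideal.Quotient.mk q a))]
    exact (IsLocalization.injective (Localization.Away (Ideal.Quotient.mk q a))
      (powers_le_nonZeroDivisors_of_noZeroDivisors ha')).comp
        Ideal.algebraMap_quotient_injective
  obtain ⟨f', hf', hcore⟩ := dom_core (R := R ⧸ q.comap (algebraMap R S))
    (T := Localization.Away (Ideal.Quotient.mk q a)) hinj
  obtain ⟨f, rfl⟩ := Ideal.Quotient.mk_surjective f'
  refine ⟨f, fun h => hf' (Ideal.Quotient.eq_zero_iff_mem.mpr h), fun x hfx hpx => ?_⟩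
  have hxr : x ∈ Set.range (comap (Ideal.Quotient.mk (q.comap (algebraMap R S)))) := by
    rw [_root_.range_comap_of_surjective _ _ Ideal.Quotient.mk_surjective, Ideal.mk_ker]
    exact hpx
  obtain ⟨xb, rfl⟩ := hxr
  obtain ⟨y', hy'⟩ := hcore xb (fun h => hfx h)
  refine ⟨comap (Ideal.Quotient.mk q)
    (comap (algebraMap (S ⧸ q) (Localization.Away (Ideal.Quotient.mk q a))) y'), ?_, ?_, ?_⟩
  · intro s hs
    show algebraMap (S ⧸ q) (Localization.Away (Ideal.Quotient.mk q a))
      (Ideal.Quotient.mk q s) ∈ y'.asIdeal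
    rw [Ideal.Quotient.eq_zero_iff_mem.mpr hs, map_zero]
    exact zero_mem _
  · intro h
    have h1 : algebraMap (S ⧸ q) (Localization.Away (Ideal.Quotient.mk q a))
        (Ideal.Quotient.mk q a) ∈ y'.asIdeal := h
    exact y'.isPrime.ne_top (Ideal.eq_top_of_isUnit_mem _ h1
      (IsLocalization.Away.algebraMap_isUnit (Ideal.Quotient.mk q a)))
  · rw [← hy']
    apply PrimeSpectrum.ext
    ext r
    simp only [comap_asIdeal, Ideal.mem_comap]
    rw [IsScalarTower.algebraMap_apply (R ⧸ q.comap (algebraMap R S)) (S ⧸ q)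
      (Localization.Away (Ideal.Quotient.mk q a))]
    rfl

/-- A point of a constructible set lies in a basic locally closed piece. -/
theorem exists_piece {A : Type u} [CommRing A] (E : Set (PrimeSpectrum A))
    (hE : Topology.IsConstructible E) (y : PrimeSpectrum A) (hy : y ∈ E) :
    ∃ a : A, a ∉ y.asIdeal ∧ ∀ y' : PrimeSpectrum A, y.asIdeal ≤ y'.asIdeal →
      a ∉ y'.asIdeal → y' ∈ E := by
  obtain ⟨C, rfl⟩ := PrimeSpectrum.exists_constructibleSetData_iff.mpr hE
  simp only [ConstructibleSetData.toSet, Set.mem_iUnion] at hy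
  obtain ⟨c, hcC, hyc⟩ := hy
  have hg : Set.range c.g ⊆ y.asIdeal := hyc.1
  have ha : c.f ∉ y.asIdeal := fun h => hyc.2 (by
    rw [mem_zeroLocus]; simpa using h)
  refine ⟨c.f, ha, fun y' hyy' hay' => ?_⟩
  simp only [ConstructibleSetData.toSet, Set.mem_iUnion]
  refine ⟨c, hcC, ?_, ?_⟩
  · rw [mem_zeroLocus]
    exact fun s hs => hyy' (hg hs)
  · rw [mem_zeroLocus]
    intro h
    exact hay' (h (Set.mem_singleton _))

theorem main {R S : Type u} [CommRing R] [CommRing S] [Algebra R S] [Algebra.FiniteType R S]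
    (E : Set (PrimeSpectrum S)) (hE : Topology.IsConstructible E) (ξ : PrimeSpectrum R)
    (hξ : ξ ∈ comap (algebraMap R S) '' E) :
    ∃ a : R, a ∉ ξ.asIdeal ∧ ∀ x : PrimeSpectrum R, a ∉ x.asIdeal → ξ.asIdeal ≤ x.asIdeal →
      x ∈ comap (algebraMap R S) '' E := by
  obtain ⟨η, hηE, rfl⟩ := hξ
  obtain ⟨a, haη, hpiece⟩ := exists_piece E hE η hηE
  have : η.asIdeal.IsPrime := η.isPrime
  obtain ⟨f, hf, hcore⟩ := quot_core (R := R) η.asIdeal a haη
  refine ⟨f, hf, fun x hfx hle => ?_⟩
  obtain ⟨y, hy1, hy2, hy3⟩ := hcore x hfx hle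
  exact ⟨y, hpiece y hy1 hy2, hy3⟩

end H9651

/-- Let R → S be a ring map of finite type, f : Spec(S) → Spec(R) the induced map and E ⊆ Spec(S) a
constructible subset. If ξ ∈ f(E) then f(E) ∩ cl{ξ} contains an open dense subset of the closure
cl{ξ}: some open U of Spec(R) has U ∩ cl{ξ} dense in cl{ξ} and contained in f(E). -/
theorem result {R S : Type u} [CommRing R] [CommRing S] [Algebra R S] [Algebra.FiniteType R S]
    (E : Set (PrimeSpectrum S)) (hE : Topology.IsConstructible E) (ξ : PrimeSpectrum R) (hξ : ξ ∈ PrimeSpectrum.comap (algebraMap R S) '' E) :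
    ∃ U : Set (PrimeSpectrum R), IsOpen U ∧ closure ({ξ} : Set (PrimeSpectrum R)) ⊆ closure (U ∩ closure {ξ}) ∧ U ∩ closure {ξ} ⊆ PrimeSpectrum.comap (algebraMap R S) '' E := by
  obtain ⟨a, ha, hU⟩ := H9651.main E hE ξ hξ
  refine ⟨(PrimeSpectrum.basicOpen a : Set (PrimeSpectrum R)), (PrimeSpectrum.basicOpen a).isOpen, ?_, ?_⟩
  · apply closure_mono
    rw [Set.singleton_subset_iff]
    exact ⟨ha, subset_closure (Set.mem_singleton ξ)⟩
  · rintro x ⟨hx1, hx2⟩
    rw [PrimeSpectrum.closure_singleton, PrimeSpectrum.mem_zeroLocus] at hx2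
    exact hU x hx1 hx2

end Groth.Agent.S9651
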