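import Groth.Statements.S9652
import Mathlib
import Groth.Agent.S9651

set_option autoImplicit false
universe u
open CAlg

namespace Groth.Agent.S9652


namespace H9652
open PrimeSpectrum Groth.Agent.S9651

/-- Jacobson: a prime with `a ∉ y` has a maximal ideal above it avoiding `a`. -/
theorem exists_max {A : Type u} [CommRing A] [IsJacobsonRing A] (y : Ideal A) [hy : y.IsPrime]
    (a : A) (ha : a ∉ y) : ∃ m : Ideal A, m.IsMaximal ∧ y ≤ m ∧ a ∉ m := by
  by_contra hcon
  push Not at hcon
  apply ha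
  have hj : y.jacobson = y := IsJacobsonRing.out inferInstance hy.isRadical
  rw [← hj, Ideal.jacobson, Ideal.mem_sInf]
  rintro m ⟨hym, hm⟩
  exact hcon m hm hym

theorem exists_closed_above {A : Type u} [CommRing A] [IsJacobsonRing A]
    (E : Set (PrimeSpectrum A)) (hE : Topology.IsConstructible E) (y : PrimeSpectrum A)
    (hy : y ∈ E) : ∃ y' ∈ E, y.asIdeal ≤ y'.asIdeal ∧ y'.asIdeal.IsMaximal := by
  obtain ⟨a, hay, hpiece⟩ := H9651.exists_piece E hE y hy
  haveI : y.asIdeal.IsPrime := y.isPrime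
  obtain ⟨m, hm, hym, ham⟩ := exists_max y.asIdeal a hay
  exact ⟨⟨m, hm.isPrime⟩, hpiece ⟨m, hm.isPrime⟩ hym ham, hym, hm⟩

theorem closedIn_iff {A : Type u} [CommRing A] [IsJacobsonRing A]
    (E : Set (PrimeSpectrum A)) (hE : Topology.IsConstructible E) (y : PrimeSpectrum A)
    (hy : y ∈ E) : closure {y} ∩ E = {y} ↔ y.asIdeal.IsMaximal := by
  constructor
  · intro h0
    obtain ⟨y', hy'E, hyy', hmax⟩ := exists_closed_above E hE y hy
    have hmem : y' ∈ closure {y} ∩ E := by
      refine ⟨?_, hy'E⟩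
      rw [PrimeSpectrum.closure_singleton, mem_zeroLocus]
      exact hyy'
    rw [h0] at hmem
    have h2 : y' = y := hmem
    rw [← h2]
    exact hmax
  · intro hmax
    have hcl : IsClosed ({y} : Set (PrimeSpectrum A)) :=
      (isClosed_singleton_iff_isMaximal y).mpr hmax
    rw [hcl.closure_eq]
    exact Set.inter_eq_left.mpr (Set.singleton_subset_iff.mpr hy)

theorem comap_max {R S : Type u} [CommRing R] [CommRing S] [Algebra R S] [IsJacobsonRing R]
    [Algebra.FiniteType R S] (m : Ideal S) [hm : m.IsMaximal] :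
    (m.comap (algebraMap R S)).IsMaximal := by
  letI := Ideal.Quotient.field m
  haveI : Algebra.FiniteType R (S ⧸ m) :=
    Algebra.FiniteType.of_surjective (Ideal.Quotient.mkₐ R m)
      (Ideal.Quotient.mkₐ_surjective R m)
  haveI := finite_of_finite_type_of_isJacobsonRing R (S ⧸ m)
  haveI : Algebra.IsIntegral R (S ⧸ m) := Algebra.IsIntegral.of_finite R (S ⧸ m)
  have hint : (algebraMap R (S ⧸ m)).IsIntegral := Algebra.isIntegral_def.mp inferInstance
  haveI : (⊥ : Ideal (S ⧸ m)).IsMaximal := Ideal.bot_isMaximal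
  have := Ideal.isMaximal_comap_of_isIntegral_of_isMaximal' (algebraMap R (S ⧸ m)) hint ⊥
  convert this using 1
  ext r
  simp only [Ideal.mem_comap, Ideal.mem_bot]
  rw [IsScalarTower.algebraMap_apply R S (S ⧸ m), Ideal.Quotient.algebraMap_eq,
    Ideal.Quotient.eq_zero_iff_mem]

theorem image_closed_eq {R S : Type u} [CommRing R] [CommRing S] [Algebra R S] [IsJacobsonRing R]
    [IsJacobsonRing S] [Algebra.FiniteType R S]
    (E : Set (PrimeSpectrum S)) (hE : Topology.IsConstructible E) :
    PrimeSpectrum.comap (algebraMap R S) '' {y | y ∈ E ∧ closure {y} ∩ E = {y}} =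
        {x | IsClosed ({x} : Set (PrimeSpectrum R))} ∩ PrimeSpectrum.comap (algebraMap R S) '' E := by
  ext x
  constructor
  · rintro ⟨y, ⟨hyE, hy0⟩, rfl⟩
    have hmax := (closedIn_iff E hE y hyE).mp hy0
    refine ⟨?_, y, hyE, rfl⟩
    show IsClosed {comap (algebraMap R S) y}
    rw [isClosed_singleton_iff_isMaximal]
    exact comap_max y.asIdeal (hm := hmax)
  · rintro ⟨hx, y, hyE, rfl⟩
    have hx' : IsClosed {comap (algebraMap R S) y} := hx
    rw [isClosed_singleton_iff_isMaximal] at hx'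
    obtain ⟨y', hy'E, hyy', hmax⟩ := exists_closed_above E hE y hyE
    refine ⟨y', ⟨hy'E, (closedIn_iff E hE y' hy'E).mpr hmax⟩, ?_⟩
    apply PrimeSpectrum.ext
    exact (hx'.eq_of_le (comap (algebraMap R S) y').isPrime.ne_top
      (Ideal.comap_mono hyy')).symm

theorem closed_of_closedIn {R S : Type u} [CommRing R] [CommRing S] [Algebra R S]
    [IsJacobsonRing R] [Algebra.FiniteType R S]
    (E : Set (PrimeSpectrum S)) (hE : Topology.IsConstructible E) (x : PrimeSpectrum R)
    (hxE : x ∈ PrimeSpectrum.comap (algebraMap R S) '' E)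
    (hx0 : closure {x} ∩ PrimeSpectrum.comap (algebraMap R S) '' E = {x}) :
    x.asIdeal.IsMaximal := by
  obtain ⟨a, hax, hU⟩ := H9651.main E hE x hxE
  haveI : x.asIdeal.IsPrime := x.isPrime
  obtain ⟨m, hm, hxm, ham⟩ := exists_max x.asIdeal a hax
  have hmem : (⟨m, hm.isPrime⟩ : PrimeSpectrum R) ∈
      closure {x} ∩ PrimeSpectrum.comap (algebraMap R S) '' E := by
    refine ⟨?_, hU _ ham hxm⟩
    rw [PrimeSpectrum.closure_singleton, mem_zeroLocus]
    exact hxm
  rw [hx0] at hmem
  have h2 : (⟨m, hm.isPrime⟩ : PrimeSpectrum R) = x := hmem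
  rw [← h2]
  exact hm

end H9652

/-- Let R and S be Jacobson rings, R → S a ring map of finite type with induced map f : Spec(S) →
Spec(R), and E ⊆ Spec(S) a constructible subset. Writing T₀ for the set of points of a subspace T
which are closed in T, one has f(E)₀ = f(E₀) = (Spec R)₀ ∩ f(E). -/
theorem result {R S : Type u} [CommRing R] [CommRing S] [Algebra R S] [IsJacobsonRing R] [IsJacobsonRing S] [Algebra.FiniteType R S]
    (E : Set (PrimeSpectrum S)) (hE : Topology.IsConstructible E) :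
    {x | x ∈ PrimeSpectrum.comap (algebraMap R S) '' E ∧ closure {x} ∩ PrimeSpectrum.comap (algebraMap R S) '' E = {x}} =
        PrimeSpectrum.comap (algebraMap R S) '' {y | y ∈ E ∧ closure {y} ∩ E = {y}} ∧
      PrimeSpectrum.comap (algebraMap R S) '' {y | y ∈ E ∧ closure {y} ∩ E = {y}} =
        {x | IsClosed ({x} : Set (PrimeSpectrum R))} ∩ PrimeSpectrum.comap (algebraMap R S) '' E := by
  have hb := H9652.image_closed_eq (R := R) E hE
  refine ⟨?_, hb⟩
  rw [hb]
  ext x
  constructor
  · rintro ⟨hxE, hx0⟩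
    refine ⟨?_, hxE⟩
    show IsClosed {x}
    rw [PrimeSpectrum.isClosed_singleton_iff_isMaximal]
    exact H9652.closed_of_closedIn E hE x hxE hx0
  · rintro ⟨hx, hxE⟩
    refine ⟨hxE, ?_⟩
    have hx' : IsClosed ({x} : Set (PrimeSpectrum R)) := hx
    rw [hx'.closure_eq]
    exact Set.inter_eq_left.mpr (Set.singleton_subset_iff.mpr hxE)

end Groth.Agent.S9652
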