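import Groth.Statements.S9653
import Mathlib
import Groth.Agent.S9652

set_option autoImplicit false
universe u
open CAlg

namespace Groth.Agent.S9653


namespace H9653
open PrimeSpectrum Groth.Agent.S9651 Groth.Agent.S9652

theorem piece_avoid {R S : Type u} [CommRing R] [CommRing S] (φ : R →+* S) (p : Ideal R)
    [hp : p.IsPrime] (g : Set S) (a : S)
    (h : ∀ P : Ideal S, P.IsPrime → g ⊆ P → a ∉ P → P.comap φ ≠ p) :
    ∃ r : R, r ∉ p ∧ ∀ P : Ideal S, P.IsPrime → g ⊆ P → a ∉ P → p ≤ P.comap φ →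
      r ∈ P.comap φ := by
  set J : Ideal S := Ideal.span g ⊔ p.map φ with hJ
  set M : Submonoid S := Submonoid.powers a ⊔ p.primeCompl.map φ with hM
  by_cases hd : Disjoint (J : Set S) (M : Set S)
  · exfalso
    obtain ⟨P, hP, hJP, hPM⟩ := Ideal.exists_le_prime_disjoint J M hd
    refine h P hP (fun s hs => hJP (le_sup_left (a := Ideal.span g) (Ideal.subset_span hs))) ?_ ?_
    · intro haP
      exact Set.disjoint_left.mp hPM haP
        (Submonoid.mem_sup_left (Submonoid.mem_powers a))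
    · apply le_antisymm
      · intro r hr
        by_contra hrp
        exact Set.disjoint_left.mp hPM hr
          (Submonoid.mem_sup_right (Submonoid.mem_map.mpr ⟨r, hrp, rfl⟩))
      · intro r hr
        exact hJP (le_sup_right (a := Ideal.span g) (Ideal.mem_map_of_mem φ hr))
  · rw [Set.not_disjoint_iff] at hd
    obtain ⟨x, hxJ, hxM⟩ := hd
    obtain ⟨y, hy, z, hz, rfl⟩ := Submonoid.mem_sup.mp hxM
    obtain ⟨n, rfl⟩ := hy
    obtain ⟨s, hs, rfl⟩ := Submonoid.mem_map.mp hz
    refine ⟨s, hs, fun P hP hgP haP hpP => ?_⟩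
    have hJP : J ≤ P := sup_le (Ideal.span_le.mpr hgP) (Ideal.map_le_iff_le_comap.mpr hpP)
    have hmem : a ^ n * φ s ∈ P := hJP hxJ
    rcases hP.mem_or_mem hmem with h1 | h1
    · exact absurd (hP.mem_of_pow_mem n h1) haP
    · exact h1

theorem basic_avoid {R S : Type u} [CommRing R] [CommRing S] (φ : R →+* S)
    (ξ : PrimeSpectrum R) (c : BasicConstructibleSetData S) :
    ∃ r : R, r ∉ ξ.asIdeal ∧ (ξ ∉ comap φ '' c.toSet → ∀ y ∈ c.toSet,
      ξ.asIdeal ≤ (comap φ y).asIdeal → r ∈ (comap φ y).asIdeal) := by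
  by_cases hξ : ξ ∈ comap φ '' c.toSet
  · exact ⟨1, fun h => ξ.isPrime.ne_top ((Ideal.eq_top_iff_one _).mpr h), fun h => absurd hξ h⟩
  · haveI : ξ.asIdeal.IsPrime := ξ.isPrime
    obtain ⟨r, hr, hrP⟩ := piece_avoid φ ξ.asIdeal (Set.range c.g) c.f (by
      intro P hP hgP haP hcon
      apply hξ
      refine ⟨⟨P, hP⟩, ⟨?_, ?_⟩, PrimeSpectrum.ext hcon⟩
      · rw [mem_zeroLocus]; exact hgP
      · rw [mem_zeroLocus]; intro h; exact haP (h (Set.mem_singleton _)))
    refine ⟨r, hr, fun _ y hy hle => ?_⟩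
    refine hrP y.asIdeal y.isPrime ?_ ?_ hle
    · have := hy.1
      rw [mem_zeroLocus] at this
      exact this
    · intro h
      apply hy.2
      rw [mem_zeroLocus]
      simpa using h

theorem avoid {R S : Type u} [CommRing R] [CommRing S] (φ : R →+* S)
    (E : Set (PrimeSpectrum S)) (hE : Topology.IsConstructible E) (ξ : PrimeSpectrum R)
    (hξ : ξ ∉ comap φ '' E) :
    ∃ r : R, r ∉ ξ.asIdeal ∧ ∀ y ∈ E, ξ.asIdeal ≤ (comap φ y).asIdeal →
      r ∈ (comap φ y).asIdeal := by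
  classical
  obtain ⟨C, rfl⟩ := PrimeSpectrum.exists_constructibleSetData_iff.mpr hE
  choose r hr1 hr2 using basic_avoid φ ξ
  refine ⟨∏ c ∈ C, r c, ?_, ?_⟩
  · intro h
    rw [ξ.isPrime.prod_mem_iff] at h
    obtain ⟨c, _, hc⟩ := h
    exact hr1 c hc
  · intro y hy hle
    simp only [ConstructibleSetData.toSet, Set.mem_iUnion] at hy
    obtain ⟨c, hcC, hyc⟩ := hy
    have hξc : ξ ∉ comap φ '' c.toSet := by
      rintro ⟨y', hy', rfl⟩
      apply hξ
      refine ⟨y', ?_, rfl⟩
      simp only [ConstructibleSetData.toSet, Set.mem_iUnion]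
      exact ⟨c, hcC, hy'⟩
    have h1 := hr2 c hξc y hyc hle
    obtain ⟨k, hk⟩ := Finset.dvd_prod_of_mem r hcC
    rw [hk]
    exact Ideal.mul_mem_right _ _ h1

end H9653

/-- Let R and S be Jacobson rings, R → S a ring map of finite type with induced map f : Spec(S) →
Spec(R), E ⊆ Spec(S) constructible and E₀ the set of points of E closed in E. Then a point ξ of
Spec(R) lies in f(E) if and only if cl{ξ} ∩ f(E₀) is dense in the closure cl{ξ}. -/
theorem result {R S : Type u} [CommRing R] [CommRing S] [Algebra R S] [IsJacobsonRing R] [IsJacobsonRing S] [Algebra.FiniteType R S]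
    (E : Set (PrimeSpectrum S)) (hE : Topology.IsConstructible E) (ξ : PrimeSpectrum R) :
    ξ ∈ PrimeSpectrum.comap (algebraMap R S) '' E ↔
      closure ({ξ} : Set (PrimeSpectrum R)) ⊆ closure (closure {ξ} ∩ PrimeSpectrum.comap (algebraMap R S) '' {y | y ∈ E ∧ closure {y} ∩ E = {y}}) := by
  constructor
  · intro hξ
    obtain ⟨a, haξ, hU⟩ := Groth.Agent.S9651.H9651.main E hE ξ hξ
    have hb := Groth.Agent.S9652.H9652.image_closed_eq (R := R) E hE
    rw [isClosed_closure.closure_subset_iff, Set.singleton_subset_iff,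
      ← PrimeSpectrum.zeroLocus_vanishingIdeal_eq_closure, PrimeSpectrum.mem_zeroLocus]
    intro b hb'
    by_contra hbξ
    have hb'' := (PrimeSpectrum.mem_vanishingIdeal _ _).mp hb'
    haveI : ξ.asIdeal.IsPrime := ξ.isPrime
    have hab : a * b ∉ ξ.asIdeal := fun h => (ξ.isPrime.mem_or_mem h).elim haξ hbξ
    obtain ⟨m, hm, hξm, habm⟩ := Groth.Agent.S9652.H9652.exists_max ξ.asIdeal (a * b) hab
    have ham : a ∉ m := fun h => habm (Ideal.mul_mem_right _ _ h)
    have hbm : b ∉ m := fun h => habm (Ideal.mul_mem_left _ _ h)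
    apply hbm
    refine hb'' ⟨m, hm.isPrime⟩ ⟨?_, ?_⟩
    · rw [PrimeSpectrum.closure_singleton, PrimeSpectrum.mem_zeroLocus]
      exact hξm
    · rw [hb]
      refine ⟨?_, hU _ ham hξm⟩
      show IsClosed {(⟨m, hm.isPrime⟩ : PrimeSpectrum R)}
      rw [PrimeSpectrum.isClosed_singleton_iff_isMaximal]
      exact hm
  · intro hcl
    by_contra hξ
    obtain ⟨r, hr, hrE⟩ := H9653.avoid (algebraMap R S) E hE ξ hξ
    have hsub : closure {ξ} ∩ PrimeSpectrum.comap (algebraMap R S) ''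
        {y | y ∈ E ∧ closure {y} ∩ E = {y}} ⊆ PrimeSpectrum.zeroLocus {r} := by
      rintro x ⟨hx1, y, ⟨hyE, _⟩, rfl⟩
      rw [PrimeSpectrum.closure_singleton, PrimeSpectrum.mem_zeroLocus] at hx1
      rw [PrimeSpectrum.mem_zeroLocus, Set.singleton_subset_iff]
      exact hrE y hyE hx1
    have h2 : ξ ∈ PrimeSpectrum.zeroLocus ({r} : Set R) :=
      (closure_minimal hsub (PrimeSpectrum.isClosed_zeroLocus _))
        (hcl (subset_closure (Set.mem_singleton ξ)))
    rw [PrimeSpectrum.mem_zeroLocus, Set.singleton_subset_iff] at h2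
    exact hr h2

end Groth.Agent.S9653
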