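import Groth.Statements.S9654

set_option autoImplicit false
universe u

namespace Groth.Agent.S9654

open Polynomial

section General

variable {R S : Type u} [CommRing R] [CommRing S] [Algebra R S]

theorem pow_mul_pow_left {a b : S} (hab : a * b = 1) (j d : ℕ) : a ^ (j + d) * b ^ j = a ^ d := by
  rw [pow_add, mul_right_comm, ← mul_pow, hab, one_pow, one_mul]

theorem pow_mul_pow_right {a b : S} (hab : a * b = 1) (i d : ℕ) : a ^ i * b ^ (i + d) = b ^ d := by
  rw [pow_add, ← mul_assoc, ← mul_pow, hab, one_pow, one_mul]

/-- Elements of `R[a] ∩ R[a⁻¹]` are integral over `R`. -/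
theorem isIntegral_of_mem_inf {a b : S} (hab : a * b = 1) (t : S)
    (hta : t ∈ Algebra.adjoin R {a}) (htb : t ∈ Algebra.adjoin R {b}) : IsIntegral R t := by
  rw [Algebra.adjoin_singleton_eq_range_aeval] at hta htb
  obtain ⟨f, hf⟩ := hta
  obtain ⟨g, hg⟩ := htb
  have hf' : t = ∑ i ∈ Finset.range (f.natDegree + 1), f.coeff i • a ^ i := by
    rw [← hf]; exact aeval_eq_sum_range a
  have hg' : t = ∑ j ∈ Finset.range (g.natDegree + 1), g.coeff j • b ^ j := by
    rw [← hg]; exact aeval_eq_sum_range b
  set n := f.natDegree with hn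
  set m := g.natDegree with hm
  let G : Set S := (fun i : ℕ => a ^ i) '' {i | i ≤ n} ∪ (fun j : ℕ => b ^ j) '' {j | j ≤ m}
  let N : Submodule R S := Submodule.span R G
  have hGfin : G.Finite := ((Set.finite_le_nat n).image _).union ((Set.finite_le_nat m).image _)
  have hNfg : N.FG := Submodule.fg_span hGfin
  have ha_mem : ∀ i, i ≤ n → a ^ i ∈ N := fun i hi =>
    Submodule.subset_span (Or.inl ⟨i, hi, rfl⟩)
  have hb_mem : ∀ j, j ≤ m → b ^ j ∈ N := fun j hj =>
    Submodule.subset_span (Or.inr ⟨j, hj, rfl⟩)
  have key : ∀ i j, i ≤ n → j ≤ m → a ^ i * b ^ j ∈ N := by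
    intro i j hi hj
    rcases le_total j i with h | h
    · obtain ⟨d, rfl⟩ := Nat.exists_eq_add_of_le h
      rw [pow_mul_pow_left hab]
      exact ha_mem d (by omega)
    · obtain ⟨d, rfl⟩ := Nat.exists_eq_add_of_le h
      rw [pow_mul_pow_right hab]
      exact hb_mem d (by omega)
  have h1 : (1 : S) ∈ N := by
    have := ha_mem 0 (Nat.zero_le _)
    rwa [pow_zero] at this
  have hstab : ∀ z ∈ N, t * z ∈ N := by
    intro z hz
    induction hz using Submodule.span_induction with
    | mem z hz =>
      rcases hz with ⟨k, hk, rfl⟩ | ⟨k, hk, rfl⟩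
      · show t * a ^ k ∈ N
        rw [hg', Finset.sum_mul]
        refine Submodule.sum_mem _ fun j hj => ?_
        rw [smul_mul_assoc, mul_comm]
        refine N.smul_mem _ (key k j hk ?_)
        have := Finset.mem_range.mp hj
        omega
      · show t * b ^ k ∈ N
        rw [hf', Finset.sum_mul]
        refine Submodule.sum_mem _ fun i hi => ?_
        rw [smul_mul_assoc]
        refine N.smul_mem _ (key i k ?_ hk)
        have := Finset.mem_range.mp hi
        omega
    | zero => rw [mul_zero]; exact N.zero_mem
    | add z w _ _ hz hw => rw [mul_add]; exact N.add_mem hz hw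
    | smul r z _ hz => rw [mul_smul_comm]; exact N.smul_mem r hz
  -- Cayley–Hamilton on `N`
  have : Module.Finite R N := Module.Finite.iff_fg.mpr hNfg
  let φ : Module.End R N := (LinearMap.mulLeft R t).restrict hstab
  obtain ⟨p, hpm, hp⟩ := LinearMap.exists_monic_and_aeval_eq_zero R φ
  refine ⟨p, hpm, ?_⟩
  have hpow : ∀ (k : ℕ) (z : N), ((φ ^ k) z : S) = t ^ k * z := by
    intro k
    induction k with
    | zero => intro z; simp
    | succ k ih =>
      intro z
      rw [pow_succ', Module.End.mul_apply]
      show t * ((φ ^ k) z : S) = _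
      rw [ih, pow_succ', mul_assoc]
  have hev : ∀ (q : R[X]) (z : N), ((aeval φ q) z : S) = aeval t q * z := by
    intro q z
    induction q using Polynomial.induction_on' with
    | add q₁ q₂ h₁ h₂ =>
      rw [map_add, map_add, LinearMap.add_apply, Submodule.coe_add, h₁, h₂, add_mul]
    | monomial k c =>
      rw [aeval_monomial, aeval_monomial, Module.End.mul_apply]
      rw [Module.algebraMap_end_apply, Submodule.coe_smul, hpow, Algebra.smul_def, mul_assoc]
  have := hev p ⟨1, h1⟩
  rw [hp] at this
  simp only [LinearMap.zero_apply, Submodule.coe_zero, mul_one] at this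
  rw [← aeval_def]
  exact this.symm

/-- The core of the argument: elements of `R[y/x]` integral over `R` come from `R` when `R` is
integrally closed in `R_x`. -/
theorem mem_range_of_isIntegral (x y : R) (hinj : Function.Injective (algebraMap R S))
    (hxu : IsUnit (algebraMap R S x))
    (hcl : IsIntegrallyClosedIn R (Localization.Away x))
    (c : S) (hc : c * algebraMap R S x = algebraMap R S y)
    (t : S) (ht : t ∈ Algebra.adjoin R {c}) (hint : IsIntegral R t) :
    t ∈ Set.range (algebraMap R S) := by
  let φ₀ : Localization.Away x →+* S := IsLocalization.Away.lift x hxu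
  let φ : Localization.Away x →ₐ[R] S :=
    { toRingHom := φ₀, commutes' := fun r => IsLocalization.Away.lift_eq x hxu r }
  have hφapply : ∀ z, φ z = φ₀ z := fun z => rfl
  have hφinj : Function.Injective φ := by
    rw [injective_iff_map_eq_zero]
    intro z hz
    obtain ⟨n, r, hr⟩ := IsLocalization.Away.surj x z
    have h1 : algebraMap R S r = 0 := by
      have := congrArg φ hr
      rw [map_mul, hz, zero_mul, AlgHom.commutes] at this
      exact this.symm
    have h2 : r = 0 := hinj (by rw [h1, map_zero])
    rw [h2, map_zero] at hr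
    have hu : IsUnit (algebraMap R (Localization.Away x) x ^ n) :=
      (IsLocalization.Away.algebraMap_isUnit x).pow n
    exact (hu.mul_left_eq_zero).mp hr
  let c' : Localization.Away x := algebraMap R _ y * IsLocalization.Away.invSelf x
  have hc' : φ c' = c := by
    have h1 : algebraMap R S x * φ (IsLocalization.Away.invSelf x) = 1 := by
      rw [← AlgHom.commutes φ x, ← map_mul, IsLocalization.Away.mul_invSelf, map_one]
    show φ (algebraMap R _ y * IsLocalization.Away.invSelf x) = c
    rw [map_mul, AlgHom.commutes, ← hc, mul_assoc, h1, mul_one]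
  rw [← hc', ← AlgHom.map_adjoin_singleton] at ht
  obtain ⟨t', ht', rfl⟩ := ht
  have hint' : IsIntegral R t' := (isIntegral_algHom_iff φ hφinj).mp hint
  obtain ⟨r, hr⟩ := (IsIntegralClosure.isIntegral_iff (A := R)).mp hint'
  refine ⟨r, ?_⟩
  show algebraMap R S r = φ t'
  rw [← hr, AlgHom.commutes]

end General

/-- Let R be a ring and x, y ∈ R nonzerodivisors. In the localization R_{xy} let a = x/y and b = y/x,
and let R[a], R[b], R[a, b] be the R-subalgebras they generate. If R is integrally closed in R_x or
in R_y, then the sequence 0 → R → R[a] ⊕ R[b] → R[a, b] → 0 (difference map, then sum map) is short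
exact; equivalently R[a] ∩ R[b] is the image of R and R[a] + R[b] = R[a, b] inside R_{xy}. -/
theorem result {R : Type u} [CommRing R] (x y : R) (hx : x ∈ nonZeroDivisors R) (hy : y ∈ nonZeroDivisors R)
    (hint : IsIntegrallyClosedIn R (Localization.Away x) ∨ IsIntegrallyClosedIn R (Localization.Away y)) :
    (Algebra.adjoin R {algebraMap R (Localization.Away (x * y)) (x * x) * IsLocalization.Away.invSelf (x * y)}).toSubmodule ⊓
        (Algebra.adjoin R {algebraMap R (Localization.Away (x * y)) (y * y) * IsLocalization.Away.invSelf (x * y)}).toSubmodule =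
        (⊥ : Subalgebra R (Localization.Away (x * y))).toSubmodule ∧
      (Algebra.adjoin R {algebraMap R (Localization.Away (x * y)) (x * x) * IsLocalization.Away.invSelf (x * y)}).toSubmodule ⊔
        (Algebra.adjoin R {algebraMap R (Localization.Away (x * y)) (y * y) * IsLocalization.Away.invSelf (x * y)}).toSubmodule =
        (Algebra.adjoin R {algebraMap R (Localization.Away (x * y)) (x * x) * IsLocalization.Away.invSelf (x * y), algebraMap R (Localization.Away (x * y)) (y * y) * IsLocalization.Away.invSelf (x * y)}).toSubmodule := by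
  set S := Localization.Away (x * y) with hS
  set w : S := IsLocalization.Away.invSelf (x * y) with hw
  have hw1 : algebraMap R S (x * y) * w = 1 := IsLocalization.Away.mul_invSelf (x * y)
  set a : S := algebraMap R S (x * x) * w with ha
  set b : S := algebraMap R S (y * y) * w with hb
  have hab : a * b = 1 := by
    have : a * b = (algebraMap R S (x * y) * w) * (algebraMap R S (x * y) * w) := by
      simp only [ha, hb, map_mul]; ring
    rw [this, hw1, mul_one]
  have hax : a * algebraMap R S y = algebraMap R S x := by
    have : a * algebraMap R S y = algebraMap R S x * (algebraMap R S (x * y) * w) := by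
      simp only [ha, map_mul]; ring
    rw [this, hw1, mul_one]
  have hby : b * algebraMap R S x = algebraMap R S y := by
    have : b * algebraMap R S x = algebraMap R S y * (algebraMap R S (x * y) * w) := by
      simp only [hb, map_mul]; ring
    rw [this, hw1, mul_one]
  have hinj : Function.Injective (algebraMap R S) :=
    IsLocalization.injective S (M := Submonoid.powers (x * y))
      (Submonoid.powers_le.mpr (mul_mem hx hy))
  have hxu : IsUnit (algebraMap R S x) := by
    refine IsUnit.of_mul_eq_one (algebraMap R S y * w) ?_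
    rw [← mul_assoc, ← map_mul]; exact hw1
  have hyu : IsUnit (algebraMap R S y) := by
    refine IsUnit.of_mul_eq_one (algebraMap R S x * w) ?_
    rw [← mul_assoc, ← map_mul, mul_comm y x]; exact hw1
  constructor
  · apply le_antisymm
    · intro t ht
      rw [Submodule.mem_inf, Subalgebra.mem_toSubmodule, Subalgebra.mem_toSubmodule] at ht
      rw [Subalgebra.mem_toSubmodule, Algebra.mem_bot]
      have hti : IsIntegral R t := isIntegral_of_mem_inf hab t ht.1 ht.2
      rcases hint with h | h
      · exact mem_range_of_isIntegral x y hinj hxu h b hby t ht.2 hti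
      · exact mem_range_of_isIntegral y x hinj hyu h a hax t ht.1 hti
    · intro t ht
      rw [Subalgebra.mem_toSubmodule] at ht
      rw [Submodule.mem_inf, Subalgebra.mem_toSubmodule, Subalgebra.mem_toSubmodule]
      exact ⟨bot_le (a := Algebra.adjoin R {a}) ht, bot_le (a := Algebra.adjoin R {b}) ht⟩
  · apply le_antisymm
    · apply sup_le
      · intro t ht
        rw [Subalgebra.mem_toSubmodule] at ht ⊢
        exact Algebra.adjoin_mono (by intro z hz; rw [Set.mem_singleton_iff] at hz; rw [hz]; exact Set.mem_insert _ _) ht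
      · intro t ht
        rw [Subalgebra.mem_toSubmodule] at ht ⊢
        exact Algebra.adjoin_mono (by intro z hz; rw [Set.mem_singleton_iff] at hz; rw [hz]; exact Set.mem_insert_of_mem _ rfl) ht
    · set Pa := (Algebra.adjoin R {a}).toSubmodule with hPa
      set Pb := (Algebra.adjoin R {b}).toSubmodule with hPb
      have hapow : ∀ k, a ^ k ∈ Pa := fun k =>
        Subalgebra.pow_mem _ (Algebra.self_mem_adjoin_singleton R a) k
      have hbpow : ∀ k, b ^ k ∈ Pb := fun k =>
        Subalgebra.pow_mem _ (Algebra.self_mem_adjoin_singleton R b) k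
      have hmono : ∀ i j, a ^ i * b ^ j ∈ Pa ⊔ Pb := by
        intro i j
        rcases le_total j i with h | h
        · obtain ⟨d, rfl⟩ := Nat.exists_eq_add_of_le h
          rw [pow_mul_pow_left hab]
          exact Submodule.mem_sup_left (hapow d)
        · obtain ⟨d, rfl⟩ := Nat.exists_eq_add_of_le h
          rw [pow_mul_pow_right hab]
          exact Submodule.mem_sup_right (hbpow d)
      have hcross : ∀ p ∈ Pa, ∀ q ∈ Pb, p * q ∈ Pa ⊔ Pb := by
        intro p hp q hq
        rw [hPa, Subalgebra.mem_toSubmodule, Algebra.adjoin_singleton_eq_range_aeval] at hp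
        rw [hPb, Subalgebra.mem_toSubmodule, Algebra.adjoin_singleton_eq_range_aeval] at hq
        obtain ⟨f, rfl⟩ := hp
        obtain ⟨g, rfl⟩ := hq
        show aeval a f * aeval b g ∈ Pa ⊔ Pb
        rw [aeval_eq_sum_range a, aeval_eq_sum_range b, Finset.sum_mul_sum]
        refine Submodule.sum_mem _ fun i _ => Submodule.sum_mem _ fun j _ => ?_
        rw [smul_mul_smul_comm]
        exact Submodule.smul_mem _ _ (hmono i j)
      have hmul : ∀ p q, p ∈ Pa ⊔ Pb → q ∈ Pa ⊔ Pb → p * q ∈ Pa ⊔ Pb := by
        intro p q hp hq
        obtain ⟨p₁, hp₁, p₂, hp₂, rfl⟩ := Submodule.mem_sup.mp hp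
        obtain ⟨q₁, hq₁, q₂, hq₂, rfl⟩ := Submodule.mem_sup.mp hq
        have e : (p₁ + p₂) * (q₁ + q₂) = p₁ * q₁ + p₁ * q₂ + (q₁ * p₂ + p₂ * q₂) := by ring
        rw [e]
        refine Submodule.add_mem _ (Submodule.add_mem _ ?_ (hcross p₁ hp₁ q₂ hq₂))
          (Submodule.add_mem _ (hcross q₁ hq₁ p₂ hp₂) ?_)
        · exact Submodule.mem_sup_left (Subalgebra.mul_mem _ hp₁ hq₁)
        · exact Submodule.mem_sup_right (Subalgebra.mul_mem _ hp₂ hq₂)
      have hone : (1 : S) ∈ Pa ⊔ Pb := Submodule.mem_sup_left (Subalgebra.one_mem _)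
      intro t ht
      rw [Subalgebra.mem_toSubmodule] at ht
      have hle : Algebra.adjoin R {a, b} ≤ (Pa ⊔ Pb).toSubalgebra hone hmul := by
        apply Algebra.adjoin_le
        intro z hz
        rcases hz with rfl | hz
        · exact Submodule.mem_sup_left (Algebra.self_mem_adjoin_singleton R _)
        · rw [Set.mem_singleton_iff] at hz
          rw [hz]
          exact Submodule.mem_sup_right (Algebra.self_mem_adjoin_singleton R _)
      exact Submodule.mem_toSubalgebra.mp (hle ht)

end Groth.Agent.S9654
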