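import Groth.Statements.S9655
import Mathlib

set_option autoImplicit false
universe u
open CAlg

namespace Groth.Agent.S9655


namespace H9655
open IsLocalRing

theorem main {R S : Type u} [CommRing R] [CommRing S] [Algebra R S] [IsLocalRing R] [IsLocalRing S]
    [Algebra.EssFiniteType R S] :
    ∃ (n : ℕ) (m : Ideal (MvPolynomial (Fin n) R)) (_ : m.IsMaximal),
      m.under R = IsLocalRing.maximalIdeal R ∧
      ∃ (φ : Localization.AtPrime m →ₐ[R] S) (T : Submonoid φ.range), IsLocalization T S := by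
  classical
  obtain ⟨σ, hσ⟩ := (Algebra.essFiniteType_iff R S).1 (inferInstance : Algebra.EssFiniteType R S)
  obtain ⟨ρ, hρ⟩ : ∃ ρ : S →+* ResidueField S, ρ = residue S := ⟨_, rfl⟩
  obtain ⟨V, hV, hloc⟩ := IsLocalRing.exists_factor_valuationRing (ρ.comp (algebraMap R S))
  -- modify generators
  have hg : ∀ y : S, ∃ y' : S, ρ y' ∈ V ∧ (y = y' ∨ (IsUnit y' ∧ y * y' = 1)) := by
    intro y
    by_cases hy : ρ y ∈ V
    · exact ⟨y, hy, Or.inl rfl⟩
    · have hy0 : ρ y ≠ 0 := fun h => hy (h ▸ V.zero_mem)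
      have hu : IsUnit y := by
        rw [← residue_ne_zero_iff_isUnit, ← hρ]; exact hy0
      obtain ⟨y', hyy'⟩ := isUnit_iff_exists_inv.1 hu
      refine ⟨y', ?_, Or.inr ⟨IsUnit.of_mul_eq_one y (by rw [mul_comm]; exact hyy'), hyy'⟩⟩
      have h1 : ρ y' = (ρ y)⁻¹ := by
        apply eq_inv_of_mul_eq_one_right
        rw [← map_mul, hyy', map_one]
      rw [h1]
      exact (V.mem_or_inv_mem (ρ y)).resolve_left hy
  choose g hg1 hg2 using hg
  obtain ⟨n, hn⟩ : ∃ n : ℕ, n = σ.card := ⟨_, rfl⟩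
  obtain ⟨eq⟩ : Nonempty (σ ≃ Fin n) := ⟨hn ▸ σ.equivFin⟩
  obtain ⟨v, hv⟩ : ∃ v : Fin n → S, v = fun i => g (eq.symm i : S) := ⟨_, rfl⟩
  have hvσ : ∀ y ∈ σ, ∃ i, v i = g y := fun y hy => ⟨eq ⟨y, hy⟩, by rw [hv]; simp⟩
  have hvV : ∀ i, ρ (v i) ∈ V := fun i => by rw [hv]; exact hg1 _
  obtain ⟨ψ, hψ⟩ : ∃ ψ : MvPolynomial (Fin n) R →ₐ[R] S, ψ = MvPolynomial.aeval v := ⟨_, rfl⟩
  have hψX : ∀ i, ψ (MvPolynomial.X i) = v i := fun i => by rw [hψ, MvPolynomial.aeval_X]
  have hψC : ∀ r, ψ (MvPolynomial.C r) = algebraMap R S r := fun r => by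
    rw [hψ, MvPolynomial.aeval_C]
  have hψV : ∀ P, ρ (ψ P) ∈ V := by
    intro P
    induction P using MvPolynomial.induction_on with
    | C r => rw [hψC]; exact hV r
    | add p q hp hq => rw [map_add, map_add]; exact V.add_mem _ _ hp hq
    | mul_X p i hp => rw [map_mul, map_mul, hψX]; exact V.mul_mem _ _ hp (hvV i)
  -- the ideal of elements of valuation < 1
  obtain ⟨I₁, hI₁⟩ : ∃ I₁ : Ideal (MvPolynomial (Fin n) R),
      ∀ P, P ∈ I₁ ↔ V.valuation (ρ (ψ P)) < 1 := by
    refine ⟨{ carrier := {P | V.valuation (ρ (ψ P)) < 1}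
              add_mem' := ?_
              zero_mem' := ?_
              smul_mem' := ?_ }, fun P => Iff.rfl⟩
    · intro a b ha hb
      change V.valuation (ρ (ψ (a + b))) < 1
      rw [map_add, map_add]
      exact Valuation.map_add_lt _ ha hb
    · change V.valuation (ρ (ψ 0)) < 1
      rw [map_zero, map_zero, map_zero]
      exact zero_lt_one
    · intro c x hx
      change V.valuation (ρ (ψ (c • x))) < 1
      rw [smul_eq_mul, map_mul, map_mul, map_mul]
      have hc : V.valuation (ρ (ψ c)) ≤ 1 := (V.valuation_le_one_iff _).2 (hψV c)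
      calc V.valuation (ρ (ψ c)) * V.valuation (ρ (ψ x))
          ≤ 1 * V.valuation (ρ (ψ x)) := mul_le_mul_left hc _
        _ = V.valuation (ρ (ψ x)) := one_mul _
        _ < 1 := hx
  have hI₁top : I₁ ≠ ⊤ := by
    intro h
    have h1 : (1 : MvPolynomial (Fin n) R) ∈ I₁ := h ▸ Submodule.mem_top
    rw [hI₁, map_one, map_one, map_one] at h1
    exact lt_irrefl _ h1
  obtain ⟨m, hm, hle⟩ := Ideal.exists_le_maximal I₁ hI₁top
  have hunder : m.under R = maximalIdeal R := by
    have h1 : maximalIdeal R ≤ m.under R := by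
      intro r hr
      rw [Ideal.under_def, Ideal.mem_comap]
      apply hle
      rw [hI₁, MvPolynomial.algebraMap_eq, hψC]
      by_contra hnot
      have h2 : V.valuation (ρ (algebraMap R S r)) = 1 :=
        le_antisymm ((V.valuation_le_one_iff _).2 (hV r)) (not_lt.1 hnot)
      have h3 : ρ (algebraMap R S r) ≠ 0 := by
        intro h0
        rw [h0, map_zero] at h2
        exact zero_ne_one h2
      have h4 : (ρ (algebraMap R S r))⁻¹ ∈ V := by
        rw [← V.valuation_le_one_iff, map_inv₀, h2, inv_one]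
      have h5 : IsUnit (((ρ.comp (algebraMap R S)).codRestrict V.toSubring hV) r) := by
        refine IsUnit.of_mul_eq_one (⟨(ρ (algebraMap R S r))⁻¹, h4⟩ : V.toSubring) ?_
        apply Subtype.ext
        exact mul_inv_cancel₀ h3
      have h6 : IsUnit r := hloc.map_nonunit r h5
      exact (mem_nonunits_iff.1 ((mem_maximalIdeal r).1 hr)) h6
    have h2 : m.under R ≠ ⊤ := by
      intro h
      apply hm.ne_top
      rw [Ideal.eq_top_iff_one]
      have : (1 : R) ∈ m.under R := h ▸ Submodule.mem_top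
      rw [Ideal.under_def, Ideal.mem_comap, map_one] at this
      exact this
    exact ((maximalIdeal.isMaximal R).eq_of_le h2 h1).symm
  refine ⟨n, m, hm, hunder, ?_⟩
  have hunit : ∀ y : m.primeCompl, IsUnit (ψ y) := by
    intro y
    by_contra hnot
    apply y.2
    apply hle
    rw [hI₁]
    have h1 : ρ (ψ y) = 0 := by
      rw [hρ, residue_eq_zero_iff]
      exact (mem_maximalIdeal _).2 (mem_nonunits_iff.2 hnot)
    rw [h1, map_zero]
    exact zero_lt_one
  obtain ⟨φ, hφ⟩ : ∃ φ : Localization.AtPrime m →ₐ[R] S,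
      φ = IsLocalization.liftAlgHom (M := m.primeCompl) (f := ψ) hunit := ⟨_, rfl⟩
  have hφalg : ∀ P, φ (algebraMap _ _ P) = ψ P := by
    intro P
    rw [hφ, IsLocalization.liftAlgHom_apply, IsLocalization.lift_eq]
    rfl
  have hgrange : ∀ y ∈ σ, g y ∈ φ.range := by
    intro y hy
    obtain ⟨i, hi⟩ := hvσ y hy
    exact (AlgHom.mem_range φ).2 ⟨algebraMap (MvPolynomial (Fin n) R) _ (MvPolynomial.X i), by rw [hφalg, hψX, hi]⟩
  refine ⟨φ, (IsUnit.submonoid S).comap (algebraMap φ.range S), ?_⟩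
  -- fractions
  have hB : ∀ z ∈ Algebra.adjoin R (σ : Set S),
      ∃ t : S, t ∈ φ.range ∧ IsUnit t ∧ z * t ∈ φ.range := by
    intro z hz
    induction hz using Algebra.adjoin_induction with
    | mem y hy =>
      rcases hg2 y with h | ⟨h1, h2⟩
      · exact ⟨1, φ.range.one_mem, isUnit_one, by rw [mul_one, h]; exact hgrange y hy⟩
      · exact ⟨g y, hgrange y hy, h1, by rw [h2]; exact φ.range.one_mem⟩
    | algebraMap r =>
      exact ⟨1, φ.range.one_mem, isUnit_one, by rw [mul_one]; exact φ.range.algebraMap_mem r⟩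
    | add a b _ _ ha hb =>
      obtain ⟨t₁, ht₁, hu₁, h₁⟩ := ha
      obtain ⟨t₂, ht₂, hu₂, h₂⟩ := hb
      refine ⟨t₁ * t₂, φ.range.mul_mem ht₁ ht₂, hu₁.mul hu₂, ?_⟩
      have : (a + b) * (t₁ * t₂) = (a * t₁) * t₂ + (b * t₂) * t₁ := by ring
      rw [this]
      exact φ.range.add_mem (φ.range.mul_mem h₁ ht₂) (φ.range.mul_mem h₂ ht₁)
    | mul a b _ _ ha hb =>
      obtain ⟨t₁, ht₁, hu₁, h₁⟩ := ha
      obtain ⟨t₂, ht₂, hu₂, h₂⟩ := hb
      refine ⟨t₁ * t₂, φ.range.mul_mem ht₁ ht₂, hu₁.mul hu₂, ?_⟩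
      have : (a * b) * (t₁ * t₂) = (a * t₁) * (b * t₂) := by ring
      rw [this]
      exact φ.range.mul_mem h₁ h₂
  constructor; constructor
  · exact fun y => y.prop
  · intro z
    obtain ⟨t₀, ht₀, hu₀, h₀⟩ := hσ z
    obtain ⟨t₁, ht₁, hu₁, h₁⟩ := hB t₀ ht₀
    obtain ⟨t₂, ht₂, hu₂, h₂⟩ := hB _ h₀
    refine ⟨⟨⟨z * t₀ * t₂ * t₁, φ.range.mul_mem h₂ ht₁⟩,
      ⟨⟨t₀ * t₁ * t₂, φ.range.mul_mem h₁ ht₂⟩, ?_⟩⟩, ?_⟩
    · exact (hu₀.mul hu₁).mul hu₂
    · change z * (t₀ * t₁ * t₂) = z * t₀ * t₂ * t₁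
      ring
  · intro x y e
    exact ⟨1, by simpa using Subtype.ext e⟩

end H9655

/-- Let R and S be local rings and R → S a ring map, not necessarily local, that is essentially of
finite type. Then for some n there is a maximal ideal m of the polynomial ring R[x_1, …, x_n] lying
over the maximal ideal of R, together with an R-algebra map φ : R[x_1, …, x_n]_m → S making S a
localization of the image of φ; thus S arises from R[x_1, …, x_n]_m by passing to a quotient and
then localizing. -/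
theorem result {R S : Type u} [CommRing R] [CommRing S] [Algebra R S] [IsLocalRing R] [IsLocalRing S] [Algebra.EssFiniteType R S] :
    ∃ (n : ℕ) (m : Ideal (MvPolynomial (Fin n) R)) (_ : m.IsMaximal), m.under R = IsLocalRing.maximalIdeal R ∧
      ∃ (φ : Localization.AtPrime m →ₐ[R] S) (T : Submonoid φ.range), IsLocalization T S := by
  exact H9655.main

end Groth.Agent.S9655
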