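import Groth.Statements.S9656
import Mathlib

set_option autoImplicit false
universe u
open CAlg

namespace Groth.Agent.S9656

/-- Let R_i → S_i be ring maps indexed by a finite type ι, with product map R = Π R_i → S = Π S_i. Then
an element (s_i) of S is integral over R exactly when s_i is integral over R_i for every i; so
integral closure in a finite product is computed factor by factor. -/
theorem result {ι : Type u} [Fintype ι] {R S : ι → Type u} [∀ i, CommRing (R i)] [∀ i, CommRing (S i)] (f : ∀ i, R i →+* S i) (s : ∀ i, S i) :
    (RingHom.pi fun i => (f i).comp (Pi.evalRingHom R i)).IsIntegralElem s ↔ ∀ i, (f i).IsIntegralElem (s i) := by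
  classical
  have hcomp : ∀ i, (Pi.evalRingHom S i).comp
      (RingHom.pi fun i => (f i).comp (Pi.evalRingHom R i)) = (f i).comp (Pi.evalRingHom R i) := by
    intro i
    ext x
    rfl
  constructor
  · rintro ⟨p, hp, hps⟩ i
    refine ⟨p.map (Pi.evalRingHom R i), hp.map _, ?_⟩
    rw [Polynomial.eval₂_map, ← hcomp i]
    have := Polynomial.hom_eval₂ p (RingHom.pi fun i => (f i).comp (Pi.evalRingHom R i))
      (Pi.evalRingHom S i) s
    rw [hps, map_zero] at this
    exact this.symm
  · intro h
    choose p hp hps using h
    let d : ℕ := Finset.univ.sup (fun i => (p i).natDegree)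
    have hd : ∀ i, (p i).natDegree ≤ d := fun i =>
      Finset.le_sup (f := fun i => (p i).natDegree) (Finset.mem_univ i)
    let q : ∀ i, Polynomial (R i) := fun i => p i * Polynomial.X ^ (d - (p i).natDegree)
    have hqcoeff : ∀ i, (q i).coeff d = 1 := by
      intro i
      have h1 : d = (p i).natDegree + (d - (p i).natDegree) := by
        have := hd i
        omega
      have h2 : (q i).coeff ((p i).natDegree + (d - (p i).natDegree)) =
          (p i).coeff (p i).natDegree := Polynomial.coeff_mul_X_pow (p i) _ _
      rw [← h1] at h2
      rw [h2]
      exact (hp i)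
    have hqdeg : ∀ i, (q i).natDegree ≤ d := by
      intro i
      refine le_trans Polynomial.natDegree_mul_le ?_
      have h3 : (Polynomial.X ^ (d - (p i).natDegree) : Polynomial (R i)).natDegree ≤
          d - (p i).natDegree := Polynomial.natDegree_X_pow_le _
      have := hd i
      omega
    have hqs : ∀ i, Polynomial.eval₂ (f i) (s i) (q i) = 0 := by
      intro i
      rw [Polynomial.eval₂_mul, hps i, zero_mul]
    let P : Polynomial (∀ i, R i) := (Polynomial.piEquiv R).symm q
    have hPmap : ∀ i, P.map (Pi.evalRingHom R i) = q i := by
      intro i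
      have := congrFun ((Polynomial.piEquiv R).apply_symm_apply q) i
      exact this
    refine ⟨P, ?_, ?_⟩
    · apply Polynomial.monic_of_natDegree_le_of_coeff_eq_one d
      · rw [Polynomial.natDegree_le_iff_coeff_eq_zero]
        intro N hN
        funext i
        have h1 : (P.coeff N) i = (P.map (Pi.evalRingHom R i)).coeff N := by
          rw [Polynomial.coeff_map]
          rfl
        rw [h1, hPmap]
        exact Polynomial.coeff_eq_zero_of_natDegree_lt (lt_of_le_of_lt (hqdeg i) hN)
      · funext i
        have h1 : (P.coeff d) i = (P.map (Pi.evalRingHom R i)).coeff d := by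
          rw [Polynomial.coeff_map]
          rfl
        rw [h1, hPmap, hqcoeff]
        rfl
    · funext i
      have := Polynomial.hom_eval₂ P (RingHom.pi fun i => (f i).comp (Pi.evalRingHom R i))
        (Pi.evalRingHom S i) s
      rw [hcomp i, ← Polynomial.eval₂_map, hPmap] at this
      have h2 : (Polynomial.eval₂ (RingHom.pi fun i => (f i).comp (Pi.evalRingHom R i)) s P) i =
          (Pi.evalRingHom S i) (Polynomial.eval₂
            (RingHom.pi fun i => (f i).comp (Pi.evalRingHom R i)) s P) := rfl
      rw [h2, this]
      exact hqs i

end Groth.Agent.S9656
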