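import Groth.Statements.S9658
import Mathlib

set_option autoImplicit false
universe u
open CAlg

namespace Groth.Agent.S9658

/-- Let R be a ring, f_1, …, f_n ∈ R generating the unit ideal and M an R-module. With M_i = M_{f_i},
M_ij = M_{f_i f_j} (any localizations, with the canonical compatible maps M → M_i → M_ij), the
sequence 0 → M → ⊕ M_i → ⊕ M_ij is exact: an element of M whose image vanishes in every M_i is zero,
and every family (m_i ∈ M_i) such that m_i and m_j have the same image in M_ij for all i, j is the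
image of an element of M. -/
theorem result {R : Type u} [CommRing R] {ι : Type u} [Fintype ι] (f : ι → R) (hf : Ideal.span (Set.range f) = ⊤)
    (M : Type u) [AddCommGroup M] [Module R M]
    (Mi : ι → Type u) [∀ i, AddCommGroup (Mi i)] [∀ i, Module R (Mi i)] (g : ∀ i, M →ₗ[R] Mi i) [∀ i, IsLocalizedModule (Submonoid.powers (f i)) (g i)]
    (Mij : ι → ι → Type u) [∀ i j, AddCommGroup (Mij i j)] [∀ i j, Module R (Mij i j)] (gij : ∀ i j, M →ₗ[R] Mij i j) [∀ i j, IsLocalizedModule (Submonoid.powers (f i * f j)) (gij i j)]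
    (ρ₁ : ∀ i j, Mi i →ₗ[R] Mij i j) (hρ₁ : ∀ i j, ρ₁ i j ∘ₗ g i = gij i j) (ρ₂ : ∀ i j, Mi j →ₗ[R] Mij i j) (hρ₂ : ∀ i j, ρ₂ i j ∘ₗ g j = gij i j) :
    (∀ m : M, (∀ i, g i m = 0) → m = 0) ∧
      ∀ s : ∀ i, Mi i, (∀ i j, ρ₁ i j (s i) = ρ₂ i j (s j)) → ∃ m : M, ∀ i, g i m = s i := by
  classical
  have hpart : ∀ N : ℕ, ∃ c : ι → R, ∑ i, c i * f i ^ N = 1 := by
    intro N
    have h1 := Ideal.span_pow_eq_top (Set.range f) hf N
    rw [← Set.range_comp] at h1
    have h2 : (1 : R) ∈ Ideal.span (Set.range ((fun x => x ^ N) ∘ f)) := by rw [h1]; trivial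
    obtain ⟨c, hc⟩ := Ideal.mem_span_range_iff_exists_fun.mp h2
    exact ⟨c, hc⟩
  constructor
  · intro m hm
    have h1 : ∀ i, ∃ n : ℕ, f i ^ n • m = 0 := by
      intro i
      obtain ⟨⟨_, n, rfl⟩, hc⟩ :=
        (IsLocalizedModule.eq_zero_iff (Submonoid.powers (f i)) (g i)).mp (hm i)
      exact ⟨n, hc⟩
    choose n hn using h1
    have hN : ∀ i, f i ^ (Finset.univ.sup n) • m = 0 := by
      intro i
      have hle : n i ≤ Finset.univ.sup n := Finset.le_sup (Finset.mem_univ i)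
      obtain ⟨k, hk⟩ := Nat.exists_eq_add_of_le hle
      rw [hk, pow_add, mul_comm, mul_smul, hn, smul_zero]
    obtain ⟨c, hc⟩ := hpart (Finset.univ.sup n)
    calc m = (1 : R) • m := (one_smul _ _).symm
      _ = (∑ i, c i * f i ^ (Finset.univ.sup n)) • m := by rw [hc]
      _ = ∑ i, (c i * f i ^ (Finset.univ.sup n)) • m := Finset.sum_smul
      _ = 0 := Finset.sum_eq_zero (fun i _ => by rw [mul_smul, hN, smul_zero])
  · intro s hs
    have hA : ∀ i, ∃ (n : ℕ) (m : M), f i ^ n • s i = g i m := by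
      intro i
      obtain ⟨⟨m, ⟨_, n, rfl⟩⟩, hm⟩ :=
        IsLocalizedModule.surj (Submonoid.powers (f i)) (g i) (s i)
      exact ⟨n, m, hm⟩
    choose n₀ m₀ h₀ using hA
    obtain ⟨n, hn⟩ : ∃ n : ℕ, n = Finset.univ.sup n₀ := ⟨_, rfl⟩
    obtain ⟨m₁, hm₁⟩ : ∃ m₁ : ι → M, m₁ = fun i => f i ^ (n - n₀ i) • m₀ i := ⟨_, rfl⟩
    have h1 : ∀ i, f i ^ n • s i = g i (m₁ i) := by
      intro i
      have hle : n₀ i ≤ n := by rw [hn]; exact Finset.le_sup (Finset.mem_univ i)
      rw [hm₁, map_smul, ← h₀ i, ← mul_smul, ← pow_add, Nat.sub_add_cancel hle]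
    have hB : ∀ i j, gij i j (f j ^ n • m₁ i - f i ^ n • m₁ j) = 0 := by
      intro i j
      have e1 : gij i j (m₁ i) = ρ₁ i j (g i (m₁ i)) := by rw [← hρ₁ i j]; rfl
      have e2 : gij i j (m₁ j) = ρ₂ i j (g j (m₁ j)) := by rw [← hρ₂ i j]; rfl
      rw [map_sub, map_smul, map_smul, e1, e2, ← h1 i, ← h1 j, map_smul, map_smul, hs i j,
        smul_comm, sub_self]
    have hC : ∀ i j, ∃ N : ℕ, (f i * f j) ^ N • (f j ^ n • m₁ i - f i ^ n • m₁ j) = 0 := by
      intro i j
      obtain ⟨⟨_, N, rfl⟩, hc⟩ :=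
        (IsLocalizedModule.eq_zero_iff (Submonoid.powers (f i * f j)) (gij i j)).mp (hB i j)
      exact ⟨N, hc⟩
    choose N₀ hN₀ using hC
    obtain ⟨N, hNdef⟩ : ∃ N : ℕ, N = Finset.univ.sup (fun i => Finset.univ.sup (fun j => N₀ i j)) :=
      ⟨_, rfl⟩
    have hN : ∀ i j, (f i * f j) ^ N • (f j ^ n • m₁ i - f i ^ n • m₁ j) = 0 := by
      intro i j
      have hle : N₀ i j ≤ N := by
        rw [hNdef]
        exact le_trans (Finset.le_sup (f := fun j => N₀ i j) (Finset.mem_univ j))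
          (Finset.le_sup (f := fun i => Finset.univ.sup (fun j => N₀ i j)) (Finset.mem_univ i))
      obtain ⟨k, hk⟩ := Nat.exists_eq_add_of_le hle
      rw [hk, pow_add, mul_comm, mul_smul, hN₀, smul_zero]
    have hD : ∀ i j, f j ^ (n + N) • (f i ^ N • m₁ i) = f i ^ (n + N) • (f j ^ N • m₁ j) := by
      intro i j
      have h2 := hN i j
      rw [smul_sub, sub_eq_zero] at h2
      calc f j ^ (n + N) • (f i ^ N • m₁ i) = (f i * f j) ^ N • f j ^ n • m₁ i := by
            rw [← mul_smul, ← mul_smul]; congr 1; ring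
        _ = (f i * f j) ^ N • f i ^ n • m₁ j := h2
        _ = f i ^ (n + N) • (f j ^ N • m₁ j) := by
            rw [← mul_smul, ← mul_smul]; congr 1; ring
    obtain ⟨c, hc⟩ := hpart (n + N)
    refine ⟨∑ j, c j • (f j ^ N • m₁ j), fun i => ?_⟩
    have hE : f i ^ (n + N) • ∑ j, c j • (f j ^ N • m₁ j) = f i ^ N • m₁ i := by
      rw [Finset.smul_sum]
      calc ∑ j, f i ^ (n + N) • c j • (f j ^ N • m₁ j)
          = ∑ j, (c j * f j ^ (n + N)) • (f i ^ N • m₁ i) := by
            refine Finset.sum_congr rfl fun j _ => ?_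
            rw [smul_comm, ← hD i j, mul_smul]
        _ = (∑ j, c j * f j ^ (n + N)) • (f i ^ N • m₁ i) := Finset.sum_smul.symm
        _ = f i ^ N • m₁ i := by rw [hc, one_smul]
    have hinj := IsLocalizedModule.smul_injective (g i)
      (⟨f i ^ (n + N), ⟨n + N, rfl⟩⟩ : Submonoid.powers (f i))
    apply hinj
    change f i ^ (n + N) • g i (∑ j, c j • (f j ^ N • m₁ j)) = f i ^ (n + N) • s i
    rw [← map_smul, hE, map_smul, ← h1 i, ← mul_smul, ← pow_add, add_comm]

end Groth.Agent.S9658
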