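import Groth.Statements.S9659
import Mathlib

set_option autoImplicit false
universe u
open CAlg

namespace Groth.Agent.S9659

/-- Let S be a ℤ-graded ring which contains an invertible homogeneous element of positive degree. Then
the set of homogeneous prime ideals of S, with the topology induced from Spec(S), maps
homeomorphically onto Spec(S₀) by p ↦ p ∩ S₀. -/
theorem result {R S : Type u} [CommRing R] [CommRing S] [Algebra R S] (𝒜 : ℤ → Submodule R S) [GradedAlgebra 𝒜]
    (f : S) (d : ℤ) (hd : 0 < d) (hf : f ∈ 𝒜 d) (hu : IsUnit f) :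
    IsHomeomorph (fun p : {p : PrimeSpectrum S // p.asIdeal.IsHomogeneous 𝒜} => PrimeSpectrum.comap (SetLike.GradeZero.subring 𝒜).subtype p.1) := by
  classical
  let S₀ : Subring S := SetLike.GradeZero.subring 𝒜
  let ι : S₀ →+* S := S₀.subtype
  let Φ : {p : PrimeSpectrum S // p.asIdeal.IsHomogeneous 𝒜} → PrimeSpectrum S₀ :=
    fun p => PrimeSpectrum.comap ι p.1
  show IsHomeomorph Φ
  let u : Sˣ := hu.unit
  have hu_coe : (u : S) = f := hu.unit_spec
  let D : ℕ := d.toNat
  have hD : (D : ℤ) = d := Int.toNat_of_nonneg hd.le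
  have hDpos : 0 < D := by omega
  let v : S := ((u⁻¹ : Sˣ) : S)
  have hfv : f * v = 1 := by rw [← hu_coe]; exact u.mul_inv
  have hzero : ∀ j : ℤ, j ≠ -d → (DirectSum.decompose 𝒜 v j : S) = 0 := by
    intro j hj
    have h1 : (DirectSum.decompose 𝒜 (f * v) (d + j) : S) = f * DirectSum.decompose 𝒜 v j :=
      DirectSum.coe_decompose_mul_add_of_left_mem 𝒜 hf
    rw [hfv] at h1
    have h2 : (DirectSum.decompose 𝒜 (1 : S) (d + j) : S) = 0 :=
      DirectSum.decompose_of_mem_ne 𝒜 (SetLike.GradedOne.one_mem) (by omega)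
    rw [h2] at h1
    exact (hu.mul_right_eq_zero).mp h1.symm
  have hv : v ∈ 𝒜 (-d) := by
    rw [← DirectSum.sum_support_decompose 𝒜 v]
    refine Submodule.sum_mem _ (fun j _ => ?_)
    by_cases hj : j = -d
    · subst hj; exact (DirectSum.decompose 𝒜 v (-d)).2
    · rw [hzero j hj]; exact Submodule.zero_mem _
  have hw : ∀ k : ℤ, ((u ^ k : Sˣ) : S) ∈ 𝒜 (k * d) := by
    intro k
    cases k with
    | ofNat m =>
      have h1 : ((u ^ (Int.ofNat m) : Sˣ) : S) = f ^ m := by
        rw [Int.ofNat_eq_natCast, zpow_natCast, Units.val_pow_eq_pow_val, hu_coe]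
      rw [h1]
      have h := SetLike.pow_mem_graded m hf
      rw [nsmul_eq_mul] at h
      exact h
    | negSucc m =>
      have h1 : ((u ^ (Int.negSucc m) : Sˣ) : S) = v ^ (m+1) := by
        rw [zpow_negSucc, ← inv_pow, Units.val_pow_eq_pow_val]
      rw [h1]
      have h := SetLike.pow_mem_graded (m+1) hv
      have hidx : (m+1) • (-d) = Int.negSucc m * d := by
        rw [nsmul_eq_mul, Int.negSucc_eq]; push_cast; ring
      rw [hidx] at h
      exact h
  have hy0 : ∀ (n : ℤ) (x : S), x ∈ 𝒜 n → x ^ D * ((u ^ (-n) : Sˣ) : S) ∈ 𝒜 0 := by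
    intro n x hx
    have h := SetLike.mul_mem_graded (SetLike.pow_mem_graded D hx) (hw (-n))
    have hidx : D • n + -n * d = 0 := by rw [nsmul_eq_mul, hD]; ring
    rw [hidx] at h
    exact h
  have hyP : ∀ (P : Ideal S) [P.IsPrime] (n : ℤ) (x : S),
      x ^ D * ((u ^ (-n) : Sˣ) : S) ∈ P ↔ x ∈ P := by
    intro P _ n x
    constructor
    · intro h
      have h2 : x ^ D ∈ P := by
        have := P.mul_mem_right ((u ^ n : Sˣ) : S) h
        rwa [mul_assoc, ← Units.val_mul, ← zpow_add, neg_add_cancel, zpow_zero, Units.val_one,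
          mul_one] at this
      exact Ideal.IsPrime.mem_of_pow_mem ‹_› D h2
    · intro h
      exact P.mul_mem_right _ (P.pow_mem_of_mem h D hDpos)
  -- surjectivity
  have hsurj_key : ∀ q₀ : PrimeSpectrum S₀, (q₀.asIdeal.map ι).comap ι = q₀.asIdeal := by
    intro q₀
    refine le_antisymm ?_ Ideal.le_comap_map
    intro a ha
    rw [Ideal.mem_comap] at ha
    have ha' : ι a ∈ Submodule.span S (ι '' (q₀.asIdeal : Set S₀)) := ha
    rw [Submodule.mem_span_set'] at ha'
    obtain ⟨m, c, g, hsum⟩ := ha'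
    choose b hb hbg using fun i => (g i).2
    have h0 : ι a = ∑ i, (DirectSum.decompose 𝒜 (c i) 0 : S) * ι (b i) := by
      have h1 : GradedRing.proj 𝒜 0 (ι a) = ι a := by
        rw [GradedRing.proj_apply]; exact DirectSum.decompose_of_mem_same 𝒜 a.2
      rw [← h1, ← hsum, map_sum]
      refine Finset.sum_congr rfl (fun i _ => ?_)
      rw [GradedRing.proj_apply, smul_eq_mul, ← hbg i]
      exact DirectSum.coe_decompose_mul_of_right_mem_zero 𝒜 (b i).2
    have h3 : a = ∑ i, (⟨DirectSum.decompose 𝒜 (c i) 0,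
        (DirectSum.decompose 𝒜 (c i) 0).2⟩ : S₀) * b i := by
      apply Subtype.ext
      show ι a = ι _
      rw [h0, map_sum]
      refine Finset.sum_congr rfl (fun i _ => ?_)
      rw [map_mul]
      rfl
    rw [h3]
    exact Ideal.sum_mem _ (fun i _ => Ideal.mul_mem_left _ _ (hb i))
  have hsurj : Function.Surjective Φ := by
    intro q₀
    obtain ⟨P, hP, hPq⟩ := (Ideal.comap_map_eq_self_iff_of_isPrime q₀.asIdeal).mp (hsurj_key q₀)
    have hcore : (P.homogeneousCore 𝒜).toIdeal.IsPrime := hP.homogeneousCore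
    refine ⟨⟨⟨(P.homogeneousCore 𝒜).toIdeal, hcore⟩, (P.homogeneousCore 𝒜).isHomogeneous⟩, ?_⟩
    apply PrimeSpectrum.ext
    show Ideal.comap ι (P.homogeneousCore 𝒜).toIdeal = q₀.asIdeal
    rw [← hPq]
    ext a
    simp only [Ideal.mem_comap]
    constructor
    · intro h; exact Ideal.toIdeal_homogeneousCore_le 𝒜 P h
    · intro h
      exact Ideal.mem_homogeneousCore_of_homogeneous_of_mem ⟨0, a.2⟩ h
  -- injectivity
  have hle : ∀ p q : {p : PrimeSpectrum S // p.asIdeal.IsHomogeneous 𝒜}, Φ p = Φ q →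
      p.1.asIdeal ≤ q.1.asIdeal := by
    intro p q hpq x hx
    rw [← DirectSum.sum_support_decompose 𝒜 x]
    refine Ideal.sum_mem _ (fun n _ => ?_)
    have hxn : (DirectSum.decompose 𝒜 x n : S) ∈ p.1.asIdeal := p.2 n hx
    have h1 := (hyP p.1.asIdeal n _).mpr hxn
    have h2 : (⟨_, hy0 n _ (DirectSum.decompose 𝒜 x n).2⟩ : S₀) ∈ (Φ p).asIdeal := h1
    rw [hpq] at h2
    exact (hyP q.1.asIdeal n _).mp h2
  have hinj : Function.Injective Φ := fun p q hpq =>
    Subtype.ext (PrimeSpectrum.ext (le_antisymm (hle p q hpq) (hle q p hpq.symm)))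
  have hcont : Continuous Φ := (PrimeSpectrum.continuous_comap ι).comp continuous_subtype_val
  have hopen : IsOpenMap Φ := by
    intro U hU
    obtain ⟨V, hV, rfl⟩ := isOpen_induced_iff.mp hU
    obtain ⟨T, hT⟩ := (PrimeSpectrum.isOpen_iff V).mp hV
    let T' : Set S₀ := {y | ∃ g ∈ T, ∃ n : ℤ,
      (y : S) = (DirectSum.decompose 𝒜 g n : S) ^ D * ((u ^ (-n) : Sˣ) : S)}
    have himg : Φ '' (Subtype.val ⁻¹' V) = (PrimeSpectrum.zeroLocus T')ᶜ := by
      ext q
      constructor
      · rintro ⟨p, hpV, rfl⟩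
        have hp1 : p.1 ∉ PrimeSpectrum.zeroLocus T := by
          rw [← hT]; exact fun h => h hpV
        rw [PrimeSpectrum.mem_zeroLocus, Set.not_subset] at hp1
        obtain ⟨g, hgT, hgp⟩ := hp1
        have hex : ∃ n, (DirectSum.decompose 𝒜 g n : S) ∉ p.1.asIdeal := by
          by_contra hcon
          push Not at hcon
          apply hgp
          show g ∈ p.1.asIdeal
          rw [← DirectSum.sum_support_decompose 𝒜 g]
          exact Ideal.sum_mem _ (fun n _ => hcon n)
        obtain ⟨n, hn⟩ := hex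
        intro hq
        rw [PrimeSpectrum.mem_zeroLocus] at hq
        have hyT' : (⟨_, hy0 n _ (DirectSum.decompose 𝒜 g n).2⟩ : S₀) ∈ T' := ⟨g, hgT, n, rfl⟩
        have h5 := hq hyT'
        exact hn ((hyP p.1.asIdeal n _).mp h5)
      · intro hq
        rw [Set.mem_compl_iff, PrimeSpectrum.mem_zeroLocus, Set.not_subset] at hq
        obtain ⟨y, ⟨g, hgT, n, hyeq⟩, hyq⟩ := hq
        obtain ⟨p, rfl⟩ := hsurj q
        refine ⟨p, ?_, rfl⟩
        by_contra hpV
        have hpz : p.1 ∈ PrimeSpectrum.zeroLocus T := by rw [← hT]; exact hpV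
        rw [PrimeSpectrum.mem_zeroLocus] at hpz
        have hgp : g ∈ p.1.asIdeal := hpz hgT
        have hgn : (DirectSum.decompose 𝒜 g n : S) ∈ p.1.asIdeal := p.2 n hgp
        apply hyq
        show (y : S) ∈ p.1.asIdeal
        rw [hyeq]
        exact (hyP p.1.asIdeal n _).mpr hgn
    rw [himg]
    exact (PrimeSpectrum.isClosed_zeroLocus T').isOpen_compl
  exact ⟨hcont, hopen, hinj, hsurj⟩

end Groth.Agent.S9659
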