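import Groth.Statements.S9661
-- import your own Groth.Agent.* helpers here
import Mathlib
import Groth.Agent.Lib.Helper22.HS7

set_option autoImplicit false
universe u
attribute [local instance] MvPolynomial.gradedAlgebra
open CAlg

namespace Groth.Agent.S9661

/-- Let k be a field, d ≥ 1, and I a nonzero homogeneous ideal of the standard-graded polynomial ring
k[X_1, …, X_d]; put M = k[X_1, …, X_d]/I. Then the function n ↦ dim_k M_n (equal to dim_k of the
degree-n part of the polynomial ring minus dim_k of the degree-n part of I) coincides for all large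
n with a polynomial of degree < d - 1, the zero polynomial if d = 1. -/
theorem result {k : Type u} [Field k] (d : ℕ) (hd : 0 < d)
    (I : HomogeneousIdeal (MvPolynomial.homogeneousSubmodule (Fin d) k)) (hI : I ≠ ⊥) :
    ∃ P : Polynomial ℚ, P.degree < ((d - 1 : ℕ) : WithBot ℕ) ∧ ∃ N : ℕ, ∀ n : ℕ, N ≤ n →
      ((Module.finrank k ↥(MvPolynomial.homogeneousSubmodule (Fin d) k n) : ℚ) -
        (Module.finrank k ↥(I.toIdeal.restrictScalars k ⊓ MvPolynomial.homogeneousSubmodule (Fin d) k n) : ℚ)) = P.eval (n : ℚ) := by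
  classical
  obtain ⟨e, rfl⟩ : ∃ e, d = e + 1 := ⟨d - 1, by omega⟩
  have hev := Groth.Agent.Lib.Helper22.HS.evPoly_hf (k := k) (e + 1) e rfl I hI
  obtain ⟨c, N, hc⟩ := Groth.Agent.Lib.Helper22.HS.EvPoly.exists_choose_add e _ hev
  refine ⟨∑ j : Fin e, (c j : ℚ) • Polynomial.preHilbertPoly ℚ (j : ℕ) 0, ?_, N, fun n hn => ?_⟩
  · refine (Polynomial.degree_sum_le _ _).trans_lt ?_
    rw [Finset.sup_lt_iff (by simp : (⊥ : WithBot ℕ) < ((e + 1 - 1 : ℕ) : WithBot ℕ))]
    intro j _
    refine (Polynomial.degree_smul_le _ _).trans_lt ?_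
    refine (Polynomial.degree_le_natDegree).trans_lt ?_
    rw [Polynomial.natDegree_preHilbertPoly]
    have hj : (j : ℕ) < e + 1 - 1 := by have := j.2; omega
    exact_mod_cast hj
  · have h1 := hc n hn
    unfold Groth.Agent.Lib.Helper22.HS.hf at h1
    have h2 : ((Module.finrank k ↥(MvPolynomial.homogeneousSubmodule (Fin (e + 1)) k n) : ℚ) -
        (Module.finrank k ↥(I.toIdeal.restrictScalars k ⊓
          MvPolynomial.homogeneousSubmodule (Fin (e + 1)) k n) : ℚ)) =
        ((∑ j : Fin e, ((n + (j : ℕ)).choose (j : ℕ)) • c j : ℤ) : ℚ) := by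
      rw [← h1]
      push_cast
      rfl
    rw [h2, Polynomial.eval_finsetSum]
    push_cast
    refine Finset.sum_congr rfl fun j _ => ?_
    rw [Polynomial.eval_smul, Polynomial.preHilbertPoly_eq_choose_sub_add ℚ (j : ℕ) (Nat.zero_le n),
      smul_eq_mul, Nat.sub_zero, nsmul_eq_mul]
    push_cast
    ring

end Groth.Agent.S9661
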