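import Groth.Statements.S9663
-- import your own Groth.Agent.* helpers here
import Mathlib
import Groth.Agent.Lib.Helper22.Glue1

set_option autoImplicit false
universe u
open CAlg

namespace Groth.Agent.S9663

/-- Let R be a ring and f_i, i in a finite index set, elements of R (no condition on the ideal they
generate). Suppose given for each i an R-module M_i on which f_i acts invertibly, for each pair (i,
j) an R-linear isomorphism ψ_ij : (M_i)_{f_j} → (M_j)_{f_i}, and suppose the cocycle condition ψ_jk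
∘ ψ_ij = ψ_ik holds as maps (M_i)_{f_j f_k} → (M_k)_{f_i f_j} for all triples (i, j, k). All
localizations are given through their universal properties: (M_i)_{f_j} with its map g from M_i;
(M_i)_{f_j f_k} with its map t from M_i and the compatible maps u from (M_i)_{f_j} and v from
(M_i)_{f_k}; and the three localized isomorphisms Ψ₁ (ψ_ij on (M_i)_{f_j f_k}), Ψ₂ (ψ_jk on
(M_j)_{f_i f_k}) and Ψ₃ (ψ_ik on (M_i)_{f_j f_k}) are given as maps compatible with the ψ's. Let M ⊆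
Π_i M_i be the submodule of families (m_i) with m_i/1 = ψ_ji(m_j/1) in (M_i)_{f_j} for all i, j.
Then for each i the projection M → M_i exhibits M_i as the localization of M at f_i. -/
theorem result {R : Type u} [CommRing R] {ι : Type u} [Finite ι] (f : ι → R)
    (Mi : ι → Type u) [∀ i, AddCommGroup (Mi i)] [∀ i, Module R (Mi i)]
    (hMi : ∀ i, IsUnit (algebraMap R (Module.End R (Mi i)) (f i)))
    (Mij : ι → ι → Type u) [∀ i j, AddCommGroup (Mij i j)] [∀ i j, Module R (Mij i j)]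
    (g : ∀ i j, Mi i →ₗ[R] Mij i j) [∀ i j, IsLocalizedModule (Submonoid.powers (f j)) (g i j)]
    (ψ : ∀ i j, Mij i j ≃ₗ[R] Mij j i)
    (T : ι → ι → ι → Type u) [∀ i j k, AddCommGroup (T i j k)] [∀ i j k, Module R (T i j k)]
    (t : ∀ i j k, Mi i →ₗ[R] T i j k) [∀ i j k, IsLocalizedModule (Submonoid.powers (f j * f k)) (t i j k)]
    (u : ∀ i j k, Mij i j →ₗ[R] T i j k) (hu : ∀ i j k, u i j k ∘ₗ g i j = t i j k)
    (v : ∀ i j k, Mij i k →ₗ[R] T i j k) (hv : ∀ i j k, v i j k ∘ₗ g i k = t i j k)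
    (Ψ₁ : ∀ i j k, T i j k →ₗ[R] T j i k) (hΨ₁ : ∀ i j k, Ψ₁ i j k ∘ₗ u i j k = u j i k ∘ₗ (ψ i j).toLinearMap)
    (Ψ₂ : ∀ i j k, T j i k →ₗ[R] T k i j) (hΨ₂ : ∀ i j k, Ψ₂ i j k ∘ₗ v j i k = v k i j ∘ₗ (ψ j k).toLinearMap)
    (Ψ₃ : ∀ i j k, T i j k →ₗ[R] T k i j) (hΨ₃ : ∀ i j k, Ψ₃ i j k ∘ₗ v i j k = u k i j ∘ₗ (ψ i k).toLinearMap)
    (hcoc : ∀ i j k, Ψ₂ i j k ∘ₗ Ψ₁ i j k = Ψ₃ i j k)
    (M : Submodule R (∀ i, Mi i)) (hM : ∀ m : ∀ i, Mi i, m ∈ M ↔ ∀ i j, g i j (m i) = ψ j i (g j i (m j))) (i : ι) :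
    IsLocalizedModule (Submonoid.powers (f i)) ((LinearMap.proj i).comp M.subtype : ↥M →ₗ[R] Mi i) := by
  classical
  haveI := Fintype.ofFinite ι
  have hu' : ∀ i j k x, u i j k (g i j x) = t i j k x := fun i j k x => by
    rw [← hu i j k]; rfl
  have hv' : ∀ i j k x, v i j k (g i k x) = t i j k x := fun i j k x => by
    rw [← hv i j k]; rfl
  have hΨ₁' : ∀ i j k w, Ψ₁ i j k (u i j k w) = u j i k (ψ i j w) := fun i j k w => by
    have := LinearMap.congr_fun (hΨ₁ i j k) w; simpa using this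
  have hΨ₂' : ∀ i j k w, Ψ₂ i j k (v j i k w) = v k i j (ψ j k w) := fun i j k w => by
    have := LinearMap.congr_fun (hΨ₂ i j k) w; simpa using this
  have hΨ₃' : ∀ i j k w, Ψ₃ i j k (v i j k w) = u k i j (ψ i k w) := fun i j k w => by
    have := LinearMap.congr_fun (hΨ₃ i j k) w; simpa using this
  have hcoc' : ∀ i j k τ, Ψ₂ i j k (Ψ₁ i j k τ) = Ψ₃ i j k τ := fun i j k τ => by
    have := LinearMap.congr_fun (hcoc i j k) τ; simpa using this
  -- kernel of v
  have kerv : ∀ a b c (w : Mij a c), v a b c w = 0 → ∃ r : ℕ, (f b) ^ r • w = 0 := by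
    intro a b c w hw
    obtain ⟨n, x, hx⟩ := Groth.Agent.Lib.Helper22.Glue.exists_pow_smul_eq (f c) (g a c) w
    have h1 : t a b c x = 0 := by
      rw [← hv', ← hx, map_smul, hw, smul_zero]
    obtain ⟨r, hr⟩ := Groth.Agent.Lib.Helper22.Glue.exists_pow_smul_eq_zero (f b * f c) (t a b c) h1
    refine ⟨r, ?_⟩
    apply Groth.Agent.Lib.Helper22.Glue.eq_zero_of_pow_smul (f c) (g a c) (r + n)
    calc (f c) ^ (r + n) • (f b) ^ r • w = (f b * f c) ^ r • ((f c) ^ n • w) := by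
          rw [smul_smul, smul_smul]; congr 1; ring
      _ = g a c ((f b * f c) ^ r • x) := by rw [hx, map_smul]
      _ = 0 := by rw [hr, map_zero]
  -- kernel of u
  have keru : ∀ a b c (w : Mij a b), u a b c w = 0 → ∃ r : ℕ, (f c) ^ r • w = 0 := by
    intro a b c w hw
    obtain ⟨n, x, hx⟩ := Groth.Agent.Lib.Helper22.Glue.exists_pow_smul_eq (f b) (g a b) w
    have h1 : t a b c x = 0 := by
      rw [← hu', ← hx, map_smul, hw, smul_zero]
    obtain ⟨r, hr⟩ := Groth.Agent.Lib.Helper22.Glue.exists_pow_smul_eq_zero (f b * f c) (t a b c) h1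
    refine ⟨r, ?_⟩
    apply Groth.Agent.Lib.Helper22.Glue.eq_zero_of_pow_smul (f b) (g a b) (r + n)
    calc (f b) ^ (r + n) • (f c) ^ r • w = (f b * f c) ^ r • ((f b) ^ n • w) := by
          rw [smul_smul, smul_smul]; congr 1; ring
      _ = g a b ((f b * f c) ^ r • x) := by rw [hx, map_smul]
      _ = 0 := by rw [hr, map_zero]
  have hgii : ∀ i, Function.Bijective (g i i) := fun i =>
    Groth.Agent.Lib.Helper22.Glue.bijective_of_isUnit (hMi i) (g i i)
  -- ψ i i is the identity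
  have hψii : ∀ i (w : Mij i i), ψ i i w = w := by
    intro i w
    have huv : ∀ w, u i i i w = v i i i w := by
      intro w; obtain ⟨x, rfl⟩ := (hgii i).2 w; rw [hu', hv']
    have huinj : ∀ w, u i i i w = 0 → w = 0 := by
      intro w hw
      obtain ⟨r, hr⟩ := keru i i i w hw
      exact Groth.Agent.Lib.Helper22.Glue.eq_zero_of_pow_smul (f i) (g i i) r hr
    have h1 : u i i i (ψ i i (ψ i i w)) = u i i i (ψ i i w) := by
      calc u i i i (ψ i i (ψ i i w)) = v i i i (ψ i i (ψ i i w)) := huv _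
        _ = Ψ₂ i i i (v i i i (ψ i i w)) := (hΨ₂' i i i _).symm
        _ = Ψ₂ i i i (u i i i (ψ i i w)) := by rw [huv]
        _ = Ψ₂ i i i (Ψ₁ i i i (u i i i w)) := by rw [hΨ₁']
        _ = Ψ₃ i i i (u i i i w) := hcoc' _ _ _ _
        _ = Ψ₃ i i i (v i i i w) := by rw [huv]
        _ = u i i i (ψ i i w) := hΨ₃' _ _ _ _
    have h2 : ψ i i (ψ i i w) - ψ i i w = 0 := huinj _ (by rw [map_sub, h1, sub_self])
    exact (ψ i i).injective (sub_eq_zero.1 h2)
  refine ⟨?_, ?_, ?_⟩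
  · -- map_units
    rintro ⟨x, n, rfl⟩
    exact Groth.Agent.Lib.Helper22.Glue.isUnit_pow_of_isUnit (hMi i) n
  · -- surj
    intro y
    have h1 : ∀ j, ∃ n : ℕ, ∃ z : Mi j, (f i) ^ n • ψ i j (g i j y) = g j i z := fun j =>
      Groth.Agent.Lib.Helper22.Glue.exists_pow_smul_eq (f i) (g j i) _
    choose n z hz using h1
    obtain ⟨N, hN⟩ : ∃ N, N = Finset.univ.sup n := ⟨_, rfl⟩
    obtain ⟨z', hz'⟩ : ∃ z' : ∀ j, Mi j, z' = fun j => (f i) ^ (N - n j) • z j := ⟨_, rfl⟩
    have hz'' : ∀ j, g j i (z' j) = (f i) ^ N • ψ i j (g i j y) := by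
      intro j
      have hle : n j ≤ N := hN ▸ Finset.le_sup (f := n) (Finset.mem_univ j)
      rw [hz']
      simp only [map_smul, ← hz, smul_smul, ← pow_add]
      congr 2; omega
    have h2 : ∀ j k, v j i k (g j k (z' j) - ψ k j (g k j (z' k))) = 0 := by
      intro j k
      have e1 : v j i k (g j k (z' j)) = (f i) ^ N • u j i k (ψ i j (g i j y)) := by
        rw [hv', ← hu', hz'', map_smul]
      have e2 : v j i k (ψ k j (g k j (z' k))) = (f i) ^ N • u j i k (ψ i j (g i j y)) := by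
        rw [← hΨ₂' i k j, hv', ← hu', hz'', map_smul, map_smul, ← hΨ₁', hu', hcoc', ← hv' i k j,
          hΨ₃']
      rw [map_sub, e1, e2, sub_self]
    have h3 : ∀ j k, ∃ r : ℕ, (f i) ^ r • (g j k (z' j) - ψ k j (g k j (z' k))) = 0 :=
      fun j k => kerv j i k _ (h2 j k)
    choose r hr using h3
    obtain ⟨r₀, hr₀def⟩ : ∃ r₀, r₀ = Finset.univ.sup (fun j => Finset.univ.sup (r j)) := ⟨_, rfl⟩
    have hr₀ : ∀ j k, (f i) ^ r₀ • (g j k (z' j) - ψ k j (g k j (z' k))) = 0 := by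
      intro j k
      have hle : r j k ≤ r₀ := by
        rw [hr₀def]
        exact le_trans (Finset.le_sup (f := r j) (Finset.mem_univ k))
          (Finset.le_sup (f := fun j => Finset.univ.sup (r j)) (Finset.mem_univ j))
      rw [show r₀ = (r₀ - r j k) + r j k by omega, pow_add, mul_smul, hr, smul_zero]
    have hm : (fun j => (f i) ^ r₀ • z' j) ∈ M := by
      rw [hM]; intro j k
      have := hr₀ j k
      rw [smul_sub, sub_eq_zero] at this
      simp only [map_smul]; exact this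
    refine ⟨(⟨_, hm⟩, ⟨(f i) ^ (N + r₀), _, rfl⟩), ?_⟩
    have hzi : z' i = (f i) ^ N • y := by
      apply (hgii i).1
      rw [hz'', hψii, map_smul]
    show (f i) ^ (N + r₀) • y = (f i) ^ r₀ • z' i
    rw [hzi, smul_smul, ← pow_add, add_comm]
  · -- exists_of_eq
    intro x₁ x₂ h
    have hx : ∀ j, ∃ n : ℕ, (f i) ^ n • ((x₁ : ∀ i, Mi i) j - (x₂ : ∀ i, Mi i) j) = 0 := by
      intro j
      apply Groth.Agent.Lib.Helper22.Glue.exists_pow_smul_eq_zero (f i) (g j i)
      have h1 := (hM _).1 x₁.2 j i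
      have h2 := (hM _).1 x₂.2 j i
      have h' : (x₁ : ∀ i, Mi i) i = (x₂ : ∀ i, Mi i) i := h
      rw [map_sub, h1, h2, h', sub_self]
    choose n hn using hx
    refine ⟨⟨(f i) ^ (Finset.univ.sup n), _, rfl⟩, ?_⟩
    apply Subtype.ext
    funext j
    have hle : n j ≤ Finset.univ.sup n := Finset.le_sup (f := n) (Finset.mem_univ j)
    show (f i) ^ (Finset.univ.sup n) • (x₁ : ∀ i, Mi i) j
      = (f i) ^ (Finset.univ.sup n) • (x₂ : ∀ i, Mi i) j
    rw [← sub_eq_zero, ← smul_sub, show Finset.univ.sup n = (Finset.univ.sup n - n j) + n j by omega,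
      pow_add, mul_smul, hn, smul_zero]

end Groth.Agent.S9663
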