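import Groth.Statements.S9674
import Groth.Agent.Lib.Helper12.EssFin
import Groth.Agent.Lib.Helper12.GenericPts
-- import your own Groth.Agent.* helpers here

set_option autoImplicit false
universe u
open CategoryTheory CategoryTheory.Limits AlgebraicGeometry
open Mor

namespace Groth.Agent.S9674

open Groth.Agent.Lib.Helper12 Groth.Agent.Lib.Helper12.N2 Groth.Agent.Lib.Helper12.NormGen
  Groth.Agent.Lib.Helper12.NagataFin Groth.Agent.Lib.Helper12.EssFin

/-- Finitely many generic points of irreducible components in a compact subset, when the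
irreducible components are locally finite. -/
theorem finite_generic {X : Scheme.{u}}
    (hfin : LocallyFinite (fun Z : ↥(irreducibleComponents ↥X) => (Z : Set ↥X)))
    (V : Set X) (hV : IsCompact V) :
    Finite {η : X // η ∈ V ∧ closure {η} ∈ irreducibleComponents ↥X} := by
  have hT := hfin.finite_nonempty_inter_compact hV
  haveI : Finite ↥{Z : ↥(irreducibleComponents ↥X) | ((Z : Set ↥X) ∩ V).Nonempty} :=
    hT.to_subtype
  let ψ : {η : X // η ∈ V ∧ closure {η} ∈ irreducibleComponents ↥X} →
      ↥{Z : ↥(irreducibleComponents ↥X) | ((Z : Set ↥X) ∩ V).Nonempty} :=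
    fun η => ⟨⟨closure {η.1}, η.2.2⟩, ⟨η.1, subset_closure (Set.mem_singleton _), η.2.1⟩⟩
  have hψ : Function.Injective ψ := by
    intro η η' h
    have h1 : closure ({η.1} : Set X) = closure {η'.1} :=
      congrArg (fun z => ((z.1 : ↥(irreducibleComponents ↥X)) : Set X)) h
    have h2 : η.1 ⤳ η'.1 := specializes_iff_closure_subset.2 h1.ge
    have h3 : η'.1 ⤳ η.1 := specializes_iff_closure_subset.2 h1.le
    exact Subtype.ext (h2.antisymm h3).eq
  exact Finite.of_injective ψ hψ

/-- Every element of the residue field at a point of an affine open is a quotient of values of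
sections. -/
theorem residueField_frac {S : Scheme.{u}} {U : S.Opens} (hU : IsAffineOpen U) (s : S)
    (hs : s ∈ U) (k : S.residueField s) :
    ∃ a b : Γ(S, U), (S.evaluation U s hs).hom b ≠ 0 ∧
      k * (S.evaluation U s hs).hom b = (S.evaluation U s hs).hom a := by
  obtain ⟨z, rfl⟩ := S.residue_surjective s k
  letI := S.presheaf.algebra_section_stalk ⟨s, hs⟩
  haveI := hU.isLocalization_stalk ⟨s, hs⟩
  obtain ⟨⟨a, b⟩, hab⟩ := IsLocalization.surj (hU.primeIdealOf ⟨s, hs⟩).asIdeal.primeCompl z
  have hunit : IsUnit (algebraMap Γ(S, U) (S.presheaf.stalk s) b) :=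
    IsLocalization.map_units (S.presheaf.stalk s) b
  refine ⟨a, b, ?_, ?_⟩
  · have : IsUnit ((S.residue s).hom (algebraMap Γ(S, U) (S.presheaf.stalk s) b)) :=
      hunit.map (S.residue s).hom
    exact this.ne_zero
  · have := congrArg (S.residue s).hom hab
    rw [map_mul] at this
    exact this

/-- Let f : X ⟶ S be quasi-compact and quasi-separated. Assume every affine open of S has Nagata
coordinate ring, X is reduced, the irreducible components of X are locally finite (equivalently
every quasi-compact open of X has finitely many), and at each point x that is generic in a component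
of X, the residue field of x is essentially of finite type over the residue field of f x. Then the
normalization of S in X is finite over S. -/
theorem result {X S : Scheme.{u}} (f : X ⟶ S)
    [QuasiCompact f] [QuasiSeparated f] [IsReduced X]
    (hS : ∀ U : S.affineOpens, CAlg.IsNagata Γ(S, U))
    (hfin : LocallyFinite (fun Z : ↥(irreducibleComponents ↥X) => (Z : Set ↥X)))
    (hres : ∀ x : X, closure {x} ∈ irreducibleComponents ↥X → (f.residueFieldMap x).hom.EssFiniteType) :
    IsFinite f.fromNormalization := by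
  refine { toIsAffineHom := inferInstance, finite_app := fun U hU => ?_ }
  letI algC := (f.app U).hom.toAlgebra
  obtain ⟨E, hE⟩ := exists_ringEquiv f hU
  haveI := (hS ⟨U, hU⟩).1
  have hN2 : ∀ (p : Ideal Γ(S, U)) [p.IsPrime], N2' (Γ(S, U) ⧸ p) :=
    fun p _ => N2'_of_isN2 _ ((hS ⟨U, hU⟩).2 p)
  haveI : Module.Finite Γ(S, U) (integralClosure Γ(S, U) Γ(X, f ⁻¹ᵁ U)) := by
    have hcomp : IsCompact ((f ⁻¹ᵁ U : X.Opens) : Set X) := f.isCompact_preimage hU.isCompact
    haveI := finite_generic hfin _ hcomp
    letI algCi : ∀ η : {η : X // η ∈ ((f ⁻¹ᵁ U : X.Opens) : Set X) ∧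
        closure {η} ∈ irreducibleComponents ↥X}, Algebra Γ(S, U) (X.residueField η.1) :=
      fun η => ((X.evaluation (f ⁻¹ᵁ U) η.1 η.2.1).hom.comp (f.app U).hom).toAlgebra
    let r : ∀ η : {η : X // η ∈ ((f ⁻¹ᵁ U : X.Opens) : Set X) ∧
        closure {η} ∈ irreducibleComponents ↥X},
        Γ(X, f ⁻¹ᵁ U) →ₐ[Γ(S, U)] X.residueField η.1 := fun η =>
      { (X.evaluation (f ⁻¹ᵁ U) η.1 η.2.1).hom with commutes' := fun a => rfl }
    refine finite_integralClosure_of_jointly_injective Γ(S, U) Γ(X, f ⁻¹ᵁ U)
      (fun η : {η : X // η ∈ ((f ⁻¹ᵁ U : X.Opens) : Set X) ∧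
        closure {η} ∈ irreducibleComponents ↥X} => X.residueField η.1) r ?_ ?_
    · intro c c' h
      rw [← sub_eq_zero, ← basicOpen_eq_bot_iff]
      by_contra hne
      obtain ⟨x, hx⟩ : ∃ x, x ∈ X.basicOpen (c - c') := by
        by_contra hno
        apply hne
        exact eq_bot_iff.2 (fun x hx => (hno ⟨x, hx⟩).elim)
      obtain ⟨ξ, hξ, hsp⟩ := exists_generic_specializes x
      have hξb : ξ ∈ X.basicOpen (c - c') := hsp.mem_open (X.basicOpen (c - c')).isOpen hx
      have hξV : ξ ∈ f ⁻¹ᵁ U := X.basicOpen_le _ hξb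
      have h0 : (X.evaluation (f ⁻¹ᵁ U) ξ hξV).hom (c - c') = 0 := by
        rw [map_sub, sub_eq_zero]
        exact h ⟨ξ, hξV, hξ⟩
      exact (X.evaluation_eq_zero_iff_notMem_basicOpen ξ hξV (c - c')).1 h0 hξb
    · intro η
      have hs : f η.1 ∈ U := η.2.1
      letI algRK : Algebra Γ(S, U) (S.residueField (f η.1)) :=
        (S.evaluation U (f η.1) hs).hom.toAlgebra
      letI algKL : Algebra (S.residueField (f η.1)) (X.residueField η.1) :=
        (f.residueFieldMap η.1).hom.toAlgebra
      haveI : IsScalarTower Γ(S, U) (S.residueField (f η.1)) (X.residueField η.1) :=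
        IsScalarTower.of_algebraMap_eq (fun a =>
          (Scheme.evaluation_naturality_apply f η.1 hs a).symm)
      haveI : Algebra.EssFiniteType (S.residueField (f η.1)) (X.residueField η.1) :=
        hres η.1 η.2.2
      exact finite_integralClosure_of_essFiniteType' Γ(S, U) hN2 (S.residueField (f η.1))
        (X.residueField η.1) (residueField_frac hU (f η.1) hs)
  exact finite_of_ringEquiv _ E hE

end Groth.Agent.S9674
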