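import Groth.Statements.S9682
import Groth.Agent.Lib.Helper28.QFGen

set_option autoImplicit false
universe u
open CategoryTheory CategoryTheory.Limits AlgebraicGeometry
open Mor

namespace Groth.Agent.S9682

/-- Take f : X ⟶ Y locally of finite type and η the generic point of some irreducible component of Y.
Three conditions turn out to coincide: (1) each point of X mapping to η is the generic point of some
irreducible component of X; (2) f is quasi-finite at every point over η; (3) f is quasi-finite at
each point over η that is generic in some irreducible component of X. Stated as (1) iff (2) together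
with (1) iff (3). -/
theorem result {X Y : Scheme.{u}} (f : X ⟶ Y)
    [LocallyOfFiniteType f] (η : Y) (hη : closure {η} ∈ irreducibleComponents ↥Y) :
    ((∀ x : X, f.base x = η → closure {x} ∈ irreducibleComponents ↥X) ↔
      (∀ x : X, f.base x = η → f.QuasiFiniteAt x)) ∧
    ((∀ x : X, f.base x = η → closure {x} ∈ irreducibleComponents ↥X) ↔
      (∀ x : X, f.base x = η → closure {x} ∈ irreducibleComponents ↥X → f.QuasiFiniteAt x)) := by
  have h12 : (∀ x : X, f.base x = η → closure {x} ∈ irreducibleComponents ↥X) →
      (∀ x : X, f.base x = η → f.QuasiFiniteAt x) := by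
    intro h1 x hx
    subst hx
    exact Groth.Agent.Lib.Helper28.QFGen.quasiFiniteAt_of_forall_mem_irreducibleComponents f x h1
  have h31 : (∀ x : X, f.base x = η → closure {x} ∈ irreducibleComponents ↥X → f.QuasiFiniteAt x) →
      (∀ x : X, f.base x = η → closure {x} ∈ irreducibleComponents ↥X) := by
    intro h3 x hx
    subst hx
    exact Groth.Agent.Lib.Helper28.QFGen.mem_irreducibleComponents_of_quasiFiniteAt f x hη h3
  refine ⟨⟨h12, fun h2 => h31 (fun x hx _ => h2 x hx)⟩, ⟨fun h1 x hx _ => h12 h1 x hx, h31⟩⟩

end Groth.Agent.S9682
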