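import Groth.Statements.S9685
-- import your own Groth.Agent.* helpers here
import Mathlib
import Groth.Agent.Lib.Helper12.SchemeDimIneq3
import Groth.Agent.S9686

set_option autoImplicit false
universe u
open CategoryTheory CategoryTheory.Limits AlgebraicGeometry
open Mor

namespace Groth.Agent.S9685
open Groth.Agent.Lib.Helper12 Groth.Agent.Lib.Helper12.ChevalleyCor
  Groth.Agent.Lib.Helper12.SchemeDimIneq Groth.Agent.Lib.Helper12.OrdTools


/-- Let X and Y be integral schemes with Y locally Noetherian and f : X ⟶ Y dominant and locally of
finite type. If n is the transcendence degree of the function field of X over the function field of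
Y (computed on residue fields at the generic points), then dim X ≤ dim Y + n, and equality holds
when the underlying map of f is closed. -/
theorem result {X Y : Scheme.{u}} [IsIntegral X] [IsIntegral Y]
    [IsLocallyNoetherian Y] (f : X ⟶ Y) [IsDominant f] [LocallyOfFiniteType f] (n : ℕ)
    (hn : letI := (f.residueFieldMap (genericPoint ↥X)).hom.toAlgebra
      Algebra.trdeg (Y.residueField (f.base (genericPoint ↥X))) (X.residueField (genericPoint ↥X)) = n) :
    topologicalKrullDim ↥X ≤ topologicalKrullDim ↥Y + n ∧
      (IsClosedMap f.base → topologicalKrullDim ↥X = topologicalKrullDim ↥Y + n) := by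
  have hgen : ∀ ξ : X, closure {ξ} ∈ irreducibleComponents ↥X → ξ = genericPoint X := by
    intro ξ hξ
    have h1 : closure ({ξ} : Set X) = Set.univ :=
      hξ.eq_of_le (IrreducibleSpace.isIrreducible_univ X) (Set.subset_univ _)
    have h3 : IsGenericPoint ξ (Set.univ : Set X) := h1
    exact h3.eq (genericPoint_spec X)
  have hle : topologicalKrullDim ↥X ≤ topologicalKrullDim ↥Y + n := by
    refine Groth.Agent.S9686.result f n (fun ξ hξ => ?_)
    rw [hgen ξ hξ]
    exact hn.le
  refine ⟨hle, fun hcl => le_antisymm hle ?_⟩
  obtain ⟨x, hx, hco⟩ := exists_point_generic_fiber f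
  have htrn : trn f (genericPoint X) = (n : ℕ∞) := by
    unfold trn
    rw [hn]; simp
  rw [htrn] at hco
  have hη : f x = genericPoint Y := hx.trans (map_genericPoint f)
  have h1 : Order.height (f x) ≤ Order.height x := height_apply_le_of_isClosedMap f hcl x
  have h2 : ((Order.height (f x) : ℕ∞) : WithBot ℕ∞) = Order.krullDim Y := by
    rw [hη]
    exact Order.height_top_eq_krullDim
  rw [Groth.Agent.S9686.topologicalKrullDim_eq_krullDim X,
    Groth.Agent.S9686.topologicalKrullDim_eq_krullDim Y, ← h2]
  haveI : Nonempty X := ⟨x⟩
  rw [Order.krullDim_eq_iSup_height_add_coheight_of_nonempty (α := X)]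
  have h3 : Order.height (f x) + (n : ℕ∞) ≤ ⨆ a : X, Order.height a + Order.coheight a :=
    (add_le_add h1 hco).trans (le_iSup (fun a : X => Order.height a + Order.coheight a) x)
  exact_mod_cast h3

end Groth.Agent.S9685
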