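import Groth.Statements.S9687
-- import your own Groth.Agent.* helpers here
import Mathlib
import Groth.Agent.Lib.Helper12.SchemeDimIneq3

set_option autoImplicit false
universe u
open CategoryTheory CategoryTheory.Limits AlgebraicGeometry
open Mor

namespace Groth.Agent.S9687
open Groth.Agent.Lib.Helper12 Groth.Agent.Lib.Helper12.ChevalleyCor
  Groth.Agent.Lib.Helper12.SchemeDimIneq Groth.Agent.Lib.Helper12.OrdTools


/-- Let S be locally Noetherian, f : X ⟶ S locally of finite type and x a point of X with image s. Let n
be the transcendence degree of κ(x) over κ(s) and let E bound the transcendence degree of κ(ξ) over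
κ(f ξ) for every generic point ξ of an irreducible component of X passing through x. Then dim
O_{X,x} + n ≤ dim O_{S,s} + E. (The published statement takes E to be the maximum of these
transcendence degrees; the statement with any upper bound E is equivalent.) -/
theorem result {X S : Scheme.{u}} [IsLocallyNoetherian S]
    (f : X ⟶ S) [LocallyOfFiniteType f] (x : X) (n E : ℕ)
    (hn : letI := (f.residueFieldMap x).hom.toAlgebra
      Algebra.trdeg (S.residueField (f.base x)) (X.residueField x) = n)
    (hE : ∀ ξ : X, closure {ξ} ∈ irreducibleComponents ↥X → ξ ⤳ x →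
      letI := (f.residueFieldMap ξ).hom.toAlgebra
      Algebra.trdeg (S.residueField (f.base ξ)) (X.residueField ξ) ≤ E) :
    ringKrullDim (X.presheaf.stalk x) + n ≤ ringKrullDim (S.presheaf.stalk (f.base x)) + E := by
  have h1 := dim_stalk_add_trn_le_of_forall f x
    (ringKrullDim (S.presheaf.stalk (f.base x)) + E) (fun ξ hξ1 hξ2 => ?_)
  · have h2 : trn f x = (n : ℕ∞) := by
      unfold trn
      rw [hn]; simp
    rw [h2] at h1
    exact h1
  · have h3 : trn f ξ ≤ (E : ℕ∞) := by
      unfold trn
      exact Cardinal.toENat_le_natCast.mpr (hE ξ hξ1 hξ2)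
    rw [ringKrullDim_stalk_eq_coheight]
    refine add_le_add (krullDim_Icc_le_coheight _ _) ?_
    exact_mod_cast h3

end Groth.Agent.S9687
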