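import Groth.Statements.S9689
import Groth.Agent.Lib.Helper11.UnibranchSch

set_option autoImplicit false
universe u
open CategoryTheory CategoryTheory.Limits AlgebraicGeometry
open Mor

namespace Groth.Agent.S9689

/-- For an integral scheme X: if every local ring of X is geometrically unibranch, then the
normalization morphism X^ν ⟶ X is a universal homeomorphism. (The published statement assumes only X
irreducible; this row takes X integral, which loses nothing since the normalization of X equals that
of its reduction.) (The quasi-compactness and quasi-separatedness binders on Spec K(X) ⟶ X always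
hold; they are only needed to form the normalization.) -/
theorem result (X : Scheme.{u}) [IsIntegral X] [QuasiCompact (X.fromSpecStalk (genericPoint ↥X))] [QuasiSeparated (X.fromSpecStalk (genericPoint ↥X))]
    (hX : ∀ x : X, CAlg2.IsGeomUnibranch (X.presheaf.stalk x)) :
    FlatMor.IsUnivHomeo (Curv2.normalizationι X) := by
  unfold Curv2.normalizationι
  apply Groth.Agent.Lib.Helper11.UnibranchSch.isUnivHomeo_fromNormalization
    (X.fromSpecStalk (genericPoint X)) hX
  intro U hU
  haveI : Nonempty U.1 := by
    obtain ⟨x, hx⟩ := (TopologicalSpace.Opens.ne_bot_iff_nonempty _).mp hU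
    exact ⟨⟨x, hx⟩⟩
  have hη : genericPoint X ∈ U.1 :=
    ((genericPoint_spec X).mem_open_set_iff U.1.isOpen).mpr (by simpa using ‹Nonempty U.1›)
  obtain ⟨ε, hε, happ⟩ := Groth.Agent.Lib.Helper11.UnibranchSch.exists_bijective_app
    (genericPoint X) (X.presheaf.stalk (genericPoint X)) (𝟙 _)
    (X.fromSpecStalk (genericPoint X)) (by simp) U.1 hη
  haveI : IsFractionRing Γ(X, U.1) X.functionField :=
    functionField_isFractionRing_of_isAffineOpen X U.1 U.2
  have happ' : ∀ s : Γ(X, U.1), ((X.fromSpecStalk (genericPoint X)).app U.1).hom s =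
      ε (algebraMap Γ(X, U.1) X.functionField s) := by
    intro s
    rw [happ]
    rfl
  refine ⟨hε.injective.nontrivial, ?_, 1, Or.inl rfl, ?_⟩
  · intro s hs
    rw [happ']
    apply IsUnit.map
    exact IsUnit.mk0 _ ((map_ne_zero_iff _ (IsFractionRing.injective Γ(X, U.1) X.functionField)).mpr hs)
  · intro x
    obtain ⟨k, rfl⟩ := hε.surjective x
    obtain ⟨a, b, hb, hk⟩ := IsFractionRing.div_surjective (A := Γ(X, U.1)) k
    have hb0 : b ≠ 0 := nonZeroDivisors.ne_zero hb
    have hbK : algebraMap Γ(X, U.1) X.functionField b ≠ 0 :=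
      (map_ne_zero_iff _ (IsFractionRing.injective Γ(X, U.1) X.functionField)).mpr hb0
    refine ⟨0, a, b, hb0, ?_⟩
    rw [happ', happ', pow_zero, pow_one, ← map_mul, ← hk]
    congr 1
    exact mul_div_cancel₀ _ hbK

end Groth.Agent.S9689
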