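import Groth.Statements.S9692
import Groth.Agent.Lib.Helper3.VAComp

set_option autoImplicit false
universe u
open CategoryTheory CategoryTheory.Limits AlgebraicGeometry
open Mor

namespace Groth.Agent.S9692

open Groth.Agent.Lib.Helper3 VAComp QProj in

/-- A composition of H-projective morphisms (closed immersions into a projective space P^n over the
target, followed by the projection) is H-projective. -/
theorem result {X Y Z : Scheme.{u}} (f : X ⟶ Y) (g : Y ⟶ Z)
    (hf : RelProj.IsHProjective f) (hg : RelProj.IsHProjective g) :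
    RelProj.IsHProjective (f ≫ g) := by
  obtain ⟨hqf, hpf⟩ := (isHProjective_iff f).mp hf
  obtain ⟨hqg, hpg⟩ := (isHProjective_iff g).mp hg
  obtain ⟨n, i₁, hi₁, hqc₁, h₁⟩ := hqf
  obtain ⟨m, i₂, hi₂, hqc₂, h₂⟩ := hqg
  let j₁ : X ⟶ Limits.pullback (CohB1.ProjSpace.toSpec n (ULift.{u} ℤ))
    (specULiftZIsTerminal.from Y) := i₁
  let j₂ : Y ⟶ Limits.pullback (CohB1.ProjSpace.toSpec m (ULift.{u} ℤ))
    (specULiftZIsTerminal.from Z) := i₂
  haveI : IsImmersion j₁ := hi₁
  haveI : IsImmersion j₂ := hi₂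
  obtain ⟨φ, hφ, hφ2⟩ := exists_immersion_comp f g n m j₁ h₁ j₂ h₂
  haveI : IsImmersion φ := hφ
  haveI : IsProper (f ≫ g) := inferInstance
  haveI : QuasiCompact (φ ≫ pullback.snd (CohB1.ProjSpace.toSpec (n * m + n + m) (ULift.{u} ℤ))
      (specULiftZIsTerminal.from Z)) := by rw [hφ2]; infer_instance
  have hqc : QuasiCompact φ := QuasiCompact.of_comp φ
    (pullback.snd (CohB1.ProjSpace.toSpec (n * m + n + m) (ULift.{u} ℤ))
      (specULiftZIsTerminal.from Z))
  exact (isHProjective_iff (f ≫ g)).mpr ⟨⟨n * m + n + m, φ, hφ, hqc, hφ2⟩, inferInstance⟩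

end Groth.Agent.S9692
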