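import Groth.Statements.S9693

set_option autoImplicit false
universe u
open CategoryTheory CategoryTheory.Limits AlgebraicGeometry
open Mor

namespace Groth.Agent.S9693

/-- `P^n_{S'}` is the base change of `P^n_S` along `g : S' ⟶ S`. -/
theorem projSpaceOver_isPullback (n : ℕ) {S S' : Scheme.{u}} (g : S' ⟶ S) :
    ∃ q : CohB1.ProjSpaceOver n S' ⟶ CohB1.ProjSpaceOver n S,
      IsPullback (CohB1.ProjSpaceOver.toBase n S') q g (CohB1.ProjSpaceOver.toBase n S) := by
  have e : specULiftZIsTerminal.from S' = g ≫ specULiftZIsTerminal.from S :=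
    specULiftZIsTerminal.hom_ext _ _
  let p := CohB1.ProjSpace.toSpec n (ULift.{u} ℤ)
  let q : pullback p (specULiftZIsTerminal.from S') ⟶ pullback p (specULiftZIsTerminal.from S) :=
    pullback.lift (pullback.fst p (specULiftZIsTerminal.from S'))
      (pullback.snd p (specULiftZIsTerminal.from S') ≫ g)
      (specULiftZIsTerminal.hom_ext _ _)
  have hq1 : q ≫ pullback.fst p (specULiftZIsTerminal.from S) =
      pullback.fst p (specULiftZIsTerminal.from S') := pullback.lift_fst _ _ _
  have hq2 : q ≫ pullback.snd p (specULiftZIsTerminal.from S) =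
      pullback.snd p (specULiftZIsTerminal.from S') ≫ g := pullback.lift_snd _ _ _
  have s0 := (IsPullback.of_hasPullback p (specULiftZIsTerminal.from S')).flip
  have t0 := (IsPullback.of_hasPullback p (specULiftZIsTerminal.from S)).flip
  have s1 : IsPullback (pullback.snd p (specULiftZIsTerminal.from S'))
      (q ≫ pullback.fst p (specULiftZIsTerminal.from S)) (g ≫ specULiftZIsTerminal.from S) p := by
    rw [hq1, ← e]
    exact s0
  exact ⟨q, IsPullback.of_bot s1 hq2.symm t0⟩

/-- A base change of an H-projective morphism (a closed immersion into some P^n over the base followed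
by the projection) is H-projective. -/
theorem result {X S S' : Scheme.{u}} (f : X ⟶ S) (hf : RelProj.IsHProjective f)
    (g : S' ⟶ S) : RelProj.IsHProjective (pullback.snd f g) := by
  obtain ⟨n, i, hi, hif⟩ := hf
  obtain ⟨q, hq⟩ := projSpaceOver_isPullback n g
  -- the map into `P^n_{S'}`
  let i' : pullback f g ⟶ CohB1.ProjSpaceOver n S' :=
    hq.lift (pullback.snd f g) (pullback.fst f g ≫ i) (by
      rw [Category.assoc, hif, pullback.condition])
  have h1 : i' ≫ CohB1.ProjSpaceOver.toBase n S' = pullback.snd f g := hq.lift_fst _ _ _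
  have h2 : i' ≫ q = pullback.fst f g ≫ i := hq.lift_snd _ _ _
  refine ⟨n, i', ?_, h1⟩
  have outer : IsPullback (i' ≫ CohB1.ProjSpaceOver.toBase n S') (pullback.fst f g) g
      (i ≫ CohB1.ProjSpaceOver.toBase n S) := by
    rw [h1, hif]
    exact (IsPullback.of_hasPullback f g).flip
  have left : IsPullback i' (pullback.fst f g) q i := IsPullback.of_right outer h2 hq
  exact MorphismProperty.of_isPullback (P := @IsClosedImmersion) left.flip hi

end Groth.Agent.S9693
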