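import Groth.Statements.S9700
import Mathlib
import Groth.Agent.Lib.Helper17.ValDense

set_option autoImplicit false
universe u
open CategoryTheory CategoryTheory.Limits AlgebraicGeometry
open Mor

namespace Groth.Agent.S9700

/-- Let f : X ⟶ S and h : U ⟶ X be quasi-compact with h(U) dense in X. Suppose each valuative square
over f, whose map Spec K ⟶ X factors through h, has a unique diagonal lift. Then f is universally
closed, and f is also separated provided it is quasi-separated. -/
theorem result {U X S : Scheme.{u}} (f : X ⟶ S) (h : U ⟶ X)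
    [QuasiCompact f] [QuasiCompact h] (hd : DenseRange h.base)
    (H : ∀ sq : ValuativeCommSq f, (∃ i : Spec (.of sq.K) ⟶ U, i ≫ h = sq.i₁) →
      Nonempty (Unique sq.commSq.LiftStruct)) :
    UniversallyClosed f ∧ (QuasiSeparated f → IsSeparated f) := by
  constructor
  · exact UniversallyClosed.of_valuativeCriterion f
      (Groth.Agent.Lib.Helper17.ValDense.existence_of_dense f h hd H)
  · intro hqs
    have hΔ : ValuativeCriterion.Existence (pullback.diagonal f) := by
      apply Groth.Agent.Lib.Helper17.ValDense.existence_of_dense (pullback.diagonal f) h hd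
      rintro sq ⟨i, hi⟩
      obtain ⟨a, ha⟩ : ∃ a : Spec (.of sq.R) ⟶ X, a = sq.i₂ ≫ pullback.fst f f := ⟨_, rfl⟩
      obtain ⟨b, hb⟩ : ∃ b : Spec (.of sq.R) ⟶ X, b = sq.i₂ ≫ pullback.snd f f := ⟨_, rfl⟩
      have ha1 : Spec.map (CommRingCat.ofHom (algebraMap sq.R sq.K)) ≫ a = sq.i₁ := by
        rw [ha, ← Category.assoc, ← sq.commSq.w, Category.assoc, pullback.diagonal_fst,
          Category.comp_id]
      have hb1 : Spec.map (CommRingCat.ofHom (algebraMap sq.R sq.K)) ≫ b = sq.i₁ := by
        rw [hb, ← Category.assoc, ← sq.commSq.w, Category.assoc, pullback.diagonal_snd,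
          Category.comp_id]
      have hab : b ≫ f = a ≫ f := by
        rw [ha, hb, Category.assoc, Category.assoc, pullback.condition]
      let sq' : ValuativeCommSq f :=
        { R := sq.R, K := sq.K, i₁ := sq.i₁, i₂ := a ≫ f
          commSq := ⟨by rw [← ha1, Category.assoc]⟩ }
      obtain ⟨hU⟩ := H sq' ⟨i, hi⟩
      let m₁ : sq'.commSq.LiftStruct := ⟨a, ha1, rfl⟩
      let m₂ : sq'.commSq.LiftStruct := ⟨b, hb1, hab⟩
      have e : m₁ = m₂ := (hU.uniq m₁).trans (hU.uniq m₂).symm
      have eab : a = b := congrArg CommSq.LiftStruct.l e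
      have hfac : a ≫ pullback.diagonal f = sq.i₂ := by
        apply pullback.hom_ext
        · rw [Category.assoc, pullback.diagonal_fst, Category.comp_id, ha]
        · rw [Category.assoc, pullback.diagonal_snd, Category.comp_id, eab, hb]
      refine ⟨{ default := ⟨a, ha1, hfac⟩, uniq := fun m => ?_ }⟩
      ext1
      have h1 := m.fac_right
      calc m.l = (m.l ≫ pullback.diagonal f) ≫ pullback.fst f f := by
            rw [Category.assoc, pullback.diagonal_fst, Category.comp_id]
        _ = a := by rw [h1, ha]
    have : UniversallyClosed (pullback.diagonal f) :=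
      UniversallyClosed.of_valuativeCriterion _ hΔ
    exact ⟨IsClosedImmersion.of_isPreimmersion _ (pullback.diagonal f).isClosedMap.isClosed_range⟩

end Groth.Agent.S9700
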