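import Groth.Statements.S9702
import Groth.Agent.Lib.Helper28.GenFin2

set_option autoImplicit false
universe u
open CategoryTheory CategoryTheory.Limits AlgebraicGeometry
open Mor

namespace Groth.Agent.S9702

/-- Let X, Y be integral and f : X ⟶ Y dominant and locally of finite type, with ξ the generic point of
X (so f ξ is the generic point of Y). Then the following are equivalent: the residue field of ξ is
finite over that of f ξ; some nonempty affine opens U ⊆ X and V ⊆ Y with f(U) ⊆ V have U ⟶ V finite;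
every point of X that f sends to the generic point of Y equals ξ. Under the extra assumption that f
is quasi-compact or separated, these are also equivalent to: f⁻¹(V) ⟶ V is finite for some nonempty
affine open V ⊆ Y. (The published statement also lists transcendence degree 0 of the function field
extension, which for this finitely generated extension is equivalent to finiteness; this row omits
it.) -/
theorem result {X Y : Scheme.{u}} [IsIntegral X] [IsIntegral Y] (f : X ⟶ Y)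
    [IsDominant f] [LocallyOfFiniteType f] :
    let ξ := genericPoint ↥X
    let A := letI := (f.residueFieldMap ξ).hom.toAlgebra
      Module.Finite (Y.residueField (f.base ξ)) (X.residueField ξ)
    let B := ∃ (U : X.Opens) (V : Y.Opens) (hUV : U ≤ f ⁻¹ᵁ V), IsAffineOpen U ∧ IsAffineOpen V ∧
      Nonempty ↥U ∧ IsFinite (f.resLE V U hUV)
    let C := ∀ x : X, f.base x = genericPoint ↥Y → x = ξ
    let D := ∃ V : Y.Opens, IsAffineOpen V ∧ Nonempty ↥V ∧ IsFinite (f ∣_ V)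
    (A ↔ B) ∧ (A ↔ C) ∧ (IsSeparated f ∨ QuasiCompact f → (A ↔ D)) := by
  intro ξ A B C D
  refine ⟨⟨fun hA => ?_, ?_⟩, ⟨fun hA x hx => Groth.Agent.Lib.Helper28.GenFin.A_imp_C f hA x hx,
    fun hC => Groth.Agent.Lib.Helper28.GenFin.C_imp_A f hC⟩, ?_⟩
  · obtain ⟨U, V, hUV, hU, hV, ⟨⟨x, hx⟩⟩, hfin⟩ := Groth.Agent.Lib.Helper28.GenFin.A_imp_B f hA
    exact ⟨U, V, hUV, hU, hV, ⟨⟨x, hx⟩⟩, hfin⟩
  · rintro ⟨U, V, hUV, hU, hV, ⟨⟨x, hx⟩⟩, hfin⟩
    have : Nonempty U := ⟨⟨x, hx⟩⟩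
    exact Groth.Agent.Lib.Helper28.GenFin.B_imp_A f hUV hU hV hfin
  · rintro (hs | hq)
    · refine ⟨fun hA => ?_, ?_⟩
      · obtain ⟨V, hV, ⟨⟨y, hy⟩⟩, hfin⟩ := Groth.Agent.Lib.Helper28.GenFin.A_imp_D_of_isSeparated f hA
        exact ⟨V, hV, ⟨⟨y, hy⟩⟩, hfin⟩
      · rintro ⟨V, hV, ⟨⟨y, hy⟩⟩, hfin⟩
        have : Nonempty V := ⟨⟨y, hy⟩⟩
        exact Groth.Agent.Lib.Helper28.GenFin.D_imp_A f hV hfin
    · refine ⟨fun hA => ?_, ?_⟩
      · obtain ⟨V, hV, ⟨⟨y, hy⟩⟩, hfin⟩ := Groth.Agent.Lib.Helper28.GenFin.A_imp_D_of_quasiCompact f hA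
        exact ⟨V, hV, ⟨⟨y, hy⟩⟩, hfin⟩
      · rintro ⟨V, hV, ⟨⟨y, hy⟩⟩, hfin⟩
        have : Nonempty V := ⟨⟨y, hy⟩⟩
        exact Groth.Agent.Lib.Helper28.GenFin.D_imp_A f hV hfin

end Groth.Agent.S9702
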