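import Groth.Statements.S9705
import Groth.Agent.Lib.Helper3.QProj

set_option autoImplicit false
universe u
open CategoryTheory CategoryTheory.Limits AlgebraicGeometry
open Mor

namespace Groth.Agent.S9705

open Groth.Agent.Lib.Helper3 QProj in

/-- Over a quasi-compact quasi-separated scheme S, a morphism f : X ⟶ S is H-projective if and only if
it is H-quasi-projective and proper. -/
theorem result {X S : Scheme.{u}} [CompactSpace ↥S]
    [QuasiSeparatedSpace ↥S] (f : X ⟶ S) :
    RelProj.IsHProjective f ↔ RelProj.IsHQuasiProjective f ∧ IsProper f := by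
  constructor
  · rintro ⟨n, i, hi, hcomp⟩
    let i' : X ⟶ Limits.pullback (CohB1.ProjSpace.toSpec n (ULift.{u} ℤ))
      (specULiftZIsTerminal.from S) := i
    haveI : IsClosedImmersion i' := hi
    have hcomp' : i' ≫ pullback.snd (CohB1.ProjSpace.toSpec n (ULift.{u} ℤ))
      (specULiftZIsTerminal.from S) = f := hcomp
    have h1 : IsImmersion i' := inferInstance
    have h2 : QuasiCompact i' := inferInstance
    refine ⟨⟨n, i, h1, h2, hcomp⟩, ?_⟩
    rw [← hcomp']
    infer_instance
  · rintro ⟨⟨n, i, hi, hqc, hcomp⟩, hp⟩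
    let i' : X ⟶ Limits.pullback (CohB1.ProjSpace.toSpec n (ULift.{u} ℤ))
      (specULiftZIsTerminal.from S) := i
    haveI : IsImmersion i' := hi
    have hcomp' : i' ≫ pullback.snd (CohB1.ProjSpace.toSpec n (ULift.{u} ℤ))
      (specULiftZIsTerminal.from S) = f := hcomp
    haveI : IsProper (i' ≫ pullback.snd (CohB1.ProjSpace.toSpec n (ULift.{u} ℤ))
      (specULiftZIsTerminal.from S)) := by rw [hcomp']; exact hp
    haveI : UniversallyClosed i' := UniversallyClosed.of_comp_of_isSeparated i'
      (pullback.snd (CohB1.ProjSpace.toSpec n (ULift.{u} ℤ)) (specULiftZIsTerminal.from S))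
    have h3 : IsClosedImmersion i' :=
      IsClosedImmersion.of_isPreimmersion i' i'.isClosedMap.isClosed_range
    exact ⟨n, i, h3, hcomp⟩

end Groth.Agent.S9705
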