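import Groth.Statements.S9706
import Groth.Agent.Lib.Helper3.VAFin
import Groth.Agent.Lib.Helper3.AmpleMisc
import Groth.Agent.Lib.Helper3.CPb
import Groth.Agent.Lib.Helper3.SymFT
import Groth.Agent.Lib.Helper3.ProjProper
import Groth.Agent.S12478

set_option autoImplicit false
universe u
open CategoryTheory CategoryTheory.Limits AlgebraicGeometry
open Mor

namespace Groth.Agent.S9706

/-- Let S be quasi-compact and quasi-separated and f : X ⟶ S quasi-projective. Then f factors as an open
immersion X ⟶ X' followed by a projective morphism X' ⟶ S. Here X' ⟶ S projective means isomorphic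
over S to the relative Proj of a quasi-coherent graded algebra generated by its finite-type
degree-one part; the published definition uses closed subschemes of P(E) with E of finite type, an
equivalent condition. -/
theorem result {X S : Scheme.{u}} [CompactSpace ↥S]
    [QuasiSeparatedSpace ↥S] (f : X ⟶ S) (hf : RelProj.IsQuasiProjective f) :
    ∃ (X' : Scheme.{u}) (j : X ⟶ X') (g : X' ⟶ S), IsOpenImmersion j ∧ RelProj.IsProjective g ∧ j ≫ g = f := by
  obtain ⟨hft, hqc, L, hL⟩ := hf
  haveI := hft
  haveI := hqc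
  have hLinv : PicF.IsInvertible L :=
    Groth.Agent.Lib.Helper3.AmpleMisc.isInvertible_of_isRelAmple f hL
  obtain ⟨n₀, -, hn₀⟩ := Groth.Agent.S12478.result f L hLinv hL
  obtain ⟨E, 𝒯, j, P, p, chart, O1, lam, i, hEq, hEft, hj, hP, -, hi, hip, -⟩ :=
    Groth.Agent.Lib.Helper3.VAFin.exists_finiteType_immersion f (CohB1.tensorPow L n₀)
      (Groth.Agent.Lib.Helper3.InvTensor.isInvertible_tensorPow hLinv n₀) (hn₀ n₀ le_rfl)
  haveI := hEq
  haveI := hEft
  haveI := hi
  have hgen := Groth.Agent.Lib.Helper3.SymGenProj.isGenDegOne hj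
  have hftd := Groth.Agent.Lib.Helper3.SymFT.isFTDeg_one hj
  haveI : IsProper p := Groth.Agent.Lib.Helper3.ProjProper.isProper_of_isGenDegOne hP hgen hftd
  haveI : QuasiCompact (i ≫ p) := by
    rw [hip]
    infer_instance
  haveI : QuasiCompact i := QuasiCompact.of_comp i p
  obtain ⟨Z, g₁, g₂, hg₁, hg₂, hg⟩ := IsImmersion.isImmersion_iff_exists_of_quasiCompact.mp hi
  haveI := hg₂
  refine ⟨Z, g₁, g₂ ≫ p, hg₁,
    Groth.Agent.Lib.Helper3.CPb.isProjective 𝒯 p chart g₂ hP hgen hftd, ?_⟩
  rw [← Category.assoc, hg, hip]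

end Groth.Agent.S9706
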