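import Groth.Statements.S9712
import Groth.Agent.Lib.Helper3.QProj

set_option autoImplicit false
universe u
open CategoryTheory CategoryTheory.Limits AlgebraicGeometry
open Mor

namespace Groth.Agent.S9712

open Groth.Agent.Lib.Helper3 QProj in

/-- A morphism f : X ⟶ S is locally quasi-projective (S is covered by opens U with f⁻¹(U) ⟶ U
quasi-projective) if and only if S is covered by opens U such that f⁻¹(U) ⟶ U is H-quasi-projective
(a quasi-compact immersion into some P^n_U followed by the projection). -/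
theorem result {X S : Scheme.{u}} (f : X ⟶ S) :
    (∀ s : S, ∃ U : S.Opens, s ∈ U ∧ RelProj.IsQuasiProjective (f ∣_ U)) ↔
      (∀ s : S, ∃ U : S.Opens, s ∈ U ∧ RelProj.IsHQuasiProjective (f ∣_ U)) := by
  constructor
  · intro h s
    obtain ⟨U, hsU, hlft, hqc, L, hL⟩ := h s
    obtain ⟨V', hV', hsV', -⟩ := TopologicalSpace.Opens.isBasis_iff_nbhd.mp
      (U.toScheme.isBasis_affineOpens)
      (TopologicalSpace.Opens.mem_top (⟨s, hsU⟩ : U.toScheme))
    refine ⟨U.ι ''ᵁ V', ⟨⟨s, hsU⟩, hsV', rfl⟩, ?_⟩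
    haveI := hlft
    haveI := hqc
    exact isHQuasiProjective_of_arrowIso _ _ (morphismRestrictRestrict f U V')
      (isHQuasiProjective_of_isAmple (f ∣_ U ∣_ V') (hL.2 ⟨V', hV'⟩))
  · intro h s
    obtain ⟨U, hsU, hH⟩ := h s
    exact ⟨U, hsU, isQuasiProjective_of_isHQuasiProjective _ hH⟩

end Groth.Agent.S9712
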