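-- Statement S9715.
import Groth.Statements.S9715
import Mathlib
import Groth.Agent.S3815
import Groth.Agent.Lib.Helper1.PPChi
import Groth.Agent.Lib.Helper1.AffHom
import Groth.Agent.Lib.Helper1.PPEpi
set_option linter.style.haveILetI false

set_option autoImplicit false
universe u
open CategoryTheory CategoryTheory.Limits AlgebraicGeometry
open Opposite
open Mor

namespace Groth.Agent.S9715

/-- Let f : X ⟶ S be a morphism of affine schemes, R = Γ(S, O_S) → A = Γ(X, O_X) the corresponding ring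
map, F a quasi-coherent O_X-module and G an O_X-module, with global sections M and N. Every
differential operator M → N of order at most k relative to A over R is induced on global sections by
a differential operator F → G of order at most k relative to X over S. (The published statement
asserts that D ↦ Γ(X, D) is a bijection between the two sets of operators of order at most k; its
injectivity is not verified in the published proof and is not claimed here. Differential operators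
on X/S are taken in the principal-parts sense, those of A/R in the commutator sense.) -/
theorem result {X S : Scheme.{u}} [IsAffine X] [IsAffine S] (f : X ⟶ S)
    (F G : X.Modules) (hF : Coh.IsQCoh F) (k : ℕ) :
    letI : Algebra Γ(S, ⊤) Γ(X, ⊤) := f.appTop.hom.toAlgebra
    letI : Module Γ(S, ⊤) Γ(F, ⊤) := Module.compHom Γ(F, ⊤) f.appTop.hom
    letI : Module Γ(S, ⊤) Γ(G, ⊤) := Module.compHom Γ(G, ⊤) f.appTop.hom
    haveI : IsScalarTower Γ(S, ⊤) Γ(X, ⊤) Γ(F, ⊤) := IsScalarTower.of_algebraMap_smul fun _ _ => rfl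
    haveI : IsScalarTower Γ(S, ⊤) Γ(X, ⊤) Γ(G, ⊤) := IsScalarTower.of_algebraMap_smul fun _ _ => rfl
    ∀ D' : Γ(F, ⊤) →ₗ[Γ(S, ⊤)] Γ(G, ⊤), Diff16.IsDiffOpLE Γ(S, ⊤) Γ(X, ⊤) Γ(F, ⊤) Γ(G, ⊤) k D' →
      ∃ D : F.presheaf ⟶ G.presheaf, PrinPart.IsDiffOpLE f F G k D ∧
        ∀ m : Γ(F, ⊤), (D.app (op ⊤)).hom m = D' m := by
  letI : Algebra Γ(S, ⊤) Γ(X, ⊤) := f.appTop.hom.toAlgebra
  letI : Module Γ(S, ⊤) Γ(F, ⊤) := Module.compHom Γ(F, ⊤) f.appTop.hom
  letI : Module Γ(S, ⊤) Γ(G, ⊤) := Module.compHom Γ(G, ⊤) f.appTop.hom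
  haveI : IsScalarTower Γ(S, ⊤) Γ(X, ⊤) Γ(F, ⊤) := IsScalarTower.of_algebraMap_smul fun _ _ => rfl
  haveI : IsScalarTower Γ(S, ⊤) Γ(X, ⊤) Γ(G, ⊤) := IsScalarTower.of_algebraMap_smul fun _ _ => rfl
  intro D' hD'
  obtain ⟨u₀, ⟨hu₀1, hu₀2⟩, -⟩ := (Groth.Agent.S3815.result k Γ(S, ⊤) Γ(X, ⊤) Γ(F, ⊤) Γ(G, ⊤) D').mp hD'
  haveI : F.IsQuasicoherent := hF
  have hh : (⊤ : X.Opens) ≤ f ⁻¹ᵁ ⊤ := le_rfl
  have happ : f.appLE ⊤ ⊤ hh = f.appTop := Groth.Agent.Lib.Helper1.Conorm.appLE_refl f ⊤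
  obtain ⟨c, hc1, hc2⟩ := Groth.Agent.Lib.Helper1.PPChi.exists_c f k (isAffineOpen_top X)
    (isAffineOpen_top S) hh F (fun r => congr($(happ.symm) r))
  let l : Γ(PrinPart.PMod f k F, ⊤) →ₗ[Γ(X, ⊤)] Γ(G, ⊤) :=
    { toFun := fun y => u₀ (c y)
      map_add' := fun x y => by rw [map_add, map_add]
      map_smul' := fun a y => by
        rw [hc2, hu₀1]
        rfl }
  obtain ⟨α, hα⟩ := Groth.Agent.Lib.Helper1.AffHom.exists_hom_of_linear (PrinPart.PMod f k F) G l
  refine ⟨PrinPart.dPHom f k F ≫ α.mapPresheaf, ⟨α, fun U t => rfl⟩, fun m => ?_⟩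
  change α.app ⊤ (PrinPart.dP f k F ⊤ m) = _
  rw [hα]
  change u₀ (c _) = _
  rw [hc1, hu₀2]

end Groth.Agent.S9715
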