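import Groth.Statements.S9718
import Mathlib.Algebra.Category.Ring.FinitePresentation
import Mathlib.CategoryTheory.Filtered.Final

set_option autoImplicit false
universe u
open Mor

namespace Groth.Agent.S9718

section Aux

open AlgebraicGeometry CategoryTheory Limits TopologicalSpace Opposite

variable {X Y S : Scheme.{u}} (sX : X ⟶ S) (sY : Y ⟶ S) {R A : CommRingCat.{u}}

/-- Lifting a map from a finitely presented algebra into a stalk to a neighbourhood. -/
theorem exists_lift_of_finitePresentation_aux {U : X.Opens} {x : X} (hxU : x ∈ U)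
    (φ : A ⟶ X.presheaf.stalk x) (φRA : R ⟶ A) (φRX : R ⟶ Γ(X, U))
    (hφRA : RingHom.FinitePresentation φRA.hom)
    (e : φRA ≫ φ = φRX ≫ X.presheaf.germ U x hxU) :
    ∃ (V : X.Opens) (hxV : x ∈ V) (φ' : A ⟶ Γ(X, V)) (i : V ≤ U),
      φ = φ' ≫ X.presheaf.germ V x hxV ∧ φRX ≫ X.presheaf.map i.hom.op = φRA ≫ φ' := by
  let j₀ : (OpenNhds x)ᵒᵖ := op ⟨U, hxU⟩
  let F : (OpenNhds x)ᵒᵖ ⥤ CommRingCat.{u} := (OpenNhds.inclusion x).op ⋙ X.presheaf
  let G : Under j₀ ⥤ CommRingCat.{u} := Under.forget j₀ ⋙ F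
  let α : (Functor.const _).obj R ⟶ G :=
    { app := fun j => φRX ≫ F.map j.hom
      naturality := fun j j' m => by
        have hm : F.map j'.hom = F.map j.hom ≫ F.map m.right := by
          rw [← F.map_comp, Under.w m]
        simp only [Functor.const_obj_obj, Functor.const_obj_map, Category.id_comp, Category.assoc]
        exact congrArg (fun t => φRX ≫ t) hm }
  let c : Cocone G := (colimit.cocone F).whisker (Under.forget j₀)
  have hc : IsColimit c :=
    (Functor.Final.isColimitWhiskerEquiv (Under.forget j₀) (colimit.cocone F)).symm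
      (colimit.isColimit F)
  obtain ⟨j, g', h1, h2⟩ := RingHom.EssFiniteType.exists_eq_comp_ι_app_of_isColimit R G α φRA c hc
    hφRA φ (by
      intro j
      refine Eq.trans e ?_
      have hw : colimit.ι F j₀ = F.map j.hom ≫ colimit.ι F j.right := (colimit.w F j.hom).symm
      change φRX ≫ colimit.ι F j₀ = (φRX ≫ F.map j.hom) ≫ colimit.ι F j.right
      exact (congrArg (fun t => φRX ≫ t) hw).trans (Category.assoc _ _ _).symm)
  refine ⟨j.right.unop.1, j.right.unop.2, g', (leOfHom j.hom.unop), ?_, ?_⟩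
  · exact h2
  · exact h1.symm

theorem exists_lift_of_finitePresentation {U : X.Opens} {x : X} (hxU : x ∈ U)
    (φ : A ⟶ X.presheaf.stalk x) (φRA : R ⟶ A) (φRX : R ⟶ Γ(X, U))
    (hφRA : RingHom.FinitePresentation φRA.hom)
    (e : φRA ≫ φ = φRX ≫ X.presheaf.germ U x hxU) :
    ∃ (V : X.Opens) (hxV : x ∈ V) (φ' : A ⟶ Γ(X, V)) (i : V ≤ U), IsAffineOpen V ∧
      φ = φ' ≫ X.presheaf.germ V x hxV ∧ φRX ≫ X.presheaf.map i.hom.op = φRA ≫ φ' := by
  obtain ⟨V, hxV, φ', i, h1, h2⟩ := exists_lift_of_finitePresentation_aux hxU φ φRA φRX hφRA e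
  obtain ⟨_, ⟨(V' : X.Opens), hV' : IsAffineOpen V', rfl⟩, hxV', hV'V⟩ :=
    X.isBasis_affineOpens.exists_subset_of_mem_open hxV V.isOpen
  have i' : V' ≤ V := hV'V
  refine ⟨V', hxV', φ' ≫ X.presheaf.map i'.hom.op, i'.trans i, hV', ?_, ?_⟩
  · rw [Category.assoc, X.presheaf.germ_res i'.hom x hxV']
    exact h1
  · rw [← Category.assoc, ← h2, Category.assoc, ← X.presheaf.map_comp]
    rfl

theorem spread_out_of_finitePresentation [LocallyOfFinitePresentation sY] {x : X} {y : Y}
    (e : sX x = sY y) (φ : Y.presheaf.stalk y ⟶ X.presheaf.stalk x)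
    (h : sY.stalkMap y ≫ φ =
      S.presheaf.stalkSpecializes (Inseparable.of_eq e).specializes ≫ sX.stalkMap x) :
    ∃ (U : X.Opens) (hxU : x ∈ U) (f : U.toScheme ⟶ Y),
      Spec.map φ ≫ Y.fromSpecStalk y = U.fromSpecStalkOfMem x hxU ≫ f ∧
      f ≫ sY = U.ι ≫ sX := by
  obtain ⟨_, ⟨U, hU, rfl⟩, hxU, -⟩ :=
    S.isBasis_affineOpens.exists_subset_of_mem_open (Set.mem_univ (sX x)) isOpen_univ
  have hyU : sY y ∈ U := e ▸ hxU
  obtain ⟨_, ⟨V : Y.Opens, hV, rfl⟩, hyV, iVU⟩ :=
    Y.isBasis_affineOpens.exists_subset_of_mem_open hyU (sY ⁻¹ᵁ U).2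
  have : sY.appLE U V iVU ≫ Y.presheaf.germ V y hyV ≫ φ =
      sX.app U ≫ X.presheaf.germ (sX ⁻¹ᵁ U) x hxU := by
    rw [Scheme.Hom.appLE, Category.assoc, Y.presheaf.germ_res_assoc,
      ← Scheme.Hom.germ_stalkMap_assoc, h]
    simp
  obtain ⟨W, hxW, φ', i, hW, h₁, h₂⟩ :=
    exists_lift_of_finitePresentation (R := Γ(S, U)) (A := Γ(Y, V)) (U := sX ⁻¹ᵁ U) (x := x) hxU
    (Y.presheaf.germ _ y hyV ≫ φ) (sY.appLE U V iVU) (sX.app U)
    (sY.finitePresentation_appLE hU hV _) this
  refine ⟨W, hxW, W.toSpecΓ ≫ Spec.map φ' ≫ hV.fromSpec, ?_, ?_⟩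
  · rw [W.fromSpecStalkOfMem_toSpecΓ_assoc x hxW, ← Spec.map_comp_assoc, ← h₁,
      Spec.map_comp, Category.assoc, ← IsAffineOpen.fromSpecStalk,
      IsAffineOpen.fromSpecStalk_eq_fromSpecStalk]
  · simp only [Category.assoc]
    rw [← IsAffineOpen.SpecMap_appLE_fromSpec sY hU hV iVU, ← Spec.map_comp_assoc, ← h₂,
      ← Scheme.Hom.appLE, ← hW.isoSpec_hom, IsAffineOpen.SpecMap_appLE_fromSpec sX hU hW i,
      ← Iso.eq_inv_comp, IsAffineOpen.isoSpec_inv_ι_assoc]

theorem spread_out_of_finitePresentation' [LocallyOfFinitePresentation sY] {x : X}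
    (φ : Spec (X.presheaf.stalk x) ⟶ Y)
    (h : φ ≫ sY = X.fromSpecStalk x ≫ sX) :
    ∃ (U : X.Opens) (hxU : x ∈ U) (f : U.toScheme ⟶ Y),
      φ = U.fromSpecStalkOfMem x hxU ≫ f ∧ f ≫ sY = U.ι ≫ sX := by
  have := spread_out_of_finitePresentation sX sY ?_ (Scheme.stalkClosedPointTo φ) ?_
  · simpa only [Scheme.Spec_stalkClosedPointTo_fromSpecStalk] using this
  · rw [← Scheme.Hom.comp_apply, h, Scheme.Hom.comp_apply, Scheme.fromSpecStalk_closedPoint]
  · apply Spec.map_injective
    rw [← cancel_mono (S.fromSpecStalk _)]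
    simpa only [Spec.map_comp, Category.assoc, Scheme.SpecMap_stalkMap_fromSpecStalk,
      Scheme.Spec_stalkClosedPointTo_fromSpecStalk_assoc,
      Scheme.SpecMap_stalkSpecializes_fromSpecStalk]

end Aux

open AlgebraicGeometry in
open CategoryTheory in
/-- Let X and Y be S-schemes with X irreducible, with generic point x, and Y locally of finite
presentation over S. Then every S-morphism Spec(O_{X,x}) ⟶ Y is induced by an S-rational map from X
to Y. (The published statement allows X with finitely many irreducible components and asks for such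
data at each generic point; this row is the case of one component, to which the general case reduces
on the dense open where the components are disjoint. Injectivity of the assignment, for Y locally of
finite type, is a separate result.) -/
theorem result
    (S X Y : Scheme.{u}) [X.Over S] [Y.Over S] [IrreducibleSpace X]
    [LocallyOfFinitePresentation (Y ↘ S)]
    (φ : Spec (X.presheaf.stalk (genericPoint X)) ⟶ Y)
    (hφ : φ ≫ (Y ↘ S) = X.fromSpecStalk (genericPoint X) ≫ (X ↘ S)) :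
    ∃ f : X ⤏ Y, f.IsOver S ∧ f.fromFunctionField = φ := by
  obtain ⟨U, hxU, f, hf1, hf2⟩ := spread_out_of_finitePresentation' (X ↘ S) (Y ↘ S) φ hφ
  let g : X.PartialMap Y := ⟨U, U.2.dense ⟨_, hxU⟩, f⟩
  have : g.IsOver S := Scheme.PartialMap.isOver_iff.mpr hf2
  refine ⟨g.toRationalMap, inferInstance, ?_⟩
  rw [Scheme.RationalMap.fromFunctionField_toRationalMap]
  exact hf1.symm

end Groth.Agent.S9718
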