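import Groth.Statements.S9721

set_option autoImplicit false
universe u
open CategoryTheory CategoryTheory.Limits AlgebraicGeometry
open Mor

namespace Groth.Agent.S9721

open RingHom in
/-- Let f : X ⟶ S be a morphism, x a point of X and V an affine open neighbourhood of f(x) in S. Then f
is smooth on some open neighbourhood of x if and only if there is an affine open neighbourhood U of
x with f(U) ⊆ V such that the induced ring map Γ(S, V) ⟶ Γ(X, U) is standard smooth. -/
theorem result {X S : Scheme.{u}} (f : X ⟶ S) (x : X)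
    (V : S.Opens) (hV : IsAffineOpen V) (hxV : f x ∈ V) :
    (∃ W : X.Opens, x ∈ W ∧ Smooth (W.ι ≫ f)) ↔
      ∃ (U : X.Opens) (_ : IsAffineOpen U) (_ : x ∈ U) (e : U ≤ f ⁻¹ᵁ V),
        (f.appLE V U e).hom.IsStandardSmooth := by
  have hVaff : IsAffine (V : Scheme.{u}) := hV
  constructor
  · rintro ⟨W, hxW, hW⟩
    obtain ⟨_, ⟨(U₀ : X.Opens), hU₀ : IsAffineOpen U₀, rfl⟩, hxU₀, hU₀le⟩ :=
      X.isBasis_affineOpens.exists_subset_of_mem_open
        (show x ∈ ((W ⊓ f ⁻¹ᵁ V : X.Opens) : Set X) from ⟨hxW, hxV⟩) (W ⊓ f ⁻¹ᵁ V).isOpen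
    have hU₀W : U₀ ≤ W := fun y hy => (hU₀le hy).1
    have e₀ : U₀ ≤ f ⁻¹ᵁ V := fun y hy => (hU₀le hy).2
    have hU₀aff : IsAffine (U₀ : Scheme.{u}) := hU₀
    have hsm : (f.appLE V U₀ e₀).hom.Smooth := by
      have h1 : Smooth (U₀.ι ≫ f) := by
        rw [← X.homOfLE_ι hU₀W, Category.assoc]
        infer_instance
      have h2 : Smooth (f.resLE V U₀ e₀) := by
        apply MorphismProperty.of_postcomp (W := @Smooth) (W' := @IsOpenImmersion) _ V.ι
          inferInstance
        rw [Scheme.Hom.resLE_comp_ι]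
        exact h1
      rw [HasRingHomProperty.iff_of_isAffine (P := @Smooth)] at h2
      exact (RingHom.Smooth.propertyIsLocal.respectsIso.arrow_mk_iso_iff
        (arrowResLEAppIso f V U₀ e₀)).mp h2
    obtain ⟨s, hs, hstd⟩ := hsm.locally_isStandardSmooth
    obtain ⟨r, hrs, hrp⟩ : ∃ r ∈ s, r ∉ (hU₀.primeIdealOf ⟨x, hxU₀⟩).asIdeal := by
      by_contra! h
      have hle : Ideal.span s ≤ (hU₀.primeIdealOf ⟨x, hxU₀⟩).asIdeal := Ideal.span_le.mpr h
      rw [hs] at hle
      exact (hU₀.primeIdealOf ⟨x, hxU₀⟩).isPrime.ne_top (top_le_iff.mp hle)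
    refine ⟨X.basicOpen r, hU₀.basicOpen r, ?_, (X.basicOpen_le r).trans e₀, ?_⟩
    · have hmem : hU₀.primeIdealOf ⟨x, hxU₀⟩ ∈ PrimeSpectrum.basicOpen r := hrp
      rw [← hU₀.fromSpec_preimage_basicOpen] at hmem
      have hx' := hU₀.fromSpec_primeIdealOf ⟨x, hxU₀⟩
      change hU₀.fromSpec (hU₀.primeIdealOf ⟨x, hxU₀⟩) ∈ X.basicOpen r at hmem
      rwa [hx'] at hmem
    · have hloc := hU₀.isLocalization_basicOpen r
      let e : Localization.Away r ≃ₐ[Γ(X, U₀)] Γ(X, X.basicOpen r) :=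
        IsLocalization.algEquiv (.powers r) _ _
      have key : (f.appLE V (X.basicOpen r) ((X.basicOpen_le r).trans e₀)).hom =
          e.toRingEquiv.toRingHom.comp
            ((algebraMap Γ(X, U₀) (Localization.Away r)).comp (f.appLE V U₀ e₀).hom) := by
        ext a
        simp only [RingHom.comp_apply, RingEquiv.toRingHom_eq_coe, RingHom.coe_coe]
        erw [e.commutes]
        rw [RingHom.algebraMap_toAlgebra, ← CommRingCat.comp_apply, Scheme.Hom.appLE_map]
      rw [key]
      exact isStandardSmooth_respectsIso.1 _ e.toRingEquiv (hstd r hrs)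
  · rintro ⟨U, hU, hxU, e, hstd⟩
    have hUaff : IsAffine (U : Scheme.{u}) := hU
    refine ⟨U, hxU, ?_⟩
    rw [← Scheme.Hom.resLE_comp_ι f e]
    have : Smooth (f.resLE V U e) := by
      rw [HasRingHomProperty.iff_of_isAffine (P := @Smooth)]
      exact (RingHom.Smooth.propertyIsLocal.respectsIso.arrow_mk_iso_iff
        (arrowResLEAppIso f V U e)).mpr hstd.smooth
    infer_instance

end Groth.Agent.S9721
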