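import Groth.Statements.S9733
import Groth.Agent.Lib.Helper15.Thickening

set_option autoImplicit false
universe u
open OmegaSh

namespace Groth.Agent.S9733

open AlgebraicGeometry CategoryTheory Limits in
/-- Let h : Z ⟶ X and f : Z ⟶ W make Z the fibre product of g : X ⟶ Y and a formally unramified h' : W ⟶
Y, and let (j : W ⟶ W', k : W' ⟶ Y) be universal first-order thickening data for h'. Then the map Z
⟶ X ×_Y W' with components h and f ≫ j, together with the first projection X ×_Y W' ⟶ X, is a
universal first-order thickening for h. The published statement also asserts that h is formally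
unramified and that the pullback along f of the conormal sheaf of W relative to Y surjects onto the
conormal sheaf of Z relative to X; this row states neither. -/
theorem result {Z X W Y W' : Scheme.{u}} (h : Z ⟶ X) (f : Z ⟶ W) (g : X ⟶ Y) (h' : W ⟶ Y)
    [FormallyUnramified h'] (hc : IsPullback h f g h') (j : W ⟶ W') (k : W' ⟶ Y) (hu : OmegaSh.IsUnivThickening h' j k) :
    OmegaSh.IsUnivThickening h (pullback.lift h (f ≫ j) (hc.w.trans (congrArg (f ≫ ·) hu.2.1).symm)) (pullback.fst g k) := by
  obtain ⟨hj, hjk, huniv⟩ := hu
  have hw : h ≫ g = (f ≫ j) ≫ k := hc.w.trans (congrArg (f ≫ ·) hjk).symm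
  have hi1 : pullback.lift h (f ≫ j) hw ≫ pullback.fst g k = h := pullback.lift_fst _ _ _
  have hi2 : pullback.lift h (f ≫ j) hw ≫ pullback.snd g k = f ≫ j := pullback.lift_snd _ _ _
  refine ⟨?_, hi1, ?_⟩
  · -- first order thickening by base change of `j`
    have outer : IsPullback (pullback.lift h (f ≫ j) hw ≫ pullback.fst g k) f g (j ≫ k) := by
      rw [hi1, hjk]
      exact hc
    have left : IsPullback (pullback.lift h (f ≫ j) hw) f (pullback.snd g k) j :=
      IsPullback.of_right outer hi2 (IsPullback.of_hasPullback g k)
    exact Groth.Agent.Lib.Helper15.isFirstOrderThickening_of_isPullback left hj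
  · intro T T' jT b a hjT hba
    have hcond : jT ≫ (b ≫ g) = (a ≫ f) ≫ h' := by
      rw [← Category.assoc, hba, Category.assoc, Category.assoc, hc.w]
    obtain ⟨c, ⟨hc1, hc2⟩, hcuniq⟩ := huniv T T' jT (b ≫ g) (a ≫ f) hjT hcond
    refine ⟨pullback.lift b c hc2.symm, ⟨?_, pullback.lift_fst _ _ _⟩, ?_⟩
    · apply pullback.hom_ext
      · rw [Category.assoc, pullback.lift_fst, Category.assoc, hi1, hba]
      · rw [Category.assoc, pullback.lift_snd, Category.assoc, hi2, hc1, Category.assoc]
    · rintro a'' ⟨ha1, ha2⟩
      have hc'' : a'' ≫ pullback.snd g k = c := by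
        apply hcuniq
        refine ⟨?_, ?_⟩
        · rw [← Category.assoc, ha1, Category.assoc, hi2, Category.assoc]
        · rw [Category.assoc, ← pullback.condition, ← Category.assoc, ha2]
      apply pullback.hom_ext
      · rw [pullback.lift_fst, ha2]
      · rw [pullback.lift_snd, hc'']

end Groth.Agent.S9733
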