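import Groth.Statements.S9737
-- import your own Groth.Agent.* helpers here
import Mathlib
import Groth.Agent.Lib.Helper12.ZLimit
import Groth.Agent.S9218
import Groth.Agent.S4805

set_option autoImplicit false
universe u
open FlatMor

namespace Groth.Agent.S9737
open AlgebraicGeometry CategoryTheory Limits Groth.Agent.Lib.Helper12
set_option backward.isDefEq.respectTransparency false
set_option linter.style.haveILetI false

/-- A morphism from the limit to an affine scheme of finite type over `ℤ` factors through a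
stage. -/
lemma exists_factor {J : Type u} [SmallCategory J] [IsCofiltered J] (𝔇 : J ⥤ Scheme.{u})
    (c : Cone 𝔇) (hc : IsLimit c) [∀ j, IsAffine (𝔇.obj j)]
    {S₁ : Scheme.{u}} [IsAffine S₁] (hS₁ : Algebra.FiniteType ℤ Γ(S₁, ⊤)) (g₁ : c.pt ⟶ S₁) :
    ∃ (i : J) (γ : 𝔇.obj i ⟶ S₁), c.π.app i ≫ γ = g₁ := by
  haveI : LocallyOfFinitePresentation (specULiftZIsTerminal.from S₁) :=
    ZLimit.lfp_of_finiteType S₁ hS₁
  let t : 𝔇 ⟶ (Functor.const J).obj (Spec (CommRingCat.of (ULift.{u} ℤ))) :=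
    { app := fun j => specULiftZIsTerminal.from _
      naturality := fun _ _ _ => specULiftZIsTerminal.hom_ext _ _ }
  obtain ⟨i, γ, h1, -⟩ := Scheme.exists_π_app_comp_eq_of_locallyOfFinitePresentation 𝔇 t
    (specULiftZIsTerminal.from S₁) c hc g₁
    (by ext j; exact specULiftZIsTerminal.hom_ext _ _)
  exact ⟨i, γ, h1⟩

/-- Two stage models of the same scheme over the limit become isomorphic at a later stage. -/
lemma combine_core {J : Type u} [SmallCategory J] [IsCofiltered J] (𝔇 : J ⥤ Scheme.{u})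
    (c : Cone 𝔇) (hc : IsLimit c) [∀ j, IsAffine (𝔇.obj j)] (i : J)
    {Y₁ Y₂ X : Scheme.{u}} (y₁ : Y₁ ⟶ 𝔇.obj i) (y₂ : Y₂ ⟶ 𝔇.obj i)
    [CompactSpace Y₁] [QuasiSeparatedSpace Y₁] [CompactSpace Y₂] [QuasiSeparatedSpace Y₂]
    [LocallyOfFinitePresentation y₁] [QuasiCompact y₁] [QuasiSeparated y₁]
    [LocallyOfFinitePresentation y₂] [QuasiCompact y₂] [QuasiSeparated y₂]
    (f : X ⟶ c.pt) (q₁ : X ⟶ Y₁) (q₂ : X ⟶ Y₂)
    (sq₁ : IsPullback q₁ f y₁ (c.π.app i)) (sq₂ : IsPullback q₂ f y₂ (c.π.app i)) :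
    ∃ (j' : J) (ψ : j' ⟶ i) (X₀ : Scheme.{u}) (f₀ : X₀ ⟶ 𝔇.obj j') (g' : X ⟶ X₀)
      (p₁ : X₀ ⟶ Y₁) (p₂ : X₀ ⟶ Y₂), IsPullback g' f f₀ (c.π.app j') ∧
        IsPullback p₁ f₀ y₁ (𝔇.map ψ) ∧ IsPullback p₂ f₀ y₂ (𝔇.map ψ) := by
  haveI hD : ∀ (i j : J) (a : i ⟶ j), IsAffineHom (𝔇.map a) := fun _ _ a => inferInstance
  obtain ⟨j, φ, fj, sX, sY, e1, e2, e3, e4, e5, e6⟩ := Groth.Agent.S9218.result 𝔇 c hc i y₁ y₂
    q₁ f sq₁ q₂ f sq₂ (𝟙 X) (Category.id_comp f)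
  have sqX : IsPullback sX f (pullback.snd y₁ (𝔇.map φ)) (c.π.app j) := by
    refine IsPullback.of_right ?_ e3 (IsPullback.of_hasPullback y₁ (𝔇.map φ))
    rw [e2, c.w]
    exact sq₁
  have sqY : IsPullback sY f (pullback.snd y₂ (𝔇.map φ)) (c.π.app j) := by
    refine IsPullback.of_right ?_ e5 (IsPullback.of_hasPullback y₂ (𝔇.map φ))
    rw [e4, c.w]
    exact sq₂
  haveI : LocallyOfFinitePresentation (fj ≫ pullback.snd y₂ (𝔇.map φ)) := by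
    rw [e1]; infer_instance
  haveI : QuasiCompact (fj ≫ pullback.snd y₂ (𝔇.map φ)) := by
    rw [e1]; infer_instance
  haveI : QuasiSeparated (fj ≫ pullback.snd y₂ (𝔇.map φ)) := by
    rw [e1]; infer_instance
  have hX : IsPullback sX (𝟙 X) fj sY := by
    refine IsPullback.of_bot ?_ e6 sqY
    rw [Category.id_comp, e1]
    exact sqX
  obtain ⟨j', φ', Xj, Yj, fj', gj, pY, pX, hpY, hpX, hiso⟩ := Groth.Agent.S4805.result 𝔇 c hc j fj
    (pullback.snd y₂ (𝔇.map φ)) (𝟙 X) f sY sX sqY hX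
  haveI := hiso
  have hv : IsPullback pX (fj' ≫ gj) (pullback.snd y₁ (𝔇.map φ)) (𝔇.map φ') := by
    have := hpX.paste_vert hpY
    rwa [e1] at this
  have h1 : IsPullback (pX ≫ pullback.fst y₁ (𝔇.map φ)) (fj' ≫ gj) y₁ (𝔇.map (φ' ≫ φ)) := by
    rw [𝔇.map_comp]
    exact hv.paste_horiz (IsPullback.of_hasPullback y₁ (𝔇.map φ))
  have h2 : IsPullback (fj' ≫ pY ≫ pullback.fst y₂ (𝔇.map φ)) (fj' ≫ gj) y₂
      (𝔇.map (φ' ≫ φ)) := by
    have hl : IsPullback fj' (fj' ≫ gj) gj (𝟙 (𝔇.obj j')) :=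
      IsPullback.of_horiz_isIso ⟨by simp⟩
    have := hl.paste_horiz (hpY.paste_horiz (IsPullback.of_hasPullback y₂ (𝔇.map φ)))
    rwa [Category.id_comp, ← 𝔇.map_comp] at this
  have hw : sX ≫ pullback.snd y₁ (𝔇.map φ) = (f ≫ c.π.app j') ≫ 𝔇.map φ' := by
    rw [e3, Category.assoc, c.w]
  refine ⟨j', φ' ≫ φ, Xj, fj' ≫ gj, hv.lift sX (f ≫ c.π.app j') hw, _, _, ?_, h1, h2⟩
  refine IsPullback.of_right ?_ (hv.lift_snd _ _ _) hv
  rw [hv.lift_fst, c.w]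
  exact sqX

open AlgebraicGeometry CategoryTheory Limits in
/-- Suppose P and Q are classes of morphisms of schemes preserved by arbitrary pullback, and f : X ⟶ S
is a finitely presented morphism of affine schemes. If f arises by pullback from a finite-type
morphism f₁ : X₁ ⟶ S₁ satisfying P, and also from a finite-type morphism f₂ : X₂ ⟶ S₂ satisfying Q,
where all four schemes are affine and Γ(S₁), Γ(S₂) are finitely generated ℤ-algebras, then f arises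
by pullback from a single finite-type morphism f₀ : X₀ ⟶ S₀ of affine schemes, with Γ(S₀) finitely
generated over ℤ, satisfying both P and Q. -/
theorem result (P Q : MorphismProperty Scheme.{u}) [P.IsStableUnderBaseChange] [Q.IsStableUnderBaseChange]
    {X S : Scheme.{u}} (f : X ⟶ S) [IsAffine X] [IsAffine S] [LocallyOfFinitePresentation f]
    {X₁ S₁ X₂ S₂ : Scheme.{u}} [IsAffine X₁] [IsAffine S₁] [IsAffine X₂] [IsAffine S₂]
    (f₁ : X₁ ⟶ S₁) (g₁ : S ⟶ S₁) (g₁' : X ⟶ X₁) (h₁ : IsPullback g₁' f f₁ g₁)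
    (f₂ : X₂ ⟶ S₂) (g₂ : S ⟶ S₂) (g₂' : X ⟶ X₂) (h₂ : IsPullback g₂' f f₂ g₂)
    (hS₁ : Algebra.FiniteType ℤ Γ(S₁, ⊤)) (hS₂ : Algebra.FiniteType ℤ Γ(S₂, ⊤))
    [LocallyOfFiniteType f₁] [LocallyOfFiniteType f₂] (hP : P f₁) (hQ : Q f₂) :
    ∃ (X₀ S₀ : Scheme.{u}) (f₀ : X₀ ⟶ S₀) (g : S ⟶ S₀) (g' : X ⟶ X₀), IsAffine X₀ ∧ IsAffine S₀ ∧ IsPullback g' f f₀ g ∧
      Algebra.FiniteType ℤ Γ(S₀, ⊤) ∧ LocallyOfFiniteType f₀ ∧ P f₀ ∧ Q f₀ := by
  classical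
  obtain ⟨J, _, _, 𝔇, π, hπ, haff, hlfp⟩ := ZLimit.exists_limit S
  haveI := haff
  haveI := hlfp
  let c : Cone 𝔇 := Cone.mk _ π
  obtain ⟨i₁, γ₁, hγ₁⟩ := exists_factor 𝔇 c hπ hS₁ g₁
  obtain ⟨i₂, γ₂, hγ₂⟩ := exists_factor 𝔇 c hπ hS₂ g₂
  obtain ⟨i, t₁, t₂, -⟩ := IsCofilteredOrEmpty.cone_objs i₁ i₂
  have hγ₁' : c.π.app i ≫ 𝔇.map t₁ ≫ γ₁ = g₁ := by rw [← hγ₁, ← Category.assoc, c.w]
  have hγ₂' : c.π.app i ≫ 𝔇.map t₂ ≫ γ₂ = g₂ := by rw [← hγ₂, ← Category.assoc, c.w]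
  haveI : IsNoetherianRing Γ(𝔇.obj i, ⊤) := by
    haveI := ZLimit.finiteType_of_lfp (𝔇.obj i)
    exact Algebra.FiniteType.isNoetherianRing ℤ _
  haveI : IsLocallyNoetherian (𝔇.obj i) :=
    isLocallyNoetherian_of_isOpenImmersion (𝔇.obj i).isoSpec.hom
  haveI : LocallyOfFinitePresentation (pullback.snd f₁ (𝔇.map t₁ ≫ γ₁)) :=
    LocallyOfFinitePresentation.iff_locallyOfFiniteType.mpr inferInstance
  haveI : LocallyOfFinitePresentation (pullback.snd f₂ (𝔇.map t₂ ≫ γ₂)) :=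
    LocallyOfFinitePresentation.iff_locallyOfFiniteType.mpr inferInstance
  have hw₁ : g₁' ≫ f₁ = (f ≫ c.π.app i) ≫ 𝔇.map t₁ ≫ γ₁ := by
    rw [Category.assoc, hγ₁']; exact h₁.w
  have hw₂ : g₂' ≫ f₂ = (f ≫ c.π.app i) ≫ 𝔇.map t₂ ≫ γ₂ := by
    rw [Category.assoc, hγ₂']; exact h₂.w
  have sq₁ : IsPullback (pullback.lift g₁' (f ≫ c.π.app i) hw₁) f
      (pullback.snd f₁ (𝔇.map t₁ ≫ γ₁)) (c.π.app i) := by
    refine IsPullback.of_right ?_ (pullback.lift_snd _ _ _) (IsPullback.of_hasPullback f₁ _)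
    rw [pullback.lift_fst, hγ₁']
    exact h₁
  have sq₂ : IsPullback (pullback.lift g₂' (f ≫ c.π.app i) hw₂) f
      (pullback.snd f₂ (𝔇.map t₂ ≫ γ₂)) (c.π.app i) := by
    refine IsPullback.of_right ?_ (pullback.lift_snd _ _ _) (IsPullback.of_hasPullback f₂ _)
    rw [pullback.lift_fst, hγ₂']
    exact h₂
  obtain ⟨j', ψ, X₀, f₀, g', p₁, p₂, hsq, hp₁, hp₂⟩ := combine_core 𝔇 c hπ i
    (pullback.snd f₁ (𝔇.map t₁ ≫ γ₁)) (pullback.snd f₂ (𝔇.map t₂ ≫ γ₂)) f _ _ sq₁ sq₂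
  have hPy : P (pullback.snd f₁ (𝔇.map t₁ ≫ γ₁)) := P.pullback_snd _ _ hP
  have hQy : Q (pullback.snd f₂ (𝔇.map t₂ ≫ γ₂)) := Q.pullback_snd _ _ hQ
  haveI : IsAffine X₀ := IsAffine.of_isIso hp₁.isoPullback.hom
  refine ⟨X₀, 𝔇.obj j', f₀, c.π.app j', g', inferInstance, haff j', hsq,
    ZLimit.finiteType_of_lfp _, ?_, ?_, ?_⟩
  · exact MorphismProperty.of_isPullback (P := @LocallyOfFiniteType) hp₁ inferInstance
  · exact MorphismProperty.of_isPullback (P := P) hp₁ hPy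
  · exact MorphismProperty.of_isPullback (P := Q) hp₂ hQy

end Groth.Agent.S9737
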