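import Groth.Statements.S9739
import Mathlib
import Groth.Agent.Lib.Helper14.CMDim2

set_option autoImplicit false
set_option linter.style.haveILetI false
universe u
open FlatMor

namespace Groth.Agent.S9739

open AlgebraicGeometry CategoryTheory Limits IsLocalRing in
/-- a Noetherian local ring of Krull dimension zero is Cohen–Macaulay. -/
theorem isCM_of_dim_zero (R : Type u) [CommRing R] [IsLocalRing R] [IsNoetherianRing R]
    (h : ringKrullDim R = 0) : LocCoh.IsCohenMacaulayLocalRing R := by
  have hK : Ring.KrullDimLE 0 R := by
    rw [Ring.krullDimLE_iff]; exact h.le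
  have hdepth : LocCoh.depth R R = 0 := by
    unfold LocCoh.depth LocCoh.idealDepth
    rw [if_neg]
    · apply le_antisymm _ zero_le
      refine iSup_le fun rs => iSup_le fun hrs => ?_
      cases rs with
      | nil => simp
      | cons r rs' =>
        exfalso
        have hr : r ∈ maximalIdeal R := hrs.2 r (List.mem_cons_self ..)
        have hnil : IsNilpotent r := Ring.KrullDimLE.isNilpotent_iff_mem_maximalIdeal.2 hr
        have hreg : IsSMulRegular R r :=
          ((RingTheory.Sequence.isWeaklyRegular_cons_iff R r rs').1 hrs.1).1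
        obtain ⟨n, hn⟩ := hnil
        have h1 : IsSMulRegular R (r ^ n) := hreg.pow n
        rw [hn] at h1
        exact one_ne_zero (h1 (by simp : (0 : R) • (1 : R) = (0 : R) • (0 : R)))
    · intro htop
      have h1 : maximalIdeal R = ⊤ := by
        rw [← htop, Ideal.smul_eq_mul, Ideal.mul_top]
      exact (maximalIdeal.isMaximal R).ne_top h1
  refine ⟨?_⟩
  rw [Module.supportDim_self_eq_ringKrullDim, h, hdepth]
  rfl


open AlgebraicGeometry CategoryTheory Limits in
/-- Let f : X ⟶ S be flat and locally of finite presentation, and let x' ⤳ x be points of X. Assume the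
closure of x in its fibre is one of that fibre's irreducible components. Then the fibre through x'
has the same local dimension at x' as the fibre through x has at x. -/
theorem result {X S : Scheme.{u}} (f : X ⟶ S) [Flat f] [LocallyOfFinitePresentation f]
    (x x' : X) (hsp : x' ⤳ x) (hgen : ∃ Z ∈ irreducibleComponents ↥(f.fiber (f x)), IsGenericPoint (f.asFiber x) Z) :
    FlatMor.fibreDimAt f x' = FlatMor.fibreDimAt f x := by
  have hdim0 : ringKrullDim ((f.fiber (f x)).presheaf.stalk (f.asFiber x)) = 0 := by
    obtain ⟨Z, hZ, hgenZ⟩ := hgen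
    rw [ringKrullDim_stalk_eq_coheight]
    have h0 : Order.coheight (f.asFiber x) = 0 := by
      rw [Order.coheight_eq_zero]
      intro w hw
      have h1 : w ⤳ f.asFiber x := hw
      show f.asFiber x ⤳ w
      have hirr : IsIrreducible (closure {w}) := isIrreducible_singleton.closure
      have hsub : Z ⊆ closure {w} := by
        rw [← hgenZ.def]
        exact closure_minimal (Set.singleton_subset_iff.2 (specializes_iff_mem_closure.1 h1))
          isClosed_closure
      have heq : closure {w} = Z := le_antisymm (hZ.2 hirr hsub) hsub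
      rw [specializes_iff_mem_closure, hgenZ.def, ← heq]
      exact subset_closure rfl
    rw [h0]
    rfl
  haveI : LocallyOfFiniteType (f.fiberToSpecResidueField (f x)) :=
    MorphismProperty.pullback_snd _ _ inferInstance
  haveI : IsLocallyNoetherian (f.fiber (f x)) :=
    LocallyOfFiniteType.isLocallyNoetherian (f.fiberToSpecResidueField (f x))
  have hcm : MoreMor.IsCMAt f x := ⟨Flat.stalkMap f x, isCM_of_dim_zero _ hdim0⟩
  obtain ⟨n, U, hxU, g, -, -, -, -, h2, -⟩ :=
    Groth.Agent.Lib.Helper14.CMDim.exists_flat_quasiFinite f x hcm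
  have hx'U : x' ∈ U := hsp.mem_open U.2 hxU
  rw [h2 ⟨x', hx'U⟩, h2 ⟨x, hxU⟩]

end Groth.Agent.S9739
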