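import Groth.Statements.S9741
import Groth.Agent.Lib.Helper15.Thickening

set_option autoImplicit false
universe u
open OmegaSh

namespace Groth.Agent.S9741

open AlgebraicGeometry CategoryTheory Limits in
/-- Let a : Z ⟶ Y and b : Y ⟶ X be formally unramified, let (i : Z ⟶ Z', c : Z' ⟶ X) be universal among
first order thickenings of Z relative to X (for a ≫ b), and (j : Y ⟶ Y', d : Y' ⟶ X) likewise for Y
relative to X (for b). Then there is a morphism of thickenings m : Z' ⟶ Y' over X (i ≫ m = a ≫ j and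
m ≫ d = c) such that Z ⟶ Y ×_{Y'} Z' (components a and i), together with the projection to Y, is
universal among first order thickenings of Z relative to Y (for a). The published statement also
asserts an exact sequence of conormal sheaves; this row states only the thickening assertion. -/
theorem result {Z Y X Z' Y' : Scheme.{u}} (a : Z ⟶ Y) (b : Y ⟶ X)
    [FormallyUnramified a] [FormallyUnramified b] (i : Z ⟶ Z') (c : Z' ⟶ X) (hZ : OmegaSh.IsUnivThickening (a ≫ b) i c)
    (j : Y ⟶ Y') (d : Y' ⟶ X) (hY : OmegaSh.IsUnivThickening b j d) :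
    ∃ (m : Z' ⟶ Y') (hm : i ≫ m = a ≫ j), m ≫ d = c ∧
      OmegaSh.IsUnivThickening a (pullback.lift a i hm.symm) (pullback.fst j m) := by
  obtain ⟨hi, hic, hZuniv⟩ := hZ
  obtain ⟨hj, hjd, hYuniv⟩ := hY
  obtain ⟨m, ⟨hm1, hm2⟩, hmuniq⟩ := hYuniv Z Z' i c a hi hic
  refine ⟨m, hm1, hm2, ?_⟩
  have hq : MoreMor.IsFirstOrderThickening (pullback.snd j m) :=
    Groth.Agent.Lib.Helper15.isFirstOrderThickening_of_isPullback
      (IsPullback.of_hasPullback j m).flip hj
  have hιq : pullback.lift a i hm1.symm ≫ pullback.snd j m = i := pullback.lift_snd _ _ _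
  haveI : IsClosedImmersion (pullback.snd j m) := hq.1.1
  haveI : IsClosedImmersion i := hi.1.1
  haveI : IsClosedImmersion (pullback.lift a i hm1.symm ≫ pullback.snd j m) := by
    rw [hιq]; infer_instance
  haveI : IsClosedImmersion (pullback.lift a i hm1.symm) :=
    IsClosedImmersion.of_comp_isClosedImmersion _ (pullback.snd j m)
  refine ⟨⟨⟨inferInstance, ?_⟩, ?_⟩, pullback.lift_fst _ _ _, ?_⟩
  · -- surjectivity of ι
    constructor
    intro x
    obtain ⟨z, hz⟩ := hi.1.2.surj ((pullback.snd j m).base x)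
    refine ⟨z, ?_⟩
    apply (pullback.snd j m).isClosedEmbedding.injective
    rw [← hz]
    have := congrArg (fun g => g.base z) hιq
    simpa using this
  · -- square zero
    apply Groth.Agent.Lib.Helper15.ker_mul_ker_eq_bot_of_comp _ (pullback.snd j m)
    have := hi.2
    convert this using 2 <;> rw [hιq]
  · intro T T' jT β α hjT hβα
    -- hβα : jT ≫ β = α ≫ a
    have hcondZ : jT ≫ (β ≫ j ≫ d) = α ≫ (a ≫ b) := by
      rw [hjd, ← Category.assoc, hβα, Category.assoc]
    obtain ⟨γ, ⟨hγ1, hγ2⟩, hγuniq⟩ := hZuniv T T' jT (β ≫ j ≫ d) α hjT hcondZ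
    -- hγ1 : jT ≫ γ = α ≫ i ; hγ2 : γ ≫ c = β ≫ j ≫ d
    have hcondY : jT ≫ (β ≫ j ≫ d) = (α ≫ a) ≫ b := by
      rw [hcondZ, Category.assoc]
    obtain ⟨δ, -, hδuniq⟩ := hYuniv T T' jT (β ≫ j ≫ d) (α ≫ a) hjT hcondY
    have e1 : β ≫ j = δ := by
      apply hδuniq
      exact ⟨by rw [← Category.assoc, hβα, Category.assoc], by rw [Category.assoc]⟩
    have e2 : γ ≫ m = δ := by
      apply hδuniq
      refine ⟨?_, ?_⟩
      · rw [← Category.assoc, hγ1, Category.assoc, hm1, Category.assoc]
      · rw [Category.assoc, hm2, hγ2]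
    have hβγ : β ≫ j = γ ≫ m := e1.trans e2.symm
    refine ⟨pullback.lift β γ hβγ, ⟨?_, ?_⟩, ?_⟩
    · apply pullback.hom_ext
      · rw [Category.assoc, pullback.lift_fst, Category.assoc, pullback.lift_fst, hβα]
      · rw [Category.assoc, pullback.lift_snd, Category.assoc, pullback.lift_snd, hγ1]
    · exact pullback.lift_fst _ _ _
    · rintro α'' ⟨h1, h2⟩
      apply pullback.hom_ext
      · rw [pullback.lift_fst, h2]
      · rw [pullback.lift_snd]
        apply hγuniq
        refine ⟨?_, ?_⟩
        · rw [← Category.assoc, h1, Category.assoc, pullback.lift_snd]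
        · rw [← hm2, Category.assoc, ← Category.assoc (pullback.snd j m), ← pullback.condition,
            ← Category.assoc, ← Category.assoc, h2, Category.assoc]

end Groth.Agent.S9741
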