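-- Statement S9750.
import Groth.Statements.S9750
import Mathlib
import Groth.Agent.Lib.Helper1.ConormZero
import Groth.Agent.Lib.Helper1.UTBasic
import Groth.Agent.Lib.Helper1.UnivThick
import Groth.Agent.Lib.Helper6.FormalEtaleThick

set_option autoImplicit false
universe u
open FlatMor

namespace Groth.Agent.S9750

open AlgebraicGeometry CategoryTheory Limits in
/-- (1) ⇔ (2) ⇔ (3): a morphism f : X ⟶ S is formally étale (unique infinitesimal lifting against
square-zero thickenings of affine schemes) if and only if f is formally unramified and X, through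
the identity and f, is its own universal square-zero (first order) thickening relative to f; and,
for f formally unramified with universal first order thickening data (i : X ⟶ X', h' : X' ⟶ S), f is
formally étale if and only if the conormal sheaf of i (the conormal sheaf of f) is zero. The
published statement also lists a fourth equivalent condition, the vanishing of both the sheaf of
differentials and the conormal sheaf; this row omits it. -/
theorem result {X S : Scheme.{u}} (f : X ⟶ S) :
    (MoreMor.IsFormallyEtaleHom f ↔ FormallyUnramified f ∧ OmegaSh.IsUnivThickening f (𝟙 X) f) ∧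
    (∀ {X' : Scheme.{u}} (i : X ⟶ X') (h' : X' ⟶ S) [QuasiCompact i], FormallyUnramified f →
      OmegaSh.IsUnivThickening f i h' → (MoreMor.IsFormallyEtaleHom f ↔ IsZero (Omega.conormal i))) := by
  have hid : MoreMor.IsFirstOrderThickening (𝟙 X) := by
    refine ⟨⟨inferInstance, inferInstance⟩, ?_⟩
    rw [Scheme.Hom.ker_eq_bot_of_isIso]
    exact Scheme.IdealSheafData.bot_mul _
  -- formally étale ⇒ `(𝟙, f)` universal
  have h12 : MoreMor.IsFormallyEtaleHom f → OmegaSh.IsUnivThickening f (𝟙 X) f := by
    intro hf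
    refine ⟨hid, Category.id_comp f, ?_⟩
    intro T T' j b a hj hba
    obtain ⟨l, ⟨hl1, hl2⟩, huniq⟩ :=
      Groth.Agent.Lib.Helper6.FormalEtaleLocal.existsUnique_lift_thickening f hf j hj a b hba
    refine ⟨l, ⟨by rw [hl1, Category.comp_id], hl2⟩, ?_⟩
    rintro l' ⟨h1, h2⟩
    exact huniq l' ⟨by rw [h1, Category.comp_id], h2⟩
  have h21 : OmegaSh.IsUnivThickening f (𝟙 X) f → MoreMor.IsFormallyEtaleHom f := by
    rintro ⟨-, -, huniv⟩ A _ I hI a b hab
    have hj : MoreMor.IsFirstOrderThickening
        (Spec.map (CommRingCat.ofHom (Ideal.Quotient.mk I))) := by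
      apply Groth.Agent.Lib.Helper1.UnivThick.isFirstOrderThickening_SpecMap
      · exact Ideal.Quotient.mk_surjective
      · change RingHom.ker (Ideal.Quotient.mk I) ^ 2 = ⊥
        rw [Ideal.mk_ker, hI]
    obtain ⟨l, ⟨hl1, hl2⟩, huniq⟩ := huniv _ _ _ b a hj hab
    refine ⟨l, ⟨by rw [hl1, Category.comp_id], hl2⟩, ?_⟩
    rintro l' ⟨h1, h2⟩
    exact huniq l' ⟨by rw [h1, Category.comp_id], h2⟩
  refine ⟨⟨fun hf => ⟨Groth.Agent.Lib.Helper6.FormalEtaleLocal.formallyUnramified_of_isFormallyEtaleHom
    f hf, h12 hf⟩, fun h => h21 h.2⟩, ?_⟩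
  intro X' i h' _ _ hu
  have hci : IsClosedImmersion i := hu.1.1.1
  constructor
  · intro hf
    obtain ⟨e, he1, -⟩ := Groth.Agent.Lib.Helper1.UT.exists_iso_of_isUnivThickening (h12 hf) hu
    rw [Category.id_comp] at he1
    have hiso : IsIso i := by rw [← he1]; infer_instance
    exact Groth.Agent.Lib.Helper1.ConormZero.isZero_conormal_of_ker_eq_bot i
      (Scheme.Hom.ker_eq_bot_of_isIso i)
  · intro h0
    have hk : i.ker = ⊥ :=
      Groth.Agent.Lib.Helper1.ConormZero.ker_eq_bot_of_isZero_conormal i hu.1.2 h0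
    have hiso : IsIso i := IsClosedImmersion.isIso_iff_ker_eq_bot.mpr hk
    apply h21
    obtain ⟨-, hih, huniv⟩ := hu
    refine ⟨hid, Category.id_comp f, ?_⟩
    intro T T' j b a hj hba
    obtain ⟨l, ⟨hl1, hl2⟩, huniq⟩ := huniv T T' j b a hj hba
    refine ⟨l ≫ inv i, ⟨?_, ?_⟩, ?_⟩
    · rw [← Category.assoc, hl1, Category.assoc, IsIso.hom_inv_id]
    · rw [← hih, Category.assoc, IsIso.inv_hom_id_assoc, hl2]
    · rintro l' ⟨h1, h2⟩
      rw [IsIso.eq_comp_inv]
      apply huniq
      refine ⟨?_, ?_⟩
      · rw [← Category.assoc, h1, Category.comp_id]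
      · rw [Category.assoc, hih, h2]

end Groth.Agent.S9750
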