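import Groth.Statements.S9757
-- import your own Groth.Agent.* helpers here
import Mathlib
import Groth.Agent.Lib.Helper14.CMDim2
import Groth.Agent.S1341

set_option autoImplicit false
universe u
open FlatMor

namespace Groth.Agent.S9757
open TopologicalSpace
set_option backward.isDefEq.respectTransparency false

open AlgebraicGeometry CategoryTheory Limits in
/-- Suppose the morphism f : X ⟶ S is flat and locally of finite presentation. Then X contains open
subsets U_d, indexed by d ∈ ℕ, such that for every s ∈ S the union of all U_d intersects the fibre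
X_s in a dense subset of X_s, and each U_d ⟶ S is of relative dimension d. Because U_d is open in X,
this is the same as requiring that at every point x of U_d the fibre of f containing x has local
dimension d at x; that pointwise form is the one this row uses. -/
theorem result {X S : Scheme.{u}} (f : X ⟶ S) [Flat f] [LocallyOfFinitePresentation f] :
    ∃ U : ℕ → X.Opens, (∀ s : S, Dense ((f.fiberι s) ⁻¹' ((⨆ d, U d : X.Opens) : Set ↑X))) ∧
      ∀ (d : ℕ) (x : ↑X), x ∈ U d → FlatMor.fibreDimAt f x = d := by
  classical
  let U : ℕ → X.Opens := fun d =>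
    sSup {W : X.Opens | ∀ x : ↑X, x ∈ W → FlatMor.fibreDimAt f x = d}
  refine ⟨U, fun s => ?_, fun d x hx => ?_⟩
  · refine ((Groth.Agent.S1341.result f).2 s).mono ?_
    intro z hz
    have hcm : MoreMor.IsCMAt f (f.fiberι s z) := hz
    obtain ⟨n, W, hxW, g, -, -, -, -, h2, -⟩ :=
      Groth.Agent.Lib.Helper14.CMDim.exists_flat_quasiFinite f (f.fiberι s z) hcm
    show f.fiberι s z ∈ ((⨆ d, U d : X.Opens) : Set ↑X)
    refine Opens.mem_iSup.mpr ⟨n, ?_⟩
    refine Opens.mem_sSup.mpr ⟨W, ?_, hxW⟩
    intro x hx
    exact h2 ⟨x, hx⟩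
  · obtain ⟨W, hW, hxW⟩ := Opens.mem_sSup.mp hx
    exact hW x hxW

end Groth.Agent.S9757
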