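import Groth.Statements.S9759
import Groth.Agent.Lib.Helper14.FlatStage.IntModel2

set_option autoImplicit false
universe u
open FlatMor

namespace Groth.Agent.S9759

open AlgebraicGeometry CategoryTheory Limits in
/-- Let f : X ⟶ S be a flat morphism of finite presentation between affine schemes. Then f is the base
change of a morphism of finite type f₀ : X₀ ⟶ S₀ between affine schemes with S₀ of finite type over
ℤ and f₀ flat. -/
theorem result {X S : Scheme.{u}} (f : X ⟶ S) [IsAffine X] [IsAffine S] [LocallyOfFinitePresentation f] [Flat f] :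
    ∃ (X₀ S₀ : Scheme.{u}) (f₀ : X₀ ⟶ S₀) (g : S ⟶ S₀) (g' : X ⟶ X₀), IsAffine X₀ ∧ IsAffine S₀ ∧ IsPullback g' f f₀ g ∧
      Algebra.FiniteType ℤ Γ(S₀, ⊤) ∧ LocallyOfFiniteType f₀ ∧ Flat f₀ := by
  have hfp : (f.appTop).hom.FinitePresentation :=
    (HasRingHomProperty.iff_of_isAffine (P := @LocallyOfFinitePresentation)).1 inferInstance
  have hfl : (f.appTop).hom.Flat :=
    (HasRingHomProperty.iff_of_isAffine (P := @Flat)).1 inferInstance
  letI : Algebra Γ(S, ⊤) Γ(X, ⊤) := (f.appTop).hom.toAlgebra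
  haveI : Algebra.FinitePresentation Γ(S, ⊤) Γ(X, ⊤) := hfp
  haveI : Module.Flat Γ(S, ⊤) Γ(X, ⊤) := hfl
  obtain ⟨R₀, _, _, T₀, _, _, _, _, _, _, hfin, hft, hflat, hpush⟩ :=
    Groth.Agent.Lib.Helper14.FlatStage.exists_flat_int_model_algebra Γ(S, ⊤) Γ(X, ⊤)
  let f₀ : Spec (.of T₀) ⟶ Spec (.of R₀) := Spec.map (CommRingCat.ofHom (algebraMap R₀ T₀))
  let a : Spec Γ(X, ⊤) ⟶ Spec (.of T₀) := Spec.map (CommRingCat.ofHom (algebraMap T₀ Γ(X, ⊤)))
  let b : Spec Γ(S, ⊤) ⟶ Spec (.of R₀) := Spec.map (CommRingCat.ofHom (algebraMap R₀ Γ(S, ⊤)))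
  have hsq : IsPullback a (Spec.map (f.appTop)) f₀ b :=
    (isPullback_SpecMap_of_isPushout _ _ _ _
      (CommRingCat.isPushout_of_isPushout R₀ Γ(S, ⊤) T₀ Γ(X, ⊤))).flip
  have hsq1 : IsPullback X.isoSpec.hom f (Spec.map f.appTop) S.isoSpec.hom :=
    IsPullback.of_horiz_isIso ⟨Scheme.isoSpec_hom_naturality f⟩
  have hpb := hsq1.paste_horiz hsq
  refine ⟨Spec (.of T₀), Spec (.of R₀), f₀, S.isoSpec.hom ≫ b, X.isoSpec.hom ≫ a, inferInstance,
    inferInstance, hpb, ?_, ?_, ?_⟩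
  · exact Algebra.FiniteType.equiv hfin
      (Scheme.ΓSpecIso (.of R₀)).symm.commRingCatIsoToRingEquiv.toIntAlgEquiv
  · rw [HasRingHomProperty.Spec_iff (P := @LocallyOfFiniteType)]
    exact RingHom.finiteType_algebraMap.2 hft
  · rw [HasRingHomProperty.Spec_iff (P := @Flat)]
    exact RingHom.flat_algebraMap_iff.2 hflat

end Groth.Agent.S9759
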