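import Groth.Statements.S9762
import Mathlib
import Groth.Agent.Lib.Helper8.EtLocSch
import Groth.Agent.Lib.Helper8.HenselQFSch

set_option autoImplicit false
universe u
open FlatMor

namespace Groth.Agent.S9762

open AlgebraicGeometry CategoryTheory Limits in
/-- For f : X ⟶ S separated and locally of finite type, and a point s of S such that only finitely many
points of the fibre over s are isolated, some elementary étale neighbourhood (U, u) of (S, s) admits
an open and closed V ⊆ U ×_S X, finite over U, such that no point of the fibre over u lying outside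
V is isolated in that fibre. The published statement also asserts that the complement of V has empty
fibre over u when the fibre over s is finite; this row omits that clause. -/
theorem result {X S : Scheme.{u}} (f : X ⟶ S) [LocallyOfFiniteType f] [IsSeparated f] (s : S)
    (hfin : {x : ↑(f.fiber s) | IsOpen ({x} : Set ↑(f.fiber s))}.Finite) :
    ∃ (U : Scheme.{u}) (g : U ⟶ S) (u : U), Hens2.IsEtaleNbhd g u s ∧
      ∃ V : (pullback f g).Opens, IsClopen (V : Set ↑(pullback f g)) ∧ IsFinite (V.ι ≫ pullback.snd f g) ∧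
        ∀ w : ↑((pullback.snd f g).fiber u), (pullback.snd f g).fiberι u w ∉ V →
          ¬ IsOpen ({w} : Set ↑((pullback.snd f g).fiber u)) := by
  classical
  haveI : Finite ↥{x : ↑(f.fiber s) | IsOpen ({x} : Set ↑(f.fiber s))} := hfin.to_subtype
  have hqf : ∀ i : ↥{x : ↑(f.fiber s) | IsOpen ({x} : Set ↑(f.fiber s))},
      f.QuasiFiniteAt (f.fiberι s i.1) := by
    intro i
    refine Groth.Agent.Lib.Helper8.HenselQFSch.quasiFiniteAt_of_isOpen_singleton f _ s
      ((f.fiberHomeo s i.1).2) ?_
    have h1 : IsOpen ((f.fiberHomeo s) '' {i.1}) := (f.fiberHomeo s).isOpen_image.mpr i.2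
    convert h1 using 1
    ext ⟨y, hy⟩
    simp [Subtype.ext_iff]
  obtain ⟨U, g, u, hg, hgu, hres, V, v, hV⟩ :=
    Groth.Agent.Lib.Helper8.EtLocSch.exists_etale_nbhd_split f s
      (fun i : ↥{x : ↑(f.fiber s) | IsOpen ({x} : Set ↑(f.fiber s))} => f.fiberι s i.1)
      (fun i => (f.fiberHomeo s i.1).2) hqf
  letI : Fintype ↥{x : ↑(f.fiber s) | IsOpen ({x} : Set ↑(f.fiber s))} := Fintype.ofFinite _
  have hfinV : IsFinite ((Finset.univ.sup V).ι ≫ pullback.snd f g) :=
    Groth.Agent.Lib.Helper8.EtLocSch.isFinite_finset_sup' _ _ _ (fun i _ => (hV i).2.1)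
  have hcl : IsClosed ((Finset.univ.sup V : (pullback f g).Opens) : Set ↥(pullback f g)) :=
    Groth.Agent.Lib.Helper8.EtLocSch.isClosed_of_isFinite _ _ hfinV
  refine ⟨U, g, u, ⟨hg, hgu, (g.residueFieldMap u).hom.injective, hres⟩, Finset.univ.sup V,
    ⟨hcl, (Finset.univ.sup V).isOpen⟩, hfinV, ?_⟩
  subst hgu
  intro w hwV hwopen
  obtain ⟨φ, hφiso, hφ⟩ : ∃ φ : (pullback.snd f g).fiber u ⟶ f.fiber (g u), IsIso φ ∧
      φ ≫ f.fiberι (g u) = (pullback.snd f g).fiberι u ≫ pullback.fst f g := by
    have hpb := isPullback_fiberToSpecResidueField_of_isPullback (IsPullback.of_hasPullback f g) u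
    haveI : IsIso (g.residueFieldMap u) :=
      (ConcreteCategory.isIso_iff_bijective _).mpr ⟨(g.residueFieldMap u).hom.injective, hres⟩
    exact ⟨_, hpb.isIso_fst_of_isIso, by
      dsimp only [Scheme.Hom.fiberι, pullback.map]; exact pullback.lift_fst _ _ _⟩
  have hφw : IsOpen ({φ w} : Set ↑(f.fiber (g u))) := by
    have := (φ.homeomorph).isOpen_image.mpr hwopen
    simpa [Set.image_singleton] using this
  obtain ⟨h1, h2, h3, h4, h5, h6, h7⟩ := hV ⟨φ w, hφw⟩
  have hsnd : pullback.snd f g ((pullback.snd f g).fiberι u w) = u :=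
    ((pullback.snd f g).fiberHomeo u w).2
  have hfst : pullback.fst f g ((pullback.snd f g).fiberι u w) = f.fiberι (g u) (φ w) := by
    rw [← Scheme.Hom.comp_apply, ← hφ, Scheme.Hom.comp_apply]
  have hwv := h6 _ hsnd hfst
  apply hwV
  rw [hwv]
  exact (Finset.le_sup (f := V) (Finset.mem_univ _)) h1

end Groth.Agent.S9762
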