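-- Statement S9772.
import Groth.Statements.S9772
import Mathlib
import Groth.Agent.Lib.Helper1.UTKoszul

set_option autoImplicit false
universe u
open OmegaSh

namespace Groth.Agent.S9772

open AlgebraicGeometry CategoryTheory Limits in
/-- Suppose f : X ⟶ Y is Koszul at every point of X (a local complete intersection morphism) and
formally unramified, and (i : X ⟶ X', h' : X' ⟶ Y) is universal first order thickening data for f.
Then the conormal sheaf of i (the conormal sheaf of f) is finite locally free. The published
statement also asserts that for a local complete intersection morphism unramified and formally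
unramified are equivalent; this row states only the conormal clause. -/
theorem result {X Y X' : Scheme.{u}} (f : X ⟶ Y)
    (hf : ∀ x : X, Synt.IsKoszulAt f x) [FormallyUnramified f] (i : X ⟶ X') (h' : X' ⟶ Y)
    (hu : OmegaSh.IsUnivThickening f i h') : FlatMod.IsFinLocFree (Omega.conormal i) := by
  have hih : i ≫ h' = f := hu.2.1
  subst hih
  haveI qc : (Omega.conormal i).IsQuasicoherent :=
    Groth.Agent.Lib.Helper17.PbStalk.isQuasicoherent_pullback i (ClSub.idealMod i.ker)
  apply Groth.Agent.Lib.Helper3.LocFreeCrit.isFinLocFree_of_forall_mem_freeLocus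
  intro x
  obtain ⟨W₀, hW₀, hxW₀, hfin, hproj⟩ :=
    Groth.Agent.Lib.Helper1.UTKoszul.exists_chart hu x (hf x)
  haveI := hfin
  haveI := hproj
  haveI : Module.FinitePresentation Γ(X, W₀) Γ(Omega.conormal i, W₀) :=
    Module.finitePresentation_of_projective _ _
  refine ⟨W₀, hW₀, hxW₀, inferInstance, ?_⟩
  rw [(Module.freeLocus_eq_univ_iff).mpr inferInstance]
  exact Set.mem_univ _

end Groth.Agent.S9772
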