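-- Statement S9784.
import Groth.Statements.S9784
import Mathlib
import Groth.Agent.S9741
import Groth.Agent.Lib.Helper1.ConormUT
import Groth.Agent.Lib.Helper1.UTBasic
import Groth.Agent.Lib.Helper17.PbStalk

set_option autoImplicit false
universe u
open OmegaSh

namespace Groth.Agent.S9784

open AlgebraicGeometry CategoryTheory Limits in
/-- Let i : Z ⟶ Y and b : Y ⟶ X be formally unramified, let (i' : Z ⟶ Z', c) be a first order thickening
over X that is universal for i ≫ b, (j : Y ⟶ Y', d) one universal for b, m : Z' ⟶ Y' the morphism of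
thickenings over X compatible with i, (i'' : Z ⟶ Z'', e) a first order thickening over Y that is
universal for i, and n : Z'' ⟶ Z' the morphism of thickenings over X extending the identity of Z.
Let ψ₁ : i^*C_{Y/Y'} ⟶ C_{Z/Z'} and ψ₂ : C_{Z/Z'} ⟶ C_{Z/Z''} be the canonical maps of conormal
sheaves induced by (i, m) and (id, n). These are the conormal sheaves C_{Y/X}, C_{Z/X}, C_{Z/Y} of
the formally unramified morphisms and the canonical maps between them. Then the sequence i^*C_{Y/X}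
⟶ C_{Z/X} ⟶ C_{Z/Y} ⟶ 0 they form is exact. -/
theorem result {Z Y X Z' Y' Z'' : Scheme.{u}} (i : Z ⟶ Y) (b : Y ⟶ X)
    [FormallyUnramified i] [FormallyUnramified b]
    (i' : Z ⟶ Z') (c : Z' ⟶ X) (hZ' : OmegaSh.IsUnivThickening (i ≫ b) i' c)
    (j : Y ⟶ Y') (d : Y' ⟶ X) (hY' : OmegaSh.IsUnivThickening b j d)
    (m : Z' ⟶ Y') (hm₁ : i' ≫ m = i ≫ j) (hm₂ : m ≫ d = c)
    (i'' : Z ⟶ Z'') (e : Z'' ⟶ Y) (hZ'' : OmegaSh.IsUnivThickening i i'' e)
    (n : Z'' ⟶ Z') (hn₁ : i'' ≫ n = i') (hn₂ : n ≫ c = e ≫ b)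
    (ψ₁ : (Scheme.Modules.pullback i).obj (Omega.conormal j) ⟶ Omega.conormal i') (hψ₁ : OmegaSh.IsConormalMap i' j m i ψ₁)
    (ψ₂ : (Scheme.Modules.pullback (𝟙 Z)).obj (Omega.conormal i') ⟶ Omega.conormal i'') (hψ₂ : OmegaSh.IsConormalMap i'' i' n (𝟙 Z) ψ₂) :
    ∃ w : (Scheme.Modules.pullback (𝟙 Z)).map ψ₁ ≫ ψ₂ = 0, (ShortComplex.mk _ _ w).Exact ∧ Epi ψ₂ := by
  subst hn₁
  obtain ⟨m₀, hm₀, hm₀d, hP⟩ := Groth.Agent.S9741.result i b (i'' ≫ n) c hZ' j d hY'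
  -- `m₀ = m`
  have hmm : m₀ = m := by
    obtain ⟨_, -, huniq⟩ := hY'.2.2 Z Z' (i'' ≫ n) c i hZ'.1 hZ'.2.1
    rw [huniq m₀ ⟨hm₀, hm₀d⟩, huniq m ⟨hm₁, hm₂⟩]
  subst hmm
  obtain ⟨ε, hε1, hε2⟩ := Groth.Agent.Lib.Helper1.UT.exists_iso_of_isUnivThickening hZ'' hP
  have hie : i'' ≫ e = i := hZ''.2.1
  have hjd : j ≫ d = b := hY'.2.1
  -- `n` is the second projection
  have hnε : n = ε.hom ≫ pullback.snd j m₀ := by
    obtain ⟨_, -, huniq⟩ := hZ'.2.2 Z Z'' i'' (e ≫ b) (𝟙 Z) hZ''.1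
      (by rw [Category.id_comp, ← Category.assoc, hie])
    rw [huniq n ⟨by rw [Category.id_comp], hn₂⟩]
    symm
    apply huniq
    refine ⟨?_, ?_⟩
    · rw [← Category.assoc, hε1, pullback.lift_snd, Category.id_comp]
    · rw [Category.assoc, ← hm₂, ← Category.assoc (pullback.snd j m₀), ← pullback.condition,
        Category.assoc, hjd, ← Category.assoc, hε2]
  have hpb : IsPullback n e m₀ j := by
    have hcs : CommSq e n j m₀ := ⟨by
      rw [hnε, ← hε2, Category.assoc, Category.assoc, pullback.condition]⟩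
    exact (IsPullback.of_iso_pullback hcs ε hε2 hnε.symm).flip
  have hcj : IsClosedImmersion j := hY'.1.1.1
  have hci'' : IsClosedImmersion i'' := hZ''.1.1.1
  have hcn : IsClosedImmersion n :=
    MorphismProperty.of_isPullback (P := @IsClosedImmersion) hpb.flip hcj
  have hsq : i ≫ j = (i'' ≫ n) ≫ m₀ := hm₁.symm
  have hker : i''.ker * i''.ker = ⊥ := hZ''.1.2
  haveI qC : (Omega.conormal (i'' ≫ n)).IsQuasicoherent :=
    Groth.Agent.Lib.Helper17.PbStalk.isQuasicoherent_pullback (i'' ≫ n)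
      (ClSub.idealMod (i'' ≫ n).ker)
  haveI qC'' : (Omega.conormal i'').IsQuasicoherent :=
    Groth.Agent.Lib.Helper17.PbStalk.isQuasicoherent_pullback i'' (ClSub.idealMod i''.ker)
  set α := (Scheme.Modules.pullbackId Z).inv.app (Omega.conormal (i'' ≫ n)) ≫ ψ₂ with hα
  have zero' : ψ₁ ≫ α = 0 :=
    Groth.Agent.Lib.Helper1.ConormUT.comp_eq_zero i j i'' n m₀ e ψ₁ hψ₁ ψ₂ hψ₂ hsq hpb.w
  -- good opens
  have hgood : ∀ z : Z, ∃ (W' : Z'.Opens) (U' : Y'.Opens), IsAffineOpen W' ∧ IsAffineOpen U' ∧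
      W' ≤ m₀ ⁻¹ᵁ U' ∧ z ∈ (i'' ≫ n) ⁻¹ᵁ W' := by
    intro z
    obtain ⟨_, ⟨U' : Y'.Opens, hU', rfl⟩, hzU', -⟩ :=
      Y'.isBasis_affineOpens.exists_subset_of_mem_open
        (Set.mem_univ (m₀.base ((i'' ≫ n).base z))) isOpen_univ
    obtain ⟨_, ⟨W' : Z'.Opens, hW', rfl⟩, hzW', hWU⟩ :=
      Z'.isBasis_affineOpens.exists_subset_of_mem_open
        (show (i'' ≫ n).base z ∈ ((m₀ ⁻¹ᵁ U' : Z'.Opens) : Set Z') from hzU') (m₀ ⁻¹ᵁ U').2
    exact ⟨W', U', hW', hU', hWU, hzW'⟩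
  have hex : (ShortComplex.mk ψ₁ α zero').Exact := by
    apply Groth.Agent.Lib.Helper1.ModLocal.exact_of_exact_on_affine_cover
    intro z
    obtain ⟨W', U', hW', hU', hWU, hz⟩ := hgood z
    refine ⟨(i'' ≫ n) ⁻¹ᵁ W', hW'.preimage (i'' ≫ n), hz, ?_⟩
    intro x hx
    exact Groth.Agent.Lib.Helper1.ConormUT.exact_on_affine i j i'' n m₀ e ψ₁ hψ₁ ψ₂ hψ₂ hW' hpb hsq
      hker hU' hWU x hx
  have hepi : Epi α := by
    apply Groth.Agent.Lib.Helper3.QCExact.epi_of_surjective_on_affine_cover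
    intro z
    obtain ⟨W', U', hW', hU', hWU, hz⟩ := hgood z
    exact ⟨(i'' ≫ n) ⁻¹ᵁ W', hW'.preimage (i'' ≫ n), hz,
      Groth.Agent.Lib.Helper1.ConormUT.surjective_on_affine i'' n ψ₂ hψ₂ hW'⟩
  have hnat : (Scheme.Modules.pullback (𝟙 Z)).map ψ₁ ≫
      (Scheme.Modules.pullbackId Z).hom.app (Omega.conormal (i'' ≫ n)) =
      (Scheme.Modules.pullbackId Z).hom.app _ ≫ ψ₁ :=
    (Scheme.Modules.pullbackId Z).hom.naturality ψ₁
  have hψ₂α : ψ₂ = (Scheme.Modules.pullbackId Z).hom.app (Omega.conormal (i'' ≫ n)) ≫ α := by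
    rw [hα, ← Category.assoc, Iso.hom_inv_id_app, Category.id_comp]
  have w : (Scheme.Modules.pullback (𝟙 Z)).map ψ₁ ≫ ψ₂ = 0 := by
    rw [hψ₂α, ← Category.assoc, hnat, Category.assoc, zero', comp_zero]
  refine ⟨w, ?_, ?_⟩
  · have eS : ShortComplex.mk _ _ w ≅ ShortComplex.mk ψ₁ α zero' :=
      ShortComplex.isoMk
        ((Scheme.Modules.pullbackId Z).app ((Scheme.Modules.pullback i).obj (Omega.conormal j)))
        ((Scheme.Modules.pullbackId Z).app (Omega.conormal (i'' ≫ n))) (Iso.refl _)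
        hnat.symm (by
          change (Scheme.Modules.pullbackId Z).hom.app _ ≫ α = ψ₂ ≫ 𝟙 _
          rw [Category.comp_id]
          exact hψ₂α.symm)
    exact (ShortComplex.exact_iff_of_iso eS).mpr hex
  · rw [hψ₂α]
    infer_instance

end Groth.Agent.S9784
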