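-- Statement S9786.
import Groth.Statements.S9786
import Mathlib
import Groth.Agent.Lib.Helper1.ConormSES
import Groth.Agent.Lib.Helper1.LocSplit
import Groth.Agent.Lib.Helper1.QcMono
import Groth.Agent.Lib.Helper1.ModLocal

set_option autoImplicit false
universe u
open OmegaSh

namespace Groth.Agent.S9786

open AlgebraicGeometry CategoryTheory Limits in
/-- Let i : Z ⟶ X be a morphism and p : X ⟶ Y a formally smooth morphism (infinitesimal lifting against
square-zero thickenings of affine schemes) with i and i ≫ p formally unramified. Let (i' : Z ⟶ Z',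
a) be the universal first-order thickening attached to i, (i'' : Z ⟶ Z'', b) the one attached to i ≫
p, and k : Z' ⟶ Z'' the morphism of thickenings (i' ≫ k = i'', k ≫ b = a ≫ p). Let d : O_{Z'} → Ω be
a universal derivation over Z'', ψ : C_{Z/Z''} ⟶ C_{Z/Z'} the canonical map of conormal sheaves
induced by (id, k) and φ : C_{Z/Z'} ⟶ (i')^*Ω the map induced by d. Then 0 ⟶ C_{Z/Z''} ⟶ C_{Z/Z'} ⟶
(i')^*Ω ⟶ 0 is short exact and locally split: every point of Z has an open neighbourhood over which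
ψ admits a left inverse. The published statement concerns the conormal–differential sequence of Z in
X over Y; this row states it on the thickenings Z ⊂ Z' ⟶ Z'', whose terms identify with the
published ones by the definition of the conormal sheaf of a formally unramified morphism and by the
isomorphism of (i')^*Ω_{Z'/S} with i^*Ω_{X/S} for a universal thickening (with Ω_{Z'/Z''} =
Ω_{Z'/Y}, as Z'' ⟶ Y is formally unramified). -/
theorem result {Z X Y Z' Z'' : Scheme.{u}} (i : Z ⟶ X) (p : X ⟶ Y)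
    (hp : MoreMor.IsFormallySmoothHom p) [FormallyUnramified i] [FormallyUnramified (i ≫ p)]
    (i' : Z ⟶ Z') (a : Z' ⟶ X) (hZ' : OmegaSh.IsUnivThickening i i' a)
    (i'' : Z ⟶ Z'') (b : Z'' ⟶ Y) (hZ'' : OmegaSh.IsUnivThickening (i ≫ p) i'' b)
    (k : Z' ⟶ Z'') (hk₁ : i' ≫ k = i'') (hk₂ : k ≫ b = a ≫ p)
    (Ω : Z'.Modules) (d : OmegaSh.Der k Ω) (hd : OmegaSh.IsUniversal d)
    (ψ : (Scheme.Modules.pullback (𝟙 Z)).obj (Omega.conormal i'') ⟶ Omega.conormal i') (hψ : OmegaSh.IsConormalMap i' i'' k (𝟙 Z) ψ)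
    (φ : Omega.conormal i' ⟶ (Scheme.Modules.pullback i').obj Ω) (hφ : OmegaSh.IsConormalDiff i' d φ) :
    ∃ w : ψ ≫ φ = 0, (ShortComplex.mk ψ φ w).ShortExact ∧
      ∀ z : Z, ∃ (U : Z.Opens) (r : (Scheme.Modules.restrictFunctor U.ι).obj (Omega.conormal i') ⟶
          (Scheme.Modules.restrictFunctor U.ι).obj ((Scheme.Modules.pullback (𝟙 Z)).obj (Omega.conormal i''))),
        z ∈ U ∧ (Scheme.Modules.restrictFunctor U.ι).map ψ ≫ r = 𝟙 _ := by
  subst hk₁
  haveI hci' : IsClosedImmersion i' := hZ'.1.1.1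
  haveI hci'' : IsClosedImmersion (i' ≫ k) := hZ''.1.1.1
  haveI hunr : FormallyUnramified (i' ≫ k) := inferInstance
  have hker : i'.ker * i'.ker = ⊥ := hZ'.1.2
  have hsurj : Function.Surjective i'.base := hZ'.1.1.2.surj
  haveI qC : (Omega.conormal i').IsQuasicoherent :=
    Groth.Agent.Lib.Helper17.PbStalk.isQuasicoherent_pullback i' (ClSub.idealMod i'.ker)
  haveI qC' : (Omega.conormal (i' ≫ k)).IsQuasicoherent :=
    Groth.Agent.Lib.Helper17.PbStalk.isQuasicoherent_pullback (i' ≫ k)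
      (ClSub.idealMod (i' ≫ k).ker)
  haveI qC'' : ((Scheme.Modules.pullback (𝟙 Z)).obj (Omega.conormal (i' ≫ k))).IsQuasicoherent :=
    Groth.Agent.Lib.Helper17.PbStalk.isQuasicoherent_pullback (𝟙 Z) _
  haveI qΩ : Ω.IsQuasicoherent := Groth.Agent.Lib.Helper1.DerSmooth.isQuasicoherent k d hd
  haveI qN : ((Scheme.Modules.pullback i').obj Ω).IsQuasicoherent :=
    Groth.Agent.Lib.Helper17.PbStalk.isQuasicoherent_pullback i' Ω
  -- good neighbourhoods with a retraction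
  have hgood : ∀ z : Z, ∃ W'' : Z''.Opens, IsAffineOpen W'' ∧ IsAffineOpen (k ⁻¹ᵁ W'') ∧
      z ∈ i' ⁻¹ᵁ (k ⁻¹ᵁ W'') ∧
      ∃ ρ : Γ(Omega.conormal i', i' ⁻¹ᵁ (k ⁻¹ᵁ W'')) →+
          Γ((Scheme.Modules.pullback (𝟙 Z)).obj (Omega.conormal (i' ≫ k)), i' ⁻¹ᵁ (k ⁻¹ᵁ W'')),
        (∀ (c : Γ(Z, i' ⁻¹ᵁ (k ⁻¹ᵁ W''))) y, ρ (c • y) = c • ρ y) ∧
          ∀ x, ρ (ψ.app (i' ⁻¹ᵁ (k ⁻¹ᵁ W'')) x) = x := by
    intro z
    obtain ⟨_, ⟨VYY : Y.Opens, hVYY, rfl⟩, hzVYY, -⟩ :=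
      Y.isBasis_affineOpens.exists_subset_of_mem_open
        (Set.mem_univ (p.base (i.base z))) isOpen_univ
    obtain ⟨_, ⟨UX : X.Opens, hUX, rfl⟩, hzUX, hUV⟩ :=
      X.isBasis_affineOpens.exists_subset_of_mem_open
        (show i.base z ∈ ((p ⁻¹ᵁ VYY : X.Opens) : Set X) from hzVYY) (p ⁻¹ᵁ VYY).2
    have hia : i' ≫ a = i := hZ'.2.1
    have hib : (i' ≫ k) ≫ b = i ≫ p := hZ''.2.1
    have hzX : i'.base z ∈ a ⁻¹ᵁ UX := by
      have : a.base (i'.base z) = i.base z := by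
        have := congrArg (fun g => g.base z) hia
        exact this
      change a.base (i'.base z) ∈ UX
      rw [this]; exact hzUX
    have hzY : k.base (i'.base z) ∈ b ⁻¹ᵁ VYY := by
      have : b.base (k.base (i'.base z)) = p.base (i.base z) := by
        have := congrArg (fun g => g.base z) hib
        exact this
      change b.base (k.base (i'.base z)) ∈ VYY
      rw [this]; exact hzVYY
    obtain ⟨W'', hW'', hW', e'', e', hz⟩ :=
      Groth.Agent.Lib.Helper1.ConormSES.exists_good_pair_in i' k hsurj z (b ⁻¹ᵁ VYY) (a ⁻¹ᵁ UX)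
        hzY hzX
    obtain ⟨τ, hτ1, hτ2⟩ := Groth.Agent.Lib.Helper1.ConormSES.exists_tau_scheme i p hp i' a hZ' b k
      hZ'' hk₂ hVYY hUX hUV hW'' hW' e'' e'
    exact ⟨W'', hW'', hW', hz,
      Groth.Agent.Lib.Helper1.ConormSplit.exists_retraction k i' ψ hψ le_rfl hW'' hW' le_rfl hker
        τ hτ1 hτ2⟩
  have w : ψ ≫ φ = 0 := Groth.Agent.Lib.Helper1.ConormMap.psi_phi_eq_zero k i' d ψ hψ φ hφ
  have hmono : Mono ψ := by
    apply Groth.Agent.Lib.Helper1.QcMono.mono_of_injective_on_affine_cover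
    intro z
    obtain ⟨W'', hW'', hW', hz, ρ, -, hρ⟩ := hgood z
    refine ⟨i' ⁻¹ᵁ (k ⁻¹ᵁ W''), hW'.preimage i', hz, ?_⟩
    intro x y hxy
    rw [← hρ x, ← hρ y, hxy]
  have hepi : Epi φ := Groth.Agent.Lib.Helper1.ConormMap.epi_conormalDiff k i' d φ hφ hd
  have hex : (ShortComplex.mk ψ φ w).Exact := by
    apply Groth.Agent.Lib.Helper1.ModLocal.exact_of_exact_on_affine_cover
    intro z
    obtain ⟨W'', hW'', hW', hz, -⟩ := hgood z
    refine ⟨i' ⁻¹ᵁ (k ⁻¹ᵁ W''), hW'.preimage i', hz, ?_⟩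
    intro m hm
    exact Groth.Agent.Lib.Helper1.ConormMap.exact_on_pair k i' d ψ hψ φ hφ hd hW'' hW' le_rfl
      (Groth.Agent.Lib.Helper1.ConormSES.le_coborderRange i' _)
      (Groth.Agent.Lib.Helper1.ConormSES.le_coborderRange (i' ≫ k) _) le_rfl m hm
  refine ⟨w, ShortComplex.ShortExact.mk' hex hmono hepi, ?_⟩
  intro z
  obtain ⟨W'', hW'', hW', hz, ρ, hlin, hρ⟩ := hgood z
  obtain ⟨r, hr⟩ := Groth.Agent.Lib.Helper1.LocSplit.exists_retraction_of_sections ψ
    (hW'.preimage i') ρ hlin hρ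
  exact ⟨i' ⁻¹ᵁ (k ⁻¹ᵁ W''), r, hz, hr⟩

end Groth.Agent.S9786
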