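import Groth.Statements.S9792
import Groth.Agent.Lib.Helper15.NoethSpec

set_option autoImplicit false
universe u
open CategoryTheory AlgebraicGeometry TopologicalSpace
open Props

namespace Groth.Agent.S9792

/-- In a Noetherian scheme, every infinite set of points contains an infinite subset no two distinct
members of which are related by specialization. -/
theorem result (S : Scheme.{u}) [IsNoetherian S]
    (T : Set S) (hT : T.Infinite) :
    ∃ T' : Set S, T' ⊆ T ∧ T'.Infinite ∧ ∀ a ∈ T', ∀ b ∈ T', a ⤳ b → a = b := by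
  classical
  have wfg := Groth.Agent.Lib.Helper15.wellFounded_strict_generization S
  have wfs := Groth.Agent.Lib.Helper15.wellFounded_strict_specialization S
  let f : ℕ ↪ T := hT.natEmbedding T
  let f₀ : ℕ → S := fun n => (f n).1
  have hf₀ : Function.Injective f₀ := fun a b hab => f.injective (Subtype.ext hab)
  haveI : IsTrans S (· ⤳ ·) := ⟨fun _ _ _ => Specializes.trans⟩
  haveI : IsTrans S (fun x y : S => y ⤳ x) := ⟨fun _ _ _ h1 h2 => h2.trans h1⟩
  obtain ⟨g₁, h₁ | h₁⟩ := exists_increasing_or_nonincreasing_subseq (· ⤳ ·) f₀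
  · -- an infinite chain of strict specializations: impossible
    exfalso
    rw [wellFounded_iff_isEmpty_descending_chain] at wfs
    refine wfs.false ⟨fun n => f₀ (g₁ n), fun n => ⟨h₁ n (n + 1) (Nat.lt_succ_self n), ?_⟩⟩
    intro heq
    have := g₁.injective (hf₀ heq)
    omega
  · let f₁ : ℕ → S := fun n => f₀ (g₁ n)
    have hf₁ : Function.Injective f₁ := fun a b hab => g₁.injective (hf₀ hab)
    obtain ⟨g₂, h₂ | h₂⟩ := exists_increasing_or_nonincreasing_subseq (fun x y : S => y ⤳ x) f₁
    · exfalso
      rw [wellFounded_iff_isEmpty_descending_chain] at wfg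
      refine wfg.false ⟨fun n => f₁ (g₂ n), fun n => ⟨h₂ n (n + 1) (Nat.lt_succ_self n), ?_⟩⟩
      intro heq
      have := g₂.injective (hf₁ heq)
      omega
    · let f₂ : ℕ → S := fun n => f₁ (g₂ n)
      have hf₂ : Function.Injective f₂ := fun a b hab => g₂.injective (hf₁ hab)
      refine ⟨Set.range f₂, ?_, Set.infinite_range_of_injective hf₂, ?_⟩
      · rintro _ ⟨n, rfl⟩
        exact (f (g₁ (g₂ n))).2
      · rintro _ ⟨m, rfl⟩ _ ⟨n, rfl⟩ hmn
        rcases lt_trichotomy m n with hlt | heq | hgt
        · exact absurd hmn (h₁ (g₂ m) (g₂ n) (g₂.lt_iff_lt.mpr hlt))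
        · rw [heq]
        · exact absurd hmn (h₂ n m hgt)

end Groth.Agent.S9792
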