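import Groth.Statements.S9793
import Groth.Agent.Lib.Helper15.NoethSpec

set_option autoImplicit false
universe u
open CategoryTheory AlgebraicGeometry TopologicalSpace
open Props

namespace Groth.Agent.S9793

/-- Let S be a Noetherian scheme and T a set of points of S. Every point of T is a specialization of
some point of T which admits no non-trivial generization lying in T. -/
theorem result (S : Scheme.{u}) [IsNoetherian S]
    (T : Set S) (t : S) (ht : t ∈ T) :
    ∃ t₀ ∈ T, (∀ t' ∈ T, t' ⤳ t₀ → t' = t₀) ∧ t₀ ⤳ t := by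
  have wf := Groth.Agent.Lib.Helper15.wellFounded_strict_generization S
  obtain ⟨t₀, ⟨ht₀T, ht₀t⟩, hmin⟩ := wf.has_min {t' | t' ∈ T ∧ t' ⤳ t} ⟨t, ht, specializes_rfl⟩
  refine ⟨t₀, ht₀T, ?_, ht₀t⟩
  intro t' ht'T ht't₀
  by_contra hne
  exact hmin t' ⟨ht'T, ht't₀.trans ht₀t⟩ ⟨ht't₀, hne⟩

end Groth.Agent.S9793
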