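-- Statement S9794.
import Groth.Statements.S9794
import Mathlib
import Groth.Agent.Lib.Helper1.CountDense
import Groth.Agent.Lib.Helper15.NoethSpec

set_option autoImplicit false
universe u
open CategoryTheory AlgebraicGeometry TopologicalSpace
open Props

namespace Groth.Agent.S9794

/-- In a Noetherian scheme, an infinite dense set of points contains a countable subset which is dense. -/
theorem result (S : Scheme.{u}) [IsNoetherian S]
    (T : Set S) (hT : T.Infinite) (hd : Dense T) :
    ∃ E : Set S, E ⊆ T ∧ E.Countable ∧ Dense E := by
  have hwf := Groth.Agent.Lib.Helper15.wellFounded_strict_generization S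
  obtain ⟨E, hE, hEc, hEcl⟩ := Groth.Agent.Lib.Helper1.CountDense.main hwf
    (⊤ : TopologicalSpace.Closeds S) T (by simpa using hd.closure_eq)
  exact ⟨E, hE, hEc, dense_iff_closure_eq.2 (by simpa using hEcl)⟩

end Groth.Agent.S9794
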