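import Groth.Statements.S9798
import Groth.Agent.Lib.Helper15.DimZero
import Mathlib.AlgebraicGeometry.Noetherian
import Mathlib.RingTheory.HopkinsLevitzki
import Mathlib.RingTheory.Spectrum.Prime.Noetherian

set_option autoImplicit false
universe u
open CategoryTheory AlgebraicGeometry TopologicalSpace
open Props

namespace Groth.Agent.S9798

/-- A point of a locally Noetherian scheme has local dimension zero exactly when it is isolated. -/
theorem result (X : Scheme.{u}) [IsLocallyNoetherian X] (x : X) :
    FlatMor.localDim X x = 0 ↔ IsOpen ({x} : Set X) := by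
  unfold FlatMor.localDim
  constructor
  · intro h
    have hne : (Set.range fun U : {U : TopologicalSpace.Opens X // x ∈ U} =>
        topologicalKrullDim (U.1 : Set X)).Nonempty := ⟨_, ⟨⟨⊤, trivial⟩, rfl⟩⟩
    obtain ⟨⟨U, hxU⟩, hU⟩ := csInf_mem hne
    change topologicalKrullDim (U : Set X) = ⨅ U : {U : TopologicalSpace.Opens X // x ∈ U},
      topologicalKrullDim (U.1 : Set X) at hU
    rw [h] at hU
    -- no specializations inside `U`
    have : QuasiSober (U : Set X) := U.isOpen.isOpenEmbedding_subtypeVal.quasiSober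
    have hspU : ∀ a b : (U : Set X), a ⤳ b → a = b :=
      Groth.Agent.Lib.Helper15.specializes_eq_of_topologicalKrullDim_le_zero hU.le
    obtain ⟨_, ⟨(V : X.Opens), hV : IsAffineOpen V, rfl⟩, hxV, hVU⟩ :=
      X.isBasis_affineOpens.exists_subset_of_mem_open hxU U.isOpen
    have hN : IsNoetherianRing Γ(X, V) := IsLocallyNoetherian.component_noetherian ⟨V, hV⟩
    have hsp : ∀ p q : PrimeSpectrum Γ(X, V), p ⤳ q → p = q := by
      intro p q hpq
      have h1 : hV.fromSpec p ⤳ hV.fromSpec q := hpq.map hV.fromSpec.continuous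
      have hp : hV.fromSpec p ∈ (U : Set X) := hVU (hV.range_fromSpec ▸ Set.mem_range_self p)
      have hq : hV.fromSpec q ∈ (U : Set X) := hVU (hV.range_fromSpec ▸ Set.mem_range_self q)
      have h2 : (⟨_, hp⟩ : (U : Set X)) ⤳ ⟨_, hq⟩ := (subtype_specializes_iff _ _).mpr h1
      have h3 := congrArg Subtype.val (hspU _ _ h2)
      exact hV.fromSpec.isOpenEmbedding.injective h3
    have hdim : Ring.KrullDimLE 0 Γ(X, V) := by
      rw [Ring.krullDimLE_zero_iff]
      intro I hI
      obtain ⟨m, hm, hIm⟩ := Ideal.exists_le_maximal I hI.ne_top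
      have h1 : (⟨I, hI⟩ : PrimeSpectrum Γ(X, V)) ⤳ ⟨m, hm.isPrime⟩ :=
        (PrimeSpectrum.le_iff_specializes _ _).mp hIm
      have h2 := hsp _ _ h1
      have h3 : I = m := congrArg PrimeSpectrum.asIdeal h2
      rw [h3]
      exact hm
    have hart : IsArtinianRing Γ(X, V) := isArtinianRing_iff_krullDimLE_zero.mpr hdim
    have hdisc : DiscreteTopology (PrimeSpectrum Γ(X, V)) := inferInstance
    have hopen : IsOpen ({hV.primeIdealOf ⟨x, hxV⟩} : Set (PrimeSpectrum Γ(X, V))) :=
      isOpen_discrete _
    have := hV.fromSpec.isOpenEmbedding.isOpenMap _ hopen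
    have himg : ({x} : Set X) = hV.fromSpec '' {hV.primeIdealOf ⟨x, hxV⟩} := by
      ext z
      constructor
      · intro hz
        rw [Set.mem_singleton_iff] at hz
        subst hz
        exact ⟨_, rfl, hV.fromSpec_primeIdealOf ⟨z, hxV⟩⟩
      · rintro ⟨_, rfl, rfl⟩
        exact hV.fromSpec_primeIdealOf ⟨x, hxV⟩
    rw [himg]
    exact this
  · intro h
    apply le_antisymm
    · refine (iInf_le _ (⟨⟨{x}, h⟩, rfl⟩ : {U : TopologicalSpace.Opens X // x ∈ U})).trans ?_
      have : DiscreteTopology (({x} : Set X)) := inferInstance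
      exact topologicalKrullDim_zero_of_discreteTopology _
    · refine le_iInf ?_
      rintro ⟨U, hxU⟩
      have : Nonempty (TopologicalSpace.IrreducibleCloseds (U : Set X)) :=
        ⟨⟨closure {(⟨x, hxU⟩ : (U : Set X))}, isIrreducible_singleton.closure, isClosed_closure⟩⟩
      exact Order.krullDim_nonneg

end Groth.Agent.S9798
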