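import Groth.Statements.S9799
import Groth.Agent.S14401
-- import your own Groth.Agent.* helpers here

set_option autoImplicit false
universe u
open CategoryTheory AlgebraicGeometry TopologicalSpace
open Props

namespace Groth.Agent.S9799

open Groth.Agent.Lib.Helper12

/-- Let X be a normal scheme (all local rings are integrally closed domains) such that every
quasi-compact open subset has finitely many irreducible components. Then the irreducible components
of X are open and pairwise disjoint; hence X is the disjoint union of its irreducible components,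
each an open subscheme which is normal and integral. -/
theorem result (X : Scheme.{u})
    (hfin : ∀ U : X.Opens, IsCompact (U : Set X) → (irreducibleComponents ↥U).Finite)
    (hN : Pi1.IsNormalScheme X) :
    (∀ Z ∈ irreducibleComponents X, IsOpen Z) ∧
      ∀ Z ∈ irreducibleComponents X, ∀ Z' ∈ irreducibleComponents X, Z ≠ Z' → Disjoint Z Z' := by
  have hdom : ∀ x : X, IsDomain (X.presheaf.stalk x) := fun x => (hN x).1
  have hdisj : ∀ Z ∈ irreducibleComponents X, ∀ Z' ∈ irreducibleComponents X, Z ≠ Z' →
      Disjoint Z Z' := by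
    intro Z hZ Z' hZ' hne
    rw [Set.disjoint_left]
    intro x hx hx'
    exact hne (Groth.Agent.S14401.component_unique X hdom x Z hZ Z' hZ' hx hx')
  refine ⟨?_, hdisj⟩
  intro Z hZ
  rw [isOpen_iff_forall_mem_open]
  intro x hxZ
  obtain ⟨U, hU, hxU⟩ : ∃ U : X.Opens, IsAffineOpen U ∧ x ∈ U := by
    obtain ⟨_, ⟨U, hU, rfl⟩, hxU, -⟩ :=
      X.isBasis_affineOpens.exists_subset_of_mem_open (Set.mem_univ x) isOpen_univ
    exact ⟨U, hU, hxU⟩
  have hGfin : {η : X | η ∈ U ∧ closure {η} ∈ irreducibleComponents X}.Finite := by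
    have hfinU := hfin U hU.isCompact
    haveI : QuasiSober ↥U := U.isOpenEmbedding'.quasiSober
    have hgp : (genericPoints ↥U).Finite := genericPoints.finite hfinU
    refine (hgp.image Subtype.val).subset ?_
    intro η hη
    refine ⟨⟨η, hη.1⟩, ?_, rfl⟩
    apply mem_irreducibleComponents_of_forall_specializes
    intro z hz
    have hz' : (z : X) ⤳ η := hz.map continuous_subtype_val
    exact Subtype.ext (eq_of_specializes_of_mem_irreducibleComponents hη.2 hz')
  obtain ⟨ηZ, hηZ⟩ := QuasiSober.sober hZ.1 (isClosed_of_mem_irreducibleComponents Z hZ)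
  have hWopen : IsOpen ((U : Set X) \
      ⋃ η ∈ {η : X | η ∈ U ∧ closure {η} ∈ irreducibleComponents X} \ {ηZ}, closure {η}) :=
    U.isOpen.sdiff ((hGfin.subset Set.diff_subset).isClosed_biUnion
      (fun η _ => isClosed_closure))
  refine ⟨_, ?_, hWopen, ?_⟩
  · rintro y ⟨hyU, hy⟩
    obtain ⟨ξ, hξ, hξy⟩ := exists_generic_specializes y
    have hξU : ξ ∈ U := hξy.mem_open U.isOpen hyU
    by_cases h : ξ = ηZ
    · rw [← hηZ.def, ← h]
      exact hξy.mem_closure
    · exfalso
      apply hy
      exact Set.mem_biUnion (x := ξ) ⟨⟨hξU, hξ⟩, h⟩ hξy.mem_closure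
  · refine ⟨hxU, ?_⟩
    intro hx
    obtain ⟨η, ⟨hηG, hne⟩, hxη⟩ := Set.mem_iUnion₂.1 hx
    apply hne
    have h0 := Groth.Agent.S14401.component_unique X hdom x _ hηG.2 Z hZ hxη hxZ
    have h1 : IsGenericPoint η Z := h0 ▸ isGenericPoint_closure
    exact h1.eq hηZ

end Groth.Agent.S9799
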