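import Groth.Statements.S9801
import Mathlib
import Groth.Agent.S14108
import Groth.Agent.Lib.Helper4.SerreNormal

set_option autoImplicit false
universe u
open CategoryTheory AlgebraicGeometry TopologicalSpace
open Props

namespace Groth.Agent.S9801


namespace H9801
open CategoryTheory CategoryTheory.Limits AlgebraicGeometry

theorem cm_of_normal_dim_le_two (B : Type u) [CommRing B] [IsDomain B] [IsNoetherianRing B]
    [IsLocalRing B] [IsIntegrallyClosed B] (h : ringKrullDim B ≤ 2) :
    LocCoh.IsCohenMacaulayLocalRing B := by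
  refine { supportDim_eq_depth := ?_ }
  rw [Module.supportDim_self_eq_ringKrullDim]
  have h1 := Groth.Agent.Lib.Helper4.SerreNormal.min_two_le_depth_of_normal B
  have h2 := Groth.Agent.S14108.H14108.depth_le_dim B
  have h3 := IsLocalRing.maximalIdeal_height_eq_ringKrullDim (R := B)
  rw [← h3] at h h2 ⊢
  have h4 : (IsLocalRing.maximalIdeal B).height ≤ ((2 : ℕ) : ℕ∞) := by
    have h' : ((IsLocalRing.maximalIdeal B).height : WithBot ℕ∞) ≤
        (((2 : ℕ) : ℕ∞) : WithBot ℕ∞) := h
    exact WithBot.coe_le_coe.mp h'
  rw [min_eq_right h4] at h1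
  have h5 : LocCoh.depth B B ≤ (IsLocalRing.maximalIdeal B).height := WithBot.coe_le_coe.mp h2
  rw [le_antisymm h1 h5]

theorem coheight_le_topDim (X : Scheme.{u}) (x : X) :
    ((Order.coheight x : ℕ∞) : WithBot ℕ∞) ≤ topologicalKrullDim X := by
  have h1 := Order.coheight_orderIso (irreducibleSetEquivPoints (α := X)).symm x
  have h2 := Order.coheight_le_krullDim ((irreducibleSetEquivPoints (α := X)).symm x)
  unfold topologicalKrullDim
  rw [h1] at h2
  exact h2

theorem main (X : Scheme.{u})
    [IsLocallyNoetherian X] (hN : Pi1.IsNormalScheme X) (hd : topologicalKrullDim X ≤ 2) (x : X) :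
    LocCoh.IsCohenMacaulayLocalRing (X.presheaf.stalk x) := by
  haveI := (hN x).1
  haveI := (hN x).2
  refine cm_of_normal_dim_le_two _ ?_
  rw [ringKrullDim_stalk_eq_coheight]
  exact le_trans (coheight_le_topDim X x) hd

end H9801

/-- A locally Noetherian normal scheme of dimension at most two is Cohen-Macaulay, that is, all of its
local rings are Cohen-Macaulay local rings. -/
theorem result (X : Scheme.{u})
    [IsLocallyNoetherian X] (hN : Pi1.IsNormalScheme X) (hd : topologicalKrullDim X ≤ 2) (x : X) :
    LocCoh.IsCohenMacaulayLocalRing (X.presheaf.stalk x) := by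
  exact H9801.main X hN hd x

end Groth.Agent.S9801
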