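import Groth.Statements.S9804
import Mathlib

set_option autoImplicit false
universe u
open CategoryTheory AlgebraicGeometry TopologicalSpace
open Props

namespace Groth.Agent.S9804

theorem basicOpen_subset_range {X : Scheme.{u}} [CompactSpace X] [QuasiSeparatedSpace X]
    (r : Γ(X, ⊤)) (hr : IsAffineOpen (X.basicOpen r)) :
    (PrimeSpectrum.basicOpen r : Set (PrimeSpectrum Γ(X, ⊤))) ⊆ Set.range X.toSpecΓ.base := by
  intro w hw
  haveI := isLocalization_basicOpen_of_qcqs (X := X) (U := ⊤) isCompact_univ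
    isQuasiSeparated_univ r
  have h1 := PrimeSpectrum.localization_away_comap_range (Γ(X, X.basicOpen r)) r
  rw [← h1] at hw
  obtain ⟨w', rfl⟩ := hw
  refine ⟨(X.basicOpen r).ι (hr.isoSpec.inv w'), ?_⟩
  have h2 := Scheme.Opens.toSpecΓ_SpecMap_presheaf_map_top (X.basicOpen r)
  have h3 : hr.isoSpec.hom (hr.isoSpec.inv w') = w' := by
    rw [← Scheme.Hom.comp_apply, Iso.inv_hom_id]; rfl
  rw [← Scheme.Hom.comp_apply, ← h2, Scheme.Hom.comp_apply, ← IsAffineOpen.isoSpec_hom hr, h3]
  rfl

/-- For quasi-affine schemes U and V and an open immersion j : U → V, the scheme U is the fibre product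
of the composite U → V → Spec Γ(V, O_V) and the morphism Spec Γ(U, O_U) → Spec Γ(V, O_V) induced by
restriction of sections along j: the square whose sides are the identity of U, the canonical
morphism U → Spec Γ(U, O_U), that composite and that induced morphism is cartesian. -/
theorem result {U V : Scheme.{u}} (j : U ⟶ V)
    [IsOpenImmersion j] [U.IsQuasiAffine] [V.IsQuasiAffine] :
    IsPullback (𝟙 U) U.toSpecΓ (j ≫ V.toSpecΓ) (Spec.map j.appTop) := by

  have H : U.toSpecΓ ≫ Spec.map j.appTop = 𝟙 U ≫ j ≫ V.toSpecΓ := by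
    rw [Category.id_comp, Scheme.toSpecΓ_naturality]
  refine IsOpenImmersion.isPullback (𝟙 U) U.toSpecΓ (j ≫ V.toSpecΓ) (Spec.map j.appTop) H ?_
  apply le_antisymm
  · intro w hw
    obtain ⟨u0, hu0⟩ := hw
    obtain ⟨_, ⟨f, hf, rfl⟩, hjf, hfU⟩ := TopologicalSpace.Opens.isBasis_iff_nbhd.mp
      (Scheme.IsQuasiAffine.isBasis_basicOpen V) (U := j.opensRange) (x := j u0) ⟨u0, rfl⟩
    have haff : IsAffineOpen (U.basicOpen (j.appTop f)) := by
      rw [← Scheme.preimage_basicOpen_top, ← Scheme.Hom.isAffineOpen_iff_of_isOpenImmersion j,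
        Scheme.Hom.image_preimage_eq_opensRange_inf, inf_eq_right.mpr hfU]
      exact hf
    have hk : (Spec.map j.appTop) w ∈ PrimeSpectrum.basicOpen f := by
      have h1 : j u0 ∈ V.toSpecΓ ⁻¹ᵁ PrimeSpectrum.basicOpen f := by
        rw [Scheme.toSpecΓ_preimage_basicOpen]; exact hjf
      have h2 : (j ≫ V.toSpecΓ) u0 = (Spec.map j.appTop) w := hu0
      rw [← h2, Scheme.Hom.comp_apply]
      exact h1
    have hw' : w ∈ (PrimeSpectrum.basicOpen (j.appTop f) : Set (PrimeSpectrum Γ(U, ⊤))) := hk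
    exact basicOpen_subset_range (j.appTop f) haff hw'
  · rintro w ⟨u, rfl⟩
    refine ⟨u, ?_⟩
    rw [← Scheme.Hom.comp_apply, H, Category.id_comp]

end Groth.Agent.S9804
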