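import Groth.Statements.S9805
import Groth.Agent.Lib.Helper3.LocFreeCrit
import Groth.Agent.Lib.Helper3.QCProps
import Groth.Agent.S9806

set_option autoImplicit false
universe u
open CategoryTheory AlgebraicGeometry TopologicalSpace
open Props

namespace Groth.Agent.S9805

open Groth.Agent.Lib.Helper3 in
theorem finite_stalk9805 {X : Scheme.{u}} (M : X.Modules) [M.IsQuasicoherent]
    [SheafOfModules.IsFinitePresentation (R := X.ringCatSheaf) M] (x : X) :
    Module.Finite (X.presheaf.stalk x) (M.presheaf.stalk x) := by
  obtain ⟨U, hU, hxU⟩ := QCProps.exists_affine_nbhd x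
  obtain ⟨i1, i2, i3, i4, g, h1, h2, h3⟩ := QS.exists_isLocalizedModule hU M x hxU
  have := QCProps.finitePresentation_sections M hU
  exact Module.Finite.of_isLocalizedModule (hU.primeIdealOf ⟨x, hxU⟩).asIdeal.primeCompl g

open Groth.Agent.Lib.Helper3 in

/-- A quasi-coherent module on a scheme is flat and of finite presentation if and only if it is finite
locally free. -/
theorem result (X : Scheme.{u}) (M : X.Modules) (hM : Coh.IsQCoh M) :
    (FlatMod.IsFlat M ∧ CohB1.IsFP M) ↔ FlatMod.IsFinLocFree M := by
  have : M.IsQuasicoherent := hM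
  rw [← Groth.Agent.S9806.result X M hM]
  constructor
  · rintro ⟨hflat, hfp⟩
    refine ⟨hfp, fun x => ?_⟩
    have : SheafOfModules.IsFinitePresentation (R := X.ringCatSheaf) M := hfp
    have := finite_stalk9805 M x
    have : Module.Flat (X.presheaf.stalk x) (M.presheaf.stalk x) := hflat x
    exact Module.free_of_flat_of_isLocalRing
  · rintro ⟨hfp, hfree⟩
    refine ⟨fun x => ?_, hfp⟩
    have := hfree x
    change Module.Flat (X.presheaf.stalk x) (M.presheaf.stalk x)
    infer_instance

end Groth.Agent.S9805
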