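import Groth.Statements.S9807
-- import your own Groth.Agent.* helpers here
import Mathlib
import Groth.Agent.Lib.Helper22.StalkSpec
import Groth.Agent.Lib.Helper26.RegularRing

set_option autoImplicit false
universe u
open CategoryTheory AlgebraicGeometry TopologicalSpace
open Props

namespace Groth.Agent.S9807

/-- A locally Noetherian scheme is regular (all local rings regular) as soon as its local rings at
closed points are regular, and conversely. -/
theorem result (X : Scheme.{u}) [IsLocallyNoetherian X] :
    (∀ x : X, IsRegularLocalRing (X.presheaf.stalk x)) ↔
      ∀ x : X, IsClosed ({x} : Set X) → IsRegularLocalRing (X.presheaf.stalk x) := by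
  constructor
  · intro H x _; exact H x
  · intro H x
    obtain ⟨x', hsp, hcl⟩ := Groth.Agent.Lib.Helper22.ClosedSpec.exists_specializes_isClosed x
    haveI := H x' hcl
    obtain ⟨q, hq, ⟨e⟩⟩ := Groth.Agent.Lib.Helper22.StalkSpec.exists_ringEquiv_localization hsp
    haveI := hq
    haveI : IsRegularLocalRing (Localization.AtPrime q) :=
      Groth.Agent.Lib.Helper26.RegularRing.isRegularLocalRing_localization_atPrime _ q
    exact IsRegularLocalRing.of_ringEquiv e

end Groth.Agent.S9807
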