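import Groth.Statements.S9808
-- import your own Groth.Agent.* helpers here
import Mathlib
import Groth.Agent.Lib.Helper22.StalkSpec
import Groth.Agent.Lib.Helper22.CMLocalize

set_option autoImplicit false
universe u
open CategoryTheory AlgebraicGeometry TopologicalSpace
open Props

namespace Groth.Agent.S9808

/-- A locally Noetherian scheme is Cohen-Macaulay (all local rings Cohen-Macaulay) as soon as its local
rings at closed points are Cohen-Macaulay, and conversely. -/
theorem result (X : Scheme.{u}) [IsLocallyNoetherian X] :
    (∀ x : X, LocCoh.IsCohenMacaulayLocalRing (X.presheaf.stalk x)) ↔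
      ∀ x : X, IsClosed ({x} : Set X) → LocCoh.IsCohenMacaulayLocalRing (X.presheaf.stalk x) := by
  constructor
  · intro H x _; exact H x
  · intro H x
    obtain ⟨x', hsp, hcl⟩ := Groth.Agent.Lib.Helper22.ClosedSpec.exists_specializes_isClosed x
    haveI := H x' hcl
    obtain ⟨q, hq, ⟨e⟩⟩ := Groth.Agent.Lib.Helper22.StalkSpec.exists_ringEquiv_localization hsp
    haveI := hq
    haveI : LocCoh.IsCohenMacaulayLocalRing (Localization.AtPrime q) :=
      Groth.Agent.Lib.Helper22.CMLocalize.isCohenMacaulayLocalRing_localization_atPrime _ q
    exact Groth.Agent.Lib.Helper22.CMLocalize.isCohenMacaulayLocalRing_of_ringEquiv e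

end Groth.Agent.S9808
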