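import Groth.Statements.S9809
import Mathlib
import Groth.Agent.Lib.Helper8.PuncturedConn
import Groth.Agent.S9238


set_option autoImplicit false
universe u
open CategoryTheory AlgebraicGeometry TopologicalSpace
open Props

namespace Groth.Agent.S9809

/-- A Noetherian scheme is geometrically unibranch (all local rings geometrically unibranch) if and only
if at every point which is not the generic point of an irreducible component, the punctured spectrum
of a strict henselization of the local ring is connected. -/
theorem result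
    (X : Scheme.{u}) [IsNoetherian X] :
    (∀ x : X, CAlg2.IsGeomUnibranch (X.presheaf.stalk x)) ↔
      ∀ (x : X), closure ({x} : Set X) ∉ irreducibleComponents X →
        ∀ (Ash : Type u) [CommRing Ash] [IsLocalRing Ash] [Algebra (X.presheaf.stalk x) Ash]
          [IsLocalHom (algebraMap (X.presheaf.stalk x) Ash)]
          [Hensel.IsStrictHenselization (X.presheaf.stalk x) Ash],
          ConnectedSpace ↥({IsLocalRing.closedPoint Ash}ᶜ : Set (PrimeSpectrum Ash)) := by
  have hbr : ∀ (R S : Type u) [CommRing R] [IsLocalRing R] [CommRing S] [IsLocalRing S]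
      [Algebra R S] [IsLocalHom (algebraMap R S)] [Hensel.IsStrictHenselization R S],
      ENat.card (minimalPrimes S) = Brnch.numGeomBranches R :=
    fun R S _ _ _ _ _ _ _ => Groth.Agent.S9238.result R S
  constructor
  · intro hgu x hx Ash _ _ _ _ _
    have hU : CAlgX.HasUniqueMinimalPrime Ash :=
      (Groth.Agent.Lib.Helper8.EtaleUnibranch.isGeomUnibranch_iff_hasUniqueMinimalPrime
        (A := X.presheaf.stalk x) (Ash := Ash)).mp (hgu x)
    obtain ⟨P, hP, huniq⟩ := hU
    haveI hflat := Groth.Agent.Lib.Helper8.Hzl.strictHenselization_faithfullyFlat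
      (X.presheaf.stalk x) Ash
    have hPne : P ≠ IsLocalRing.maximalIdeal Ash := by
      rintro rfl
      apply hx
      rw [← Groth.Agent.Lib.Helper8.PuncturedConn.maximalIdeal_mem_minimalPrimes_iff]
      have h1 := Groth.Agent.Lib.Helper8.BranchSum.comap_mem_minimalPrimes
        (X.presheaf.stalk x) Ash hP
      have h2 : (IsLocalRing.maximalIdeal Ash).comap (algebraMap (X.presheaf.stalk x) Ash) =
          IsLocalRing.maximalIdeal (X.presheaf.stalk x) :=
        ((IsLocalRing.local_hom_TFAE (algebraMap (X.presheaf.stalk x) Ash)).out 0 4).mp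
          (inferInstance : IsLocalHom (algebraMap (X.presheaf.stalk x) Ash))
      rwa [h2] at h1
    have hpre : _root_.IsPreconnected
        ({IsLocalRing.closedPoint Ash}ᶜ : Set (PrimeSpectrum Ash)) := by
      refine IsPreconnected.subset_closure
        (isPreconnected_singleton (x := (⟨P, hP.1.1⟩ : PrimeSpectrum Ash))) ?_ ?_
      · rintro _ rfl
        intro h
        exact hPne (congrArg PrimeSpectrum.asIdeal h)
      · intro Q _
        rw [← specializes_iff_mem_closure, ← PrimeSpectrum.le_iff_specializes]
        haveI := Q.2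
        obtain ⟨P', hP', hP'Q⟩ :=
          Ideal.exists_minimalPrimes_le (bot_le : (⊥ : Ideal Ash) ≤ Q.asIdeal)
        rw [huniq P' hP'] at hP'Q
        exact hP'Q
    have hne : ({IsLocalRing.closedPoint Ash}ᶜ : Set (PrimeSpectrum Ash)).Nonempty :=
      ⟨⟨P, hP.1.1⟩, fun h => hPne (congrArg PrimeSpectrum.asIdeal h)⟩
    exact isConnected_iff_connectedSpace.mp ⟨hne, hpre⟩
  · intro H x₀
    have key : ∀ (a : ℕ∞) (𝔞 : PrimeSpectrum (X.presheaf.stalk x₀)), 𝔞.asIdeal.height = a →
        CAlg2.IsGeomUnibranch (X.presheaf.stalk (X.fromSpecStalk x₀ 𝔞)) := by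
      intro a
      induction a using WellFoundedLT.induction with
      | ind a ih =>
      intro 𝔞 h𝔞
      by_cases hmax : closure ({X.fromSpecStalk x₀ 𝔞} : Set X) ∈ irreducibleComponents X
      · exact Groth.Agent.Lib.Helper8.PuncturedConn.isGeomUnibranch_of_maximalIdeal_mem_minimalPrimes
          _ ((Groth.Agent.Lib.Helper8.PuncturedConn.maximalIdeal_mem_minimalPrimes_iff X _).mpr hmax)
      · haveI := Groth.Agent.Lib.Helper8.Hzl.isStrictHenselization
          (X.presheaf.stalk (X.fromSpecStalk x₀ 𝔞))
        have hc := H _ hmax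
          (Groth.Agent.Lib.Helper8.Hzl.SHens (X.presheaf.stalk (X.fromSpecStalk x₀ 𝔞)))
        refine Groth.Agent.Lib.Helper8.PuncturedConn.isGeomUnibranch_stalk_of_generizations hbr X _
          hmax (isConnected_iff_connectedSpace.mpr hc).isPreconnected ?_
        intro x' hx' hne
        have hx'' : x' ⤳ x₀ := hx'.trans (by
          have hmem : X.fromSpecStalk x₀ 𝔞 ∈ Set.range (X.fromSpecStalk x₀) := ⟨𝔞, rfl⟩
          rw [Scheme.range_fromSpecStalk] at hmem
          exact hmem)
        have hmem : x' ∈ Set.range (X.fromSpecStalk x₀) := by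
          rw [Scheme.range_fromSpecStalk]
          exact hx''
        obtain ⟨𝔞', rfl⟩ := hmem
        have hsp : 𝔞' ⤳ 𝔞 :=
          (X.fromSpecStalk x₀).isEmbedding.isInducing.specializes_iff.mp hx'
        have hle : 𝔞'.asIdeal ≤ 𝔞.asIdeal := (PrimeSpectrum.le_iff_specializes _ _).mpr hsp
        have hlt : 𝔞'.asIdeal < 𝔞.asIdeal :=
          lt_of_le_of_ne hle (fun h => hne (by rw [PrimeSpectrum.ext h]))
        haveI := 𝔞'.2
        haveI := 𝔞.2
        have hh : 𝔞'.asIdeal.height < 𝔞.asIdeal.height :=
          Ideal.height_strict_mono_of_isPrime_of_isPrime hlt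
        exact ih _ (h𝔞 ▸ hh) 𝔞' rfl
    have h := key _ (IsLocalRing.closedPoint _) rfl
    rwa [Scheme.fromSpecStalk_closedPoint] at h


end Groth.Agent.S9809
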