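import Groth.Statements.S9814
import Groth.Agent.Lib.Helper3.InvAmple

set_option autoImplicit false
universe u
open CategoryTheory CategoryTheory.Limits AlgebraicGeometry TopologicalSpace
open Props

namespace Groth.Agent.S9814

open Groth.Agent.Lib.Helper3 Groth.Agent.Lib.Helper3.InvGen Groth.Agent.Lib.Helper3.InvTensor Groth.Agent.Lib.Helper3.InvTwist Groth.Agent.Lib.Helper3.InvAmple Groth.Agent.Lib.Helper3.QCSec in

/-- Let L be an invertible module on a scheme X. If the opens X_s (s a global section of a positive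
tensor power of L) form a basis for the topology, then so do the affine ones among them. -/
theorem result (X : Scheme.{u}) (L : X.Modules) (hL : PicF.IsInvertible L)
    (hB : Opens.IsBasis {U : X.Opens | ∃ (n : ℕ) (s : Coh.structureModule X ⟶ CohB1.tensorPow L (n + 1)),
      U = CohB1.genLocus _ s}) :
    Opens.IsBasis {U : X.Opens | IsAffineOpen U ∧ ∃ (n : ℕ) (s : Coh.structureModule X ⟶ CohB1.tensorPow L (n + 1)),
      U = CohB1.genLocus _ s} := by
  rw [Opens.isBasis_iff_nbhd] at hB ⊢
  intro W x hxW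
  obtain ⟨U, e, hU, hxU, hUW, hg⟩ := exists_affine_isGen_le hL x W hxW
  obtain ⟨_, ⟨n, s, rfl⟩, hxs, hsU⟩ := hB hxU
  refine ⟨_, ⟨?_, n, s, rfl⟩, hxs, hsU.trans hUW⟩
  have := isAffineOpen_genLocus_inf_of_isGen s hU (isGen_lpow hg (n + 1))
  rwa [inf_eq_left.mpr hsU] at this

end Groth.Agent.S9814
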