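import Groth.Statements.S9817
import Groth.Agent.Lib.Helper3.VAConv
import Groth.Agent.Lib.Helper3.InvRestrict

set_option autoImplicit false
universe u
open CategoryTheory CategoryTheory.Limits AlgebraicGeometry TopologicalSpace
open Props

namespace Groth.Agent.S9817

open Groth.Agent.Lib.Helper3 QCSec InvGen InvTensor InvMonoidal TwistBasic TwistMul InvAmple TwistProj in
theorem mem_basicOpen_of_mem_genLocus_gsec {R A : Type u} [CommRing R] [CommRing A] [Algebra R A]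
    {𝒜 : ℕ → Submodule R A} [GradedAlgebra 𝒜] {d : ℕ} (g : 𝒜 d) (x : Proj 𝒜)
    (hx : x ∈ CohB1.genLocus (Twist.twist 𝒜 (d : ℤ)) (globalHom _ (gsec g)))
    (h : ∃ U : (Proj 𝒜).Opens, x ∈ U ∧ HasUnitFrac (d : ℤ) U) :
    x ∈ Proj.basicOpen 𝒜 (g : A) := by
  obtain ⟨W, hxW, hW⟩ := (mem_genLocus_iff _ x).mp hx
  obtain ⟨U, hxU, i, j, a, b, ha, hb, hd⟩ := h
  rw [sec_globalHom] at hW
  have hV := hW (W ⊓ U) inf_le_left
  rw [res_res, res_gsec] at hV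
  obtain ⟨c, hc⟩ := hV.2 (frac (W ⊓ U) a b (fun y => hb ⟨y.1, y.2.2⟩) (d : ℤ) hd)
  have h1 := congrArg (fun t => val t (⟨x, ⟨hxW, hxU⟩⟩ : (W ⊓ U : (Proj 𝒜).Opens))) hc
  dsimp only at h1
  rw [val_smul, val_frac, val_frac] at h1
  have hu : IsUnit (Localization.mk a.1 ⟨b.1, hb ⟨x, hxU⟩⟩ : Twist.Loc 𝒜 x) :=
    isUnit_mk_of_notMem a.1 b.1 (ha ⟨x, hxU⟩) (hb ⟨x, hxU⟩)
  rw [← h1] at hu
  have hu2 := isUnit_of_mul_isUnit_right hu
  have e1 : (Localization.mk g.1 ⟨1, one_notMem x⟩ : Twist.Loc 𝒜 x) =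
      algebraMap A (Twist.Loc 𝒜 x) g.1 := Localization.mk_one_eq_algebraMap g.1
  change IsUnit (Localization.mk g.1 ⟨1, one_notMem x⟩ : Twist.Loc 𝒜 x) at hu2
  rw [e1] at hu2
  have : x.asHomogeneousIdeal.toIdeal.IsPrime := x.isPrime
  exact (IsLocalization.AtPrime.isUnit_to_map_iff (Twist.Loc 𝒜 x)
    x.asHomogeneousIdeal.toIdeal g.1).mp hu2

theorem exists_pos_homogeneous_basicOpen {R A : Type u} [CommRing R] [CommRing A] [Algebra R A]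
    (𝒜 : ℕ → Submodule R A) [GradedAlgebra 𝒜] (x : Proj 𝒜) (U : (Proj 𝒜).Opens) (hx : x ∈ U) :
    ∃ (e : ℕ) (f : A), 0 < e ∧ f ∈ 𝒜 e ∧ x ∈ Proj.basicOpen 𝒜 f ∧ Proj.basicOpen 𝒜 f ≤ U := by
  classical
  obtain ⟨_, ⟨f, rfl⟩, hxf, hfU⟩ := Opens.isBasis_iff_nbhd.mp (Proj.isBasis_basicOpen 𝒜) hx
  have hxf' := hxf
  rw [Proj.basicOpen_eq_iSup_proj] at hxf'
  obtain ⟨i, hi⟩ := Opens.mem_iSup.mp hxf'
  have hle : Proj.basicOpen 𝒜 (GradedRing.proj 𝒜 i f) ≤ U := by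
    refine le_trans ?_ hfU
    rw [Proj.basicOpen_eq_iSup_proj 𝒜 f]
    exact le_iSup (fun i => Proj.basicOpen 𝒜 (GradedRing.proj 𝒜 i f)) i
  have hirr := x.not_irrelevant_le
  obtain ⟨h, hh, hhx⟩ := SetLike.not_le_iff_exists.mp hirr
  have hex : ∃ k, 0 < k ∧ (GradedRing.proj 𝒜 k h) ∉ x.asHomogeneousIdeal := by
    by_contra hcon
    push_neg at hcon
    apply hhx
    rw [← DirectSum.sum_support_decompose 𝒜 h]
    refine Ideal.sum_mem _ (fun k _ => ?_)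
    rcases Nat.eq_zero_or_pos k with rfl | hk
    · have h0 : GradedRing.proj 𝒜 0 h = 0 := (HomogeneousIdeal.mem_irrelevant_iff 𝒜 h).mp hh
      rw [GradedRing.proj_apply] at h0
      rw [h0]
      exact zero_mem _
    · exact hcon k hk
  obtain ⟨k, hk, hkx⟩ := hex
  refine ⟨i + k, GradedRing.proj 𝒜 i f * GradedRing.proj 𝒜 k h, by omega,
    SetLike.mul_mem_graded (SetLike.coe_mem _) (SetLike.coe_mem _), ?_, ?_⟩
  · rw [Proj.basicOpen_mul]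
    exact ⟨hi, (Proj.mem_basicOpen 𝒜 _ x).mpr hkx⟩
  · rw [Proj.basicOpen_mul]
    exact inf_le_left.trans hle

open Groth.Agent.Lib.Helper3 QCSec InvGen InvTensor InvMonoidal TwistBasic TwistMul InvAmple TwistProj InvRestrict in

/-- For a quasi-compact scheme X admitting an open immersion j into Proj of a graded ring, some positive
twist O(d) pulls back along j to an ample invertible module on X. -/
theorem result {R A : Type u} [CommRing R] [CommRing A]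
    [Algebra R A] (𝒜 : ℕ → Submodule R A) [GradedAlgebra 𝒜] (X : Scheme.{u}) [CompactSpace X]
    (j : X ⟶ Proj 𝒜) [IsOpenImmersion j] :
    ∃ d : ℕ, 0 < d ∧ CohB1.IsAmple ((Scheme.Modules.pullback j).obj (Twist.twist 𝒜 (d : ℤ))) := by
  classical
  have hA : ∀ x : X, ∃ (e : ℕ) (f : A), 0 < e ∧ f ∈ 𝒜 e ∧ j x ∈ Proj.basicOpen 𝒜 f ∧
      Proj.basicOpen 𝒜 f ≤ j.opensRange :=
    fun x => exists_pos_homogeneous_basicOpen 𝒜 (j x) j.opensRange ⟨x, rfl⟩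
  choose e f he hf hxf hfr using hA
  obtain ⟨t, ht⟩ := CompactSpace.elim_nhds_subcover
    (fun x => ((j ⁻¹ᵁ Proj.basicOpen 𝒜 (f x) : X.Opens) : Set X))
    (fun x => (j ⁻¹ᵁ Proj.basicOpen 𝒜 (f x)).2.mem_nhds (hxf x))
  have hcovt : ∀ y : X, ∃ x ∈ t, y ∈ j ⁻¹ᵁ Proj.basicOpen 𝒜 (f x) := by
    intro y
    have hy' : y ∈ ⋃ x' ∈ t, ((j ⁻¹ᵁ Proj.basicOpen 𝒜 (f x') : X.Opens) : Set X) :=
      ht ▸ Set.mem_univ y
    obtain ⟨x', hx', hyx'⟩ := Set.mem_iUnion₂.mp hy'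
    exact ⟨x', hx', hyx'⟩
  let d := ∏ x ∈ t, e x
  have hd : 0 < d := Finset.prod_pos (fun x _ => he x)
  have hdvd : ∀ x ∈ t, e x ∣ d := fun x hx => Finset.dvd_prod_of_mem e hx
  let gA : X → A := fun x => f x ^ (d / e x)
  have hg : ∀ x ∈ t, gA x ∈ 𝒜 d := fun x hx => by
    have := SetLike.pow_mem_graded (d / e x) (hf x)
    rwa [smul_eq_mul, Nat.div_mul_cancel (hdvd x hx)] at this
  have hgD : ∀ x ∈ t, Proj.basicOpen 𝒜 (gA x) = Proj.basicOpen 𝒜 (f x) := fun x hx =>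
    Proj.basicOpen_pow 𝒜 _ _ (Nat.div_pos (Nat.le_of_dvd hd (hdvd x hx)) (he x))
  refine ⟨d, hd, ?_⟩
  refine isAmple_of_iso ((Scheme.Modules.restrictFunctorIsoPullback j).app
    (Twist.twist 𝒜 (d : ℤ))) ?_
  have key : ∀ x (hx : x ∈ t), CohB1.genLocus ((Twist.twist 𝒜 (d : ℤ)).restrict j)
      (restrictSec j (globalHom (Twist.twist 𝒜 (d : ℤ)) (gsec (⟨gA x, hg x hx⟩ : 𝒜 d)))) =
      j ⁻¹ᵁ Proj.basicOpen 𝒜 (f x) := by
    intro x hx
    rw [genLocus_restrictSec, ← hgD x hx]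
    ext y
    constructor
    · intro hy
      obtain ⟨x', hx', hyx'⟩ := hcovt y
      exact mem_basicOpen_of_mem_genLocus_gsec (⟨gA x, hg x hx⟩ : 𝒜 d) (j y) hy
        ⟨Proj.basicOpen 𝒜 (gA x'), by rw [hgD x' hx']; exact hyx',
          hasUnitFrac_basicOpen (hg x' hx')⟩
    · intro hy
      exact (le_genLocus _ (by
        rw [sec_globalHom]
        exact isGen_res_gsec (⟨gA x, hg x hx⟩ : 𝒜 d) le_rfl)) hy
  have hcov : ∀ y : X, ∃ x, ∃ hx : x ∈ t, y ∈ CohB1.genLocus ((Twist.twist 𝒜 (d : ℤ)).restrict j)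
      (restrictSec j (globalHom (Twist.twist 𝒜 (d : ℤ)) (gsec (⟨gA x, hg x hx⟩ : 𝒜 d)))) := by
    intro y
    obtain ⟨x', hx', hyx'⟩ := hcovt y
    exact ⟨x', hx', by rw [key x' hx']; exact hyx'⟩
  have hinv : PicF.IsInvertible ((Twist.twist 𝒜 (d : ℤ)).restrict j) := by
    apply isInvertible_of_isGen
    intro y
    obtain ⟨x, hx, hy⟩ := hcov y
    exact ⟨_, _, hy, isGen_genLocus _⟩
  apply isAmple_of_secLocus hinv
  intro y
  obtain ⟨x, hx, hy⟩ := hcov y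
  refine ⟨_, ⟨0, restrictSec j (globalHom (Twist.twist 𝒜 (d : ℤ))
    (gsec (⟨gA x, hg x hx⟩ : 𝒜 d))) ≫ (powOne _).hom, rfl⟩, ?_, ?_⟩
  · rw [genLocus_comp_iso]; exact hy
  · rw [genLocus_comp_iso, key x hx]
    exact (Proj.isAffineOpen_basicOpen 𝒜 (f x) (hf x) (he x)).preimage_of_isOpenImmersion j (hfr x)

end Groth.Agent.S9817
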