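import Groth.Statements.S9818
import Groth.Agent.Lib.Helper3.QCPush
import Groth.Agent.Lib.Helper3.QCLim

set_option autoImplicit false
universe u
open CategoryTheory CategoryTheory.Limits AlgebraicGeometry TopologicalSpace Opposite
open Props

namespace Groth.Agent.S9818

open CategoryTheory CategoryTheory.Limits AlgebraicGeometry TopologicalSpace Opposite
open Groth.Agent.Lib.Helper3

/-- For an open subscheme U of a scheme X with quasi-compact inclusion, a quasi-coherent module G on U
with a map to the restriction of a quasi-coherent module F on X extends to a quasi-coherent module H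
on X with a map to F restricting to the given one. Taking F = 0, every quasi-coherent module on U
extends to a quasi-coherent module on X. -/
theorem result {X : Scheme.{u}} (U : X.Opens) [QuasiCompact U.ι]
    (F : X.Modules) [Coh.IsQCoh F] (G : (U : Scheme.{u}).Modules) [Coh.IsQCoh G] (φ : G ⟶ F.restrict U.ι) :
    ∃ (H : X.Modules) (ψ : H ⟶ F) (e : H.restrict U.ι ≅ G), Coh.IsQCoh H ∧
      e.hom ≫ φ = (Scheme.Modules.restrictFunctor U.ι).map ψ := by
  haveI : F.IsQuasicoherent := ‹Coh.IsQCoh F›
  haveI : G.IsQuasicoherent := ‹Coh.IsQCoh G›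
  let adj := Scheme.Modules.restrictAdjunction U.ι
  let a : (Scheme.Modules.pushforward U.ι).obj G ⟶
      (Scheme.Modules.pushforward U.ι).obj (F.restrict U.ι) :=
    (Scheme.Modules.pushforward U.ι).map φ
  let b : F ⟶ (Scheme.Modules.pushforward U.ι).obj (F.restrict U.ι) := adj.unit.app F
  haveI hA : ((Scheme.Modules.pushforward U.ι).obj G).IsQuasicoherent :=
    QCSec.isQuasicoherent_pushforward U.ι G
  haveI hFr : (F.restrict U.ι).IsQuasicoherent :=
    Scheme.Modules.isQuasicoherent_restrictFunctor U.ι F
  haveI hC : ((Scheme.Modules.pushforward U.ι).obj (F.restrict U.ι)).IsQuasicoherent :=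
    QCSec.isQuasicoherent_pushforward U.ι (F.restrict U.ι)
  have hH : (pullback a b : X.Modules).IsQuasicoherent := QCLim.isQuasicoherent_pullback a b
  have hpb : IsPullback (pullback.fst a b) (pullback.snd a b) a b := IsPullback.of_hasPullback a b
  have hpb' := hpb.map (Scheme.Modules.restrictFunctor U.ι)
  have htri : (Scheme.Modules.restrictFunctor U.ι).map b ≫
      adj.counit.app ((Scheme.Modules.restrictFunctor U.ι).obj F) = 𝟙 _ :=
    adj.left_triangle_components F
  haveI hcou : ∀ N, IsIso (adj.counit.app N) := fun N => inferInstance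
  have hb : IsIso ((Scheme.Modules.restrictFunctor U.ι).map b) := by
    haveI : IsIso ((Scheme.Modules.restrictFunctor U.ι).map b ≫
        adj.counit.app ((Scheme.Modules.restrictFunctor U.ι).obj F)) := by
      rw [htri]; infer_instance
    exact IsIso.of_isIso_comp_right _ (adj.counit.app ((Scheme.Modules.restrictFunctor U.ι).obj F))
  have hfst : IsIso ((Scheme.Modules.restrictFunctor U.ι).map (pullback.fst a b)) :=
    hpb'.isIso_fst_of_isIso hb
  let e1 : (Scheme.Modules.restrictFunctor U.ι).obj (pullback a b) ≅
      (Scheme.Modules.restrictFunctor U.ι).obj ((Scheme.Modules.pushforward U.ι).obj G) :=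
    @asIso _ _ _ _ _ hfst
  let e2 : (Scheme.Modules.restrictFunctor U.ι).obj ((Scheme.Modules.pushforward U.ι).obj G) ≅ G :=
    @asIso _ _ _ _ (adj.counit.app G) (hcou G)
  refine ⟨pullback a b, pullback.snd a b, e1 ≪≫ e2, hH, ?_⟩
  have hnat : (Scheme.Modules.restrictFunctor U.ι).map a ≫
      adj.counit.app ((Scheme.Modules.restrictFunctor U.ι).obj F) = adj.counit.app G ≫ φ :=
    adj.counit.naturality φ
  have hw := hpb'.w
  calc (e1 ≪≫ e2).hom ≫ φ
      = (Scheme.Modules.restrictFunctor U.ι).map (pullback.fst a b) ≫ (adj.counit.app G ≫ φ) := by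
        simp [e1, e2]
    _ = ((Scheme.Modules.restrictFunctor U.ι).map (pullback.fst a b) ≫
          (Scheme.Modules.restrictFunctor U.ι).map a) ≫
          adj.counit.app ((Scheme.Modules.restrictFunctor U.ι).obj F) := by
        rw [← hnat, Category.assoc]
    _ = ((Scheme.Modules.restrictFunctor U.ι).map (pullback.snd a b) ≫
          (Scheme.Modules.restrictFunctor U.ι).map b) ≫
          adj.counit.app ((Scheme.Modules.restrictFunctor U.ι).obj F) := by
        rw [hw]
    _ = (Scheme.Modules.restrictFunctor U.ι).map (pullback.snd a b) := by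
        rw [Category.assoc, htri, Category.comp_id]

end Groth.Agent.S9818
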