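import Groth.Statements.S9821
import Mathlib.RingTheory.LocalProperties.IntegrallyClosed

set_option autoImplicit false
universe u
open CategoryTheory CategoryTheory.Limits AlgebraicGeometry TopologicalSpace Opposite
open Props

namespace Groth.Agent.S9821

/-- An integral scheme is normal if and only if the coordinate ring of every nonempty affine open is an
integrally closed domain. -/
theorem result (X : Scheme.{u}) [IsIntegral X] :
    Pi1.IsNormalScheme X ↔ ∀ (U : X.Opens) [Nonempty U], IsAffineOpen U → IsIntegrallyClosed Γ(X, U) := by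
  constructor
  · intro hN U _ hU
    have hmem : ∀ y : PrimeSpectrum Γ(X, U), hU.fromSpec y ∈ U := fun y => (hU.isoSpec.inv y).2
    exact @IsIntegrallyClosed.of_isLocalization_maximal Γ(X, U) _
      (fun P hP => X.presheaf.stalk (hU.fromSpec ⟨P, hP.isPrime⟩))
      (fun P hP => inferInstance)
      (fun P hP => TopCat.Presheaf.algebra_section_stalk X.presheaf
        (⟨hU.fromSpec ⟨P, hP.isPrime⟩, hmem _⟩ : U))
      (fun P hP => hU.isLocalization_stalk' ⟨P, hP.isPrime⟩ (hmem _)) inferInstance
      (fun P hP => (hN _).2)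
  · intro h x
    obtain ⟨_, ⟨(U : X.Opens), hU : IsAffineOpen U, rfl⟩, hxU, -⟩ :=
      X.isBasis_affineOpens.exists_subset_of_mem_open (Set.mem_univ x) isOpen_univ
    have : Nonempty U := ⟨⟨x, hxU⟩⟩
    have hic : IsIntegrallyClosed Γ(X, U) := h U hU
    let : Algebra Γ(X, U) (X.presheaf.stalk x) :=
      TopCat.Presheaf.algebra_section_stalk X.presheaf (⟨x, hxU⟩ : U)
    have hloc : IsLocalization.AtPrime (X.presheaf.stalk x) (hU.primeIdealOf ⟨x, hxU⟩).asIdeal :=
      hU.isLocalization_stalk ⟨x, hxU⟩
    refine ⟨inferInstance, ?_⟩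
    exact isIntegrallyClosed_of_isLocalization (X.presheaf.stalk x)
      (hU.primeIdealOf ⟨x, hxU⟩).asIdeal.primeCompl
      (hU.primeIdealOf ⟨x, hxU⟩).asIdeal.primeCompl_le_nonZeroDivisors

end Groth.Agent.S9821
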