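import Groth.Statements.S9822
import Mathlib.AlgebraicGeometry.Limits

set_option autoImplicit false
universe u
open CategoryTheory CategoryTheory.Limits AlgebraicGeometry TopologicalSpace Opposite
open Props

namespace Groth.Agent.S9822

/-- A scheme is irreducible if and only if it is nonempty and every nonempty affine open subset is
irreducible. -/
theorem result (X : Scheme.{u}) :
    IrreducibleSpace X ↔ Nonempty X ∧ ∀ U : X.Opens, IsAffineOpen U → (U : Set X).Nonempty → IsIrreducible (U : Set X) := by
  constructor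
  · intro h
    refine ⟨inferInstance, fun U _ hne => ⟨hne, ?_⟩⟩
    exact (PreirreducibleSpace.isPreirreducible_univ (X := X)).open_subset U.isOpen (Set.subset_univ _)
  · rintro ⟨hne, h⟩
    have hpre : PreirreducibleSpace X := by
      constructor
      rintro u v hu hv ⟨x, -, hxu⟩ ⟨y, -, hyv⟩
      by_contra hcon
      obtain ⟨_, ⟨(U : X.Opens), hU : IsAffineOpen U, rfl⟩, hxU, hUu⟩ :=
        X.isBasis_affineOpens.exists_subset_of_mem_open hxu hu
      obtain ⟨_, ⟨(V : X.Opens), hV : IsAffineOpen V, rfl⟩, hyV, hVv⟩ :=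
        X.isBasis_affineOpens.exists_subset_of_mem_open hyv hv
      have hdisj : Disjoint U V := by
        rw [← TopologicalSpace.Opens.coe_disjoint, Set.disjoint_left]
        intro z hzU hzV
        exact hcon ⟨z, trivial, hUu hzU, hVv hzV⟩
      have hW : IsAffineOpen (U ⊔ V) := hU.sup_of_disjoint hV hdisj
      have hirr := h (U ⊔ V) hW ⟨x, Or.inl hxU⟩
      obtain ⟨z, -, hzU, hzV⟩ := hirr.2 U V U.isOpen V.isOpen ⟨x, Or.inl hxU, hxU⟩ ⟨y, Or.inr hyV, hyV⟩
      exact (Set.disjoint_left.mp ((TopologicalSpace.Opens.coe_disjoint).mpr hdisj)) hzU hzV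
    exact { toPreirreducibleSpace := hpre, toNonempty := hne }

end Groth.Agent.S9822
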