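import Groth.Statements.S9823
import Mathlib
import Groth.Agent.Lib.Helper3.SubIdeal


set_option autoImplicit false
universe u
open CategoryTheory CategoryTheory.Limits AlgebraicGeometry TopologicalSpace Opposite
open Props

namespace Groth.Agent.S9823

open CategoryTheory.Limits TopologicalSpace Opposite Scheme.Modules
open Groth.Agent.Lib.Helper3 Groth.Agent.Lib.Helper3.QCSec Groth.Agent.Lib.Helper3.InvGen
  Groth.Agent.Lib.Helper3.FreeSec Groth.Agent.Lib.Helper3.IdealMod
  Groth.Agent.Lib.Helper3.SubIdeal

/-- generalization of `IdealMod.exists_finiteType_ideal` to quasi-compact opens -/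
theorem exists_finiteType_ideal' {X : Scheme.{u}} [CompactSpace X] [QuasiSeparatedSpace X]
    {U : X.Opens} (hU : IsCompact (U : Set X)) :
    ∃ (J : X.Modules) (j : J ⟶ Coh.structureModule X), Mono j ∧ Coh.IsQCoh J ∧ CohB1.IsFT J ∧
      (∃ e : Γ(J, U), valOf j e = 1) ∧
      ∀ (W' : X.Opens) (σ : Γ(J, W')),
        Disjoint (X.basicOpen (valOf j σ) : Set X) ((U : Set X)ᶜ) := by
  let Z : TopologicalSpace.Closeds X := ⟨(U : Set X)ᶜ, U.isOpen.isClosed_compl⟩
  let I := Scheme.IdealSheafData.vanishingIdeal Z
  have hsupp : (I.support : Set X) = (U : Set X)ᶜ :=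
    Scheme.IdealSheafData.coe_support_vanishingIdeal Z
  obtain ⟨e, he⟩ := exists_val_eq_one I (U := U) (by rw [hsupp]; exact disjoint_compl_right)
  have hg : IsGen (ClSub.idealMod I) U e := isGen_of_valOf_eq_one (ClSub.idealModι I) e he
  haveI := isIso_homOfSec hg
  haveI : ((ClSub.idealMod I).restrict U.ι).IsFiniteType :=
    QCProps.isFiniteType_of_iso (asIso (homOfSec (ClSub.idealMod I) U e))
  haveI : ((ClSub.idealMod I).restrict U.ι).IsQuasicoherent :=
    Scheme.Modules.isQuasicoherent_restrictFunctor U.ι (ClSub.idealMod I)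
  obtain ⟨F, i, eF, hmono, hqc, hft, hcomp⟩ := QCExtend.exists_finiteType_extension U hU
    (ClSub.idealMod I) ((ClSub.idealMod I).restrict U.ι) inferInstance (𝟙 _)
  haveI := hmono
  haveI : IsIso ((restrictFunctor U.ι).map i) := by
    rw [← hcomp, Category.comp_id]; infer_instance
  refine ⟨F, i ≫ ClSub.idealModι I, mono_comp _ _, hqc, hft, ?_, ?_⟩
  · obtain ⟨e', he'⟩ := surjective_app_of_isIso_restrict i U le_rfl e
    refine ⟨e', ?_⟩
    change val I (i.app U e') = 1
    rw [he', he]
  · intro W' σ
    rw [← hsupp]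
    exact disjoint_basicOpen_val I (i.app W' σ)

theorem compact_of_fg (X : Scheme.{u}) [CompactSpace X] (U : X.Opens) (I : X.IdealSheafData)
    (hfg : ∀ V : X.affineOpens, (I.ideal V).FG) (hsupp : (I.support : Set X) = (U : Set X)ᶜ) :
    IsCompact (U : Set X) := by
  classical
  have key : ∀ V : X.affineOpens, IsCompact ((U : Set X) ∩ (V.1 : Set X)) := by
    intro V
    obtain ⟨s, hs⟩ := hfg V
    have h1 : (U : Set X) ∩ V.1 = ⋃ f ∈ s, (X.basicOpen f : Set X) := by
      ext x
      simp only [Set.mem_inter_iff, Set.mem_iUnion, SetLike.mem_coe, exists_prop]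
      constructor
      · rintro ⟨hxU, hxV⟩
        have hx : x ∉ I.support := by
          intro h
          have : x ∈ (I.support : Set X) := h
          rw [hsupp] at this
          exact this hxU
        rw [Scheme.IdealSheafData.mem_support_iff_of_mem (U := V) hxV, ← hs] at hx
        have hx' : x ∉ X.zeroLocus (U := V.1) (s : Set Γ(X, V.1)) := by
          rw [← Scheme.zeroLocus_span]; exact hx
        rw [Scheme.mem_zeroLocus_iff] at hx'
        push_neg at hx'
        obtain ⟨f, hf, hxf⟩ := hx'
        exact ⟨f, hf, hxf⟩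
      · rintro ⟨f, hf, hxf⟩
        have hxV : x ∈ V.1 := X.basicOpen_le f hxf
        refine ⟨?_, hxV⟩
        by_contra hxU
        have hx : x ∈ I.support := by
          change x ∈ (I.support : Set X)
          rw [hsupp]; exact hxU
        rw [Scheme.IdealSheafData.mem_support_iff_of_mem (U := V) hxV,
          Scheme.mem_zeroLocus_iff] at hx
        exact hx f (hs ▸ Submodule.subset_span hf) hxf
    rw [h1]
    exact s.finite_toSet.isCompact_biUnion (fun f _ => (V.2.basicOpen f).isCompact)
  choose V hV hxV using fun x : X => QCProps.exists_affine_nbhd x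
  obtain ⟨t, ht⟩ := isCompact_univ.elim_finite_subcover (fun x : X => ((V x : X.Opens) : Set X))
    (fun x => (V x).isOpen) (fun x _ => Set.mem_iUnion.mpr ⟨x, hxV x⟩)
  have h2 : (U : Set X) = ⋃ x ∈ t, ((U : Set X) ∩ (V x : Set X)) := by
    ext y
    simp only [Set.mem_iUnion, Set.mem_inter_iff, exists_prop]
    constructor
    · intro hy
      obtain ⟨x, hx⟩ := Set.mem_iUnion.mp (ht (Set.mem_univ y))
      obtain ⟨hxt, hyx⟩ := Set.mem_iUnion.mp hx
      exact ⟨x, hxt, hy, hyx⟩
    · rintro ⟨x, _, hy, _⟩; exact hy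
  rw [h2]
  exact t.finite_toSet.isCompact_biUnion (fun x _ => key ⟨V x, hV x⟩)

/-- In a quasi-compact quasi-separated scheme, an open subset is quasi-compact exactly when its
complement is the support of some quasi-coherent ideal sheaf of finite type. -/
theorem result (X : Scheme.{u}) [CompactSpace X] [QuasiSeparatedSpace X]
    (U : X.Opens) :
    IsCompact (U : Set X) ↔
      ∃ I : X.IdealSheafData, (∀ V : X.affineOpens, (I.ideal V).FG) ∧ (I.support : Set X) = (U : Set X)ᶜ := by
  constructor
  · intro hU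
    obtain ⟨J, j, hmono, hqc, hft, ⟨e, he⟩, hdisj⟩ := exists_finiteType_ideal' hU
    haveI : J.IsQuasicoherent := hqc
    haveI : J.IsFiniteType := hft
    refine ⟨idealOfSub j, isFiniteTypeIdeal_idealOfSub j, ?_⟩
    ext x
    simp only [Set.mem_compl_iff, SetLike.mem_coe]
    constructor
    · intro hx hxU
      obtain ⟨U', hU', hxU', hle⟩ := Opens.isBasis_iff_nbhd.mp X.isBasis_affineOpens hxU
      exact notMem_support_idealOfSub j hU' (res J hle e)
        (by rw [valOf_res, he, rres_one]) hxU' hx
    · intro hxU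
      exact mem_support_idealOfSub j hdisj hxU
  · rintro ⟨I, hfg, hsupp⟩
    exact compact_of_fg X U I hfg hsupp

end Groth.Agent.S9823
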