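import Groth.Statements.S9826
import Groth.Agent.Lib.Helper3.QCTilde

set_option autoImplicit false
universe u
open CategoryTheory CategoryTheory.Limits AlgebraicGeometry TopologicalSpace Opposite
open Props

namespace Groth.Agent.S9826

open CategoryTheory CategoryTheory.Limits AlgebraicGeometry TopologicalSpace Opposite
open Groth.Agent.Lib.Helper3

/-- The sheaf associated to a module over a ring is of finite type on the spectrum if and only if the
module is finitely generated. -/
theorem result (R : CommRingCat.{u}) (M : ModuleCat.{u} R) :
    CohB1.IsFT (tilde M) ↔ Module.Finite R M := by
  constructor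
  · intro h
    have : (tilde M).IsFiniteType := h
    have h1 := QCTilde.finite_of_isFiniteType (tilde M)
    exact Module.Finite.equiv (tilde.isoTop M).toLinearEquiv.symm
  · intro h
    obtain ⟨σ, hσ⟩ := QCTilde.exists_finite_generatingSections_tilde M
    constructor
    refine ⟨σ.localGeneratorsData, ?_⟩
    constructor
    intro x
    exact ⟨hσ.finite⟩

end Groth.Agent.S9826
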