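import Groth.Statements.S9827
import Groth.Agent.Lib.Helper3.QCTilde

set_option autoImplicit false
universe u
open CategoryTheory CategoryTheory.Limits AlgebraicGeometry TopologicalSpace Opposite
open Props

namespace Groth.Agent.S9827

open CategoryTheory CategoryTheory.Limits AlgebraicGeometry TopologicalSpace Opposite
open Groth.Agent.Lib.Helper3

/-- The sheaf associated to a module over a ring is of finite presentation on the spectrum if and only
if the module is finitely presented. -/
theorem result (R : CommRingCat.{u}) (M : ModuleCat.{u} R) :
    CohB1.IsFP (tilde M) ↔ Module.FinitePresentation R M := by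
  constructor
  · intro h
    have : SheafOfModules.IsFinitePresentation (R := (Spec R).ringCatSheaf) (tilde M) := h
    have h1 := QCTilde.finitePresentation_of_isFinitePresentation (tilde M)
    exact Module.FinitePresentation.of_equiv (tilde.isoTop M).toLinearEquiv.symm
  · intro h
    obtain ⟨P, hP⟩ := QCTilde.exists_finite_presentation_tilde M
    constructor
    refine ⟨P.quasicoherentData, ?_⟩
    constructor
    intro x
    exact ⟨⟨hP.isFiniteType_generators.finite⟩, ⟨hP.isFiniteType_relations.finite⟩⟩

end Groth.Agent.S9827
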