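import Groth.Statements.S9832
import Groth.Agent.Lib.Helper6.ArtinTate

set_option autoImplicit false
universe u
open Props

namespace Groth.Agent.S9832

/-- For a Noetherian ring R and an ideal I inside the Jacobson radical of R, the complement of V(I) in
Spec R is a Jacobson topological space. -/
theorem result (R : Type u) [CommRing R] [IsNoetherianRing R]
    (I : Ideal R) (hI : I ≤ (⊥ : Ideal R).jacobson) :
    JacobsonSpace ↥((PrimeSpectrum.zeroLocus (I : Set R))ᶜ) := by
  refine Groth.Agent.Lib.Helper6.jacobsonSpace_compl.{u, u} ?_ (PrimeSpectrum.isClosed_zeroLocus _) ?_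
  · intro x
    exact ⟨Set.univ, isOpen_univ, trivial, R, inferInstance, inferInstance,
      ⟨Homeomorph.Set.univ _⟩⟩
  · intro Z hZ hne
    obtain ⟨J, rfl⟩ := (PrimeSpectrum.isClosed_iff_zeroLocus_ideal Z).mp hZ
    have hJ : J ≠ ⊤ := by
      rintro rfl
      simp at hne
    obtain ⟨m, hm, hJm⟩ := Ideal.exists_le_maximal J hJ
    refine ⟨⟨m, hm.isPrime⟩, ?_, ?_⟩
    · exact hJm
    · intro r hr
      have h1 : r ∈ (⊥ : Ideal R).jacobson := hI hr
      rw [Ideal.jacobson, Ideal.mem_sInf] at h1
      exact h1 ⟨bot_le, hm⟩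

end Groth.Agent.S9832
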