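import Groth.Statements.S9834
-- import your own Groth.Agent.* helpers here
import Mathlib
import Groth.Agent.Lib.Helper12.NagataLoc

set_option autoImplicit false
universe u
open CategoryTheory AlgebraicGeometry TopologicalSpace
open Props

namespace Groth.Agent.S9834

/-- If a scheme has an affine open covering by spectra of universally Japanese rings, then the
coordinate ring of every affine open is universally Japanese. -/
theorem result (X : Scheme.{u}) {ι : Type u} (U : ι → X.Opens)
    (hU : iSup U = ⊤) (haff : ∀ i, IsAffineOpen (U i)) (hJ : ∀ i, CAlg.IsUniversallyJapanese Γ(X, U i))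
    (V : X.Opens) (hV : IsAffineOpen V) : CAlg.IsUniversallyJapanese Γ(X, V) := by
  classical
  refine Groth.Agent.Lib.Helper12.AffLocal.affine_local X (fun R _ => CAlg.IsUniversallyJapanese R)
    (fun R R' _ _ e h => Groth.Agent.Lib.Helper12.NagataLoc.isUniversallyJapanese_of_ringEquiv e h)
    (fun W f h => Groth.Agent.S9398.result _ h (Localization.Away f))
    ?_ U hU haff hJ V hV
  intro W s hs h
  refine Groth.Agent.S9399.result Γ(X, W) (ι := {x // x ∈ s}) (fun i => i.1) ?_ (fun i => h i.1 i.2)
  rw [Subtype.range_coe_subtype]
  exact hs

end Groth.Agent.S9834
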