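import Groth.Statements.S9838
import Mathlib
import Groth.Agent.Lib.Helper17.FinPushFP

set_option autoImplicit false
open CategoryTheory CategoryTheory.Limits AlgebraicGeometry Opposite
universe u
open Desc

namespace Groth.Agent.S9838

open AlgebraicGeometry CategoryTheory.Limits TopologicalSpace Opposite in
open Groth.Agent.Lib.Helper3 in
theorem finite_sections_push_iff {X Y : Scheme.{u}} (f : X ⟶ Y) [IsFinite f]
    (F : X.Modules) {V : Y.Opens} (hV : IsAffineOpen V) :
    Module.Finite Γ(Y, V) Γ((Scheme.Modules.pushforward f).obj F, V) ↔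
      Module.Finite Γ(X, f ⁻¹ᵁ V) Γ(F, f ⁻¹ᵁ V) := by
  letI alg : Algebra Γ(Y, V) Γ(X, f ⁻¹ᵁ V) := (f.app V).hom.toAlgebra
  letI mod : Module Γ(Y, V) Γ(F, f ⁻¹ᵁ V) := Module.compHom _ (f.app V).hom
  haveI : IsScalarTower Γ(Y, V) Γ(X, f ⁻¹ᵁ V) Γ(F, f ⁻¹ᵁ V) :=
    IsScalarTower.of_algebraMap_smul fun _ _ => rfl
  haveI hfin : Module.Finite Γ(Y, V) Γ(X, f ⁻¹ᵁ V) := f.finite_app V hV
  let e : Γ((Scheme.Modules.pushforward f).obj F, V) ≃ₗ[Γ(Y, V)] Γ(F, f ⁻¹ᵁ V) :=
    { toFun := fun m => m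
      invFun := fun m => m
      map_add' := fun _ _ => rfl
      map_smul' := fun _ _ => rfl
      left_inv := fun _ => rfl
      right_inv := fun _ => rfl }
  constructor
  · intro h
    haveI : Module.Finite Γ(Y, V) Γ(F, f ⁻¹ᵁ V) := Module.Finite.equiv e
    exact Module.Finite.of_restrictScalars_finite Γ(Y, V) Γ(X, f ⁻¹ᵁ V) Γ(F, f ⁻¹ᵁ V)
  · intro h
    haveI : Module.Finite Γ(Y, V) Γ(F, f ⁻¹ᵁ V) :=
      Module.Finite.trans Γ(X, f ⁻¹ᵁ V) Γ(F, f ⁻¹ᵁ V)
    exact Module.Finite.equiv e.symm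

/-- Let f : X ⟶ Y be a finite morphism of schemes and F a quasi-coherent O_X-module. The pushforward
f_*F is of finite type as an O_Y-module exactly when F itself is of finite type as an O_X-module. -/
theorem result {X Y : Scheme.{u}} (f : X ⟶ Y) [IsFinite f]
    (F : X.Modules) [F.IsQuasicoherent] :
    SheafOfModules.IsFiniteType (R := X.ringCatSheaf) F ↔
      SheafOfModules.IsFiniteType (R := Y.ringCatSheaf) ((Scheme.Modules.pushforward f).obj F) := by
  haveI : ((Scheme.Modules.pushforward f).obj F).IsQuasicoherent :=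
    Groth.Agent.Lib.Helper3.QCSec.isQuasicoherent_pushforward f F
  constructor
  · intro h
    rw [Groth.Agent.Lib.Helper3.QCProps.isFiniteType_iff_finite_sections]
    intro V hV
    rw [finite_sections_push_iff f F hV]
    exact Groth.Agent.Lib.Helper3.QCProps.finite_sections F (hV.preimage f)
  · intro h
    apply Groth.Agent.Lib.Helper3.QCProps.isFiniteType_of_charts
    intro x
    obtain ⟨V, hV, hxV⟩ := Groth.Agent.Lib.Helper3.QCProps.exists_affine_nbhd (f x)
    refine ⟨f ⁻¹ᵁ V, hV.preimage f, hxV, inferInstance, ?_⟩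
    rw [← finite_sections_push_iff f F hV]
    exact Groth.Agent.Lib.Helper3.QCProps.finite_sections _ hV

end Groth.Agent.S9838
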