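import Groth.Statements.S9839
import Groth.Agent.Lib.Helper16.FpqcOpen
open Groth.Agent.Lib.Helper16

set_option autoImplicit false
open CategoryTheory CategoryTheory.Limits AlgebraicGeometry Opposite
universe u
open Desc

namespace Groth.Agent.S9839

/-- Let f i : T i ⟶ T be an fpqc covering family of a scheme T (a family in the fpqc precoverage) and W
i ⊆ T i open subsets such that for all i, j the inverse images of W i and W j under the two
projections of T i ×_T T j coincide. Then there is a unique open subset W ⊆ T with (f i)⁻¹(W) = W i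
for every i. -/
theorem result {ι : Type u} {T : Scheme.{u}} {Ti : ι → Scheme.{u}}
    (f : ∀ i, Ti i ⟶ T) (hf : Presieve.ofArrows Ti f ∈ Scheme.fpqcPrecoverage T)
    (W : ∀ i, (Ti i).Opens)
    (hW : ∀ i j, (pullback.fst (f i) (f j)) ⁻¹ᵁ (W i) = (pullback.snd (f i) (f j)) ⁻¹ᵁ (W j)) :
    ∃! V : T.Opens, ∀ i, (f i) ⁻¹ᵁ V = W i := by
  have hsurj := fpqc_cover_surjective f hf
  obtain ⟨s, hs⟩ : ∃ s : Set T, s = ⋃ i, (f i) '' (W i : Set (Ti i)) := ⟨_, rfl⟩
  have hpre : ∀ i, (f i) ⁻¹' s = W i := by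
    intro i
    ext t
    simp only [Set.mem_preimage, hs, Set.mem_iUnion, Set.mem_image]
    constructor
    · rintro ⟨j, w, hw, hwt⟩
      obtain ⟨z, hz1, hz2⟩ :=
        Scheme.Pullback.exists_preimage_pullback (f := f i) (g := f j) t w hwt.symm
      have hz : z ∈ (pullback.snd (f i) (f j)) ⁻¹ᵁ (W j) := by
        show pullback.snd (f i) (f j) z ∈ W j
        rw [hz2]
        exact hw
      rw [← hW i j] at hz
      have h' : pullback.fst (f i) (f j) z ∈ W i := hz
      rwa [hz1] at h'
    · intro ht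
      exact ⟨i, t, ht, rfl⟩
  have hopen : IsOpen s := isOpen_of_fpqc_cover f hf s (fun i => by
    rw [hpre i]
    exact (W i).2)
  refine ⟨⟨s, hopen⟩, fun i => ?_, fun V' hV' => ?_⟩
  · ext t
    exact Set.ext_iff.1 (hpre i) t
  · ext y
    obtain ⟨i, t, rfl⟩ := hsurj y
    have h1 : f i t ∈ V' ↔ t ∈ W i := by
      rw [← hV' i]
      rfl
    have h2 : f i t ∈ s ↔ t ∈ W i := by
      have := Set.ext_iff.1 (hpre i) t
      exact this
    exact h1.trans h2.symm

end Groth.Agent.S9839
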