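import Groth.Statements.S9842
import Groth.Agent.Lib.Helper16.FppfTop
open Groth.Agent.Lib.Helper16

set_option autoImplicit false
open CategoryTheory CategoryTheory.Limits AlgebraicGeometry Opposite
universe u
open Desc

namespace Groth.Agent.S9842

/-- Let E/k be a field extension, Y a scheme over k and f : X ⟶ Y a morphism. Writing Y_E = Y ×_k Spec
E, the morphism f is dominant if and only if its base change X ×_Y Y_E ⟶ Y_E is dominant. -/
theorem result {k E : Type u} [Field k] [Field E] [Algebra k E]
    {X Y : Scheme.{u}} (f : X ⟶ Y) (q : Y ⟶ Spec (.of k)) :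
    IsDominant f ↔
      IsDominant (pullback.snd f (pullback.fst q (Spec.map (CommRingCat.ofHom (algebraMap k E))))) := by
  have hne : Nonempty (Spec (CommRingCat.of E)) := inferInstance
  obtain ⟨z⟩ := hne
  haveI : Surjective (Spec.map (CommRingCat.ofHom (algebraMap k E))) :=
    ⟨fun x => ⟨z, Subsingleton.elim (α := ↥(Spec (CommRingCat.of k))) _ _⟩⟩
  have key : IsDominant f ↔ ∀ _ : PUnit.{1},
      IsDominant (pullback.snd f (pullback.fst q (Spec.map (CommRingCat.ofHom (algebraMap k E))))) :=
    isDominant_iff_of_open_cover f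
      (fun _ : PUnit.{1} => pullback.fst q (Spec.map (CommRingCat.ofHom (algebraMap k E))))
      (fun _ => (pullback.fst q (Spec.map (CommRingCat.ofHom (algebraMap k E)))).isOpenMap)
      (fun y => ⟨⟨⟩, (pullback.fst q (Spec.map (CommRingCat.ofHom (algebraMap k E)))).surjective y⟩)
  exact key.trans ⟨fun h => h ⟨⟩, fun h _ => h⟩

end Groth.Agent.S9842
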