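import Groth.Statements.S9845
import Groth.Agent.Lib.Helper16.FppfTop
open Groth.Agent.Lib.Helper16

set_option autoImplicit false
open CategoryTheory CategoryTheory.Limits AlgebraicGeometry Opposite
universe u
open Desc

namespace Groth.Agent.S9845

/-- Being an open morphism (open underlying map) is fppf local on the source: for every fppf covering
family g i : X i ⟶ X, a morphism f : X ⟶ Y has open underlying map if and only if every composite g
i ≫ f does. -/
theorem result :
    MorphismProperty.IsLocalAtSource (topologically (fun f => IsOpenMap f) : MorphismProperty Scheme.{u})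
      Scheme.fppfPrecoverage := by
  haveI : (topologically (fun f => IsOpenMap f) : MorphismProperty Scheme.{u}).RespectsIso :=
    topologically_respectsIso _ (fun e => e.isOpenMap) (fun f g hf hg => hg.comp hf)
  refine MorphismProperty.IsLocalAtSource.mk_of_iff_of_zeroHypercover ?_
  intro X Y f 𝒰
  obtain ⟨hsurj, hP⟩ := fppf_cover_data 𝒰.f 𝒰.mem₀
  constructor
  · intro hf i
    haveI := (hP i).1
    haveI := (hP i).2
    exact (inferInstance : (topologically @IsOpenMap).IsStableUnderComposition).comp_mem _ _
      (𝒰.f i).isOpenMap hf
  · intro h
    exact isOpenMap_of_jointly_surjective f 𝒰.f hsurj h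

end Groth.Agent.S9845
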