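import Groth.Statements.S9846
import Groth.Agent.Lib.Helper16.FppfTop
open Groth.Agent.Lib.Helper16

set_option autoImplicit false
open CategoryTheory CategoryTheory.Limits AlgebraicGeometry Opposite
universe u
open Desc

namespace Groth.Agent.S9846

/-- Being universally open is fppf local on the source: for every fppf covering family g i : X i ⟶ X, a
morphism f : X ⟶ Y is universally open if and only if every composite g i ≫ f is. -/
theorem result :
    MorphismProperty.IsLocalAtSource (@UniversallyOpen : MorphismProperty Scheme.{u}) Scheme.fppfPrecoverage := by
  refine MorphismProperty.IsLocalAtSource.mk_of_iff_of_zeroHypercover ?_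
  intro X Y f 𝒰
  obtain ⟨hsurj, hP⟩ := fppf_cover_data 𝒰.f 𝒰.mem₀
  constructor
  · intro hf i
    haveI : UniversallyOpen f := hf
    haveI := (hP i).1
    haveI := (hP i).2
    exact (inferInstance : UniversallyOpen (𝒰.f i ≫ f))
  · intro h
    exact universallyOpen_of_jointly_surjective f 𝒰.f hsurj h

end Groth.Agent.S9846
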