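import Groth.Statements.S9847
import Groth.Agent.Lib.Helper16.EtLocal

set_option autoImplicit false
open CategoryTheory CategoryTheory.Limits AlgebraicGeometry Opposite
universe u
open Desc

namespace Groth.Agent.S9847

/-- Being etale is etale local on the source: for every etale covering family g i : X i ⟶ X (etale,
jointly surjective), a morphism f : X ⟶ Y is etale if and only if every composite g i ≫ f is. -/
theorem result :
    MorphismProperty.IsLocalAtSource (@Etale : MorphismProperty Scheme.{u}) Scheme.etalePrecoverage := by
  refine MorphismProperty.IsLocalAtSource.mk_of_iff_of_zeroHypercover fun {X Y} f 𝒰 => ?_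
  have hmem := 𝒰.mem₀
  have hmem' := (Scheme.presieve₀_mem_precoverage_iff (P := @Etale) 𝒰.toPreZeroHypercover).1 hmem
  obtain ⟨hsurj, hét⟩ := hmem'
  constructor
  · intro hf i
    have : Etale (𝒰.f i) := hét i
    have : Etale f := hf
    exact (inferInstance : Etale (𝒰.f i ≫ f))
  · intro h
    refine Groth.Agent.Lib.Helper16.etLocalST_etale.ofCover f fun x => ?_
    obtain ⟨i, hi⟩ := hsurj x
    exact ⟨𝒰.X i, 𝒰.f i, hét i, hi, h i⟩

end Groth.Agent.S9847
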