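import Groth.Statements.S9857
-- import your own Groth.Agent.* helpers here
import Mathlib
import Groth.Agent.Lib.Helper12.BaseChange2

set_option autoImplicit false
open CategoryTheory CategoryTheory.Limits AlgebraicGeometry Opposite
universe u
open Desc

namespace Groth.Agent.S9857

/-- The property of a morphism being locally of finite type with relative dimension d may be checked
fpqc locally on the target; the descent direction for the dimension condition, stated for a single
flat surjective quasi-compact base change g : Y' ⟶ Y of a morphism f : X ⟶ Y locally of finite type
and a cartesian square with base change f' : X' ⟶ Y': if every irreducible component of every fibre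
of f' has dimension d, then every irreducible component of every fibre of f has dimension d. (Local
finite type itself descends along g by a separate result; stability under base change is the other
direction.) -/
theorem result {X Y X' Y' : Scheme.{u}} (f : X ⟶ Y) [LocallyOfFiniteType f] (g : Y' ⟶ Y)
    [Flat g] [Surjective g] [QuasiCompact g] (g' : X' ⟶ X) (f' : X' ⟶ Y') (hsq : IsPullback g' f' f g)
    (d : ℕ) (h : Cyc.HasRelDim f' d) : Cyc.HasRelDim f d := by
  intro y T hT
  obtain ⟨y', rfl⟩ := g.surjective y
  have hpb := AlgebraicGeometry.isPullback_fiberToSpecResidueField_of_isPullback hsq y'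
  haveI : AlgebraicGeometry.LocallyOfFiniteType (f.fiberToSpecResidueField (g y')) :=
    CategoryTheory.MorphismProperty.of_isPullback (P := @AlgebraicGeometry.LocallyOfFiniteType)
      (CategoryTheory.IsPullback.of_hasPullback f (Y.fromSpecResidueField (g y')))
      inferInstance
  have h1 := Groth.Agent.Lib.Helper12.BaseChange.dims_irreducibleComponents_of_isPullback_field
    (Y.residueField (g y')) (Y'.residueField y') (g.residueFieldMap y').hom
    (f.fiberToSpecResidueField (g y')) _ (f'.fiberToSpecResidueField y') hpb
  have h2 : topologicalKrullDim T ∈ (fun T : Set (f.fiber (g y')) => topologicalKrullDim T) ''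
      irreducibleComponents (f.fiber (g y')) := ⟨T, hT, rfl⟩
  rw [← h1] at h2
  obtain ⟨T₀, hT₀, hd⟩ := h2
  rw [← hd]
  exact h y' T₀ hT₀

end Groth.Agent.S9857
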