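import Groth.Statements.S9860
import Mathlib.AlgebraicGeometry.Gluing
import Mathlib.CategoryTheory.Sites.EffectiveEpimorphic

set_option autoImplicit false
open CategoryTheory CategoryTheory.Limits AlgebraicGeometry Opposite
universe u
open Desc

namespace Groth.Agent.S9860

/-- Consider morphisms of schemes f i : X i ⟶ X indexed by i. Suppose that, whenever Y is an affine
scheme and g : Y ⟶ X is a morphism, the sieve on Y obtained by pulling back along g (generated by
the base changes X i ×_X Y ⟶ Y) is effective epimorphic. Then the pulled-back sieve along every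
morphism Y ⟶ X of schemes is effective epimorphic; in other words, within schemes the family forms a
universal effective epimorphism. -/
theorem result {ι : Type u} {X : Scheme.{u}} {Xi : ι → Scheme.{u}} (f : ∀ i, Xi i ⟶ X)
    (h : ∀ (Y : Scheme.{u}) (g : Y ⟶ X), IsAffine Y → ((Sieve.ofArrows Xi f).pullback g).EffectiveEpimorphic)
    {Y : Scheme.{u}} (g : Y ⟶ X) : ((Sieve.ofArrows Xi f).pullback g).EffectiveEpimorphic := by
  rw [Sieve.EffectiveEpimorphic.iff_forall_isSheafFor_yoneda]
  intro W
  obtain ⟨SY, hSY⟩ : ∃ SY : Sieve Y, SY = (Sieve.ofArrows Xi f).pullback g := ⟨_, rfl⟩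
  rw [← hSY]
  have hsh : ∀ (Z : Scheme.{u}) (z : Z ⟶ Y), IsAffine Z →
      Presieve.IsSheafFor (yoneda.obj W) (SY.pullback z).arrows := by
    intro Z z hZ
    have := (Sieve.EffectiveEpimorphic.iff_forall_isSheafFor_yoneda _).1 (h Z (z ≫ g) hZ) W
    rwa [Sieve.pullback_comp, ← hSY] at this
  intro x hx
  have key : ∀ {T : Scheme.{u}} (t₁ t₂ : T ⟶ Y) (h₁ : SY t₁) (h₂ : SY t₂), t₁ = t₂ → x t₁ h₁ = x t₂ h₂ := by
    intro T t₁ t₂ h₁ h₂ e
    subst e
    rfl
  have hloc : ∀ a, ∃! m : Y.affineCover.X a ⟶ W,
      (x.pullback (Y.affineCover.f a)).IsAmalgamation m :=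
    fun a => hsh _ (Y.affineCover.f a) inferInstance _ (hx.pullback (Y.affineCover.f a))
  choose m hm using hloc
  have amal : ∀ a {T : Scheme.{u}} (t : T ⟶ Y.affineCover.X a) (ht : SY (t ≫ Y.affineCover.f a)),
      t ≫ m a = x (t ≫ Y.affineCover.f a) ht := fun a T t ht => (hm a).1 t ht
  have hglue : ∀ a b, pullback.fst (Y.affineCover.f a) (Y.affineCover.f b) ≫ m a =
      pullback.snd (Y.affineCover.f a) (Y.affineCover.f b) ≫ m b := by
    intro a b
    apply (pullback (Y.affineCover.f a) (Y.affineCover.f b)).affineCover.hom_ext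
    intro c
    have hz : ((pullback (Y.affineCover.f a) (Y.affineCover.f b)).affineCover.f c ≫ pullback.fst _ _) ≫
        Y.affineCover.f a = ((pullback (Y.affineCover.f a) (Y.affineCover.f b)).affineCover.f c ≫
          pullback.snd _ _) ≫ Y.affineCover.f b := by
      rw [Category.assoc, Category.assoc, pullback.condition]
    have hsep := (hsh _ (((pullback (Y.affineCover.f a) (Y.affineCover.f b)).affineCover.f c ≫
      pullback.fst _ _) ≫ Y.affineCover.f a) inferInstance).isSeparatedFor
    refine hsep.ext ?_
    intro T t ht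
    have ht1 : SY ((t ≫ (pullback (Y.affineCover.f a) (Y.affineCover.f b)).affineCover.f c ≫
        pullback.fst _ _) ≫ Y.affineCover.f a) := by
      have := ht
      simp only [Sieve.pullback_apply, Category.assoc] at this ⊢
      exact this
    have ht2 : SY ((t ≫ (pullback (Y.affineCover.f a) (Y.affineCover.f b)).affineCover.f c ≫
        pullback.snd _ _) ≫ Y.affineCover.f b) := by
      have := ht
      rw [Sieve.pullback_apply, hz] at this
      simp only [Category.assoc] at this ⊢
      exact this
    show t ≫ (pullback (Y.affineCover.f a) (Y.affineCover.f b)).affineCover.f c ≫ pullback.fst _ _ ≫ m a =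
      t ≫ (pullback (Y.affineCover.f a) (Y.affineCover.f b)).affineCover.f c ≫ pullback.snd _ _ ≫ m b
    have e1 := amal a _ ht1
    have e2 := amal b _ ht2
    simp only [Category.assoc] at e1 e2
    rw [e1, e2]
    apply key
    simp only [Category.assoc]
    rw [pullback.condition]
  have hm₀ : ∀ a, Y.affineCover.f a ≫ Y.affineCover.glueMorphisms m hglue = m a :=
    Y.affineCover.ι_glueMorphisms m hglue
  refine ⟨Y.affineCover.glueMorphisms m hglue, ?_, ?_⟩
  · intro T t ht
    show t ≫ Y.affineCover.glueMorphisms m hglue = x t ht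
    refine Scheme.Cover.hom_ext (Y.affineCover.pullback₁ t) _ _ (fun a => ?_)
    show pullback.fst t (Y.affineCover.f a) ≫ t ≫ Y.affineCover.glueMorphisms m hglue =
      pullback.fst t (Y.affineCover.f a) ≫ x t ht
    have hmem : SY (pullback.snd t (Y.affineCover.f a) ≫ Y.affineCover.f a) := by
      rw [← pullback.condition]
      exact SY.downward_closed ht _
    rw [← Category.assoc, pullback.condition, Category.assoc, hm₀, amal a _ hmem]
    have := Presieve.FamilyOfElements.comp_of_compatible SY hx ht (pullback.fst t (Y.affineCover.f a))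
    exact (key _ _ _ _ pullback.condition.symm).trans this
  · intro m' hm'
    apply Y.affineCover.hom_ext
    intro a
    rw [hm₀]
    refine (hm a).2 (Y.affineCover.f a ≫ m') (fun T t ht => ?_)
    show t ≫ Y.affineCover.f a ≫ m' = x (t ≫ Y.affineCover.f a) ht
    rw [← Category.assoc]
    exact hm' (t ≫ Y.affineCover.f a) ht

end Groth.Agent.S9860
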