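import Groth.Statements.S9863
-- import your own Groth.Agent.* helpers here
import Mathlib
import Groth.Agent.Lib.Helper22.SyntCM

set_option autoImplicit false
open CategoryTheory CategoryTheory.Limits AlgebraicGeometry Opposite
universe u
open Desc

namespace Groth.Agent.S9863

/-- The property 'locally Noetherian and (S_k)' is local in the syntomic topology: for a jointly
surjective family of syntomic morphisms f i : X i ⟶ S and k a natural number, S is locally
Noetherian with all local rings satisfying Serre's condition (S_k) if and only if every X i is. -/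
theorem result {ι : Type u} {S : Scheme.{u}} {X : ι → Scheme.{u}} (f : ∀ i, X i ⟶ S)
    (hsurj : ∀ s : S, ∃ i, s ∈ Set.range (f i).base) (hsyn : ∀ i, Synt.IsSyntomicMor (f i)) (k : ℕ) :
    (IsLocallyNoetherian S ∧ ∀ s : S, LocCoh.HasSk k (S.presheaf.stalk s) (S.presheaf.stalk s)) ↔
      ∀ i, IsLocallyNoetherian (X i) ∧ ∀ x : X i, LocCoh.HasSk k ((X i).presheaf.stalk x) ((X i).presheaf.stalk x) := by
  constructor
  · rintro ⟨hS, hSk⟩ i
    haveI := hS
    haveI := Groth.Agent.Lib.Helper22.SyntCM.lfp_of_isSyntomicMor (f i) (hsyn i)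
    haveI : IsLocallyNoetherian (X i) := LocallyOfFiniteType.isLocallyNoetherian (f i)
    refine ⟨inferInstance, fun x => ?_⟩
    exact ((Groth.Agent.Lib.Helper22.SyntCM.stalk_iff_of_isSyntomicAt (f i) x (hsyn i x) k).1).mpr
      (hSk _)
  · intro h
    haveI : IsLocallyNoetherian S :=
      Groth.Agent.Lib.Helper22.SyntCM.isLocallyNoetherian_of_family f hsurj hsyn (fun i => (h i).1)
    refine ⟨inferInstance, fun s => ?_⟩
    obtain ⟨i, x, rfl⟩ := hsurj s
    exact ((Groth.Agent.Lib.Helper22.SyntCM.stalk_iff_of_isSyntomicAt (f i) x (hsyn i x) k).1).mp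
      ((h i).2 x)

end Groth.Agent.S9863
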