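import Groth.Statements.S9870
import Groth.Agent.Lib.Helper16.QuotOpen
import Groth.Agent.Lib.Helper16.LocSurj

set_option autoImplicit false
universe u
open CategoryTheory CategoryTheory.Limits AlgebraicGeometry
open AlgSp

namespace Groth.Agent.S9870

/-- Let `s, t : R ⟶ U` be a pre-relation on a scheme `U` over `S` which is an equivalence relation (on
`T`-points, for every scheme `T` over `S`), with `s` and `t` surjective, flat and locally of finite
presentation, and let `g : U' ⟶ U` be flat and locally of finite presentation. Let `s', t' : R' ⟶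
U'` be the restriction of the pre-relation to `U'`, i.e. `R'` with `(t', s')` and `R' ⟶ R` is the
fibre product of `U' ×_S U'` and `R` over `U ×_S U`. Then the map of fppf quotient sheaves `U'/R' ⟶
U/R` induced by `g` (the unique map under the quotient maps compatible with `h_g`) is representable
and an open immersion. -/
theorem result (S : Scheme.{u}) {R U R' U' : Over S} (s t : R ⟶ U)
    (g : U' ⟶ U) (s' t' : R' ⟶ U') (r : R' ⟶ R)
    (hsq : IsPullback (prod.lift t' s') r (prod.map g g) (prod.lift t s))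
    (hR : AlgSp.IsEqvRel s t)
    [Surjective s.left] [Flat s.left] [LocallyOfFinitePresentation s.left]
    [Surjective t.left] [Flat t.left] [LocallyOfFinitePresentation t.left]
    [Flat g.left] [LocallyOfFinitePresentation g.left]
    (φ : QuotSh.quot Scheme.fppfPrecoverage s' t' ⟶ QuotSh.quot Scheme.fppfPrecoverage s t)
    (hφ : QuotSh.quotπ Scheme.fppfPrecoverage s' t' ≫ φ = QuotSh.repMap Scheme.fppfPrecoverage g ≫ QuotSh.quotπ Scheme.fppfPrecoverage s t) :
    AlgSp.RepWith @IsOpenImmersion φ := by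
  have hlift : ∀ (T : Over S) (a b : T ⟶ U') (ρ : T ⟶ R), ρ ≫ t = a ≫ g → ρ ≫ s = b ≫ g →
      ∃ ρ' : T ⟶ R', ρ' ≫ t' = a ∧ ρ' ≫ s' = b := by
    intro T a b ρ h1 h2
    have hc : prod.lift a b ≫ prod.map g g = ρ ≫ prod.lift t s := by
      apply Limits.prod.hom_ext <;> simp [h1, h2]
    refine ⟨hsq.lift (prod.lift a b) ρ hc, ?_, ?_⟩
    · calc hsq.lift (prod.lift a b) ρ hc ≫ t'
          = (hsq.lift (prod.lift a b) ρ hc ≫ prod.lift t' s') ≫ prod.fst := by
            rw [Category.assoc, Limits.prod.lift_fst]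
        _ = a := by rw [hsq.lift_fst, Limits.prod.lift_fst]
    · calc hsq.lift (prod.lift a b) ρ hc ≫ s'
          = (hsq.lift (prod.lift a b) ρ hc ≫ prod.lift t' s') ≫ prod.snd := by
            rw [Category.assoc, Limits.prod.lift_snd]
        _ = b := by rw [hsq.lift_fst, Limits.prod.lift_snd]
  obtain ⟨h₀, hh₀⟩ : ∃ h₀ : pullback g.left t.left ⟶ U.left, h₀ = pullback.snd g.left t.left ≫ s.left :=
    ⟨_, rfl⟩
  have hfl : Flat h₀ := by rw [hh₀]; infer_instance
  have hlfp : LocallyOfFinitePresentation h₀ := by rw [hh₀]; infer_instance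
  obtain ⟨W, hWdef⟩ : ∃ W : U.left.Opens, (W : Set U.left) = Set.range h₀ :=
    ⟨⟨_, h₀.isOpenMap.isOpen_range⟩, rfl⟩
  have hW : ∀ u : U.left, u ∈ W ↔ ∃ (u' : U'.left) (ρ : R.left), t.left ρ = g.left u' ∧ s.left ρ = u := by
    intro u
    rw [← SetLike.mem_coe, hWdef]
    constructor
    · rintro ⟨z, rfl⟩
      refine ⟨pullback.fst g.left t.left z, pullback.snd g.left t.left z, ?_, ?_⟩
      · rw [← Scheme.Hom.comp_apply, ← Scheme.Hom.comp_apply, pullback.condition]
      · rw [hh₀, Scheme.Hom.comp_apply]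
    · rintro ⟨u', ρ, h1, rfl⟩
      obtain ⟨z, hz1, hz2⟩ := Scheme.Pullback.exists_preimage_pullback (f := g.left) (g := t.left) u' ρ h1.symm
      exact ⟨z, by rw [hh₀, Scheme.Hom.comp_apply, hz2]⟩
  have hloc : ∀ (T : Over S) (b : T ⟶ U), (∀ x : T.left, b.left x ∈ W) → ∃ Rc ∈ AlgSp.J S T,
      ∀ ⦃T' : Over S⦄ (c : T' ⟶ T), Rc c →
        ∃ (u' : T' ⟶ U') (ρ : T' ⟶ R), ρ ≫ t = u' ≫ g ∧ ρ ≫ s = c ≫ b := by
    intro T b hb
    obtain ⟨c₀, hc₀⟩ : ∃ c₀ : pullback b.left h₀ ⟶ T.left, c₀ = pullback.fst b.left h₀ := ⟨_, rfl⟩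
    have i1 : Flat c₀ := by rw [hc₀]; infer_instance
    have i2 : LocallyOfFinitePresentation c₀ := by rw [hc₀]; infer_instance
    have i3 : Surjective c₀ := by
      refine ⟨fun x => ?_⟩
      have hx := hb x
      rw [← SetLike.mem_coe, hWdef] at hx
      obtain ⟨z, hz⟩ := hx
      obtain ⟨w, hw1, -⟩ := Scheme.Pullback.exists_preimage_pullback (f := b.left) (g := h₀) x z hz.symm
      exact ⟨w, by rw [hc₀]; exact hw1⟩
    have e0 : pullback.snd b.left h₀ ≫ pullback.snd g.left t.left ≫ s.left = c₀ ≫ b.left := by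
      rw [hc₀, pullback.condition]
      exact (congrArg (fun m => pullback.snd b.left h₀ ≫ m) hh₀).symm
    have hρw : (pullback.snd b.left h₀ ≫ pullback.snd g.left t.left) ≫ R.hom = c₀ ≫ T.hom := by
      calc (pullback.snd b.left h₀ ≫ pullback.snd g.left t.left) ≫ R.hom
          = (pullback.snd b.left h₀ ≫ pullback.snd g.left t.left ≫ s.left) ≫ U.hom := by
            rw [← Over.w s]; simp only [Category.assoc]
        _ = (c₀ ≫ b.left) ≫ U.hom := by rw [e0]
        _ = c₀ ≫ T.hom := by rw [Category.assoc, Over.w b]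
    have hu'w : (pullback.snd b.left h₀ ≫ pullback.fst g.left t.left) ≫ U'.hom = c₀ ≫ T.hom := by
      calc (pullback.snd b.left h₀ ≫ pullback.fst g.left t.left) ≫ U'.hom
          = (pullback.snd b.left h₀ ≫ (pullback.fst g.left t.left ≫ g.left)) ≫ U.hom := by
            rw [← Over.w g]; simp only [Category.assoc]
        _ = (pullback.snd b.left h₀ ≫ (pullback.snd g.left t.left ≫ t.left)) ≫ U.hom := by
            rw [pullback.condition]
        _ = (pullback.snd b.left h₀ ≫ pullback.snd g.left t.left) ≫ R.hom := by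
            rw [← Over.w t]; simp only [Category.assoc]
        _ = c₀ ≫ T.hom := hρw
    obtain ⟨c, hcl⟩ : ∃ c : Over.mk (c₀ ≫ T.hom) ⟶ T, c.left = c₀ := ⟨Over.homMk c₀ rfl, rfl⟩
    obtain ⟨u', hu'⟩ : ∃ u' : Over.mk (c₀ ≫ T.hom) ⟶ U',
        u'.left = pullback.snd b.left h₀ ≫ pullback.fst g.left t.left := ⟨Over.homMk _ hu'w, rfl⟩
    obtain ⟨ρ, hρ⟩ : ∃ ρ : Over.mk (c₀ ≫ T.hom) ⟶ R,
        ρ.left = pullback.snd b.left h₀ ≫ pullback.snd g.left t.left := ⟨Over.homMk _ hρw, rfl⟩
    have h1 : ρ ≫ t = u' ≫ g := by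
      ext1
      rw [Over.comp_left, Over.comp_left, hρ, hu', Category.assoc, Category.assoc, pullback.condition]
    have h2 : ρ ≫ s = c ≫ b := by
      ext1
      rw [Over.comp_left, Over.comp_left, hρ, hcl, Category.assoc, e0]
    have j1 : Flat c.left := by rw [hcl]; exact i1
    have j2 : LocallyOfFinitePresentation c.left := by rw [hcl]; exact i2
    have j3 : Surjective c.left := by rw [hcl]; exact i3
    refine ⟨Sieve.generate (Presieve.singleton c),
      Groth.Agent.Lib.Helper16.sieve_mem_J_of_fppf c _ ⟨_, 𝟙 _, c, Presieve.singleton.mk, Category.id_comp _⟩, ?_⟩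
    rintro T'' d ⟨Y, d', c', hc', rfl⟩
    obtain ⟨⟩ := hc'
    exact ⟨d' ≫ u', d' ≫ ρ, by rw [Category.assoc, Category.assoc, h1],
      by rw [Category.assoc, Category.assoc, h2]⟩
  exact Groth.Agent.Lib.Helper16.QuotOpen.repWith_isOpenImmersion_quot_map s t g s' t' hR.equivalence hlift W hW
    hloc φ hφ
end Groth.Agent.S9870
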