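import Groth.Statements.S9886
import Groth.Agent.Lib.Helper16.Misc2
import Mathlib.CategoryTheory.Limits.Shapes.Pullback.Equalizer
open Groth.Agent.Lib.Helper16

set_option autoImplicit false
universe u
open CategoryTheory CategoryTheory.Limits AlgebraicGeometry
open AlgSp

namespace Groth.Agent.S9886

/-- Let `F` be an fppf sheaf of sets over `S` and `P` a property of morphisms of schemes stable under
base change. Assume that for all schemes `U`, `V` over `S` and all `a : h_U ⟶ F`, `b : h_V ⟶ F` the
fibre product `h_U ×_F h_V` is represented by some scheme `W` over `S` with its projections induced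
by morphisms `W ⟶ U`, `W ⟶ V`, and that for every such represented fibre product the morphism `W ⟶ U
×_S V` has `P`. Then the diagonal `F ⟶ F × F` is representable by schemes and has `P`. (The
published statement is for a presheaf of sets `F` and a property `P` that is also fppf local on the
base; this row takes `F` an fppf sheaf and `P` only stable under base change.) -/
theorem result (S : Scheme.{u}) (F : AlgSp.Sp S) (P : MorphismProperty Scheme.{u})
    [P.IsStableUnderBaseChange]
    (h₁ : ∀ ⦃U V : Over S⦄ (a : (AlgSp.yon S).obj U ⟶ F) (b : (AlgSp.yon S).obj V ⟶ F),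
      ∃ (W : Over S) (fst : W ⟶ U) (snd : W ⟶ V), IsPullback ((AlgSp.yon S).map fst) ((AlgSp.yon S).map snd) a b)
    (h₂ : ∀ ⦃U V W : Over S⦄ (a : (AlgSp.yon S).obj U ⟶ F) (b : (AlgSp.yon S).obj V ⟶ F) (fst : W ⟶ U)
      (snd : W ⟶ V), IsPullback ((AlgSp.yon S).map fst) ((AlgSp.yon S).map snd) a b → P (prod.lift fst snd).left) :
    AlgSp.RepWith P (Limits.diag F) := by
  have : P.RespectsIso := MorphismProperty.IsStableUnderBaseChange.respectsIso
  apply MorphismProperty.relative.of_exists
  intro T g
  obtain ⟨a, ha⟩ : ∃ a : (yon S).obj T ⟶ F, a = g ≫ prod.fst := ⟨_, rfl⟩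
  obtain ⟨b, hb⟩ : ∃ b : (yon S).obj T ⟶ F, b = g ≫ prod.snd := ⟨_, rfl⟩
  obtain ⟨W, p₁, p₂, sqW⟩ := h₁ a b
  have hP : P (prod.lift p₁ p₂).left := h₂ a b p₁ p₂ sqW
  have sqE := isPullback_equalizer_prod p₁ p₂
  have hPe : P (equalizer.ι p₁ p₂ ≫ p₁).left :=
    P.of_isPullback (sqE.map (Over.forget S)) hP
  have hc : (yon S).map (equalizer.ι p₁ p₂) ≫ (yon S).map p₁ =
      (yon S).map (equalizer.ι p₁ p₂) ≫ (yon S).map p₂ := by
    rw [← Functor.map_comp, ← Functor.map_comp, equalizer.condition]
  have hl : IsLimit (Fork.ofι ((yon S).map (equalizer.ι p₁ p₂)) hc) := by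
    have := isLimitForkMapOfIsLimit (yon S) (equalizer.condition p₁ p₂) (equalizerIsEqualizer p₁ p₂)
    exact this
  have e1 : Limits.diag F ≫ prod.fst = 𝟙 F := prod.lift_fst _ _
  have e2 : Limits.diag F ≫ prod.snd = 𝟙 F := prod.lift_snd _ _
  refine ⟨equalizer p₁ p₂, (yon S).map (equalizer.ι p₁ p₂) ≫ (yon S).map p₁ ≫ a,
    equalizer.ι p₁ p₂ ≫ p₁, ?_, hPe⟩
  refine isPullback_of_exists_lift ?_ ?_ ?_
  · apply prod.hom_ext
    · simp only [Category.assoc]
      rw [e1, Category.comp_id, ← ha, Functor.map_comp, Category.assoc]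
    · simp only [Category.assoc]
      rw [e2, Category.comp_id, ← hb, Functor.map_comp, Category.assoc, sqW.w, ← Category.assoc, ← hc,
        Category.assoc]
  · intro Q x y h
    have h1 : x = y ≫ a := by
      have := congrArg (· ≫ prod.fst) h
      simp only [Category.assoc] at this
      rw [e1, Category.comp_id] at this
      rw [this, ha]
    have h2 : x = y ≫ b := by
      have := congrArg (· ≫ prod.snd) h
      simp only [Category.assoc] at this
      rw [e2, Category.comp_id] at this
      rw [this, hb]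
    obtain ⟨l, hl'⟩ := Fork.IsLimit.lift' hl (sqW.lift y y (h1.symm.trans h2))
      (by rw [sqW.lift_fst, sqW.lift_snd])
    have hl'' : l ≫ (yon S).map (equalizer.ι p₁ p₂) = sqW.lift y y (h1.symm.trans h2) := hl'
    refine ⟨l, ?_, ?_⟩
    · rw [← Category.assoc, hl'', ← Category.assoc, sqW.lift_fst, ← h1]
    · rw [Functor.map_comp, ← Category.assoc, hl'', sqW.lift_fst]
  · intro Q l l' _ h2
    apply Fork.IsLimit.hom_ext hl
    show l ≫ (yon S).map (equalizer.ι p₁ p₂) = l' ≫ (yon S).map (equalizer.ι p₁ p₂)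
    apply sqW.hom_ext
    · rw [Category.assoc, Category.assoc, ← Functor.map_comp]
      exact h2
    · rw [Category.assoc, Category.assoc, ← hc, ← Functor.map_comp]
      exact h2

end Groth.Agent.S9886
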