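import Groth.Statements.S9888
import Groth.Agent.Lib.Helper16.Misc1
open Groth.Agent.Lib.Helper16

set_option autoImplicit false
universe u
open CategoryTheory CategoryTheory.Limits AlgebraicGeometry
open AlgSp

namespace Groth.Agent.S9888

/-- Let `F` be an algebraic space over `S`, `f₂ : F₂ ⟶ F` a map of fppf sheaves which is representable
by immersions, `f₁ : F₁ ⟶ F` a map which is representable with property `P`, and `g : F₁ ⟶ F₂` with
`g ≫ f₂ = f₁` (so `F₁ ⊆ F₂` as subsheaves of `F`). Then `g` is representable and has `P`. (The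
published statement is the three cases `P` = immersion, open immersion, closed immersion, i.e. a
locally closed, open or closed subspace contained in a locally closed subspace is such a subspace of
it; the same argument applies to any `P` stable under base change, and the row is stated for such
`P`.) -/
theorem result (S : Scheme.{u}) (F F₁ F₂ : AlgSp.Sp S) (hF : AlgSp.IsAlgSpace F)
    (f₁ : F₁ ⟶ F) (f₂ : F₂ ⟶ F) (P : MorphismProperty Scheme.{u}) [P.IsStableUnderBaseChange]
    (h₁ : AlgSp.RepWith P f₁) (h₂ : AlgSp.RepWith @IsImmersion f₂) (g : F₁ ⟶ F₂) (w : g ≫ f₂ = f₁) :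
    AlgSp.RepWith P g := by
  have hm : Mono f₂ := mono_of_repWith (P := @IsImmersion)
    (fun _ _ k hk => by
      have : IsImmersion k := hk
      exact (MorphismProperty.monomorphisms.iff k).2 inferInstance) f₂ h₂
  have : P.RespectsIso := MorphismProperty.IsStableUnderBaseChange.respectsIso
  apply MorphismProperty.relative.of_exists
  intro T t
  obtain ⟨V, v, φ, sqV⟩ := h₁.rep (t ≫ f₂)
  refine ⟨V, φ, v, ?_, h₁.property _ _ _ sqV⟩
  refine isPullback_of_exists_lift ?_ ?_ ?_
  · rw [← cancel_mono f₂, Category.assoc, w, Category.assoc]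
    exact sqV.w
  · intro Q a b h
    have h' : a ≫ f₁ = b ≫ t ≫ f₂ := by rw [← w, ← Category.assoc, h, Category.assoc]
    exact ⟨sqV.lift a b h', sqV.lift_fst _ _ _, sqV.lift_snd _ _ _⟩
  · intro Q l l' h1 h2
    exact sqV.hom_ext h1 h2

end Groth.Agent.S9888
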