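import Groth.Statements.S9889
import Groth.Agent.Lib.Helper16.FreeRel
open Groth.Agent.Lib.Helper16 Opposite

set_option autoImplicit false
universe u
open CategoryTheory CategoryTheory.Limits AlgebraicGeometry
open AlgSp

namespace Groth.Agent.S9889

/-- Let `U` be a scheme over `S` and `G` a group acting on `U` by automorphisms over `S`, freely: no
non-identity element of `G` fixes a point `x` of `U` while inducing the identity on its residue
field (equivalently, composing `Spec κ(x) ⟶ U` with the automorphism changes it). Let `R = ∐_{g ∈ G}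
U` (coproduct in schemes over `S`) with `s` the identity and `t` the action of `g` on the `g`-th
copy. Then `s, t : R ⟶ U` is an etale equivalence relation on `U` over `S` (so that `U/R` is an
algebraic space). -/
theorem result (S : Scheme.{u}) (U : Over S) (G : Type u) [Group G] (ρ : G →* Aut U)
    (hfree : ∀ (g : G) (x : U.left), g ≠ 1 →
      U.left.fromSpecResidueField x ≫ (ρ g).hom.left ≠ U.left.fromSpecResidueField x)
    (c : Cofan (fun _ : G => U)) (hc : IsColimit c) (s t : c.pt ⟶ U)
    (hs : ∀ g, c.inj g ≫ s = 𝟙 U) (ht : ∀ g, c.inj g ≫ t = (ρ g).hom) :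
    AlgSp.IsEtaleEqvRel s t := by

  obtain ⟨hopen, hcover⟩ := FreeRel.cofan_inj_props c hc
  obtain ⟨φ, hφdef⟩ : ∃ φ : G → (U ⟶ U), ∀ σ, φ σ = (ρ σ⁻¹).hom := ⟨fun σ => (ρ σ⁻¹).hom, fun _ => rfl⟩
  have hφ : FreeRel.IsFreeAct φ := by
    apply FreeRel.IsFreeAct.of_residue
    · rw [hφdef, inv_one, map_one]
      rfl
    · intro σ τ
      rw [hφdef, hφdef, hφdef, mul_inv_rev, map_mul]
      rfl
    · intro σ hσ x
      rw [hφdef]
      exact hfree σ⁻¹ x (inv_ne_one.2 hσ)
  have hm : FreeRel.IsModel φ (fun σ => c.inj σ⁻¹) s t :=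
    ⟨fun σ => hopen _, fun x => by
      obtain ⟨g, hg⟩ := hcover x
      exact ⟨g⁻¹, by rwa [inv_inv]⟩, fun σ => hs _, fun σ => by rw [hφdef]; exact ht _⟩
  have hcov : ∀ x : c.pt.left, ∃ (g : G) (y : U.left), (c.inj g).left y = x := fun x => by
    obtain ⟨g, y, hy⟩ := hcover x
    exact ⟨g, y, hy⟩
  have hprop : ∀ g : G, IsOpenImmersion (c.inj g).left := hopen
  let 𝒰 : c.pt.left.OpenCover :=
    Scheme.Cover.mkOfCovers G (fun _ => U.left) (fun g => (c.inj g).left) hcov hprop
  refine ⟨⟨fun T r r' h1 h2 => FreeRel.injective_rel hφ hm r r' h1 h2,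
    fun T => FreeRel.equivalence_rel hφ hm T⟩, ?_, ?_⟩
  · apply IsZariskiLocalAtSource.of_openCover (P := @Etale) 𝒰
    intro g
    have h1 : (c.inj g).left ≫ s.left = 𝟙 U.left := by
      rw [← Over.comp_left, hs]
      rfl
    show Etale ((c.inj g).left ≫ s.left)
    rw [h1]
    infer_instance
  · apply IsZariskiLocalAtSource.of_openCover (P := @Etale) 𝒰
    intro g
    have h1 : (c.inj g).left ≫ t.left = (ρ g).hom.left := by
      rw [← Over.comp_left, ht]
    have hiso : IsIso (ρ g).hom.left := by
      show IsIso ((Over.forget S).map (ρ g).hom)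
      infer_instance
    show Etale ((c.inj g).left ≫ t.left)
    rw [h1]
    infer_instance

end Groth.Agent.S9889
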