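import Groth.Statements.S9890
import Groth.Agent.Lib.Helper16.QuotSep
import Groth.Agent.S9889
import Groth.Agent.S9868
import Groth.Agent.S9869
open Groth.Agent.Lib.Helper16

set_option autoImplicit false
universe u
open CategoryTheory CategoryTheory.Limits AlgebraicGeometry
open AlgSp

namespace Groth.Agent.S9890

/-- Let a finite group `G` act freely (no non-identity element fixes a point together with its residue
field) by `S`-automorphisms on a scheme `U` over `S`, and let `s, t : R = ∐_{g ∈ G} U ⟶ U` be the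
identity and the action. When `U ⟶ S` is quasi-separated, so is the quotient sheaf `U/G = U/R` over
`S`; when `U ⟶ S` is separated, `U/G` is also separated over `S`. -/
theorem result (S : Scheme.{u}) (U : Over S) (G : Type u) [Group G] [Finite G]
    (ρ : G →* Aut U)
    (hfree : ∀ (g : G) (x : U.left), g ≠ 1 →
      U.left.fromSpecResidueField x ≫ (ρ g).hom.left ≠ U.left.fromSpecResidueField x)
    (c : Cofan (fun _ : G => U)) (hc : IsColimit c) (s t : c.pt ⟶ U)
    (hs : ∀ g, c.inj g ≫ s = 𝟙 U) (ht : ∀ g, c.inj g ≫ t = (ρ g).hom) :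
    (QuasiSeparated U.hom → AlgSp.IsQuasiSeparatedSp (QuotSh.quot Scheme.fppfPrecoverage s t)) ∧
      (IsSeparated U.hom → AlgSp.IsSeparatedSp (QuotSh.quot Scheme.fppfPrecoverage s t)) := by

  have hE := Groth.Agent.S9889.result S U G ρ hfree c hc s t hs ht
  have hX := Groth.Agent.S9868.result S s t hE
  have pres := Groth.Agent.S9869.result S s t hE hX
  obtain ⟨hopen, hcover⟩ := FreeRel.cofan_inj_props c hc
  have hcov : ∀ x : c.pt.left, ∃ (g : G) (y : U.left), (c.inj g).left y = x := fun x => by
    obtain ⟨g, y, hy⟩ := hcover x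
    exact ⟨g, y, hy⟩
  let 𝒰 : c.pt.left.OpenCover :=
    Scheme.Cover.mkOfCovers G (fun _ => U.left) (fun g => (c.inj g).left) hcov hopen
  haveI : Finite 𝒰.I₀ := inferInstanceAs (Finite G)
  obtain ⟨A₀, -⟩ : ∃ A₀ : U ⟶ Over.mk (𝟙 S), A₀ = A₀ := ⟨Over.mkIdTerminal.from U, rfl⟩
  obtain ⟨m, hm1, hm2⟩ : ∃ m : c.pt ⟶ pullback A₀ A₀, m ≫ pullback.fst A₀ A₀ = t ∧
      m ≫ pullback.snd A₀ A₀ = s :=
    ⟨pullback.lift t s (Over.mkIdTerminal.hom_ext _ _), pullback.lift_fst _ _ _, pullback.lift_snd _ _ _⟩
  have hA₀ : A₀.left = U.hom := by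
    have := Over.w A₀
    simpa using this
  have sqL : IsPullback (pullback.fst A₀ A₀).left (pullback.snd A₀ A₀).left A₀.left A₀.left :=
    (IsPullback.of_hasPullback A₀ A₀).map (Over.forget S)
  have hsec : ∀ g, ((c.inj g).left ≫ m.left) ≫ (pullback.snd A₀ A₀).left = 𝟙 U.left := by
    intro g
    rw [Category.assoc, ← Over.comp_left, ← Over.comp_left, hm2, hs]
    rfl
  constructor
  · intro hqs
    show RepWith @QuasiCompact (Limits.diag _)
    refine QuotSep.repWith_diag_of_atlas (P := @QuasiCompact) hX _ pres.etale pres.surjective t s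
      pres.isPullback A₀ m hm1 hm2 ?_
    haveI hq2 : QuasiSeparated (pullback.snd A₀ A₀).left :=
      MorphismProperty.of_isPullback (P := @QuasiSeparated) sqL (by rw [hA₀]; exact hqs)
    apply QuotSep.quasiCompact_of_finite_openCover 𝒰
    intro g
    show QuasiCompact ((c.inj g).left ≫ m.left)
    haveI : QuasiCompact (((c.inj g).left ≫ m.left) ≫ (pullback.snd A₀ A₀).left) := by
      rw [hsec g]
      infer_instance
    exact QuasiCompact.of_comp _ (pullback.snd A₀ A₀).left
  · intro hsep
    show RepWith @IsClosedImmersion (Limits.diag _)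
    refine QuotSep.repWith_diag_of_atlas (P := @IsClosedImmersion) hX _ pres.etale pres.surjective t s
      pres.isPullback A₀ m hm1 hm2 ?_
    haveI hq2 : IsSeparated (pullback.snd A₀ A₀).left :=
      MorphismProperty.of_isPullback (P := @IsSeparated) sqL (by rw [hA₀]; exact hsep)
    haveI hmono : Mono m := ⟨fun {T} r r' h => hE.injective T r r'
      (by rw [← hm1, ← Category.assoc, h, Category.assoc])
      (by rw [← hm2, ← Category.assoc, h, Category.assoc])⟩
    haveI : Mono m.left := inferInstance
    apply QuotSep.isClosedImmersion_of_finite_openCover 𝒰 m.left m.left.injective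
    intro g
    show IsClosedImmersion ((c.inj g).left ≫ m.left)
    haveI : IsClosedImmersion (((c.inj g).left ≫ m.left) ≫ (pullback.snd A₀ A₀).left) := by
      rw [hsec g]
      infer_instance
    exact IsClosedImmersion.of_comp _ (pullback.snd A₀ A₀).left

end Groth.Agent.S9890
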