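import Groth.Statements.S9891
import Groth.Agent.Lib.Helper16.Misc1
open Groth.Agent.Lib.Helper16

set_option autoImplicit false
universe u
open CategoryTheory CategoryTheory.Limits AlgebraicGeometry
open AlgSp

namespace Groth.Agent.S9891

/-- Let `a : F ⟶ G` be a map of presheaves of sets on schemes over `S` which is representable by
schemes. Then the relative diagonal `F ⟶ F ×_G F` is representable by schemes. -/
theorem result (S : Scheme.{u}) (F G : AlgSp.PSp S) (a : F ⟶ G)
    (ha : (AlgSp.pyon S).relativelyRepresentable a) :
    (AlgSp.pyon S).relativelyRepresentable (pullback.diagonal a) := by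
  intro T t
  obtain ⟨V, v, φ, sqV⟩ := ha (t ≫ pullback.fst a a ≫ a)
  obtain ⟨t', ht'⟩ := exists_lift_diagonalObj sqV t (𝟙 _) (by rw [Category.id_comp])
  have sqK := isPullback_diagonal_of_isPullback sqV
  have hd : pullback.diagonal ((AlgSp.pyon S).map v) =
      (AlgSp.pyon S).map (pullback.diagonal v) ≫ (PreservesPullback.iso (AlgSp.pyon S) v v).hom := by
    apply pullback.hom_ext
    · simp only [pullback.diagonal_fst, Category.assoc, PreservesPullback.iso_hom_fst, ← Functor.map_comp]
      exact ((AlgSp.pyon S).map_id V).symm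
    · simp only [pullback.diagonal_snd, Category.assoc, PreservesPullback.iso_hom_snd, ← Functor.map_comp]
      exact ((AlgSp.pyon S).map_id V).symm
  have hΔ : (AlgSp.pyon S).relativelyRepresentable (pullback.diagonal ((AlgSp.pyon S).map v)) := by
    rw [hd]
    exact MorphismProperty.comp_mem _ _ _ (Functor.relativelyRepresentable.map _ _)
      (MorphismProperty.of_isIso _ _)
  obtain ⟨E, e, ε, sqE⟩ := hΔ t'
  exact ⟨E, e, ε ≫ φ, by rw [← ht']; exact sqE.paste_horiz sqK⟩

end Groth.Agent.S9891
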