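import Groth.Statements.S9894
import Mathlib
import Groth.Agent.Lib.Helper10.DescC
import Groth.Agent.Lib.Helper16.RepSpace

set_option autoImplicit false
set_option backward.isDefEq.respectTransparency false
set_option backward.isDefEq.respectTransparency.types false
universe u
open CategoryTheory CategoryTheory.Limits AlgebraicGeometry
open AlgSp

namespace Groth.Agent.S9894

/-- Let `P` be a property of morphisms of schemes which is stable under base change, fppf local on the
base, and such that morphisms of type `P` satisfy descent: for every surjective, flat, locally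
finitely presented `p : X' ⟶ S'` every descent datum relative to `p` whose scheme has structure
morphism in `P` is effective (descent is asked along single fppf covers, the case the argument
uses). Let `F` be an algebraic space over `S`, `G` an fppf sheaf of sets with a map `f : G ⟶ F`, and
`q : h_U ⟶ F` representable etale and surjective such that the base change of `f` along `q` is
represented by a scheme `V` over `S` with `g : V ⟶ U` having `P`. Then `G` is an algebraic space
over `S` and `f` is representable by schemes with property `P`. -/
theorem result (S : Scheme.{u}) (P : MorphismProperty Scheme.{u})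
    [P.IsStableUnderBaseChange] [P.IsLocalAtTarget Scheme.fppfPrecoverage]
    (hdesc : ∀ ⦃X' S' : Scheme.{u}⦄ (p : X' ⟶ S'), Surjective p → Flat p → LocallyOfFinitePresentation p →
      ∀ D : Desc.SchDD p, P D.obj.hom → (Desc.toDD p).essImage D)
    (F : AlgSp.Space S) (G : AlgSp.Sp S) (f : G ⟶ F.obj) {U V : Over S} (q : (AlgSp.yon S).obj U ⟶ F.obj)
    (hqe : AlgSp.RepWith @Etale q) (hqs : AlgSp.RepWith @Surjective q) (fst : (AlgSp.yon S).obj V ⟶ G)
    (g : V ⟶ U) (sq : IsPullback fst ((AlgSp.yon S).map g) f q) (hP : P g.left) :
    AlgSp.IsAlgSpace G ∧ AlgSp.RepWith P f := by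
  have hRep : AlgSp.RepWith P f := by
    refine MorphismProperty.relative.of_exists ?_
    intro T ξ
    obtain ⟨T', p, b, sqT⟩ := hqe.rep ξ
    have hpe : Etale p.left := hqe.property ξ b p sqT
    have hps : Surjective p.left := hqs.property ξ b p sqT
    obtain ⟨b', rfl⟩ := (yon S).map_surjective b
    have sqV : IsPullback ((yon S).map (pullback.fst g b')) ((yon S).map (pullback.snd g b'))
        ((yon S).map g) ((yon S).map b') := (IsPullback.of_hasPullback g b').map (yon S)
    have sqS : IsPullback (pullback.fst g b').left (pullback.snd g b').left g.left b'.left :=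
      (IsPullback.of_hasPullback g b').map (Over.forget S)
    have hP' : P (pullback.snd g b').left := MorphismProperty.of_isPullback (P := P) sqS hP
    have cond : ((yon S).map (pullback.fst g b') ≫ fst) ≫ f =
        ((yon S).map (pullback.snd g b') ≫ (yon S).map p) ≫ ξ := by
      rw [Category.assoc, sq.w, ← Category.assoc, sqV.w, Category.assoc, sqT.w, Category.assoc]
    obtain ⟨fst'', h1, h2⟩ : ∃ fst'' : (yon S).obj (pullback g b') ⟶ pullback f ξ,
        fst'' ≫ pullback.fst f ξ = (yon S).map (pullback.fst g b') ≫ fst ∧
        fst'' ≫ pullback.snd f ξ = (yon S).map (pullback.snd g b') ≫ (yon S).map p :=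
      ⟨pullback.lift _ _ cond, pullback.lift_fst _ _ _, pullback.lift_snd _ _ _⟩
    have sq' : IsPullback fst'' ((yon S).map (pullback.snd g b')) (pullback.snd f ξ)
        ((yon S).map p) := by
      refine IsPullback.of_right ?_ h2 (IsPullback.of_hasPullback f ξ)
      rw [h1, ← sqT.w]
      exact sqV.paste_horiz sq
    have hfl : Flat p.left := inferInstance
    have hlfp : LocallyOfFinitePresentation p.left := inferInstance
    have heff := hdesc p.left hps hfl hlfp
      (H10PT.Desc.sheafDD (pullback.snd f ξ) p (pullback.snd g b') fst'' sq') hP'
    obtain ⟨W, w, qW, ε, hpbW, hε1, -⟩ :=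
      H10PT.Desc.rep_of_effective (pullback.snd f ξ) p (pullback.snd g b') fst'' sq' heff
    refine ⟨W, ε.hom ≫ pullback.fst f ξ, w, ?_, ?_⟩
    · exact IsPullback.of_iso_pullback
        ⟨by rw [Category.assoc, pullback.condition, ← Category.assoc, hε1]⟩ ε rfl hε1
    · change P w.left
      refine MorphismProperty.IsLocalAtTarget.of_forall_pullbackSnd (P := P)
        (K := Scheme.fppfPrecoverage) (R := Presieve.singleton p.left)
        (Scheme.Hom.singleton_mem_fppfPrecoverage p.left) ?_
      intro U₀ g₀ _ hg₀
      obtain ⟨⟩ := hg₀
      have e := hpbW.flip.isoPullback_hom_snd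
      have hRI : P.RespectsIso := MorphismProperty.IsStableUnderBaseChange.respectsIso
      rw [← Iso.eq_inv_comp] at e
      rw [e]
      exact (P.cancel_left_of_respectsIso _ _).2 hP'
  exact ⟨Groth.Agent.Lib.Helper16.isAlgSpace_of_representable F.property f hRep.rep, hRep⟩

end Groth.Agent.S9894
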