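import Groth.Statements.S9905
import Groth.Agent.Lib.Helper16.Diagonal
open Groth.Agent.Lib.Helper16

set_option autoImplicit false
universe u
open CategoryTheory CategoryTheory.Limits AlgebraicGeometry
open AlgSp

namespace Groth.Agent.S9905

/-- For a morphism of algebraic spaces representable by schemes, separated in the diagonal sense agrees
with separated in the representable sense, and likewise for quasi-separated. -/
theorem result {S : Scheme.{u}} {X Y : AlgSp.Space S} (f : X ⟶ Y)
    (hf : AlgSp.Representable f.hom) :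
    (AlgSp.IsSeparatedMor f.hom ↔ AlgSp.RepWith @IsSeparated f.hom) ∧
    (AlgSp.IsQuasiSeparatedMor f.hom ↔ AlgSp.RepWith @QuasiSeparated f.hom) := by
  haveI : (RepWith (S := S) @IsClosedImmersion).RespectsIso := MorphismProperty.IsStableUnderBaseChange.respectsIso
  haveI : (RepWith (S := S) @QuasiCompact).RespectsIso := MorphismProperty.IsStableUnderBaseChange.respectsIso
  refine ⟨⟨fun h => ⟨hf, fun U V g fst snd sq => ?_⟩, fun h => ?_⟩, ⟨fun h => ⟨hf, fun U V g fst snd sq => ?_⟩, fun h => ?_⟩⟩
  · have h1 : AlgSp.IsSeparatedMor ((AlgSp.yon S).map snd) :=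
      (RepWith (S := S) @IsClosedImmersion).diagonal.of_isPullback sq h
    exact (AlgSp.isSeparatedMor_yon_map_iff snd).1 h1
  · refine repWith_diagonal_of_affine X.property.diag f.hom (fun Z hZ g X' fst snd sq => ?_)
    obtain ⟨V, v, φ, sqV⟩ := h.rep g
    have hv : IsSeparated v.left := h.property _ _ _ sqV
    have h1 : AlgSp.IsSeparatedMor ((AlgSp.yon S).map v) := (AlgSp.isSeparatedMor_yon_map_iff v).2 hv
    exact P_of_two_pullbacks (RepWith (S := S) @IsClosedImmersion).diagonal sq sqV h1
  · have h1 : AlgSp.IsQuasiSeparatedMor ((AlgSp.yon S).map snd) :=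
      (RepWith (S := S) @QuasiCompact).diagonal.of_isPullback sq h
    exact (AlgSp.isQuasiSeparatedMor_yon_map_iff snd).1 h1
  · refine repWith_diagonal_of_affine X.property.diag f.hom (fun Z hZ g X' fst snd sq => ?_)
    obtain ⟨V, v, φ, sqV⟩ := h.rep g
    have hv : QuasiSeparated v.left := h.property _ _ _ sqV
    have h1 : AlgSp.IsQuasiSeparatedMor ((AlgSp.yon S).map v) := (AlgSp.isQuasiSeparatedMor_yon_map_iff v).2 hv
    exact P_of_two_pullbacks (RepWith (S := S) @QuasiCompact).diagonal sq sqV h1

end Groth.Agent.S9905
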