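import Groth.Statements.S9926
import Groth.Agent.Lib.Helper16.DiagDescent
open Groth.Agent.Lib.Helper16

set_option autoImplicit false
universe u
open CategoryTheory CategoryTheory.Limits AlgebraicGeometry
open AlgSp

namespace Groth.Agent.S9926

/-- Let B be an algebraic space and f : X -> Y a morphism over B that is surjective and universally
closed. Quasi-separatedness of X over B forces quasi-separatedness of Y over B, and likewise for
separatedness. (The published lemma also has absolute versions; this row states the versions over
B.) -/
theorem result {S : Scheme.{u}} {X Y B : AlgSp.Space S} (f : X ⟶ Y) (p : X ⟶ B)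
    (q : Y ⟶ B) (comm : f ≫ q = p) (hs : AlgSp.IsSurjectiveMor f.hom) (hc : AlgSp.IsUnivClosedMor f.hom) :
    (AlgSp.IsQuasiSeparatedMor p.hom → AlgSp.IsQuasiSeparatedMor q.hom) ∧
    (AlgSp.IsSeparatedMor p.hom → AlgSp.IsSeparatedMor q.hom) := by
  subst comm
  have hrepq : RepWith @LocallyOfFiniteType (pullback.diagonal q.hom) :=
    repWith_diagonal_of_repWith_diag q.hom (repWith_lft_diag Y.property)
  have hpq : (f ≫ q).hom = f.hom ≫ q.hom := rfl
  refine ⟨fun hp => ?_, fun hp => ?_⟩
  · rw [hpq] at hp
    exact repWith_quasiCompact_of_isQuasiCompactMor _ hrepq.rep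
      (isQuasiCompactMor_diagonal_of_surjective_univClosed X.property Y.property B.property f.hom q.hom hs hc
        (isQuasiCompactMor_of_repWith_quasiCompact _ hp))
  · rw [hpq] at hp
    have hp' : RepWith @IsClosedImmersion (pullback.diagonal (f.hom ≫ q.hom)) := hp
    have hle : (@IsClosedImmersion : MorphismProperty Scheme.{u}) ≤ @UniversallyClosed := by
      intro A A' g hg
      have : IsClosedImmersion g := hg
      exact (inferInstance : UniversallyClosed g)
    have h1 : IsUnivClosedMor (pullback.diagonal (f.hom ≫ q.hom)) :=
      (repWith_universallyClosed_iff _ hp'.rep).1 (repWith_mono hle _ hp')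
    have h2 := isUnivClosedMor_diagonal_of_surjective_univClosed X.property Y.property f.hom q.hom hs hc h1
    have h3 : RepWith @UniversallyClosed (pullback.diagonal q.hom) :=
      (repWith_universallyClosed_iff _ hrepq.rep).2 h2
    obtain ⟨hlft, hmono, hsep, -, -⟩ :=
      repWith_props_of_isPullback_diag Y.property (isPullback_diagonal_diag q.hom)
    refine ⟨hrepq.rep, fun T E t ε e sq => ?_⟩
    have i1 : LocallyOfFiniteType e.left := hlft.property _ _ _ sq
    have i2 : Mono e.left := hmono.property _ _ _ sq
    have i3 : IsSeparated e.left := hsep.property _ _ _ sq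
    have i4 : UniversallyClosed e.left := h3.property _ _ _ sq
    have i5 : IsProper e.left := ⟨⟩
    exact (IsClosedImmersion.iff_isProper_and_mono e.left).2 ⟨i5, i2⟩

end Groth.Agent.S9926
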