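import Groth.Statements.S9933
import Groth.Agent.Lib.Helper16.Misc1
open Groth.Agent.Lib.Helper16

set_option autoImplicit false
universe u
open CategoryTheory CategoryTheory.Limits AlgebraicGeometry
open AlgSp

namespace Groth.Agent.S9933

/-- Permanence for Z -> Y -> X: the five representable finiteness/separation properties of Z -> X pass
to Z -> Y, and a closed immersion Z -> X with Y -> X separated gives a closed immersion Z -> Y. -/
theorem result {S : Scheme.{u}} {Z Y X : AlgSp.Space S} (a : Z ⟶ Y) (b : Y ⟶ X) :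
    ((AlgSp.Representable (a ≫ b).hom ∧ AlgSp.RepWith @LocallyOfFiniteType (a ≫ b).hom ∧
        AlgSp.RepWith (@LocallyQuasiFinite ⊓ @LocallyOfFiniteType) (a ≫ b).hom ∧
        AlgSp.RepWith @IsSeparated (a ≫ b).hom ∧
        AlgSp.RepWith (MorphismProperty.monomorphisms Scheme.{u}) (a ≫ b).hom) →
      (AlgSp.Representable a.hom ∧ AlgSp.RepWith @LocallyOfFiniteType a.hom ∧
        AlgSp.RepWith (@LocallyQuasiFinite ⊓ @LocallyOfFiniteType) a.hom ∧
        AlgSp.RepWith @IsSeparated a.hom ∧
        AlgSp.RepWith (MorphismProperty.monomorphisms Scheme.{u}) a.hom)) ∧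
    (AlgSp.RepWith @IsClosedImmersion (a ≫ b).hom → AlgSp.IsSeparatedMor b.hom →
      AlgSp.RepWith @IsClosedImmersion a.hom) := by
  obtain ⟨d1, d2, d3, -, d5⟩ := repWith_props_of_isPullback_diag Y.property (isPullback_diagonal_diag b.hom)
  have e : (a ≫ b).hom = a.hom ≫ b.hom := rfl
  rw [e]
  refine ⟨fun ⟨_, h1, h2, h3, h4⟩ => ?_, fun h hb => repWith_of_comp_of_diagonal a.hom b.hom h hb⟩
  have k1 := repWith_of_comp_of_diagonal a.hom b.hom h1 d1
  exact ⟨k1.rep, k1, repWith_of_comp_of_diagonal a.hom b.hom h2 d5,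
    repWith_of_comp_of_diagonal a.hom b.hom h3 d3, repWith_of_comp_of_diagonal a.hom b.hom h4 d2⟩

end Groth.Agent.S9933
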