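import Groth.Statements.S9946
import Groth.Agent.Lib.Helper16.QAffLocal
import Groth.Agent.Lib.Helper16.AffRep
open Groth.Agent.Lib.Helper16

set_option autoImplicit false
universe u
open CategoryTheory CategoryTheory.Limits AlgebraicGeometry
open AlgSp

namespace Groth.Agent.S9946

/-- (3) ⇒ (1): if the base change of f along a surjective etale map from a scheme is quasi-affine, then
f is representable by schemes and quasi-affine. -/
theorem result {S : Scheme.{u}} {X Y : AlgSp.Space S} (f : X ⟶ Y)
    (V : Over S) (p : (AlgSp.yon S).obj V ⟶ Y.obj) (hp : AlgSp.RepWith @Etale p) (hps : AlgSp.RepWith @Surjective p)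
    {P : AlgSp.Sp S} (fst : P ⟶ X.obj) (snd : P ⟶ (AlgSp.yon S).obj V) (sq : IsPullback fst snd f.hom p)
    (h : AlgSp.IsQuasiAffineMor snd) : AlgSp.Representable f.hom ∧ AlgSp.IsQuasiAffineMor f.hom := by
  have hqa : AlgSp.IsQuasiAffineMor f.hom :=
    isQuasiAffineMor_of_fpqcRefines Y.property _ _ (fpqcRefines_chart Y.property p hp hps) X.property f.hom
      (fun _ => P) (fun _ => snd) (fun _ => fst) (fun _ => sq) (fun _ => h)
  refine ⟨representable_of_affine_local X.property Y.property f.hom (fun Z hZ g => ?_), hqa⟩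
  obtain ⟨W, i, fst', sq', -⟩ := hqa hZ g
  exact ⟨W, i, fst', sq'⟩

end Groth.Agent.S9946
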