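import Groth.Statements.S9954
import Groth.Agent.Lib.Helper16.GeomPoints
open Groth.Agent.Lib.Helper16

set_option autoImplicit false
universe u
open CategoryTheory CategoryTheory.Limits AlgebraicGeometry
open AlgSp

namespace Groth.Agent.S9954

/-- A morphism locally of finite type is surjective if and only if it is surjective on k-valued points
for every algebraically closed field k over the base. -/
theorem result {S : Scheme.{u}} {X Y : AlgSp.Space S} (f : X ⟶ Y)
    (hf : AlgSp.LocP @LocallyOfFiniteType f.hom) :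
    AlgSp.IsSurjectiveMor f.hom ↔
      ∀ (k : Type u) [Field k] [IsAlgClosed k] (str : Spec (CommRingCat.of k) ⟶ S)
        (y : (AlgSp.yon S).obj (Over.mk str) ⟶ Y.obj),
        ∃ x : (AlgSp.yon S).obj (Over.mk str) ⟶ X.obj, x ≫ f.hom = y := by
  constructor
  · intro hsurj k _ _ str y
    exact exists_lift_geometric_point X.property Y.property f.hom hf hsurj k str y
  · intro h y
    induction y using Points.ind with
    | h q =>
    obtain ⟨φ, hφ⟩ : ∃ φ : Spec (CommRingCat.of (AlgebraicClosure q.K)) ⟶ Spec (CommRingCat.of q.K),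
      φ = Spec.map (CommRingCat.ofHom (algebraMap q.K (AlgebraicClosure q.K))) := ⟨_, rfl⟩
    let a : Over.mk (φ ≫ q.str) ⟶ q.pt := Over.homMk φ rfl
    obtain ⟨x, hx⟩ := h (AlgebraicClosure q.K) (φ ≫ q.str) ((yon S).map a ≫ q.toHom)
    refine ⟨Points.mk (fieldPtOfHom (AlgebraicClosure q.K) (φ ≫ q.str) x), ?_⟩
    rw [Points.map_mk, fieldPtOfHom_map, hx]
    exact mk_fieldPtOfHom_comp q (AlgebraicClosure q.K) (φ ≫ q.str) a

end Groth.Agent.S9954
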