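import Groth.Statements.S9957
import Groth.Agent.Lib.Helper16.Misc2
open Groth.Agent.Lib.Helper16

set_option autoImplicit false
universe u
open CategoryTheory CategoryTheory.Limits AlgebraicGeometry
open AlgSp

namespace Groth.Agent.S9957

/-- The source of a morphism of finite presentation whose target is Noetherian is itself Noetherian,
Noetherian meaning quasi-compact, quasi-separated over S and locally Noetherian. (The published
statement uses quasi-separatedness in the absolute sense; this row uses quasi-separatedness over S
in hypothesis and conclusion.) -/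
theorem result {S : Scheme.{u}} {X Y : AlgSp.Space S} (f : X ⟶ Y)
    (hf : AlgSp.IsFinitePresentationMor f.hom)
    (hY : AlgSp.IsQuasiCompactSp Y.obj ∧ AlgSp.IsQuasiSeparatedSp Y.obj ∧ AlgSp.IsLocNoethSp Y.obj) :
    AlgSp.IsQuasiCompactSp X.obj ∧ AlgSp.IsQuasiSeparatedSp X.obj ∧ AlgSp.IsLocNoethSp X.obj := by
  refine ⟨?_, ?_, ?_⟩
  · exact hf.2.1 Y.property hY.1 (𝟙 _) (𝟙 _) f.hom (IsPullback.id_horiz f.hom)
  · have sqK := isPullback_diag_of_kernelPair f.hom
    have h1 : RepWith @QuasiCompact (prod.lift (pullback.fst f.hom f.hom) (pullback.snd f.hom f.hom)) :=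
      (RepWith (S := S) @QuasiCompact).of_isPullback sqK hY.2.1
    have h2 : RepWith @QuasiCompact (pullback.diagonal f.hom) := hf.2.2
    have h3 := (RepWith (S := S) @QuasiCompact).comp_mem _ _ h2 h1
    show RepWith @QuasiCompact (Limits.diag X.obj)
    rw [diag_eq_diagonal_comp f.hom]
    exact h3
  · have hlft : LocP @LocallyOfFiniteType f.hom := by
      intro U V a b m ha hb hcomm
      have : LocallyOfFinitePresentation m.left := hf.1 a b m ha hb hcomm
      infer_instance
    exact etaleLocally_of_locP_lft X.property f.hom hlft IsLocallyNoetherian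
      (fun A B g hg hB => LocallyOfFiniteType.isLocallyNoetherian g) hY.2.2

end Groth.Agent.S9957
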