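import Groth.Statements.S9960
import Groth.Agent.Lib.Helper16.DiagLfp
open Groth.Agent.Lib.Helper16

set_option autoImplicit false
universe u
open CategoryTheory CategoryTheory.Limits AlgebraicGeometry
open AlgSp

namespace Groth.Agent.S9960

/-- The diagonal of a morphism locally of finite type is locally of finite presentation, and of finite
presentation when the morphism is also quasi-separated. -/
theorem result {S : Scheme.{u}} {X Y : AlgSp.Space S} (f : X ⟶ Y)
    (hf : AlgSp.LocP @LocallyOfFiniteType f.hom) :
    AlgSp.LocP @LocallyOfFinitePresentation (pullback.diagonal f.hom) ∧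
    (AlgSp.IsQuasiSeparatedMor f.hom → AlgSp.IsFinitePresentationMor (pullback.diagonal f.hom)) := by
  have hrep : RepWith @LocallyOfFinitePresentation (pullback.diagonal f.hom) :=
    repWith_lfp_diagonal X.property Y.property f.hom hf
  have hloc : LocP @LocallyOfFinitePresentation (pullback.diagonal f.hom) :=
    locP_of_repWith @LocallyOfFinitePresentation @LocallyOfFinitePresentation
      (fun A B C m i hm hi => by
        have : Etale m := hm
        have : LocallyOfFinitePresentation i := hi
        infer_instance) _ hrep
  refine ⟨hloc, fun hqs => ⟨hloc, isQuasiCompactMor_of_repWith_quasiCompact _ hqs, ?_⟩⟩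
  show RepWith @QuasiCompact (pullback.diagonal (pullback.diagonal f.hom))
  haveI : IsIso (pullback.diagonal (pullback.diagonal f.hom)) :=
    (pullback.isIso_diagonal_iff _).2 inferInstance
  exact MorphismProperty.of_isIso (RepWith (S := S) @QuasiCompact) _

end Groth.Agent.S9960
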