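import Groth.Statements.S9967
import Groth.Agent.Lib.Helper16.SchImgFlat
import Groth.Agent.S9919
open Groth.Agent.Lib.Helper16 Groth.Agent.Lib.Helper16.SchImg

set_option autoImplicit false
universe u
open CategoryTheory CategoryTheory.Limits AlgebraicGeometry
open AlgSp

namespace Groth.Agent.S9967

/-- For a separated f : X -> Y and a section s of f over a quasi-compact open V of Y, the scheme
theoretic image of s maps isomorphically to Y over V. -/
theorem result {S : Scheme.{u}} {X Y V Y' : AlgSp.Space S} (f : X ⟶ Y) (j : V ⟶ Y)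
    (hj : AlgSp.RepWith @IsOpenImmersion j.hom) (hjq : AlgSp.IsQuasiCompactMor j.hom) (hf : AlgSp.IsSeparatedMor f.hom)
    (s : V ⟶ X) (hs : s ≫ f = j) (c : Y' ⟶ X) (hc : AlgSp.IsSchImage s.hom c.hom)
    {P : AlgSp.Sp S} (fst : P ⟶ Y'.obj) (snd : P ⟶ V.obj) (sq : IsPullback fst snd (c ≫ f).hom j.hom) :
    IsIso snd := by
  classical
  -- notation at the level of sheaves
  have hs₀ : s.hom ≫ f.hom = j.hom := by
    have := congrArg (fun k => k.hom) hs
    simpa using this
  -- the open subspace `T = V ×_Y X` of `X`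
  have sqT : IsPullback (pullback.fst (s.hom ≫ f.hom) f.hom) (pullback.snd (s.hom ≫ f.hom) f.hom)
      (s.hom ≫ f.hom) f.hom := IsPullback.of_hasPullback _ _
  have hTalg : IsAlgSpace (pullback (s.hom ≫ f.hom) f.hom) :=
    isAlgSpace_of_isPullback V.property Y.property.diag X.property sqT
  -- the graph of `s` is a closed immersion
  obtain ⟨Γ, hΓfst, hΓsnd, hΓ⟩ : ∃ Γ : V.obj ⟶ pullback (s.hom ≫ f.hom) f.hom,
      Γ ≫ pullback.fst (s.hom ≫ f.hom) f.hom = 𝟙 _ ∧ Γ ≫ pullback.snd (s.hom ≫ f.hom) f.hom = s.hom ∧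
        RepWith @IsClosedImmersion Γ :=
    ⟨pullback.lift (𝟙 V.obj) s.hom (by simp), pullback.lift_fst _ _ _, pullback.lift_snd _ _ _,
      (RepWith @IsClosedImmersion).of_isPullback (pullback_lift_diagonal_isPullback s.hom f.hom) hf⟩
  -- `t₁ : T ⟶ X` is an open immersion
  have ht₁ : RepWith @IsOpenImmersion (pullback.snd (s.hom ≫ f.hom) f.hom) :=
    (RepWith @IsOpenImmersion).of_isPullback sqT (hs₀ ▸ hj)
  have ht₁flat : LocP @Flat (pullback.snd (s.hom ≫ f.hom) f.hom) := by
    refine locP_of_repWith @Flat @IsOpenImmersion ?_ _ ht₁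
    intro A B C m i hm hi
    have : Etale m := hm
    have : IsOpenImmersion i := hi
    exact (inferInstance : Flat (m ≫ i))
  have ht₁mono : Mono (pullback.snd (s.hom ≫ f.hom) f.hom) :=
    mono_of_repWith (P := @IsOpenImmersion)
      (fun _ _ g hg => by
        have : IsOpenImmersion g := hg
        exact (inferInstance : Mono g)) _ ht₁
  -- `s` is quasi-compact
  have hfqs : IsQuasiSeparatedMor f.hom :=
    repWith_mono (fun _ _ g hg => by
      have : IsClosedImmersion g := hg
      exact (inferInstance : QuasiCompact g)) _ hf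
  have hsq : IsQuasiCompactMor s.hom :=
    Groth.Agent.S9919.result s f (by rw [hs]; exact hjq) hfqs
  -- base change squares
  have sqV : IsPullback (𝟙 V.obj) Γ s.hom (pullback.snd (s.hom ≫ f.hom) f.hom) := by
    refine isPullback_of_exists_lift (by rw [Category.id_comp, hΓsnd]) ?_ ?_
    · intro Q a b hab
      refine ⟨a, Category.comp_id _, ?_⟩
      rw [← cancel_mono (pullback.snd (s.hom ≫ f.hom) f.hom), Category.assoc, hΓsnd, hab]
    · intro Q l l' h1 _
      simpa using h1
  have hw : snd ≫ (s.hom ≫ f.hom) = (fst ≫ c.hom) ≫ f.hom := by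
    rw [hs₀, ← sq.w, Category.assoc]
    rfl
  obtain ⟨iT, hiT1, hiT2⟩ : ∃ iT : P ⟶ pullback (s.hom ≫ f.hom) f.hom,
      iT ≫ pullback.fst (s.hom ≫ f.hom) f.hom = snd ∧
        iT ≫ pullback.snd (s.hom ≫ f.hom) f.hom = fst ≫ c.hom :=
    ⟨pullback.lift snd (fst ≫ c.hom) hw, pullback.lift_fst _ _ _, pullback.lift_snd _ _ _⟩
  have sqZ : IsPullback fst iT c.hom (pullback.snd (s.hom ≫ f.hom) f.hom) := by
    refine IsPullback.of_bot ?_ hiT2.symm sqT.flip
    rw [hiT1]
    have : IsPullback fst snd (c.hom ≫ f.hom) j.hom := sq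
    rw [← hs₀] at this
    exact this
  -- flat base change of the scheme theoretic image
  have himg : IsSchImage Γ iT :=
    isSchImage_flat_baseChange hTalg X.property V.property Y'.property _ ht₁flat s.hom hsq c.hom hc
      (𝟙 V.obj) _ sqV fst _ sqZ
  -- the graph is its own scheme theoretic image
  obtain ⟨hicl, ⟨f', hf'⟩, hmin⟩ := himg
  obtain ⟨k, hk⟩ := hmin Γ V.property hΓ ⟨𝟙 _, Category.id_comp _⟩
  have himono : Mono iT := mono_of_repWith_isClosedImmersion _ hicl
  have hΓmono : Mono Γ := mono_of_repWith_isClosedImmersion _ hΓ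
  have hk1 : k ≫ f' = 𝟙 _ := by
    rw [← cancel_mono iT, Category.assoc, hf', hk, Category.id_comp]
  have hk2 : f' ≫ k = 𝟙 _ := by
    rw [← cancel_mono Γ, Category.assoc, hk, hf', Category.id_comp]
  have hsnd : snd = k := by
    rw [← hiT1, ← hk, Category.assoc, hΓfst, Category.comp_id]
  rw [hsnd]
  exact ⟨f', hk1, hk2⟩

end Groth.Agent.S9967
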