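import Groth.Statements.S9968
import Mathlib
import Groth.Agent.Lib.Helper17.SchDenseChart

set_option autoImplicit false
universe u
open CategoryTheory CategoryTheory.Limits AlgebraicGeometry
open AlgSp

namespace Groth.Agent.S9968

/-- (2) ⇒ (1): if an open subspace is scheme theoretically dense on one surjective etale scheme chart
then its inverse image on every etale scheme chart is scheme theoretically dense. (Density is read
as schematic density of the inverse image open, on both sides; the test objects are scheme charts.) -/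
theorem result {S : Scheme.{u}} {U X : AlgSp.Space S} (j : U ⟶ X)
    (hj : AlgSp.IsSchDense j.hom) (V : Over S) (φ : (AlgSp.yon S).obj V ⟶ X.obj) (hφ : AlgSp.RepWith @Etale φ)
    (W : V.left.Opens) (fst : (AlgSp.yon S).obj (Over.mk (W.ι ≫ V.hom)) ⟶ U.obj)
    (sq : IsPullback fst ((AlgSp.yon S).map (Over.homMk W.ι rfl : Over.mk (W.ι ≫ V.hom) ⟶ V)) j.hom φ) :
    CInt.IsSchematicallyDense W := by
  obtain ⟨-, V₀, φ₀, W₀, fst₀, hφ₀e, hφ₀s, sq₀, hW₀⟩ := hj
  exact Groth.Agent.Lib.Helper17.SchDenseChart.isSchematicallyDense_chart j.hom φ₀ W₀ fst₀ hφ₀e hφ₀s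
    sq₀ hW₀ φ hφ W fst sq

end Groth.Agent.S9968
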