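import Groth.Statements.S9979
import Groth.Agent.Lib.Helper16.SchImgVal
import Groth.Agent.Lib.Helper16.SchImgQc2
open Groth.Agent.Lib.Helper16

set_option autoImplicit false
universe u
open CategoryTheory CategoryTheory.Limits AlgebraicGeometry
open AlgSp

namespace Groth.Agent.S9979

/-- Every point of the scheme theoretic image of a quasi-compact morphism is reached by a valuation ring
whose generic point lifts to the source. -/
theorem result {S : Scheme.{u}} {X Y Z : AlgSp.Space S} (f : X ⟶ Y) (i : Z ⟶ Y)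
    (hq : AlgSp.IsQuasiCompactMor f.hom) (hZ : AlgSp.IsSchImage f.hom i.hom) (z : AlgSp.Points Z.obj) :
    ∃ (A : Type u) (_ : CommRing A) (_ : IsDomain A) (_ : ValuationRing A) (str : Spec (CommRingCat.of A) ⟶ S)
      (a : (AlgSp.yon S).obj (Over.mk str) ⟶ Z.obj)
      (x : (AlgSp.yon S).obj (Over.mk (Spec.map (CommRingCat.ofHom (algebraMap A (FractionRing A))) ≫ str)) ⟶ X.obj),
      AlgSp.Points.ofPt a (IsLocalRing.closedPoint A) = z ∧
      x ≫ f.hom = (AlgSp.yon S).map (Over.homMk (Spec.map (CommRingCat.ofHom (algebraMap A (FractionRing A)))) rfl) ≫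
        a ≫ i.hom := by
  classical
  obtain ⟨A₀, B₀, p, g₀, ε, hpe, hps, hεe, hεs, hε, hqc⟩ :=
    SchImg.exists_qc_chart X.property Y.property f.hom hq
  obtain ⟨qZ, sqA⟩ := SchImg.exists_isPullback_of_isSchImage Y.property Z.property f.hom i.hom hZ p hpe hps
    g₀ ε hεe hεs hε
  have hqs : RepWith @Surjective qZ := (RepWith @Surjective).of_isPullback sqA.flip hps
  obtain ⟨z₀, rfl⟩ := ofPt_surjective_of_surjective qZ hqs z
  obtain ⟨b, R, a, ha, hw⟩ := SchImgKer.exists_valuationSubring_to_image g₀.left z₀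
  -- the fraction field of `R` is the residue field
  let e : B₀.left.residueField b ≃ₐ[R] FractionRing R :=
    (FractionRing.algEquiv R (B₀.left.residueField b)).symm
  have he : (e : B₀.left.residueField b →+* FractionRing R).comp R.subtype =
      algebraMap R (FractionRing R) := by
    ext r
    exact e.commutes r
  obtain ⟨xs, hxs⟩ : ∃ xs : Spec (CommRingCat.of (FractionRing R)) ⟶ B₀.left,
      xs = Spec.map (CommRingCat.ofHom (e : B₀.left.residueField b →+* FractionRing R)) ≫
        B₀.left.fromSpecResidueField b := ⟨_, rfl⟩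
  have hxg : xs ≫ g₀.left =
      Spec.map (CommRingCat.ofHom (algebraMap R (FractionRing R))) ≫ a ≫ g₀.left.imageι := by
    rw [hxs, Category.assoc, ← hw, ← Category.assoc, ← Spec.map_comp, ← CommRingCat.ofHom_comp, he]
  have hover : xs ≫ B₀.hom = Spec.map (CommRingCat.ofHom (algebraMap R (FractionRing R))) ≫
      a ≫ g₀.left.ker.subschemeι ≫ A₀.hom := by
    rw [← Over.w g₀, ← Category.assoc, hxg]
    simp only [Category.assoc]
  refine ⟨R, inferInstance, inferInstance, inferInstance, a ≫ g₀.left.ker.subschemeι ≫ A₀.hom,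
    (yon S).map (Over.homMk a rfl : Over.mk (a ≫ g₀.left.ker.subschemeι ≫ A₀.hom) ⟶
      Over.mk (g₀.left.ker.subschemeι ≫ A₀.hom)) ≫ qZ,
    (yon S).map (Over.homMk xs hover : Over.mk (Spec.map (CommRingCat.ofHom
      (algebraMap R (FractionRing R))) ≫ a ≫ g₀.left.ker.subschemeι ≫ A₀.hom) ⟶ B₀) ≫
      ε ≫ pullback.fst f.hom p, ?_, ?_⟩
  · rw [ofPt_yon_map_comp]
    exact congrArg _ ha
  · have e1 : ε ≫ pullback.fst f.hom p ≫ f.hom = (yon S).map g₀ ≫ p := by
      rw [pullback.condition, ← Category.assoc, hε]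
    have gen : ∀ {T : Over S} (ξ : T ⟶ B₀),
        ((yon S).map ξ ≫ ε ≫ pullback.fst f.hom p) ≫ f.hom = (yon S).map (ξ ≫ g₀) ≫ p := by
      intro T ξ
      rw [Category.assoc, Category.assoc, e1, ← Category.assoc, ← Functor.map_comp]
    have gen2 : ∀ {T T' : Over S} (j : T ⟶ T') (α : T' ⟶ Over.mk (g₀.left.ker.subschemeι ≫ A₀.hom)),
        (yon S).map j ≫ ((yon S).map α ≫ qZ) ≫ i.hom =
          (yon S).map (j ≫ α ≫ (Over.homMk g₀.left.ker.subschemeι rfl :
            Over.mk (g₀.left.ker.subschemeι ≫ A₀.hom) ⟶ A₀)) ≫ p := by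
      intro T T' j α
      rw [Category.assoc, sqA.w, Functor.map_comp, Functor.map_comp, Category.assoc, Category.assoc]
    refine (gen _).trans (Eq.trans ?_ (gen2 _ _).symm)
    congr 2
    ext1
    exact hxg

end Groth.Agent.S9979
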