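import Groth.Statements.S9980
import Groth.Agent.Lib.Helper16.ResidualSp3

set_option autoImplicit false
universe u
open CategoryTheory CategoryTheory.Limits AlgebraicGeometry
open AlgSp

namespace Groth.Agent.S9980

/-- Characterizations of finite type points via one-point algebraic spaces locally of finite type over X
and via monomorphisms from quotients of spectra of fields. -/
theorem result {S : Scheme.{u}} (X : AlgSp.Space S) (x : AlgSp.Points X.obj) :
    ((∃ (k : Type u) (_ : Field k) (str : Spec (CommRingCat.of k) ⟶ S) (ξ : (AlgSp.yon S).obj (Over.mk str) ⟶ X.obj),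
        AlgSp.LocP @LocallyOfFiniteType ξ ∧ AlgSp.Points.ofPt ξ (IsLocalRing.closedPoint k) = x) ↔
      ∃ (Z : AlgSp.Space S) (f : Z ⟶ X), Nonempty (Unique (AlgSp.Points Z.obj)) ∧
        AlgSp.LocP @LocallyOfFiniteType f.hom ∧ Set.range (AlgSp.Points.map f.hom) = {x}) ∧
    ((∃ (k : Type u) (_ : Field k) (str : Spec (CommRingCat.of k) ⟶ S) (ξ : (AlgSp.yon S).obj (Over.mk str) ⟶ X.obj),
        AlgSp.LocP @LocallyOfFiniteType ξ ∧ AlgSp.Points.ofPt ξ (IsLocalRing.closedPoint k) = x) ↔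
      ∃ (Z : AlgSp.Space S) (f : Z ⟶ X) (k : Type u) (_ : Field k) (str : Spec (CommRingCat.of k) ⟶ S)
        (z : (AlgSp.yon S).obj (Over.mk str) ⟶ Z.obj), AlgSp.RepWith @Etale z ∧ AlgSp.RepWith @Surjective z ∧
        AlgSp.LocP @LocallyOfFiniteType f.hom ∧ Mono f.hom ∧
        AlgSp.Points.ofPt (z ≫ f.hom) (IsLocalRing.closedPoint k) = x) := by

  refine ⟨⟨fun hA => ?_, ?_⟩, ⟨fun hA => ?_, ?_⟩⟩
  · obtain ⟨Z, hZ, i, k, hk, str, p, hpe, hps, hlft, hmono, hx⟩ :=
      Groth.Agent.Lib.Helper16.ResidualSp3.exists_mono_quotient_of_isFtPt X.property hA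
    obtain ⟨hU, hr⟩ := Groth.Agent.Lib.Helper16.ResidualSp3.unique_and_range_of_quot i k str p hps hx
    exact ⟨⟨Z, hZ⟩, ObjectProperty.homMk i, hU, hlft, hr⟩
  · rintro ⟨Z, f, hU, hf, hr⟩
    exact Groth.Agent.Lib.Helper16.ResidualSp3.isFtPt_of_unique Z.property X.property f.hom hU hf hr
  · obtain ⟨Z, hZ, i, k, hk, str, p, hpe, hps, hlft, hmono, hx⟩ :=
      Groth.Agent.Lib.Helper16.ResidualSp3.exists_mono_quotient_of_isFtPt X.property hA
    exact ⟨⟨Z, hZ⟩, ObjectProperty.homMk i, k, hk, str, p, hpe, hps, hlft, hmono, hx⟩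
  · rintro ⟨Z, f, k, hk, str, z, hze, hzs, hf, hmono, hx⟩
    exact Groth.Agent.Lib.Helper16.ResidualSp3.isFtPt_of_quot Z.property X.property f.hom k str z hze hf hx

end Groth.Agent.S9980
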