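import Groth.Statements.S9986
import Groth.Agent.Lib.Helper16.SchDense
import Groth.Agent.Lib.Helper17.SchDenseChart

open Groth.Agent.Lib.Helper16 Groth.Agent.Lib.Helper16.SchImg Groth.Agent.Lib.Helper15 Groth.Agent.Lib.Helper17.SchDenseChart

set_option autoImplicit false
universe u
open CategoryTheory CategoryTheory.Limits AlgebraicGeometry
open AlgSp

namespace Groth.Agent.S9986

variable {S : Scheme.{u}}

theorem inj_of_comp {X Y Z : Scheme.{u}} (f : X ⟶ Y) (g : Y ⟶ Z) (k : X ⟶ Z) (h : f ≫ g = k)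
    (O : Z.Opens) (hk : Function.Injective (k.app O).hom) : Function.Injective (g.app O).hom := by
  subst h
  have e : ⇑((f ≫ g).app O).hom = ⇑(f.app (g ⁻¹ᵁ O)).hom ∘ ⇑(g.app O).hom := rfl
  rw [e] at hk
  exact Function.Injective.of_comp hk

theorem injective_map_of_eq₂ {X : Scheme.{u}} {A A' B B' : X.Opens} (hA : A = A') (hB : B = B')
    (i : A ⟶ B) (i' : A' ⟶ B') (hinj : Function.Injective (X.presheaf.map i.op).hom) :
    Function.Injective (X.presheaf.map i'.op).hom := by
  subst hA hB
  rwa [Subsingleton.elim i' i]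

theorem ι_app_injective {V : Scheme.{u}} (W : V.Opens) (h : CInt.IsSchematicallyDense W) (O : V.Opens) :
    Function.Injective (W.ι.app O).hom := by
  have heq : W.ι ''ᵁ W.ι ⁻¹ᵁ O = O ⊓ W := by
    rw [Scheme.Hom.image_preimage_eq_opensRange_inf, Scheme.Opens.opensRange_ι, inf_comm]
  exact injective_map_of_eq heq (heq.le.trans inf_le_left) inf_le_left (h O)

theorem final {V : Scheme.{u}} (O W : V.Opens)
    (h : Function.Injective ((O.ι ⁻¹ᵁ W).ι.app ⊤).hom) :
    Function.Injective (V.presheaf.map (homOfLE (inf_le_left : O ⊓ W ≤ O)).op) := by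
  have h1 : Function.Injective ((O : Scheme.{u}).presheaf.map
      (homOfLE (x := (O.ι ⁻¹ᵁ W).ι ''ᵁ (O.ι ⁻¹ᵁ W).ι ⁻¹ᵁ ⊤) (y := ⊤) le_top).op).hom := h
  have h2 : Function.Injective (V.presheaf.map (O.ι.opensFunctor.map
      (homOfLE (x := (O.ι ⁻¹ᵁ W).ι ''ᵁ (O.ι ⁻¹ᵁ W).ι ⁻¹ᵁ ⊤) (y := ⊤) le_top)).op).hom := h1
  refine injective_map_of_eq₂ ?_ ?_ _ _ h2
  · rw [Scheme.Hom.image_preimage_eq_opensRange_inf, Scheme.Opens.opensRange_ι, inf_top_eq,
      Scheme.Hom.image_preimage_eq_opensRange_inf, Scheme.Opens.opensRange_ι]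
  · exact O.ι_image_top

theorem snd_app_injective_iff {G F : Sp S} (j : G ⟶ F) (hr : Representable j) {V : Over S}
    (φ : (yon S).obj V ⟶ F) (W : V.left.Opens) (fst : (yon S).obj (overOpen V W) ⟶ G)
    (sq : IsPullback fst ((yon S).map (overOpenι V W)) j φ) (O : V.left.Opens) :
    Function.Injective ((hr.snd φ).left.app O).hom ↔ Function.Injective (W.ι.app O).hom := by
  have sq1 := hr.isPullback φ
  obtain ⟨a, ha⟩ := (yon S).map_surjective (sq.lift (hr.fst φ) ((yon S).map (hr.snd φ)) sq1.w)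
  obtain ⟨b, hb⟩ := (yon S).map_surjective (sq1.lift fst ((yon S).map (overOpenι V W)) sq.w)
  have ha2 : a ≫ overOpenι V W = hr.snd φ := by
    apply (yon S).map_injective
    rw [Functor.map_comp, ha, sq.lift_snd]
  have hb2 : b ≫ hr.snd φ = overOpenι V W := by
    apply (yon S).map_injective
    rw [Functor.map_comp, hb, sq1.lift_snd]
  have ha3 : a.left ≫ W.ι = (hr.snd φ).left := congrArg CommaMorphism.left ha2
  have hb3 : b.left ≫ (hr.snd φ).left = W.ι := congrArg CommaMorphism.left hb2
  exact ⟨fun h => inj_of_comp a.left W.ι _ ha3 O h, fun h => inj_of_comp b.left _ W.ι hb3 O h⟩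

theorem injective_app_of_mono {X : Sp S} {F G : EtSh X RingCat.{u + 1}} (f : F ⟶ G) [Mono f]
    (E : EtOver X) : Function.Injective (f.hom.app (Opposite.op E)).hom := by
  haveI : Mono ((sheafToPresheaf (etTop X) RingCat.{u + 1}).map f) := inferInstance
  haveI : Mono (((evaluation (EtOver X)ᵒᵖ RingCat.{u + 1}).obj (Opposite.op E)).map
      ((sheafToPresheaf (etTop X) RingCat.{u + 1}).map f)) := inferInstance
  exact ConcreteCategory.injective_of_mono_of_preservesPullback
    (((evaluation (EtOver X)ᵒᵖ RingCat.{u + 1}).obj (Opposite.op E)).map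
      ((sheafToPresheaf (etTop X) RingCat.{u + 1}).map f))


/-- For an open immersion j : U -> X of algebraic spaces, U is scheme theoretically dense in X exactly
when the comparison map from O_X to j_* O_U on the small etale site of X is a monomorphism of
sheaves of rings. -/
theorem result {S : Scheme.{u}} {U X : AlgSp.Space S} (j : U ⟶ X)
    (hj : AlgSp.RepWith @IsOpenImmersion j.hom) :
    AlgSp.IsSchDense j.hom ↔ Mono (AlgSp.bcRingHom hj.1) := by
  constructor
  · intro hd
    obtain ⟨hjo, V₀, φ₀, W₀, fst₀, hφe, hφs, sq₀, hW₀⟩ := hd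
    have key : ∀ E : EtOver X.obj, Function.Injective ((hj.1.snd E.obj.hom).left.app ⊤).hom := by
      intro E
      obtain ⟨W, fstW, sqW⟩ := exists_opens_isPullback j.hom hj E.obj.hom
      have dens : CInt.IsSchematicallyDense W :=
        isSchematicallyDense_chart j.hom φ₀ W₀ fst₀ hφe hφs sq₀ hW₀ E.obj.hom E.property W fstW sqW
      rw [snd_app_injective_iff j.hom hj.1 E.obj.hom W fstW sqW ⊤]
      exact ι_app_injective W dens ⊤
    haveI : ∀ E, Mono ((AlgSp.bcRingHom hj.1).hom.app E) := fun E => by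
      refine ConcreteCategory.mono_of_injective _ ?_
      intro s t hst
      have h1 : ((hj.1.snd E.unop.obj.hom).left.app ⊤).hom s.down =
          ((hj.1.snd E.unop.obj.hom).left.app ⊤).hom t.down := congrArg ULift.down hst
      exact ULift.ext _ _ (key E.unop h1)
    haveI : Mono (AlgSp.bcRingHom hj.1).hom := NatTrans.mono_of_mono_app _
    exact Sheaf.Hom.mono_of_presheaf_mono _ _ _
  · intro hm
    obtain ⟨V, φ, hφe, hφs⟩ := X.property.atlas
    obtain ⟨W, fstW, sqW⟩ := exists_opens_isPullback j.hom hj φ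
    refine ⟨hj, V, φ, W, fstW, hφe, hφs, sqW, fun O => ?_⟩
    have hφO : RepWith @Etale ((yon S).map (overOpenι V O) ≫ φ) := repWith_etale_restrict φ hφe O
    let E : EtOver X.obj := EtOver.mk ((yon S).map (overOpenι V O) ≫ φ) hφO
    have h1 : Function.Injective ((AlgSp.bcRingHom hj.1).hom.app (Opposite.op E)).hom :=
      injective_app_of_mono _ E
    have h2 : Function.Injective ((hj.1.snd E.obj.hom).left.app ⊤).hom := by
      intro s t hst
      have := @h1 ⟨s⟩ ⟨t⟩ (congrArg ULift.up hst)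
      exact congrArg ULift.down this
    have sqid : IsPullback (𝟙 U.obj) j.hom j.hom (𝟙 X.obj) := IsPullback.of_id_fst
    obtain ⟨fstO, sqO⟩ := exists_isPullback_opens_chart sqid sqW
      ((yon S).map (overOpenι V O) ≫ φ) (overOpenι V O) (Category.comp_id _)
    rw [snd_app_injective_iff j.hom hj.1 E.obj.hom _ fstO sqO ⊤] at h2
    exact final O W h2

end Groth.Agent.S9986
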