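import Groth.Statements.S9987
import Groth.Agent.Lib.Helper15.AlgSpLocRing

open Groth.Agent.Lib.Helper15.AlgSpLocRing

set_option autoImplicit false
universe u
open CategoryTheory CategoryTheory.Limits AlgebraicGeometry Opposite
open AlgSp

namespace Groth.Agent.S9987

/-- For a closed immersion i : Z ⟶ X of algebraic spaces over S (representable, every base change to a
scheme a closed immersion), the comparison map O_X ⟶ i_* O_Z of sheaves of rings on the small etale
site of X is locally surjective. (The published statement also asserts that i_* O_Z is a
quasi-coherent O_X-module and that the kernel of O_X ⟶ i_* O_Z is a quasi-coherent sheaf of ideals;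
those two assertions are the closed-immersion cases of the general facts that direct images along
quasi-compact quasi-separated morphisms preserve quasi-coherence and that the kernel ideal of a
quasi-compact morphism is quasi-coherent, a closed immersion being quasi-compact and separated, and
only the surjectivity is stated here.) -/
theorem result {S : Scheme.{u}} {Z X : AlgSp.Space S} (i : Z ⟶ X)
    (hi : AlgSp.RepWith @IsClosedImmersion i.hom) :
    Presheaf.IsLocallySurjective (AlgSp.etTop X.obj) (AlgSp.bcRingHom hi.1).hom := by
  refine ⟨fun {E} s => ?_⟩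
  have hcov : Sieve.ofArrows (fun V : E.obj.left.left.affineOpens => openObj E V.1)
      (fun V => openHom E V.1) ∈ etTop X.obj E :=
    ofArrows_mem_etTop _ _ (fun x => by
      obtain ⟨V, hV, hx, -⟩ := TopologicalSpace.Opens.isBasis_iff_nbhd.mp
        (E.obj.left.left.isBasis_affineOpens) (show x ∈ (⊤ : E.obj.left.left.Opens) from trivial)
      refine ⟨⟨V, hV⟩, ?_⟩
      show x ∈ Set.range ((Scheme.Opens.ι (X := E.obj.left.left) V) : _ → _)
      rw [Scheme.Opens.range_ι]; exact hx)
  refine (etTop X.obj).superset_covering ?_ hcov
  rw [Sieve.ofArrows, Sieve.generate_le_iff]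
  rintro _ _ ⟨V⟩
  haveI : IsAffine (openObj E V.1).obj.left.left := V.2
  haveI : IsClosedImmersion (hi.1.snd (openObj E V.1).obj.hom).left :=
    hi.2 _ _ _ (hi.1.isPullback (openObj E V.1).obj.hom)
  obtain ⟨t0, ht0⟩ := (IsClosedImmersion.isAffine_surjective_of_isAffine
    (hi.1.snd (openObj E V.1).obj.hom).left).2
    ((EtOver.bcMap hi.1 (openHom E V.1)).hom.left.left.appTop.hom s.down)
  refine ⟨ULift.up t0, ?_⟩
  exact congrArg ULift.up ht0

end Groth.Agent.S9987
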