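import Groth.Statements.S9989
import Groth.Agent.S10001
import Groth.Agent.Lib.Helper16.MonoDescent
import Groth.Agent.Lib.Helper16.Rep
import Mathlib.CategoryTheory.Sites.RegularEpi
open Groth.Agent.Lib.Helper15 Groth.Agent.Lib.Helper16

set_option autoImplicit false
universe u
open CategoryTheory CategoryTheory.Limits AlgebraicGeometry Opposite
open AlgSp

namespace Groth.Agent.S9989


set_option backward.isDefEq.respectTransparency false

/-- For closed subspaces i : Z ⟶ X and i' : Z' ⟶ X of an algebraic space cut out by sheaves of ideals I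
and I', one has I ≤ I' exactly when i' factors through i. -/
theorem result {S : Scheme.{u}} {X Z Z' : AlgSp.Space S} (i : Z ⟶ X) (i' : Z' ⟶ X)
    (I I' : AlgSp.IdealEt X.obj) (h : AlgSp.IsCutOutBy I i.hom) (h' : AlgSp.IsCutOutBy I' i'.hom) :
    I ≤ I' ↔ ∃ k : Z' ⟶ Z, k ≫ i = i' := by
  obtain ⟨hi, rfl⟩ := h
  obtain ⟨hi', rfl⟩ := h'
  constructor
  · intro hle
    have hmono : Mono i.hom := mono_of_repWith (P := @IsClosedImmersion) (fun _ _ g hg => by
      have : IsClosedImmersion g := hg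
      exact (inferInstance : Mono g)) i.hom hi
    obtain ⟨V', a', ha'e, ha's⟩ := Z'.property.atlas
    have hh : Representable (a' ≫ i'.hom) := X.property.representable_from_yon _
    have hle' : idealOfRep hi.1 ≤ idealOfRep hh := by
      intro E hE
      refine (hle E hE).trans ?_
      exact ((Groth.Agent.S10001.result i' (idealOfRep hi'.1) ⟨hi', rfl⟩ (a' ≫ i'.hom) hh).1
        ⟨a', rfl⟩) E hE
    obtain ⟨kV, hkV⟩ :=
      (Groth.Agent.S10001.result i (idealOfRep hi.1) ⟨hi, rfl⟩ (a' ≫ i'.hom) hh).2 hle'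
    have hepi : Epi a' := epi_of_etale_surjective a' ha'e ha's
    have := IsRegularEpiCategory.regularEpiOfEpi a'
    have hdesc : ∀ {F : Sp S} (g₁ g₂ : F ⟶ (yon S).obj V'), g₁ ≫ a' = g₂ ≫ a' →
        g₁ ≫ kV = g₂ ≫ kV := by
      intro F g₁ g₂ h12
      rw [← cancel_mono i.hom, Category.assoc, Category.assoc, hkV, ← Category.assoc,
        ← Category.assoc, h12]
    let k : Z'.obj ⟶ Z.obj := EffectiveEpi.desc a' kV hdesc
    have hk : a' ≫ k = kV := EffectiveEpi.fac _ _ _
    refine ⟨ObjectProperty.homMk k, ?_⟩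
    apply ObjectProperty.hom_ext
    show k ≫ i.hom = i'.hom
    rw [← cancel_epi a', ← Category.assoc, hk, hkV]
  · rintro ⟨k, hk⟩ E hE a ha
    have ha' : (hi.rep.snd E.obj.hom).left.appTop.hom a = 0 := ha
    show a ∈ RingHom.ker (hi'.rep.snd E.obj.hom).left.appTop.hom
    have sqZ := hi.rep.isPullback E.obj.hom
    have sqZ' := hi'.rep.isPullback E.obj.hom
    have hk' : k.hom ≫ i.hom = i'.hom := congrArg (fun m => m.hom) hk
    have hw : (hi'.rep.fst E.obj.hom ≫ k.hom) ≫ i.hom =
        (yon S).map (hi'.rep.snd E.obj.hom) ≫ E.obj.hom := by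
      rw [Category.assoc, hk']; exact sqZ'.w
    let ℓ := (yon S).preimage (sqZ.lift _ _ hw)
    have hℓ : ℓ ≫ hi.rep.snd E.obj.hom = hi'.rep.snd E.obj.hom :=
      (yon S).map_injective (by rw [Functor.map_comp, Functor.map_preimage, sqZ.lift_snd])
    rw [RingHom.mem_ker, ← hℓ]
    show ((ℓ.left ≫ (hi.rep.snd E.obj.hom).left).appTop.hom) a = 0
    rw [Scheme.Hom.comp_appTop, CommRingCat.hom_comp, RingHom.comp_apply, ha', map_zero]

end Groth.Agent.S9989
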