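import Groth.Statements.S9993
import Groth.Agent.Lib.Helper15.LocPPointwise
open Groth.Agent.Lib.Helper15 Groth.Agent.Lib.Helper16

set_option autoImplicit false
universe u
open CategoryTheory CategoryTheory.Limits AlgebraicGeometry
open AlgSp

namespace Groth.Agent.S9993

/-- A morphism f : X ⟶ Y of algebraic spaces has P at the point x in the neighbourhood sense (some chart
diagram through x whose top arrow has P on an open neighbourhood of the chosen point) if and only if
some open subspace X' of X through x has its restriction X' ⟶ Y in the class P etale locally on the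
source and target. -/
theorem result {S : Scheme.{u}} (P : MorphismProperty Scheme.{u})
    (hP : P = @LocallyOfFiniteType ∨ P = @LocallyOfFinitePresentation ∨ P = @Flat ∨ P = @Smooth ∨ P = @Etale ∨
      (∀ ⦃A B : Scheme.{u}⦄ (g : A ⟶ B), P g ↔ (LocallyQuasiFinite g ∧ LocallyOfFiniteType g)) ∨
      (∀ ⦃A B : Scheme.{u}⦄ (g : A ⟶ B), P g ↔ (LocallyOfFiniteType g ∧ FormallyUnramified g)))
    {X Y : AlgSp.Space S} (f : X ⟶ Y) (x : AlgSp.Points X.obj) :
    AlgSp.HasAtMor (fun U _ h u => ∃ W : U.Opens, u ∈ W ∧ P (W.ι ≫ h)) f.hom x ↔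
      ∃ (X' : AlgSp.Space S) (j : X' ⟶ X), AlgSp.RepWith @IsOpenImmersion j.hom ∧
        x ∈ Set.range (AlgSp.Points.map j.hom) ∧ AlgSp.LocP P (j ≫ f).hom := by
  have hP' := etLocalST_of_seven P hP
  constructor
  · rintro ⟨U, V, a, b, h, u, ha, hb, hab, hux, W, huW, hPW⟩
    let 𝒲 : Set (Points X.obj) := Points.ofPt a '' (W : Set U.left)
    have h𝒲 : IsOpen 𝒲 := isOpenMap_ofPt_of_etale a ha _ W.isOpen
    refine ⟨⟨openSub X.obj 𝒲, isAlgSpace_openSub X.property 𝒲 h𝒲⟩,
      ObjectProperty.homMk (openSubι X.obj 𝒲), repWith_isOpenImmersion_openSubι 𝒲 h𝒲, ?_, ?_⟩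
    · show x ∈ Set.range (Points.map (openSubι X.obj 𝒲))
      rw [range_map_openSubι]
      exact ⟨u, huW, hux⟩
    · show LocP P (openSubι X.obj 𝒲 ≫ f.hom)
      obtain ⟨a₁, ha₁⟩ := (exists_factor_openSub_iff 𝒲 ((yon S).map (overOpenι U W) ≫ a)).2 (by
        intro t
        rw [ofPt_restrict]
        have ht : W.ι t ∈ Set.range W.ι := ⟨t, rfl⟩
        rw [Scheme.Opens.range_ι] at ht
        exact ⟨W.ι t, ht, rfl⟩)
      have ha₁e : RepWith @Etale a₁ := repWith_of_comp_mono @Etale a₁ (openSubι X.obj 𝒲) (by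
        rw [ha₁]; exact repWith_etale_restrict a ha W)
      intro U' V' a' b' h' ha' hb' hab'
      refine chart_mem_of_pointwise hP' (openSubι X.obj 𝒲 ≫ f.hom) a' b' h' ha' hb' hab' (fun u' => ?_)
      have hmem : Points.map (openSubι X.obj 𝒲) (Points.ofPt a' u') ∈ 𝒲 :=
        (Set.ext_iff.mp (range_map_openSubι 𝒲) _).1 ⟨_, rfl⟩
      obtain ⟨w, hwW, hw⟩ := hmem
      obtain ⟨w', hw'⟩ : ∃ w' : ↥(overOpen U W).left, W.ι w' = w := by
        have : w ∈ Set.range W.ι := by rw [Scheme.Opens.range_ι]; exact hwW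
        exact this
      refine ⟨overOpen U W, V, a₁, b, overOpenι U W ≫ h, w', ha₁e, hb, ?_, ?_, hPW⟩
      · rw [← Category.assoc, ha₁, Category.assoc, hab, Functor.map_comp, Category.assoc]
      · apply points_map_injective_of_mono (openSubι X.obj 𝒲)
        rw [Points.map_ofPt, ha₁, ofPt_restrict, hw', hw]
  · rintro ⟨X', j, hjo, ⟨x', hx'⟩, hloc⟩
    obtain ⟨U, V, a', b, h, u, hae', hbe, hab', hu⟩ :=
      exists_chart_diagram_through X'.property Y.property (j ≫ f).hom x'
    refine ⟨U, V, a' ≫ j.hom, b, h, u,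
      (RepWith @Etale).comp_mem _ _ hae' (repWith_etale_of_isOpenImmersion hjo), hbe, ?_, ?_, ⊤, trivial, ?_⟩
    · rw [Category.assoc]; exact hab'
    · rw [← Points.map_ofPt, hu]; exact hx'
    · exact hP'.precomp _ _ (inferInstance : Etale (⊤ : U.left.Opens).ι) (hloc a' b h hae' hbe hab')

end Groth.Agent.S9993
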