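import Groth.Statements.S9994
import Groth.Agent.Lib.Helper15.LocPPointwise
open Groth.Agent.Lib.Helper15 Groth.Agent.Lib.Helper16

set_option autoImplicit false
universe u
open CategoryTheory CategoryTheory.Limits AlgebraicGeometry
open AlgSp

namespace Groth.Agent.S9994

/-- A morphism f : X ⟶ Y of algebraic spaces has P etale locally on the source and target if and only if
it has P at every point of |X| in the neighbourhood sense (some chart diagram through the point
whose top arrow has P on an open neighbourhood of the chosen point). -/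
theorem result {S : Scheme.{u}} (P : MorphismProperty Scheme.{u})
    (hP : P = @LocallyOfFiniteType ∨ P = @LocallyOfFinitePresentation ∨ P = @Flat ∨ P = @Smooth ∨ P = @Etale ∨
      (∀ ⦃A B : Scheme.{u}⦄ (g : A ⟶ B), P g ↔ (LocallyQuasiFinite g ∧ LocallyOfFiniteType g)) ∨
      (∀ ⦃A B : Scheme.{u}⦄ (g : A ⟶ B), P g ↔ (LocallyOfFiniteType g ∧ FormallyUnramified g)))
    {X Y : AlgSp.Space S} (f : X ⟶ Y) :
    AlgSp.LocP P f.hom ↔
      ∀ x : AlgSp.Points X.obj, AlgSp.HasAtMor (fun U _ h u => ∃ W : U.Opens, u ∈ W ∧ P (W.ι ≫ h)) f.hom x := by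
  have hP' := etLocalST_of_seven P hP
  constructor
  · intro hloc x
    obtain ⟨U, V, a, b, h, u, hae, hbe, hab, hu⟩ :=
      exists_chart_diagram_through X.property Y.property f.hom x
    refine ⟨U, V, a, b, h, u, hae, hbe, hab, hu, ⊤, trivial, ?_⟩
    exact hP'.precomp _ _ (inferInstance : Etale (⊤ : U.left.Opens).ι) (hloc a b h hae hbe hab)
  · intro H U V a b h ha hb hab
    refine chart_mem_of_pointwise hP' f.hom a b h ha hb hab (fun u => ?_)
    obtain ⟨U₁, V₁, a₁, b₁, h₁, u₁, ha₁, hb₁, hab₁, hpt, W, hu₁W, hPW⟩ := H (Points.ofPt a u)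
    obtain ⟨u₁', hu₁'⟩ : ∃ u₁' : ↥(overOpen U₁ W).left, W.ι u₁' = u₁ := by
      have : u₁ ∈ Set.range W.ι := by rw [Scheme.Opens.range_ι]; exact hu₁W
      exact this
    refine ⟨overOpen U₁ W, V₁, (yon S).map (overOpenι U₁ W) ≫ a₁, b₁, overOpenι U₁ W ≫ h₁, u₁',
      repWith_etale_restrict a₁ ha₁ W, hb₁, ?_, ?_, hPW⟩
    · rw [Category.assoc, hab₁, Functor.map_comp, Category.assoc]
    · rw [ofPt_restrict, hu₁']; exact hpt

end Groth.Agent.S9994
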