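import Groth.Statements.S9995
import Groth.Agent.Lib.Helper16.FibrePt
import Groth.Agent.Lib.Helper16.QuasiCompactMor
open Groth.Agent.Lib.Helper16 Groth.Agent.Lib.Helper16.DimZero

set_option autoImplicit false
universe u
open CategoryTheory CategoryTheory.Limits AlgebraicGeometry
open AlgSp

namespace Groth.Agent.S9995

/-- For a morphism f : X ⟶ Y of algebraic spaces of finite type and a point y of |Y|, the set of points
of |X| over y where f is quasi-finite is finite (in the neighbourhood sense, through some chart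
diagram). -/
theorem result {S : Scheme.{u}} {X Y : AlgSp.Space S} (f : X ⟶ Y)
    (hf : AlgSp.IsFiniteTypeMor f.hom) (y : AlgSp.Points Y.obj) :
    {x : AlgSp.Points X.obj | AlgSp.Points.map f.hom x = y ∧
      AlgSp.HasAtMor (fun U _ h u => ∃ W : U.Opens, u ∈ W ∧ LocallyQuasiFinite (W.ι ≫ h) ∧
        LocallyOfFiniteType (W.ι ≫ h)) f.hom x}.Finite := by
  obtain ⟨r, rfl⟩ := AlgSp.Points.mk_surjective y
  have hX := X.property
  have hY := Y.property
  have sq := IsPullback.of_hasPullback f.hom r.toHom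
  have hXk : AlgSp.IsAlgSpace (pullback f.hom r.toHom) :=
    isAlgSpace_of_isPullback hX hY.diag (AlgSp.IsAlgSpace.yon_obj _) sq
  have hch := FibrePt.chartsNJ_fibre hX hY f.hom hf.1 r _ _ sq
  have hcpt : CompactSpace ↥(r.pt).left := inferInstanceAs (CompactSpace ↥(Spec (.of r.K)))
  have hqc : AlgSp.IsQuasiCompactSp (pullback f.hom r.toHom) :=
    hf.2 (AlgSp.IsAlgSpace.yon_obj _) (isQuasiCompactSp_yon_of_compactSpace r.pt) r.toHom _ _ sq
  refine ((FibrePt.finite_isolated_of_quasiCompact hch hXk hqc).image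
    (AlgSp.Points.map (pullback.fst f.hom r.toHom))).subset ?_
  rintro x ⟨hx, hq⟩
  have hxq : x ∈ QfAt.qfLocus f.hom := (QfAt.mem_qfLocus_iff_hasAtMor_open f.hom hf.1 x).2 hq
  obtain ⟨xt, rfl⟩ := (FibrePt.range_map_fst f.hom r _ _ sq).ge hx
  exact ⟨xt, (FibrePt.isOpen_singleton_iff_mem_qfLocus hX hY f.hom hf.1 r _ _ sq hXk xt).2 hxq, rfl⟩

end Groth.Agent.S9995
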