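import Groth.Statements.S9997
import Groth.Agent.Lib.Helper16.LocPGen
import Groth.Agent.Lib.Helper16.QuasiCompactMor

set_option autoImplicit false
universe u
open CategoryTheory CategoryTheory.Limits AlgebraicGeometry Opposite
open AlgSp

namespace Groth.Agent.S9997


open Groth.Agent.Lib.Helper16

theorem ker_fg_of_fp {A B : Type u} [CommRing A] [CommRing B] (f : A →+* B) (hs : Function.Surjective f)
    (hf : f.FinitePresentation) : (RingHom.ker f).FG := by
  algebraize [f]
  have h := Algebra.FinitePresentation.ker_fG_of_surjective (Algebra.ofId A B) hs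
  exact h

theorem ker_fg_of_lfp {P V : Scheme.{u}} (π : P ⟶ V) [IsAffine V] [IsClosedImmersion π]
    [LocallyOfFinitePresentation π] : (RingHom.ker π.appTop.hom).FG := by
  obtain ⟨h₁, h₂⟩ := IsClosedImmersion.isAffine_surjective_of_isAffine π
  haveI := h₁
  have hfp : RingHom.FinitePresentation π.appTop.hom :=
    (HasRingHomProperty.iff_of_isAffine (P := @LocallyOfFinitePresentation)).mp inferInstance
  exact ker_fg_of_fp _ h₂ hfp

theorem lfp_of_ker_fg {P V : Scheme.{u}} (π : P ⟶ V) [IsAffine V] [IsClosedImmersion π]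
    (h : (RingHom.ker π.appTop.hom).FG) : LocallyOfFinitePresentation π := by
  obtain ⟨h₁, h₂⟩ := IsClosedImmersion.isAffine_surjective_of_isAffine π
  haveI := h₁
  exact (HasRingHomProperty.iff_of_isAffine (P := @LocallyOfFinitePresentation)).mpr
    (RingHom.FinitePresentation.of_surjective _ h₂ h)

theorem exists_iso_of_isPullback {S : Scheme.{u}} {Z X : Sp S} {f : Z ⟶ X} {P₁ P₂ W : Over S}
    {c : (yon S).obj W ⟶ X} {a₁ : (yon S).obj P₁ ⟶ Z} {a₂ : (yon S).obj P₂ ⟶ Z} {π₁ : P₁ ⟶ W} {π₂ : P₂ ⟶ W}
    (sq₁ : IsPullback a₁ ((yon S).map π₁) f c) (sq₂ : IsPullback a₂ ((yon S).map π₂) f c) :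
    ∃ e : P₁ ≅ P₂, e.hom ≫ π₂ = π₁ := by
  refine ⟨(yon S).preimageIso (sq₁.isoIsPullback _ _ sq₂), ?_⟩
  apply (yon S).map_injective
  rw [Functor.map_comp, Functor.preimageIso_hom, Functor.map_preimage]
  exact sq₁.isoIsPullback_hom_snd _ _ sq₂

theorem lfp_of_forall_affine {P V : Scheme.{u}} (h : P ⟶ V)
    (H : ∀ W : V.affineOpens, LocallyOfFinitePresentation (h ∣_ W.1)) : LocallyOfFinitePresentation h :=
  IsZariskiLocalAtTarget.of_iSup_eq_top (P := @LocallyOfFinitePresentation) (fun W : V.affineOpens => W.1)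
    (iSup_affineOpens_eq_top V) H


/-- A closed immersion i : Z ⟶ X of algebraic spaces is (locally) of finite presentation if and only if
its sheaf of ideals is of finite type; finite type is rendered chart by chart, as finite generation
of the kernel ideal Ker(Γ(U, O_U) → Γ(Z ×_X U, O)) for every affine etale chart U of X (for a
quasi-coherent sheaf of ideals the two readings agree by descent of finite generation along etale
coverings). -/
theorem result {S : Scheme.{u}} {Z X : AlgSp.Space S} (i : Z ⟶ X)
    (hi : AlgSp.RepWith @IsClosedImmersion i.hom) :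
    AlgSp.LocP @LocallyOfFinitePresentation i.hom ↔
      ∀ (E : AlgSp.EtOver X.obj) (hE : IsAffine E.obj.left.left), ((AlgSp.idealOfRep hi.1).ideal E hE).FG := by
  constructor
  · intro hL E hE
    have hR : RepWith @LocallyOfFinitePresentation i.hom :=
      (locP_iff_repWith etLocalST_locallyOfFinitePresentation Z.property X.property i.hom hi.1).1 hL
    haveI hci : IsClosedImmersion (EtOver.bcπ hi.1 E).left := hi.2 _ _ _ (hi.1.isPullback E.obj.hom)
    haveI hlfp : LocallyOfFinitePresentation (EtOver.bcπ hi.1 E).left :=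
      hR.2 _ _ _ (hi.1.isPullback E.obj.hom)
    haveI := hE
    exact ker_fg_of_lfp (EtOver.bcπ hi.1 E).left
  · intro hFG
    obtain ⟨V, b, hbe, hbs⟩ := X.property.atlas
    have sq := hi.1.isPullback b
    haveI hci : IsClosedImmersion (hi.1.snd b).left := hi.2 _ _ _ sq
    refine locP_of_chart etLocalST_locallyOfFinitePresentation i.hom (hi.1.fst b) b (hi.1.snd b)
      ((RepWith @Etale).of_isPullback sq.flip hbe) ((RepWith @Surjective).of_isPullback sq.flip hbs) hbe sq.w ?_
    apply lfp_of_forall_affine
    intro W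
    let EW : EtOver X.obj := EtOver.mk ((yon S).map (overOpenι V W.1) ≫ b) (repWith_etale_restrict b hbe W.1)
    haveI hEW : IsAffine EW.obj.left.left := W.2
    have sq2 := hi.1.isPullback EW.obj.hom
    haveI hci2 : IsClosedImmersion (EtOver.bcπ hi.1 EW).left := hi.2 _ _ _ sq2
    haveI hlfp2 : LocallyOfFinitePresentation (EtOver.bcπ hi.1 EW).left :=
      lfp_of_ker_fg _ (hFG EW hEW)
    have sqO := ((isPullback_overRestrict (hi.1.snd b) W.1).map (yon S)).flip
    have sq1 := sqO.paste_horiz sq
    obtain ⟨e, he⟩ := exists_iso_of_isPullback sq1 sq2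
    have he' : (hi.1.snd b).left ∣_ W.1 = e.hom.left ≫ (EtOver.bcπ hi.1 EW).left := by
      exact (congrArg CommaMorphism.left he).symm
    rw [he']
    haveI : IsIso e.hom.left := inferInstanceAs (IsIso ((Over.forget S).map e.hom))
    exact (MorphismProperty.cancel_left_of_respectsIso @LocallyOfFinitePresentation e.hom.left _).2 hlfp2
end Groth.Agent.S9997
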